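import Mathlib

/-! On an integral scheme, an element of the function field lying in every stalk is a global
section (helper22). -/

open CategoryTheory AlgebraicGeometry TopologicalSpace Opposite

universe u

namespace Helper22

instance topNonempty (X : Scheme.{u}) [IsIntegral X] : Nonempty ((⊤ : X.Opens) : Type u) :=
  ⟨⟨(inferInstance : Nonempty X).some, trivial⟩⟩

theorem exists_section_of_forall_mem_stalk (X : Scheme.{u}) [IsIntegral X] (k : X.functionField)
    (hk : ∀ p : X, ∃ g : X.presheaf.stalk p, algebraMap (X.presheaf.stalk p) X.functionField g = k) :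
    ∃ s : Γ(X, ⊤), X.germToFunctionField ⊤ s = k := by
  classical
  -- local sections
  have hloc : ∀ p : X, ∃ (U : X.Opens) (hp : p ∈ U) (s : Γ(X, U)),
      algebraMap (X.presheaf.stalk p) X.functionField (X.presheaf.germ U p hp s) = k := by
    intro p
    obtain ⟨g, hg⟩ := hk p
    obtain ⟨U, hp, s, hs⟩ := X.presheaf.exists_germ_eq g
    exact ⟨U, hp, s, by rw [hs, hg]⟩
  choose U hpU sf hsf using hloc
  have hne : ∀ p, Nonempty (U p) := fun p => ⟨⟨p, hpU p⟩⟩
  have hsf' : ∀ p, X.germToFunctionField (U p) (sf p) = k := by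
    intro p
    rw [← Scheme.algebraMap_germ_eq_germToFunctionField X (hpU p) (sf p)]
    exact hsf p
  -- generic point lies in every nonempty open
  have hgen : ∀ V : X.Opens, Nonempty V → genericPoint X ∈ V := by
    intro V hV
    exact ((genericPoint_spec X).mem_open_set_iff V.isOpen).mpr (by simpa using hV)
  have hcompat : TopCat.Presheaf.IsCompatible X.presheaf U sf := by
    intro p q
    have hne' : Nonempty (U p ⊓ U q : X.Opens) :=
      ⟨⟨genericPoint X, hgen _ (hne p), hgen _ (hne q)⟩⟩
    apply X.germToFunctionField_injective (U p ⊓ U q)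
    have h1 : X.germToFunctionField (U p ⊓ U q) (X.presheaf.map (Opens.infLELeft (U p) (U q)).op (sf p)) =
        X.germToFunctionField (U p) (sf p) :=
      X.presheaf.germ_res_apply (Opens.infLELeft (U p) (U q)) (genericPoint X) _ (sf p)
    have h2 : X.germToFunctionField (U p ⊓ U q) (X.presheaf.map (Opens.infLERight (U p) (U q)).op (sf q)) =
        X.germToFunctionField (U q) (sf q) :=
      X.presheaf.germ_res_apply (Opens.infLERight (U p) (U q)) (genericPoint X) _ (sf q)
    rw [h1, h2, hsf', hsf']
  have hcover : (⊤ : X.Opens) ≤ iSup U := by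
    intro p _
    exact Opens.mem_iSup.2 ⟨p, hpU p⟩
  obtain ⟨s, hs, -⟩ := X.sheaf.existsUnique_gluing' U ⊤ (fun p => homOfLE le_top) hcover sf hcompat
  refine ⟨s, ?_⟩
  obtain ⟨p⟩ : Nonempty X := inferInstance
  have h3 : X.germToFunctionField (U p) (X.presheaf.map (homOfLE (le_top : U p ≤ ⊤)).op s) =
      X.germToFunctionField ⊤ s :=
    X.presheaf.germ_res_apply (homOfLE (le_top : U p ≤ ⊤)) (genericPoint X) _ s
  rw [← h3]
  have := hs p
  change X.presheaf.map (homOfLE (le_top : U p ≤ ⊤)).op s = sf p at this
  rw [this, hsf']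

end Helper22
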