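import Mathlib
import Groth.Prelude.Def_Curv2
import Groth.Prelude.Def_Pi1
import Groth.Agent.Lib.Helper24.Cat.NormalComponents

/-!
# Connected + locally domain + Noetherian ⇒ irreducible (helper22)
-/

set_option autoImplicit false
set_option linter.style.haveILetI false
universe u
noncomputable section
namespace Groth.Agent.Lib.Helper22.NormalConnIrr

open CategoryTheory CategoryTheory.Limits AlgebraicGeometry

/-- A connected Noetherian scheme all of whose local rings are domains is irreducible. -/
theorem irreducibleSpace_of_connected_of_isDomain_stalk (X : Scheme.{u})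
    [TopologicalSpace.NoetherianSpace ↥X] [ConnectedSpace ↥X]
    (hdom : ∀ x : X, IsDomain (X.presheaf.stalk x)) : IrreducibleSpace ↥X := by
  have hfin : ∀ U : X.Opens, IsCompact (U : Set X) → (irreducibleComponents ↥U).Finite := by
    intro U _
    haveI : TopologicalSpace.NoetherianSpace ↥U :=
      inferInstanceAs (TopologicalSpace.NoetherianSpace ↥(U : Set ↥X))
    exact TopologicalSpace.NoetherianSpace.finite_irreducibleComponents
  obtain ⟨hopen, -⟩ := Groth.Agent.Lib.Helper24.NormalComponents.main X hfin hdom
  obtain ⟨x⟩ : Nonempty ↥X := inferInstance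
  obtain ⟨Z, hZ, hxZ⟩ := exists_mem_irreducibleComponents_subset_of_isIrreducible
    ({x} : Set ↥X) isIrreducible_singleton
  have hclopen : IsClopen Z := ⟨isClosed_of_mem_irreducibleComponents Z hZ, hopen Z hZ⟩
  have huniv : Z = Set.univ := hclopen.eq_univ ⟨x, hxZ rfl⟩
  have h3 : IsIrreducible (Set.univ : Set ↥X) := huniv ▸ hZ.1
  exact (irreducibleSpace_def _).mpr h3

end Groth.Agent.Lib.Helper22.NormalConnIrr
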