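import Mathlib

set_option autoImplicit false
set_option linter.style.haveILetI false
universe u
noncomputable section
namespace Groth.Agent.Lib.Helper22.N2PI

open IntermediateField

/-- In a finite normal extension `N/K`, the fixed field of `Aut(N/K)` is purely inseparable
over `K`. -/
theorem isPurelyInseparable_fixedField_top {K N : Type u} [Field K] [Field N] [Algebra K N]
    [Normal K N] :
    IsPurelyInseparable K (fixedField (⊤ : Subgroup (N ≃ₐ[K] N))) := by
  classical
  rw [← le_perfectClosure_iff]
  intro x hx
  rw [mem_perfectClosure_iff_natSepDegree_eq_one]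
  have hsplits : ((minpoly K x).map (algebraMap K N)).Splits := Normal.splits inferInstance x
  rw [Polynomial.natSepDegree_eq_of_splits _ hsplits]
  have hint : IsIntegral K x := Normal.isIntegral inferInstance x
  have : ((minpoly K x).aroots N).toFinset = {x} := by
    ext y
    simp only [Multiset.mem_toFinset, Finset.mem_singleton]
    rw [Polynomial.mem_aroots]
    constructor
    · rintro ⟨_, hy⟩
      have hmin : minpoly K y = minpoly K x := by
        symm
        exact minpoly.eq_of_irreducible_of_monic (minpoly.irreducible hint) hy (minpoly.monic hint)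
      obtain ⟨σ, hσ⟩ := (Normal.minpoly_eq_iff_mem_orbit N).mp hmin
      have hfix : σ x = x := (mem_fixedField_iff _ x).mp hx σ (Subgroup.mem_top σ)
      rw [← hσ]
      exact hfix
    · rintro rfl
      exact ⟨minpoly.ne_zero hint, minpoly.aeval K y⟩
  rw [this, Finset.card_singleton]

theorem exists_normal_tower {K L : Type u} [Field K] [Field L] [Algebra K L]
    [FiniteDimensional K L] :
    ∃ (N : Type u) (_ : Field N) (_ : Algebra K N) (_ : L →ₐ[K] N) (K' : IntermediateField K N),
      FiniteDimensional K N ∧ IsPurelyInseparable K K' ∧ Algebra.IsSeparable K' N := by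
  classical
  let Ω := AlgebraicClosure L
  let N := normalClosure K L Ω
  haveI : Normal K N := normalClosure.normal K L Ω
  haveI : FiniteDimensional K N := normalClosure.is_finiteDimensional K L Ω
  let φ : L →ₐ[K] N := IsScalarTower.toAlgHom K L N
  haveI : Finite (N ≃ₐ[K] N) := inferInstance
  haveI hG : IsGalois (fixedField (⊤ : Subgroup (N ≃ₐ[K] N))) N :=
    IsGalois.of_fixed_field N (⊤ : Subgroup (N ≃ₐ[K] N))
  exact ⟨N, inferInstance, inferInstance, φ, fixedField (⊤ : Subgroup (N ≃ₐ[K] N)),
    inferInstance, isPurelyInseparable_fixedField_top, inferInstance⟩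

theorem finite_integralClosure_of_tower (A : Type u) [CommRing A] [IsDomain A] [IsNoetherianRing A]
    (K K' N : Type u) [Field K] [Field K'] [Field N]
    [Algebra A K] [IsFractionRing A K]
    [Algebra K K'] [Algebra K' N] [Algebra K N] [IsScalarTower K K' N]
    [Algebra A K'] [IsScalarTower A K K'] [Algebra A N] [IsScalarTower A K N]
    [IsScalarTower A K' N]
    [FiniteDimensional K K'] [FiniteDimensional K' N] [Algebra.IsSeparable K' N]
    (hK' : Module.Finite A (integralClosure A K')) :
    Module.Finite A (integralClosure A N) := by
  let A' := integralClosure A K'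
  haveI : Module.Finite A A' := hK'
  haveI : IsNoetherianRing A' := IsNoetherianRing.of_finite A A'
  haveI : IsIntegrallyClosed A' := integralClosure.isIntegrallyClosedOfFiniteExtension K
  haveI : IsFractionRing A' K' := integralClosure.isFractionRing_of_finite_extension K K'
  haveI : IsScalarTower A A' N := IsScalarTower.of_algebraMap_eq (fun x => by
    rw [IsScalarTower.algebraMap_apply A K' N]; rfl)
  haveI : IsScalarTower A' K' N := inferInstance
  let C := integralClosure A' N
  haveI : Module.Finite A' C := IsIntegralClosure.finite A' K' N C
  haveI : IsScalarTower A A' C := IsScalarTower.of_algebraMap_eq (fun x => by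
    apply Subtype.ext
    change algebraMap A N x = algebraMap K' N (algebraMap A K' x)
    exact IsScalarTower.algebraMap_apply A K' N x)
  haveI : Module.Finite A C := Module.Finite.trans A' C
  haveI : IsNoetherian A C := isNoetherian_of_isNoetherianRing_of_finite A C
  have hle : ∀ x ∈ integralClosure A N, x ∈ C := fun x hx =>
    (IsIntegral.tower_top (A := A') hx : IsIntegral A' x)
  let g : integralClosure A N →ₗ[A] C :=
    { toFun := fun x => ⟨x.1, hle x.1 x.2⟩
      map_add' := fun x y => rfl
      map_smul' := fun a x => by
        apply Subtype.ext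
        change (a • x : integralClosure A N).1 = (a • (⟨x.1, hle x.1 x.2⟩ : C) : C).1
        rw [Algebra.smul_def, Algebra.smul_def]
        rfl }
  have hg : Function.Injective g := by
    intro x y hxy
    apply Subtype.ext
    exact congrArg (fun z : C => z.1) hxy
  exact Module.Finite.of_injective g hg

end Groth.Agent.Lib.Helper22.N2PI
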