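import Mathlib
import Groth.Agent.S9627

set_option autoImplicit false
set_option linter.unusedSectionVars false
set_option linter.style.haveILetI false
universe u
noncomputable section
namespace Groth.Agent.Lib.Helper22.GeomIrr

open TensorProduct

/-- evaluation at a maximal ideal of a f.g. algebra over an algebraically closed field -/
theorem exists_algHom_ker_eq {k A : Type*} [Field k] [IsAlgClosed k] [CommRing A] [Algebra k A]
    [Algebra.FiniteType k A] (m : Ideal A) [hm : m.IsMaximal] :
    ∃ ψ : A →ₐ[k] k, ∀ a, ψ a = 0 ↔ a ∈ m := by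
  letI := Ideal.Quotient.field m
  haveI : Module.Finite k (A ⧸ m) := finite_of_finite_type_of_isJacobsonRing k (A ⧸ m)
  haveI : Algebra.IsIntegral k (A ⧸ m) := Algebra.IsIntegral.of_finite k (A ⧸ m)
  have hb : Function.Bijective (algebraMap k (A ⧸ m)) :=
    IsAlgClosed.algebraMap_bijective_of_isIntegral
  let e : k ≃ₐ[k] (A ⧸ m) := AlgEquiv.ofBijective (Algebra.ofId k (A ⧸ m)) hb
  refine ⟨(e.symm : (A ⧸ m) →ₐ[k] k).comp (Ideal.Quotient.mkₐ k m), ?_⟩
  intro a
  show e.symm (Ideal.Quotient.mk m a) = 0 ↔ a ∈ m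
  rw [EmbeddingLike.map_eq_zero_iff, Ideal.Quotient.eq_zero_iff_mem]

/-- finitely generated case -/
theorem mul_eq_zero_of_finiteType {k A B : Type*} [Field k] [IsAlgClosed k]
    [CommRing A] [IsDomain A] [Algebra k A] [Algebra.FiniteType k A]
    [CommRing B] [IsDomain B] [Algebra k B] (x y : A ⊗[k] B) (hxy : x * y = 0) :
    x = 0 ∨ y = 0 := by
  classical
  by_contra hne
  push Not at hne
  obtain ⟨hx, hy⟩ := hne
  let 𝒞 := Module.Basis.ofVectorSpace k B
  obtain ⟨c, hc⟩ := TensorProduct.eq_repr_basis_right 𝒞 x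
  obtain ⟨d, hd⟩ := TensorProduct.eq_repr_basis_right 𝒞 y
  have hc0 : c ≠ 0 := by
    rintro rfl
    exact hx (by rw [← hc]; simp)
  have hd0 : d ≠ 0 := by
    rintro rfl
    exact hy (by rw [← hd]; simp)
  obtain ⟨i, hi⟩ := Finsupp.ne_iff.mp hc0
  obtain ⟨j, hj⟩ := Finsupp.ne_iff.mp hd0
  simp only [Finsupp.coe_zero, Pi.zero_apply] at hi hj
  have hne : c i * d j ≠ 0 := mul_ne_zero hi hj
  obtain ⟨m, hm, hnm⟩ : ∃ m : Ideal A, m.IsMaximal ∧ c i * d j ∉ m := by
    by_contra hcon
    push Not at hcon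
    have h1 : c i * d j ∈ (⊥ : Ideal A).jacobson := by
      rw [Ideal.jacobson, Ideal.mem_sInf]
      rintro J ⟨-, hJ⟩
      exact hcon J hJ
    have h2 : (⊥ : Ideal A).jacobson = ⊥ :=
      (isJacobsonRing_of_finiteType (A := k) (B := A)).out' ⊥ Ideal.isRadical_bot
    rw [h2, Ideal.mem_bot] at h1
    exact hne h1
  obtain ⟨ψ, hψ⟩ := exists_algHom_ker_eq (k := k) m
  let φ : A ⊗[k] B →ₐ[k] B :=
    Algebra.TensorProduct.lift ((Algebra.ofId k B).comp ψ) (AlgHom.id k B)
      (fun _ _ => Commute.all _ _)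
  have hφ : ∀ b : _ →₀ A, φ (b.sum fun i a => a ⊗ₜ 𝒞 i) =
      Finsupp.linearCombination k 𝒞 (b.mapRange ψ (map_zero ψ)) := by
    intro b
    rw [Finsupp.linearCombination_apply, Finsupp.sum_mapRange_index (by intro; rw [zero_smul]),
      Finsupp.sum, map_sum]
    refine Finset.sum_congr rfl ?_
    intro l _
    simp [φ, Algebra.ofId_apply, Algebra.smul_def]
  have key : ∀ b : _ →₀ A, φ (b.sum fun i a => a ⊗ₜ 𝒞 i) = 0 → ∀ l, b l ∈ m := by
    intro b hb l
    rw [hφ] at hb
    have := linearIndependent_iff.mp 𝒞.linearIndependent _ hb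
    have h2 := DFunLike.congr_fun this l
    simp only [Finsupp.mapRange_apply, Finsupp.coe_zero, Pi.zero_apply] at h2
    exact (hψ _).mp h2
  have h0 : φ x * φ y = 0 := by rw [← map_mul, hxy, map_zero]
  rcases mul_eq_zero.mp h0 with h | h
  · rw [← hc] at h
    exact hnm (m.mul_mem_right _ (key c h i))
  · rw [← hd] at h
    exact hnm (m.mul_mem_left _ (key d h j))

/-- **Tensor product of domains over an algebraically closed field has no zero divisors.** -/
theorem mul_eq_zero_tensor {k A B : Type*} [Field k] [IsAlgClosed k]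
    [CommRing A] [IsDomain A] [Algebra k A] [CommRing B] [IsDomain B] [Algebra k B]
    (x y : A ⊗[k] B) (hxy : x * y = 0) : x = 0 ∨ y = 0 := by
  classical
  let 𝒞 := Module.Basis.ofVectorSpace k B
  obtain ⟨c, hc⟩ := TensorProduct.eq_repr_basis_right 𝒞 x
  obtain ⟨d, hd⟩ := TensorProduct.eq_repr_basis_right 𝒞 y
  let s : Finset A := c.support.image c ∪ d.support.image d
  let A' : Subalgebra k A := Algebra.adjoin k (s : Set A)
  haveI : Algebra.FiniteType k A' :=
    ⟨(Subalgebra.fg_top A').mpr (Subalgebra.fg_adjoin_finset s)⟩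
  have hcA : ∀ i ∈ c.support, c i ∈ A' := fun i hi =>
    Algebra.subset_adjoin (Finset.mem_coe.mpr (Finset.mem_union_left _
      (Finset.mem_image_of_mem c hi)))
  have hdA : ∀ i ∈ d.support, d i ∈ A' := fun i hi =>
    Algebra.subset_adjoin (Finset.mem_coe.mpr (Finset.mem_union_right _
      (Finset.mem_image_of_mem d hi)))
  let x' : A' ⊗[k] B := ∑ i ∈ c.support.attach, (⟨c i.1, hcA i.1 i.2⟩ : A') ⊗ₜ[k] 𝒞 i.1
  let y' : A' ⊗[k] B := ∑ i ∈ d.support.attach, (⟨d i.1, hdA i.1 i.2⟩ : A') ⊗ₜ[k] 𝒞 i.1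
  let ι : A' ⊗[k] B →ₐ[k] A ⊗[k] B := Algebra.TensorProduct.map A'.val (AlgHom.id k B)
  have hι : Function.Injective ι := by
    have : Function.Injective (A'.val.toLinearMap.rTensor B) :=
      Module.Flat.rTensor_preserves_injective_linearMap _ Subtype.val_injective
    exact this
  have hx' : ι x' = x := by
    rw [← hc, Finsupp.sum]
    simp only [x', map_sum, ι, Algebra.TensorProduct.map_tmul, Subalgebra.coe_val,
      AlgHom.coe_id, id_eq]
    exact Finset.sum_attach c.support (fun i => c i ⊗ₜ[k] 𝒞 i)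
  have hy' : ι y' = y := by
    rw [← hd, Finsupp.sum]
    simp only [y', map_sum, ι, Algebra.TensorProduct.map_tmul, Subalgebra.coe_val,
      AlgHom.coe_id, id_eq]
    exact Finset.sum_attach d.support (fun i => d i ⊗ₜ[k] 𝒞 i)
  have h0 : x' * y' = 0 := hι (by rw [map_mul, hx', hy', hxy, map_zero])
  rcases mul_eq_zero_of_finiteType x' y' h0 with h | h
  · left; rw [← hx', h, map_zero]
  · right; rw [← hy', h, map_zero]

theorem isDomain_tensor {k A B : Type*} [Field k] [IsAlgClosed k]
    [CommRing A] [IsDomain A] [Algebra k A] [CommRing B] [IsDomain B] [Algebra k B] :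
    IsDomain (A ⊗[k] B) := by
  haveI : Nontrivial (A ⊗[k] B) :=
    (Algebra.TensorProduct.includeLeft_injective (S := A) (R := k)
      (algebraMap k B).injective).nontrivial
  haveI : NoZeroDivisors (A ⊗[k] B) := ⟨fun {x y} h => mul_eq_zero_tensor x y h⟩
  exact NoZeroDivisors.to_isDomain _

open Groth.Agent.S9627 in
/-- tensor product of algebras with irreducible spectra over an alg. closed field -/
theorem irreducible_tensor_of_isAlgClosed {k A B : Type u} [Field k] [IsAlgClosed k]
    [CommRing A] [Algebra k A] [CommRing B] [Algebra k B]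
    [hA : IrreducibleSpace (PrimeSpectrum A)] [hB : IrreducibleSpace (PrimeSpectrum B)] :
    IrreducibleSpace (PrimeSpectrum (A ⊗[k] B)) := by
  have hNA : (nilradical A).IsPrime := PrimeSpectrum.irreducibleSpace_iff_isPrime_nilradical.mp hA
  have hNB : (nilradical B).IsPrime := PrimeSpectrum.irreducibleSpace_iff_isPrime_nilradical.mp hB
  haveI : IsDomain (A ⧸ nilradical A) := Ideal.Quotient.isDomain _
  haveI : IsDomain (B ⧸ nilradical B) := Ideal.Quotient.isDomain _
  haveI : IsDomain ((A ⧸ nilradical A) ⊗[k] (B ⧸ nilradical B)) := isDomain_tensor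
  have h1 : IrreducibleSpace (PrimeSpectrum ((A ⧸ nilradical A) ⊗[k] (B ⧸ nilradical B))) :=
    inferInstance
  have h2 : IrreducibleSpace (PrimeSpectrum ((A ⧸ nilradical A) ⊗[k] B)) :=
    irr_of_ker_le _ (ker_le_nilradical (K := k) (S := A ⧸ nilradical A) (nilradical B) le_rfl)
  have h3 : IrreducibleSpace (PrimeSpectrum (B ⊗[k] (A ⧸ nilradical A))) :=
    irr_of_equiv (Algebra.TensorProduct.comm k B (A ⧸ nilradical A)).toRingEquiv
  have h4 : IrreducibleSpace (PrimeSpectrum (B ⊗[k] A)) :=
    irr_of_ker_le _ (ker_le_nilradical (K := k) (S := B) (nilradical A) le_rfl)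
  exact irr_of_equiv (Algebra.TensorProduct.comm k A B).toRingEquiv

/-- over an algebraically closed field, irreducible implies geometrically irreducible -/
theorem geomIrr_of_isAlgClosed {k S : Type u} [Field k] [IsAlgClosed k]
    [CommRing S] [Algebra k S] [IrreducibleSpace (PrimeSpectrum S)]
    (k' : Type u) [Field k'] [Algebra k k'] :
    IrreducibleSpace (PrimeSpectrum (k' ⊗[k] S)) :=
  irreducible_tensor_of_isAlgClosed

open Groth.Agent.S9627 in
/-- over a separably closed field, irreducible implies geometrically irreducible -/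
theorem geomIrr_of_isSepClosed {k S : Type u} [Field k] [IsSepClosed k]
    [CommRing S] [Algebra k S] [hS : IrreducibleSpace (PrimeSpectrum S)]
    (k' : Type u) [Field k'] [Algebra k k'] :
    IrreducibleSpace (PrimeSpectrum (k' ⊗[k] S)) := by
  let K := AlgebraicClosure k
  haveI : IsPurelyInseparable k K := inferInstance
  -- Spec (S ⊗ K) ≅ Spec S
  have e1 := (PrimeSpectrum.isHomeomorph_comap_of_isPurelyInseparable k K S).homeomorph
  have h1 : IrreducibleSpace (PrimeSpectrum (S ⊗[k] K)) := e1.irreducibleSpace_iff.mpr hS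
  have h2 : IrreducibleSpace (PrimeSpectrum (K ⊗[k] S)) :=
    irr_of_equiv (Algebra.TensorProduct.comm k K S).toRingEquiv
  have hK : ∀ (k'' : Type u) [Field k''] [Algebra k k''],
      IrreducibleSpace (PrimeSpectrum (k'' ⊗[k] K)) := by
    intro k'' _ _
    have e2 := (PrimeSpectrum.isHomeomorph_comap_of_isPurelyInseparable k K k'').homeomorph
    exact e2.irreducibleSpace_iff.mpr inferInstance
  have hSK : ∀ (K' : Type u) [Field K'] [Algebra K K'],
      IrreducibleSpace (PrimeSpectrum (K' ⊗[K] (K ⊗[k] S))) := by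
    intro K' _ _
    exact geomIrr_of_isAlgClosed K'
  have h3 := main (k := k) (K := K) (S := K ⊗[k] S) hK hSK k'
  let f : k' ⊗[k] S →ₐ[k] k' ⊗[k] (K ⊗[k] S) :=
    Algebra.TensorProduct.map (AlgHom.id k k') Algebra.TensorProduct.includeRight
  have hf : Function.Injective f := by
    have : Function.Injective
        ((Algebra.TensorProduct.includeRight : S →ₐ[k] K ⊗[k] S).toLinearMap.lTensor k') :=
      Module.Flat.lTensor_preserves_injective_linearMap _
        (Algebra.TensorProduct.includeRight_injective (algebraMap k K).injective)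
    exact this
  exact irr_of_injective f.toRingHom hf

end Groth.Agent.Lib.Helper22.GeomIrr
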