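import Mathlib
import Groth.Agent.Lib.Helper22.GeomIrr

/-!
# Reducedness and field extensions (helper22)

* `eq_zero_of_forall_prime`: coordinates trick for `R ⊗ L`, `R` reduced.
* `isReduced_field_tensor_of_isSeparable`, `isReduced_tensor_of_isSeparable`: separable algebraic base change keeps reducedness.
* `isReduced_tensor_of_forall_field`.
* `isGeometricallyReduced_of_perfectField`: reduced over a perfect field ⇒ geometrically reduced.
* `isReduced_tensor_of_isGeometricallyReduced`: geometrically reduced ⇒ reduced after any field extension.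
* `isReduced_tensor_of_perfectField`: reduced ⊗ reduced is reduced over a perfect field.
-/

set_option autoImplicit false
set_option linter.style.haveILetI false
universe u
noncomputable section
namespace Groth.Agent.Lib.Helper22.GeomRed

open TensorProduct

/-- Coordinates trick: if `z ∈ R ⊗ L` dies in `(R/p) ⊗ L` for every prime `p` of a reduced ring
`R` (with `L` a vector space over the field `k`), then `z = 0`. -/
theorem eq_zero_of_forall_prime {k R L : Type*} [Field k] [CommRing R] [Algebra k R]
    [AddCommGroup L] [Module k L] [IsReduced R] (z : R ⊗[k] L)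
    (h : ∀ p : Ideal R, p.IsPrime →
      (LinearMap.rTensor L (Ideal.Quotient.mkₐ k p).toLinearMap) z = 0) : z = 0 := by
  classical
  let b := Module.Basis.ofVectorSpace k L
  let B := Algebra.TensorProduct.basis R b
  have key : ∀ (p : Ideal R) (w : R ⊗[k] L) (i),
      (Algebra.TensorProduct.basis (R ⧸ p) b).repr
        ((LinearMap.rTensor L (Ideal.Quotient.mkₐ k p).toLinearMap) w) i
        = Ideal.Quotient.mk p (B.repr w i) := by
    intro p w i
    induction w using TensorProduct.induction_on with
    | zero => simp
    | tmul a m =>
      rw [LinearMap.rTensor_tmul, Algebra.TensorProduct.basis_repr_tmul,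
        Algebra.TensorProduct.basis_repr_tmul]
      simp only [AlgHom.toLinearMap_apply, Ideal.Quotient.mkₐ_eq_mk, Finsupp.smul_apply,
        Finsupp.mapRange_apply, smul_eq_mul, map_mul]
      rfl
    | add x y hx hy =>
      simp only [map_add, Finsupp.add_apply, hx, hy]
  have hz : ∀ i, B.repr z i = 0 := by
    intro i
    have hmem : B.repr z i ∈ nilradical R := by
      rw [nilradical_eq_sInf, Ideal.mem_sInf]
      intro p hp
      have := key p z i
      rw [h p hp] at this
      simp only [map_zero, Finsupp.zero_apply] at this
      exact Ideal.Quotient.eq_zero_iff_mem.mp this.symm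
    rw [nilradical_eq_zero] at hmem
    exact hmem
  have : B.repr z = 0 := Finsupp.ext hz
  simpa using this


/-- For a separable algebraic field extension `L/k` and any field `κ/k`, `κ ⊗ L` is reduced. -/
theorem isReduced_field_tensor_of_isSeparable {k κ L : Type*} [Field k] [Field κ] [Field L]
    [Algebra k κ] [Algebra k L] [Algebra.IsSeparable k L] : IsReduced (κ ⊗[k] L) := by
  haveI : Algebra.IsAlgebraic k L := Algebra.IsSeparable.isAlgebraic k L
  apply IsReduced.tensorProduct_of_flat_of_forall_fg
  intro B hB
  letI : Field B := (Subalgebra.isField_of_algebraic B).toField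
  haveI : Algebra.IsSeparable k B := Algebra.isSeparable_tower_bot_of_isSeparable k B L
  haveI : Algebra.FiniteType k B := (Subalgebra.fg_iff_finiteType B).mp hB
  haveI : Algebra.FormallyUnramified k B := Algebra.FormallyUnramified.of_isSeparable k B
  haveI : Algebra.FormallyUnramified κ (κ ⊗[k] B) := inferInstance
  haveI : Algebra.EssFiniteType κ (κ ⊗[k] B) := inferInstance
  exact Algebra.FormallyUnramified.isReduced_of_field κ (κ ⊗[k] B)


/-- If `L` stays reduced after tensoring with every field, then `R ⊗ L` is reduced for every
reduced `R`. -/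
theorem isReduced_tensor_of_forall_field {k R L : Type u} [Field k] [CommRing R] [Algebra k R]
    [CommRing L] [Algebra k L] [IsReduced R]
    (h : ∀ (κ : Type u) [Field κ] [Algebra k κ], IsReduced (κ ⊗[k] L)) : IsReduced (R ⊗[k] L) := by
  constructor
  intro z hz
  apply eq_zero_of_forall_prime z
  intro p hp
  -- the image in `(R/p) ⊗ L` is nilpotent, and that ring is reduced
  let f : R ⊗[k] L →ₐ[k] (R ⧸ p) ⊗[k] L :=
    Algebra.TensorProduct.map (Ideal.Quotient.mkₐ k p) (AlgHom.id k L)
  have hf : (LinearMap.rTensor L (Ideal.Quotient.mkₐ k p).toLinearMap) z = f z := rfl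
  rw [hf]
  haveI : IsDomain (R ⧸ p) := Ideal.Quotient.isDomain p
  haveI := h (FractionRing (R ⧸ p))
  let g : (R ⧸ p) ⊗[k] L →ₐ[k] (FractionRing (R ⧸ p)) ⊗[k] L :=
    Algebra.TensorProduct.map (IsScalarTower.toAlgHom k (R ⧸ p) (FractionRing (R ⧸ p)))
      (AlgHom.id k L)
  have hg : Function.Injective g :=
    Module.Flat.rTensor_preserves_injective_linearMap (M := L)
      (IsScalarTower.toAlgHom k (R ⧸ p) (FractionRing (R ⧸ p))).toLinearMap
      (IsFractionRing.injective (R ⧸ p) (FractionRing (R ⧸ p)))
  haveI : IsReduced ((R ⧸ p) ⊗[k] L) := isReduced_of_injective g hg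
  exact (hz.map f).eq_zero

/-- A reduced algebra stays reduced after a separable algebraic base field extension. -/
theorem isReduced_tensor_of_isSeparable {k R L : Type u} [Field k] [CommRing R] [Algebra k R]
    [Field L] [Algebra k L] [Algebra.IsSeparable k L] [IsReduced R] : IsReduced (R ⊗[k] L) :=
  isReduced_tensor_of_forall_field fun _ _ _ => isReduced_field_tensor_of_isSeparable

/-- Over a perfect field, reduced algebras are geometrically reduced. -/
theorem isGeometricallyReduced_of_perfectField {k R : Type u} [Field k] [PerfectField k]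
    [CommRing R] [Algebra k R] [IsReduced R] : Algebra.IsGeometricallyReduced k R := by
  rw [Algebra.isGeometricallyReduced_field_iff]
  haveI : Algebra.IsSeparable k (AlgebraicClosure k) := Algebra.IsAlgebraic.isSeparable_of_perfectField
  haveI : IsReduced (R ⊗[k] AlgebraicClosure k) := isReduced_tensor_of_isSeparable
  exact isReduced_of_injective (Algebra.TensorProduct.comm k (AlgebraicClosure k) R)
    (Algebra.TensorProduct.comm k (AlgebraicClosure k) R).injective

/-- A geometrically reduced algebra over a field stays reduced after every field extension. -/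
theorem isReduced_tensor_of_isGeometricallyReduced {k S K : Type u} [Field k] [CommRing S]
    [Algebra k S] [Algebra.IsGeometricallyReduced k S] [Field K] [Algebra k K] :
    IsReduced (K ⊗[k] S) := by
  let Ω := AlgebraicClosure K
  let kb := AlgebraicClosure k
  let φ : kb →ₐ[k] Ω := IsAlgClosed.lift
  letI : Algebra kb Ω := φ.toRingHom.toAlgebra
  haveI : IsScalarTower k kb Ω := IsScalarTower.of_algebraMap_eq (fun x => (φ.commutes x).symm)
  haveI : IsReduced (kb ⊗[k] S) := inferInstance
  -- `(kb ⊗ S) ⊗_kb Ω` is reduced
  haveI h1 : IsReduced ((kb ⊗[k] S) ⊗[kb] Ω) := by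
    apply isReduced_tensor_of_forall_field
    intro κ _ _
    haveI : IsDomain (κ ⊗[kb] Ω) := Groth.Agent.Lib.Helper22.GeomIrr.isDomain_tensor
    infer_instance
  haveI h2 : IsReduced (Ω ⊗[kb] (kb ⊗[k] S)) :=
    isReduced_of_injective (Algebra.TensorProduct.comm kb Ω (kb ⊗[k] S))
      (Algebra.TensorProduct.comm kb Ω (kb ⊗[k] S)).injective
  haveI h3 : IsReduced (Ω ⊗[k] S) :=
    isReduced_of_injective (Algebra.TensorProduct.cancelBaseChange k kb kb Ω S).symm
      (Algebra.TensorProduct.cancelBaseChange k kb kb Ω S).symm.injective
  let g : K ⊗[k] S →ₐ[k] Ω ⊗[k] S :=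
    Algebra.TensorProduct.map (IsScalarTower.toAlgHom k K Ω) (AlgHom.id k S)
  have hg : Function.Injective g :=
    Module.Flat.rTensor_preserves_injective_linearMap (M := S)
      (IsScalarTower.toAlgHom k K Ω).toLinearMap (algebraMap K Ω).injective
  exact isReduced_of_injective g hg

/-- Over a perfect field the tensor product of reduced algebras is reduced. -/
theorem isReduced_tensor_of_perfectField {k R S : Type u} [Field k] [PerfectField k]
    [CommRing R] [Algebra k R] [CommRing S] [Algebra k S] [IsReduced R] [IsReduced S] :
    IsReduced (R ⊗[k] S) := by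
  haveI : Algebra.IsGeometricallyReduced k S := isGeometricallyReduced_of_perfectField
  exact isReduced_tensor_of_forall_field fun κ _ _ => isReduced_tensor_of_isGeometricallyReduced

end Groth.Agent.Lib.Helper22.GeomRed
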