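import Mathlib
import Groth.Agent.Lib.Helper5.RegularProd
import Groth.Agent.S9409
import Groth.Agent.Lib.Helper22.GeomRed

/-!
Generic version (for an arbitrary isomorphism-invariant property `Q` of rings, tested on all
localizations at primes) of helper5's proofs of S9409/S9410 (geometric regularity and separable
algebraic base field extensions).  `LocP Q R` says all localizations of `R` at primes satisfy `Q`;
`GeomP Q k S` says `LocP Q (k' ⊗ S)` for all finite field extensions `k'/k`.
-/

set_option autoImplicit false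
set_option linter.style.haveILetI false
universe u
noncomputable section
namespace Groth.Agent.Lib.Helper22.GeomLoc

open TensorProduct

/-- All localizations at primes satisfy `Q`. -/
def LocP (Q : ∀ (R : Type u) [CommRing R], Prop) (R : Type u) [CommRing R] : Prop :=
  ∀ (p : Ideal R) [p.IsPrime], Q (Localization.AtPrime p)

/-- `LocP Q` holds after every finite extension of the base field. -/
def GeomP (Q : ∀ (R : Type u) [CommRing R], Prop) (k : Type u) [Field k] (S : Type u) [CommRing S]
    [Algebra k S] : Prop :=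
  ∀ (k' : Type u) [Field k'] [Algebra k k'], Module.Finite k k' → LocP Q (k' ⊗[k] S)

section
variable (Q : ∀ (R : Type u) [CommRing R], Prop)
  (hQ : ∀ (R S : Type u) [CommRing R] [CommRing S], (R ≃+* S) → Q R → Q S)

include hQ in
theorem LocP.of_isLocalization {R : Type u} [CommRing R] (M : Submonoid R)
    (S : Type u) [CommRing S] [Algebra R S] [IsLocalization M S] (h : LocP Q R) : LocP Q S := by
  intro P hP
  have h1 : IsLocalization.AtPrime (Localization.AtPrime P) (P.comap (algebraMap R S)) :=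
    IsLocalization.isLocalization_isLocalization_atPrime_isLocalization M
      (Localization.AtPrime P) P
  exact hQ _ _ (IsLocalization.algEquiv (P.comap (algebraMap R S)).primeCompl
      (Localization.AtPrime (P.comap (algebraMap R S))) (Localization.AtPrime P)).toRingEquiv
    (h (P.comap (algebraMap R S)))

include hQ in
theorem LocP.of_ringEquiv {R S : Type u} [CommRing R] [CommRing S] (e : R ≃+* S)
    (h : LocP Q R) : LocP Q S := by
  letI : Algebra R S := e.toRingHom.toAlgebra
  haveI : IsLocalization (⊥ : Submonoid R) S := by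
    apply IsLocalization.of_le_isUnit_of_bijective
    · rintro _ ⟨x, hx, rfl⟩
      rw [Submonoid.mem_bot.mp hx, map_one]
      exact isUnit_one
    · exact e.bijective
  exact LocP.of_isLocalization Q hQ (⊥ : Submonoid R) S h

section Pi

variable {ι : Type u} [Finite ι] [DecidableEq ι] (R : ι → Type u) [∀ i, CommRing (R i)]

include hQ in
theorem LocP.of_pi (h : LocP Q (∀ i, R i)) (j : ι) : LocP Q (R j) := by
  letI : Algebra (∀ i, R i) (R j) := (Pi.evalRingHom R j).toAlgebra
  haveI := Groth.Agent.Lib.Helper5.RegularProd.away_eval R j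
  exact LocP.of_isLocalization Q hQ (Submonoid.powers (Pi.single j 1 : ∀ i, R i)) (R j) h

include hQ in
theorem LocP.pi (h : ∀ i, LocP Q (R i)) : LocP Q (∀ i, R i) := by
  cases nonempty_fintype ι
  intro P hP
  have hex : ∃ j, (Pi.single j 1 : ∀ i, R i) ∉ P := by
    by_contra hcon
    push Not at hcon
    have h1 : (∑ j, Pi.single j ((1 : ∀ i, R i) j) : ∀ i, R i) ∈ P :=
      Ideal.sum_mem _ (fun j _ => hcon j)
    rw [Finset.univ_sum_single] at h1
    exact hP.ne_top ((Ideal.eq_top_iff_one _).2 h1)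
  obtain ⟨j, hj⟩ := hex
  letI : Algebra (∀ i, R i) (R j) := (Pi.evalRingHom R j).toAlgebra
  have hloc := Groth.Agent.Lib.Helper5.RegularProd.away_eval R j
  have hdisj : Disjoint (Submonoid.powers (Pi.single j 1 : ∀ i, R i) : Set (∀ i, R i))
      (P : Set _) := by
    rw [Set.disjoint_left]
    rintro x ⟨n, rfl⟩ hx
    exact hj (hP.mem_of_pow_mem n hx)
  let Pj : Ideal (R j) := P.map (algebraMap (∀ i, R i) (R j))
  have hPj : Pj.IsPrime :=
    IsLocalization.isPrime_of_isPrime_disjoint (Submonoid.powers (Pi.single j 1 : ∀ i, R i))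
      (R j) P hP hdisj
  have hunder : Pj.comap (algebraMap (∀ i, R i) (R j)) = P :=
    IsLocalization.under_map_of_isPrime_disjoint (Submonoid.powers (Pi.single j 1 : ∀ i, R i))
      (R j) hP hdisj
  have hreg : Q (Localization.AtPrime Pj) := h j Pj
  have h1 : IsLocalization.AtPrime (Localization.AtPrime Pj)
      (Pj.comap (algebraMap (∀ i, R i) (R j))) :=
    IsLocalization.isLocalization_isLocalization_atPrime_isLocalization
      (Submonoid.powers (Pi.single j 1 : ∀ i, R i)) (Localization.AtPrime Pj) Pj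
  have heq : (Pj.comap (algebraMap (∀ i, R i) (R j))).primeCompl = P.primeCompl := by
    ext x
    simp only [Ideal.mem_primeCompl_iff]
    rw [hunder]
  have h2 : IsLocalization P.primeCompl (Localization.AtPrime Pj) := by
    rw [← heq]
    exact h1
  exact hQ _ _ (IsLocalization.algEquiv P.primeCompl (Localization.AtPrime P)
      (Localization.AtPrime Pj)).toRingEquiv.symm hreg

end Pi

end

section Geom

theorem red (k k' k'' : Type u) [Field k] [Field k'] [Field k''] [Algebra k k'] [Algebra k k'']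
    [Algebra.IsSeparable k k'] : IsReduced (k' ⊗[k] k'') := by
  haveI h4 : IsReduced (k'' ⊗[k] k') :=
    Groth.Agent.Lib.Helper22.GeomRed.isReduced_field_tensor_of_isSeparable
  exact isReduced_of_injective (Algebra.TensorProduct.comm k k' k'').toRingEquiv
    (Algebra.TensorProduct.comm k k' k'').injective

theorem chain (k k' k'' A : Type u) [Field k] [Field k'] [Field k''] [Algebra k k'] [Algebra k k'']
    [CommRing A] [Algebra k' A] [Algebra k A] [IsScalarTower k k' A] [Module.Finite k k'']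
    [IsReduced (k' ⊗[k] k'')] :
    ∃ _ : IsArtinianRing (k' ⊗[k] k''),
    Nonempty (k'' ⊗[k] A ≃+* ∀ I : MaximalSpectrum (k' ⊗[k] k''),
      A ⊗[k'] ((k' ⊗[k] k'') ⧸ I.asIdeal)) := by
  classical
  have hart : IsArtinianRing (k' ⊗[k] k'') := IsArtinianRing.of_finite k' _
  refine ⟨hart, ?_⟩
  have : Fintype (MaximalSpectrum (k' ⊗[k] k'')) := Fintype.ofFinite _
  let e1 : k'' ⊗[k] A ≃ₐ[k] A ⊗[k] k'' := Algebra.TensorProduct.comm k k'' A
  let e2 : A ⊗[k'] (k' ⊗[k] k'') ≃ₐ[k'] A ⊗[k] k'' :=
    Algebra.TensorProduct.cancelBaseChange k k' k' A k''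
  let e3 : (k' ⊗[k] k'') ≃ₐ[k'] ∀ I : MaximalSpectrum (k' ⊗[k] k''), (k' ⊗[k] k'') ⧸ I.asIdeal :=
    (IsArtinianRing.equivPi (k' ⊗[k] k'')).restrictScalars k'
  let e4 := Algebra.TensorProduct.congr (AlgEquiv.refl : A ≃ₐ[k'] A) e3
  let e5 := Algebra.TensorProduct.piRight k' k' A
    (fun I : MaximalSpectrum (k' ⊗[k] k'') => (k' ⊗[k] k'') ⧸ I.asIdeal)
  exact ⟨e1.toRingEquiv.trans (e2.symm.toRingEquiv.trans (e4.toRingEquiv.trans e5.toRingEquiv))⟩

variable (Q : ∀ (R : Type u) [CommRing R], Prop)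
  (hQ : ∀ (R S : Type u) [CommRing R] [CommRing S], (R ≃+* S) → Q R → Q S)

include hQ in
theorem down_fin (k : Type u) [Field k] (L : Type u)
    [Field L] [Algebra k L] [Algebra.IsSeparable k L] [Module.Finite k L]
    (A : Type u) [CommRing A] [Algebra L A]
    [Algebra k A] [IsScalarTower k L A]
    (h : GeomP Q k A) : GeomP Q L A := by
  classical
  intro L'' _ _ hfin
  letI : Algebra k L'' := ((algebraMap L L'').comp (algebraMap k L)).toAlgebra
  haveI hst : IsScalarTower k L L'' := IsScalarTower.of_algebraMap_eq (fun x => rfl)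
  haveI hfin' : Module.Finite k L'' := Module.Finite.trans L L''
  haveI hred : IsReduced (L ⊗[k] L'') := red k L L''
  obtain ⟨hart, ⟨e⟩⟩ := chain k L L'' A
  have h0 : LocP Q (L'' ⊗[k] A) := h L'' hfin'
  have hpi : LocP Q (∀ I : MaximalSpectrum (L ⊗[k] L''),
      A ⊗[L] ((L ⊗[k] L'') ⧸ I.asIdeal)) :=
    LocP.of_ringEquiv Q hQ e h0
  let μ : L ⊗[k] L'' →ₐ[L] L'' := Algebra.TensorProduct.lift (Algebra.ofId L L'')
    (IsScalarTower.toAlgHom k L'' L'') (fun _ _ => Commute.all _ _)
  have hμ : Function.Surjective μ := by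
    intro y
    refine ⟨1 ⊗ₜ y, ?_⟩
    simp [μ]
  have hmax : (RingHom.ker μ.toRingHom).IsMaximal :=
    RingHom.ker_isMaximal_of_surjective μ.toRingHom hμ
  let I₀ : MaximalSpectrum (L ⊗[k] L'') := ⟨RingHom.ker μ.toRingHom, hmax⟩
  have h1 : LocP Q (A ⊗[L] ((L ⊗[k] L'') ⧸ I₀.asIdeal)) :=
    LocP.of_pi Q hQ
      (fun I : MaximalSpectrum (L ⊗[k] L'') => A ⊗[L] ((L ⊗[k] L'') ⧸ I.asIdeal)) hpi I₀
  let e6 : ((L ⊗[k] L'') ⧸ I₀.asIdeal) ≃ₐ[L] L'' := Ideal.quotientKerAlgEquivOfSurjective hμ
  let e7 : A ⊗[L] ((L ⊗[k] L'') ⧸ I₀.asIdeal) ≃ₐ[L] A ⊗[L] L'' :=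
    Algebra.TensorProduct.congr (AlgEquiv.refl : A ≃ₐ[L] A) e6
  have h2 : LocP Q (A ⊗[L] L'') := LocP.of_ringEquiv Q hQ e7.toRingEquiv h1
  exact LocP.of_ringEquiv Q hQ (Algebra.TensorProduct.comm L A L'').toRingEquiv h2

include hQ in
theorem up (k : Type u) [Field k] (k' : Type u)
    [Field k'] [Algebra k k'] [Algebra.IsSeparable k k'] (A : Type u) [CommRing A] [Algebra k' A]
    [Algebra k A] [IsScalarTower k k' A]
    (h : GeomP Q k' A) : GeomP Q k A := by
  classical
  intro k'' _ _ hfin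
  haveI hred : IsReduced (k' ⊗[k] k'') := red k k' k''
  obtain ⟨hart, ⟨e⟩⟩ := chain k k' k'' A
  have hpi : LocP Q (∀ I : MaximalSpectrum (k' ⊗[k] k''),
      A ⊗[k'] ((k' ⊗[k] k'') ⧸ I.asIdeal)) := by
    apply LocP.pi Q hQ
    intro I
    have hmax : I.asIdeal.IsMaximal := I.isMaximal
    letI F : Field ((k' ⊗[k] k'') ⧸ I.asIdeal) := Ideal.Quotient.field I.asIdeal
    have hf : Module.Finite k' ((k' ⊗[k] k'') ⧸ I.asIdeal) := inferInstance
    have h5 : LocP Q (((k' ⊗[k] k'') ⧸ I.asIdeal) ⊗[k'] A) :=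
      h ((k' ⊗[k] k'') ⧸ I.asIdeal) hf
    exact LocP.of_ringEquiv Q hQ
      (Algebra.TensorProduct.comm k' ((k' ⊗[k] k'') ⧸ I.asIdeal) A).toRingEquiv h5
  exact LocP.of_ringEquiv Q hQ e.symm hpi

include hQ in
theorem descend (L k k' : Type u) [Field L] [Field k] [Field k'] [Algebra L k] [Algebra k k']
    [Algebra L k'] [IsScalarTower L k k'] [Module.Finite k k']
    (A : Type u) [CommRing A] [Algebra k A] [Algebra L A] [IsScalarTower L k A]
    (hL : GeomP Q L A)
    {m : ℕ} (b : Module.Basis (Fin m) k k')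
    (hc : ∀ i j l, b.repr (b i * b j) l ∈ Set.range (algebraMap L k))
    (hu : ∀ l, b.repr 1 l ∈ Set.range (algebraMap L k)) :
    LocP Q (k' ⊗[k] A) := by
  let M : Submodule L k' := Submodule.span L (Set.range b)
  have hsmul : ∀ (c : k), c ∈ Set.range (algebraMap L k) → ∀ x ∈ M, c • x ∈ M := by
    rintro c ⟨c', rfl⟩ x hx
    rw [algebraMap_smul]
    exact M.smul_mem c' hx
  have hsum : ∀ (y : k'), (∀ l, b.repr y l ∈ Set.range (algebraMap L k)) → y ∈ M := by
    intro y hy
    rw [← b.sum_repr y]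
    exact Submodule.sum_mem _ (fun l _ => hsmul _ (hy l) _ (Submodule.subset_span ⟨l, rfl⟩))
  have hone : (1 : k') ∈ M := hsum 1 hu
  have hmul : ∀ x y, x ∈ M → y ∈ M → x * y ∈ M := by
    intro x y hx hy
    induction hx using Submodule.span_induction with
    | mem x hx =>
      obtain ⟨i, rfl⟩ := hx
      induction hy using Submodule.span_induction with
      | mem y hy =>
        obtain ⟨j, rfl⟩ := hy
        exact hsum _ (hc i j)
      | zero => rw [mul_zero]; exact M.zero_mem
      | add y z _ _ hy hz => rw [mul_add]; exact M.add_mem hy hz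
      | smul c y _ hy => rw [mul_smul_comm]; exact M.smul_mem c hy
    | zero => rw [zero_mul]; exact M.zero_mem
    | add x z _ _ hx hz => rw [add_mul]; exact M.add_mem hx hz
    | smul c x _ hx => rw [smul_mul_assoc]; exact M.smul_mem c hx
  let B₀ : Subalgebra L k' := M.toSubalgebra hone hmul
  have hfinM : Module.Finite L M := Module.Finite.span_of_finite L (Set.finite_range b)
  have hfinB : Module.Finite L B₀ := hfinM
  have hart : IsArtinianRing B₀ := IsArtinianRing.of_finite L B₀
  letI : Field B₀ := (IsArtinianRing.isField_of_isDomain B₀).toField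
  have hreg : LocP Q (B₀ ⊗[L] A) := hL B₀ hfinB
  let φ : k ⊗[L] B₀ →ₐ[k] k' := Algebra.TensorProduct.lift (Algebra.ofId k k')
    (B₀.val) (fun _ _ => Commute.all _ _)
  have hφsurj : Function.Surjective φ := by
    change Function.Surjective φ.toLinearMap
    rw [← LinearMap.range_eq_top (f := φ.toLinearMap), eq_top_iff, ← b.span_eq, Submodule.span_le]
    rintro _ ⟨i, rfl⟩
    refine ⟨1 ⊗ₜ ⟨b i, Submodule.subset_span ⟨i, rfl⟩⟩, ?_⟩
    simp [φ]
  have hdim1 : Module.finrank k (k ⊗[L] B₀) = Module.finrank L B₀ := Module.finrank_baseChange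
  have hdim2 : Module.finrank L B₀ ≤ m := by
    have h1 : Module.finrank L M ≤ Fintype.card (Fin m) := finrank_range_le_card (R := L) b
    rwa [Fintype.card_fin] at h1
  have hdim3 : Module.finrank k k' = m := by
    rw [Module.finrank_eq_card_basis b, Fintype.card_fin]
  have hφinj : Function.Injective φ := by
    have h1 : Module.finrank k k' ≤ Module.finrank k (k ⊗[L] B₀) :=
      LinearMap.finrank_le_finrank_of_surjective (f := φ.toLinearMap) hφsurj
    have h2 : Module.finrank k (k ⊗[L] B₀) = Module.finrank k k' := by omega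
    exact (LinearMap.injective_iff_surjective_of_finrank_eq_finrank (f := φ.toLinearMap) h2).2
      hφsurj
  let e : k ⊗[L] B₀ ≃ₐ[k] k' := AlgEquiv.ofBijective φ ⟨hφinj, hφsurj⟩
  let E : k' ⊗[k] A ≃+* B₀ ⊗[L] A :=
    (Algebra.TensorProduct.comm k k' A).toRingEquiv.trans
      ((Algebra.TensorProduct.congr (AlgEquiv.refl : A ≃ₐ[k] A) e.symm).toRingEquiv.trans
        ((Algebra.TensorProduct.cancelBaseChange L k k A B₀).toRingEquiv.trans
          (Algebra.TensorProduct.comm L A B₀).toRingEquiv))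
  exact LocP.of_ringEquiv Q hQ E.symm hreg

include hQ in
/-- `GeomP Q` over a directed union of subfields. -/
theorem directed (k : Type u) [Field k] {ι : Type u}
    (K : ι → Type u) [∀ i, Field (K i)] [∀ i, Algebra (K i) k]
    (hdir : ∀ i j, ∃ l, Set.range (algebraMap (K i) k) ⊆ Set.range (algebraMap (K l) k) ∧
      Set.range (algebraMap (K j) k) ⊆ Set.range (algebraMap (K l) k))
    (hcov : ∀ x : k, ∃ i, x ∈ Set.range (algebraMap (K i) k))
    (A : Type u) [CommRing A] [Algebra k A] [∀ i, Algebra (K i) A]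
    [∀ i, IsScalarTower (K i) k A] (h : ∀ i, GeomP Q (K i) A) :
    GeomP Q k A := by
  classical
  intro k' _ _ hfin
  let m := Module.finrank k k'
  let b : Module.Basis (Fin m) k k' := Module.finBasis k k'
  let F : Finset k := (Finset.univ.image fun ijl : Fin m × Fin m × Fin m =>
    b.repr (b ijl.1 * b ijl.2.1) ijl.2.2) ∪ (Finset.univ.image fun l : Fin m => b.repr 1 l)
  obtain ⟨l₀, hl₀⟩ := Groth.Agent.S9409.exists_common K hdir hcov F
  letI : Algebra (K l₀) k' := ((algebraMap k k').comp (algebraMap (K l₀) k)).toAlgebra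
  haveI hst : IsScalarTower (K l₀) k k' := IsScalarTower.of_algebraMap_eq (fun x => rfl)
  refine descend Q hQ (K l₀) k k' A (h l₀) b ?_ ?_
  · intro i j l
    apply hl₀
    exact Finset.mem_union_left _ (Finset.mem_image.2 ⟨(i, j, l), Finset.mem_univ _, rfl⟩)
  · intro l
    apply hl₀
    exact Finset.mem_union_right _ (Finset.mem_image.2 ⟨l, Finset.mem_univ _, rfl⟩)

include hQ in
theorem down (k : Type u) [Field k] (k' : Type u)
    [Field k'] [Algebra k k'] [Algebra.IsSeparable k k'] (A : Type u) [CommRing A] [Algebra k' A]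
    [Algebra k A] [IsScalarTower k k' A]
    (h : GeomP Q k A) : GeomP Q k' A := by
  classical
  refine directed Q hQ k'
    (ι := {L : IntermediateField k k' // FiniteDimensional k L})
    (fun L => ↥L.1) ?_ ?_ A ?_
  · rintro ⟨L1, h1⟩ ⟨L2, h2⟩
    refine ⟨⟨L1 ⊔ L2, IntermediateField.finiteDimensional_sup L1 L2⟩, ?_, ?_⟩
    · rintro _ ⟨x, rfl⟩
      exact ⟨⟨x.1, (le_sup_left : L1 ≤ L1 ⊔ L2) x.2⟩, rfl⟩
    · rintro _ ⟨x, rfl⟩
      exact ⟨⟨x.1, (le_sup_right : L2 ≤ L1 ⊔ L2) x.2⟩, rfl⟩
  · intro x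
    have hx : IsIntegral k x := Algebra.IsIntegral.isIntegral x
    refine ⟨⟨IntermediateField.adjoin k {x}, IntermediateField.adjoin.finiteDimensional hx⟩, ?_⟩
    exact ⟨⟨x, IntermediateField.mem_adjoin_simple_self k x⟩, rfl⟩
  · rintro ⟨L, hL⟩
    haveI : Module.Finite k L := hL
    haveI : Algebra.IsSeparable k L := Algebra.isSeparable_tower_bot_of_isSeparable k L k'
    exact down_fin Q hQ k L A h

include hQ in
/-- For a separable algebraic extension `k'/k` and a `k'`-algebra `A`: `A` is geometrically `Q`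
over `k` iff over `k'`. -/
theorem geomP_iff_of_isSeparable (k : Type u) [Field k] (k' : Type u)
    [Field k'] [Algebra k k'] [Algebra.IsSeparable k k'] (A : Type u) [CommRing A] [Algebra k' A]
    [Algebra k A] [IsScalarTower k k' A] :
    GeomP Q k A ↔ GeomP Q k' A :=
  ⟨down Q hQ k k' A, up Q hQ k k' A⟩

end Geom

end Groth.Agent.Lib.Helper22.GeomLoc
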