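import Mathlib
import Groth.Agent.Lib.Helper22.GeomLoc

/-!
Generic version (for a ring property `P` that is isomorphism-invariant, passes to localizations,
descends along faithfully flat maps and ascends along smooth maps) of helper5's
`Lib/Helper5/GeomRegFG{,2,3}` (geometric regularity and finitely generated field extensions).
The field-theoretic section `FT` is copied verbatim from `Lib/Helper5/GeomRegFG2` (it only depends
on Mathlib) to avoid importing that file's long dependency chain.
-/

set_option autoImplicit false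
set_option linter.style.haveILetI false
universe u
noncomputable section
namespace Groth.Agent.Lib.Helper22.GeomFG

open TensorProduct IntermediateField Polynomial

section FT

variable {k Ω : Type u} [Field k] [Field Ω] [Algebra k Ω]

/-- `g` is a root of a separable polynomial with coefficients in `N`. -/
def SepOver (N : IntermediateField k Ω) (g : Ω) : Prop :=
  ∃ P : Polynomial Ω, P.Separable ∧ P.eval g = 0 ∧ ∀ n, P.coeff n ∈ N

theorem SepOver.mono {N N' : IntermediateField k Ω} (h : N ≤ N') {g : Ω} (hg : SepOver N g) :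
    SepOver N' g := by
  obtain ⟨P, h1, h2, h3⟩ := hg
  exact ⟨P, h1, h2, fun n => h (h3 n)⟩

theorem SepOver.isSeparable {F : Type u} [Field F] [Algebra F Ω] {N : IntermediateField k Ω}
    (hN : ∀ x, x ∈ N → x ∈ Set.range (algebraMap F Ω)) {g : Ω} (h : SepOver N g) :
    IsSeparable F g := by
  obtain ⟨P, hsep, hroot, hcoef⟩ := h
  have hl : P ∈ Polynomial.lifts (algebraMap F Ω) := by
    rw [Polynomial.lifts_iff_coeff_lifts]
    intro n
    exact hN _ (hcoef n)
  obtain ⟨P', hP'⟩ := (Polynomial.mem_lifts _).mp hl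
  have hsep' : P'.Separable := by
    rw [← Polynomial.separable_map (algebraMap F Ω), hP']
    exact hsep
  have hroot' : Polynomial.aeval g P' = 0 := by
    rw [Polynomial.aeval_def, Polynomial.eval₂_eq_eval_map, hP', hroot]
  exact hsep'.of_dvd (minpoly.dvd F g hroot')

theorem exists_finset_adjoin (E : IntermediateField k Ω) (t : Set Ω) (P : Finset Ω)
    (hP : ∀ x ∈ P, x ∈ adjoin k ((E : Set Ω) ∪ t)) :
    ∃ C : Finset Ω, (C : Set Ω) ⊆ E ∧ ∀ x ∈ P, x ∈ adjoin k ((C : Set Ω) ∪ t) := by
  classical
  induction P using Finset.induction_on with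
  | empty => exact ⟨∅, by simp, by simp⟩
  | insert a P _ ih =>
    obtain ⟨C₁, hC₁, h₁⟩ := ih (fun x hx => hP x (Finset.mem_insert_of_mem hx))
    obtain ⟨T, hT, haT⟩ := exists_finset_of_mem_adjoin (hP a (Finset.mem_insert_self a P))
    refine ⟨C₁ ∪ T.filter (· ∈ E), ?_, ?_⟩
    · intro x hx
      rw [Finset.coe_union, Set.mem_union] at hx
      rcases hx with hx | hx
      · exact hC₁ hx
      · exact (Finset.mem_filter.mp hx).2
    · intro x hx
      rcases Finset.mem_insert.mp hx with rfl | hx
      · refine adjoin.mono k _ _ ?_ haT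
        intro y hy
        rcases hT hy with hyE | hyt
        · left
          rw [Finset.coe_union]
          right
          exact Finset.mem_filter.mpr ⟨hy, hyE⟩
        · right
          exact hyt
      · refine adjoin.mono k _ _ ?_ (h₁ x hx)
        intro y hy
        rcases hy with hy | hy
        · left
          rw [Finset.coe_union]
          left
          exact hy
        · right
          exact hy

theorem exists_sepOver_perfectClosure [IsAlgClosed Ω] (G : Finset Ω) :
    ∃ (ι : Type u) (_ : Finite ι) (x : ι → Ω),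
      AlgebraicIndependent (perfectClosure k Ω) x ∧
      ∀ g ∈ G, SepOver (adjoin k ((perfectClosure k Ω : Set Ω) ∪ Set.range x)) g := by
  classical
  have hperf : PerfectField (perfectClosure k Ω) := inferInstance
  let K₁ : IntermediateField (perfectClosure k Ω) Ω := adjoin (perfectClosure k Ω) (G : Set Ω)
  have hfg : Algebra.EssFiniteType (perfectClosure k Ω) K₁ :=
    IntermediateField.essFiniteType_iff.mpr ⟨G, rfl⟩
  obtain ⟨s, hs_tb, hs_sep⟩ :=
    exists_isTranscendenceBasis_and_isSeparable_of_perfectField (perfectClosure k Ω) K₁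
  refine ⟨s, inferInstance, fun i => ((i : K₁) : Ω), ?_, ?_⟩
  · exact hs_tb.1.map' (f := K₁.val) Subtype.val_injective
  · intro g hg
    let g₁ : K₁ := ⟨g, subset_adjoin _ _ hg⟩
    have hsep : (minpoly (adjoin (perfectClosure k Ω) (s : Set K₁)) g₁).Separable :=
      Algebra.IsSeparable.isSeparable _ g₁
    let ι₁ : adjoin (perfectClosure k Ω) (s : Set K₁) →+* Ω :=
      (algebraMap K₁ Ω).comp (algebraMap (adjoin (perfectClosure k Ω) (s : Set K₁)) K₁)
    refine ⟨(minpoly (adjoin (perfectClosure k Ω) (s : Set K₁)) g₁).map ι₁, hsep.map, ?_, ?_⟩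
    · rw [Polynomial.eval_map]
      have h1 := minpoly.aeval (adjoin (perfectClosure k Ω) (s : Set K₁)) g₁
      rw [Polynomial.aeval_def] at h1
      have h2 := Polynomial.hom_eval₂ (minpoly (adjoin (perfectClosure k Ω) (s : Set K₁)) g₁)
        (algebraMap (adjoin (perfectClosure k Ω) (s : Set K₁)) K₁) (algebraMap K₁ Ω) g₁
      rw [h1, map_zero] at h2
      exact h2.symm
    · intro n
      rw [Polynomial.coeff_map]
      generalize (minpoly (adjoin (perfectClosure k Ω) (s : Set K₁)) g₁).coeff n = a
      have key : ∀ (y : K₁) (_ : y ∈ adjoin (perfectClosure k Ω) (s : Set K₁)),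
          (y : Ω) ∈ adjoin k ((perfectClosure k Ω : Set Ω) ∪
            Set.range fun i : s => ((i : K₁) : Ω)) := by
        intro y hy
        induction hy using IntermediateField.adjoin_induction with
        | mem y hy =>
          exact subset_adjoin _ _ (Or.inr ⟨⟨y, hy⟩, rfl⟩)
        | algebraMap y =>
          exact subset_adjoin _ _ (Or.inl y.2)
        | add y z _ _ hy hz => exact add_mem hy hz
        | inv y _ hy => exact inv_mem hy
        | mul y z _ _ hy hz => exact mul_mem hy hz
      exact key a.1 a.2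

theorem exists_finset_sepOver [IsAlgClosed Ω] (G : Finset Ω) :
    ∃ (ι : Type u) (_ : Finite ι) (x : ι → Ω) (C : Finset Ω),
      AlgebraicIndependent (perfectClosure k Ω) x ∧ (C : Set Ω) ⊆ perfectClosure k Ω ∧
      ∀ g ∈ G, SepOver (adjoin k ((C : Set Ω) ∪ Set.range x)) g := by
  classical
  obtain ⟨ι, hι, x, hx, hsep⟩ := exists_sepOver_perfectClosure (k := k) (Ω := Ω) G
  suffices h : ∀ G' : Finset Ω, (∀ g ∈ G', SepOver (adjoin k ((perfectClosure k Ω : Set Ω) ∪
      Set.range x)) g) → ∃ C : Finset Ω, (C : Set Ω) ⊆ perfectClosure k Ω ∧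
      ∀ g ∈ G', SepOver (adjoin k ((C : Set Ω) ∪ Set.range x)) g by
    obtain ⟨C, hC, h'⟩ := h G hsep
    exact ⟨ι, hι, x, C, hx, hC, h'⟩
  intro G'
  induction G' using Finset.induction_on with
  | empty => intro _; exact ⟨∅, by simp, by simp⟩
  | insert a G' _ ih =>
    intro hG'
    obtain ⟨C₁, hC₁, h₁⟩ := ih (fun g hg => hG' g (Finset.mem_insert_of_mem hg))
    obtain ⟨P, hs, hr, hc⟩ := hG' a (Finset.mem_insert_self a G')
    obtain ⟨C₂, hC₂, h₂⟩ := exists_finset_adjoin (perfectClosure k Ω) (Set.range x) P.coeffs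
      (fun y hy => by
        obtain ⟨n, _, rfl⟩ := Polynomial.mem_coeffs_iff.mp hy
        exact hc n)
    refine ⟨C₁ ∪ C₂, ?_, ?_⟩
    · rw [Finset.coe_union]
      exact Set.union_subset hC₁ hC₂
    · intro g hg
      rcases Finset.mem_insert.mp hg with rfl | hg
      · refine SepOver.mono (N := adjoin k ((C₂ : Set Ω) ∪ Set.range x)) ?_ ?_
        · apply adjoin.mono
          rw [Finset.coe_union]
          exact Set.union_subset_union_left _ Set.subset_union_right
        · refine ⟨P, hs, hr, fun n => ?_⟩
          by_cases h0 : P.coeff n = 0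
          · rw [h0]
            exact zero_mem _
          · exact h₂ _ (Polynomial.coeff_mem_coeffs h0)
      · refine SepOver.mono ?_ (h₁ g hg)
        apply adjoin.mono
        rw [Finset.coe_union]
        exact Set.union_subset_union_left _ Set.subset_union_left

end FT

/-- The axioms on a ring property used below. -/
structure Good (P : ∀ (R : Type u) [CommRing R], Prop) : Prop where
  iso : ∀ (R S : Type u) [CommRing R] [CommRing S], (R ≃+* S) → P R → P S
  loc : ∀ (R : Type u) [CommRing R] (M : Submonoid R) (S : Type u) [CommRing S] [Algebra R S]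
    [IsLocalization M S], P R → P S
  desc : ∀ (A B : Type u) [CommRing A] [CommRing B] [Algebra A B],
    Module.FaithfullyFlat A B → P B → P A
  smooth : ∀ (A B : Type u) [CommRing A] [CommRing B] [Algebra A B] [Algebra.Smooth A B],
    P A → P B

variable {P : ∀ (R : Type u) [CommRing R], Prop} (hP : Good P)

include hP in
/-- descent of `P` along a field extension of the base. -/
theorem descent (k K L S : Type u) [Field k] [Field K] [Field L] [CommRing S]
    [Algebra k K] [Algebra k L] [Algebra K L] [IsScalarTower k K L] [Algebra k S]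
    (h : P (L ⊗[k] S)) : P (K ⊗[k] S) := by
  let e1 : (K ⊗[k] S) ⊗[K] L ≃ₐ[K] L ⊗[K] (K ⊗[k] S) := Algebra.TensorProduct.comm K _ _
  let e2 : L ⊗[K] (K ⊗[k] S) ≃ₐ[L] L ⊗[k] S := Algebra.TensorProduct.cancelBaseChange k K L L S
  have h1 : P ((K ⊗[k] S) ⊗[K] L) :=
    hP.iso _ _ (e1.toRingEquiv.trans e2.toRingEquiv).symm h
  exact hP.desc (K ⊗[k] S) ((K ⊗[k] S) ⊗[K] L) inferInstance h1

include hP in
/-- base change of a `P` algebra to a rational function field. -/
theorem tensor_ratFunc (k T : Type u) (ι : Type u) [Finite ι] [Field k] [CommRing T]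
    [Algebra k T] (hT : P T) :
    P (FractionRing (MvPolynomial ι k) ⊗[k] T) := by
  haveI : Algebra.FinitePresentation T (MvPolynomial ι T) :=
    Algebra.FinitePresentation.mvPolynomial T T ι
  haveI : Algebra.Smooth T (MvPolynomial ι T) := ⟨inferInstance, inferInstance⟩
  have h0 : P (MvPolynomial ι T) := hP.smooth T _ hT
  have h1 : P (T ⊗[k] MvPolynomial ι k) :=
    hP.iso _ _ (MvPolynomial.algebraTensorAlgEquiv k T).symm.toRingEquiv h0
  have h2 : P (MvPolynomial ι k ⊗[k] T) :=
    hP.iso _ _ (Algebra.TensorProduct.comm k T (MvPolynomial ι k)).toRingEquiv h1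
  have h3 : P (FractionRing (MvPolynomial ι k) ⊗[MvPolynomial ι k]
      (MvPolynomial ι k ⊗[k] T)) := by
    letI : Algebra (MvPolynomial ι k ⊗[k] T) (FractionRing (MvPolynomial ι k) ⊗[MvPolynomial ι k]
      (MvPolynomial ι k ⊗[k] T)) := Algebra.TensorProduct.rightAlgebra
    haveI hloc : IsLocalization (Algebra.algebraMapSubmonoid (MvPolynomial ι k ⊗[k] T)
        (nonZeroDivisors (MvPolynomial ι k)))
        (FractionRing (MvPolynomial ι k) ⊗[MvPolynomial ι k] (MvPolynomial ι k ⊗[k] T)) :=
      IsLocalization.tensorRight _ _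
    exact hP.loc _
      (Algebra.algebraMapSubmonoid (MvPolynomial ι k ⊗[k] T) (nonZeroDivisors (MvPolynomial ι k)))
      _ h2
  exact hP.iso _ _ (Algebra.TensorProduct.cancelBaseChange k (MvPolynomial ι k)
    (FractionRing (MvPolynomial ι k)) (FractionRing (MvPolynomial ι k)) T).toRingEquiv h3

include hP in
/-- base change of a `P` algebra to a separably generated field extension. -/
theorem tensor_of_sepGen (k M L T : Type u) (ι : Type u) [Finite ι] [Field k] [Field M]
    [Field L] [CommRing T] [Algebra k M] [Algebra M L] [Algebra k L] [IsScalarTower k M L]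
    [Algebra k T] (hT : P T) [Module.Finite M L] [Algebra.IsSeparable M L]
    (e : FractionRing (MvPolynomial ι k) ≃ₐ[k] M) : P (L ⊗[k] T) := by
  have h1 : P (FractionRing (MvPolynomial ι k) ⊗[k] T) := tensor_ratFunc hP k T ι hT
  have h2 : P (M ⊗[k] T) :=
    hP.iso _ _ (Algebra.TensorProduct.congr e (AlgEquiv.refl : T ≃ₐ[k] T)).toRingEquiv h1
  haveI het : Algebra.Etale M L := by
    haveI : Algebra.FormallyEtale M L := Algebra.FormallyEtale.of_isSeparable M L
    have hft : Algebra.FiniteType M L := inferInstance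
    haveI : Algebra.FinitePresentation M L := Algebra.FinitePresentation.of_finiteType.mp hft
    exact ⟨inferInstance, inferInstance⟩
  haveI : Algebra.Smooth (M ⊗[k] T) ((M ⊗[k] T) ⊗[M] L) := inferInstance
  have h3 : P ((M ⊗[k] T) ⊗[M] L) := hP.smooth (M ⊗[k] T) ((M ⊗[k] T) ⊗[M] L) h2
  let e1 : (M ⊗[k] T) ⊗[M] L ≃ₐ[M] L ⊗[M] (M ⊗[k] T) := Algebra.TensorProduct.comm M _ _
  let e2 : L ⊗[M] (M ⊗[k] T) ≃ₐ[L] L ⊗[k] T := Algebra.TensorProduct.cancelBaseChange k M L L T
  exact hP.iso _ _ (e1.toRingEquiv.trans e2.toRingEquiv) h3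

include hP in
/-- assembly: `K ⊆ L`, `L` finite separable over `M`, `M` rational over `F`. -/
theorem of_tower (k K F M L S : Type u) (ι : Type u) [Finite ι] [Field k] [Field K]
    [Field F] [Field M] [Field L] [CommRing S] [Algebra k K] [Algebra k F] [Algebra F M]
    [Algebra M L] [Algebra F L] [Algebra k L] [Algebra K L] [Algebra k S]
    (h1 : ∀ x, algebraMap F L x = algebraMap M L (algebraMap F M x))
    (h2 : ∀ x, algebraMap k L x = algebraMap F L (algebraMap k F x))
    (h3 : ∀ x, algebraMap k L x = algebraMap K L (algebraMap k K x))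
    (hfin : Module.Finite M L) (hsep : Algebra.IsSeparable M L)
    (e : FractionRing (MvPolynomial ι F) ≃ₐ[F] M) (hT : P (F ⊗[k] S)) :
    P (K ⊗[k] S) := by
  haveI t1 : IsScalarTower F M L := IsScalarTower.of_algebraMap_eq h1
  haveI t2 : IsScalarTower k F L := IsScalarTower.of_algebraMap_eq h2
  haveI t3 : IsScalarTower k K L := IsScalarTower.of_algebraMap_eq h3
  have r1 : P (L ⊗[F] (F ⊗[k] S)) :=
    tensor_of_sepGen hP F M L (F ⊗[k] S) ι hT e
  have r2 : P (L ⊗[k] S) :=
    hP.iso _ _ (Algebra.TensorProduct.cancelBaseChange k F L L S).toRingEquiv r1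
  exact descent hP k K L S r2

include hP in
theorem tensor_of_fg (k K S : Type u) [Field k] [Field K] [Algebra k K]
    [Algebra.EssFiniteType k K] [CommRing S] [Algebra k S]
    (hPI : ∀ (k' : Type u) [Field k'] [Algebra k k'], Module.Finite k k' →
      IsPurelyInseparable k k' → P (k' ⊗[k] S)) : P (K ⊗[k] S) := by
  classical
  obtain ⟨G₀, hG₀⟩ := IntermediateField.fg_top k K
  let G : Finset (AlgebraicClosure K) := G₀.image (algebraMap K (AlgebraicClosure K))
  obtain ⟨ι, hι, x, C, hx, hC, hsep⟩ :=
    exists_finset_sepOver (k := k) (Ω := AlgebraicClosure K) G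
  let F : IntermediateField k (AlgebraicClosure K) := adjoin k (C : Set (AlgebraicClosure K))
  have hFE : F ≤ perfectClosure k (AlgebraicClosure K) := adjoin_le_iff.mpr hC
  obtain ⟨q, hq⟩ := ExpChar.exists k
  have hCint : ∀ c ∈ (C : Set (AlgebraicClosure K)), IsIntegral k c := by
    intro c hc
    have h1 : IsIntegral k (⟨c, hC hc⟩ : perfectClosure k (AlgebraicClosure K)) :=
      Algebra.IsIntegral.isIntegral _
    exact IntermediateField.isIntegral_iff.mp h1
  have hFfin : Module.Finite k F := finiteDimensional_adjoin hCint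
  have hFpi : IsPurelyInseparable k F :=
    (isPurelyInseparable_adjoin_iff_pow_mem k (AlgebraicClosure K) q).mpr
      (fun c hc => (mem_perfectClosure_iff_pow_mem q).mp (hC hc))
  have hT := hPI F hFfin hFpi
  letI : Algebra F (perfectClosure k (AlgebraicClosure K)) :=
    (IntermediateField.inclusion hFE).toRingHom.toAlgebra
  have hst : IsScalarTower F (perfectClosure k (AlgebraicClosure K)) (AlgebraicClosure K) :=
    IsScalarTower.of_algebraMap_eq (fun _ => rfl)
  have hxF : AlgebraicIndependent F x :=
    hx.restrictScalars (K := perfectClosure k (AlgebraicClosure K))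
      (IntermediateField.inclusion hFE).injective
  let Mf : IntermediateField F (AlgebraicClosure K) := adjoin F (Set.range x)
  let e : FractionRing (MvPolynomial ι F) ≃ₐ[F] Mf := hxF.aevalEquivField
  let Lf : IntermediateField Mf (AlgebraicClosure K) := adjoin Mf (G : Set (AlgebraicClosure K))
  have hst2 : IsScalarTower k Mf (AlgebraicClosure K) := IsScalarTower.of_algebraMap_eq (fun _ => rfl)
  have hMf : ∀ y, y ∈ adjoin k ((C : Set (AlgebraicClosure K)) ∪ Set.range x) →
      y ∈ Set.range (algebraMap Mf (AlgebraicClosure K)) := by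
    intro y hy
    rw [← adjoin_adjoin_left] at hy
    exact ⟨⟨y, hy⟩, rfl⟩
  have hGsep : ∀ g ∈ (G : Set (AlgebraicClosure K)), IsSeparable Mf g :=
    fun g hg => (hsep g hg).isSeparable hMf
  have hLsep : Algebra.IsSeparable Mf Lf :=
    (isSeparable_adjoin_iff_isSeparable Mf (AlgebraicClosure K)).mpr hGsep
  have hLfin : Module.Finite Mf Lf :=
    finiteDimensional_adjoin (fun g hg => (hGsep g hg).isIntegral)
  have hrange : ∀ y : K, algebraMap K (AlgebraicClosure K) y ∈ Lf := by
    intro y
    have hy : y ∈ adjoin k (G₀ : Set K) := by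
      rw [hG₀]
      exact IntermediateField.mem_top
    induction hy using IntermediateField.adjoin_induction with
    | mem y hy =>
      exact subset_adjoin _ _ (Finset.mem_image_of_mem _ hy)
    | algebraMap y =>
      rw [← IsScalarTower.algebraMap_apply k K (AlgebraicClosure K)]
      rw [IsScalarTower.algebraMap_apply k Mf (AlgebraicClosure K)]
      exact Lf.algebraMap_mem _
    | add y z _ _ hy hz =>
      rw [map_add]
      exact add_mem hy hz
    | inv y _ hy =>
      rw [map_inv₀]
      exact inv_mem hy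
    | mul y z _ _ hy hz =>
      rw [map_mul]
      exact mul_mem hy hz
  let φ : K →+* Lf := (algebraMap K (AlgebraicClosure K)).codRestrict Lf hrange
  letI : Algebra K Lf := φ.toAlgebra
  refine of_tower hP k K F Mf Lf S ι (fun _ => rfl) (fun _ => rfl) (fun c => ?_) hLfin hLsep
    e hT
  apply Subtype.ext
  change algebraMap k (AlgebraicClosure K) c = algebraMap K (AlgebraicClosure K) (algebraMap k K c)
  exact IsScalarTower.algebraMap_apply k K (AlgebraicClosure K) c


include hP in
/-- "geometrically `P`" passes to finitely generated extensions of the base field. -/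
theorem geom_baseChange (k S K : Type u) [Field k] [CommRing S] [Algebra k S] [Field K]
    [Algebra k K] [Algebra.EssFiniteType k K]
    (h : ∀ (k' : Type u) [Field k'] [Algebra k k'], Module.Finite k k' → P (k' ⊗[k] S)) :
    ∀ (K' : Type u) [Field K'] [Algebra K K'], Module.Finite K K' → P (K' ⊗[K] (K ⊗[k] S)) := by
  intro K' _ _ hfin
  letI : Algebra k K' := ((algebraMap K K').comp (algebraMap k K)).toAlgebra
  haveI hst : IsScalarTower k K K' := IsScalarTower.of_algebraMap_eq (fun _ => rfl)
  haveI h1 : Algebra.EssFiniteType K K' := inferInstance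
  haveI h2 : Algebra.EssFiniteType k K' := Algebra.EssFiniteType.comp k K K'
  have h3 : P (K' ⊗[k] S) :=
    tensor_of_fg hP k K' S (fun k' _ _ hf _ => h k' hf)
  exact hP.iso _ _ (Algebra.TensorProduct.cancelBaseChange k K K' K' S).symm.toRingEquiv h3

include hP in
/-- "geometrically `P`" descends along any field extension of the base field. -/
theorem geom_of_baseChange (k S K : Type u) [Field k] [CommRing S] [Algebra k S] [Field K]
    [Algebra k K]
    (h : ∀ (K' : Type u) [Field K'] [Algebra K K'], Module.Finite K K' →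
      P (K' ⊗[K] (K ⊗[k] S))) :
    ∀ (k' : Type u) [Field k'] [Algebra k k'], Module.Finite k k' → P (k' ⊗[k] S) := by
  intro k' _ _ hfin
  have hnt : Nontrivial (K ⊗[k] k') := inferInstance
  obtain ⟨m, hm⟩ := Ideal.exists_maximal (K ⊗[k] k')
  letI : Field ((K ⊗[k] k') ⧸ m) := Ideal.Quotient.field m
  have hfin' : Module.Finite K ((K ⊗[k] k') ⧸ m) :=
    Module.Finite.of_surjective (Ideal.Quotient.mkₐ K m).toLinearMap
      (Ideal.Quotient.mkₐ_surjective K m)
  have h1 : P (((K ⊗[k] k') ⧸ m) ⊗[K] (K ⊗[k] S)) := h _ hfin'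
  have h2 : P (((K ⊗[k] k') ⧸ m) ⊗[k] S) :=
    hP.iso _ _ (Algebra.TensorProduct.cancelBaseChange k K ((K ⊗[k] k') ⧸ m)
      ((K ⊗[k] k') ⧸ m) S).toRingEquiv h1
  letI : Algebra k' ((K ⊗[k] k') ⧸ m) :=
    ((Ideal.Quotient.mk m).comp
      (Algebra.TensorProduct.includeRight : k' →ₐ[k] K ⊗[k] k').toRingHom).toAlgebra
  haveI hst : IsScalarTower k k' ((K ⊗[k] k') ⧸ m) := IsScalarTower.of_algebraMap_eq (fun c => by
    change Ideal.Quotient.mk m (algebraMap k (K ⊗[k] k') c) =
      Ideal.Quotient.mk m ((Algebra.TensorProduct.includeRight : k' →ₐ[k] K ⊗[k] k')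
        (algebraMap k k' c))
    rw [AlgHom.commutes])
  exact descent hP k k' ((K ⊗[k] k') ⧸ m) S h2

end Groth.Agent.Lib.Helper22.GeomFG
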