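import Mathlib
import Groth.Agent.Lib.Helper22.GeomFG
import Groth.Agent.S1182

set_option autoImplicit false
set_option linter.style.haveILetI false
universe u
noncomputable section
namespace Groth.Agent.Lib.Helper22.NormalGood

open TensorProduct Groth.Agent.Lib.Helper22.GeomLoc Groth.Agent.Lib.Helper22.GeomFG

/-- The local property "integrally closed domain". -/
def QN : ∀ (R : Type u) [CommRing R], Prop := fun R _ => IsDomain R ∧ IsIntegrallyClosed R

theorem QN_iso : ∀ (R S : Type u) [CommRing R] [CommRing S], (R ≃+* S) → QN R → QN S :=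
  fun R S _ _ e h => by
    haveI := h.1
    haveI := h.2
    exact ⟨MulEquiv.isDomain R e.symm.toMulEquiv, IsIntegrallyClosed.of_equiv e⟩

/-- `EGA4.IsNormalRing` satisfies the axioms of `GeomFG.Good`. -/
theorem good_normal : Good (fun (R : Type u) [CommRing R] => EGA4.IsNormalRing R) where
  iso := fun R S _ _ e h => LocP.of_ringEquiv QN QN_iso e h
  loc := fun R _ M S _ _ _ h => LocP.of_isLocalization QN QN_iso M S h
  desc := fun A B _ _ _ hff hB => Groth.Agent.S1182.part2 A B hff hB
  smooth := fun A B _ _ _ _ hA => Groth.Agent.S1182.part1 A B hA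

end Groth.Agent.Lib.Helper22.NormalGood
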