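import Mathlib
import Groth.Prelude.Def_EGA4b
import Groth.Agent.Lib.Helper22.NormalGood

set_option autoImplicit false
universe u
open TensorProduct

namespace Groth.Agent.Lib.Helper22.NormFib

open Groth.Agent.Lib.Helper22.NormalGood

variable {A B : Type u} [CommRing A] [CommRing B] [Algebra A B]

/-- the canonical map `κ(ker (A → F)) → F` for a field `F` over `A`. -/
noncomputable def kerLift (F : Type u) [Field F] [Algebra A F] :
    letI q : Ideal A := RingHom.ker (algebraMap A F)
    haveI : q.IsPrime := RingHom.ker_isPrime _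
    q.ResidueField →ₐ[A] F :=
  letI q : Ideal A := RingHom.ker (algebraMap A F)
  haveI : q.IsPrime := RingHom.ker_isPrime _
  Ideal.ResidueField.liftₐ q (Algebra.ofId A F) le_rfl (by
    intro x hx
    simp only [Submonoid.mem_comap, IsUnit.mem_submonoid_iff]
    rw [isUnit_iff_ne_zero]
    exact hx)

/-- Lemma FN: fibre over a field-valued point, finite over the residue field of its image. -/
theorem isNormalRing_tensor_field
    (hB : ∀ (p : Ideal A) [p.IsPrime], EGA4.IsGeomNormal p.ResidueField (p.Fiber B))
    (F : Type u) [Field F] [Algebra A F]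
    (hfin : letI q : Ideal A := RingHom.ker (algebraMap A F)
      haveI : q.IsPrime := RingHom.ker_isPrime _
      letI := (kerLift (A := A) F).toRingHom.toAlgebra
      Module.Finite q.ResidueField F) : EGA4.IsNormalRing (F ⊗[A] B) := by
  let q : Ideal A := RingHom.ker (algebraMap A F)
  haveI : q.IsPrime := RingHom.ker_isPrime _
  let φ : q.ResidueField →ₐ[A] F := kerLift F
  letI : Algebra q.ResidueField F := φ.toRingHom.toAlgebra
  haveI : IsScalarTower A q.ResidueField F :=
    IsScalarTower.of_algebraMap_eq (fun x => (φ.commutes x).symm)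
  have h1 : EGA4.IsNormalRing (F ⊗[q.ResidueField] (q.Fiber B)) := hB q F hfin
  let e : F ⊗[q.ResidueField] (q.ResidueField ⊗[A] B) ≃ₐ[F] F ⊗[A] B :=
    Algebra.TensorProduct.cancelBaseChange A q.ResidueField F F B
  exact good_normal.iso _ _ e.toRingEquiv h1

theorem finite_kerLift_of_isLocalization (S : Submonoid A) (A' : Type u) [CommRing A']
    [Algebra A A'] [IsLocalization S A'] (p' : Ideal A') [p'.IsPrime] (k' : Type u) [Field k']
    [Algebra p'.ResidueField k'] [Algebra A k'] [Algebra A' k'] [IsScalarTower A A' k']
    [IsScalarTower A' p'.ResidueField k'] [Module.Finite p'.ResidueField k'] :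
    letI q : Ideal A := RingHom.ker (algebraMap A k')
    haveI : q.IsPrime := RingHom.ker_isPrime _
    letI := (kerLift (A := A) k').toRingHom.toAlgebra
    Module.Finite q.ResidueField k' := by
  let q : Ideal A := RingHom.ker (algebraMap A k')
  haveI : q.IsPrime := RingHom.ker_isPrime _
  have hq : q = p'.comap (algebraMap A A') := by
    ext x
    rw [RingHom.mem_ker, Ideal.mem_comap, IsScalarTower.algebraMap_apply A A' k',
      IsScalarTower.algebraMap_apply A' p'.ResidueField k',
      (injective_iff_map_eq_zero' _).mp (algebraMap p'.ResidueField k').injective,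
      Ideal.algebraMap_residueField_eq_zero]
  let ψ : q.ResidueField →+* p'.ResidueField := Ideal.ResidueField.map q p' (algebraMap A A') hq
  have hψ : Function.Bijective ψ :=
    (RingHom.surjectiveOnStalks_of_isLocalization S A').residueFieldMap_bijective q p' hq
  have hcomp : (kerLift (A := A) k').toRingHom = (algebraMap p'.ResidueField k').comp ψ := by
    apply Ideal.ResidueField.ringHom_ext
    ext x
    simp only [RingHom.comp_apply, AlgHom.toRingHom_eq_coe, RingHom.coe_coe, AlgHom.commutes]
    rw [show ψ (algebraMap A q.ResidueField x) = algebraMap A' p'.ResidueField (algebraMap A A' x)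
      from Ideal.ResidueField.map_algebraMap q p' (algebraMap A A') hq x,
      ← IsScalarTower.algebraMap_apply A' p'.ResidueField k',
      ← IsScalarTower.algebraMap_apply A A' k']
  letI a1 : Algebra q.ResidueField k' := (kerLift (A := A) k').toRingHom.toAlgebra
  letI a2 : Algebra q.ResidueField p'.ResidueField := ψ.toAlgebra
  haveI : IsScalarTower q.ResidueField p'.ResidueField k' :=
    IsScalarTower.of_algebraMap_eq' hcomp
  haveI : Module.Finite q.ResidueField p'.ResidueField :=
    Module.Finite.of_surjective (Algebra.linearMap q.ResidueField p'.ResidueField) hψ.2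
  exact Module.Finite.trans p'.ResidueField k'

/-- normal homomorphisms localize -/
theorem localization [Module.Flat A B]
    (hB : ∀ (p : Ideal A) [p.IsPrime], EGA4.IsGeomNormal p.ResidueField (p.Fiber B))
    (S : Submonoid A)
    (A' B' : Type u) [CommRing A'] [CommRing B'] [Algebra A A'] [Algebra B B'] [Algebra A' B'] [Algebra A B']
    [IsScalarTower A A' B'] [IsScalarTower A B B'] [IsLocalization S A']
    [IsLocalization (Algebra.algebraMapSubmonoid B S) B'] :
    Module.Flat A' B' ∧ ∀ (p' : Ideal A') [p'.IsPrime], EGA4.IsGeomNormal p'.ResidueField (p'.Fiber B') := by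
  constructor
  · rw [Module.flat_iff_of_isLocalization A' S]
    haveI : Module.Flat B B' := IsLocalization.flat B' (Algebra.algebraMapSubmonoid B S)
    exact Module.Flat.trans A B B'
  · intro p' hp' k' _ _ hfin
    let K' := p'.ResidueField
    letI : Algebra A' k' := ((algebraMap K' k').comp (algebraMap A' K')).toAlgebra
    haveI : IsScalarTower A' K' k' := IsScalarTower.of_algebraMap_eq' rfl
    letI : Algebra A k' := ((algebraMap A' k').comp (algebraMap A A')).toAlgebra
    haveI : IsScalarTower A A' k' := IsScalarTower.of_algebraMap_eq' rfl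
    haveI hpo : Algebra.IsPushout A A' B B' := (Algebra.isPushout_of_isLocalization S A' B B').symm
    let e0 : A' ⊗[A] B ≃ₐ[A'] B' := Algebra.IsPushout.equiv A A' B B'
    let e1 : k' ⊗[K'] (K' ⊗[A'] B') ≃ₐ[k'] k' ⊗[A'] B' :=
      Algebra.TensorProduct.cancelBaseChange A' K' k' k' B'
    let e2 : k' ⊗[A'] B' ≃ₐ[k'] k' ⊗[A'] (A' ⊗[A] B) :=
      Algebra.TensorProduct.congr AlgEquiv.refl e0.symm
    let e3 : k' ⊗[A'] (A' ⊗[A] B) ≃ₐ[k'] k' ⊗[A] B :=
      Algebra.TensorProduct.cancelBaseChange A A' k' k' B
    haveI := hfin
    have h1 : EGA4.IsNormalRing (k' ⊗[A] B) :=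
      isNormalRing_tensor_field hB k' (finite_kerLift_of_isLocalization S A' p' k')
    exact good_normal.iso _ _ ((e1.trans e2).trans e3).symm.toRingEquiv h1

end Groth.Agent.Lib.Helper22.NormFib
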