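import Mathlib
import Groth.Prelude.Def_EGA4b

/-!
# A first-order characterization of normal rings, and directed colimits (helper22)

`EGA4.IsNormalRing R` (all local rings at primes are integrally closed domains) is equivalent to
`N1 R ∧ N2 R` where
* `N1 R`: `a * b = 0 → Ann a + Ann b = ⊤`,
* `N2 R`: a homogeneous monic relation `(q.scaleRoots b).eval a = 0` forces `a ∈ (b)`.
Both are preserved by directed colimits (`IsColim`).
-/

set_option autoImplicit false
set_option linter.style.haveILetI false
universe u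
noncomputable section
namespace Groth.Agent.Lib.Helper22.NormalColim

open Polynomial

/-- `a * b = 0 → Ann a + Ann b = ⊤`. -/
def N1 (R : Type u) [CommRing R] : Prop :=
  ∀ a b : R, a * b = 0 → ∃ u v : R, u * a = 0 ∧ v * b = 0 ∧ u + v = 1

/-- A homogeneous monic relation between `a` and `b` forces `a ∈ (b)`. -/
def N2 (R : Type u) [CommRing R] : Prop :=
  ∀ (a b : R) (q : R[X]), q.Monic → (q.scaleRoots b).eval a = 0 → ∃ r : R, a = b * r

theorem N1_of_isNormalRing {R : Type u} [CommRing R] (h : EGA4.IsNormalRing R) : N1 R := by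
  intro a b hab
  let I : Ideal R := (Submodule.span R {a}).annihilator ⊔ (Submodule.span R {b}).annihilator
  have hI : I = ⊤ := by
    by_contra hne
    obtain ⟨M, hM, hIM⟩ := Ideal.exists_le_maximal I hne
    haveI := hM.isPrime
    obtain ⟨hdom, -⟩ := h M
    have h0 : algebraMap R (Localization.AtPrime M) a * algebraMap R (Localization.AtPrime M) b
        = 0 := by rw [← map_mul, hab, map_zero]
    rcases mul_eq_zero.mp h0 with h1 | h1
    · obtain ⟨s, hs⟩ := (IsLocalization.map_eq_zero_iff M.primeCompl _ a).mp h1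
      have : (s : R) ∈ I := by
        apply Ideal.mem_sup_left
        rw [Submodule.mem_annihilator_span_singleton]
        exact hs
      exact s.2 (hIM this)
    · obtain ⟨s, hs⟩ := (IsLocalization.map_eq_zero_iff M.primeCompl _ b).mp h1
      have : (s : R) ∈ I := by
        apply Ideal.mem_sup_right
        rw [Submodule.mem_annihilator_span_singleton]
        exact hs
      exact s.2 (hIM this)
  have h1 : (1 : R) ∈ I := by rw [hI]; trivial
  obtain ⟨u, hu, v, hv, huv⟩ := Submodule.mem_sup.mp h1
  rw [Submodule.mem_annihilator_span_singleton] at hu hv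
  exact ⟨u, v, hu, hv, huv⟩

theorem N2_of_isNormalRing {R : Type u} [CommRing R] (h : EGA4.IsNormalRing R) : N2 R := by
  intro a b q hq hrel
  have hmem : a ∈ Ideal.span {b} := by
    apply Ideal.mem_of_localization_maximal
    intro P hP
    haveI := hP.isPrime
    obtain ⟨hdom, hic⟩ := h P
    set S := Localization.AtPrime P
    set g := algebraMap R S
    rw [Ideal.map_span, Set.image_singleton]
    have hqg : (q.map g).Monic := hq.map g
    have hrel' : ((q.map g).scaleRoots (g b)).eval (g a) = 0 := by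
      rw [← map_scaleRoots q b g (by rw [hq.leadingCoeff, map_one]; exact one_ne_zero),
        eval_map, eval₂_at_apply, hrel, map_zero]
    by_cases hb : g b = 0
    · rw [hb, scaleRoots_zero, hqg.leadingCoeff, one_smul, eval_pow, eval_X] at hrel'
      have : g a = 0 := eq_zero_of_pow_eq_zero hrel'
      rw [this]
      exact Ideal.zero_mem _
    · let K := FractionRing S
      let f := algebraMap S K
      have hfb : f (g b) ≠ 0 := by
        intro h0
        exact hb ((map_eq_zero_iff f (IsFractionRing.injective S K)).mp h0)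
      have hint : IsIntegral S (f (g a) / f (g b)) := by
        refine ⟨q.map g, hqg, ?_⟩
        have h1 := scaleRoots_eval₂_mul (p := q.map g) f (f (g a) / f (g b)) (g b)
        rw [mul_div_cancel₀ _ hfb, eval₂_at_apply, hrel', map_zero] at h1
        rcases mul_eq_zero.mp h1.symm with h2 | h2
        · exact absurd (eq_zero_of_pow_eq_zero h2) hfb
        · exact h2
      obtain ⟨y, hy⟩ := IsIntegrallyClosed.algebraMap_eq_of_integral hint
      have h3 : f (g a) = f (g b * y) := by
        rw [map_mul, hy, mul_div_cancel₀ _ hfb]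
      have h4 : g a = g b * y := IsFractionRing.injective S K h3
      rw [h4]
      exact Ideal.mul_mem_right _ _ (Ideal.subset_span rfl)
  obtain ⟨r, hr⟩ := Ideal.mem_span_singleton'.mp hmem
  exact ⟨r, by rw [← hr, mul_comm]⟩


theorem isDomain_localization_of_N1 {R : Type u} [CommRing R] (h1 : N1 R) (P : Ideal R)
    [P.IsPrime] : IsDomain (Localization.AtPrime P) := by
  haveI : Nontrivial (Localization.AtPrime P) := inferInstance
  haveI : NoZeroDivisors (Localization.AtPrime P) := by
    constructor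
    intro x y hxy
    obtain ⟨⟨a, s⟩, rfl⟩ := IsLocalization.mk'_surjective P.primeCompl x
    obtain ⟨⟨b, t⟩, rfl⟩ := IsLocalization.mk'_surjective P.primeCompl y
    simp only at hxy ⊢
    rw [← IsLocalization.mk'_mul, IsLocalization.mk'_eq_zero_iff] at hxy
    obtain ⟨u, hu⟩ := hxy
    obtain ⟨v, w, hv, hw, hvw⟩ := h1 ((u : R) * a) b (by rw [mul_assoc]; exact hu)
    have hnot : v ∉ P ∨ w ∉ P := by
      by_contra hcon
      rw [not_or, not_not, not_not] at hcon
      have : (1 : R) ∈ P := by rw [← hvw]; exact P.add_mem hcon.1 hcon.2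
      exact (Ideal.ne_top_iff_one P).mp (Ideal.IsPrime.ne_top ‹_›) this
    rcases hnot with hv' | hw'
    · left
      rw [IsLocalization.mk'_eq_zero_iff]
      refine ⟨⟨v * u, P.primeCompl.mul_mem hv' u.2⟩, ?_⟩
      simp only
      rw [mul_assoc]; exact hv
    · right
      rw [IsLocalization.mk'_eq_zero_iff]
      exact ⟨⟨w, hw'⟩, hw⟩
  exact NoZeroDivisors.to_isDomain _


theorem isIntegrallyClosed_localization_of_N2 {R : Type u} [CommRing R] (h2 : N2 R)
    (P : Ideal R) [P.IsPrime] [IsDomain (Localization.AtPrime P)] :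
    IsIntegrallyClosed (Localization.AtPrime P) := by
  set S := Localization.AtPrime P
  let K := FractionRing S
  rw [isIntegrallyClosed_iff K]
  intro x hx
  let g := algebraMap R S
  let f := algebraMap S K
  have hfinj : Function.Injective f := IsFractionRing.injective S K
  haveI : Nontrivial R := RingHom.domain_nontrivial g
  obtain ⟨m, q0, hq0, hq0x⟩ :=
    IsIntegral.exists_multiple_integral_of_isLocalization P.primeCompl x hx
  set q := q0 * X with hqdef
  have hq : q.Monic := hq0.mul monic_X
  have hqdeg : q.natDegree = q0.natDegree + 1 := natDegree_mul_X hq0.ne_zero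
  have hqx : eval₂ (algebraMap R K) (m • x) q = 0 := by
    rw [hqdef, eval₂_mul, hq0x, zero_mul]
  obtain ⟨α, β, hβ, rfl⟩ := IsFractionRing.div_surjective (A := S) x
  obtain ⟨⟨a, s⟩, hα⟩ := IsLocalization.surj P.primeCompl α
  obtain ⟨⟨b, t⟩, hβ'⟩ := IsLocalization.surj P.primeCompl β
  simp only at hα hβ'
  have hβ0 : β ≠ 0 := nonZeroDivisors.ne_zero hβ
  have hgs : g s ≠ 0 := (IsLocalization.map_units S s).ne_zero
  have hgt : g t ≠ 0 := (IsLocalization.map_units S t).ne_zero
  have hgm : g m ≠ 0 := (IsLocalization.map_units S m).ne_zero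
  set A := (m : R) * a * t with hA
  set B := b * s with hB
  have hgB : g B ≠ 0 := by
    rw [hB, map_mul, ← hβ']
    exact mul_ne_zero (mul_ne_zero hβ0 hgt) hgs
  have hfgB : f (g B) ≠ 0 := fun h0 => hgB ((map_eq_zero_iff f hfinj).mp h0)
  have hy : m • (f α / f β) = f (g A) / f (g B) := by
    have e1 : f (g A) = f (g m) * (f α * f (g s)) * f (g t) := by
      rw [hA, map_mul, map_mul, map_mul, map_mul, ← hα, map_mul]
    have e2 : f (g B) = f β * f (g t) * f (g s) := by
      rw [hB, map_mul, ← hβ', map_mul, map_mul]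
    have hfβ : f β ≠ 0 := fun h0 => hβ0 ((map_eq_zero_iff f hfinj).mp h0)
    have hfs : f (g s) ≠ 0 := fun h0 => hgs ((map_eq_zero_iff f hfinj).mp h0)
    have hft : f (g t) ≠ 0 := fun h0 => hgt ((map_eq_zero_iff f hfinj).mp h0)
    rw [e1, e2, Submonoid.smul_def, Algebra.smul_def, IsScalarTower.algebraMap_apply R S K,
      eq_div_iff (mul_ne_zero (mul_ne_zero hfβ hft) hfs)]
    have hz : f α / f β * f β = f α := div_mul_cancel₀ _ hfβ
    conv_rhs => rw [← hz]
    ring
  have hrel : ((q.map g).scaleRoots (g B)).eval (g A) = 0 := by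
    have h1 : eval₂ f (f (g A) / f (g B)) (q.map g) = 0 := by
      rw [eval₂_map, ← hy]
      have : f.comp g = algebraMap R K := (IsScalarTower.algebraMap_eq R S K).symm
      rw [this]
      exact hqx
    have h3 := scaleRoots_eval₂_eq_zero_of_eval₂_div_eq_zero hfinj h1
      (mem_nonZeroDivisors_of_ne_zero hgB)
    rw [eval₂_at_apply] at h3
    exact (map_eq_zero_iff f hfinj).mp h3
  have hrel2 : g ((q.scaleRoots B).eval A) = 0 := by
    rw [← map_scaleRoots q B g (by rw [hq.leadingCoeff, map_one]; exact one_ne_zero),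
      eval_map, eval₂_at_apply] at hrel
    exact hrel
  obtain ⟨u, hu⟩ := (IsLocalization.map_eq_zero_iff P.primeCompl S _).mp hrel2
  have hrel3 : (q.scaleRoots (B * u)).eval ((u : R) * A) = 0 := by
    rw [scaleRoots_mul, scaleRoots_eval_mul, natDegree_scaleRoots, hqdeg, pow_succ, mul_assoc, hu,
      mul_zero]
  obtain ⟨r, hr⟩ := h2 _ _ q hq hrel3
  have hgu : g u ≠ 0 := (IsLocalization.map_units S u).ne_zero
  have hgr : g A = g B * g r := by
    have h5 : g u * g A = g u * (g B * g r) := by
      rw [← map_mul, hr, map_mul, map_mul, map_mul]; ring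
    exact mul_left_cancel₀ hgu h5
  refine ⟨IsLocalization.mk' S r m, ?_⟩
  have hfm : f (g m) ≠ 0 := fun h0 => hgm ((map_eq_zero_iff f hfinj).mp h0)
  have h6 : f (g m) * f (IsLocalization.mk' S r m) = f (g m) * (f α / f β) := by
    rw [← map_mul, mul_comm, IsLocalization.mk'_spec]
    have h7 : f (g m) * (f α / f β) = m • (f α / f β) := by
      rw [Submonoid.smul_def, Algebra.smul_def, IsScalarTower.algebraMap_apply R S K]
    rw [h7, hy, hgr, map_mul, mul_div_cancel_left₀ _ hfgB]
  exact mul_left_cancel₀ hfm h6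


/-- The first-order characterization of normal rings. -/
theorem isNormalRing_iff {R : Type u} [CommRing R] : EGA4.IsNormalRing R ↔ N1 R ∧ N2 R := by
  refine ⟨fun h => ⟨N1_of_isNormalRing h, N2_of_isNormalRing h⟩, fun ⟨h1, h2⟩ P hP => ?_⟩
  haveI := isDomain_localization_of_N1 h1 P
  exact ⟨inferInstance, isIntegrallyClosed_localization_of_N2 h2 P⟩

/-- `R` is the directed colimit of the `G i` along `φ i` (in the weak sense needed here): finite
subsets lift to a common stage, and elements dying in `R` die at a later stage. -/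
structure IsColim {ι : Type*} (R : Type u) [CommRing R] (G : ι → Type u) [∀ i, CommRing (G i)]
    (φ : ∀ i, G i →+* R) : Prop where
  fin : ∀ s : Finset R, ∃ i, (s : Set R) ⊆ Set.range (φ i)
  ker : ∀ i (x : G i), φ i x = 0 → ∃ j, ∃ t : G i →+* G j, (φ j).comp t = φ i ∧ t x = 0

variable {ι : Type*} {R : Type u} [CommRing R] {G : ι → Type u} [∀ i, CommRing (G i)]
  {φ : ∀ i, G i →+* R}

theorem IsColim.N1 (hc : IsColim R G φ) (h : ∀ i, N1 (G i)) : N1 R := by
  classical
  intro a b hab
  obtain ⟨i, hi⟩ := hc.fin {a, b}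
  obtain ⟨a', rfl⟩ := hi (by simp : a ∈ (({a, b} : Finset R) : Set R))
  obtain ⟨b', rfl⟩ := hi (by simp : b ∈ (({φ i a', b} : Finset R) : Set R))
  obtain ⟨j, t, ht, h0⟩ := hc.ker i (a' * b') (by rw [map_mul]; exact hab)
  rw [map_mul] at h0
  obtain ⟨u, v, hu, hv, huv⟩ := h j _ _ h0
  have e1 : φ j (t a') = φ i a' := by rw [← ht]; rfl
  have e2 : φ j (t b') = φ i b' := by rw [← ht]; rfl
  refine ⟨φ j u, φ j v, ?_, ?_, ?_⟩
  · rw [← e1, ← map_mul, hu, map_zero]
  · rw [← e2, ← map_mul, hv, map_zero]
  · rw [← map_add, huv, map_one]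

theorem IsColim.N2 (hc : IsColim R G φ) (h : ∀ i, N2 (G i)) : N2 R := by
  classical
  intro a b q hq hrel
  rcases subsingleton_or_nontrivial R with hsub | hnt
  · exact ⟨0, Subsingleton.elim _ _⟩
  obtain ⟨i, hi⟩ := hc.fin ({a, b} ∪ q.coeffs)
  obtain ⟨a', rfl⟩ := hi (by simp : a ∈ ((({a, b} : Finset R) ∪ q.coeffs : Finset R) : Set R))
  obtain ⟨b', rfl⟩ := hi (by simp : b ∈ ((({φ i a', b} : Finset R) ∪ q.coeffs : Finset R) : Set R))
  have hlift : q ∈ Polynomial.lifts (φ i) := by
    rw [Polynomial.lifts_iff_coeff_lifts]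
    intro n
    by_cases hn : q.coeff n = 0
    · exact ⟨0, by rw [map_zero, hn]⟩
    · apply hi
      have : q.coeff n ∈ q.coeffs := Polynomial.coeff_mem_coeffs hn
      simp [this]
  obtain ⟨q', rfl, -, hq'⟩ := Polynomial.lifts_and_natDegree_eq_and_monic hlift hq
  have hφ1 : φ i (q'.leadingCoeff) ≠ 0 := by
    rw [hq'.leadingCoeff, map_one]; exact one_ne_zero
  have hE : φ i ((q'.scaleRoots b').eval a') = 0 := by
    rw [← eval₂_at_apply, ← eval_map, map_scaleRoots q' b' (φ i) hφ1]
    exact hrel
  obtain ⟨j, t, ht, h0⟩ := hc.ker i _ hE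
  have ht1 : t (q'.leadingCoeff) ≠ 0 := by
    intro h1
    have : φ i (q'.leadingCoeff) = 0 := by rw [← ht, RingHom.comp_apply, h1, map_zero]
    exact hφ1 this
  rw [← eval₂_at_apply, ← eval_map, map_scaleRoots q' b' t ht1] at h0
  obtain ⟨r, hr⟩ := h j _ _ (q'.map t) (hq'.map t) h0
  have e1 : φ j (t a') = φ i a' := by rw [← ht]; rfl
  have e2 : φ j (t b') = φ i b' := by rw [← ht]; rfl
  exact ⟨φ j r, by rw [← e1, hr, map_mul, e2]⟩

/-- A directed colimit of normal rings is normal. -/
theorem IsColim.isNormalRing (hc : IsColim R G φ) (h : ∀ i, EGA4.IsNormalRing (G i)) :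
    EGA4.IsNormalRing R :=
  isNormalRing_iff.mpr ⟨hc.N1 fun i => (isNormalRing_iff.mp (h i)).1,
    hc.N2 fun i => (isNormalRing_iff.mp (h i)).2⟩

end Groth.Agent.Lib.Helper22.NormalColim
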