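import Mathlib
import Groth.Agent.Lib.Helper22.NormalColim

/-!
# Instances of `IsColim`: `Ring.DirectLimit`, and `K ⊗ A` as union of `E ⊗ A`, `E/k` f.g. (helper22)
-/

set_option autoImplicit false
set_option linter.style.haveILetI false
universe u
noncomputable section
namespace Groth.Agent.Lib.Helper22.NormalColim

open TensorProduct

section DirectLimit

variable {ι : Type u} [Preorder ι] [Nonempty ι] [IsDirected ι (· ≤ ·)] (G : ι → Type u)
  [∀ i, CommRing (G i)] (f : ∀ i j, i ≤ j → G i →+* G j)
  [DirectedSystem G fun i j h => f i j h]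

theorem isColim_directLimit :
    IsColim (Ring.DirectLimit G fun i j h => f i j h) G
      (fun i => Ring.DirectLimit.of G (fun i j h => f i j h) i) where
  fin := by
    classical
    have mono : ∀ i j (hij : i ≤ j),
        Set.range (Ring.DirectLimit.of G (fun i j h => f i j h) i) ⊆
          Set.range (Ring.DirectLimit.of G (fun i j h => f i j h) j) := by
      rintro i j hij _ ⟨x, rfl⟩
      exact ⟨f i j hij x, Ring.DirectLimit.of_f hij x⟩
    intro s
    induction s using Finset.induction_on with
    | empty => exact ⟨Classical.arbitrary ι, by simp⟩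
    | insert x s _ ih =>
      obtain ⟨i, hi⟩ := ih
      obtain ⟨j, y, hy⟩ := Ring.DirectLimit.exists_of x
      obtain ⟨l, hil, hjl⟩ := exists_ge_ge i j
      refine ⟨l, ?_⟩
      intro z hz
      rw [Finset.coe_insert, Set.mem_insert_iff] at hz
      rcases hz with rfl | hz
      · exact mono j l hjl ⟨y, hy⟩
      · exact mono i l hil (hi hz)
  ker := by
    intro i x hx
    obtain ⟨j, hij, h0⟩ := Ring.DirectLimit.of.zero_exact hx
    refine ⟨j, f i j hij, ?_, h0⟩
    ext y
    exact Ring.DirectLimit.of_f hij y

end DirectLimit

end Groth.Agent.Lib.Helper22.NormalColim
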