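import Mathlib
import Groth.Agent.Lib.Helper22.NormalColim2

/-!
# `K ⊗ A` as the directed union of `E ⊗ A`, `E/k` finitely generated (helper22)
-/

set_option autoImplicit false
set_option linter.style.haveILetI false
universe u
noncomputable section
namespace Groth.Agent.Lib.Helper22.NormalColim

open TensorProduct

variable (k K A : Type u) [Field k] [Field K] [Algebra k K] [CommRing A] [Algebra k A]

/-- The stage attached to a finite subset of `K`. -/
abbrev Stage (S : Finset K) : Type u := ↥(IntermediateField.adjoin k (S : Set K)) ⊗[k] A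

/-- The map from a stage to `K ⊗ A`. -/
def stageMap (S : Finset K) : Stage k K A S →+* K ⊗[k] A :=
  (Algebra.TensorProduct.map (IntermediateField.adjoin k (S : Set K)).val
    (AlgHom.id k A)).toRingHom

theorem stageMap_tmul (S : Finset K) (c : ↥(IntermediateField.adjoin k (S : Set K))) (a : A) :
    stageMap k K A S (c ⊗ₜ a) = (c : K) ⊗ₜ a := rfl

theorem stageMap_injective (S : Finset K) : Function.Injective (stageMap k K A S) := by
  have h := Module.Flat.rTensor_preserves_injective_linearMap (M := A)
    (IntermediateField.adjoin k (S : Set K)).val.toLinearMap Subtype.val_injective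
  intro x y hxy
  apply h
  have e : ∀ z : Stage k K A S, (LinearMap.rTensor A
      (IntermediateField.adjoin k (S : Set K)).val.toLinearMap) z = stageMap k K A S z := by
    intro z
    induction z using TensorProduct.induction_on with
    | zero => simp
    | tmul c a => rfl
    | add z w hz hw => rw [map_add, map_add, hz, hw]
  rw [e, e, hxy]

theorem range_stageMap_mono {S T : Finset K} (h : S ⊆ T) :
    Set.range (stageMap k K A S) ⊆ Set.range (stageMap k K A T) := by
  have hle : IntermediateField.adjoin k (S : Set K) ≤ IntermediateField.adjoin k (T : Set K) :=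
    IntermediateField.adjoin.mono k _ _ (Finset.coe_subset.mpr h)
  rintro _ ⟨x, rfl⟩
  induction x using TensorProduct.induction_on with
  | zero => exact ⟨0, by simp⟩
  | tmul c a =>
    refine ⟨(IntermediateField.inclusion hle c) ⊗ₜ a, ?_⟩
    rw [stageMap_tmul, stageMap_tmul, IntermediateField.coe_inclusion]
  | add z w hz hw =>
    obtain ⟨z', hz'⟩ := hz
    obtain ⟨w', hw'⟩ := hw
    exact ⟨z' + w', by rw [map_add, map_add, hz', hw']⟩

theorem exists_mem_range_stageMap (x : K ⊗[k] A) :
    ∃ S : Finset K, x ∈ Set.range (stageMap k K A S) := by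
  classical
  induction x using TensorProduct.induction_on with
  | zero => exact ⟨∅, 0, map_zero _⟩
  | tmul c a =>
    refine ⟨{c}, (⟨c, IntermediateField.subset_adjoin k _ (by simp)⟩ :
      ↥(IntermediateField.adjoin k (({c} : Finset K) : Set K))) ⊗ₜ a, rfl⟩
  | add z w hz hw =>
    obtain ⟨S, z', hz'⟩ := hz
    obtain ⟨T, w', hw'⟩ := hw
    obtain ⟨z'', hz''⟩ := range_stageMap_mono k K A (Finset.subset_union_left (s₂ := T)) ⟨z', hz'⟩
    obtain ⟨w'', hw''⟩ := range_stageMap_mono k K A (Finset.subset_union_right (s₁ := S)) ⟨w', hw'⟩
    exact ⟨S ∪ T, z'' + w'', by rw [map_add, hz'', hw'']⟩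

theorem isColim_tensor :
    IsColim (K ⊗[k] A) (fun S : Finset K => Stage k K A S) (stageMap k K A) where
  fin := by
    classical
    intro s
    induction s using Finset.induction_on with
    | empty => exact ⟨∅, by simp⟩
    | insert x s _ ih =>
      obtain ⟨S, hS⟩ := ih
      obtain ⟨T, hT⟩ := exists_mem_range_stageMap k K A x
      refine ⟨S ∪ T, ?_⟩
      intro z hz
      rw [Finset.coe_insert, Set.mem_insert_iff] at hz
      rcases hz with rfl | hz
      · exact range_stageMap_mono k K A Finset.subset_union_right hT
      · exact range_stageMap_mono k K A Finset.subset_union_left (hS hz)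
  ker := by
    intro S x hx
    refine ⟨S, RingHom.id _, rfl, ?_⟩
    exact stageMap_injective k K A S (by rw [RingHom.id_apply, hx, map_zero])

instance essFiniteType_stage (S : Finset K) :
    Algebra.EssFiniteType k ↥(IntermediateField.adjoin k (S : Set K)) :=
  IntermediateField.essFiniteType_iff.mpr
    (IntermediateField.fg_adjoin_of_finite S.finite_toSet)

end Groth.Agent.Lib.Helper22.NormalColim
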