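import Mathlib
import Groth.Prelude.Def_EGA4b
import Groth.Agent.Lib.Helper22.NormFib
import Groth.Agent.Lib.Helper22.NormalColim3
import Groth.Agent.Lib.Helper22.GeomFG
import Groth.Agent.Lib.Helper12.FlatDescent

set_option autoImplicit false
universe u
open TensorProduct

namespace Groth.Agent.Lib.Helper22.NormFib2

open Groth.Agent.Lib.Helper22.NormalGood Groth.Agent.Lib.Helper22.NormFib

/-- Lemma GN: geometrically normal (tested on finite extensions) implies normal after any field
extension. -/
theorem isNormalRing_tensor_of_isGeomNormal {k S : Type u} [Field k] [CommRing S] [Algebra k S]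
    (h : EGA4.IsGeomNormal k S) (K : Type u) [Field K] [Algebra k K] :
    EGA4.IsNormalRing (K ⊗[k] S) := by
  refine (Groth.Agent.Lib.Helper22.NormalColim.isColim_tensor k K S).isNormalRing (fun T => ?_)
  exact Groth.Agent.Lib.Helper22.GeomFG.tensor_of_fg good_normal k
    ↥(IntermediateField.adjoin k (T : Set K)) S (fun k' _ _ hf _ => h k' hf)

variable {A B : Type u} [CommRing A] [CommRing B] [Algebra A B]

/-- Lemma FN': fibre over any field-valued point is normal. -/
theorem isNormalRing_tensor_field
    (hB : ∀ (p : Ideal A) [p.IsPrime], EGA4.IsGeomNormal p.ResidueField (p.Fiber B))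
    (F : Type u) [Field F] [Algebra A F] : EGA4.IsNormalRing (F ⊗[A] B) := by
  let q : Ideal A := RingHom.ker (algebraMap A F)
  haveI : q.IsPrime := RingHom.ker_isPrime _
  let φ : q.ResidueField →ₐ[A] F := kerLift F
  letI : Algebra q.ResidueField F := φ.toRingHom.toAlgebra
  haveI : IsScalarTower A q.ResidueField F :=
    IsScalarTower.of_algebraMap_eq (fun x => (φ.commutes x).symm)
  have h1 : EGA4.IsNormalRing (F ⊗[q.ResidueField] (q.Fiber B)) :=
    isNormalRing_tensor_of_isGeomNormal (hB q) F
  let e : F ⊗[q.ResidueField] (q.ResidueField ⊗[A] B) ≃ₐ[F] F ⊗[A] B :=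
    Algebra.TensorProduct.cancelBaseChange A q.ResidueField F F B
  exact good_normal.iso _ _ e.toRingEquiv h1

/-- normal homomorphisms are stable under arbitrary base change -/
theorem baseChange (h : EGA4.IsNormalHom A B) (A' : Type u) [CommRing A'] [Algebra A A'] :
    EGA4.IsNormalHom A' (A' ⊗[A] B) := by
  haveI : Module.Flat A B := h.1
  refine ⟨inferInstance, ?_⟩
  intro p' hp' k' _ _ hfin
  let K' := p'.ResidueField
  letI : Algebra A' k' := ((algebraMap K' k').comp (algebraMap A' K')).toAlgebra
  haveI : IsScalarTower A' K' k' := IsScalarTower.of_algebraMap_eq' rfl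
  letI : Algebra A k' := ((algebraMap A' k').comp (algebraMap A A')).toAlgebra
  haveI : IsScalarTower A A' k' := IsScalarTower.of_algebraMap_eq' rfl
  let e1 : k' ⊗[K'] (K' ⊗[A'] (A' ⊗[A] B)) ≃ₐ[k'] k' ⊗[A'] (A' ⊗[A] B) :=
    Algebra.TensorProduct.cancelBaseChange A' K' k' k' (A' ⊗[A] B)
  let e3 : k' ⊗[A'] (A' ⊗[A] B) ≃ₐ[k'] k' ⊗[A] B :=
    Algebra.TensorProduct.cancelBaseChange A A' k' k' B
  have h1 : EGA4.IsNormalRing (k' ⊗[A] B) := isNormalRing_tensor_field h.2 k'
  exact good_normal.iso _ _ (e1.trans e3).symm.toRingEquiv h1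

/-- normal homomorphisms descend along faithfully flat base change -/
theorem of_baseChange_faithfullyFlat (A' : Type u) [CommRing A'] [Algebra A A']
    [Module.FaithfullyFlat A A'] (h : EGA4.IsNormalHom A' (A' ⊗[A] B)) : EGA4.IsNormalHom A B := by
  haveI hfl : Module.Flat A' (A' ⊗[A] B) := h.1
  constructor
  · haveI : Module.Flat A (A' ⊗[A] B) := Module.Flat.trans A A' (A' ⊗[A] B)
    haveI : Module.Flat A (B ⊗[A] A') :=
      Module.Flat.of_linearEquiv (_root_.TensorProduct.comm A B A')
    exact Groth.Agent.Lib.Helper12.flat_of_flat_of_faithfullyFlat A B (B ⊗[A] A')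
  · intro p hp k' _ _ hfin
    let k := p.ResidueField
    letI : Algebra A k' := ((algebraMap k k').comp (algebraMap A k)).toAlgebra
    haveI : IsScalarTower A k k' := IsScalarTower.of_algebraMap_eq' rfl
    let R := A' ⊗[A] k'
    haveI : Nontrivial R := inferInstance
    obtain ⟨m, hm⟩ := Ideal.exists_maximal R
    letI : Field (R ⧸ m) := Ideal.Quotient.field m
    let F := R ⧸ m
    letI algk'F : Algebra k' F := ((Ideal.Quotient.mk m).comp
      (Algebra.TensorProduct.includeRight : k' →ₐ[A] R).toRingHom).toAlgebra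
    haveI : IsScalarTower A k' F := IsScalarTower.of_algebraMap_eq (fun a => by
      change Ideal.Quotient.mk m (algebraMap A R a) =
        Ideal.Quotient.mk m ((Algebra.TensorProduct.includeRight : k' →ₐ[A] R) (algebraMap A k' a))
      rw [AlgHom.commutes])
    letI algkF : Algebra k F := ((algebraMap k' F).comp (algebraMap k k')).toAlgebra
    haveI : IsScalarTower k k' F := IsScalarTower.of_algebraMap_eq' rfl
    haveI : IsScalarTower A k F := IsScalarTower.of_algebraMap_eq (fun a => by
      change algebraMap A F a = algebraMap k' F (algebraMap k k' (algebraMap A k a))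
      rw [← IsScalarTower.algebraMap_apply A k k', ← IsScalarTower.algebraMap_apply A k' F])
    have h1 : EGA4.IsNormalRing (F ⊗[A'] (A' ⊗[A] B)) := isNormalRing_tensor_field h.2 F
    let e1 : F ⊗[A'] (A' ⊗[A] B) ≃ₐ[F] F ⊗[A] B :=
      Algebra.TensorProduct.cancelBaseChange A A' F F B
    let e2 : F ⊗[k] (k ⊗[A] B) ≃ₐ[F] F ⊗[A] B :=
      Algebra.TensorProduct.cancelBaseChange A k F F B
    have h2 : EGA4.IsNormalRing (F ⊗[k] (p.Fiber B)) :=
      good_normal.iso _ _ (e1.trans e2.symm).toRingEquiv h1
    exact Groth.Agent.Lib.Helper22.GeomFG.descent good_normal k k' F (p.Fiber B) h2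

end Groth.Agent.Lib.Helper22.NormFib2
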