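import Mathlib
import Groth.Prelude.Def_EGA4b
import Groth.Agent.Lib.Helper22.NormFib2
import Groth.Agent.Lib.Helper12.HensFCC

/-!
# Formal fibres of a quotient of a Noetherian local ring
-/

set_option autoImplicit false
universe u
open TensorProduct IsLocalRing

namespace Groth.Agent.Lib.Helper22.FormalFibQuot

open Groth.Agent.Lib.Helper22.NormalGood

/-- transfer of geometric normality along an algebra isomorphism -/
theorem isGeomNormal_of_algEquiv {k S S' : Type u} [Field k] [CommRing S] [CommRing S']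
    [Algebra k S] [Algebra k S'] (e : S ≃ₐ[k] S') (h : EGA4.IsGeomNormal k S) :
    EGA4.IsGeomNormal k S' := by
  intro k' _ _ hfin
  exact good_normal.iso _ _
    (Algebra.TensorProduct.congr (AlgEquiv.refl (R := k) (A₁ := k')) e).toRingEquiv (h k' hfin)

/-- transfer of normal homomorphisms along an algebra isomorphism of the target -/
theorem isNormalHom_of_algEquiv {A B B' : Type u} [CommRing A] [CommRing B] [CommRing B']
    [Algebra A B] [Algebra A B'] (e : B ≃ₐ[A] B') (h : EGA4.IsNormalHom A B) :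
    EGA4.IsNormalHom A B' := by
  obtain ⟨hfl, hfib⟩ := h
  refine ⟨Module.Flat.of_linearEquiv e.symm.toLinearEquiv, ?_⟩
  intro p hp
  exact isGeomNormal_of_algEquiv
    (Algebra.TensorProduct.congr (AlgEquiv.refl (R := p.ResidueField) (A₁ := p.ResidueField))
      e) (hfib p)

open Groth.Agent.Lib.Helper12.HensFC in
/-- If `C` "is" the completion of the Noetherian local ring `B`, then the completion of `B/J`
is `C/JC`, as `B/J`-algebras. -/
theorem nonempty_complAlgEquiv_quotient (B C : Type u) [CommRing B] [CommRing C] [IsLocalRing B]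
    [IsLocalRing C] [IsNoetherianRing C] [IsAdicComplete (maximalIdeal C) C] [Algebra B C]
    (hm : (maximalIdeal B).map (algebraMap B C) = maximalIdeal C)
    (hinj : ∀ (n : ℕ) (b : B), algebraMap B C b ∈ maximalIdeal C ^ n → b ∈ maximalIdeal B ^ n)
    (hsurj : ∀ (n : ℕ) (c : C), ∃ b : B, c - algebraMap B C b ∈ maximalIdeal C ^ n)
    (J : Ideal B) [IsLocalRing (B ⧸ J)] :
    Nonempty (AdicCompletion (maximalIdeal (B ⧸ J)) (B ⧸ J) ≃ₐ[B ⧸ J]
      (C ⧸ J.map (algebraMap B C))) := by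
  set φ : B →+* C := algebraMap B C with hφdef
  have hJtop : J ≠ ⊤ := by
    intro h
    have : Nontrivial (B ⧸ J) := inferInstance
    rw [Ideal.Quotient.nontrivial_iff] at this
    exact this h
  have hJm : J ≤ maximalIdeal B := le_maximalIdeal hJtop
  have hJC : J.map φ ≤ maximalIdeal C := by
    rw [← hm]; exact Ideal.map_mono hJm
  haveI : Nontrivial (C ⧸ J.map φ) := Ideal.Quotient.nontrivial_iff.2 (fun h => by
    rw [h] at hJC
    exact (maximalIdeal.isMaximal C).ne_top (top_le_iff.1 hJC))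
  haveI hQloc : IsLocalRing (C ⧸ J.map φ) :=
    IsLocalRing.of_surjective' (Ideal.Quotient.mk _) Ideal.Quotient.mk_surjective
  have hmQ : (maximalIdeal C).map (algebraMap C (C ⧸ J.map φ)) = maximalIdeal (C ⧸ J.map φ) :=
    Groth.Agent.Lib.Helper21.DepthKit.map_maximalIdeal_of_surjective Ideal.Quotient.mk_surjective
  have hmBJ : (maximalIdeal B).map (algebraMap B (B ⧸ J)) = maximalIdeal (B ⧸ J) :=
    Groth.Agent.Lib.Helper21.DepthKit.map_maximalIdeal_of_surjective Ideal.Quotient.mk_surjective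
  haveI hcompl : IsAdicComplete (maximalIdeal (C ⧸ J.map φ)) (C ⧸ J.map φ) := by
    have h1 : IsAdicComplete (maximalIdeal C) (C ⧸ J.map φ) :=
      Groth.Agent.S3866.result C (maximalIdeal C) (C ⧸ J.map φ)
    rw [← hmQ]
    haveI : IsHausdorff ((maximalIdeal C).map (algebraMap C (C ⧸ J.map φ))) (C ⧸ J.map φ) :=
      (IsHausdorff.map_algebraMap_iff (I := maximalIdeal C) (S := C ⧸ J.map φ)
        (M := C ⧸ J.map φ)).2 h1.toIsHausdorff
    haveI : IsPrecomplete ((maximalIdeal C).map (algebraMap C (C ⧸ J.map φ))) (C ⧸ J.map φ) :=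
      (IsPrecomplete.map_algebraMap_iff (I := maximalIdeal C) (S := C ⧸ J.map φ)
        (M := C ⧸ J.map φ)).2 h1.toIsPrecomplete
    exact {}
  have hφbar : ∀ b : B, algebraMap (B ⧸ J) (C ⧸ J.map φ) (Ideal.Quotient.mk J b) =
      Ideal.Quotient.mk (J.map φ) (φ b) := fun b => rfl
  have hpowQ : ∀ n : ℕ, maximalIdeal (C ⧸ J.map φ) ^ n =
      (maximalIdeal C ^ n).map (Ideal.Quotient.mk (J.map φ)) := by
    intro n
    rw [Ideal.map_pow]
    congr 1
    exact hmQ.symm
  have hpowBJ : ∀ n : ℕ, maximalIdeal (B ⧸ J) ^ n =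
      (maximalIdeal B ^ n).map (Ideal.Quotient.mk J) := by
    intro n
    rw [Ideal.map_pow]
    congr 1
    exact hmBJ.symm
  have hφpow : ∀ (n : ℕ) (b : B), b ∈ maximalIdeal B ^ n → φ b ∈ maximalIdeal C ^ n := by
    intro n b hb
    have := Ideal.mem_map_of_mem φ hb
    rwa [Ideal.map_pow, hm] at this
  suffices hE : Nonempty (AdicCompletion (maximalIdeal (B ⧸ J)) (B ⧸ J) ≃ₐ[B ⧸ J]
      AdicCompletion (maximalIdeal (C ⧸ J.map φ)) (C ⧸ J.map φ)) by
    obtain ⟨e⟩ := hE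
    let e2 : (C ⧸ J.map φ) ≃ₐ[B ⧸ J] AdicCompletion (maximalIdeal (C ⧸ J.map φ)) (C ⧸ J.map φ) :=
      AlgEquiv.ofRingEquiv (f := (AdicCompletion.ofAlgEquiv
        (maximalIdeal (C ⧸ J.map φ))).toRingEquiv) (fun x => rfl)
    exact ⟨e.trans e2.symm⟩
  refine Groth.Agent.Lib.Helper5.ComplIso.complEquiv (R := B ⧸ J)
    (Algebra.ofId (B ⧸ J) (C ⧸ J.map φ)) (maximalIdeal (B ⧸ J)) (maximalIdeal (C ⧸ J.map φ))
    ?_ ?_ ?_
  · intro n x hx
    rw [hpowBJ] at hx
    obtain ⟨b, hb, rfl⟩ := (Ideal.mem_map_iff_of_surjective _ Ideal.Quotient.mk_surjective).1 hx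
    rw [Ideal.mem_comap, hpowQ]
    show algebraMap (B ⧸ J) (C ⧸ J.map φ) (Ideal.Quotient.mk J b) ∈ _
    rw [hφbar]
    exact Ideal.mem_map_of_mem _ (hφpow n b hb)
  · intro n x hx
    obtain ⟨b, rfl⟩ := Ideal.Quotient.mk_surjective x
    have hx' : Ideal.Quotient.mk (J.map φ) (φ b) ∈ maximalIdeal (C ⧸ J.map φ) ^ n := hx
    rw [hpowQ] at hx'
    obtain ⟨c, hc, hcb⟩ := (Ideal.mem_map_iff_of_surjective _ Ideal.Quotient.mk_surjective).1 hx'
    have h1 : φ b - c ∈ J.map φ := by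
      rw [← Ideal.Quotient.eq]; exact hcb.symm
    obtain ⟨j, hj, hjN⟩ := exists_sub_mem_of_mem_map φ (maximalIdeal C ^ n) (hsurj n) J _ h1
    have h2 : φ (b - j) ∈ maximalIdeal C ^ n := by
      have := (maximalIdeal C ^ n).add_mem hjN hc
      rw [map_sub]
      convert this using 1
      ring
    have h3 := hinj n _ h2
    rw [hpowBJ]
    have h4 : Ideal.Quotient.mk J b = Ideal.Quotient.mk J (b - j) := by
      rw [map_sub, Ideal.Quotient.eq_zero_iff_mem.2 hj, sub_zero]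
    rw [h4]
    exact Ideal.mem_map_of_mem _ h3
  · intro n s
    obtain ⟨c, rfl⟩ := Ideal.Quotient.mk_surjective s
    obtain ⟨b, hb⟩ := hsurj n c
    refine ⟨Ideal.Quotient.mk J b, ?_⟩
    show Ideal.Quotient.mk (J.map φ) c -
      algebraMap (B ⧸ J) (C ⧸ J.map φ) (Ideal.Quotient.mk J b) ∈ _
    rw [hφbar, ← map_sub, hpowQ]
    exact Ideal.mem_map_of_mem _ hb

/-- the completion of `A/I` as an `A/I`-algebra is `(A/I) ⊗_A Â` -/
theorem nonempty_tensor_cpl_algEquiv (A : Type u) [CommRing A] [IsNoetherianRing A] [IsLocalRing A]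
    (I : Ideal A) [IsLocalRing (A ⧸ I)] :
    Nonempty (((A ⧸ I) ⊗[A] EGA4.Cpl A) ≃ₐ[A ⧸ I] EGA4.Cpl (A ⧸ I)) := by
  haveI : IsNoetherianRing (EGA4.Cpl A) :=
    Groth.Agent.Lib.helper19.isNoetherianRing_adicCompletion A (IsLocalRing.maximalIdeal A)
  obtain ⟨hm1, hi1, hs1⟩ := Groth.Agent.Lib.Helper12.HensFC.level_hat A
  obtain ⟨e⟩ := nonempty_complAlgEquiv_quotient A (EGA4.Cpl A) hm1 hi1 hs1 I
  exact ⟨(Algebra.TensorProduct.quotIdealMapEquivQuotTensor (EGA4.Cpl A) I).symm.trans e.symm⟩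

/-- **Formal fibres of a quotient**: geometric normality. -/
theorem hasGeomNormalFormalFibres_quotient (A : Type u) [CommRing A] [IsNoetherianRing A]
    [IsLocalRing A] (hA : EGA4.HasGeomNormalFormalFibres A) (I : Ideal A) [IsLocalRing (A ⧸ I)] :
    EGA4.HasGeomNormalFormalFibres (A ⧸ I) := by
  haveI : Module.Flat A (EGA4.Cpl A) := AdicCompletion.flat_of_isNoetherian _
  have h0 : EGA4.IsNormalHom A (EGA4.Cpl A) := ⟨inferInstance, hA⟩
  have h1 := Groth.Agent.Lib.Helper22.NormFib2.baseChange h0 (A ⧸ I)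
  obtain ⟨e⟩ := nonempty_tensor_cpl_algEquiv A I
  exact (isNormalHom_of_algEquiv e h1).2

end Groth.Agent.Lib.Helper22.FormalFibQuot
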