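import Mathlib
import Groth.Prelude.Def_CAlg2
import Groth.Prelude.Def_Brnch
import Groth.Agent.S2731
import Groth.Agent.S9235

/-!
# One geometric branch iff geometrically unibranch
-/

set_option autoImplicit false
set_option linter.style.haveILetI false
set_option linter.unusedSectionVars false
universe u

namespace Groth.Agent.Lib.Helper22.GeomBranchOne

open IsLocalRing

/-- abstract version: embeddings of an integral residue extension -/
theorem emb_abstract (A : Type u) [CommRing A] [IsLocalRing A] (F : Type u) [Field F] (t : A →+* F)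
    (hker : ∀ a ∈ maximalIdeal A, t a = 0) (hint : t.IsIntegral) :
    Nonempty {σ : F →+* AlgebraicClosure (ResidueField A) // σ.comp t = Brnch.toClosure A} ∧
    (Subsingleton {σ : F →+* AlgebraicClosure (ResidueField A) // σ.comp t = Brnch.toClosure A} ↔
      ∀ x : F, ∃ n : ℕ, x ^ (ringExpChar F) ^ n ∈ t.range) := by
  let g : ResidueField A →+* F := Ideal.Quotient.lift (maximalIdeal A) t hker
  letI : Algebra (ResidueField A) F := g.toAlgebra
  have hg : ∀ a : A, algebraMap (ResidueField A) F (residue A a) = t a := fun a => rfl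
  letI : Algebra A F := t.toAlgebra
  haveI : IsScalarTower A (ResidueField A) F :=
    IsScalarTower.of_algebraMap_eq (fun a => rfl)
  haveI : Algebra.IsIntegral A F := ⟨hint⟩
  haveI : Algebra.IsIntegral (ResidueField A) F :=
    Algebra.IsIntegral.tower_top (R := A) (S := ResidueField A)
  haveI : Algebra.IsAlgebraic (ResidueField A) F :=
    Algebra.IsIntegral.isAlgebraic
  -- embeddings are algebra maps
  let ε : {σ : F →+* AlgebraicClosure (ResidueField A) // σ.comp t = Brnch.toClosure A} ≃
      (F →ₐ[ResidueField A] AlgebraicClosure (ResidueField A)) :=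
    { toFun := fun σ =>
        { toRingHom := σ.1
          commutes' := fun c => by
            obtain ⟨a, rfl⟩ := residue_surjective c
            exact congr($(σ.2) a) }
      invFun := fun τ => ⟨τ.toRingHom, RingHom.ext fun a => τ.commutes (residue A a)⟩
      left_inv := fun σ => rfl
      right_inv := fun τ => rfl }
  refine ⟨⟨ε.symm IsAlgClosed.lift⟩, ?_⟩
  haveI : ExpChar F (ringExpChar F) := ringExpChar.expChar _
  haveI : ExpChar (ResidueField A) (ringExpChar F) :=
    RingHom.expChar (algebraMap (ResidueField A) F) (RingHom.injective _) _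
  have hrange : (algebraMap (ResidueField A) F).range = t.range := by
    ext y
    constructor
    · rintro ⟨c, rfl⟩
      obtain ⟨a, rfl⟩ := residue_surjective c
      exact ⟨a, rfl⟩
    · rintro ⟨a, rfl⟩
      exact ⟨residue A a, rfl⟩
  rw [← hrange, ← isPurelyInseparable_iff_pow_mem (ResidueField A) (ringExpChar F),
    isPurelyInseparable_iff_finSepDegree_eq_one,
    Field.finSepDegree_eq_of_isAlgClosed (ResidueField A) F
      (AlgebraicClosure (ResidueField A)), Nat.card_eq_one_iff_unique, ε.subsingleton_congr]
  constructor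
  · intro h
    exact ⟨h, ⟨IsAlgClosed.lift⟩⟩
  · intro h
    exact h.1

variable (A : Type u) [CommRing A] [IsLocalRing A] (m' : MaximalSpectrum (CAlg2.normRed A))

/-- embeddings exist, and they are unique iff the residue field extension is radicial -/
theorem emb_facts : Nonempty (Brnch.Emb A m') ∧
    (Subsingleton (Brnch.Emb A m') ↔ ∀ x : CAlg2.normRed A ⧸ m'.asIdeal,
      ∃ n : ℕ, x ^ (ringExpChar (CAlg2.normRed A ⧸ m'.asIdeal)) ^ n ∈ (Brnch.toResidue A m').range) := by
  haveI := m'.isMaximal
  exact @emb_abstract A _ _ (CAlg2.normRed A ⧸ m'.asIdeal) (Ideal.Quotient.field m'.asIdeal)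
    (Brnch.toResidue A m') (Groth.Agent.S2731.toRes_ker A m'.asIdeal)
    (Groth.Agent.S2731.toRes_isIntegral A m'.asIdeal)

end Groth.Agent.Lib.Helper22.GeomBranchOne

namespace Groth.Agent.Lib.Helper22.GeomBranchOne

theorem main (A : Type u) [CommRing A] [IsLocalRing A] :
    Brnch.numGeomBranches A = 1 ↔ CAlg2.IsGeomUnibranch A := by
  classical
  constructor
  · intro h
    unfold Brnch.numGeomBranches at h
    by_cases hfin : (minimalPrimes A).Finite
    · rw [if_pos hfin] at h
      obtain ⟨hu⟩ := ENat.card_eq_one_iff_unique.1 h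
      have hsub : Subsingleton (MaximalSpectrum (CAlg2.normRed A)) := by
        constructor
        intro m1 m2
        obtain ⟨e1⟩ := (emb_facts A m1).1
        obtain ⟨e2⟩ := (emb_facts A m2).1
        have h1 := hu.uniq ⟨m1, e1⟩
        have h2 := hu.uniq ⟨m2, e2⟩
        exact congrArg Sigma.fst (h1.trans h2.symm)
      have hnb : Brnch.numBranches A = 1 := by
        unfold Brnch.numBranches
        rw [if_pos hfin, ENat.card_eq_one_iff_unique]
        exact ⟨{ default := hu.default.1, uniq := fun m => Subsingleton.elim _ _ }⟩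
      have huni := (Groth.Agent.S9235.result A).1 hnb
      refine ⟨huni, ?_⟩
      intro m' hm'
      refine (emb_facts A ⟨m', hm'⟩).2.1 ?_
      constructor
      intro e1 e2
      have h12 := (hu.uniq ⟨⟨m', hm'⟩, e1⟩).trans (hu.uniq ⟨⟨m', hm'⟩, e2⟩).symm
      exact eq_of_heq (Sigma.mk.inj h12).2
    · rw [if_neg hfin] at h
      exact absurd h (by simp)
  · rintro ⟨huni, hrad⟩
    have hnb := (Groth.Agent.S9235.result A).2 huni
    unfold Brnch.numBranches at hnb
    by_cases hfin : (minimalPrimes A).Finite
    · rw [if_pos hfin] at hnb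
      unfold Brnch.numGeomBranches
      rw [if_pos hfin]
      obtain ⟨hu⟩ := ENat.card_eq_one_iff_unique.1 hnb
      rw [ENat.card_eq_one_iff_unique]
      have hsub : Subsingleton (Brnch.Emb A hu.default) :=
        (emb_facts A hu.default).2.2 (@hrad hu.default.asIdeal hu.default.isMaximal)
      obtain ⟨e0⟩ := (emb_facts A hu.default).1
      refine ⟨{ default := ⟨hu.default, e0⟩, uniq := ?_ }⟩
      rintro ⟨m, e⟩
      obtain rfl := hu.uniq m
      congr
      exact Subsingleton.elim _ _
    · rw [if_neg hfin] at hnb
      exact absurd hnb (by simp)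

end Groth.Agent.Lib.Helper22.GeomBranchOne
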