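import Mathlib
import Groth.Prelude.Def_EGA4b
import Groth.Agent.Lib.Helper22.NormFib2
import Groth.Agent.Lib.Helper22.FormalFibQuot
import Groth.Agent.Lib.Helper21.NormalKit
import Groth.Agent.Lib.helper19.CompletionNoetherian
import Groth.Agent.S2611

/-!
# `A_{1+J}` versus the `J`-adic completion (helper22)
-/

set_option autoImplicit false
set_option linter.style.haveILetI false
set_option linter.unusedSectionVars false
universe u
open TensorProduct IsLocalRing

namespace Groth.Agent.Lib.Helper22.CplOnePlus

open Groth.Agent.Lib.Helper21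

/-- ascent of normality along normal homomorphisms of Noetherian rings -/
theorem isNormalRing_of_isNormalHom (A B : Type u) [CommRing A] [CommRing B] [IsNoetherianRing A]
    [IsNoetherianRing B] [Algebra A B] (h : EGA4.IsNormalHom A B) (hA : EGA4.IsNormalRing A) :
    EGA4.IsNormalRing B := by
  haveI := h.1
  intro q hq
  obtain ⟨h1, h2⟩ := hA (q.comap (algebraMap A B))
  haveI := h1
  haveI := h2
  apply Groth.Agent.S2611.result A B _ q
  intro q' hq'
  obtain ⟨Q, hQ, hQq⟩ := FlatLocal.exists_fiber_prime (q'.under A) q' rfl
  exact NormalKit.fibLocRing_normal_of_fiber (q'.under A) Q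
    (NormalKit.isNormalRing_of_isGeomNormal _ _ (h.2 (q'.under A))) q' hQq

/-- change of source along a localization for normal homomorphisms -/
theorem isNormalHom_of_isLocalization_source (A C A' : Type u) [CommRing A] [CommRing C]
    [CommRing A'] [Algebra A C] [Algebra A A'] [Algebra A' C] [IsScalarTower A A' C]
    (S : Submonoid A) [IsLocalization S A'] (h : EGA4.IsNormalHom A C) :
    EGA4.IsNormalHom A' C := by
  haveI : IsLocalization (Algebra.algebraMapSubmonoid C S) C := by
    apply IsLocalization.self
    rintro _ ⟨s, hs, rfl⟩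
    rw [IsScalarTower.algebraMap_apply A A' C]
    exact (IsLocalization.map_units A' ⟨s, hs⟩).map _
  have hp : Algebra.IsPushout A C A' C := Algebra.isPushout_of_isLocalization S A' C C
  have hp' : Algebra.IsPushout A A' C C := hp.symm
  let e : A' ⊗[A] C ≃ₐ[A'] C := Algebra.IsPushout.equiv A A' C C
  exact Groth.Agent.Lib.Helper22.FormalFibQuot.isNormalHom_of_algEquiv e
    (Groth.Agent.Lib.Helper22.NormFib2.baseChange h A')

section Setup

variable (A : Type u) [CommRing A] [IsNoetherianRing A] (J : Ideal A)
  (T : Submonoid A) (hT : T = MonoidHom.mker (Ideal.Quotient.mk J))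

include hT in
theorem sub_one_mem {t : A} (ht : t ∈ T) : t - 1 ∈ J := by
  subst hT
  rw [MonoidHom.mem_mker] at ht
  rw [← Ideal.Quotient.eq_zero_iff_mem, map_sub, map_one, sub_eq_zero]
  exact ht

include hT in
theorem mem_of_sub_one_mem {t : A} (ht : t - 1 ∈ J) : t ∈ T := by
  subst hT
  rw [MonoidHom.mem_mker]
  rw [← Ideal.Quotient.eq_zero_iff_mem, map_sub, map_one, sub_eq_zero] at ht
  exact ht

include hT in
/-- elements of `1 + J` become units in the completion -/
theorem isUnit_algebraMap {t : A} (ht : t ∈ T) :
    IsUnit (algebraMap A (AdicCompletion J A) t) := by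
  have hfg : J.FG := IsNoetherian.noetherian J
  haveI hcomp := AdicCompletion.isAdicComplete_self J hfg
  have h1 : algebraMap A (AdicCompletion J A) (t - 1) ∈
      Ideal.jacobson (⊥ : Ideal (AdicCompletion J A)) :=
    IsAdicComplete.le_jacobson_bot _ (Ideal.mem_map_of_mem _ (sub_one_mem A J T hT ht))
  have h2 := Ideal.mem_jacobson_bot.mp h1 1
  rw [mul_one, map_sub, map_one, sub_add_cancel] at h2
  exact h2

/-- the algebra structure of the completion over `A_{1+J}` -/
@[instance_reducible]
noncomputable def algebraLoc : Algebra (Localization T) (AdicCompletion J A) :=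
  (IsLocalization.lift (M := T) (g := algebraMap A (AdicCompletion J A))
    (fun t => isUnit_algebraMap A J T hT t.2)).toAlgebra

theorem isScalarTower_loc :
    letI := algebraLoc A J T hT
    IsScalarTower A (Localization T) (AdicCompletion J A) := by
  letI := algebraLoc A J T hT
  refine IsScalarTower.of_algebraMap_eq (fun x => ?_)
  exact (IsLocalization.lift_eq (M := T) (g := algebraMap A (AdicCompletion J A))
    (fun t => isUnit_algebraMap A J T hT t.2) x).symm

theorem flat_loc :
    letI := algebraLoc A J T hT
    Module.Flat (Localization T) (AdicCompletion J A) := by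
  letI := algebraLoc A J T hT
  haveI := isScalarTower_loc A J T hT
  haveI : Module.Flat A (AdicCompletion J A) := AdicCompletion.flat_of_isNoetherian J
  exact (Module.flat_iff_of_isLocalization (Localization T) T (AdicCompletion J A)).mpr
    inferInstance

/-- a maximal ideal of `A` containing `J` extends to a proper ideal of the completion -/
theorem map_ne_top_of_le (n : Ideal A) [hn : n.IsMaximal] (hJn : J ≤ n) :
    n.map (algebraMap A (AdicCompletion J A)) ≠ ⊤ := by
  let φ : AdicCompletion J A →+* A ⧸ n :=
    (Ideal.Quotient.factor hJn).comp (AdicCompletion.evalOneₐ J).toRingHom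
  have hφ : φ.comp (algebraMap A (AdicCompletion J A)) = Ideal.Quotient.mk n := by
    ext x
    simp only [φ, RingHom.comp_apply]
    have := RingHom.congr_fun (AdicCompletion.evalOneₐ_comp_algebraMap_eq_mk J) x
    simp only [RingHom.comp_apply] at this
    rw [this, Ideal.Quotient.factor_mk]
  intro htop
  have hle : n.map (algebraMap A (AdicCompletion J A)) ≤ RingHom.ker φ := by
    rw [Ideal.map_le_iff_le_comap]
    intro x hx
    rw [Ideal.mem_comap, RingHom.mem_ker, ← RingHom.comp_apply, hφ]
    exact Ideal.Quotient.eq_zero_iff_mem.mpr hx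
  rw [htop, top_le_iff] at hle
  exact (RingHom.ker_ne_top φ) hle

theorem faithfullyFlat_loc :
    letI := algebraLoc A J T hT
    Module.FaithfullyFlat (Localization T) (AdicCompletion J A) := by
  letI := algebraLoc A J T hT
  haveI := isScalarTower_loc A J T hT
  haveI := flat_loc A J T hT
  refine ⟨fun m hm htop => ?_⟩
  rw [Ideal.smul_top_eq_map] at htop
  have htop' : m.map (algebraMap (Localization T) (AdicCompletion J A)) = ⊤ := by
    simpa using htop
  let m0 := m.comap (algebraMap A (Localization T))
  have hm0 : m0.map (algebraMap A (Localization T)) = m := IsLocalization.map_under T _ m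
  have hdisj : Disjoint (T : Set A) (m0 : Set A) := by
    rw [Set.disjoint_left]
    intro t ht htm
    exact hm.ne_top (Ideal.eq_top_of_isUnit_mem _ htm (IsLocalization.map_units _ ⟨t, ht⟩))
  -- m0 + J is proper
  have hne : m0 ⊔ J ≠ ⊤ := by
    intro h
    obtain ⟨x, hx, j, hj, hxj⟩ := Submodule.mem_sup.mp ((Ideal.eq_top_iff_one _).mp h)
    have hxT : x ∈ T := mem_of_sub_one_mem A J T hT (by
      have : x - 1 = -j := by rw [← hxj]; ring
      rw [this]; exact J.neg_mem hj)
    exact Set.disjoint_left.mp hdisj hxT hx
  obtain ⟨n, hn, hle⟩ := Ideal.exists_le_maximal _ hne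
  haveI := hn
  have hJn : J ≤ n := le_sup_right.trans hle
  have hm0n : m0 ≤ n := le_sup_left.trans hle
  apply map_ne_top_of_le A J n hJn
  rw [eq_top_iff, ← htop', ← hm0, Ideal.map_map, ← IsScalarTower.algebraMap_eq]
  exact Ideal.map_mono hm0n

end Setup

section Main

variable (A : Type u) [CommRing A] [IsNoetherianRing A] (J : Ideal A)
  (T : Submonoid A) (hT : T = MonoidHom.mker (Ideal.Quotient.mk J))

include hT in
theorem isNormalHom_loc (hf : EGA4.IsNormalHom A (AdicCompletion J A)) :
    letI := algebraLoc A J T hT
    EGA4.IsNormalHom (Localization T) (AdicCompletion J A) := by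
  letI := algebraLoc A J T hT
  haveI := isScalarTower_loc A J T hT
  exact isNormalHom_of_isLocalization_source A _ (Localization T) T hf

include hT in
theorem isNormalRing_loc_iff (hf : EGA4.IsNormalHom A (AdicCompletion J A)) :
    EGA4.IsNormalRing (Localization T) ↔ EGA4.IsNormalRing (AdicCompletion J A) := by
  letI := algebraLoc A J T hT
  haveI := isScalarTower_loc A J T hT
  haveI := faithfullyFlat_loc A J T hT
  haveI : IsNoetherianRing (Localization T) := IsLocalization.isNoetherianRing T _ inferInstance
  haveI : IsNoetherianRing (AdicCompletion J A) :=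
    Groth.Agent.Lib.helper19.isNoetherianRing_adicCompletion A J
  have hN := isNormalHom_loc A J T hT hf
  exact ⟨fun h => isNormalRing_of_isNormalHom _ _ hN h,
    fun h => NormalKit.isNormalRing_of_faithfullyFlat h⟩

end Main

end Groth.Agent.Lib.Helper22.CplOnePlus
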