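import Mathlib
import Groth.Prelude.Def_EGA4b
import Groth.Agent.Lib.Helper9.NormalLoc
import Groth.Agent.Lib.Helper22.CplOnePlus
import Groth.Agent.Lib.Helper12.PairCRT
import Groth.Agent.Lib.Helper12.HenselConnected

set_option autoImplicit false
set_option linter.style.haveILetI false
set_option linter.unusedSectionVars false
universe u
open TensorProduct IsLocalRing

namespace Groth.Agent.Lib.Helper22.CplOnePlus

/-- an integrally closed domain is a normal ring -/
theorem isNormalRing_of_isIntegrallyClosed (R : Type u) [CommRing R] [IsDomain R]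
    [IsIntegrallyClosed R] : EGA4.IsNormalRing R := by
  intro p hp
  exact ⟨inferInstance, isIntegrallyClosed_of_isLocalization (Localization.AtPrime p)
    p.primeCompl p.primeCompl_le_nonZeroDivisors⟩

/-- a normal domain is integrally closed -/
theorem isIntegrallyClosed_of_isNormalRing (R : Type u) [CommRing R] [IsDomain R]
    (h : EGA4.IsNormalRing R) : IsIntegrallyClosed R :=
  IsIntegrallyClosed.of_localization_maximal (fun p _ _ => (h p).2)

/-- in a connected spectrum the idempotents are trivial -/
theorem eq_zero_or_one_of_connectedSpace (R : Type u) [CommRing R]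
    [ConnectedSpace (PrimeSpectrum R)] (e : R) (he : IsIdempotentElem e) : e = 0 ∨ e = 1 := by
  have hcl : IsClopen ((PrimeSpectrum.basicOpen e : Set (PrimeSpectrum R))) :=
    PrimeSpectrum.isClopen_iff.mpr ⟨e, he, rfl⟩
  rcases isClopen_iff.mp hcl with h | h
  · left
    refine PrimeSpectrum.basicOpen_injOn_isIdempotentElem he IsIdempotentElem.zero ?_
    ext x
    simp only [PrimeSpectrum.basicOpen_zero]
    constructor
    · intro hx
      have : x ∈ (PrimeSpectrum.basicOpen e : Set (PrimeSpectrum R)) := hx
      rw [h] at this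
      exact this.elim
    · intro hx; exact hx.elim
  · right
    refine PrimeSpectrum.basicOpen_injOn_isIdempotentElem he IsIdempotentElem.one ?_
    ext x
    simp only [PrimeSpectrum.basicOpen_one]
    constructor
    · intro _; trivial
    · intro _
      have : x ∈ (PrimeSpectrum.basicOpen e : Set (PrimeSpectrum R)) := by rw [h]; trivial
      exact this

/-- distinct minimal primes of a normal ring are comaximal -/
theorem sup_eq_top_of_minimalPrimes (R : Type u) [CommRing R] (h : EGA4.IsNormalRing R)
    {p q : Ideal R} (hp : p ∈ minimalPrimes R) (hq : q ∈ minimalPrimes R) (hne : p ≠ q) :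
    p ⊔ q = ⊤ := by
  by_contra htop
  obtain ⟨m, hm, hle⟩ := Ideal.exists_le_maximal _ htop
  haveI := hm
  haveI := (h m).1
  let P0 : Ideal R := (⊥ : Ideal (Localization.AtPrime m)).comap
    (algebraMap R (Localization.AtPrime m))
  haveI : P0.IsPrime := Ideal.comap_isPrime _ _
  have key : ∀ p' : Ideal R, p'.IsPrime → p' ≤ m → P0 ≤ p' := by
    intro p' hp' hle' r hr
    have hr0 : algebraMap R (Localization.AtPrime m) r = 0 := hr
    obtain ⟨s, hs⟩ := (IsLocalization.map_eq_zero_iff m.primeCompl _ r).mp hr0
    have hmem : (s : R) * r ∈ p' := by rw [hs]; exact p'.zero_mem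
    rcases hp'.mem_or_mem hmem with h1 | h1
    · exact (s.2 (hle' h1)).elim
    · exact h1
  have hpm : p ≤ m := le_sup_left.trans hle
  have hqm : q ≤ m := le_sup_right.trans hle
  have h1 : p ≤ P0 := hp.2 ⟨inferInstance, bot_le⟩ (key p hp.1.1 hpm)
  have h2 : q ≤ P0 := hq.2 ⟨inferInstance, bot_le⟩ (key q hq.1.1 hqm)
  exact hne (le_antisymm (h1.trans (key q hq.1.1 hqm)) (h2.trans (key p hp.1.1 hpm)))

/-- a Noetherian normal ring with connected spectrum is a domain -/
theorem isDomain_of_isNormalRing_of_connectedSpace (R : Type u) [CommRing R] [IsNoetherianRing R]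
    (h : EGA4.IsNormalRing R) [ConnectedSpace (PrimeSpectrum R)] : IsDomain R := by
  haveI : Nontrivial R := by
    by_contra hnt
    rw [not_nontrivial_iff_subsingleton] at hnt
    exact (inferInstance : IsEmpty (PrimeSpectrum R)).false (Classical.arbitrary _)
  haveI : IsReduced R := Groth.Agent.Lib.Helper9.NormalLoc.isReduced_of_isNormalRing h
  have hfin : (minimalPrimes R).Finite := minimalPrimes.finite_of_isNoetherianRing R
  obtain ⟨m, hm⟩ := Ideal.exists_maximal R
  obtain ⟨p, hp, -⟩ := Ideal.exists_minimalPrimes_le (I := ⊥) (J := m) bot_le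
  have hp' : p ∈ minimalPrimes R := hp
  haveI := hp.1.1
  -- the complement of V(p) is a finite union of closed sets
  have hcompl : (PrimeSpectrum.zeroLocus (p : Set R))ᶜ =
      ⋃ q ∈ {q | q ∈ minimalPrimes R ∧ q ≠ p}, PrimeSpectrum.zeroLocus (q : Set R) := by
    ext x
    simp only [Set.mem_compl_iff, PrimeSpectrum.mem_zeroLocus, SetLike.coe_subset_coe,
      Set.mem_iUnion, Set.mem_ofPred_eq, exists_prop]
    constructor
    · intro hx
      obtain ⟨q, hq, hqx⟩ := Ideal.exists_minimalPrimes_le (I := ⊥) (J := x.asIdeal) bot_le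
      refine ⟨q, ⟨hq, ?_⟩, hqx⟩
      rintro rfl
      exact hx hqx
    · rintro ⟨q, ⟨hq, hne⟩, hqx⟩ hpx
      have htop := sup_eq_top_of_minimalPrimes R h hp' hq (Ne.symm hne)
      exact x.2.ne_top (top_le_iff.mp (htop ▸ sup_le hpx hqx))
  have hopen : IsOpen (PrimeSpectrum.zeroLocus (p : Set R)) := by
    rw [← isClosed_compl_iff, hcompl]
    refine Set.Finite.isClosed_biUnion (hfin.subset (fun q hq => hq.1)) ?_
    intro q _
    exact PrimeSpectrum.isClosed_zeroLocus _
  have hclopen : IsClopen (PrimeSpectrum.zeroLocus (p : Set R)) :=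
    ⟨PrimeSpectrum.isClosed_zeroLocus _, hopen⟩
  have huniv : PrimeSpectrum.zeroLocus (p : Set R) = Set.univ := by
    rcases isClopen_iff.mp hclopen with h0 | h1
    · exfalso
      have : (⟨p, inferInstance⟩ : PrimeSpectrum R) ∈ PrimeSpectrum.zeroLocus (p : Set R) := by
        simp
      rw [h0] at this
      exact this
    · exact h1
  have hbot : p = ⊥ := by
    rw [eq_bot_iff]
    have hnil : nilradical R = ⊥ := nilradical_eq_zero R
    rw [← hnil, nilradical_eq_sInf]
    refine le_sInf ?_
    intro q hq
    have : (⟨q, hq⟩ : PrimeSpectrum R) ∈ PrimeSpectrum.zeroLocus (p : Set R) := by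
      rw [huniv]; trivial
    simpa using this
  haveI : (⊥ : Ideal R).IsPrime := hbot ▸ hp.1.1
  exact IsDomain.of_bot_isPrime R

section Idem

variable (A : Type u) [CommRing A] [IsNoetherianRing A] (J : Ideal A)

/-- an idempotent in the Jacobson radical is zero -/
theorem eq_zero_of_isIdempotentElem_of_mem_jacobson {R : Type u} [CommRing R] {e : R}
    (he : IsIdempotentElem e) (hmem : e ∈ Ideal.jacobson (⊥ : Ideal R)) : e = 0 := by
  have h1 := Ideal.mem_jacobson_bot.mp hmem (-1)
  have h2 : e * (e * -1 + 1) = 0 := by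
    have := he.eq
    linear_combination -this
  exact (h1.mul_left_eq_zero).mp h2

/-- the completion has connected spectrum if `A ⧸ J` has -/
theorem connectedSpace_adicCompletion [ConnectedSpace (PrimeSpectrum (A ⧸ J))] :
    ConnectedSpace (PrimeSpectrum (AdicCompletion J A)) := by
  have hfg : J.FG := IsNoetherian.noetherian J
  haveI hcomp := AdicCompletion.isAdicComplete_self J hfg
  haveI : Nontrivial (A ⧸ J) := by
    by_contra hnt
    rw [not_nontrivial_iff_subsingleton] at hnt
    exact (inferInstance : IsEmpty (PrimeSpectrum (A ⧸ J))).false (Classical.arbitrary _)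
  haveI : Nontrivial (AdicCompletion J A) :=
    (AdicCompletion.evalOneₐ J).toRingHom.domain_nontrivial
  apply Groth.Agent.Lib.Helper12.connectedSpace_primeSpectrum_of_idempotents
  intro e he
  have hker : ∀ x : AdicCompletion J A, AdicCompletion.evalOneₐ J x = 0 →
      x ∈ Ideal.jacobson (⊥ : Ideal (AdicCompletion J A)) := by
    intro x hx
    apply IsAdicComplete.le_jacobson_bot (J.map (algebraMap A (AdicCompletion J A)))
    rw [← AdicCompletion.ker_evalOneₐ_eq_map J hfg]
    exact hx
  have he' : IsIdempotentElem (AdicCompletion.evalOneₐ J e) := he.map _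
  rcases eq_zero_or_one_of_connectedSpace (A ⧸ J) _ he' with h0 | h1
  · left
    exact eq_zero_of_isIdempotentElem_of_mem_jacobson he (hker e h0)
  · right
    have : 1 - e = 0 := eq_zero_of_isIdempotentElem_of_mem_jacobson he.one_sub
      (hker _ (by rw [map_sub, map_one, h1, sub_self]))
    exact (sub_eq_zero.mp this).symm

/-- if the completion is a domain then `A ⧸ J` has connected spectrum -/
theorem connectedSpace_quotient_of_isDomain [IsDomain (AdicCompletion J A)] (hJ : J ≠ ⊤) :
    ConnectedSpace (PrimeSpectrum (A ⧸ J)) := by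
  have hfg : J.FG := IsNoetherian.noetherian J
  haveI hcomp := AdicCompletion.isAdicComplete_self J hfg
  haveI : Nontrivial (A ⧸ J) := Ideal.Quotient.nontrivial_iff.mpr hJ
  apply Groth.Agent.Lib.Helper12.connectedSpace_primeSpectrum_of_idempotents
  intro ē hē
  obtain ⟨b, rfl⟩ := AdicCompletion.evalOneₐ_surjective J ē
  have hb : b * b - b ∈ J.map (algebraMap A (AdicCompletion J A)) := by
    rw [← AdicCompletion.ker_evalOneₐ_eq_map J hfg, RingHom.mem_ker]
    simp only [AlgHom.toRingHom_eq_coe, RingHom.coe_coe, map_sub, map_mul]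
    rw [hē.eq, sub_self]
  obtain ⟨e, he, heb⟩ := Groth.Agent.Lib.Helper12.PairCRT.exists_idempotent_lift
    (J.map (algebraMap A (AdicCompletion J A))) b hb
  have heq : AdicCompletion.evalOneₐ J e = AdicCompletion.evalOneₐ J b := by
    rw [← AdicCompletion.ker_evalOneₐ_eq_map J hfg, RingHom.mem_ker] at heb
    simp only [AlgHom.toRingHom_eq_coe, RingHom.coe_coe, map_sub] at heb
    exact sub_eq_zero.mp heb
  rcases IsIdempotentElem.iff_eq_zero_or_one.mp he with rfl | rfl
  · left; rw [← heq, map_zero]
  · right; rw [← heq, map_one]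

end Idem

section Main2

variable (A : Type u) [CommRing A] [IsNoetherianRing A] (J : Ideal A)
  (T : Submonoid A) (hT : T = MonoidHom.mker (Ideal.Quotient.mk J))

include hT in
theorem isDomain_isIntegrallyClosed_iff (hJ : J ≠ ⊤)
    (hf : EGA4.IsNormalHom A (AdicCompletion J A)) :
    (IsDomain (AdicCompletion J A) ∧ IsIntegrallyClosed (AdicCompletion J A)) ↔
      ((IsDomain (Localization T) ∧ IsIntegrallyClosed (Localization T)) ∧
        ConnectedSpace (PrimeSpectrum (A ⧸ J))) := by
  haveI : IsNoetherianRing (Localization T) := IsLocalization.isNoetherianRing T _ inferInstance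
  haveI : IsNoetherianRing (AdicCompletion J A) :=
    Groth.Agent.Lib.helper19.isNoetherianRing_adicCompletion A J
  have hiff := isNormalRing_loc_iff A J T hT hf
  constructor
  · rintro ⟨hD, hIC⟩
    haveI := hD
    haveI := hIC
    have hN : EGA4.IsNormalRing (Localization T) :=
      hiff.mpr (isNormalRing_of_isIntegrallyClosed _)
    letI := algebraLoc A J T hT
    haveI := faithfullyFlat_loc A J T hT
    haveI : IsDomain (Localization T) :=
      (FaithfulSMul.algebraMap_injective (Localization T) (AdicCompletion J A)).isDomain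
    exact ⟨⟨inferInstance, isIntegrallyClosed_of_isNormalRing _ hN⟩,
      connectedSpace_quotient_of_isDomain A J hJ⟩
  · rintro ⟨⟨hD, hIC⟩, hconn⟩
    haveI := hD
    haveI := hIC
    haveI := hconn
    have hN : EGA4.IsNormalRing (AdicCompletion J A) :=
      hiff.mp (isNormalRing_of_isIntegrallyClosed _)
    haveI := connectedSpace_adicCompletion A J
    haveI : IsDomain (AdicCompletion J A) := isDomain_of_isNormalRing_of_connectedSpace _ hN
    exact ⟨inferInstance, isIntegrallyClosed_of_isNormalRing _ hN⟩

end Main2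

end Groth.Agent.Lib.Helper22.CplOnePlus
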