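import Mathlib
import Groth.Prelude.Def_EGA4b
import Groth.Agent.Lib.Helper22.NormalGood
import Groth.Agent.Lib.Helper5.FlatSmoothD

set_option autoImplicit false
set_option linter.style.haveILetI false
universe u
open TensorProduct IsLocalRing

namespace Groth.Agent.Lib.Helper22.NormDimOne

open Groth.Agent.Lib.Helper22.NormalGood

/-- a normal local ring is a domain -/
theorem isDomain_of_isNormalRing_of_isLocalRing (F : Type u) [CommRing F] [IsLocalRing F]
    (h : EGA4.IsNormalRing F) : IsDomain F := by
  let e : F ≃ₐ[F] (Localization.AtPrime (maximalIdeal F)) :=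
    IsLocalization.atUnits F (maximalIdeal F).primeCompl (fun x ↦ by simpa using! fun a ↦ a)
  haveI := (h (maximalIdeal F)).1
  exact MulEquiv.isDomain (Localization.AtPrime (maximalIdeal F)) e.toRingEquiv.toMulEquiv

variable (A A' : Type u) [CommRing A] [CommRing A'] [IsLocalRing A] [IsLocalRing A']
  [IsNoetherianRing A'] [Algebra A A'] [IsLocalHom (algebraMap A A')]

/-- the closed fibre as a quotient -/
noncomputable def fiberEquivQuotient :
    (maximalIdeal A).Fiber A' ≃+* A' ⧸ (maximalIdeal A).map (algebraMap A A') :=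
  let e0 : (A ⧸ maximalIdeal A) ≃ₐ[A] (maximalIdeal A).ResidueField :=
    AlgEquiv.ofBijective (IsScalarTower.toAlgHom A (A ⧸ maximalIdeal A) _)
      (maximalIdeal A).bijective_algebraMap_quotient_residueField
  (Algebra.TensorProduct.congr e0.symm (AlgEquiv.refl (R := A) (A₁ := A'))).toRingEquiv.trans
    (Algebra.TensorProduct.quotIdealMapEquivQuotTensor A' (maximalIdeal A)).symm.toRingEquiv

theorem isPrime_map_maximalIdeal (h : EGA4.IsNormalHom A A') :
    ((maximalIdeal A).map (algebraMap A A')).IsPrime := by
  have hF : EGA4.IsNormalRing ((maximalIdeal A).Fiber A') := by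
    have h1 := h.2 (maximalIdeal A) (maximalIdeal A).ResidueField (Module.Finite.self _)
    exact good_normal.iso _ _
      (Algebra.TensorProduct.lid (maximalIdeal A).ResidueField
        ((maximalIdeal A).Fiber A')).toRingEquiv h1
  haveI := Groth.Agent.Lib.Helper5.FlatSmooth.isLocalRing_fiber A A'
  haveI := isDomain_of_isNormalRing_of_isLocalRing _ hF
  haveI : IsDomain (A' ⧸ (maximalIdeal A).map (algebraMap A A')) :=
    MulEquiv.isDomain ((maximalIdeal A).Fiber A') (fiberEquivQuotient A A').symm.toMulEquiv
  exact (Ideal.Quotient.isDomain_iff_prime _).mp inferInstance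

theorem height_map_maximalIdeal [IsNoetherianRing A] [Module.Flat A A']
    (hA : ringKrullDim A = 1)
    (hP : ((maximalIdeal A).map (algebraMap A A')).IsPrime) :
    ((maximalIdeal A).map (algebraMap A A')).height = 1 := by
  haveI := hP
  haveI : ((maximalIdeal A).map (algebraMap A A')).LiesOver (maximalIdeal A) := by
    refine ⟨?_⟩
    refine (Ideal.IsMaximal.eq_of_le inferInstance ?_ Ideal.le_comap_map)
    exact (Ideal.comap_isPrime (algebraMap A A') _).ne_top
  have h1 := Ideal.height_eq_height_add_of_liesOver_of_hasGoingDown (maximalIdeal A)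
    ((maximalIdeal A).map (algebraMap A A'))
  rw [Ideal.map_quotient_self, Ideal.height_bot, add_zero] at h1
  rw [h1]
  have h2 : ((maximalIdeal A).height : WithBot ℕ∞) = ringKrullDim A :=
    IsLocalRing.maximalIdeal_height_eq_ringKrullDim
  rw [hA] at h2
  exact_mod_cast h2

end Groth.Agent.Lib.Helper22.NormDimOne
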