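import Mathlib
import Groth.Agent.Lib.Helper22.GeomRed

set_option autoImplicit false
set_option linter.style.haveILetI false
universe u
noncomputable section
namespace Groth.Agent.Lib.Helper22.GeomRed2

open TensorProduct Groth.Agent.Lib.Helper22.GeomRed

/-- Every field has a perfect purely inseparable extension (in the same universe). -/
theorem exists_perfect_purelyInseparable (k : Type u) [Field k] :
    ∃ (P : Type u) (_ : Field P) (_ : Algebra k P), IsPurelyInseparable k P ∧ PerfectField P :=
  ⟨↥(perfectClosure k (AlgebraicClosure k)), inferInstance, inferInstance, inferInstance,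
    inferInstance⟩

/-- If `P/k` is purely inseparable and `k' ⊗ S` is reduced for all finite purely inseparable
`k'/k`, then `S ⊗ P` is reduced. -/
theorem isReduced_tensor_purelyInseparable {k S P : Type u} [Field k] [CommRing S] [Algebra k S]
    [Field P] [Algebra k P] [IsPurelyInseparable k P]
    (h : ∀ (k' : Type u) [Field k'] [Algebra k k'] [Module.Finite k k']
      [IsPurelyInseparable k k'], IsReduced (k' ⊗[k] S)) : IsReduced (S ⊗[k] P) := by
  haveI : Algebra.IsAlgebraic k P := IsPurelyInseparable.isAlgebraic k P
  apply IsReduced.tensorProduct_of_flat_of_forall_fg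
  intro B hB
  letI : Field B := (Subalgebra.isField_of_algebraic B).toField
  haveI : IsPurelyInseparable k B := IsPurelyInseparable.tower_bot k B P
  haveI : Algebra.FiniteType k B := (Subalgebra.fg_iff_finiteType B).mp hB
  haveI : Algebra.IsIntegral k B := Algebra.IsAlgebraic.isIntegral
  haveI : Module.Finite k B := Algebra.IsIntegral.finite
  haveI := h B
  exact isReduced_of_injective (Algebra.TensorProduct.comm k S B)
    (Algebra.TensorProduct.comm k S B).injective

/-- (1) ⇒ (4) -/
theorem isGeometricallyReduced_of_forall_purelyInseparable {k S : Type u} [Field k] [CommRing S]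
    [Algebra k S]
    (h : ∀ (k' : Type u) [Field k'] [Algebra k k'] [Module.Finite k k']
      [IsPurelyInseparable k k'], IsReduced (k' ⊗[k] S)) :
    Algebra.IsGeometricallyReduced k S := by
  obtain ⟨P, hPf, hPa, hPi, hPp⟩ := exists_perfect_purelyInseparable k
  letI := hPf
  letI := hPa
  haveI := hPi
  haveI := hPp
  haveI h1 : IsReduced (S ⊗[k] P) := isReduced_tensor_purelyInseparable h
  haveI h2 : IsReduced (P ⊗[k] S) :=
    isReduced_of_injective (Algebra.TensorProduct.comm k P S)
      (Algebra.TensorProduct.comm k P S).injective
  haveI h3 : Algebra.IsGeometricallyReduced P (P ⊗[k] S) := isGeometricallyReduced_of_perfectField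
  let Ω := AlgebraicClosure P
  haveI h4 : IsReduced (Ω ⊗[P] (P ⊗[k] S)) := isReduced_tensor_of_isGeometricallyReduced
  haveI h5 : IsReduced (Ω ⊗[k] S) :=
    isReduced_of_injective (Algebra.TensorProduct.cancelBaseChange k P P Ω S).symm
      (Algebra.TensorProduct.cancelBaseChange k P P Ω S).symm.injective
  rw [Algebra.isGeometricallyReduced_field_iff]
  haveI : Algebra.IsAlgebraic k P := IsPurelyInseparable.isAlgebraic k P
  let φ : AlgebraicClosure k →ₐ[k] Ω := IsAlgClosed.lift
  let g : AlgebraicClosure k ⊗[k] S →ₐ[k] Ω ⊗[k] S :=
    Algebra.TensorProduct.map φ (AlgHom.id k S)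
  have hg : Function.Injective g :=
    Module.Flat.rTensor_preserves_injective_linearMap (M := S) φ.toLinearMap φ.injective
  exact isReduced_of_injective g hg

end Groth.Agent.Lib.Helper22.GeomRed2
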