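import Mathlib
import Groth.Agent.Lib.Helper22.GeomRed

set_option autoImplicit false
universe u
open TensorProduct

namespace Groth.Agent.Lib.Helper22.RedFib

variable {B C : Type u} [CommRing B] [CommRing C] [Algebra B C]

/-- Lemma F: fibre over a field-valued point is reduced. -/
theorem isReduced_tensor_field
    (hBC : ∀ (q : Ideal B) [q.IsPrime], Algebra.IsGeometricallyReduced q.ResidueField (q.Fiber C))
    (F : Type u) [Field F] [Algebra B F] : IsReduced (F ⊗[B] C) := by
  let q : Ideal B := RingHom.ker (algebraMap B F)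
  haveI : q.IsPrime := RingHom.ker_isPrime _
  let φ : q.ResidueField →ₐ[B] F := Ideal.ResidueField.liftₐ q (Algebra.ofId B F) le_rfl (by
    intro x hx
    simp only [Submonoid.mem_comap, IsUnit.mem_submonoid_iff]
    rw [isUnit_iff_ne_zero]
    exact hx)
  letI : Algebra q.ResidueField F := φ.toRingHom.toAlgebra
  haveI : IsScalarTower B q.ResidueField F :=
    IsScalarTower.of_algebraMap_eq (fun x => (φ.commutes x).symm)
  haveI := hBC q
  haveI : IsReduced (F ⊗[q.ResidueField] (q.Fiber C)) :=
    Groth.Agent.Lib.Helper22.GeomRed.isReduced_tensor_of_isGeometricallyReduced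
  let e : F ⊗[q.ResidueField] (q.ResidueField ⊗[B] C) ≃ₐ[F] F ⊗[B] C :=
    Algebra.TensorProduct.cancelBaseChange B q.ResidueField F F C
  exact isReduced_of_injective e.symm e.symm.injective

theorem isReduced_pi {ι : Type*} (R : ι → Type*) [∀ i, CommRing (R i)] [∀ i, IsReduced (R i)] :
    IsReduced (∀ i, R i) := by
  constructor
  intro x hx
  funext i
  exact (hx.map (Pi.evalRingHom R i)).eq_zero

/-- Lemma X0: base change of a flat map with geometrically reduced fibres to a reduced
Noetherian algebra is reduced. -/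
theorem isReduced_tensor_of_noetherian [Module.Flat B C]
    (hBC : ∀ (q : Ideal B) [q.IsPrime], Algebra.IsGeometricallyReduced q.ResidueField (q.Fiber C))
    (R : Type u) [CommRing R] [Algebra B R] [IsReduced R] [IsNoetherianRing R] :
    IsReduced (C ⊗[B] R) := by
  classical
  have hfin : (minimalPrimes R).Finite := minimalPrimes.finite_of_isNoetherianRing R
  letI : Fintype (minimalPrimes R) := hfin.fintype
  haveI hprime : ∀ i : minimalPrimes R, i.1.IsPrime := fun i => i.2.1.1
  let F : minimalPrimes R → Type u := fun i => FractionRing (R ⧸ i.1)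
  let ψ : R →ₐ[B] ∀ i, F i := AlgHom.pi
    (fun i => (IsScalarTower.toAlgHom B (R ⧸ i.1) (F i)).comp (Ideal.Quotient.mkₐ B i.1))
  have hψ : Function.Injective ψ := by
    rw [injective_iff_map_eq_zero]
    intro x hx
    have hmem : x ∈ sInf (minimalPrimes R) := by
      rw [Ideal.mem_sInf]
      intro p hp
      have h1 : ψ x ⟨p, hp⟩ = 0 := by rw [hx]; rfl
      have h2 : algebraMap (R ⧸ p) (FractionRing (R ⧸ p)) (Ideal.Quotient.mk p x) = 0 := h1
      haveI : p.IsPrime := hp.1.1
      exact Ideal.Quotient.eq_zero_iff_mem.mp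
        ((injective_iff_map_eq_zero _).mp (IsFractionRing.injective (R ⧸ p) (FractionRing (R ⧸ p))) _ h2)
    have : sInf (minimalPrimes R) = nilradical R := by
      rw [minimalPrimes, Ideal.sInf_minimalPrimes]; rfl
    rw [this, nilradical_eq_zero] at hmem
    exact hmem
  let g : C ⊗[B] R →ₐ[C] C ⊗[B] (∀ i, F i) := Algebra.TensorProduct.map (AlgHom.id C C) ψ
  have hg : Function.Injective g :=
    Module.Flat.lTensor_preserves_injective_linearMap (M := C) ψ.toLinearMap hψ
  let e : C ⊗[B] (∀ i, F i) ≃ₐ[C] ∀ i, C ⊗[B] F i := Algebra.TensorProduct.piRight B C C F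
  haveI : ∀ i, IsReduced (C ⊗[B] F i) := fun i => by
    haveI := isReduced_tensor_field hBC (F i)
    exact isReduced_of_injective (Algebra.TensorProduct.comm B C (F i))
      (Algebra.TensorProduct.comm B C (F i)).injective
  haveI : IsReduced (∀ i, C ⊗[B] F i) := isReduced_pi _
  exact isReduced_of_injective ((e : C ⊗[B] (∀ i, F i) →ₐ[C] ∀ i, C ⊗[B] F i).comp g)
    (e.injective.comp hg)

/-- Lemma X: base change of a flat map of Noetherian rings with geometrically reduced fibres to
any reduced algebra is reduced. -/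
theorem isReduced_tensor_of_isReduced [IsNoetherianRing B] [Module.Flat B C]
    (hBC : ∀ (q : Ideal B) [q.IsPrime], Algebra.IsGeometricallyReduced q.ResidueField (q.Fiber C))
    (R : Type u) [CommRing R] [Algebra B R] [IsReduced R] :
    IsReduced (C ⊗[B] R) := by
  apply IsReduced.tensorProduct_of_flat_of_forall_fg
  intro R0 hR0
  haveI : Algebra.FiniteType B R0 := (Subalgebra.fg_iff_finiteType R0).mp hR0
  haveI : IsNoetherianRing R0 := Algebra.FiniteType.isNoetherianRing B R0
  haveI : IsReduced R0 := isReduced_of_injective R0.val Subtype.val_injective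
  exact isReduced_tensor_of_noetherian hBC R0

/-- composition of flat maps with geometrically reduced fibres has geometrically reduced fibres -/
theorem isGeometricallyReduced_fiber_comp (A : Type u) [CommRing A] [Algebra A B] [Algebra A C]
    [IsScalarTower A B C] [IsNoetherianRing B] [Module.Flat B C]
    (hAB : ∀ (p : Ideal A) [p.IsPrime], Algebra.IsGeometricallyReduced p.ResidueField (p.Fiber B))
    (hBC : ∀ (q : Ideal B) [q.IsPrime], Algebra.IsGeometricallyReduced q.ResidueField (q.Fiber C))
    (p : Ideal A) [p.IsPrime] : Algebra.IsGeometricallyReduced p.ResidueField (p.Fiber C) := by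
  rw [Algebra.isGeometricallyReduced_field_iff]
  let K := p.ResidueField
  let L := AlgebraicClosure K
  haveI := hAB p
  haveI h1 : IsReduced (L ⊗[K] (K ⊗[A] B)) := inferInstance
  let e1 : L ⊗[K] (K ⊗[A] B) ≃ₐ[L] L ⊗[A] B := Algebra.TensorProduct.cancelBaseChange A K L L B
  haveI h2 : IsReduced (L ⊗[A] B) := isReduced_of_injective e1.symm e1.symm.injective
  haveI h3 : IsReduced (B ⊗[A] L) := isReduced_of_injective (Algebra.TensorProduct.comm A B L)
    (Algebra.TensorProduct.comm A B L).injective
  haveI h4 : IsReduced (C ⊗[B] (B ⊗[A] L)) := isReduced_tensor_of_isReduced hBC (B ⊗[A] L)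
  let e2 : C ⊗[B] (B ⊗[A] L) ≃ₐ[C] C ⊗[A] L := Algebra.TensorProduct.cancelBaseChange A B C C L
  haveI h5 : IsReduced (C ⊗[A] L) := isReduced_of_injective e2.symm e2.symm.injective
  haveI h6 : IsReduced (L ⊗[A] C) := isReduced_of_injective (Algebra.TensorProduct.comm A L C)
    (Algebra.TensorProduct.comm A L C).injective
  let e3 : L ⊗[K] (K ⊗[A] C) ≃ₐ[L] L ⊗[A] C := Algebra.TensorProduct.cancelBaseChange A K L L C
  exact isReduced_of_injective e3 e3.injective

end Groth.Agent.Lib.Helper22.RedFib
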