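import Mathlib
import Groth.Prelude.Def_EGA4b
import Groth.Agent.Lib.Helper22.RedFib
import Groth.Agent.Lib.Helper22.GeomRed2
import Groth.Agent.Lib.Helper9.NormalLoc

set_option autoImplicit false
universe u
open TensorProduct

namespace Groth.Agent.Lib.Helper22.NormRedFib

/-- geometrically normal (tested on finite extensions) implies geometrically reduced -/
theorem isGeometricallyReduced_of_isGeomNormal {k S : Type u} [Field k] [CommRing S] [Algebra k S]
    (h : EGA4.IsGeomNormal k S) : Algebra.IsGeometricallyReduced k S := by
  apply Groth.Agent.Lib.Helper22.GeomRed2.isGeometricallyReduced_of_forall_purelyInseparable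
  intro k' _ _ hfin _
  exact Groth.Agent.Lib.Helper9.NormalLoc.isReduced_of_isNormalRing (h k' hfin)

/-- base change of a normal homomorphism of Noetherian rings to a reduced algebra is reduced -/
theorem isReduced_tensor_of_isNormalHom (A A' : Type u) [CommRing A] [CommRing A']
    [IsNoetherianRing A] [Algebra A A']
    (h : EGA4.IsNormalHom A A') (B : Type u) [CommRing B] [Algebra A B] [IsReduced B] :
    IsReduced (A' ⊗[A] B) := by
  haveI : Module.Flat A A' := h.1
  exact Groth.Agent.Lib.Helper22.RedFib.isReduced_tensor_of_isReduced
    (fun q _ => isGeometricallyReduced_of_isGeomNormal (h.2 q)) B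

end Groth.Agent.Lib.Helper22.NormRedFib
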