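import Mathlib
import Groth.Prelude.Def_EGA4b
import Groth.Agent.Lib.Helper22.NormRedFib
import Groth.Agent.Lib.Helper22.NormFib2
import Groth.Agent.Lib.Helper22.CplOnePlus
import Groth.Agent.Lib.Helper22.CplOnePlus2
import Groth.Agent.Lib.Helper22.NormDimOne
import Groth.Agent.Lib.Helper12.AnUnramF
import Groth.Agent.Lib.Helper12.AUnD
import Groth.Agent.Lib.Helper12.HenselIntegralDomain

set_option autoImplicit false
set_option linter.style.haveILetI false
universe u
open TensorProduct IsLocalRing

namespace Groth.Agent.Lib.Helper22.HensCplDomain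

/-- a ring integral over a local ring whose closed fibre is local is local -/
theorem isLocalRing_of_isIntegral_of_quotient (R C : Type*) [CommRing R] [IsLocalRing R]
    [CommRing C] [Algebra R C] [Algebra.IsIntegral R C]
    [IsLocalRing (C ⧸ (maximalIdeal R).map (algebraMap R C))] : IsLocalRing C := by
  haveI : Nontrivial C := (Ideal.Quotient.mk ((maximalIdeal R).map (algebraMap R C))).domain_nontrivial
  have hJ : (maximalIdeal R).map (algebraMap R C) ≤ Ideal.jacobson ⊥ := by
    refine le_sInf fun M hM => ?_
    haveI := hM.2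
    rw [Ideal.map_le_iff_le_comap]
    haveI : (M.comap (algebraMap R C)).IsMaximal :=
      Ideal.isMaximal_comap_of_isIntegral_of_isMaximal M
    exact (IsLocalRing.eq_maximalIdeal this).ge
  have key : ∀ a b : C, Ideal.Quotient.mk ((maximalIdeal R).map (algebraMap R C)) (a * b) = 1 →
      IsUnit a := by
    intro a b hab
    have h1 : a * b - 1 ∈ (maximalIdeal R).map (algebraMap R C) := by
      rw [← Ideal.Quotient.eq_zero_iff_mem, map_sub, hab, map_one, sub_self]
    have h2 := Ideal.mem_jacobson_bot.mp (hJ h1) 1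
    rw [mul_one, sub_add_cancel] at h2
    exact isUnit_of_mul_isUnit_left h2
  refine IsLocalRing.of_isUnit_or_isUnit_one_sub_self fun a => ?_
  rcases IsLocalRing.isUnit_or_isUnit_one_sub_self
    (Ideal.Quotient.mk ((maximalIdeal R).map (algebraMap R C)) a) with h | h
  · obtain ⟨b', hb'⟩ := h.exists_right_inv
    obtain ⟨b, rfl⟩ := Ideal.Quotient.mk_surjective b'
    exact Or.inl (key a b (by rw [map_mul, hb']))
  · obtain ⟨b', hb'⟩ := h.exists_right_inv
    obtain ⟨b, rfl⟩ := Ideal.Quotient.mk_surjective b'
    exact Or.inr (key (1 - a) b (by rw [map_mul, map_sub, map_one, hb']))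

/-- `T ⊗[R] B` is local when `B` is a local ring finite over `R`, `T` is a local `R`-algebra with
`T = R + m_T`, and `T → T ⊗[R] B` is injective -/
theorem isLocalRing_tensor (R T B : Type*) [CommRing R] [CommRing T] [IsLocalRing T]
    [Algebra R T] [CommRing B] [IsLocalRing B] [Algebra R B] [Module.Finite R B]
    (hres : ∀ y : T, ∃ r : R, y - algebraMap R T r ∈ maximalIdeal T)
    (hinj : Function.Injective (algebraMap T (T ⊗[R] B))) : IsLocalRing (T ⊗[R] B) := by
  haveI : Algebra.IsIntegral T (T ⊗[R] B) := Algebra.IsIntegral.of_finite _ _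
  have hne : (maximalIdeal T).map (algebraMap T (T ⊗[R] B)) ≠ ⊤ := by
    have hker : RingHom.ker (algebraMap T (T ⊗[R] B)) ≤ maximalIdeal T := by
      rw [(RingHom.injective_iff_ker_eq_bot _).mp hinj]
      exact bot_le
    obtain ⟨Q, hQ, hQc⟩ := Ideal.exists_ideal_over_maximal_of_isIntegral
      (S := T ⊗[R] B) (maximalIdeal T) hker
    intro htop
    have : (maximalIdeal T).map (algebraMap T (T ⊗[R] B)) ≤ Q := by
      rw [Ideal.map_le_iff_le_comap, hQc]
    rw [htop, top_le_iff] at this
    exact hQ.ne_top this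
  haveI : Nontrivial ((T ⊗[R] B) ⧸ (maximalIdeal T).map (algebraMap T (T ⊗[R] B))) :=
    Ideal.Quotient.nontrivial_iff.mpr hne
  haveI : IsLocalRing ((T ⊗[R] B) ⧸ (maximalIdeal T).map (algebraMap T (T ⊗[R] B))) := by
    refine IsLocalRing.of_surjective' ((Ideal.Quotient.mk _).comp
      (Algebra.TensorProduct.includeRight : B →ₐ[R] T ⊗[R] B).toRingHom) ?_
    intro y
    obtain ⟨c, rfl⟩ := Ideal.Quotient.mk_surjective y
    induction c using TensorProduct.induction_on with
    | zero => exact ⟨0, by simp⟩
    | tmul a b =>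
      obtain ⟨r, hr⟩ := hres a
      refine ⟨r • b, ?_⟩
      rw [RingHom.comp_apply, Ideal.Quotient.eq]
      have h1 : (Algebra.TensorProduct.includeRight : B →ₐ[R] T ⊗[R] B).toRingHom (r • b) -
          a ⊗ₜ[R] b =
          algebraMap T (T ⊗[R] B) (-(a - algebraMap R T r)) * ((1 : T) ⊗ₜ[R] b) := by
        change (1 : T) ⊗ₜ[R] (r • b) - a ⊗ₜ[R] b = _
        rw [Algebra.TensorProduct.algebraMap_apply, Algebra.TensorProduct.tmul_mul_tmul,
          mul_one, one_mul, Algebra.algebraMap_self_apply, neg_sub, TensorProduct.sub_tmul,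
          ← TensorProduct.smul_tmul, Algebra.smul_def, mul_one]
      rw [h1]
      exact Ideal.mul_mem_right _ _ (Ideal.mem_map_of_mem _ ((Ideal.neg_mem_iff _).mpr hr))
    | add x y hx hy =>
      obtain ⟨x', hx'⟩ := hx
      obtain ⟨y', hy'⟩ := hy
      exact ⟨x' + y', by rw [map_add, hx', hy', map_add]⟩
  exact isLocalRing_of_isIntegral_of_quotient T _

open Groth.Agent.Lib.Helper12 Groth.Agent.Lib.Helper22.NormalGood in
/-- EGA IV 18.9.1: the completion of a Noetherian henselian local domain with geometrically normal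
formal fibres is a domain -/
theorem isDomain_cpl (A : Type u) [CommRing A] [IsNoetherianRing A] [HenselianLocalRing A]
    [IsDomain A] (h : EGA4.HasGeomNormalFormalFibres A) : IsDomain (EGA4.Cpl A) := by
  have hred : EGA4.HasGeomReducedFormalFibres A := fun p hp =>
    NormRedFib.isGeometricallyReduced_of_isGeomNormal (h p)
  have hNag : CAlg.IsNagata A := AnUnram.isNagata_of_geomReducedFormalFibres A hred
  have hN2 : CAlg.IsN2 A := AUn.isN2_of_isNagata A hNag
  haveI hfin : Module.Finite A (integralClosure A (FractionRing A)) :=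
    hN2 (FractionRing A) inferInstance
  haveI : IsLocalRing (integralClosure A (FractionRing A)) :=
    isLocalRing_of_finite_of_isDomain A _
  haveI : IsIntegrallyClosed (integralClosure A (FractionRing A)) :=
    integralClosure.isIntegrallyClosedOfFiniteExtension (FractionRing A)
  have hA'normal : EGA4.IsNormalRing (integralClosure A (FractionRing A)) :=
    CplOnePlus.isNormalRing_of_isIntegrallyClosed _
  haveI : Module.Flat A (EGA4.Cpl A) := inferInstance
  have hNH : EGA4.IsNormalHom A (EGA4.Cpl A) := ⟨inferInstance, fun p hp => h p⟩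
  have hNH' := NormFib2.baseChange hNH (integralClosure A (FractionRing A))
  haveI : IsNoetherianRing (integralClosure A (FractionRing A)) := IsNoetherianRing.of_finite A _
  haveI : IsNoetherianRing (EGA4.Cpl A) := AnUnram.isNoetherianRing_cpl A
  haveI : IsNoetherianRing (EGA4.Cpl A ⊗[A] integralClosure A (FractionRing A)) :=
    IsNoetherianRing.of_finite (EGA4.Cpl A) _
  let ec : integralClosure A (FractionRing A) ⊗[A] EGA4.Cpl A ≃ₐ[A]
      EGA4.Cpl A ⊗[A] integralClosure A (FractionRing A) := Algebra.TensorProduct.comm A _ _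
  haveI : IsNoetherianRing (integralClosure A (FractionRing A) ⊗[A] EGA4.Cpl A) :=
    isNoetherianRing_of_ringEquiv _ ec.symm.toRingEquiv
  have hC : EGA4.IsNormalRing (integralClosure A (FractionRing A) ⊗[A] EGA4.Cpl A) :=
    CplOnePlus.isNormalRing_of_isNormalHom _ _ hNH' hA'normal
  have hC₂ : EGA4.IsNormalRing (EGA4.Cpl A ⊗[A] integralClosure A (FractionRing A)) :=
    good_normal.iso _ _ ec.toRingEquiv hC
  have hinj : Function.Injective
      (Algebra.TensorProduct.includeLeft : EGA4.Cpl A →ₐ[A]
        EGA4.Cpl A ⊗[A] integralClosure A (FractionRing A)) :=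
    Algebra.TensorProduct.includeLeft_injective
      (FaithfulSMul.algebraMap_injective A (integralClosure A (FractionRing A)))
  haveI : IsLocalRing (EGA4.Cpl A ⊗[A] integralClosure A (FractionRing A)) :=
    isLocalRing_tensor A (EGA4.Cpl A) (integralClosure A (FractionRing A))
      (AUn.FormalLike.cpl A).res_surj hinj
  haveI : IsDomain (EGA4.Cpl A ⊗[A] integralClosure A (FractionRing A)) :=
    NormDimOne.isDomain_of_isNormalRing_of_isLocalRing _ hC₂
  exact hinj.isDomain _

end Groth.Agent.Lib.Helper22.HensCplDomain
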