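import Mathlib
import Groth.Prelude.Def_EGA4b
import Groth.Prelude.Def_CAlg2
import Groth.Agent.Lib.Helper22.HensCplDomain
import Groth.Agent.Lib.Helper13.Japanese3
import Groth.Agent.Lib.Helper12.HenselizationNoeth2
import Groth.Agent.Lib.Helper12.Unibranch
import Groth.Agent.Lib.Helper17.GeomUnibranch
import Groth.Agent.Lib.Helper12.AUnF

set_option autoImplicit false
set_option linter.style.haveILetI false
set_option linter.unusedSectionVars false
universe u
open TensorProduct IsLocalRing

namespace Groth.Agent.Lib.Helper22.CplUnibranch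

open Groth.Agent.Lib.Helper12 Groth.Agent.Lib.Helper22.NormalGood
  Groth.Agent.Lib.Helper22.HensCplDomain

/-- faithfully flat base change reflects units -/
theorem isUnit_of_isUnit_one_tmul (R T B : Type*) [CommRing R] [CommRing T] [Algebra R T]
    [Module.FaithfullyFlat R T] [CommRing B] [Algebra R B] (b : B)
    (hb : IsUnit ((1 : T) ⊗ₜ[R] b)) : IsUnit b := by
  have h1 : (LinearMap.mulLeft R b).lTensor T =
      (LinearMap.mulLeft R ((1 : T) ⊗ₜ[R] b) : T ⊗[R] B →ₗ[R] T ⊗[R] B) := by
    apply TensorProduct.ext'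
    intro t x
    simp [Algebra.TensorProduct.tmul_mul_tmul]
  have h2 : Function.Surjective ((LinearMap.mulLeft R b).lTensor T) := by
    rw [h1]
    intro y
    obtain ⟨u, hu⟩ := hb
    refine ⟨(↑u⁻¹ : T ⊗[R] B) * y, ?_⟩
    rw [LinearMap.mulLeft_apply, ← mul_assoc, ← hu, Units.mul_inv, one_mul]
  rw [Module.FaithfullyFlat.lTensor_surjective_iff_surjective] at h2
  obtain ⟨c, hc⟩ := h2 1
  exact IsUnit.of_mul_eq_one c hc

section Main

variable (A : Type u) [CommRing A] [IsNoetherianRing A] [IsLocalRing A] [IsDomain A]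
  (h : EGA4.HasGeomNormalFormalFibres A) (K : Type u) [Field K] [Algebra A K] [IsFractionRing A K]

include h in
theorem isNagata : CAlg.IsNagata A :=
  AnUnram.isNagata_of_geomReducedFormalFibres A fun p _ =>
    NormRedFib.isGeometricallyReduced_of_isGeomNormal (h p)

include h in
theorem finite_integralClosure : Module.Finite A (integralClosure A K) :=
  Groth.Agent.Lib.Helper13.Japanese.finite_integralClosure_of_finite_of_isN2 A A K K
    (AUn.isN2_of_isNagata A (isNagata A h))

include h in
/-- `Â ⊗_A A'` is a normal Noetherian ring -/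
theorem isNormalRing_tensor :
    IsNoetherianRing (EGA4.Cpl A ⊗[A] integralClosure A K) ∧
      EGA4.IsNormalRing (EGA4.Cpl A ⊗[A] integralClosure A K) := by
  haveI := finite_integralClosure A h K
  haveI : IsIntegrallyClosed (integralClosure A K) :=
    integralClosure.isIntegrallyClosedOfFiniteExtension K
  have hA'normal : EGA4.IsNormalRing (integralClosure A K) :=
    CplOnePlus.isNormalRing_of_isIntegrallyClosed _
  haveI : Module.Flat A (EGA4.Cpl A) := inferInstance
  have hNH : EGA4.IsNormalHom A (EGA4.Cpl A) := ⟨inferInstance, fun p hp => h p⟩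
  have hNH' := NormFib2.baseChange hNH (integralClosure A K)
  haveI : IsNoetherianRing (integralClosure A K) := IsNoetherianRing.of_finite A _
  haveI : IsNoetherianRing (EGA4.Cpl A) := AnUnram.isNoetherianRing_cpl A
  haveI : IsNoetherianRing (EGA4.Cpl A ⊗[A] integralClosure A K) :=
    IsNoetherianRing.of_finite (EGA4.Cpl A) _
  let ec : integralClosure A K ⊗[A] EGA4.Cpl A ≃ₐ[A]
      EGA4.Cpl A ⊗[A] integralClosure A K := Algebra.TensorProduct.comm A _ _
  haveI : IsNoetherianRing (integralClosure A K ⊗[A] EGA4.Cpl A) :=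
    isNoetherianRing_of_ringEquiv _ ec.symm.toRingEquiv
  have hC : EGA4.IsNormalRing (integralClosure A K ⊗[A] EGA4.Cpl A) :=
    CplOnePlus.isNormalRing_of_isNormalHom _ _ hNH' hA'normal
  exact ⟨inferInstance, good_normal.iso _ _ ec.toRingEquiv hC⟩

theorem includeLeft_injective :
    Function.Injective (algebraMap (EGA4.Cpl A) (EGA4.Cpl A ⊗[A] integralClosure A K)) :=
  Algebra.TensorProduct.includeLeft_injective (S := A)
    (FaithfulSMul.algebraMap_injective A (integralClosure A K))

include h in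
/-- if the normalization is local, `Â ⊗_A A'` is a normal local domain -/
theorem isLocalRing_isDomain_tensor [IsLocalRing (integralClosure A K)] :
    IsLocalRing (EGA4.Cpl A ⊗[A] integralClosure A K) ∧
      IsDomain (EGA4.Cpl A ⊗[A] integralClosure A K) := by
  haveI := finite_integralClosure A h K
  haveI : IsLocalRing (EGA4.Cpl A ⊗[A] integralClosure A K) :=
    isLocalRing_tensor A (EGA4.Cpl A) (integralClosure A K)
      (AUn.FormalLike.cpl A).res_surj (includeLeft_injective A K)
  exact ⟨inferInstance,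
    NormDimOne.isDomain_of_isNormalRing_of_isLocalRing _ (isNormalRing_tensor A h K).2⟩

include h in
/-- conversely, if the completion is a domain, the normalization is local -/
theorem isLocalRing_integralClosure_of_isDomain_cpl [IsDomain (EGA4.Cpl A)] :
    IsLocalRing (integralClosure A K) := by
  haveI := finite_integralClosure A h K
  haveI : Module.FaithfullyFlat A (EGA4.Cpl A) := AnUnram.faithfullyFlat_cpl A
  have hle : Algebra.algebraMapSubmonoid (EGA4.Cpl A) (nonZeroDivisors A) ≤
      nonZeroDivisors (EGA4.Cpl A) := by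
    rintro _ ⟨a, ha, rfl⟩
    refine mem_nonZeroDivisors_of_ne_zero ?_
    intro h0
    exact nonZeroDivisors.ne_zero ha
      (FaithfulSMul.algebraMap_injective A (EGA4.Cpl A) (h0.trans (map_zero _).symm))
  haveI : IsDomain (EGA4.Cpl A ⊗[A] K) :=
    IsLocalization.isDomain_of_le_nonZeroDivisors (EGA4.Cpl A ⊗[A] K) hle
  have hinj : Function.Injective
      ((integralClosure A K).val.toLinearMap.lTensor (EGA4.Cpl A)) :=
    Module.Flat.lTensor_preserves_injective_linearMap _ Subtype.val_injective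
  haveI : IsDomain (EGA4.Cpl A ⊗[A] integralClosure A K) :=
    Function.Injective.isDomain
      (Algebra.TensorProduct.map (AlgHom.id (EGA4.Cpl A) (EGA4.Cpl A))
        (integralClosure A K).val).toRingHom hinj
  haveI : IsLocalRing (EGA4.Cpl A ⊗[A] integralClosure A K) :=
    isLocalRing_of_finite_of_isDomain (EGA4.Cpl A) _
  refine IsLocalRing.of_isUnit_or_isUnit_one_sub_self fun a' => ?_
  rcases IsLocalRing.isUnit_or_isUnit_one_sub_self ((1 : EGA4.Cpl A) ⊗ₜ[A] a') with hu | hu
  · exact Or.inl (isUnit_of_isUnit_one_tmul A (EGA4.Cpl A) _ a' hu)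
  · right
    apply isUnit_of_isUnit_one_tmul A (EGA4.Cpl A)
    rw [TensorProduct.tmul_sub]
    exact hu

end Main

open Groth.Agent.Lib.Helper17.GeomUnibranch in
/-- converse of helper17's criterion: for a geometrically unibranch local domain `D`, any model
`D'` of its normalization is local with purely inseparable residue field extension -/
theorem exists_exp_of_isGeomUnibranch {D : Type u} [CommRing D] [IsDomain D] [IsLocalRing D]
    (hD : CAlg2.IsGeomUnibranch D)
    (D' : Type u) [CommRing D'] [IsDomain D'] [IsIntegrallyClosed D'] [Algebra D D']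
    [Algebra.IsIntegral D D'] [IsLocalRing D']
    (hinj : Function.Injective (algebraMap D D'))
    (hfrac : ∀ y : D', ∃ d : D, d ≠ 0 ∧ ∃ d₂ : D, algebraMap D D' d * y = algebraMap D D' d₂) :
    ∃ e : ℕ, (e = 1 ∨ (e.Prime ∧ (e : D') ∈ maximalIdeal D')) ∧
      ∀ y : D', ∃ (n : ℕ) (d : D), y ^ (e ^ n) - algebraMap D D' d ∈ maximalIdeal D' := by
  obtain ⟨⟨hdomA, hlocN⟩, hres⟩ := hD
  have hnil : nilradical D = ⊥ := nilradical_eq_zero D
  have hmkinj : Function.Injective (Ideal.Quotient.mk (nilradical D)) := by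
    rw [injective_iff_map_eq_zero]
    intro x hx
    rw [Ideal.Quotient.eq_zero_iff_mem, hnil, Ideal.mem_bot] at hx
    exact hx
  let ρ : CAlg2.red D →+* D' := Ideal.Quotient.lift (nilradical D) (algebraMap D D') (by
    intro a ha
    rw [hnil, Ideal.mem_bot] at ha
    rw [ha, map_zero])
  letI algA : Algebra (CAlg2.red D) D' := ρ.toAlgebra
  have hρ : ∀ a : D, algebraMap (CAlg2.red D) D' (Ideal.Quotient.mk _ a) = algebraMap D D' a :=
    fun a => rfl
  haveI : IsScalarTower D (CAlg2.red D) D' := IsScalarTower.of_algebraMap_eq (fun a => (hρ a).symm)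
  haveI : Algebra.IsIntegral (CAlg2.red D) D' :=
    ⟨fun y => (Algebra.IsIntegral.isIntegral (R := D) y).tower_top⟩
  have hinjA : Function.Injective (algebraMap (CAlg2.red D) D') := by
    rw [injective_iff_map_eq_zero]
    intro x hx
    obtain ⟨a, rfl⟩ := Ideal.Quotient.mk_surjective x
    rw [hρ] at hx
    rw [hinj (by rw [hx, map_zero] : algebraMap D D' a = algebraMap D D' 0), map_zero]
  have hfracA : ∀ y : D', ∃ d : CAlg2.red D, d ≠ 0 ∧ ∃ d₂ : CAlg2.red D,
      algebraMap (CAlg2.red D) D' d * y = algebraMap (CAlg2.red D) D' d₂ := by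
    intro y
    obtain ⟨d, hd, d₂, h⟩ := hfrac y
    refine ⟨Ideal.Quotient.mk _ d, fun h0 => hd (hmkinj (by rw [h0, map_zero])),
      Ideal.Quotient.mk _ d₂, ?_⟩
    rw [hρ, hρ, h]
  obtain ⟨φ⟩ := nonempty_algEquiv_integralClosure (CAlg2.red D) D' hinjA hfracA
  -- non-units correspond
  have hmem : ∀ z : CAlg2.normRed D, z ∈ maximalIdeal (CAlg2.normRed D) →
      φ z ∈ maximalIdeal D' := by
    intro z hz
    rw [mem_maximalIdeal, mem_nonunits_iff] at hz ⊢
    intro hu
    apply hz
    have := hu.map φ.symm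
    rwa [AlgEquiv.symm_apply_apply] at this
  letI : Field (CAlg2.normRed D ⧸ maximalIdeal (CAlg2.normRed D)) :=
    Ideal.Quotient.field _
  refine ⟨ringExpChar (CAlg2.normRed D ⧸ maximalIdeal (CAlg2.normRed D)), ?_, ?_⟩
  · have hE := ringExpChar.expChar (CAlg2.normRed D ⧸ maximalIdeal (CAlg2.normRed D))
    generalize ringExpChar (CAlg2.normRed D ⧸ maximalIdeal (CAlg2.normRed D)) = q at hE ⊢
    cases hE with
    | zero => exact Or.inl rfl
    | prime hp =>
      right
      refine ⟨hp, ?_⟩
      have h0 : ((q : ℕ) : CAlg2.normRed D ⧸ maximalIdeal (CAlg2.normRed D)) = 0 :=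
        CharP.cast_eq_zero _ _
      rw [← map_natCast (Ideal.Quotient.mk (maximalIdeal (CAlg2.normRed D))),
        Ideal.Quotient.eq_zero_iff_mem] at h0
      have := hmem _ h0
      rwa [map_natCast] at this
  · intro y
    obtain ⟨n, d, hd⟩ := hres (maximalIdeal (CAlg2.normRed D))
      (Ideal.Quotient.mk _ (φ.symm y))
    refine ⟨n, d, ?_⟩
    have h1 : (φ.symm y) ^ (ringExpChar (CAlg2.normRed D ⧸ maximalIdeal (CAlg2.normRed D)) ^ n) -
        algebraMap (CAlg2.red D) (CAlg2.normRed D) (Ideal.Quotient.mk _ d) ∈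
        maximalIdeal (CAlg2.normRed D) := by
      rw [← Ideal.Quotient.eq, map_pow]
      exact hd.symm
    have h2 := hmem _ h1
    rwa [map_sub, map_pow, AlgEquiv.apply_symm_apply, φ.commutes, hρ] at h2

section Gen

variable (R T B : Type*) [CommRing R] [CommRing T] [IsLocalRing T] [Algebra R T] [CommRing B]
  [Algebra R B]

theorem exists_sub_one_tmul_mem
    (hres : ∀ y : T, ∃ r : R, y - algebraMap R T r ∈ maximalIdeal T) (y : T ⊗[R] B) :
    ∃ b : B, y - (1 : T) ⊗ₜ[R] b ∈ (maximalIdeal T).map (algebraMap T (T ⊗[R] B)) := by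
  induction y using TensorProduct.induction_on with
  | zero => exact ⟨0, by simp⟩
  | tmul a b =>
    obtain ⟨r, hr⟩ := hres a
    refine ⟨r • b, ?_⟩
    have h1 : a ⊗ₜ[R] b - (1 : T) ⊗ₜ[R] (r • b) =
        algebraMap T (T ⊗[R] B) (a - algebraMap R T r) * ((1 : T) ⊗ₜ[R] b) := by
      rw [Algebra.TensorProduct.algebraMap_apply, Algebra.TensorProduct.tmul_mul_tmul,
        mul_one, one_mul, Algebra.algebraMap_self_apply, TensorProduct.sub_tmul,
        ← TensorProduct.smul_tmul, Algebra.smul_def, mul_one]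
    rw [h1]
    exact Ideal.mul_mem_right _ _ (Ideal.mem_map_of_mem _ hr)
  | add x y hx hy =>
    obtain ⟨x', hx'⟩ := hx
    obtain ⟨y', hy'⟩ := hy
    refine ⟨x' + y', ?_⟩
    have : x + y - (1 : T) ⊗ₜ[R] (x' + y') = (x - (1 : T) ⊗ₜ[R] x') + (y - (1 : T) ⊗ₜ[R] y') := by
      rw [TensorProduct.tmul_add]; ring
    rw [this]
    exact Ideal.add_mem _ hx' hy'

theorem map_maximalIdeal_le [Module.Finite R B] [IsLocalRing (T ⊗[R] B)]
    (hinj : Function.Injective (algebraMap T (T ⊗[R] B))) :
    (maximalIdeal T).map (algebraMap T (T ⊗[R] B)) ≤ maximalIdeal (T ⊗[R] B) := by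
  haveI : Algebra.IsIntegral T (T ⊗[R] B) := Algebra.IsIntegral.of_finite _ _
  apply le_maximalIdeal
  have hker : RingHom.ker (algebraMap T (T ⊗[R] B)) ≤ maximalIdeal T := by
    rw [(RingHom.injective_iff_ker_eq_bot _).mp hinj]
    exact bot_le
  obtain ⟨Q, hQ, hQc⟩ := Ideal.exists_ideal_over_maximal_of_isIntegral
    (S := T ⊗[R] B) (maximalIdeal T) hker
  intro htop
  have : (maximalIdeal T).map (algebraMap T (T ⊗[R] B)) ≤ Q := by
    rw [Ideal.map_le_iff_le_comap, hQc]
  rw [htop, top_le_iff] at this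
  exact hQ.ne_top this

theorem exists_mul_eq_algebraMap_tensor [IsDomain R] [IsDomain T]
    (hRT : Function.Injective (algebraMap R T))
    (hfracB : ∀ b : B, ∃ s : R, s ≠ 0 ∧ ∃ a : R, algebraMap R B s * b = algebraMap R B a)
    (y : T ⊗[R] B) :
    ∃ d : T, d ≠ 0 ∧ ∃ d₂ : T, algebraMap T (T ⊗[R] B) d * y = algebraMap T (T ⊗[R] B) d₂ := by
  have key : ∃ s : R, s ≠ 0 ∧ ∃ d₂ : T, s • y = algebraMap T (T ⊗[R] B) d₂ := by
    induction y using TensorProduct.induction_on with
    | zero => exact ⟨1, one_ne_zero, 0, by simp⟩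
    | tmul t b =>
      obtain ⟨s, hs, a, hsa⟩ := hfracB b
      refine ⟨s, hs, a • t, ?_⟩
      rw [← TensorProduct.tmul_smul, Algebra.smul_def s b, hsa,
        Algebra.TensorProduct.algebraMap_apply, Algebra.algebraMap_self_apply,
        Algebra.algebraMap_eq_smul_one, TensorProduct.tmul_smul, TensorProduct.smul_tmul']
    | add x y hx hy =>
      obtain ⟨s₁, hs₁, c₁, h₁⟩ := hx
      obtain ⟨s₂, hs₂, c₂, h₂⟩ := hy
      refine ⟨s₁ * s₂, mul_ne_zero hs₁ hs₂, s₂ • c₁ + s₁ • c₂, ?_⟩
      rw [smul_add, mul_comm s₁ s₂, mul_smul, h₁, mul_comm s₂ s₁, mul_smul, h₂, map_add,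
        Algebra.smul_def s₂ c₁, Algebra.smul_def s₁ c₂, map_mul, map_mul, Algebra.smul_def,
        Algebra.smul_def, IsScalarTower.algebraMap_apply R T (T ⊗[R] B),
        IsScalarTower.algebraMap_apply R T (T ⊗[R] B)]
  obtain ⟨s, hs, d₂, hsd⟩ := key
  refine ⟨algebraMap R T s, fun h0 => hs (hRT (h0.trans (map_zero _).symm)), d₂, ?_⟩
  rw [← hsd, Algebra.smul_def, IsScalarTower.algebraMap_apply R T (T ⊗[R] B)]

end Gen

section Transfer

variable (A : Type u) [CommRing A] [IsNoetherianRing A] [IsLocalRing A] [IsDomain A]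
  (h : EGA4.HasGeomNormalFormalFibres A) (K : Type u) [Field K] [Algebra A K] [IsFractionRing A K]

theorem exists_mul_eq_algebraMap_integralClosure (y : integralClosure A K) :
    ∃ d : A, d ≠ 0 ∧ ∃ d₂ : A, algebraMap A (integralClosure A K) d * y =
      algebraMap A (integralClosure A K) d₂ := by
  obtain ⟨⟨a, s⟩, hs⟩ := IsLocalization.surj (nonZeroDivisors A) (y : K)
  refine ⟨s, nonZeroDivisors.coe_ne_zero s, a, ?_⟩
  apply Subtype.ext
  rw [mul_comm]
  exact hs

open Groth.Agent.Lib.Helper17.GeomUnibranch Groth.Agent.Lib.Helper17 in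
include h in
theorem isGeomUnibranch_cpl_iff [IsLocalRing (integralClosure A K)] [IsDomain (EGA4.Cpl A)] :
    CAlg2.IsGeomUnibranch (EGA4.Cpl A) ↔ CAlg2.IsGeomUnibranch A := by
  haveI := finite_integralClosure A h K
  obtain ⟨hloc, hdom⟩ := isLocalRing_isDomain_tensor A h K
  haveI := hloc
  haveI := hdom
  haveI : IsIntegrallyClosed (EGA4.Cpl A ⊗[A] integralClosure A K) :=
    CplOnePlus.isIntegrallyClosed_of_isNormalRing _ (isNormalRing_tensor A h K).2
  haveI : IsIntegrallyClosed (integralClosure A K) :=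
    integralClosure.isIntegrallyClosedOfFiniteExtension K
  haveI : Algebra.IsIntegral (EGA4.Cpl A) (EGA4.Cpl A ⊗[A] integralClosure A K) :=
    Algebra.IsIntegral.of_finite _ _
  haveI : Module.FaithfullyFlat A (EGA4.Cpl A) := AnUnram.faithfullyFlat_cpl A
  have hinjA' : Function.Injective (algebraMap A (integralClosure A K)) :=
    FaithfulSMul.algebraMap_injective A _
  have hinjC := includeLeft_injective A K
  have hfracA' := exists_mul_eq_algebraMap_integralClosure A K
  have hfracC := exists_mul_eq_algebraMap_tensor A (EGA4.Cpl A) (integralClosure A K)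
    (FaithfulSMul.algebraMap_injective A _) hfracA'
  have hrefl : ∀ z : integralClosure A K,
      (1 : EGA4.Cpl A) ⊗ₜ[A] z ∈ maximalIdeal (EGA4.Cpl A ⊗[A] integralClosure A K) ↔
        z ∈ maximalIdeal (integralClosure A K) := by
    intro z
    rw [mem_maximalIdeal, mem_nonunits_iff, mem_maximalIdeal, mem_nonunits_iff, not_iff_not]
    constructor
    · exact isUnit_of_isUnit_one_tmul A (EGA4.Cpl A) _ z
    · intro hu
      exact hu.map (Algebra.TensorProduct.includeRight :
        integralClosure A K →ₐ[A] EGA4.Cpl A ⊗[A] integralClosure A K)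
  have hmaxle := map_maximalIdeal_le A (EGA4.Cpl A) (integralClosure A K) hinjC
  have hnat : ∀ e : ℕ, ((e : ℕ) : EGA4.Cpl A ⊗[A] integralClosure A K) =
      (1 : EGA4.Cpl A) ⊗ₜ[A] ((e : ℕ) : integralClosure A K) := by
    intro e
    exact (map_natCast (Algebra.TensorProduct.includeRight :
      integralClosure A K →ₐ[A] EGA4.Cpl A ⊗[A] integralClosure A K) e).symm
  have halg : ∀ d : A, algebraMap (EGA4.Cpl A) (EGA4.Cpl A ⊗[A] integralClosure A K)
      (algebraMap A (EGA4.Cpl A) d) =
      (1 : EGA4.Cpl A) ⊗ₜ[A] (algebraMap A (integralClosure A K) d) := by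
    intro d
    rw [← IsScalarTower.algebraMap_apply A (EGA4.Cpl A)]
    exact ((Algebra.TensorProduct.includeRight :
      integralClosure A K →ₐ[A] EGA4.Cpl A ⊗[A] integralClosure A K).commutes d).symm
  have hpow : ∀ (z : integralClosure A K) (k : ℕ),
      ((1 : EGA4.Cpl A) ⊗ₜ[A] z) ^ k = (1 : EGA4.Cpl A) ⊗ₜ[A] (z ^ k) := by
    intro z k
    rw [Algebra.TensorProduct.tmul_pow, one_pow]
  constructor
  · intro hÂ
    obtain ⟨e, he, hpi⟩ := exists_exp_of_isGeomUnibranch hÂ
      (EGA4.Cpl A ⊗[A] integralClosure A K) hinjC hfracC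
    refine isGeomUnibranch_of_normalization (integralClosure A K) hinjA' hfracA' e ?_ ?_
    · rcases he with he1 | ⟨hp, hpm⟩
      · exact Or.inl he1
      · refine Or.inr ⟨hp, ?_⟩
        rw [hnat, hrefl] at hpm
        exact hpm
    · intro y
      obtain ⟨n, dhat, hd⟩ := hpi ((1 : EGA4.Cpl A) ⊗ₜ[A] y)
      obtain ⟨d, hdμ⟩ := (AUn.FormalLike.cpl A).res_surj dhat
      refine ⟨n, d, ?_⟩
      rw [← hrefl, TensorProduct.tmul_sub, ← hpow, ← halg]
      have h1 : ((1 : EGA4.Cpl A) ⊗ₜ[A] y) ^ (e ^ n) -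
          algebraMap (EGA4.Cpl A) (EGA4.Cpl A ⊗[A] integralClosure A K)
            (algebraMap A (EGA4.Cpl A) d) =
          (((1 : EGA4.Cpl A) ⊗ₜ[A] y) ^ (e ^ n) -
            algebraMap (EGA4.Cpl A) (EGA4.Cpl A ⊗[A] integralClosure A K) dhat) +
          algebraMap (EGA4.Cpl A) (EGA4.Cpl A ⊗[A] integralClosure A K)
            (dhat - algebraMap A (EGA4.Cpl A) d) := by
        rw [map_sub]; ring
      rw [h1]
      exact Ideal.add_mem _ hd (hmaxle (Ideal.mem_map_of_mem _ hdμ))
  · intro hA
    obtain ⟨e, he, hpi⟩ := exists_exp_of_isGeomUnibranch hA (integralClosure A K) hinjA' hfracA'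
    refine isGeomUnibranch_of_normalization (EGA4.Cpl A ⊗[A] integralClosure A K) hinjC hfracC
      e ?_ ?_
    · rcases he with he1 | ⟨hp, hpm⟩
      · exact Or.inl he1
      · refine Or.inr ⟨hp, ?_⟩
        rw [hnat, hrefl]
        exact hpm
    · intro y
      obtain ⟨a', ha'⟩ := exists_sub_one_tmul_mem A (EGA4.Cpl A) (integralClosure A K)
        (AUn.FormalLike.cpl A).res_surj y
      obtain ⟨n, d, hd⟩ := hpi a'
      refine ⟨n, algebraMap A (EGA4.Cpl A) d, ?_⟩
      have h1 : y ^ (e ^ n) - algebraMap (EGA4.Cpl A) (EGA4.Cpl A ⊗[A] integralClosure A K)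
            (algebraMap A (EGA4.Cpl A) d) =
          (y ^ (e ^ n) - ((1 : EGA4.Cpl A) ⊗ₜ[A] a') ^ (e ^ n)) +
          (1 : EGA4.Cpl A) ⊗ₜ[A] (a' ^ (e ^ n) - algebraMap A (integralClosure A K) d) := by
        rw [TensorProduct.tmul_sub, ← hpow, ← halg]; ring
      rw [h1]
      exact Ideal.add_mem _ (Groth.Agent.Lib.Helper17.Unibranch.pow_sub_mem_of_sub_mem _ (hmaxle ha') _) ((hrefl _).mpr hd)

end Transfer

section Final

theorem isDomain_of_isDomain_red (R : Type u) [CommRing R] [IsReduced R]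
    [IsDomain (CAlg2.red R)] : IsDomain R := by
  have hmkinj : Function.Injective (Ideal.Quotient.mk (nilradical R)) := by
    rw [injective_iff_map_eq_zero]
    intro x hx
    rw [Ideal.Quotient.eq_zero_iff_mem, nilradical_eq_zero, Ideal.zero_eq_bot, Ideal.mem_bot] at hx
    exact hx
  exact hmkinj.isDomain _

theorem isDomain_red_of_isDomain (R : Type u) [CommRing R] [IsDomain R] :
    IsDomain (CAlg2.red R) := by
  haveI : (nilradical R).IsPrime := by
    rw [nilradical_eq_zero]; exact Ideal.isPrime_bot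
  exact Ideal.Quotient.isDomain _

variable (A : Type u) [CommRing A] [IsNoetherianRing A] [IsLocalRing A] [IsReduced A]
  (hA : EGA4.HasGeomNormalFormalFibres A)

include hA in
theorem isDomain_cpl_iff_isUnibranch : IsDomain (EGA4.Cpl A) ↔ CAlg2.IsUnibranch A := by
  haveI : Module.FaithfullyFlat A (EGA4.Cpl A) := AnUnram.faithfullyFlat_cpl A
  constructor
  · intro hd
    haveI : IsDomain A := (FaithfulSMul.algebraMap_injective A (EGA4.Cpl A)).isDomain _
    haveI := isDomain_red_of_isDomain A
    haveI := Unibranch.isFractionRing A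
    haveI := isLocalRing_integralClosure_of_isDomain_cpl A hA (FractionRing (CAlg2.red A))
    exact ⟨inferInstance, (Unibranch.normRedEquiv A).symm.isLocalRing⟩
  · rintro ⟨hdom, hloc⟩
    haveI := hdom
    haveI := hloc
    haveI := isDomain_of_isDomain_red A
    haveI := Unibranch.isFractionRing A
    haveI : IsLocalRing (integralClosure A (FractionRing (CAlg2.red A))) :=
      (Unibranch.normRedEquiv A).isLocalRing
    haveI := (isLocalRing_isDomain_tensor A hA (FractionRing (CAlg2.red A))).2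
    exact (includeLeft_injective A (FractionRing (CAlg2.red A))).isDomain _

include hA in
theorem isGeomUnibranch_cpl_iff_of_isReduced :
    CAlg2.IsGeomUnibranch (EGA4.Cpl A) ↔ CAlg2.IsGeomUnibranch A := by
  have hNag : CAlg.IsNagata A := AnUnram.isNagata_of_geomReducedFormalFibres A fun p _ =>
    NormRedFib.isGeometricallyReduced_of_isGeomNormal (hA p)
  haveI : IsReduced (EGA4.Cpl A) :=
    AUn.isReduced_of_formalLike_of_isReduced A hNag (EGA4.Cpl A) (AUn.FormalLike.cpl A)
  have key : ∀ (_ : IsDomain (EGA4.Cpl A)),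
      (CAlg2.IsGeomUnibranch (EGA4.Cpl A) ↔ CAlg2.IsGeomUnibranch A) := by
    intro hd
    obtain ⟨hdom, hloc⟩ := (isDomain_cpl_iff_isUnibranch A hA).mp hd
    haveI := hdom
    haveI := hloc
    haveI := isDomain_of_isDomain_red A
    haveI := Unibranch.isFractionRing A
    haveI : IsLocalRing (integralClosure A (FractionRing (CAlg2.red A))) :=
      (Unibranch.normRedEquiv A).isLocalRing
    exact isGeomUnibranch_cpl_iff A hA (FractionRing (CAlg2.red A))
  constructor
  · intro h
    haveI := h.1.1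
    exact (key (isDomain_of_isDomain_red (EGA4.Cpl A))).mp h
  · intro h
    exact (key ((isDomain_cpl_iff_isUnibranch A hA).mpr h.1)).mpr h

end Final

end Groth.Agent.Lib.Helper22.CplUnibranch
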