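import Mathlib
import Groth.Prelude.Def_CAlg2
import Groth.Agent.Lib.Helper22.CplUnibranch
import Groth.Agent.Lib.Helper17.GeomUnibranch
import Groth.Agent.Lib.Helper9.UnivHomeoRing3

/-!
# The normalization map of a domain is radicial iff all local rings are geometrically unibranch
(EGA IV 6.15.?)
-/

set_option autoImplicit false

namespace Groth.Agent.Lib.Helper22.RadicialNorm

open IsLocalRing Groth.Agent.Lib.Helper17.GeomUnibranch
open Groth.Agent.Lib.Helper9.UnivHomeoRing

universe u

/-- in a field, `e^n`-th powers are injective when `e = 1` or `e` is a prime which is zero -/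
theorem eq_of_pow_eq {K : Type*} [Field K] (e : ℕ) (he : e = 1 ∨ (e.Prime ∧ (e : K) = 0)) (n : ℕ)
    {x y : K} (h : x ^ e ^ n = y ^ e ^ n) : x = y := by
  rcases he with rfl | ⟨hp, h0⟩
  · simpa using h
  · haveI : Fact e.Prime := ⟨hp⟩
    haveI : CharP K e := by
      have hdvd : ringChar K ∣ e := ringChar.dvd h0
      rcases (Nat.dvd_prime hp).mp hdvd with h1 | h1
      · exact absurd h1 (CharP.ringChar_ne_one)
      · rw [← h1]; exact ringChar.charP K
    have h2 : (x - y) ^ e ^ n = 0 := by rw [sub_pow_char_pow, h, sub_self]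
    exact sub_eq_zero.mp ((pow_eq_zero_iff (pow_pos hp.pos n).ne').mp h2)

/-- a unibranch local domain: any model of its normalization is local -/
theorem isLocalRing_of_isUnibranch {D : Type u} [CommRing D] [IsDomain D] [IsLocalRing D]
    (hD : CAlg2.IsUnibranch D)
    (D' : Type u) [CommRing D'] [IsDomain D'] [IsIntegrallyClosed D'] [Algebra D D']
    [Algebra.IsIntegral D D']
    (hinj : Function.Injective (algebraMap D D'))
    (hfrac : ∀ y : D', ∃ d : D, d ≠ 0 ∧ ∃ d₂ : D, algebraMap D D' d * y = algebraMap D D' d₂) :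
    IsLocalRing D' := by
  obtain ⟨hdomA, hlocN⟩ := hD
  have hnil : nilradical D = ⊥ := nilradical_eq_zero D
  have hmkinj : Function.Injective (Ideal.Quotient.mk (nilradical D)) := by
    rw [injective_iff_map_eq_zero]
    intro x hx
    rw [Ideal.Quotient.eq_zero_iff_mem, hnil, Ideal.mem_bot] at hx
    exact hx
  let ρ : CAlg2.red D →+* D' := Ideal.Quotient.lift (nilradical D) (algebraMap D D') (by
    intro a ha
    rw [hnil, Ideal.mem_bot] at ha
    rw [ha, map_zero])
  letI algA : Algebra (CAlg2.red D) D' := ρ.toAlgebra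
  have hρ : ∀ a : D, algebraMap (CAlg2.red D) D' (Ideal.Quotient.mk _ a) = algebraMap D D' a :=
    fun a => rfl
  haveI : IsScalarTower D (CAlg2.red D) D' := IsScalarTower.of_algebraMap_eq (fun a => (hρ a).symm)
  haveI : Algebra.IsIntegral (CAlg2.red D) D' :=
    ⟨fun y => (Algebra.IsIntegral.isIntegral (R := D) y).tower_top⟩
  have hinjA : Function.Injective (algebraMap (CAlg2.red D) D') := by
    rw [injective_iff_map_eq_zero]
    intro x hx
    obtain ⟨a, rfl⟩ := Ideal.Quotient.mk_surjective x
    rw [hρ] at hx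
    rw [hinj (by rw [hx, map_zero] : algebraMap D D' a = algebraMap D D' 0), map_zero]
  have hfracA : ∀ y : D', ∃ d : CAlg2.red D, d ≠ 0 ∧ ∃ d₂ : CAlg2.red D,
      algebraMap (CAlg2.red D) D' d * y = algebraMap (CAlg2.red D) D' d₂ := by
    intro y
    obtain ⟨d, hd, d₂, h⟩ := hfrac y
    refine ⟨Ideal.Quotient.mk _ d, fun h0 => hd (hmkinj (by rw [h0, map_zero])),
      Ideal.Quotient.mk _ d₂, ?_⟩
    rw [hρ, hρ, h]
  obtain ⟨φ⟩ := nonempty_algEquiv_integralClosure (CAlg2.red D) D' hinjA hfracA
  exact φ.toRingEquiv.isLocalRing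

/-- purely inseparable residue field extension from an "epimorphism" property -/
theorem exists_exp_of_injective_comp {D D' : Type u} [CommRing D] [IsLocalRing D] [CommRing D']
    [IsLocalRing D'] [Algebra D D']
    (hcomap : (maximalIdeal D').comap (algebraMap D D') = maximalIdeal D)
    (hepi : ∀ (Ω : Type u) [Field Ω] (σ₁ σ₂ : ResidueField D' →+* Ω),
      (σ₁.comp (residue D')).comp (algebraMap D D') =
        (σ₂.comp (residue D')).comp (algebraMap D D') → σ₁ = σ₂) :
    ∃ e : ℕ, (e = 1 ∨ (e.Prime ∧ (e : D') ∈ maximalIdeal D')) ∧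
      ∀ y : D', ∃ (n : ℕ) (d : D), y ^ (e ^ n) - algebraMap D D' d ∈ maximalIdeal D' := by
  let r : D →+* ResidueField D' := (residue D').comp (algebraMap D D')
  have hr : ∀ a ∈ maximalIdeal D, r a = 0 := by
    intro a ha
    rw [← hcomap, Ideal.mem_comap] at ha
    exact (residue_eq_zero_iff _).mpr ha
  letI : Algebra (ResidueField D) (ResidueField D') :=
    (Ideal.Quotient.lift (maximalIdeal D) r hr).toAlgebra
  have halg : ∀ d : D, algebraMap (ResidueField D) (ResidueField D') (residue D d) =
      residue D' (algebraMap D D' d) := fun d => rfl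
  haveI : IsPurelyInseparable (ResidueField D) (ResidueField D') := by
    haveI : Nonempty (ResidueField D' →+* AlgebraicClosure (ResidueField D')) :=
      ⟨algebraMap _ _⟩
    refine IsPurelyInseparable.of_injective_comp_algebraMap (F := ResidueField D)
      (E := ResidueField D') (AlgebraicClosure (ResidueField D')) ?_
    intro σ₁ σ₂ hσ
    have hσ' : ∀ z, σ₁ (algebraMap (ResidueField D) (ResidueField D') z) =
        σ₂ (algebraMap (ResidueField D) (ResidueField D') z) := fun z => RingHom.congr_fun hσ z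
    refine hepi _ σ₁ σ₂ (RingHom.ext fun d => ?_)
    simp only [RingHom.comp_apply]
    rw [← halg, hσ']
  have hE := ringExpChar.expChar (ResidueField D)
  refine ⟨ringExpChar (ResidueField D), ?_, ?_⟩
  · generalize ringExpChar (ResidueField D) = q at hE ⊢
    cases hE with
    | zero => exact Or.inl rfl
    | prime hq =>
      refine Or.inr ⟨hq, ?_⟩
      have h0 : ((q : ℕ) : ResidueField D) = 0 := CharP.cast_eq_zero _ _
      have h1 : ((q : ℕ) : ResidueField D') = 0 := by
        rw [← map_natCast (algebraMap (ResidueField D) (ResidueField D')), h0, map_zero]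
      rw [← map_natCast (residue D'), residue_eq_zero_iff] at h1
      exact h1
  · intro y
    obtain ⟨n, z, hz⟩ := IsPurelyInseparable.pow_mem (ResidueField D)
      (ringExpChar (ResidueField D)) (residue D' y)
    obtain ⟨d, rfl⟩ := residue_surjective z
    refine ⟨n, d, ?_⟩
    rw [← residue_eq_zero_iff, map_sub, map_pow, sub_eq_zero, ← hz]
    rfl

section Model

variable {A : Type u} [CommRing A] [IsDomain A] (A' : Type u) [CommRing A'] [IsDomain A']
  [IsIntegrallyClosed A'] [Algebra A A'] [Algebra.IsIntegral A A']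
  (hinj : Function.Injective (algebraMap A A'))
  (hfrac : ∀ y : A', ∃ d : A, d ≠ 0 ∧ ∃ d₂ : A, algebraMap A A' d * y = algebraMap A A' d₂)
  (p : Ideal A) [p.IsPrime]

local notation "Dp" => Localization.AtPrime p
local notation "D'p" => Localization (Algebra.algebraMapSubmonoid A' p.primeCompl)

include hinj in
theorem le_nonZeroDivisors : Algebra.algebraMapSubmonoid A' p.primeCompl ≤ nonZeroDivisors A' := by
  rintro _ ⟨t, ht, rfl⟩
  refine mem_nonZeroDivisors_of_ne_zero fun h0 => ht ?_
  rw [hinj (h0.trans (map_zero _).symm)]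
  exact p.zero_mem

include hinj in
theorem isDomain_loc : IsDomain D'p :=
  IsLocalization.isDomain_localization (le_nonZeroDivisors A' hinj p)

include hinj in
theorem isIntegrallyClosed_loc : IsIntegrallyClosed D'p :=
  isIntegrallyClosed_of_isLocalization D'p _ (le_nonZeroDivisors A' hinj p)

theorem isIntegral_loc : Algebra.IsIntegral Dp D'p :=
  ⟨isIntegral_localization (R := A) (S := A') (M := p.primeCompl) (Rₘ := Dp) (Sₘ := D'p)⟩

include hinj in
theorem injective_loc : Function.Injective (algebraMap Dp D'p) :=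
  localizationAlgebra_injective Dp D'p hinj

theorem algebraMap_loc (a : A) :
    algebraMap Dp D'p (algebraMap A Dp a) = algebraMap A' D'p (algebraMap A A' a) := by
  rw [← IsScalarTower.algebraMap_apply A Dp D'p, IsScalarTower.algebraMap_apply A A' D'p]

include hfrac in
theorem frac_loc (y : D'p) :
    ∃ d : Dp, d ≠ 0 ∧ ∃ d₂ : Dp, algebraMap Dp D'p d * y = algebraMap Dp D'p d₂ := by
  obtain ⟨a', s, rfl⟩ :=
    IsLocalization.exists_mk'_eq (Algebra.algebraMapSubmonoid A' p.primeCompl) y
  obtain ⟨t, ht, hts⟩ := s.2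
  obtain ⟨d, hd, d₂, h⟩ := hfrac a'
  have ht0 : t ≠ 0 := fun h0 => ht (h0 ▸ p.zero_mem)
  have hAD : Function.Injective (algebraMap A Dp) :=
    IsLocalization.injective Dp p.primeCompl_le_nonZeroDivisors
  have hspec := IsLocalization.mk'_spec' D'p a' s
  refine ⟨algebraMap A Dp (d * t), fun h0 => mul_ne_zero hd ht0 (hAD (h0.trans (map_zero _).symm)),
    algebraMap A Dp d₂, ?_⟩
  rw [algebraMap_loc, algebraMap_loc, ← h, map_mul, map_mul, map_mul, mul_assoc, hts, hspec]

/-- if the localized normalization is local, there is a unique prime over `p` -/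
theorem eq_comap_maximalIdeal [IsLocalRing D'p] (q : Ideal A') [q.IsPrime]
    (hq : q.comap (algebraMap A A') = p) :
    q = (maximalIdeal D'p).comap (algebraMap A' D'p) := by
  haveI := isIntegral_loc A' p
  have hdisj : Disjoint (Algebra.algebraMapSubmonoid A' p.primeCompl : Set A') q := by
    rw [Set.disjoint_left]
    rintro _ ⟨t, ht, rfl⟩ hmem
    apply ht
    rw [← hq]
    exact hmem
  haveI hQ : (q.map (algebraMap A' D'p)).IsPrime :=
    IsLocalization.isPrime_of_isPrime_disjoint _ D'p q inferInstance hdisj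
  have hcomap : (q.map (algebraMap A' D'p)).comap (algebraMap A' D'p) = q :=
    IsLocalization.under_map_of_isPrime_disjoint _ D'p inferInstance hdisj
  have hmax : ((q.map (algebraMap A' D'p)).comap (algebraMap Dp D'p)).IsMaximal := by
    have h1 : (q.map (algebraMap A' D'p)).comap (algebraMap Dp D'p) = maximalIdeal Dp := by
      rw [← Localization.AtPrime.eq_maximalIdeal_iff_under_eq]
      change ((q.map (algebraMap A' D'p)).comap (algebraMap Dp D'p)).comap (algebraMap A Dp) = p
      rw [Ideal.comap_comap, ← IsScalarTower.algebraMap_eq,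
        IsScalarTower.algebraMap_eq A A' D'p, ← Ideal.comap_comap, hcomap, hq]
    rw [h1]
    infer_instance
  have hmax' := Ideal.isMaximal_of_isIntegral_of_isMaximal_comap _ hmax
  rw [← IsLocalRing.eq_maximalIdeal hmax', hcomap]

include hinj in
/-- if there is a unique prime over `p`, the localized normalization is local -/
theorem isLocalRing_loc_of_unique
    (huniq : ∀ q₁ q₂ : Ideal A', q₁.IsPrime → q₂.IsPrime → q₁.comap (algebraMap A A') = p →
      q₂.comap (algebraMap A A') = p → q₁ = q₂) : IsLocalRing D'p := by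
  haveI := isDomain_loc A' hinj p
  haveI := isIntegral_loc A' p
  have key : ∀ N : Ideal D'p, N.IsMaximal →
      (N.comap (algebraMap A' D'p)).comap (algebraMap A A') = p := by
    intro N hN
    have h1 : (N.comap (algebraMap Dp D'p)).IsMaximal :=
      Ideal.isMaximal_comap_of_isIntegral_of_isMaximal N
    have h2 := IsLocalRing.eq_maximalIdeal h1
    rw [Ideal.comap_comap, ← IsScalarTower.algebraMap_eq, IsScalarTower.algebraMap_eq A Dp D'p,
      ← Ideal.comap_comap, h2]
    exact Localization.AtPrime.under_maximalIdeal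
  refine IsLocalRing.of_unique_max_ideal ?_
  obtain ⟨N, hN⟩ := Ideal.exists_maximal D'p
  refine ⟨N, hN, fun N' hN' => ?_⟩
  have h3 := huniq _ _ (Ideal.comap_isPrime _ _) (Ideal.comap_isPrime _ _) (key N' hN') (key N hN)
  rw [← IsLocalization.map_under (Algebra.algebraMapSubmonoid A' p.primeCompl) D'p N',
    ← IsLocalization.map_under (Algebra.algebraMapSubmonoid A' p.primeCompl) D'p N]
  exact congrArg _ h3

/-- a point of `Spec A'` over `p` with values in an algebraically closed field, with prescribed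
restriction to `A` and kernel `q` -/
theorem exists_ringHom_ker_eq (q : Ideal A') [q.IsPrime] (hq : q.comap (algebraMap A A') = p)
    (Ω : Type u) [Field Ω] [IsAlgClosed Ω] (g₀ : A ⧸ p →+* Ω) (hg₀ : Function.Injective g₀) :
    ∃ g : A' →+* Ω, RingHom.ker g = q ∧
      ∀ a : A, g (algebraMap A A' a) = g₀ (Ideal.Quotient.mk p a) := by
  haveI : q.LiesOver p := ⟨hq.symm⟩
  have hinj' : Function.Injective (algebraMap (A ⧸ p) (A' ⧸ q)) :=
    FaithfulSMul.algebraMap_injective _ _
  obtain ⟨g', hg'⟩ := exists_ringHom_extension hinj' g₀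
  have hker : RingHom.ker g' = ⊥ := by
    apply Ideal.eq_bot_of_comap_eq_bot (R := A ⧸ p)
    rw [eq_bot_iff]
    intro x hx
    rw [Ideal.mem_comap, RingHom.mem_ker] at hx
    have h0 : g₀ x = 0 := by rw [← hg']; exact hx
    rw [Ideal.mem_bot]
    exact hg₀ (h0.trans (map_zero _).symm)
  refine ⟨g'.comp (Ideal.Quotient.mk q), ?_, fun a => ?_⟩
  · rw [← RingHom.comap_ker, hker, ← RingHom.ker_eq_comap_bot, Ideal.mk_ker]
  · rw [← hg']
    rfl

include hinj hfrac in
theorem eq_of_comp_eq (hD : CAlg2.IsGeomUnibranch (Localization.AtPrime p))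
    {K : Type u} [Field K] (g₁ g₂ : A' →+* K)
    (h : g₁.comp (algebraMap A A') = g₂.comp (algebraMap A A'))
    (hp : p = RingHom.ker (g₁.comp (algebraMap A A'))) : g₁ = g₂ := by
  have h' : ∀ a : A, g₁ (algebraMap A A' a) = g₂ (algebraMap A A' a) :=
    fun a => RingHom.congr_fun h a
  have hmemp : ∀ a : A, a ∈ p ↔ g₁ (algebraMap A A' a) = 0 := by
    intro a
    rw [hp, RingHom.mem_ker, RingHom.comp_apply]
  haveI := isDomain_loc A' hinj p
  haveI := isIntegrallyClosed_loc A' hinj p
  haveI := isIntegral_loc A' p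
  haveI : IsLocalRing D'p := isLocalRing_of_isUnibranch hD.1 D'p (injective_loc A' hinj p)
    (frac_loc A' hfrac p)
  obtain ⟨e, he, hpi⟩ := CplUnibranch.exists_exp_of_isGeomUnibranch hD D'p
    (injective_loc A' hinj p) (frac_loc A' hfrac p)
  have hu₁ : ∀ y : Algebra.algebraMapSubmonoid A' p.primeCompl, IsUnit (g₁ y) := by
    rintro ⟨_, t, ht, rfl⟩
    exact IsUnit.mk0 _ fun h0 => ht ((hmemp t).mpr h0)
  have hu₂ : ∀ y : Algebra.algebraMapSubmonoid A' p.primeCompl, IsUnit (g₂ y) := by
    rintro ⟨_, t, ht, rfl⟩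
    exact IsUnit.mk0 _ fun h0 => ht ((hmemp t).mpr ((h' t).trans h0))
  have hĝ₁ : ∀ a', (IsLocalization.lift hu₁ : D'p →+* K) (algebraMap A' D'p a') = g₁ a' :=
    IsLocalization.lift_eq hu₁
  have hĝ₂ : ∀ a', (IsLocalization.lift hu₂ : D'p →+* K) (algebraMap A' D'p a') = g₂ a' :=
    IsLocalization.lift_eq hu₂
  generalize (IsLocalization.lift hu₁ : D'p →+* K) = ĝ₁ at hĝ₁
  generalize (IsLocalization.lift hu₂ : D'p →+* K) = ĝ₂ at hĝ₂
  have hagree : ∀ d : Dp, ĝ₁ (algebraMap Dp D'p d) = ĝ₂ (algebraMap Dp D'p d) := by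
    have h1 : ĝ₁.comp (algebraMap Dp D'p) = ĝ₂.comp (algebraMap Dp D'p) := by
      apply IsLocalization.ringHom_ext p.primeCompl
      ext a
      simp only [RingHom.comp_apply]
      rw [algebraMap_loc, hĝ₁, hĝ₂, h']
    exact fun d => RingHom.congr_fun h1 d
  have hkill : ∀ (ĝ : D'p →+* K), (∀ a : A, ĝ (algebraMap A' D'p (algebraMap A A' a)) =
      g₁ (algebraMap A A' a)) → ∀ y ∈ maximalIdeal D'p, ĝ y = 0 := by
    intro ĝ hĝ y hy
    haveI : (RingHom.ker ĝ).IsPrime := RingHom.ker_isPrime ĝ
    have h1 : (RingHom.ker ĝ).comap (algebraMap Dp D'p) = maximalIdeal Dp := by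
      rw [← Localization.AtPrime.eq_maximalIdeal_iff_under_eq]
      ext a
      change ĝ (algebraMap Dp D'p (algebraMap A Dp a)) = 0 ↔ a ∈ p
      rw [algebraMap_loc, hĝ, hmemp]
    have hmax : ((RingHom.ker ĝ).comap (algebraMap Dp D'p)).IsMaximal := by
      rw [h1]; infer_instance
    have hmax' := Ideal.isMaximal_of_isIntegral_of_isMaximal_comap _ hmax
    rw [← IsLocalRing.eq_maximalIdeal hmax'] at hy
    exact hy
  have hk₁ := hkill ĝ₁ (fun a => hĝ₁ _)
  have hk₂ := hkill ĝ₂ (fun a => (hĝ₂ _).trans (h' a).symm)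
  have he' : e = 1 ∨ (e.Prime ∧ (e : K) = 0) := by
    rcases he with he | ⟨hp', hm⟩
    · exact Or.inl he
    · refine Or.inr ⟨hp', ?_⟩
      have := hk₁ _ hm
      rwa [map_natCast] at this
  ext a'
  obtain ⟨n, d, hd⟩ := hpi (algebraMap A' D'p a')
  have e₁ := hk₁ _ hd
  have e₂ := hk₂ _ hd
  rw [map_sub, map_pow, sub_eq_zero, hĝ₁] at e₁
  rw [map_sub, map_pow, sub_eq_zero, hĝ₂] at e₂
  exact eq_of_pow_eq e he' n (e₁.trans ((hagree d).trans e₂.symm))

include hinj hfrac in
theorem isGeomUnibranch_of_isRadicial (hrad : IsRadicial (algebraMap A A')) :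
    CAlg2.IsGeomUnibranch (Localization.AtPrime p) := by
  haveI := isDomain_loc A' hinj p
  haveI := isIntegrallyClosed_loc A' hinj p
  haveI := isIntegral_loc A' p
  -- uniqueness of the prime over `p`
  have huniq : ∀ q₁ q₂ : Ideal A', q₁.IsPrime → q₂.IsPrime → q₁.comap (algebraMap A A') = p →
      q₂.comap (algebraMap A A') = p → q₁ = q₂ := by
    intro q₁ q₂ hq₁ hq₂ h₁ h₂
    let g₀ : A ⧸ p →+* AlgebraicClosure (FractionRing (A ⧸ p)) :=
      (algebraMap (FractionRing (A ⧸ p)) (AlgebraicClosure (FractionRing (A ⧸ p)))).comp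
        (algebraMap (A ⧸ p) (FractionRing (A ⧸ p)))
    have hg₀ : Function.Injective g₀ :=
      (algebraMap (FractionRing (A ⧸ p)) (AlgebraicClosure (FractionRing (A ⧸ p)))).injective.comp
        (IsFractionRing.injective _ _)
    obtain ⟨g₁, hk₁, hg₁⟩ := exists_ringHom_ker_eq A' p q₁ h₁ _ g₀ hg₀
    obtain ⟨g₂, hk₂, hg₂⟩ := exists_ringHom_ker_eq A' p q₂ h₂ _ g₀ hg₀
    have := hrad _ g₁ g₂ (RingHom.ext fun a => by
      rw [RingHom.comp_apply, RingHom.comp_apply, hg₁, hg₂])
    rw [← hk₁, ← hk₂, this]
  haveI : IsLocalRing D'p := isLocalRing_loc_of_unique A' hinj p huniq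
  -- the residue field extension
  have hcomap : (maximalIdeal D'p).comap (algebraMap Dp D'p) = maximalIdeal Dp :=
    IsLocalRing.eq_maximalIdeal (Ideal.isMaximal_comap_of_isIntegral_of_isMaximal _)
  obtain ⟨e, he, hpi⟩ := exists_exp_of_injective_comp (D := Dp) (D' := D'p) hcomap (by
    intro Ω _ σ₁ σ₂ hσ
    have hσ' : ∀ d : Dp, σ₁ (residue D'p (algebraMap Dp D'p d)) =
        σ₂ (residue D'p (algebraMap Dp D'p d)) := fun d => RingHom.congr_fun hσ d
    have h1 := hrad _ ((σ₁.comp (residue D'p)).comp (algebraMap A' D'p))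
      ((σ₂.comp (residue D'p)).comp (algebraMap A' D'p)) (RingHom.ext fun a => by
        simp only [RingHom.comp_apply]
        rw [← algebraMap_loc, hσ'])
    have h2 : σ₁.comp (residue D'p) = σ₂.comp (residue D'p) :=
      IsLocalization.ringHom_ext (Algebra.algebraMapSubmonoid A' p.primeCompl) h1
    exact (RingHom.cancel_right (residue_surjective)).mp h2)
  exact isGeomUnibranch_of_normalization D'p (injective_loc A' hinj p) (frac_loc A' hfrac p)
    e he hpi

end Model

section Main

open AlgebraicGeometry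

variable (A : Type u) [CommRing A] [IsDomain A]

theorem exists_mul_eq_algebraMap_integralClosure (K : Type u) [Field K] [Algebra A K]
    [IsFractionRing A K] (y : integralClosure A K) :
    ∃ d : A, d ≠ 0 ∧ ∃ d₂ : A, algebraMap A (integralClosure A K) d * y =
      algebraMap A (integralClosure A K) d₂ := by
  obtain ⟨⟨a, s⟩, hs⟩ := IsLocalization.surj (nonZeroDivisors A) (y : K)
  refine ⟨s, nonZeroDivisors.coe_ne_zero s, a, ?_⟩
  apply Subtype.ext
  rw [mul_comm]
  exact hs

/-- **EGA IV 6.15.?**: the normalization `Spec A' → Spec A` of a domain is radicial iff all the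
local rings of `A` are geometrically unibranch, and then it is a homeomorphism. -/
theorem main :
    (UniversallyInjective (Spec.map (CommRingCat.ofHom
        (algebraMap A (integralClosure A (FractionRing A))))) ↔
      ∀ (p : Ideal A) [p.IsPrime], CAlg2.IsGeomUnibranch (Localization.AtPrime p)) ∧
    ((∀ (p : Ideal A) [p.IsPrime], CAlg2.IsGeomUnibranch (Localization.AtPrime p)) →
      IsHomeomorph (PrimeSpectrum.comap (algebraMap A (integralClosure A (FractionRing A))))) := by
  haveI : IsIntegrallyClosed (integralClosure A (FractionRing A)) :=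
    integralClosure.isIntegrallyClosedOfFiniteExtension (FractionRing A)
  have hinj : Function.Injective (algebraMap A (integralClosure A (FractionRing A))) :=
    FaithfulSMul.algebraMap_injective A _
  have hfrac := exists_mul_eq_algebraMap_integralClosure A (FractionRing A)
  refine ⟨?_, fun H => ?_⟩
  · rw [universallyInjective_SpecMap_iff]
    constructor
    · intro hrad p _
      exact isGeomUnibranch_of_isRadicial _ hinj hfrac p hrad
    · intro H K _ g₁ g₂ h
      haveI : (RingHom.ker (g₁.comp
          (algebraMap A (integralClosure A (FractionRing A))))).IsPrime := RingHom.ker_isPrime _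
      exact eq_of_comp_eq _ hinj hfrac _ (H _) g₁ g₂ h rfl
  · rw [isHomeomorph_iff_continuous_isClosedMap_bijective]
    refine ⟨PrimeSpectrum.continuous_comap _,
      PrimeSpectrum.isClosedMap_comap_of_isIntegral _
        (algebraMap_isIntegral_iff.mpr inferInstance), ?_,
      Algebra.IsIntegral.comap_surjective _ _⟩
    intro x₁ x₂ h
    have h1 : x₁.asIdeal.comap (algebraMap A (integralClosure A (FractionRing A))) =
        (PrimeSpectrum.comap (algebraMap A (integralClosure A (FractionRing A))) x₁).asIdeal := rfl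
    have h2 : x₂.asIdeal.comap (algebraMap A (integralClosure A (FractionRing A))) =
        (PrimeSpectrum.comap (algebraMap A (integralClosure A (FractionRing A))) x₁).asIdeal := by
      rw [h]; rfl
    set p := (PrimeSpectrum.comap (algebraMap A (integralClosure A (FractionRing A))) x₁).asIdeal
    haveI := isDomain_loc (integralClosure A (FractionRing A)) hinj p
    haveI := isIntegrallyClosed_loc (integralClosure A (FractionRing A)) hinj p
    haveI := isIntegral_loc (integralClosure A (FractionRing A)) p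
    haveI : IsLocalRing (Localization (Algebra.algebraMapSubmonoid
        (integralClosure A (FractionRing A)) p.primeCompl)) :=
      isLocalRing_of_isUnibranch (H p).1 _ (injective_loc _ hinj p) (frac_loc _ hfrac p)
    apply PrimeSpectrum.ext
    rw [eq_comap_maximalIdeal _ p x₁.asIdeal h1, eq_comap_maximalIdeal _ p x₂.asIdeal h2]

end Main

end Groth.Agent.Lib.Helper22.RadicialNorm
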