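import Mathlib
import Groth.Prelude.Def_CAlg2
import Groth.Agent.Lib.lead.GUPack
import Groth.Agent.Lib.Helper12.HenselIntegralDomain
import Groth.Agent.Lib.Helper22.RadicialNorm

/-!
# A strictly henselian local domain is geometrically unibranch
-/

set_option autoImplicit false
set_option linter.style.haveILetI false
set_option linter.unusedSectionVars false
universe u

namespace Groth.Agent.Lib.Helper22.GeomUniHens

open IsLocalRing

theorem isGeomUnibranch_of_strictlyHenselian_domain (R : Type u) [CommRing R] [IsDomain R]
    [HenselianLocalRing R] [IsSepClosed (ResidueField R)] : CAlg2.IsGeomUnibranch R := by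
  let K := FractionRing R
  haveI : IsIntegrallyClosed (integralClosure R K) :=
    integralClosure.isIntegrallyClosedOfFiniteExtension K
  haveI : IsLocalRing (integralClosure R K) :=
    Groth.Agent.Lib.Helper12.isLocalRing_of_isIntegral_of_isDomain R (integralClosure R K)
  haveI : IsLocalHom (algebraMap R (integralClosure R K)) := inferInstance
  haveI : Algebra.IsIntegral (ResidueField R) (ResidueField (integralClosure R K)) := by
    refine ⟨fun x => ?_⟩
    obtain ⟨y, rfl⟩ := IsLocalRing.residue_surjective x
    have h1 : IsIntegral R y := Algebra.IsIntegral.isIntegral y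
    have h2 : IsIntegral R (residue (integralClosure R K) y) :=
      h1.map (IsScalarTower.toAlgHom R (integralClosure R K) (ResidueField (integralClosure R K)))
    exact h2.tower_top
  haveI : Algebra.IsAlgebraic (ResidueField R) (ResidueField (integralClosure R K)) :=
    Algebra.IsIntegral.isAlgebraic
  haveI : IsPurelyInseparable (ResidueField R) (ResidueField (integralClosure R K)) :=
    inferInstance
  obtain ⟨e, he⟩ := ExpChar.exists (ResidueField R)
  haveI := he
  have he' : e = 1 ∨ (e.Prime ∧ (e : integralClosure R K) ∈ maximalIdeal (integralClosure R K)) := by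
    rcases he with _ | ⟨hp⟩
    · exact Or.inl rfl
    · right
      refine ⟨hp, ?_⟩
      rw [← Ideal.Quotient.eq_zero_iff_mem]
      change residue (integralClosure R K) (e : integralClosure R K) = 0
      rw [map_natCast]
      have h0 : (e : ResidueField R) = 0 := CharP.cast_eq_zero _ e
      have := congrArg (algebraMap (ResidueField R) (ResidueField (integralClosure R K))) h0
      rw [map_natCast, map_zero] at this
      exact this
  refine Groth.Agent.Lib.lead.GUPack.pack (integralClosure R K) ?_ ?_ e he' ?_
  · intro a ha
    have hinj : Function.Injective (algebraMap R (integralClosure R K)) :=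
      FaithfulSMul.algebraMap_injective R (integralClosure R K)
    rw [hinj (ha.trans (map_zero _).symm)]
    exact IsNilpotent.zero
  · intro y
    obtain ⟨d, hd, d₂, h⟩ :=
      Groth.Agent.Lib.Helper22.RadicialNorm.exists_mul_eq_algebraMap_integralClosure R K y
    refine ⟨d, fun h0 => hd ?_, d₂, h⟩
    exact FaithfulSMul.algebraMap_injective R (integralClosure R K) (h0.trans (map_zero _).symm)
  · intro y
    obtain ⟨n, z, hz⟩ := IsPurelyInseparable.pow_mem (ResidueField R) e
      (residue (integralClosure R K) y)
    obtain ⟨d, rfl⟩ := IsLocalRing.residue_surjective z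
    refine ⟨n, d, ?_⟩
    rw [← Ideal.Quotient.eq_zero_iff_mem]
    change residue (integralClosure R K) _ = 0
    rw [map_sub, map_pow, ← hz, IsLocalRing.ResidueField.algebraMap_residue, sub_self]

end Groth.Agent.Lib.Helper22.GeomUniHens
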