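import Mathlib
import Groth.Prelude.Def_CAlg2
import Groth.Agent.Lib.lead.GUPoly
import Groth.Agent.Lib.Helper17.GeomUnibranchScheme
import Groth.Agent.Lib.Helper22.GeomUniHens

/-!
# Smooth algebras over a geometrically unibranch local domain
-/

set_option autoImplicit false
set_option linter.style.haveILetI false
set_option linter.unusedSectionVars false
universe u

namespace Groth.Agent.Lib.Helper22.GeomUniSmooth

open IsLocalRing

/-- local rings of `R[T₁,…,Tₙ]` at primes over the maximal ideal of a geometrically unibranch
local ring `R` are geometrically unibranch (`Fin n` version) -/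
theorem isGeomUnibranch_mvPolynomial_fin (R : Type u) [CommRing R] [IsLocalRing R]
    (hR : CAlg2.IsGeomUnibranch R) (n : ℕ) (q₀ : Ideal (MvPolynomial (Fin n) R)) [q₀.IsPrime]
    (hq₀ : q₀.comap (algebraMap R (MvPolynomial (Fin n) R)) = maximalIdeal R) :
    CAlg2.IsGeomUnibranch (Localization.AtPrime q₀) := by
  let σ := ULift.{u} (Fin n)
  let eσ : MvPolynomial (Fin n) R ≃ₐ[R] MvPolynomial σ R :=
    MvPolynomial.renameEquiv R Equiv.ulift.symm
  let q : Ideal (MvPolynomial σ R) := q₀.comap eσ.symm.toRingHom
  haveI : q.IsPrime := Ideal.comap_isPrime _ q₀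
  have hq : q.comap (algebraMap R (MvPolynomial σ R)) = maximalIdeal R := by
    rw [← hq₀, Ideal.comap_comap]
    congr 1
    refine RingHom.ext fun r => ?_
    exact eσ.symm.commutes r
  letI algσ : Algebra (MvPolynomial σ R) (Localization.AtPrime q₀) :=
    ((algebraMap (MvPolynomial (Fin n) R) (Localization.AtPrime q₀)).comp
      eσ.toRingEquiv.symm.toRingHom).toAlgebra
  have h1 := IsLocalization.isLocalization_of_base_ringEquiv q₀.primeCompl
    (Localization.AtPrime q₀) eσ.toRingEquiv
  have hM : Submonoid.map eσ.toRingEquiv q₀.primeCompl = q.primeCompl := by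
    ext x
    constructor
    · rintro ⟨y, hy, rfl⟩
      change eσ.symm (eσ y) ∉ q₀
      rw [eσ.symm_apply_apply]
      exact hy
    · intro hx
      exact ⟨eσ.symm x, hx, eσ.apply_symm_apply x⟩
  rw [hM] at h1
  haveI : IsLocalization.AtPrime (Localization.AtPrime q₀) q := h1
  exact Groth.Agent.Lib.lead.GUPoly.isGeomUnibranch_mvPolynomial_local hR σ q hq
    (Localization.AtPrime q₀)


/-- local rings of a smooth algebra over a geometrically unibranch local domain, at primes over
the maximal ideal, are geometrically unibranch domains -/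
theorem isDomain_and_isGeomUnibranch_of_smooth (R R' : Type u) [CommRing R] [IsDomain R]
    [IsLocalRing R] (hR : CAlg2.IsGeomUnibranch R)
    [CommRing R'] [Algebra R R'] [Algebra.Smooth R R']
    (p : Ideal R') [p.IsPrime] (hp : (maximalIdeal R).map (algebraMap R R') ≤ p) :
    IsDomain (Localization.AtPrime p) ∧ CAlg2.IsGeomUnibranch (Localization.AtPrime p) := by
  obtain ⟨f, hfp, n, alg, htower, hstd⟩ :=
    Algebra.IsSmoothAt.exists_isStandardEtale_mvPolynomial (R := R) (p := p)
  letI := alg
  haveI := htower
  haveI := hstd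
  have hdisj : Disjoint (Submonoid.powers f : Set R') (p : Set R') :=
    (Ideal.disjoint_powers_iff_notMem_of_isPrime _).mpr hfp
  let p' : Ideal (Localization.Away f) := p.map (algebraMap R' (Localization.Away f))
  haveI hp'prime : p'.IsPrime :=
    IsLocalization.isPrime_of_isPrime_disjoint (Submonoid.powers f) _ p inferInstance hdisj
  have hp'comap : p'.comap (algebraMap R' (Localization.Away f)) = p :=
    IsLocalization.comap_map_of_isPrime_disjoint (Submonoid.powers f) _ inferInstance hdisj
  let q₀ : Ideal (MvPolynomial (Fin n) R) :=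
    p'.comap (algebraMap (MvPolynomial (Fin n) R) (Localization.Away f))
  haveI : q₀.IsPrime := Ideal.comap_isPrime _ p'
  have hq₀ : q₀.comap (algebraMap R (MvPolynomial (Fin n) R)) = maximalIdeal R := by
    have h1 : q₀.comap (algebraMap R (MvPolynomial (Fin n) R)) = p.comap (algebraMap R R') := by
      rw [← hp'comap, Ideal.comap_comap, Ideal.comap_comap,
        ← IsScalarTower.algebraMap_eq R (MvPolynomial (Fin n) R) (Localization.Away f),
        ← IsScalarTower.algebraMap_eq R R' (Localization.Away f)]
    rw [h1]
    have hle : maximalIdeal R ≤ p.comap (algebraMap R R') := Ideal.map_le_iff_le_comap.mp hp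
    exact ((maximalIdeal.isMaximal R).eq_of_le (Ideal.comap_isPrime _ p).ne_top hle).symm
  have hGU₀ := isGeomUnibranch_mvPolynomial_fin R hR n q₀ hq₀
  obtain ⟨hdomS, hGUS⟩ := Groth.Agent.Lib.Helper17.GeomUnibranchScheme.isGeomUnibranch_of_isLocalization
    (A := MvPolynomial (Fin n) R) (C := Localization.Away f) q₀ (Localization.AtPrime q₀) hGU₀
    p' rfl (Localization.AtPrime p')
  -- transfer to the localization of `R'`
  have hloc : IsLocalization.AtPrime (Localization.AtPrime p')
      (p'.comap (algebraMap R' (Localization.Away f))) :=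
    IsLocalization.isLocalization_isLocalization_atPrime_isLocalization (Submonoid.powers f)
      (Localization.AtPrime p') p'
  have heq : (p'.comap (algebraMap R' (Localization.Away f))).primeCompl = p.primeCompl := by
    ext x
    change x ∉ _ ↔ x ∉ _
    rw [hp'comap]
  rw [IsLocalization.AtPrime, heq] at hloc
  haveI := hloc
  let ε : Localization.AtPrime p ≃+* Localization.AtPrime p' :=
    (IsLocalization.algEquiv p.primeCompl (Localization.AtPrime p)
      (Localization.AtPrime p')).toRingEquiv
  haveI := hdomS
  exact ⟨MulEquiv.isDomain (Localization.AtPrime p') ε.toMulEquiv,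
    Groth.Agent.Lib.lead.GUPack.of_ringEquiv ε hGUS⟩

end Groth.Agent.Lib.Helper22.GeomUniSmooth
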