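import Mathlib
import Groth.Agent.Lib.Helper22.GeomIrr

set_option autoImplicit false
set_option linter.style.haveILetI false
universe u
noncomputable section
namespace Groth.Agent.Lib.Helper22.GeomIrr3

open TensorProduct Groth.Agent.Lib.Helper22.GeomIrr

variable {k : Type u} [Field k] {K : Type u} [Field K] [Algebra k K]
  {R : Type u} [CommRing R] [Algebra k R]

/-- the base change of a subalgebra inclusion -/
def incl (E : Subalgebra k K) (R : Type u) [CommRing R] [Algebra k R] :
    E ⊗[k] R →ₐ[k] K ⊗[k] R :=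
  Algebra.TensorProduct.map E.val (AlgHom.id k R)

theorem incl_injective (E : Subalgebra k K) : Function.Injective (incl E R) := by
  have : Function.Injective (E.val.toLinearMap.rTensor R) :=
    Module.Flat.rTensor_preserves_injective_linearMap _ Subtype.val_injective
  exact this

theorem range_incl_mono {E E' : Subalgebra k K} (h : E ≤ E') :
    (incl E R).range ≤ (incl E' R).range := by
  rintro _ ⟨x, rfl⟩
  refine ⟨Algebra.TensorProduct.map (Subalgebra.inclusion h) (AlgHom.id k R) x, ?_⟩
  simp only [incl, AlgHom.toRingHom_eq_coe, RingHom.coe_coe]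
  rw [← AlgHom.comp_apply, ← Algebra.TensorProduct.map_comp]
  rfl

theorem exists_finset_mem_range (x : K ⊗[k] R) :
    ∃ t : Finset K, x ∈ (incl (Algebra.adjoin k (t : Set K)) R).range := by
  classical
  induction x using TensorProduct.induction_on with
  | zero => exact ⟨∅, Subalgebra.zero_mem _⟩
  | tmul a r =>
    refine ⟨{a}, ⟨(⟨a, Algebra.subset_adjoin (by simp)⟩ :
      Algebra.adjoin k (({a} : Finset K) : Set K)) ⊗ₜ r, ?_⟩⟩
    simp [incl]
  | add x y hx hy =>
    obtain ⟨t₁, h₁⟩ := hx
    obtain ⟨t₂, h₂⟩ := hy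
    refine ⟨t₁ ∪ t₂, Subalgebra.add_mem _ ?_ ?_⟩
    · exact range_incl_mono (Algebra.adjoin_mono (by simp)) h₁
    · exact range_incl_mono (Algebra.adjoin_mono (by simp)) h₂

theorem exists_finset_mem_range₂ (x y : K ⊗[k] R) :
    ∃ t : Finset K, x ∈ (incl (Algebra.adjoin k (t : Set K)) R).range ∧
      y ∈ (incl (Algebra.adjoin k (t : Set K)) R).range := by
  classical
  obtain ⟨t₁, h₁⟩ := exists_finset_mem_range x
  obtain ⟨t₂, h₂⟩ := exists_finset_mem_range y
  exact ⟨t₁ ∪ t₂, range_incl_mono (Algebra.adjoin_mono (by simp)) h₁,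
    range_incl_mono (Algebra.adjoin_mono (by simp)) h₂⟩

/-- irreducibility can be tested on finitely generated subalgebras of the field -/
theorem irreducible_of_forall_finset
    (h : ∀ t : Finset K,
      IrreducibleSpace (PrimeSpectrum ((Algebra.adjoin k (t : Set K)) ⊗[k] R))) :
    IrreducibleSpace (PrimeSpectrum (K ⊗[k] R)) := by
  rw [PrimeSpectrum.irreducibleSpace_iff_isPrime_nilradical]
  have h0 := PrimeSpectrum.irreducibleSpace_iff_isPrime_nilradical.mp (h ∅)
  refine ⟨?_, ?_⟩
  · intro htop
    have h1 : (1 : K ⊗[k] R) ∈ nilradical (K ⊗[k] R) := htop ▸ Submodule.mem_top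
    obtain ⟨n, hn⟩ := mem_nilradical.mp h1
    rw [one_pow] at hn
    apply h0.ne_top
    rw [Ideal.eq_top_iff_one]
    refine mem_nilradical.mpr ⟨1, ?_⟩
    apply incl_injective (R := R) (Algebra.adjoin k ((∅ : Finset K) : Set K))
    rw [pow_one, map_one, map_zero]
    exact hn
  · intro x y hxy
    obtain ⟨t, ⟨x', rfl⟩, ⟨y', rfl⟩⟩ := exists_finset_mem_range₂ x y
    have ht := PrimeSpectrum.irreducibleSpace_iff_isPrime_nilradical.mp (h t)
    obtain ⟨n, hn⟩ := mem_nilradical.mp hxy
    have h1 : x' * y' ∈ nilradical ((Algebra.adjoin k (t : Set K)) ⊗[k] R) := by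
      refine mem_nilradical.mpr ⟨n, ?_⟩
      apply incl_injective (R := R) (Algebra.adjoin k (t : Set K))
      rw [map_pow, map_mul, map_zero]
      exact hn
    rcases ht.mem_or_mem h1 with h2 | h2
    · left
      obtain ⟨m, hm⟩ := mem_nilradical.mp h2
      exact mem_nilradical.mpr ⟨m, by
        show (incl (Algebra.adjoin k (t : Set K)) R x') ^ m = 0
        rw [← map_pow, hm, map_zero]⟩
    · right
      obtain ⟨m, hm⟩ := mem_nilradical.mp h2
      exact mem_nilradical.mpr ⟨m, by
        show (incl (Algebra.adjoin k (t : Set K)) R y') ^ m = 0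
        rw [← map_pow, hm, map_zero]⟩

/-- being a domain can be tested on finitely generated subalgebras of the field -/
theorem isDomain_of_forall_finset
    (h : ∀ t : Finset K, IsDomain ((Algebra.adjoin k (t : Set K)) ⊗[k] R)) :
    IsDomain (K ⊗[k] R) := by
  haveI : Nontrivial (K ⊗[k] R) := by
    haveI : Nontrivial ((Algebra.adjoin k ((∅ : Finset K) : Set K)) ⊗[k] R) :=
      (h ∅).toNontrivial
    exact (incl_injective (R := R) (Algebra.adjoin k ((∅ : Finset K) : Set K))).nontrivial
  haveI : NoZeroDivisors (K ⊗[k] R) := by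
    refine ⟨?_⟩
    intro x y hxy
    obtain ⟨t, ⟨x', rfl⟩, ⟨y', rfl⟩⟩ := exists_finset_mem_range₂ x y
    haveI := h t
    have h1 : x' * y' = 0 := by
      apply incl_injective (R := R) (Algebra.adjoin k (t : Set K))
      rw [map_mul, map_zero]
      exact hxy
    rcases mul_eq_zero.mp h1 with h2 | h2
    · left; show incl (Algebra.adjoin k (t : Set K)) R x' = 0; rw [h2, map_zero]
    · right; show incl (Algebra.adjoin k (t : Set K)) R y' = 0; rw [h2, map_zero]
  exact NoZeroDivisors.to_isDomain _

open Groth.Agent.S9627 in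
/-- geometric irreducibility can be tested on an algebraic closure -/
theorem irreducible_of_algClosure
    (h : IrreducibleSpace (PrimeSpectrum (AlgebraicClosure k ⊗[k] R)))
    (k' : Type u) [Field k'] [Algebra k k'] :
    IrreducibleSpace (PrimeSpectrum (k' ⊗[k] R)) := by
  let Ω := AlgebraicClosure k'
  let φ : AlgebraicClosure k →ₐ[k] Ω := IsAlgClosed.lift
  letI : Algebra (AlgebraicClosure k) Ω := φ.toRingHom.toAlgebra
  haveI : IsScalarTower k (AlgebraicClosure k) Ω :=
    IsScalarTower.of_algebraMap_eq (fun x => (φ.commutes x).symm)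
  have h1 : IrreducibleSpace
      (PrimeSpectrum (Ω ⊗[AlgebraicClosure k] (AlgebraicClosure k ⊗[k] R))) :=
    geomIrr_of_isAlgClosed Ω
  have h2 : IrreducibleSpace (PrimeSpectrum (Ω ⊗[k] R)) :=
    irr_of_equiv (Algebra.TensorProduct.cancelBaseChange k (AlgebraicClosure k)
      (AlgebraicClosure k) Ω R).symm.toRingEquiv
  let f : k' ⊗[k] R →ₐ[k] Ω ⊗[k] R :=
    Algebra.TensorProduct.map (IsScalarTower.toAlgHom k k' Ω) (AlgHom.id k R)
  have hf : Function.Injective f := by
    have : Function.Injective ((IsScalarTower.toAlgHom k k' Ω).toLinearMap.rTensor R) :=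
      Module.Flat.rTensor_preserves_injective_linearMap _ (algebraMap k' Ω).injective
    exact this
  exact irr_of_injective f.toRingHom hf

/-- geometric integrality can be tested on an algebraic closure -/
theorem isDomain_of_algClosure
    (h : IsDomain (AlgebraicClosure k ⊗[k] R))
    (k' : Type u) [Field k'] [Algebra k k'] :
    IsDomain (k' ⊗[k] R) := by
  let Ω := AlgebraicClosure k'
  let φ : AlgebraicClosure k →ₐ[k] Ω := IsAlgClosed.lift
  letI : Algebra (AlgebraicClosure k) Ω := φ.toRingHom.toAlgebra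
  haveI : IsScalarTower k (AlgebraicClosure k) Ω :=
    IsScalarTower.of_algebraMap_eq (fun x => (φ.commutes x).symm)
  have h1 : IsDomain (Ω ⊗[AlgebraicClosure k] (AlgebraicClosure k ⊗[k] R)) :=
    isDomain_tensor
  have h2 : IsDomain (Ω ⊗[k] R) :=
    (Algebra.TensorProduct.cancelBaseChange k (AlgebraicClosure k)
      (AlgebraicClosure k) Ω R).symm.toRingEquiv.toMulEquiv.isDomain _
  let f : k' ⊗[k] R →ₐ[k] Ω ⊗[k] R :=
    Algebra.TensorProduct.map (IsScalarTower.toAlgHom k k' Ω) (AlgHom.id k R)
  have hf : Function.Injective f := by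
    have : Function.Injective ((IsScalarTower.toAlgHom k k' Ω).toLinearMap.rTensor R) :=
      Module.Flat.rTensor_preserves_injective_linearMap _ (algebraMap k' Ω).injective
    exact this
  exact hf.isDomain f.toRingHom

end Groth.Agent.Lib.Helper22.GeomIrr3
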