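import Mathlib
import Groth.Agent.S18590

set_option autoImplicit false
set_option linter.unusedSectionVars false
universe u
noncomputable section
namespace Groth.Agent.Lib.Helper22.WittAddCross

open WittVector

variable (p : ℕ) [hp : Fact p.Prime] {R : Type u} [CommRing R]

theorem coeff_init (x : WittVector p R) (n i : ℕ) :
    (init n x).coeff i = if i < n then x.coeff i else 0 := by
  simp [init, select, coeff_mk]

theorem coeff_tail (x : WittVector p R) (n i : ℕ) :
    (tail n x).coeff i = if n ≤ i then x.coeff i else 0 := by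
  simp [tail, select, coeff_mk]

theorem iterate_verschiebung_add (n : ℕ) (x y : WittVector p R) :
    verschiebung^[n] (x + y) = verschiebung^[n] x + verschiebung^[n] y := by
  induction n with
  | zero => rfl
  | succ k ih => rw [Function.iterate_succ_apply', Function.iterate_succ_apply',
      Function.iterate_succ_apply', ih, map_add]

/-- The `n`-th coefficient of a sum: the naive sum plus a cross term depending only on the
lower coefficients. -/
theorem coeff_add_eq (a b : WittVector p R) (n : ℕ) :
    (a + b).coeff n = a.coeff n + b.coeff n + (init n a + init n b).coeff n := by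
  set Z := init n a + init n b with hZ
  have hlow : ∀ x : WittVector p R, ∀ i < n, (tail n x).coeff i = 0 := by
    intro x i hi
    rw [coeff_tail, if_neg (by omega)]
  set W := verschiebung^[n] ((tail n Z).shift n + (tail n a).shift n + (tail n b).shift n) with hW
  have hWeq : W = tail n Z + tail n a + tail n b := by
    rw [hW, iterate_verschiebung_add, iterate_verschiebung_add,
      ← eq_iterate_verschiebung (hlow Z), ← eq_iterate_verschiebung (hlow a),
      ← eq_iterate_verschiebung (hlow b)]
  have hsum : a + b = init n Z + W := by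
    rw [hWeq]
    calc a + b = (init n a + tail n a) + (init n b + tail n b) := by
          rw [init_add_tail, init_add_tail]
      _ = Z + (tail n a + tail n b) := by rw [hZ]; ring
      _ = (init n Z + tail n Z) + (tail n a + tail n b) := by rw [init_add_tail]
      _ = init n Z + (tail n Z + tail n a + tail n b) := by ring
  have hWn : W.coeff n = Z.coeff n + a.coeff n + b.coeff n := by
    have := iterate_verschiebung_coeff (p := p)
      ((tail n Z).shift n + (tail n a).shift n + (tail n b).shift n) n 0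
    rw [zero_add] at this
    rw [hW, this, add_coeff_zero, add_coeff_zero, shift_coeff, shift_coeff, shift_coeff,
      coeff_tail, coeff_tail, coeff_tail]
    simp
  have hdisj : ∀ i, (init n Z).coeff i = 0 ∨ W.coeff i = 0 := by
    intro i
    by_cases hi : i < n
    · right
      rw [hW]
      exact iterate_verschiebung_coeff_eq_zero _ hi
    · left
      rw [coeff_init, if_neg hi]
  rw [hsum, coeff_add_of_disjoint n _ _ hdisj, hWn, coeff_init, if_neg (lt_irrefl n)]
  ring


/-- the filtration by powers of `g`, rescaled by `p ^ m` -/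
def filt (g : R) (m : ℕ) (e : ℕ) : Submodule R R where
  carrier := {x | ∃ k, e ≤ k * p ^ m ∧ g ^ k ∣ x}
  zero_mem' := ⟨e, Nat.le_mul_of_pos_right e (pow_pos hp.out.pos m), dvd_zero _⟩
  add_mem' := by
    rintro x y ⟨k, hk, hx⟩ ⟨l, hl, hy⟩
    rcases le_total k l with h | h
    · exact ⟨k, hk, dvd_add hx ((pow_dvd_pow g h).trans hy)⟩
    · exact ⟨l, hl, dvd_add ((pow_dvd_pow g h).trans hx) hy⟩
  smul_mem' := by
    rintro c x ⟨k, hk, hx⟩
    exact ⟨k, hk, Dvd.dvd.mul_left hx c⟩

theorem mem_filt (g : R) (m e : ℕ) (x : R) :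
    x ∈ filt p g m e ↔ ∃ k, e ≤ k * p ^ m ∧ g ^ k ∣ x := Iff.rfl

theorem filt_mul (g : R) (m : ℕ) (i j : ℕ) (a b : R) (ha : a ∈ filt p g m i)
    (hb : b ∈ filt p g m j) : a * b ∈ filt p g m (i + j) := by
  obtain ⟨k, hk, hx⟩ := ha
  obtain ⟨l, hl, hy⟩ := hb
  refine ⟨k + l, by rw [add_mul]; omega, ?_⟩
  rw [pow_add]
  exact mul_dvd_mul hx hy

/-- The cross term vanishes when all lower coefficients are divisible by an element `g` with
`g ^ p = 0`. -/
theorem cross_eq_zero (g : R) (hg : g ^ p = 0) (a b : WittVector p R) (n : ℕ)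
    (ha : ∀ i < n, g ∣ a.coeff i) (hb : ∀ i < n, g ∣ b.coeff i) :
    (init n a + init n b).coeff n = 0 := by
  rcases n with _ | m
  · have h0 : ∀ x : WittVector p R, init 0 x = 0 := by
      intro x
      ext i
      rw [coeff_init, if_neg (Nat.not_lt_zero i), zero_coeff]
    rw [h0, h0, add_zero, zero_coeff]
  · have key : (init (m + 1) a + init (m + 1) b).coeff (m + 1) ∈ filt p g m (p ^ (m + 1)) := by
      rw [WittVector.add_coeff, WittVector.peval]
      apply Groth.Agent.S18590.aeval_mem (filt p g m) (filt_mul p g m)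
        (fun i : Fin 2 × ℕ => p ^ i.2) _ _ _ (p ^ (m + 1)) (pow_ne_zero _ hp.out.ne_zero)
        (Groth.Agent.Lib.helper11.WittHomog.wittAdd_isWeightedHomogeneous p (m + 1))
      rintro ⟨j, i⟩
      right
      have hmem : ∀ x : WittVector p R, (∀ i < m + 1, g ∣ x.coeff i) →
          (init (m + 1) x).coeff i ∈ filt p g m (p ^ i) := by
        intro x hx
        rw [coeff_init]
        split_ifs with hi
        · exact ⟨1, by rw [one_mul]; exact Nat.pow_le_pow_right hp.out.pos (by omega),
            by rw [pow_one]; exact hx i hi⟩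
        · exact Submodule.zero_mem _
      fin_cases j
      · exact hmem a ha
      · exact hmem b hb
    obtain ⟨k, hk, hdvd⟩ := key
    have hpk : p ≤ k := by
      rw [pow_succ, mul_comm] at hk
      exact Nat.le_of_mul_le_mul_right hk (pow_pos hp.out.pos m)
    have : g ^ k = 0 := by
      rw [← Nat.sub_add_cancel hpk, pow_add, hg, mul_zero]
    rw [this] at hdvd
    exact zero_dvd_iff.mp hdvd


/-- In a ring with total divisibility, Frobenius-killed Witt vectors (coefficientwise `p`-th
power zero) add coefficientwise. -/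
theorem coeff_add_of_pow_eq_zero (htot : ∀ x y : R, x ∣ y ∨ y ∣ x) (a b : WittVector p R)
    (ha : ∀ i, a.coeff i ^ p = 0) (hb : ∀ i, b.coeff i ^ p = 0) (n : ℕ) :
    (a + b).coeff n = a.coeff n + b.coeff n := by
  have hg : ∀ n : ℕ, ∃ g : R, g ^ p = 0 ∧ (∀ i < n, g ∣ a.coeff i) ∧ (∀ i < n, g ∣ b.coeff i) := by
    intro n
    induction n with
    | zero => exact ⟨0, zero_pow hp.out.ne_zero, fun i hi => absurd hi (Nat.not_lt_zero i),
        fun i hi => absurd hi (Nat.not_lt_zero i)⟩
    | succ m ih =>
      obtain ⟨g, hg0, hga, hgb⟩ := ih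
      -- combine `g` with `a.coeff m`
      obtain ⟨g1, hg1, hg1g, hg1a⟩ : ∃ g1 : R, g1 ^ p = 0 ∧ g1 ∣ g ∧ g1 ∣ a.coeff m := by
        rcases htot g (a.coeff m) with h | h
        · exact ⟨g, hg0, dvd_rfl, h⟩
        · exact ⟨a.coeff m, ha m, h, dvd_rfl⟩
      obtain ⟨g2, hg2, hg2g, hg2b⟩ : ∃ g2 : R, g2 ^ p = 0 ∧ g2 ∣ g1 ∧ g2 ∣ b.coeff m := by
        rcases htot g1 (b.coeff m) with h | h
        · exact ⟨g1, hg1, dvd_rfl, h⟩
        · exact ⟨b.coeff m, hb m, h, dvd_rfl⟩
      refine ⟨g2, hg2, fun i hi => ?_, fun i hi => ?_⟩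
      · rcases Nat.lt_succ_iff_lt_or_eq.mp hi with h | rfl
        · exact (hg2g.trans hg1g).trans (hga i h)
        · exact hg2g.trans hg1a
      · rcases Nat.lt_succ_iff_lt_or_eq.mp hi with h | rfl
        · exact (hg2g.trans hg1g).trans (hgb i h)
        · exact hg2b
  obtain ⟨g, hg0, hga, hgb⟩ := hg n
  rw [coeff_add_eq, cross_eq_zero p g hg0 a b n hga hgb, add_zero]

theorem S13160 (R : Type u) [CommRing R] [IsDomain R]
    [IsDiscreteValuationRing R] (lam : R) (hlam : lam ∣ (p : R))
    (a b : WittVector p (R ⧸ Ideal.span {lam})) (ha : WittVector.frobenius a = 0)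
    (hb : WittVector.frobenius b = 0) (n : ℕ) : (a + b).coeff n = a.coeff n + b.coeff n := by
  rcases subsingleton_or_nontrivial (R ⧸ Ideal.span {lam}) with hs | hn
  · exact Subsingleton.elim _ _
  have hp0 : ((p : ℕ) : R ⧸ Ideal.span {lam}) = 0 := by
    have : ((p : ℕ) : R ⧸ Ideal.span {lam}) = Ideal.Quotient.mk _ ((p : ℕ) : R) := by
      rw [map_natCast]
    rw [this, Ideal.Quotient.eq_zero_iff_mem, Ideal.mem_span_singleton]
    exact hlam
  have : CharP (R ⧸ Ideal.span {lam}) p := (CharP.charP_iff_prime_eq_zero hp.out).mpr hp0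
  have htot : ∀ x y : R ⧸ Ideal.span {lam}, x ∣ y ∨ y ∣ x := by
    intro x y
    obtain ⟨x, rfl⟩ := Ideal.Quotient.mk_surjective x
    obtain ⟨y, rfl⟩ := Ideal.Quotient.mk_surjective y
    rcases ValuationRing.dvd_total x y with h | h
    · exact Or.inl (map_dvd _ h)
    · exact Or.inr (map_dvd _ h)
  apply coeff_add_of_pow_eq_zero p htot
  · intro i
    rw [← coeff_frobenius_charP, ha, zero_coeff]
  · intro i
    rw [← coeff_frobenius_charP, hb, zero_coeff]

end Groth.Agent.Lib.Helper22.WittAddCross
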