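import Mathlib

set_option autoImplicit false
set_option linter.unusedSectionVars false
universe u
noncomputable section
namespace Groth.Agent.Lib.Helper22.WittFrobNil

open WittVector MvPolynomial

variable (p : ℕ) [hp : Fact p.Prime] {S : Type u} [CommRing S]

local notation "𝕎" => WittVector p

/-- Witt vectors with all coefficients in an ideal -/
def InW (𝔟 : Ideal S) (x : 𝕎 S) : Prop := ∀ n, x.coeff n ∈ 𝔟

/-- `Φ(𝔟) = (b^p : b ∈ 𝔟) + p𝔟` -/
def Phi (𝔟 : Ideal S) : Ideal S :=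
  Ideal.span ((fun b => b ^ p) '' (𝔟 : Set S)) ⊔ Ideal.span {(p : S)} * 𝔟

theorem constantCoeff_frobeniusPolyAux (n : ℕ) :
    constantCoeff (frobeniusPolyAux p n) = 0 := by
  have h1 := coeff_frobenius (p := p) (0 : 𝕎 ℤ) n
  rw [map_zero, zero_coeff] at h1
  have h2 : (0 : 𝕎 ℤ).coeff = (0 : ℕ → ℤ) := by
    funext i; exact zero_coeff p ℤ i
  rw [h2, aeval_zero, frobeniusPoly, map_add, map_pow, constantCoeff_X, zero_pow hp.out.ne_zero,
    zero_add, map_mul, constantCoeff_C] at h1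
  simp only [algebraMap_int_eq, eq_intCast, Int.cast_id] at h1
  rcases mul_eq_zero.mp h1.symm with h | h
  · exact absurd h (by exact_mod_cast hp.out.ne_zero)
  · exact h

theorem aeval_mem_of_constantCoeff_eq_zero (g : MvPolynomial ℕ ℤ) (hg : constantCoeff g = 0)
    (𝔟 : Ideal S) (x : ℕ → S) (hx : ∀ i, x i ∈ 𝔟) : aeval x g ∈ 𝔟 := by
  rw [← Ideal.Quotient.eq_zero_iff_mem]
  have h1 : (Ideal.Quotient.mkₐ ℤ 𝔟).comp (aeval x) = aeval (fun i => Ideal.Quotient.mk 𝔟 (x i)) :=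
    MvPolynomial.comp_aeval _ _
  have h2 : (fun i => Ideal.Quotient.mk 𝔟 (x i)) = 0 := by
    funext i
    exact Ideal.Quotient.eq_zero_iff_mem.mpr (hx i)
  have h3 := congrArg (fun f => f g) h1
  simp only [AlgHom.comp_apply, Ideal.Quotient.mkₐ_eq_mk] at h3
  rw [h3, h2, aeval_zero, hg, map_zero]

theorem frobenius_InW (𝔟 : Ideal S) (x : 𝕎 S) (hx : InW p 𝔟 x) :
    InW p (Phi p 𝔟) (frobenius x) := by
  intro n
  rw [coeff_frobenius, frobeniusPoly, map_add, map_pow, aeval_X, map_mul, aeval_C]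
  refine Ideal.add_mem _ (Ideal.mem_sup_left (Ideal.subset_span ⟨x.coeff n, hx n, rfl⟩))
    (Ideal.mem_sup_right ?_)
  refine Ideal.mul_mem_mul ?_
    (aeval_mem_of_constantCoeff_eq_zero _ (constantCoeff_frobeniusPolyAux p n) 𝔟 _ hx)
  simp only [algebraMap_int_eq, eq_intCast, Int.cast_natCast]
  exact Ideal.mem_span_singleton_self _

theorem Phi_mono {𝔟 𝔟' : Ideal S} (h : 𝔟 ≤ 𝔟') : Phi p 𝔟 ≤ Phi p 𝔟' :=
  sup_le_sup (Ideal.span_mono (Set.image_mono h)) (Ideal.mul_mono_right h)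

theorem pow_mem_of_mem_span (G : Set S) (b : S) (hb : b ∈ Ideal.span G) :
    b ^ p ∈ Ideal.span ((fun b => b ^ p) '' G) ⊔ Ideal.span {(p : S)} * Ideal.span G := by
  induction hb using Submodule.span_induction with
  | mem g hg => exact Ideal.mem_sup_left (Ideal.subset_span ⟨g, hg, rfl⟩)
  | zero => rw [zero_pow hp.out.ne_zero]; exact Ideal.zero_mem _
  | add x y hx hy ihx ihy =>
    obtain ⟨r, hr⟩ := exists_add_pow_prime_eq hp.out x y
    rw [hr]
    refine Ideal.add_mem _ (Ideal.add_mem _ ihx ihy) (Ideal.mem_sup_right ?_)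
    rw [mul_assoc, mul_assoc]
    exact Ideal.mul_mem_mul (Ideal.mem_span_singleton_self _) (Ideal.mul_mem_right _ _ hx)
  | smul a x hx ihx =>
    rw [smul_eq_mul, mul_pow]
    exact Ideal.mul_mem_left _ _ ihx

theorem Phi_span_le (G : Set S) :
    Phi p (Ideal.span G) ≤
      Ideal.span ((fun b => b ^ p) '' G) ⊔ Ideal.span {(p : S)} * Ideal.span G := by
  refine sup_le ?_ le_sup_right
  rw [Ideal.span_le]
  rintro _ ⟨b, hb, rfl⟩
  exact pow_mem_of_mem_span p G b hb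


/-- generators of `𝔡_k` -/
def Dgen (𝔞 : Ideal S) (k : ℕ) : Set S :=
  {z | ∃ i j : ℕ, ∃ a ∈ 𝔞, i + j = k ∧ z = (p : S) ^ j * a ^ (p ^ i)}

/-- `𝔡_k = ∑_{i+j=k} p^j (a^(p^i) : a ∈ 𝔞)` -/
def D (𝔞 : Ideal S) (k : ℕ) : Ideal S := Ideal.span (Dgen p 𝔞 k)

theorem le_D_zero (𝔞 : Ideal S) : 𝔞 ≤ D p 𝔞 0 := by
  intro a ha
  exact Ideal.subset_span ⟨0, 0, a, ha, rfl, by simp⟩

theorem Phi_D_le (𝔞 : Ideal S) (k : ℕ) : Phi p (D p 𝔞 k) ≤ D p 𝔞 (k + 1) := by
  refine (Phi_span_le p _).trans (sup_le ?_ ?_)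
  · rw [Ideal.span_le]
    rintro _ ⟨_, ⟨i, j, a, ha, hij, rfl⟩, rfl⟩
    have h1 : ((p : S) ^ j * a ^ p ^ i) ^ p
        = (p : S) ^ (j * p - j) * ((p : S) ^ j * a ^ (p ^ (i + 1))) := by
      rw [mul_pow, ← pow_mul, ← pow_mul, ← mul_assoc, ← pow_add, ← pow_succ]
      congr 2
      have : j ≤ j * p := Nat.le_mul_of_pos_right j hp.out.pos
      omega
    show ((p : S) ^ j * a ^ p ^ i) ^ p ∈ D p 𝔞 (k + 1)
    rw [h1]
    exact Ideal.mul_mem_left _ _ (Ideal.subset_span ⟨i + 1, j, a, ha, by omega, rfl⟩)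
  · rw [Ideal.span_singleton_mul_le_iff]
    intro z hz
    induction hz using Submodule.span_induction with
    | mem g hg =>
      obtain ⟨i, j, a, ha, hij, rfl⟩ := hg
      refine Ideal.subset_span ⟨i, j + 1, a, ha, by omega, ?_⟩
      rw [pow_succ]; ring
    | zero => rw [mul_zero]; exact Ideal.zero_mem _
    | add x y _ _ ihx ihy => rw [mul_add]; exact Ideal.add_mem _ ihx ihy
    | smul c x _ ihx =>
      rw [smul_eq_mul, mul_left_comm]
      exact Ideal.mul_mem_left _ _ ihx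

theorem iterate_Phi_le (𝔞 : Ideal S) (k : ℕ) : (Phi p)^[k] 𝔞 ≤ D p 𝔞 k := by
  induction k with
  | zero => exact le_D_zero p 𝔞
  | succ k ih =>
    rw [Function.iterate_succ_apply']
    exact (Phi_mono p ih).trans (Phi_D_le p 𝔞 k)

theorem D_eq_bot (𝔞 : Ideal S) (M N L : ℕ) (hM : (p : S) ^ M = 0) (hN : ∀ a ∈ 𝔞, a ^ N = 0)
    (hL : N ≤ p ^ L) (k : ℕ) (hk : M + L ≤ k) : D p 𝔞 k = ⊥ := by
  rw [eq_bot_iff, D, Ideal.span_le]
  rintro _ ⟨i, j, a, ha, hij, rfl⟩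
  rw [SetLike.mem_coe, Ideal.mem_bot]
  by_cases hj : M ≤ j
  · rw [← Nat.sub_add_cancel hj, pow_add, hM, mul_zero, zero_mul]
  · have hi : L ≤ i := by omega
    have h1 : N ≤ p ^ i := hL.trans (Nat.pow_le_pow_right hp.out.pos hi)
    rw [← Nat.sub_add_cancel h1, pow_add, hN a ha, mul_zero, mul_zero]

theorem iterate_frobenius_InW (𝔟 : Ideal S) (x : 𝕎 S) (hx : InW p 𝔟 x) (k : ℕ) :
    InW p ((Phi p)^[k] 𝔟) ((frobenius : 𝕎 S →+* 𝕎 S)^[k] x) := by
  induction k with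
  | zero => exact hx
  | succ k ih =>
    rw [Function.iterate_succ_apply', Function.iterate_succ_apply']
    exact frobenius_InW p _ _ ih

/-- **Frobenius is uniformly nilpotent on `W(𝔞)`** when `p` is nilpotent and the elements of `𝔞`
are nilpotent of bounded exponent. -/
theorem exists_iterate_frobenius_eq_zero {R : Type*} [CommRing R] (φ : S →+* R)
    (hpn : IsNilpotent (p : S)) (N : ℕ) (hN : ∀ a : S, φ a = 0 → a ^ N = 0) :
    ∃ k₀ : ℕ, ∀ x ∈ RingHom.ker (WittVector.map (p := p) φ),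
      (frobenius : 𝕎 S →+* 𝕎 S)^[k₀] x = 0 := by
  obtain ⟨M, hM⟩ := hpn
  obtain ⟨L, hL⟩ : ∃ L, N ≤ p ^ L := ⟨N, (Nat.lt_pow_self hp.out.one_lt).le⟩
  refine ⟨M + L, fun x hx => ?_⟩
  have hx' : InW p (RingHom.ker φ) x := by
    intro n
    rw [RingHom.mem_ker] at hx ⊢
    have := congrArg (fun y => y.coeff n) hx
    simpa [WittVector.map_coeff] using this
  have h1 := iterate_frobenius_InW p _ x hx' (M + L)
  have h2 : (Phi p)^[M + L] (RingHom.ker φ) = ⊥ := by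
    rw [eq_bot_iff]
    refine (iterate_Phi_le p _ _).trans (le_of_eq ?_)
    exact D_eq_bot p _ M N L hM (fun a ha => hN a (RingHom.mem_ker.mp ha)) hL _ le_rfl
  ext n
  have := h1 n
  rw [h2, Ideal.mem_bot] at this
  rw [this, zero_coeff]

end Groth.Agent.Lib.Helper22.WittFrobNil
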