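import Mathlib

/-!
# Coefficients of a Teichmüller multiple of a Witt vector (helper22)

`(teichmuller p r * x).coeff n = r ^ p ^ n * x.coeff n` over any commutative ring.
-/

set_option autoImplicit false
set_option linter.unusedSectionVars false

universe u

noncomputable section

namespace Groth.Agent.Lib.Helper22.WittTeich

open WittVector MvPolynomial

variable (p : ℕ) [hp : Fact p.Prime]

instance teichZero_isPoly :
    WittVector.IsPoly p (fun R _ (x : WittVector p R) => teichmuller p (x.coeff 0)) :=
  ⟨⟨fun n => if n = 0 then X 0 else 0, by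
    intro R _ x
    funext n
    rcases n with _ | n
    · simp [teichmuller_coeff_zero]
    · rw [teichmuller_coeff_pos p _ _ (Nat.succ_pos n)]
      simp⟩⟩

instance teichMul_isPoly₂ :
    WittVector.IsPoly₂ p (fun R _ (x y : WittVector p R) => teichmuller p (x.coeff 0) * y) :=
  WittVector.IsPoly₂.comp (h := fun _ _ => (· * ·))
    (f := fun R _ (x : WittVector p R) => teichmuller p (x.coeff 0)) (g := fun _ _ a => a)

instance scale_isPoly₂ :
    WittVector.IsPoly₂ p (fun R _ (x y : WittVector p R) =>
      WittVector.mk p (fun n => x.coeff 0 ^ p ^ n * y.coeff n)) :=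
  ⟨⟨fun n => X ((0 : Fin 2), 0) ^ p ^ n * X ((1 : Fin 2), n), by
    intro R _ x y
    funext n
    simp [WittVector.peval, Function.uncurry]⟩⟩

theorem teichMul_eq_scale (R : Type u) [CommRing R] (x y : WittVector p R) :
    teichmuller p (x.coeff 0) * y = WittVector.mk p (fun n => x.coeff 0 ^ p ^ n * y.coeff n) := by
  refine WittVector.IsPoly₂.ext (teichMul_isPoly₂ p) (scale_isPoly₂ p) ?_ R x y
  intro R _ x y n
  rw [map_mul, ghostComponent_teichmuller, ghostComponent_apply, ghostComponent_apply,
    aeval_wittPolynomial, aeval_wittPolynomial, Finset.mul_sum]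
  refine Finset.sum_congr rfl fun i hi => ?_
  have hi' : i ≤ n := Nat.lt_succ_iff.mp (Finset.mem_range.mp hi)
  simp only [WittVector.coeff_mk]
  rw [mul_pow, ← pow_mul, ← pow_add, Nat.add_sub_cancel' hi']
  ring

/-- **Coefficients of a Teichmüller multiple.** -/
theorem coeff_teichmuller_mul {R : Type u} [CommRing R] (r : R) (y : WittVector p R) (n : ℕ) :
    (teichmuller p r * y).coeff n = r ^ p ^ n * y.coeff n := by
  have h := teichMul_eq_scale p R (teichmuller p r) y
  rw [teichmuller_coeff_zero] at h
  rw [h, WittVector.coeff_mk]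

theorem coeff_mul_teichmuller {R : Type u} [CommRing R] (r : R) (y : WittVector p R) (n : ℕ) :
    (y * teichmuller p r).coeff n = y.coeff n * r ^ p ^ n := by
  rw [mul_comm, coeff_teichmuller_mul, mul_comm]

/-- Truncated version. -/
theorem coeff_truncate_teichmuller_mul {R : Type u} [CommRing R] (m : ℕ) (r : R)
    (a : TruncatedWittVector p m R) (j : Fin m) :
    (WittVector.truncate m (teichmuller p r) * a).coeff j = r ^ p ^ (j : ℕ) * a.coeff j := by
  obtain ⟨y, rfl⟩ := WittVector.truncate_surjective p m R a
  rw [← map_mul, WittVector.coeff_truncate, coeff_teichmuller_mul, WittVector.coeff_truncate]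

theorem coeff_mul_truncate_teichmuller {R : Type u} [CommRing R] (m : ℕ) (r : R)
    (a : TruncatedWittVector p m R) (j : Fin m) :
    (a * WittVector.truncate m (teichmuller p r)).coeff j = a.coeff j * r ^ p ^ (j : ℕ) := by
  rw [mul_comm, coeff_truncate_teichmuller_mul, mul_comm]

end Groth.Agent.Lib.Helper22.WittTeich
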