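import Mathlib

set_option autoImplicit false
set_option linter.unusedSectionVars false
universe u
noncomputable section
namespace Groth.Agent.Lib.Helper22.WittTop

open WittVector

variable (p : ℕ) [hp : Fact p.Prime] (R : Type u) [CommRing R]

local notation "𝕎" => WittVector p

/-- the augmentation ideal `I_R = V W(R)` -/
abbrev IR : Ideal (𝕎 R) := RingHom.ker (WittVector.constantCoeff : 𝕎 R →+* R)

variable {R}

theorem mem_IR_iff (x : 𝕎 R) : x ∈ IR p R ↔ x.coeff 0 = 0 := by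
  rw [RingHom.mem_ker]
  rfl

theorem exists_verschiebung_of_coeff_zero (x : 𝕎 R) (h : x.coeff 0 = 0) :
    ∃ y : 𝕎 R, x = verschiebung y := by
  refine ⟨x.shift 1, ?_⟩
  have h1 : ∀ i < 0 + 1, x.coeff i = 0 := by
    intro i hi
    have h0 : i = 0 := by omega
    rw [h0]; exact h
  have := verschiebung_shift x 0 h1
  rw [this]
  ext i
  simp [shift_coeff]

theorem verschiebung_mem_IR (y : 𝕎 R) : verschiebung y ∈ IR p R := by
  rw [mem_IR_iff, verschiebung_coeff_zero]

theorem verschiebung_mul_verschiebung (x y : 𝕎 R) :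
    verschiebung x * verschiebung y = (p : 𝕎 R) * verschiebung (x * y) := by
  rw [← verschiebung_mul_frobenius, frobenius_verschiebung, ← mul_assoc, mul_comm _ (p : 𝕎 R),
    ← nsmul_eq_mul, ← nsmul_eq_mul, map_nsmul]

theorem IR_sq_le : IR p R ^ 2 ≤ Ideal.span {(p : 𝕎 R)} := by
  rw [pow_two, Ideal.mul_le]
  intro x hx y hy
  obtain ⟨x', rfl⟩ := exists_verschiebung_of_coeff_zero p x ((mem_IR_iff p x).mp hx)
  obtain ⟨y', rfl⟩ := exists_verschiebung_of_coeff_zero p y ((mem_IR_iff p y).mp hy)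
  rw [verschiebung_mul_verschiebung]
  exact Ideal.mul_mem_right _ _ (Ideal.mem_span_singleton_self _)

theorem iterate_frobenius_natCast_pow (n N : ℕ) :
    (frobenius : 𝕎 R →+* 𝕎 R)^[n] ((p : 𝕎 R) ^ N) = (p : 𝕎 R) ^ N := by
  induction n with
  | zero => rfl
  | succ k ih => rw [Function.iterate_succ_apply', ih, map_pow, map_natCast]

theorem natCast_pow_coeff_zero (N : ℕ) : ((p : 𝕎 R) ^ N).coeff 0 = (p : R) ^ N := by
  have : ((p : 𝕎 R) ^ N).coeff 0 = WittVector.constantCoeff ((p : 𝕎 R) ^ N) := rfl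
  rw [this, map_pow, map_natCast]

/-- `p^N` pushes `I_n` into `I_{n+1}` when `p^N = 0` in `R`. -/
theorem pow_mul_mem_ker_truncate_succ (N : ℕ) (hN : (p : R) ^ N = 0) (n : ℕ) (z : 𝕎 R)
    (hz : z ∈ RingHom.ker (WittVector.truncate (p := p) (R := R) n)) :
    (p : 𝕎 R) ^ N * z ∈ RingHom.ker (WittVector.truncate (p := p) (R := R) (n + 1)) := by
  rw [mem_ker_truncate] at hz ⊢
  have hz' := eq_iterate_verschiebung hz
  intro i hi
  rw [hz', mul_comm, iterate_verschiebung_mul_left, iterate_frobenius_natCast_pow]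
  rcases Nat.lt_succ_iff_lt_or_eq.mp hi with h | rfl
  · exact iterate_verschiebung_coeff_eq_zero _ h
  · have := iterate_verschiebung_coeff (p := p) (z.shift i * (p : 𝕎 R) ^ N) i 0
    rw [zero_add] at this
    rw [this, mul_coeff_zero, natCast_pow_coeff_zero, hN, mul_zero]

theorem natCast_pow_mem_ker_truncate (N : ℕ) (hN : (p : R) ^ N = 0) (n : ℕ) :
    (p : 𝕎 R) ^ (N * n) ∈ RingHom.ker (WittVector.truncate (p := p) (R := R) n) := by
  induction n with
  | zero =>
    rw [mem_ker_truncate]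
    intro i hi
    exact absurd hi (Nat.not_lt_zero i)
  | succ k ih =>
    rw [Nat.mul_succ, pow_add, mul_comm]
    exact pow_mul_mem_ker_truncate_succ p N hN k _ ih

theorem S14864 (hpn : IsNilpotent (p : R)) :
    (∀ n : ℕ, ∃ m : ℕ, (RingHom.ker (WittVector.constantCoeff : WittVector p R →+* R)) ^ m ≤ Ideal.span {(p : WittVector p R)} ^ n) ∧
      (∀ n : ℕ, ∃ m : ℕ, Ideal.span {(p : WittVector p R)} ^ m ≤ (RingHom.ker (WittVector.constantCoeff : WittVector p R →+* R)) ^ n) ∧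
        ∀ n : ℕ, ∃ m : ℕ, Ideal.span {(p : WittVector p R)} ^ m ≤ RingHom.ker (WittVector.truncate (p := p) (R := R) n) := by
  obtain ⟨N, hN⟩ := hpn
  refine ⟨fun n => ⟨2 * n, ?_⟩, fun n => ⟨N * n, ?_⟩, fun n => ⟨N * n, ?_⟩⟩
  · rw [pow_mul]
    exact Ideal.pow_right_mono (IR_sq_le p) n
  · rw [pow_mul]
    apply Ideal.pow_right_mono
    rw [Ideal.span_singleton_pow, Ideal.span_singleton_le_iff_mem, mem_IR_iff,
      natCast_pow_coeff_zero, hN]
  · rw [Ideal.span_singleton_pow, Ideal.span_singleton_le_iff_mem]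
    exact natCast_pow_mem_ker_truncate p N hN n

end Groth.Agent.Lib.Helper22.WittTop
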