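import Mathlib
import Groth.Agent.Lib.Helper22.WittFrobNil
import Groth.Agent.Lib.Helper22.WittTeich
import Groth.Agent.Lib.Helper22.WittAddCross
import Groth.Agent.Lib.Helper22.WittTop
import Groth.Agent.Lib.helper11.WittHomog
import Groth.Agent.S18590

/-! The shift operator `x ↦ x.shift 1` on Witt vectors and its (semi)linearity modulo `W(𝔟²)`
(helper22). -/

set_option autoImplicit false
set_option linter.unusedSectionVars false
universe u
noncomputable section
namespace Groth.Agent.Lib.Helper22.WittShift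

open WittVector

variable {p : ℕ} [hp : Fact p.Prime] {S : Type u} [CommRing S]

local notation "𝕎" => WittVector p

/-- `W(𝔟)`: Witt vectors with all coefficients in `𝔟`, as an ideal. -/
def Wb (𝔟 : Ideal S) : Ideal (𝕎 S) := RingHom.ker (WittVector.map (p := p) (Ideal.Quotient.mk 𝔟))

theorem mem_Wb_iff (𝔟 : Ideal S) (x : 𝕎 S) : x ∈ Wb (p := p) 𝔟 ↔ ∀ n, x.coeff n ∈ 𝔟 := by
  rw [Wb, RingHom.mem_ker, WittVector.ext_iff]
  simp only [WittVector.map_coeff, WittVector.zero_coeff, Ideal.Quotient.eq_zero_iff_mem]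

theorem Wb_mono {𝔟 𝔟' : Ideal S} (h : 𝔟 ≤ 𝔟') : Wb (p := p) 𝔟 ≤ Wb 𝔟' := by
  intro x hx
  rw [mem_Wb_iff] at hx ⊢
  exact fun n => h (hx n)

theorem Wb_bot : Wb (p := p) (⊥ : Ideal S) = ⊥ := by
  rw [eq_bot_iff]
  intro x hx
  rw [mem_Wb_iff] at hx
  rw [Ideal.mem_bot]
  ext n
  rw [WittVector.zero_coeff]
  exact (Ideal.mem_bot).mp (hx n)

theorem eq_teich_add (x : 𝕎 S) :
    x = teichmuller p (x.coeff 0) + verschiebung (x.shift 1) := by
  have h1 : init 1 x = teichmuller p (x.coeff 0) := by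
    ext i
    rw [WittAddCross.coeff_init]
    rcases Nat.eq_zero_or_pos i with rfl | hi
    · simp [teichmuller_coeff_zero]
    · rw [teichmuller_coeff_pos p _ i hi, if_neg (by omega)]
  have h2 : tail 1 x = verschiebung (x.shift 1) := by
    ext i
    rw [WittAddCross.coeff_tail]
    rcases Nat.eq_zero_or_pos i with rfl | hi
    · simp [verschiebung_coeff_zero]
    · obtain ⟨j, rfl⟩ : ∃ j, i = j + 1 := ⟨i - 1, by omega⟩
      rw [verschiebung_coeff_succ, shift_coeff, if_pos (by omega), add_comm]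
  rw [← h1, ← h2, init_add_tail]

theorem shift_verschiebung (w : 𝕎 S) : (verschiebung w).shift 1 = w := by
  ext i
  rw [shift_coeff, add_comm, verschiebung_coeff_succ]

theorem shift_add_verschiebung (u v : 𝕎 S) : (u + verschiebung v).shift 1 = u.shift 1 + v := by
  apply verschiebung_injective p S
  have h1 := eq_teich_add (u + verschiebung v)
  have h2 := eq_teich_add u
  rw [WittVector.add_coeff_zero, verschiebung_coeff_zero, add_zero] at h1
  have h3 : teichmuller p (u.coeff 0) + verschiebung ((u + verschiebung v).shift 1) =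
      teichmuller p (u.coeff 0) + verschiebung (u.shift 1 + v) := by
    rw [← h1, map_add, ← add_assoc, ← h2]
  exact add_left_cancel h3

theorem shift_add (x y : 𝕎 S) :
    (x + y).shift 1 = x.shift 1 + y.shift 1 +
      (teichmuller p (x.coeff 0) + teichmuller p (y.coeff 0)).shift 1 := by
  have h : x + y = (teichmuller p (x.coeff 0) + teichmuller p (y.coeff 0)) +
      verschiebung (x.shift 1 + y.shift 1) := by
    conv_lhs => rw [eq_teich_add x, eq_teich_add y]
    rw [map_add]; ring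
  conv_lhs => rw [h]
  rw [shift_add_verschiebung]; ring

theorem shift_mul (a x : 𝕎 S) :
    (a * x).shift 1 = frobenius a * x.shift 1 + (a * teichmuller p (x.coeff 0)).shift 1 := by
  have h : a * x = a * teichmuller p (x.coeff 0) + verschiebung (frobenius a * x.shift 1) := by
    conv_lhs => rw [eq_teich_add x]
    rw [mul_add, mul_comm a (verschiebung _), ← verschiebung_mul_frobenius, mul_comm (x.shift 1)]
  conv_lhs => rw [h]
  rw [shift_add_verschiebung]; ring

theorem shift_mem_Wb (𝔟 : Ideal S) (x : 𝕎 S) (hx : x ∈ Wb (p := p) 𝔟) : x.shift 1 ∈ Wb (p := p) 𝔟 := by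
  rw [mem_Wb_iff] at hx ⊢
  intro n
  rw [shift_coeff]
  exact hx _

theorem verschiebung_mem_Wb (𝔟 : Ideal S) (x : 𝕎 S) (hx : x ∈ Wb (p := p) 𝔟) :
    verschiebung x ∈ Wb (p := p) 𝔟 := by
  rw [mem_Wb_iff] at hx ⊢
  intro n
  rcases Nat.eq_zero_or_pos n with rfl | hn
  · rw [verschiebung_coeff_zero]; exact Ideal.zero_mem _
  · obtain ⟨j, rfl⟩ : ∃ j, n = j + 1 := ⟨n - 1, by omega⟩
    rw [verschiebung_coeff_succ]; exact hx j

/-- Cross terms of a sum of two Teichmüller lifts of elements of `𝔟` lie in `𝔟²`. -/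
theorem cross_mem (𝔟 : Ideal S) (x y : S) (hx : x ∈ 𝔟) (hy : y ∈ 𝔟) :
    (teichmuller p x + teichmuller p y).shift 1 ∈ Wb (p := p) (𝔟 ^ 2) := by
  rw [mem_Wb_iff]
  intro n
  rw [shift_coeff, WittVector.add_coeff, WittVector.peval]
  have hp0 : p ≠ 0 := hp.out.ne_zero
  have hmul : ∀ (i j : ℕ) (a b : S), a ∈ (𝔟 ^ i : Ideal S) → b ∈ (𝔟 ^ j : Ideal S) →
      a * b ∈ (𝔟 ^ (i + j) : Ideal S) := by
    intro i j a b ha hb
    rw [pow_add]; exact Ideal.mul_mem_mul ha hb
  have key := Groth.Agent.S18590.aeval_mem (A := S) (K := S) (fun i => (𝔟 ^ i : Ideal S)) hmul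
    (fun i : Fin 2 × ℕ => p ^ i.2)
    (Function.uncurry ![(teichmuller p x).coeff, (teichmuller p y).coeff]) ?_
    (WittVector.wittAdd p (1 + n)) (p ^ (1 + n)) (pow_ne_zero _ hp0)
    (Groth.Agent.Lib.helper11.WittHomog.wittAdd_isWeightedHomogeneous p (1 + n))
  · have h2 : 2 ≤ p ^ (1 + n) := by
      calc 2 ≤ p := hp.out.two_le
        _ = p ^ 1 := (pow_one p).symm
        _ ≤ p ^ (1 + n) := Nat.pow_le_pow_right hp.out.pos (by omega)
    exact Ideal.pow_le_pow_right h2 key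
  · rintro ⟨j, i⟩
    right
    fin_cases j
    · show (teichmuller p x).coeff i ∈ (𝔟 ^ (p ^ i) : Ideal S)
      rcases Nat.eq_zero_or_pos i with rfl | hi
      · rw [teichmuller_coeff_zero, pow_zero, pow_one]; exact hx
      · rw [teichmuller_coeff_pos p _ i hi]; exact Ideal.zero_mem _
    · show (teichmuller p y).coeff i ∈ (𝔟 ^ (p ^ i) : Ideal S)
      rcases Nat.eq_zero_or_pos i with rfl | hi
      · rw [teichmuller_coeff_zero, pow_zero, pow_one]; exact hy
      · rw [teichmuller_coeff_pos p _ i hi]; exact Ideal.zero_mem _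

theorem teich_mul_shift_mem (𝔟 : Ideal S) (a : 𝕎 S) (x : S) (hx : x ∈ 𝔟) :
    (a * teichmuller p x).shift 1 ∈ Wb (p := p) (𝔟 ^ 2) := by
  rw [mem_Wb_iff]
  intro n
  rw [shift_coeff, WittTeich.coeff_mul_teichmuller]
  have h2 : 2 ≤ p ^ (1 + n) := by
    calc 2 ≤ p := hp.out.two_le
      _ = p ^ 1 := (pow_one p).symm
      _ ≤ p ^ (1 + n) := Nat.pow_le_pow_right hp.out.pos (by omega)
  exact Ideal.mul_mem_left _ _ (Ideal.pow_le_pow_right h2 (Ideal.pow_mem_pow hx _))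

instance teichPow_isPoly :
    WittVector.IsPoly p (fun R _ (x : WittVector p R) => teichmuller p (x.coeff 0 ^ p)) :=
  ⟨⟨fun n => if n = 0 then MvPolynomial.X 0 ^ p else 0, by
    intro R _ x
    funext n
    rcases n with _ | n
    · rw [teichmuller_coeff_zero]
      simp
    · rw [teichmuller_coeff_pos p _ _ (Nat.succ_pos n)]
      simp⟩⟩

instance frobTeich_isPoly :
    WittVector.IsPoly p (fun R _ (x : WittVector p R) => frobenius (teichmuller p (x.coeff 0))) :=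
  WittVector.IsPoly.comp (hg := frobenius_isPoly p) (hf := WittTeich.teichZero_isPoly p)

theorem frobenius_teichmuller (a : S) :
    frobenius (teichmuller p a) = teichmuller p (a ^ p) := by
  have key : ∀ (R : Type u) [CommRing R] (x : WittVector p R),
      frobenius (teichmuller p (x.coeff 0)) = teichmuller p (x.coeff 0 ^ p) := by
    intro R _ x
    refine WittVector.IsPoly.ext (frobTeich_isPoly (p := p)) (teichPow_isPoly (p := p)) ?_ R x
    intro R _ x n
    rw [ghostComponent_frobenius, ghostComponent_teichmuller, ghostComponent_teichmuller,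
      ← pow_mul, pow_succ']
  have := key S (teichmuller p a)
  rwa [teichmuller_coeff_zero] at this

theorem frobenius_eq (x : 𝕎 S) :
    frobenius x = teichmuller p (x.coeff 0 ^ p) + (p : 𝕎 S) * x.shift 1 := by
  conv_lhs => rw [eq_teich_add x]
  rw [map_add, frobenius_teichmuller, frobenius_verschiebung, mul_comm]

theorem teichmuller_mem_Wb (𝔟 : Ideal S) (a : S) (ha : a ∈ 𝔟) : teichmuller p a ∈ Wb (p := p) 𝔟 := by
  rw [mem_Wb_iff]
  intro n
  rcases Nat.eq_zero_or_pos n with rfl | hn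
  · rw [teichmuller_coeff_zero]; exact ha
  · rw [teichmuller_coeff_pos p _ n hn]; exact Ideal.zero_mem _

theorem frobenius_mem_Wb (𝔟 : Ideal S) (x : 𝕎 S) (hx : x ∈ Wb (p := p) 𝔟) :
    frobenius x ∈ Wb (p := p) (WittFrobNil.Phi p 𝔟) := by
  rw [mem_Wb_iff] at hx ⊢
  exact WittFrobNil.frobenius_InW p 𝔟 x hx

theorem Phi_le {𝔟 𝔟' : Ideal S} (h2 : 𝔟 ^ 2 ≤ 𝔟') (hpb : Ideal.span {(p : S)} * 𝔟 ≤ 𝔟') :
    WittFrobNil.Phi p 𝔟 ≤ 𝔟' := by
  refine sup_le ?_ hpb
  rw [Ideal.span_le]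
  rintro _ ⟨b, hb, rfl⟩
  refine h2 (Ideal.pow_le_pow_right hp.out.two_le (Ideal.pow_mem_pow hb _))

section Filt

variable {𝔟 𝔟' : Ideal S} (h2 : 𝔟 ^ 2 ≤ 𝔟') (hpb : Ideal.span {(p : S)} * 𝔟 ≤ 𝔟')
include h2 hpb

/-- (s1) -/
theorem shift_add_sub_mem (x y : 𝕎 S) (hx : x ∈ Wb (p := p) 𝔟) (hy : y ∈ Wb (p := p) 𝔟) :
    (x + y).shift 1 - x.shift 1 - y.shift 1 ∈ Wb (p := p) 𝔟' := by
  rw [shift_add]
  have : x.shift 1 + y.shift 1 + (teichmuller p (x.coeff 0) + teichmuller p (y.coeff 0)).shift 1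
      - x.shift 1 - y.shift 1 = (teichmuller p (x.coeff 0) + teichmuller p (y.coeff 0)).shift 1 := by
    ring
  rw [this]
  exact Wb_mono h2 (cross_mem 𝔟 _ _ ((mem_Wb_iff 𝔟 x).mp hx 0) ((mem_Wb_iff 𝔟 y).mp hy 0))

/-- (s2) -/
theorem shift_mul_sub_mem (a x : 𝕎 S) (hx : x ∈ Wb (p := p) 𝔟) :
    (a * x).shift 1 - frobenius a * x.shift 1 ∈ Wb (p := p) 𝔟' := by
  rw [shift_mul, add_sub_cancel_left]
  exact Wb_mono h2 (teich_mul_shift_mem 𝔟 a _ ((mem_Wb_iff 𝔟 x).mp hx 0))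

/-- (s5) -/
theorem frobenius_sub_mem (x : 𝕎 S) (hx : x ∈ Wb (p := p) 𝔟) :
    frobenius x - (p : 𝕎 S) * x.shift 1 ∈ Wb (p := p) 𝔟' := by
  rw [frobenius_eq, add_sub_cancel_right]
  refine teichmuller_mem_Wb _ _ (h2 ?_)
  exact Ideal.pow_le_pow_right hp.out.two_le (Ideal.pow_mem_pow ((mem_Wb_iff 𝔟 x).mp hx 0) _)

theorem verschiebung_mul_mem (w x : 𝕎 S) (hx : x ∈ Wb (p := p) 𝔟) :
    verschiebung w * x ∈ Wb (p := p) 𝔟' := by
  rw [← verschiebung_mul_frobenius]
  refine verschiebung_mem_Wb _ _ (Ideal.mul_mem_left _ _ ?_)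
  exact Wb_mono (Phi_le h2 hpb) (frobenius_mem_Wb 𝔟 x hx)

theorem p_mul_mem (x : 𝕎 S) (hx : x ∈ Wb (p := p) 𝔟) :
    (p : 𝕎 S) * x ∈ Wb (p := p) 𝔟' := by
  have hp0 : ((p : 𝕎 S)).coeff 0 = (p : S) := by
    have := WittTop.natCast_pow_coeff_zero (p := p) (R := S) 1
    simpa using this
  have h1 := eq_teich_add (p : 𝕎 S)
  rw [hp0] at h1
  rw [h1, add_mul]
  refine Ideal.add_mem _ ?_ (verschiebung_mul_mem h2 hpb _ x hx)
  rw [mem_Wb_iff]
  intro n
  rw [WittTeich.coeff_teichmuller_mul]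
  refine hpb (Ideal.mul_mem_mul ?_ ((mem_Wb_iff 𝔟 x).mp hx n))
  rw [Ideal.mem_span_singleton]
  exact dvd_pow_self _ (pow_ne_zero _ hp.out.ne_zero)

end Filt

end Groth.Agent.Lib.Helper22.WittShift
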