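import Mathlib
import Groth.Agent.Lib.Helper22.WittTop

set_option autoImplicit false
set_option linter.unusedSectionVars false
universe u
noncomputable section
namespace Groth.Agent.Lib.Helper22.WittTop

open WittVector

variable (p : ℕ) [hp : Fact p.Prime] {R : Type u} [CommRing R]

local notation "𝕎" => WittVector p

/-- reduction to `W_n(R/p^m)` -/
def fnm (n m : ℕ) : 𝕎 R →+* TruncatedWittVector p n (R ⧸ Ideal.span {(p : R) ^ m}) :=
  (WittVector.truncate n).comp (WittVector.map (Ideal.Quotient.mk _))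

theorem fnm_eq_iff (n m : ℕ) (x y : 𝕎 R) :
    fnm p n m x = fnm p n m y ↔ ∀ c < n, x.coeff c - y.coeff c ∈ Ideal.span {(p : R) ^ m} := by
  simp only [fnm, RingHom.comp_apply, TruncatedWittVector.ext_iff, WittVector.coeff_truncate,
    WittVector.map_coeff, Ideal.Quotient.eq]
  constructor
  · intro h c hc
    exact h ⟨c, hc⟩
  · intro h c
    exact h c c.2

theorem fnm_pow_mul (n m k : ℕ) (hk : n * m ≤ k) (y : 𝕎 R) :
    fnm p n m ((p : 𝕎 R) ^ k * y) = 0 := by
  have h0 : ((p : R ⧸ Ideal.span {(p : R) ^ m}) ^ m) = 0 := by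
    have : ((p : R ⧸ Ideal.span {(p : R) ^ m})) = Ideal.Quotient.mk _ (p : R) := by
      rw [map_natCast]
    rw [this, ← map_pow, Ideal.Quotient.eq_zero_iff_mem]
    exact Ideal.mem_span_singleton_self _
  have h1 := natCast_pow_mem_ker_truncate p m h0 n
  rw [RingHom.mem_ker] at h1
  have h2 : fnm p n m ((p : 𝕎 R) ^ (m * n)) = 0 := by
    rw [fnm, RingHom.comp_apply, map_pow, map_natCast]
    exact h1
  have h3 : (p : 𝕎 R) ^ k = (p : 𝕎 R) ^ (m * n) * (p : 𝕎 R) ^ (k - m * n) := by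
    rw [← pow_add]
    congr 1
    rw [mul_comm] at hk
    omega
  rw [h3, mul_assoc, map_mul, h2, zero_mul]

/-- partial sums of the series `∑ p^j y_j` -/
def S (y : ℕ → 𝕎 R) (K : ℕ) : 𝕎 R := ∑ j ∈ Finset.range K, (p : 𝕎 R) ^ j * y j

theorem S_def (y : ℕ → 𝕎 R) (K : ℕ) :
    S p y K = ∑ j ∈ Finset.range K, (p : 𝕎 R) ^ j * y j := rfl

theorem S_succ (y : ℕ → 𝕎 R) (K : ℕ) : S p y (K + 1) = S p y K + (p : 𝕎 R) ^ K * y K := by
  rw [S_def, S_def, Finset.sum_range_succ]

theorem S_add (y : ℕ → 𝕎 R) (k K : ℕ) :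
    S p y (k + K) = S p y k + (p : 𝕎 R) ^ k * S p (fun j => y (k + j)) K := by
  rw [S_def, S_def, S_def, Finset.sum_range_add, Finset.mul_sum, add_right_inj]
  refine Finset.sum_congr rfl fun j _ => ?_
  rw [pow_add, mul_assoc]

theorem fnm_S_stable (y : ℕ → 𝕎 R) (n m K K' : ℕ) (h1 : n * m ≤ K) (h2 : K ≤ K') :
    fnm p n m (S p y K') = fnm p n m (S p y K) := by
  induction K' , h2 using Nat.le_induction with
  | base => rfl
  | succ k hk ih =>
    rw [S_succ, map_add, ih, fnm_pow_mul p n m k (h1.trans hk), add_zero]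

variable [hc : IsAdicComplete (Ideal.span {(p : R)}) R]

theorem eq_of_forall_fnm_eq (x y : 𝕎 R) (h : ∀ n m, fnm p n m x = fnm p n m y) : x = y := by
  ext c
  rw [← sub_eq_zero]
  apply hc.toIsHausdorff.haus
  intro m
  rw [SModEq.sub_mem, sub_zero, smul_eq_mul, Ideal.mul_top, Ideal.span_singleton_pow]
  exact (fnm_eq_iff p (c + 1) m x y).mp (h (c + 1) m) c (Nat.lt_succ_self c)

theorem exists_series_limit (y : ℕ → 𝕎 R) :
    ∃ L : 𝕎 R, ∀ n m K, n * m ≤ K → fnm p n m (S p y K) = fnm p n m L := by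
  have hg : ∀ c : ℕ, ∃ Lc : R, ∀ m, (S p y ((c + 1) * m)).coeff c - Lc ∈ Ideal.span {(p : R) ^ m} := by
    intro c
    obtain ⟨Lc, hLc⟩ := hc.toIsPrecomplete.prec' (fun m => (S p y ((c + 1) * m)).coeff c) (by
      intro a b hab
      rw [SModEq.sub_mem, smul_eq_mul, Ideal.mul_top, Ideal.span_singleton_pow]
      have := fnm_S_stable p y (c + 1) a ((c + 1) * a) ((c + 1) * b) le_rfl
        (Nat.mul_le_mul_left _ hab)
      have h2 := (fnm_eq_iff p (c + 1) a _ _).mp this c (Nat.lt_succ_self c)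
      have h3 := Ideal.neg_mem_iff _ |>.mpr h2
      simpa using h3)
    refine ⟨Lc, fun m => ?_⟩
    have := hLc m
    rwa [SModEq.sub_mem, smul_eq_mul, Ideal.mul_top, Ideal.span_singleton_pow] at this
  choose Lc hLc using hg
  refine ⟨WittVector.mk p Lc, fun n m K hK => ?_⟩
  rw [fnm_eq_iff]
  intro c hcn
  rw [WittVector.coeff_mk]
  have h1 : (c + 1) * m ≤ K := le_trans (Nat.mul_le_mul_right m hcn) hK
  have h2 := fnm_S_stable p y (c + 1) m ((c + 1) * m) K le_rfl h1
  have h3 := (fnm_eq_iff p (c + 1) m _ _).mp h2 c (Nat.lt_succ_self c)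
  have h4 := Ideal.add_mem _ h3 (hLc c m)
  simpa using h4

/-- The series `∑ p^j y_j` converges with all its tails. -/
theorem exists_series_tails (y : ℕ → 𝕎 R) :
    ∃ L : ℕ → 𝕎 R, ∀ k, L 0 = S p y k + (p : 𝕎 R) ^ k * L k := by
  have h := fun k => exists_series_limit p (fun j => y (k + j))
  choose L hL using h
  refine ⟨L, fun k => ?_⟩
  apply eq_of_forall_fnm_eq
  intro n m
  have h0 := hL 0 n m (k + n * m) (Nat.le_add_left _ _)
  simp only [zero_add] at h0
  rw [← h0, S_add, map_add, map_mul, hL k n m (n * m) le_rfl, map_add, map_mul]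


omit hc in
theorem verschiebung_pow_mul (k : ℕ) (w : 𝕎 R) :
    verschiebung ((p : 𝕎 R) ^ k * w) = (p : 𝕎 R) ^ k * verschiebung w := by
  rw [← Nat.cast_pow, ← nsmul_eq_mul, ← nsmul_eq_mul, map_nsmul]

omit hc in
/-- `p^k V(w) ∈ I^(k+1)` -/
theorem pow_mul_verschiebung_mem (k : ℕ) (w : 𝕎 R) :
    (p : 𝕎 R) ^ k * verschiebung w ∈ IR p R ^ (k + 1) := by
  have h1 : (p : 𝕎 R) ^ k * verschiebung w = verschiebung (1 : 𝕎 R) ^ k * verschiebung w := by
    induction k with
    | zero => simp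
    | succ k ih =>
      rw [pow_succ, mul_assoc, pow_succ, mul_assoc, verschiebung_mul_verschiebung, one_mul,
        ← mul_assoc, ← mul_assoc, mul_comm _ (p : 𝕎 R), mul_assoc, mul_assoc, ih,
        ← mul_assoc, ← mul_assoc, mul_comm (p : 𝕎 R)]
  rw [h1, pow_succ]
  exact Ideal.mul_mem_mul (Ideal.pow_mem_pow (verschiebung_mem_IR p 1) k) (verschiebung_mem_IR p w)

omit hc in
/-- elements of `I^(k+1)` have the form `p^k V(w)` -/
theorem exists_of_mem_IR_pow (k : ℕ) (x : 𝕎 R) (hx : x ∈ IR p R ^ (k + 1)) :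
    ∃ w : 𝕎 R, x = (p : 𝕎 R) ^ k * verschiebung w := by
  induction k generalizing x with
  | zero =>
    rw [zero_add, pow_one] at hx
    obtain ⟨w, rfl⟩ := exists_verschiebung_of_coeff_zero p x ((mem_IR_iff p x).mp hx)
    exact ⟨w, by rw [pow_zero, one_mul]⟩
  | succ k ih =>
    rw [pow_succ] at hx
    refine Submodule.mul_induction_on hx ?_ ?_
    · intro a ha b hb
      obtain ⟨w, rfl⟩ := ih a ha
      obtain ⟨v, rfl⟩ := exists_verschiebung_of_coeff_zero p b ((mem_IR_iff p b).mp hb)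
      refine ⟨w * v, ?_⟩
      rw [mul_assoc, verschiebung_mul_verschiebung, pow_succ]
      ring
    · rintro a b ⟨w, rfl⟩ ⟨v, rfl⟩
      exact ⟨w + v, by rw [map_add, mul_add]⟩

theorem isHausdorff_p : IsHausdorff (Ideal.span {(p : 𝕎 R)}) (𝕎 R) := by
  refine ⟨fun x hx => ?_⟩
  apply eq_of_forall_fnm_eq
  intro n m
  have h1 := hx (n * m)
  rw [SModEq.sub_mem, sub_zero, smul_eq_mul, Ideal.mul_top, Ideal.span_singleton_pow,
    Ideal.mem_span_singleton] at h1
  obtain ⟨y, rfl⟩ := h1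
  rw [fnm_pow_mul p n m (n * m) le_rfl, map_zero]

theorem isPrecomplete_p : IsPrecomplete (Ideal.span {(p : 𝕎 R)}) (𝕎 R) := by
  refine ⟨fun f hf => ?_⟩
  have hy : ∀ j, ∃ y : 𝕎 R, f (j + 1) - f j = (p : 𝕎 R) ^ j * y := by
    intro j
    have := (hf (Nat.le_succ j)).symm
    rwa [SModEq.sub_mem, smul_eq_mul, Ideal.mul_top, Ideal.span_singleton_pow,
      Ideal.mem_span_singleton] at this
  choose y hy using hy
  have hfK : ∀ K, f K = f 0 + S p y K := by
    intro K
    induction K with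
    | zero => rw [S_def, Finset.range_zero, Finset.sum_empty, add_zero]
    | succ K ih => rw [S_succ, ← add_assoc, ← ih, ← hy K]; ring
  obtain ⟨L, hL⟩ := exists_series_tails p y
  refine ⟨f 0 + L 0, fun n => ?_⟩
  rw [SModEq.sub_mem, smul_eq_mul, Ideal.mul_top, Ideal.span_singleton_pow,
    Ideal.mem_span_singleton, hfK n, hL n]
  exact ⟨-L n, by ring⟩

theorem isAdicComplete_p : IsAdicComplete (Ideal.span {(p : 𝕎 R)}) (𝕎 R) :=
  { toIsHausdorff := isHausdorff_p p
    toIsPrecomplete := isPrecomplete_p p }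

theorem isHausdorff_IR : IsHausdorff (IR p R) (𝕎 R) := by
  refine ⟨fun x hx => ?_⟩
  apply (isHausdorff_p p (R := R)).haus
  intro n
  have h1 := hx (2 * n)
  rw [SModEq.sub_mem, sub_zero, smul_eq_mul, Ideal.mul_top] at h1 ⊢
  rw [pow_mul] at h1
  exact Ideal.pow_right_mono (IR_sq_le p) n h1

theorem isPrecomplete_IR : IsPrecomplete (IR p R) (𝕎 R) := by
  refine ⟨fun f hf => ?_⟩
  have hw : ∀ j, ∃ w : 𝕎 R, f (j + 2) - f (j + 1) = (p : 𝕎 R) ^ j * verschiebung w := by
    intro j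
    have := (hf (Nat.le_succ (j + 1))).symm
    rw [SModEq.sub_mem, smul_eq_mul, Ideal.mul_top] at this
    exact exists_of_mem_IR_pow p j _ this
  choose w hw using hw
  have hfK : ∀ K, f (K + 1) = f 1 + verschiebung (S p w K) := by
    intro K
    induction K with
    | zero => rw [S_def, Finset.range_zero, Finset.sum_empty, map_zero, add_zero]
    | succ K ih =>
      rw [S_succ, map_add, verschiebung_pow_mul, ← add_assoc, ← ih, ← hw K]; ring
  obtain ⟨L, hL⟩ := exists_series_tails p w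
  refine ⟨f 1 + verschiebung (L 0), fun n => ?_⟩
  rw [SModEq.sub_mem, smul_eq_mul, Ideal.mul_top]
  rcases n with _ | n
  · rw [pow_zero, Ideal.one_eq_top]; trivial
  · rw [hfK n, hL n, map_add, verschiebung_pow_mul]
    have : f 1 + verschiebung (S p w n) -
        (f 1 + (verschiebung (S p w n) + (p : 𝕎 R) ^ n * verschiebung (L n)))
        = -((p : 𝕎 R) ^ n * verschiebung (L n)) := by ring
    rw [this]
    exact (IR p R ^ (n + 1)).neg_mem (pow_mul_verschiebung_mem p n (L n))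

theorem isAdicComplete_IR : IsAdicComplete (IR p R) (𝕎 R) :=
  { toIsHausdorff := isHausdorff_IR p
    toIsPrecomplete := isPrecomplete_IR p }

theorem S14855 :
    IsAdicComplete (Ideal.span {(p : WittVector p R)}) (WittVector p R) ∧
      IsAdicComplete (RingHom.ker (WittVector.constantCoeff : WittVector p R →+* R)) (WittVector p R) :=
  ⟨isAdicComplete_p p, isAdicComplete_IR p⟩

end Groth.Agent.Lib.Helper22.WittTop
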