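import Mathlib
import Groth.Prelude.Def_W4c1extbt610Disp
import Groth.Agent.Lib.Helper22.WittTop2
import Groth.Agent.Lib.Helper18.Disp
import Groth.Agent.Lib.Helper22.WittShift

/-!
# Normal decompositions over `p`-adically complete rings (helper22)

Idempotent lifting in `End(P)` for an `I`-adically complete module `P` (Newton iteration
`e ↦ 3e² - 2e³`), completeness of finite projective modules over complete rings, and the
normal decomposition `P = L ⊕ T`, `Q = L + I T`.
-/

set_option autoImplicit false
universe u v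
noncomputable section
namespace Groth.Agent.Lib.Helper22.DispNormal

section Abstract

variable {A : Type u} [CommRing A] (I : Ideal A) {P : Type v} [AddCommGroup P] [Module A P]

theorem map_mem_pow (f : P →ₗ[A] P) (a b : ℕ)
    (hf : ∀ x, f x ∈ I ^ a • (⊤ : Submodule A P)) (y : P)
    (hy : y ∈ I ^ b • (⊤ : Submodule A P)) : f y ∈ I ^ (a + b) • (⊤ : Submodule A P) := by
  have h1 : Submodule.map f (I ^ b • (⊤ : Submodule A P)) ≤ I ^ (a + b) • (⊤ : Submodule A P) := by
    rw [Submodule.map_smul'', pow_add, mul_comm, mul_smul]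
    refine Submodule.smul_mono le_rfl ?_
    rintro _ ⟨x, -, rfl⟩
    exact hf x
  exact h1 ⟨y, hy, rfl⟩

theorem map_mem_pow' (f : P →ₗ[A] P) (b : ℕ) (y : P)
    (hy : y ∈ I ^ b • (⊤ : Submodule A P)) : f y ∈ I ^ b • (⊤ : Submodule A P) := by
  have := map_mem_pow I f 0 b (fun x => by rw [pow_zero, Ideal.one_eq_top, Submodule.top_smul]; trivial) y hy
  rwa [zero_add] at this

/-- the Newton step for idempotents -/
def newt (e : Module.End A P) : Module.End A P := 3 * e ^ 2 - 2 * e ^ 3

theorem newt_eps (e : Module.End A P) :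
    (newt e) ^ 2 - newt e = (e ^ 2 - e) * ((e ^ 2 - e) * (4 * (e ^ 2 - e) - 3)) := by
  unfold newt; noncomm_ring

theorem newt_sub (e : Module.End A P) : newt e - e = (e ^ 2 - e) * (1 - 2 * e) := by
  unfold newt; noncomm_ring

/-- the Newton sequence -/
def Eseq (e0 : Module.End A P) : ℕ → Module.End A P
  | 0 => e0
  | n + 1 => newt (Eseq e0 n)

variable (e0 : Module.End A P) (h0 : ∀ x, (e0 ^ 2 - e0) x ∈ I • (⊤ : Submodule A P))

include h0 in
theorem eps_mem (n : ℕ) (x : P) :
    ((Eseq e0 n) ^ 2 - Eseq e0 n) x ∈ I ^ (n + 1) • (⊤ : Submodule A P) := by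
  induction n generalizing x with
  | zero => rw [zero_add, pow_one]; exact h0 x
  | succ n ih =>
    show ((newt (Eseq e0 n)) ^ 2 - newt (Eseq e0 n)) x ∈ _
    rw [newt_eps, Module.End.mul_apply]
    have := map_mem_pow I ((Eseq e0 n) ^ 2 - Eseq e0 n) (n + 1) (n + 1) ih _
      (ih ((4 * ((Eseq e0 n) ^ 2 - Eseq e0 n) - 3 : Module.End A P) x))
    rw [← Module.End.mul_apply] at this
    exact Submodule.smul_mono_left (Ideal.pow_le_pow_right (by omega)) this

include h0 in
theorem step_mem (n : ℕ) (x : P) :
    Eseq e0 (n + 1) x - Eseq e0 n x ∈ I ^ (n + 1) • (⊤ : Submodule A P) := by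
  have : Eseq e0 (n + 1) x - Eseq e0 n x = (newt (Eseq e0 n) - Eseq e0 n) x := rfl
  rw [this, newt_sub, Module.End.mul_apply]
  exact eps_mem I e0 h0 n _

include h0 in
theorem cauchy {m n : ℕ} (hmn : m ≤ n) (x : P) :
    Eseq e0 n x - Eseq e0 m x ∈ I ^ m • (⊤ : Submodule A P) := by
  induction n, hmn using Nat.le_induction with
  | base => rw [sub_self]; exact Submodule.zero_mem _
  | succ n hmn ih =>
    have h1 := step_mem I e0 h0 n x
    have h2 : I ^ (n + 1) • (⊤ : Submodule A P) ≤ I ^ m • (⊤ : Submodule A P) :=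
      Submodule.smul_mono_left (Ideal.pow_le_pow_right (by omega))
    have : Eseq e0 (n + 1) x - Eseq e0 m x =
        (Eseq e0 (n + 1) x - Eseq e0 n x) + (Eseq e0 n x - Eseq e0 m x) := by abel
    rw [this]
    exact Submodule.add_mem _ (h2 h1) ih

variable [IsAdicComplete I P]

/-- the limit of the Newton sequence -/
def Elim : P →ₗ[A] P :=
  IsAdicComplete.lift I (fun n => (Submodule.mkQ (I ^ n • (⊤ : Submodule A P))) ∘ₗ Eseq e0 n)
    (fun {m n} hmn => by
      ext x
      simp only [LinearMap.comp_apply, Submodule.mkQ_apply, Submodule.factorPow]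
      rw [← Submodule.mkQ_apply, Submodule.factor_mk, Submodule.mkQ_apply, Submodule.Quotient.eq]
      exact cauchy I e0 h0 hmn x)

theorem Elim_sub_mem (n : ℕ) (x : P) :
    Elim I e0 h0 x - Eseq e0 n x ∈ I ^ n • (⊤ : Submodule A P) := by
  have := IsAdicComplete.mk_lift (I := I) (M := P) (N := P)
    (f := fun n => (Submodule.mkQ (I ^ n • (⊤ : Submodule A P))) ∘ₗ Eseq e0 n)
    (fun {m n} hmn => by
      ext x
      simp only [LinearMap.comp_apply, Submodule.mkQ_apply, Submodule.factorPow]
      rw [← Submodule.mkQ_apply, Submodule.factor_mk, Submodule.mkQ_apply, Submodule.Quotient.eq]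
      exact cauchy I e0 h0 hmn x) n x
  rw [LinearMap.comp_apply, Submodule.mkQ_apply, Submodule.Quotient.eq] at this
  exact this

theorem Elim_idem (x : P) : Elim I e0 h0 (Elim I e0 h0 x) = Elim I e0 h0 x := by
  rw [← sub_eq_zero]
  apply IsHausdorff.haus (I := I) (M := P) IsAdicComplete.toIsHausdorff
  intro n
  rw [SModEq.zero]
  set e := Elim I e0 h0
  have h1 := Elim_sub_mem I e0 h0 n (e x)
  have h2 : Eseq e0 n (e x) - Eseq e0 n (Eseq e0 n x) ∈ I ^ n • (⊤ : Submodule A P) := by
    rw [← map_sub]
    exact map_mem_pow' I _ n _ (Elim_sub_mem I e0 h0 n x)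
  have h3 : Eseq e0 n (Eseq e0 n x) - Eseq e0 n x ∈ I ^ n • (⊤ : Submodule A P) := by
    have := eps_mem I e0 h0 n x
    rw [LinearMap.sub_apply, pow_two, Module.End.mul_apply] at this
    exact Submodule.smul_mono_left (Ideal.pow_le_pow_right (by omega)) this
  have h4 := Elim_sub_mem I e0 h0 n x
  have : e (e x) - e x = (e (e x) - Eseq e0 n (e x)) + (Eseq e0 n (e x) - Eseq e0 n (Eseq e0 n x))
      + (Eseq e0 n (Eseq e0 n x) - Eseq e0 n x) - (e x - Eseq e0 n x) := by abel
  rw [this]
  exact Submodule.sub_mem _ (Submodule.add_mem _ (Submodule.add_mem _ h1 h2) h3) h4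

theorem Elim_sub_e0_mem (x : P) : Elim I e0 h0 x - e0 x ∈ I • (⊤ : Submodule A P) := by
  have := Elim_sub_mem I e0 h0 1 x
  rw [pow_one] at this
  have h2 := step_mem I e0 h0 0 x
  rw [zero_add, pow_one] at h2
  have : Elim I e0 h0 x - e0 x = (Elim I e0 h0 x - Eseq e0 1 x) + (Eseq e0 (0 + 1) x - Eseq e0 0 x) := by
    show _ = _ + (_ - e0 x)
    abel
  rw [this]
  exact Submodule.add_mem _ ‹_› h2

omit [IsAdicComplete I P] in
/-- finite projective modules over a complete ring are complete -/
theorem isAdicComplete_of_finite_projective [IsAdicComplete I A] [Module.Finite A P]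
    [Module.Projective A P] : IsAdicComplete I P := by
  obtain ⟨k, f, g, -, -, hfg⟩ := Module.Finite.exists_comp_eq_id_of_projective A P
  have hrep : ∀ x : P, x = ∑ i, (g x i) • f (fun j => if i = j then 1 else 0) := by
    intro x
    have : f (g x) = x := by rw [← LinearMap.comp_apply, hfg]; rfl
    conv_lhs => rw [← this]
    exact LinearMap.pi_apply_eq_sum_univ f (g x)
  let c : Fin k → P →ₗ[A] A := fun i => (LinearMap.proj i) ∘ₗ g
  have hc : ∀ i x, c i x = g x i := fun i x => rfl
  refine { toIsHausdorff := ⟨fun x hx => ?_⟩, toIsPrecomplete := ⟨fun {F} hF => ?_⟩ }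
  · have hz : ∀ i, g x i = 0 := by
      intro i
      rw [← hc]
      apply IsHausdorff.haus (I := I) (M := A) IsAdicComplete.toIsHausdorff
      intro n
      have := hx n
      rw [SModEq.zero] at this ⊢
      exact Submodule.smul_top_le_comap_smul_top (I ^ n) (c i) this
    rw [hrep x]
    exact Finset.sum_eq_zero (fun i _ => by rw [hz i, zero_smul])
  · have hex : ∀ i, ∃ a : A, ∀ n, c i (F n) ≡ a [SMOD (I ^ n • ⊤ : Submodule A A)] := by
      intro i
      refine IsPrecomplete.prec (IsAdicComplete.toIsPrecomplete (I := I) (M := A))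
        (f := fun n => c i (F n)) (fun {m n} hmn => ?_)
      have := hF hmn
      rw [SModEq.sub_mem] at this ⊢
      rw [← map_sub]
      exact Submodule.smul_top_le_comap_smul_top (I ^ m) (c i) this
    choose a ha using hex
    refine ⟨∑ i, a i • f (fun j => if i = j then 1 else 0), fun n => ?_⟩
    rw [SModEq.sub_mem, hrep (F n), ← Finset.sum_sub_distrib]
    refine Submodule.sum_mem _ (fun i _ => ?_)
    rw [← sub_smul]
    refine Submodule.smul_mem_smul ?_ trivial
    have := ha i n
    rw [SModEq.sub_mem, smul_eq_mul, Ideal.mul_top, hc] at this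
    exact this

end Abstract

section Decomp

variable {A : Type u} [CommRing A] (I : Ideal A) {P : Type v} [AddCommGroup P] [Module A P]

/-- the abstract normal decomposition -/
theorem exists_decomp [IsAdicComplete I A] [Module.Finite A P] [Module.Projective A P]
    (Q : Submodule A P)
    (hQ : ∃ C : Submodule A P, Q ⊔ C = ⊤ ∧ Q ⊓ C = I • (⊤ : Submodule A P)) :
    ∃ L T : Submodule A P, IsCompl L T ∧ Q = L ⊔ I • T := by
  obtain ⟨C, hsup, hinf⟩ := hQ
  have : IsAdicComplete I P := isAdicComplete_of_finite_projective I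
  set IP : Submodule A P := I • (⊤ : Submodule A P) with hIP
  have hIQ : IP ≤ Q := by rw [← hinf]; exact inf_le_left
  have hIC : IP ≤ C := by rw [← hinf]; exact inf_le_right
  -- the complementary pair in the quotient
  let π := Submodule.mkQ IP
  have hπ : Function.Surjective π := Submodule.mkQ_surjective IP
  have hcompl : IsCompl (Q.map π) (C.map π) := by
    constructor
    · rw [disjoint_iff, eq_bot_iff]
      rintro _ ⟨⟨q, hq, rfl⟩, ⟨c, hc, hqc⟩⟩
      have h1 : c - q ∈ IP := by
        rw [← Submodule.Quotient.eq]; exact hqc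
      have h2 : c ∈ Q := by
        have : c = (c - q) + q := by abel
        rw [this]; exact Q.add_mem (hIQ h1) hq
      have h3 : c ∈ IP := by rw [← hinf]; exact ⟨h2, hc⟩
      have h4 : q ∈ IP := by
        have : q = c - (c - q) := by abel
        rw [this]; exact IP.sub_mem h3 h1
      rw [Submodule.mem_bot]
      exact (Submodule.Quotient.mk_eq_zero IP).mpr h4
    · rw [codisjoint_iff, ← Submodule.map_sup, hsup, Submodule.map_top, LinearMap.range_eq_top]
      exact hπ
  let ebar : (P ⧸ IP) →ₗ[A] (P ⧸ IP) := (Q.map π).projection (C.map π) hcompl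
  obtain ⟨e0, he0⟩ := Module.projective_lifting_property π (ebar ∘ₗ π) hπ
  have he0' : ∀ x, π (e0 x) = ebar (π x) := fun x => by
    rw [← LinearMap.comp_apply, he0]; rfl
  have ha : ∀ x, e0 x ∈ Q := by
    intro x
    have h1 : π (e0 x) ∈ Q.map π := by
      rw [he0']; exact Submodule.projection_apply_mem hcompl _
    obtain ⟨q, hq, hq'⟩ := h1
    have h2 : q - e0 x ∈ IP := by
      rw [← Submodule.Quotient.eq]; exact hq'
    have : e0 x = q - (q - e0 x) := by abel
    rw [this]; exact Q.sub_mem hq (hIQ h2)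
  have hb : ∀ x ∈ Q, x - e0 x ∈ IP := by
    intro x hx
    rw [← Submodule.Quotient.eq]
    show π x = π (e0 x)
    rw [he0', Submodule.projection_apply_of_mem_left hcompl (Submodule.mem_map_of_mem hx)]
  have h0 : ∀ x, (e0 ^ 2 - e0) x ∈ I • (⊤ : Submodule A P) := by
    intro x
    rw [LinearMap.sub_apply, pow_two, Module.End.mul_apply]
    have := hb (e0 x) (ha x)
    rw [← neg_sub]
    exact IP.neg_mem this
  set e := Elim I e0 h0 with he
  have hidem : IsIdempotentElem e := by
    ext x
    rw [Module.End.mul_apply]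
    exact Elim_idem I e0 h0 x
  have hee0 : ∀ x, e x - e0 x ∈ IP := Elim_sub_e0_mem I e0 h0
  refine ⟨LinearMap.range e, LinearMap.ker e, LinearMap.IsIdempotentElem.isCompl hidem, ?_⟩
  apply le_antisymm
  · intro x hx
    have h1 : x - e x ∈ IP := by
      have : x - e x = (x - e0 x) - (e x - e0 x) := by abel
      rw [this]; exact IP.sub_mem (hb x hx) (hee0 x)
    have h2 : x - e x ∈ I • LinearMap.ker e := by
      -- apply `1 - e` to an element of `I P`
      have h3 : Submodule.map (LinearMap.id - e) IP ≤ I • LinearMap.ker e := by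
        rw [hIP, Submodule.map_smul'']
        refine Submodule.smul_mono le_rfl ?_
        rintro _ ⟨y, -, rfl⟩
        rw [LinearMap.mem_ker, LinearMap.sub_apply, LinearMap.id_apply, map_sub]
        have := Elim_idem I e0 h0 y
        rw [sub_eq_zero]; exact this.symm
      have h4 : (LinearMap.id - e : P →ₗ[A] P) (x - e x) = x - e x := by
        rw [LinearMap.sub_apply, LinearMap.id_apply, map_sub]
        have := Elim_idem I e0 h0 x
        rw [this, sub_self, sub_zero]
      rw [← h4]
      exact h3 ⟨_, h1, rfl⟩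
    have : x = e x + (x - e x) := by abel
    rw [this]
    exact Submodule.add_mem_sup ⟨x, rfl⟩ h2
  · refine sup_le ?_ ?_
    · rintro _ ⟨x, rfl⟩
      have : e x = e0 x + (e x - e0 x) := by abel
      rw [this]; exact Q.add_mem (ha x) (hIQ (hee0 x))
    · exact (Submodule.smul_mono le_rfl le_top).trans hIQ

end Decomp

section Witt

open W4c1extbt610

variable (p : ℕ) [hp : Fact p.Prime] (R : Type u) [CommRing R]

theorem IV_eq_IR : IV p R = WittTop.IR p R := by
  ext x
  rw [Groth.Agent.Lib.Helper18.DispLib.mem_IV_iff, WittTop.mem_IR_iff]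
  constructor
  · rintro ⟨w, rfl⟩; exact WittVector.verschiebung_coeff_zero w
  · intro h
    refine ⟨x.shift 1, ?_⟩
    have := WittShift.eq_teich_add x
    rw [h, WittVector.teichmuller_zero, zero_add] at this
    exact this.symm

theorem isAdicComplete_IV [IsAdicComplete (Ideal.span {(p : R)}) R] :
    IsAdicComplete (IV p R) (WittVector p R) := by
  rw [IV_eq_IR]
  exact WittTop.isAdicComplete_IR p

theorem exists_normalDecomposition [IsAdicComplete (Ideal.span {(p : R)}) R]
    (P : Type v) [AddCommGroup P] [Module (WittVector p R) P]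
    [Module.Finite (WittVector p R) P] [Module.Projective (WittVector p R) P]
    (Q : Submodule (WittVector p R) P)
    (hQ : ∃ C : Submodule (WittVector p R) P,
      Q ⊔ C = ⊤ ∧ Q ⊓ C = IV p R • (⊤ : Submodule (WittVector p R) P)) :
    ∃ L T : Submodule (WittVector p R) P, IsCompl L T ∧ Q = L ⊔ IV p R • T := by
  have := isAdicComplete_IV p R
  exact exists_decomp (IV p R) Q hQ

end Witt

end Groth.Agent.Lib.Helper22.DispNormal
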