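import Mathlib
import Groth.Prelude.Def_EGA4b
import Groth.Agent.S9231
import Groth.Agent.Lib.helper19.ComplMap1
import Groth.Agent.Lib.Helper5.RegHomComp
import Groth.Agent.Lib.Helper5.RegHomDescent
import Groth.Agent.Lib.Helper21.FlatLocal11

/-!
# Formal fibres descend along local homomorphisms (helper22)

For a flat local homomorphism `A → A'` of Noetherian local rings, the induced map `Â → Â'` is
faithfully flat; we package it and deduce EGA IV 7.3.? type statements.
-/

set_option autoImplicit false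
set_option linter.style.haveILetI false
universe u
open TensorProduct IsLocalRing

namespace Groth.Agent.Lib.Helper22.CplDescent

variable (A A' : Type u) [CommRing A] [CommRing A'] [IsNoetherianRing A] [IsNoetherianRing A']
  [IsLocalRing A] [IsLocalRing A'] [Algebra A A'] [IsLocalHom (algebraMap A A')]

/-- the package: an algebra structure `Â → Â'` compatible with `A → A'`, faithfully flat when
`A → A'` is flat. -/
theorem exists_cpl_algebra [Module.Flat A A'] :
    ∃ (_ : Algebra (EGA4.Cpl A) (EGA4.Cpl A')),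
      IsScalarTower A (EGA4.Cpl A) (EGA4.Cpl A') ∧ Module.FaithfullyFlat (EGA4.Cpl A) (EGA4.Cpl A') := by
  let ψ := Groth.Agent.Lib.Helper19.ComplMap.complMap A A'
  have hψ := Groth.Agent.Lib.Helper19.ComplMap.complMap_comp A A'
  letI alg : Algebra (EGA4.Cpl A) (EGA4.Cpl A') := ψ.toAlgebra
  refine ⟨alg, ?_, ?_⟩
  · exact .of_algebraMap_eq (fun a => (RingHom.congr_fun hψ a).symm)
  · have hflat : Module.Flat (EGA4.Cpl A) (EGA4.Cpl A') :=
      (Groth.Agent.S9231.result A A' ψ hψ).mpr (RingHom.flat_algebraMap_iff.mpr inferInstance)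
    haveI : IsLocalHom (algebraMap (EGA4.Cpl A) (EGA4.Cpl A')) :=
      Groth.Agent.Lib.Helper19.ComplUnram.isLocalHom_of_compat ψ hψ
    exact Module.FaithfullyFlat.of_flat_of_isLocalHom

/-- regular version (EGA IV 7.3.?): S4704 -/
theorem isRegularHom_cpl (hf : CAlg.IsRegularHom A A') (hA' : CAlg.IsRegularHom A' (EGA4.Cpl A')) :
    CAlg.IsRegularHom A (EGA4.Cpl A) := by
  haveI : Module.Flat A A' := hf.1
  obtain ⟨alg, htower, hff⟩ := exists_cpl_algebra A A'
  letI := alg
  haveI := htower
  haveI := hff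
  haveI : IsNoetherianRing (EGA4.Cpl A') :=
    Groth.Agent.Lib.helper19.isNoetherianRing_adicCompletion A' (IsLocalRing.maximalIdeal A')
  haveI : IsScalarTower A A' (EGA4.Cpl A') := .of_algebraMap_eq (fun _ => rfl)
  have hAC : CAlg.IsRegularHom A (EGA4.Cpl A') :=
    Groth.Agent.Lib.Helper5.RegHom.isRegularHom_comp A A' (EGA4.Cpl A') hf hA'
      (fun p _ => Groth.Agent.Lib.Helper21.FlatLocal.isNoetherianRing_fiber p)
  exact Groth.Agent.Lib.Helper5.RegHom.isRegularHom_of_comp_faithfullyFlat A (EGA4.Cpl A)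
    (EGA4.Cpl A') hAC

end Groth.Agent.Lib.Helper22.CplDescent
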