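import Mathlib
import Groth.Prelude.Def_EGA4b
import Groth.Agent.Lib.Helper22.CplDescent
import Groth.Agent.Lib.Helper22.NormRedFib
import Groth.Agent.Lib.Helper22.RedFib
import Groth.Agent.S19858
import Groth.Agent.S4696
import Groth.Agent.S9829

/-!
# Formal fibres descend along local homomorphisms: normal and reduced cases (helper22)
-/

set_option autoImplicit false
set_option linter.style.haveILetI false
universe u
open TensorProduct IsLocalRing

namespace Groth.Agent.Lib.Helper22.CplDescent

/-- a regular ring is a normal ring -/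
theorem isNormalRing_of_isRegularRing (R : Type u) [CommRing R] [IsRegularRing R] :
    EGA4.IsNormalRing R := fun p _ =>
  ⟨Groth.Agent.Lib.helper19.isDomain_of_isRegularLocalRing _, Groth.Agent.S9829.result _⟩

/-- a regular homomorphism is a normal homomorphism -/
theorem isNormalHom_of_isRegularHom {A B : Type u} [CommRing A] [CommRing B] [Algebra A B]
    (h : CAlg.IsRegularHom A B) : EGA4.IsNormalHom A B :=
  ⟨h.1, fun p _ k' _ _ hfin =>
    haveI := (h.2 p).2 k' hfin
    isNormalRing_of_isRegularRing _⟩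

/-- reducedness of `T ⊗ B` descends from `T ⊗ C` when `B → C` is faithfully flat. -/
theorem isReduced_tensor_descent (A B C T : Type u) [CommRing A] [CommRing B] [CommRing C]
    [CommRing T] [Algebra A B] [Algebra B C] [Algebra A C] [IsScalarTower A B C] [Algebra A T]
    [Module.FaithfullyFlat B C] (h : IsReduced (T ⊗[A] C)) : IsReduced (T ⊗[A] B) := by
  let e1 : (B ⊗[A] T) ⊗[B] C ≃ₐ[B] C ⊗[B] (B ⊗[A] T) := Algebra.TensorProduct.comm B _ _
  let e2 : C ⊗[B] (B ⊗[A] T) ≃ₐ[C] C ⊗[A] T := Algebra.TensorProduct.cancelBaseChange A B C C T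
  let e3 : C ⊗[A] T ≃ₐ[A] T ⊗[A] C := Algebra.TensorProduct.comm A _ _
  let e := (e1.toRingEquiv.trans e2.toRingEquiv).trans e3.toRingEquiv
  haveI h1 : IsReduced ((B ⊗[A] T) ⊗[B] C) := isReduced_of_injective e e.injective
  haveI : Module.FaithfullyFlat (B ⊗[A] T) ((B ⊗[A] T) ⊗[B] C) := inferInstance
  haveI h2 : IsReduced (B ⊗[A] T) :=
    isReduced_of_injective (algebraMap (B ⊗[A] T) ((B ⊗[A] T) ⊗[B] C))
      (FaithfulSMul.algebraMap_injective _ _)
  exact isReduced_of_injective (Algebra.TensorProduct.comm A T B)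
    (Algebra.TensorProduct.comm A T B).injective

/-- geometric reducedness of the fibres descends along a faithfully flat map -/
theorem isGeometricallyReduced_fiber_of_comp_faithfullyFlat (A B C : Type u) [CommRing A]
    [CommRing B] [CommRing C] [Algebra A B] [Algebra B C] [Algebra A C] [IsScalarTower A B C]
    [Module.FaithfullyFlat B C]
    (h : ∀ (p : Ideal A) [p.IsPrime], Algebra.IsGeometricallyReduced p.ResidueField (p.Fiber C))
    (p : Ideal A) [p.IsPrime] : Algebra.IsGeometricallyReduced p.ResidueField (p.Fiber B) := by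
  rw [Algebra.isGeometricallyReduced_field_iff]
  haveI := h p
  haveI h1 : IsReduced (AlgebraicClosure p.ResidueField ⊗[p.ResidueField] (p.Fiber C)) :=
    inferInstance
  let eC : AlgebraicClosure p.ResidueField ⊗[p.ResidueField] (p.ResidueField ⊗[A] C) ≃ₐ[_]
      AlgebraicClosure p.ResidueField ⊗[A] C :=
    Algebra.TensorProduct.cancelBaseChange A p.ResidueField (AlgebraicClosure p.ResidueField)
      (AlgebraicClosure p.ResidueField) C
  let eB : AlgebraicClosure p.ResidueField ⊗[p.ResidueField] (p.ResidueField ⊗[A] B) ≃ₐ[_]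
      AlgebraicClosure p.ResidueField ⊗[A] B :=
    Algebra.TensorProduct.cancelBaseChange A p.ResidueField (AlgebraicClosure p.ResidueField)
      (AlgebraicClosure p.ResidueField) B
  haveI h2 : IsReduced (AlgebraicClosure p.ResidueField ⊗[A] C) :=
    isReduced_of_injective eC.symm eC.symm.injective
  haveI h3 : IsReduced (AlgebraicClosure p.ResidueField ⊗[A] B) :=
    isReduced_tensor_descent A B C _ h2
  exact isReduced_of_injective eB eB.injective

variable (A A' : Type u) [CommRing A] [CommRing A'] [IsNoetherianRing A] [IsNoetherianRing A']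
  [IsLocalRing A] [IsLocalRing A'] [Algebra A A'] [IsLocalHom (algebraMap A A')]

/-- normal version: S4706 -/
theorem hasGeomNormalFormalFibres_of_isNormalHom (hf : EGA4.IsNormalHom A A')
    (hA' : CAlg.IsRegularHom A' (EGA4.Cpl A')) : EGA4.HasGeomNormalFormalFibres A := by
  haveI : Module.Flat A A' := hf.1
  obtain ⟨alg, htower, hff⟩ := exists_cpl_algebra A A'
  letI := alg
  haveI := htower
  haveI := hff
  haveI : IsNoetherianRing (EGA4.Cpl A') :=
    Groth.Agent.Lib.helper19.isNoetherianRing_adicCompletion A' (IsLocalRing.maximalIdeal A')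
  haveI : IsNoetherianRing (EGA4.Cpl A) :=
    Groth.Agent.Lib.helper19.isNoetherianRing_adicCompletion A (IsLocalRing.maximalIdeal A)
  haveI : IsScalarTower A A' (EGA4.Cpl A') := .of_algebraMap_eq (fun _ => rfl)
  have hAC : EGA4.IsNormalHom A (EGA4.Cpl A') :=
    Groth.Agent.S4696.result A A' (EGA4.Cpl A') hf (isNormalHom_of_isRegularHom hA')
  exact (Groth.Agent.S19858.result A (EGA4.Cpl A) (EGA4.Cpl A') hAC).2

/-- reduced version: S4705 -/
theorem hasGeomReducedFormalFibres_of_reduced_hom [Module.Flat A A']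
    (hf : ∀ (p : Ideal A) [p.IsPrime], Algebra.IsGeometricallyReduced p.ResidueField (p.Fiber A'))
    (hA' : CAlg.IsRegularHom A' (EGA4.Cpl A')) : EGA4.HasGeomReducedFormalFibres A := by
  obtain ⟨alg, htower, hff⟩ := exists_cpl_algebra A A'
  letI := alg
  haveI := htower
  haveI := hff
  haveI : IsScalarTower A A' (EGA4.Cpl A') := .of_algebraMap_eq (fun _ => rfl)
  haveI : Module.Flat A' (EGA4.Cpl A') := hA'.1
  have hBC : ∀ (q : Ideal A') [q.IsPrime],
      Algebra.IsGeometricallyReduced q.ResidueField (q.Fiber (EGA4.Cpl A')) := fun q _ =>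
    Groth.Agent.Lib.Helper22.NormRedFib.isGeometricallyReduced_of_isGeomNormal
      ((isNormalHom_of_isRegularHom hA').2 q)
  have hAC : ∀ (p : Ideal A) [p.IsPrime],
      Algebra.IsGeometricallyReduced p.ResidueField (p.Fiber (EGA4.Cpl A')) := fun p _ =>
    Groth.Agent.Lib.Helper22.RedFib.isGeometricallyReduced_fiber_comp (B := A')
      (C := EGA4.Cpl A') A hf hBC p
  intro p hp
  exact isGeometricallyReduced_fiber_of_comp_faithfullyFlat A (EGA4.Cpl A) (EGA4.Cpl A') hAC p

end Groth.Agent.Lib.Helper22.CplDescent
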