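import Mathlib
import Groth.Prelude.Def_EGA4b
import Groth.Agent.Lib.Helper22.FormalFibQuot
import Groth.Agent.Lib.Helper22.GeomRed

/-!
# Formal fibres of a quotient: geometric reducedness
-/

set_option autoImplicit false
universe u
open TensorProduct IsLocalRing

namespace Groth.Agent.Lib.Helper22.FormalFibQuot

open Groth.Agent.Lib.Helper22.NormFib

/-- field base change of a geometrically reduced algebra is geometrically reduced -/
theorem isGeometricallyReduced_baseChange_field (k S K : Type u) [Field k] [CommRing S]
    [Algebra k S] [Algebra.IsGeometricallyReduced k S] [Field K] [Algebra k K] :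
    Algebra.IsGeometricallyReduced K (K ⊗[k] S) := by
  rw [Algebra.isGeometricallyReduced_field_iff]
  haveI h1 : IsReduced (AlgebraicClosure K ⊗[k] S) :=
    Groth.Agent.Lib.Helper22.GeomRed.isReduced_tensor_of_isGeometricallyReduced
  let e : AlgebraicClosure K ⊗[K] (K ⊗[k] S) ≃ₐ[AlgebraicClosure K] AlgebraicClosure K ⊗[k] S :=
    Algebra.TensorProduct.cancelBaseChange k K (AlgebraicClosure K) (AlgebraicClosure K) S
  exact isReduced_of_injective e e.injective

variable {A B : Type u} [CommRing A] [CommRing B] [Algebra A B]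

/-- the fibre over any field-valued point is geometrically reduced -/
theorem isGeometricallyReduced_tensor_field
    (h : ∀ (p : Ideal A) [p.IsPrime], Algebra.IsGeometricallyReduced p.ResidueField (p.Fiber B))
    (F : Type u) [Field F] [Algebra A F] : Algebra.IsGeometricallyReduced F (F ⊗[A] B) := by
  let q : Ideal A := RingHom.ker (algebraMap A F)
  haveI : q.IsPrime := RingHom.ker_isPrime _
  let φ : q.ResidueField →ₐ[A] F := kerLift F
  letI : Algebra q.ResidueField F := φ.toRingHom.toAlgebra
  haveI : IsScalarTower A q.ResidueField F :=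
    IsScalarTower.of_algebraMap_eq (fun x => (φ.commutes x).symm)
  haveI := h q
  haveI h1 : Algebra.IsGeometricallyReduced F (F ⊗[q.ResidueField] (q.Fiber B)) :=
    isGeometricallyReduced_baseChange_field q.ResidueField (q.Fiber B) F
  let e1 : F ⊗[q.ResidueField] (q.ResidueField ⊗[A] B) ≃ₐ[F] F ⊗[A] B :=
    Algebra.TensorProduct.cancelBaseChange A q.ResidueField F F B
  let f1 : F ⊗[A] B →ₐ[F] F ⊗[q.ResidueField] (q.ResidueField ⊗[A] B) := e1.symm.toAlgHom
  have hf1 : Function.Injective f1 := e1.symm.injective
  exact Algebra.IsGeometricallyReduced.of_injective f1 hf1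

/-- geometric reducedness of all fibres is stable under arbitrary base change -/
theorem isGeometricallyReduced_fiber_baseChange
    (h : ∀ (p : Ideal A) [p.IsPrime], Algebra.IsGeometricallyReduced p.ResidueField (p.Fiber B))
    (A' : Type u) [CommRing A'] [Algebra A A'] (p' : Ideal A') [p'.IsPrime] :
    Algebra.IsGeometricallyReduced p'.ResidueField (p'.Fiber (A' ⊗[A] B)) := by
  haveI : IsScalarTower A A' p'.ResidueField := IsScalarTower.of_algebraMap_eq' rfl
  haveI := isGeometricallyReduced_tensor_field h p'.ResidueField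
  let e2 : p'.ResidueField ⊗[A'] (A' ⊗[A] B) ≃ₐ[p'.ResidueField] p'.ResidueField ⊗[A] B :=
    Algebra.TensorProduct.cancelBaseChange A A' p'.ResidueField p'.ResidueField B
  let f2 : p'.ResidueField ⊗[A'] (A' ⊗[A] B) →ₐ[p'.ResidueField] p'.ResidueField ⊗[A] B :=
    e2.toAlgHom
  have hf2 : Function.Injective f2 := e2.injective
  exact Algebra.IsGeometricallyReduced.of_injective f2 hf2

/-- transfer along an algebra isomorphism of the target -/
theorem isGeometricallyReduced_fiber_of_algEquiv {B' : Type u} [CommRing B'] [Algebra A B']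
    (e : B ≃ₐ[A] B')
    (h : ∀ (p : Ideal A) [p.IsPrime], Algebra.IsGeometricallyReduced p.ResidueField (p.Fiber B))
    (p : Ideal A) [p.IsPrime] : Algebra.IsGeometricallyReduced p.ResidueField (p.Fiber B') := by
  haveI := h p
  let e' : p.ResidueField ⊗[A] B' ≃ₐ[p.ResidueField] p.ResidueField ⊗[A] B :=
    Algebra.TensorProduct.congr (AlgEquiv.refl (R := p.ResidueField) (A₁ := p.ResidueField))
      e.symm
  let f' : p.ResidueField ⊗[A] B' →ₐ[p.ResidueField] p.ResidueField ⊗[A] B := e'.toAlgHom
  have hf' : Function.Injective f' := e'.injective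
  exact Algebra.IsGeometricallyReduced.of_injective f' hf'

/-- **Formal fibres of a quotient**: geometric reducedness. -/
theorem hasGeomReducedFormalFibres_quotient (A : Type u) [CommRing A] [IsNoetherianRing A]
    [IsLocalRing A] (hA : EGA4.HasGeomReducedFormalFibres A) (I : Ideal A)
    [IsLocalRing (A ⧸ I)] : EGA4.HasGeomReducedFormalFibres (A ⧸ I) := by
  obtain ⟨e⟩ := nonempty_tensor_cpl_algEquiv A I
  intro p hp
  exact isGeometricallyReduced_fiber_of_algEquiv e
    (fun p' _ => isGeometricallyReduced_fiber_baseChange hA (A ⧸ I) p') p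

end Groth.Agent.Lib.Helper22.FormalFibQuot
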