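import Mathlib
import Groth.Prelude.Def_EGA4b
import Groth.Agent.Lib.Helper22.CplDescent2
import Groth.Agent.Lib.Helper22.FormalFibQuot2
import Groth.Agent.Lib.Helper12.ComplSurj
import Groth.Agent.Lib.Helper5.RegHomIso

/-!
# `A → Â_I` is a `P`-homomorphism when the local rings of `A` have `P` formal fibres (helper22)

Part 1: local comparison lemma.
-/

set_option autoImplicit false
set_option linter.style.haveILetI false
universe u
open TensorProduct IsLocalRing

namespace Groth.Agent.Lib.Helper22.CplLocGlob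

open Groth.Agent.Lib.Helper22.CplDescent Groth.Agent.Lib.Helper22.FormalFibQuot

section LemmaL

variable (A B : Type u) [CommRing A] [CommRing B] [IsNoetherianRing A] [IsNoetherianRing B]
  [IsLocalRing A] [IsLocalRing B] [Algebra A B] [IsLocalHom (algebraMap A B)]

/-- a flat local homomorphism with `𝔪_A B = 𝔪_B` and trivial residue field extension induces
an isomorphism on completions -/
theorem nonempty_cpl_algEquiv [Module.Flat A B]
    (hm : Ideal.map (algebraMap A B) (maximalIdeal A) = maximalIdeal B)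
    (hk : Function.Surjective (IsLocalRing.ResidueField.map (algebraMap A B))) :
    Nonempty (EGA4.Cpl A ≃ₐ[A] EGA4.Cpl B) := by
  let ψ := Groth.Agent.Lib.Helper19.ComplMap.complMap A B
  have hψ := Groth.Agent.Lib.Helper19.ComplMap.complMap_comp A B
  have hsurj : Function.Surjective ψ :=
    Groth.Agent.Lib.Helper12.ComplSurj.surjective_of_compat hm hk ψ hψ
  have hinj : Function.Injective ψ := by
    letI alg : Algebra (EGA4.Cpl A) (EGA4.Cpl B) := ψ.toAlgebra
    have hflat : Module.Flat (EGA4.Cpl A) (EGA4.Cpl B) :=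
      (Groth.Agent.S9231.result A B ψ hψ).mpr (RingHom.flat_algebraMap_iff.mpr inferInstance)
    haveI : IsLocalHom (algebraMap (EGA4.Cpl A) (EGA4.Cpl B)) :=
      Groth.Agent.Lib.Helper19.ComplUnram.isLocalHom_of_compat ψ hψ
    haveI : Module.FaithfullyFlat (EGA4.Cpl A) (EGA4.Cpl B) :=
      Module.FaithfullyFlat.of_flat_of_isLocalHom
    exact FaithfulSMul.algebraMap_injective (EGA4.Cpl A) (EGA4.Cpl B)
  exact ⟨AlgEquiv.ofRingEquiv (f := RingEquiv.ofBijective ψ ⟨hinj, hsurj⟩)
    (fun a => RingHom.congr_fun hψ a)⟩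

variable [Module.Flat A B]
  (hm : Ideal.map (algebraMap A B) (maximalIdeal A) = maximalIdeal B)
  (hk : Function.Surjective (IsLocalRing.ResidueField.map (algebraMap A B)))

include hm hk

/-- normal case of the local comparison -/
theorem isNormalHom_of_cpl (h : EGA4.HasGeomNormalFormalFibres A) : EGA4.IsNormalHom A B := by
  obtain ⟨e⟩ := nonempty_cpl_algEquiv A B hm hk
  haveI : Module.Flat A (EGA4.Cpl A) := AdicCompletion.flat_of_isNoetherian _
  have h0 : EGA4.IsNormalHom A (EGA4.Cpl A) := ⟨inferInstance, h⟩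
  have h1 : EGA4.IsNormalHom A (EGA4.Cpl B) := isNormalHom_of_algEquiv e h0
  haveI : IsNoetherianRing (EGA4.Cpl B) :=
    Groth.Agent.Lib.helper19.isNoetherianRing_adicCompletion B (IsLocalRing.maximalIdeal B)
  haveI : IsScalarTower A B (EGA4.Cpl B) := .of_algebraMap_eq (fun _ => rfl)
  haveI : Module.Flat B (EGA4.Cpl B) := AdicCompletion.flat_of_isNoetherian _
  haveI : Module.FaithfullyFlat B (EGA4.Cpl B) := Module.FaithfullyFlat.of_flat_of_isLocalHom
  exact Groth.Agent.S19858.result A B (EGA4.Cpl B) h1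

/-- reduced case of the local comparison -/
theorem isGeometricallyReduced_fiber_of_cpl (h : EGA4.HasGeomReducedFormalFibres A)
    (p : Ideal A) [p.IsPrime] : Algebra.IsGeometricallyReduced p.ResidueField (p.Fiber B) := by
  obtain ⟨e⟩ := nonempty_cpl_algEquiv A B hm hk
  have h1 : ∀ (p : Ideal A) [p.IsPrime],
      Algebra.IsGeometricallyReduced p.ResidueField (p.Fiber (EGA4.Cpl B)) := fun p _ =>
    isGeometricallyReduced_fiber_of_algEquiv e h p
  haveI : IsScalarTower A B (EGA4.Cpl B) := .of_algebraMap_eq (fun _ => rfl)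
  haveI : Module.Flat B (EGA4.Cpl B) := AdicCompletion.flat_of_isNoetherian _
  haveI : Module.FaithfullyFlat B (EGA4.Cpl B) := Module.FaithfullyFlat.of_flat_of_isLocalHom
  exact isGeometricallyReduced_fiber_of_comp_faithfullyFlat A B (EGA4.Cpl B) h1 p

/-- regular case of the local comparison -/
theorem isRegularHom_of_cpl (h : CAlg.IsRegularHom A (EGA4.Cpl A)) : CAlg.IsRegularHom A B := by
  obtain ⟨e⟩ := nonempty_cpl_algEquiv A B hm hk
  have h1 : CAlg.IsRegularHom A (EGA4.Cpl B) :=
    Groth.Agent.Lib.Helper5.RegHom.isRegularHom_of_algEquiv A _ _ e h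
  haveI : IsScalarTower A B (EGA4.Cpl B) := .of_algebraMap_eq (fun _ => rfl)
  haveI : Module.Flat B (EGA4.Cpl B) := AdicCompletion.flat_of_isNoetherian _
  haveI : Module.FaithfullyFlat B (EGA4.Cpl B) := Module.FaithfullyFlat.of_flat_of_isLocalHom
  exact Groth.Agent.Lib.Helper5.RegHom.isRegularHom_of_comp_faithfullyFlat A B (EGA4.Cpl B) h1

end LemmaL

end Groth.Agent.Lib.Helper22.CplLocGlob
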