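import Mathlib
import Groth.Prelude.Def_EGA4b
import Groth.Agent.Lib.Helper22.CplLocGlob
import Groth.Agent.Lib.Helper5.RegHomIso

set_option autoImplicit false
set_option linter.style.haveILetI false
universe u
open TensorProduct IsLocalRing

namespace Groth.Agent.Lib.Helper22.CplTransfer

/-- change of source along a localization: if `A → C` is regular and `C` is an `S⁻¹A`-algebra,
then `S⁻¹A → C` is regular -/
theorem isRegularHom_of_isLocalization_source (A C A' : Type u) [CommRing A] [CommRing C]
    [CommRing A'] [Algebra A C] [Algebra A A'] [Algebra A' C] [IsScalarTower A A' C]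
    (S : Submonoid A) [IsLocalization S A'] (h : CAlg.IsRegularHom A C) :
    CAlg.IsRegularHom A' C := by
  haveI : IsLocalization (Algebra.algebraMapSubmonoid C S) C := by
    apply IsLocalization.self
    rintro _ ⟨s, hs, rfl⟩
    rw [IsScalarTower.algebraMap_apply A A' C]
    exact (IsLocalization.map_units A' ⟨s, hs⟩).map _
  exact Groth.Agent.Lib.Helper5.RegHom.isRegularHom_localization A C h S A' C

/-- regularity of the completion map is invariant under ring isomorphisms -/
theorem isRegularHom_cpl_of_ringEquiv {R R' : Type u} [CommRing R] [CommRing R'] [IsLocalRing R]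
    [IsLocalRing R'] [IsNoetherianRing R] (e : R ≃+* R')
    (h : CAlg.IsRegularHom R (EGA4.Cpl R)) : CAlg.IsRegularHom R' (EGA4.Cpl R') := by
  haveI : IsNoetherianRing R' := isNoetherianRing_of_ringEquiv R e
  letI : Algebra R R' := e.toRingHom.toAlgebra
  haveI : IsLocalHom (algebraMap R R') := by
    rw [RingHom.algebraMap_toAlgebra]
    exact ⟨fun a ha => by simpa using ha.map e.symm.toRingHom⟩
  haveI : Module.Flat R R' :=
    RingHom.flat_algebraMap_iff.mp (RingHom.Flat.of_bijective e.bijective)
  have hm : Ideal.map (algebraMap R R') (maximalIdeal R) = maximalIdeal R' :=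
    IsLocalRing.map_ringEquiv_maximalIdeal e
  have hk : Function.Surjective (IsLocalRing.ResidueField.map (algebraMap R R')) := by
    intro z
    obtain ⟨r', rfl⟩ := IsLocalRing.residue_surjective z
    obtain ⟨r, rfl⟩ := e.surjective r'
    exact ⟨IsLocalRing.residue R r, rfl⟩
  obtain ⟨ε⟩ := Groth.Agent.Lib.Helper22.CplLocGlob.nonempty_cpl_algEquiv R R' hm hk
  have h1 : CAlg.IsRegularHom R (EGA4.Cpl R') :=
    Groth.Agent.Lib.Helper5.RegHom.isRegularHom_of_algEquiv R _ _ ε h
  haveI : IsScalarTower R R' (EGA4.Cpl R') := .of_algebraMap_eq (fun _ => rfl)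
  haveI : IsLocalization (IsUnit.submonoid R) R' := by
    haveI : IsLocalization (IsUnit.submonoid R) R := IsLocalization.self le_rfl
    exact IsLocalization.isLocalization_of_algEquiv (IsUnit.submonoid R)
      (AlgEquiv.ofRingEquiv (f := e) (fun _ => rfl) : R ≃ₐ[R] R')
  exact isRegularHom_of_isLocalization_source R (EGA4.Cpl R') R' (IsUnit.submonoid R) h1

end Groth.Agent.Lib.Helper22.CplTransfer
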