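import Mathlib
import Groth.Prelude.Def_EGA4b
import Groth.Agent.Lib.Helper22.CplLocGlob
import Groth.Agent.Lib.Helper5.RegCompletionC

/-!
# Part 2: the local rings of an adic completion at maximal ideals (helper22)
-/

set_option autoImplicit false
set_option linter.style.haveILetI false
universe u
open TensorProduct IsLocalRing

namespace Groth.Agent.Lib.Helper22.CplLocGlob

variable (A : Type u) [CommRing A] [IsNoetherianRing A] (I : Ideal A)
  (n : Ideal (AdicCompletion I A)) [hn : n.IsMaximal]

theorem I_map_le : I.map (algebraMap A (AdicCompletion I A)) ≤ n := by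
  have hfg : I.FG := IsNoetherian.noetherian I
  have hcomp := AdicCompletion.isAdicComplete_self I hfg
  exact (IsAdicComplete.le_jacobson_bot _).trans (sInf_le ⟨bot_le, hn⟩)

omit [IsNoetherianRing A] in
theorem exists_sub_mem (hfg : I.FG) (y : AdicCompletion I A) :
    ∃ a : A, y - algebraMap A (AdicCompletion I A) a ∈ I.map (algebraMap A (AdicCompletion I A)) := by
  obtain ⟨a, ha⟩ := Ideal.Quotient.mk_surjective (AdicCompletion.evalOneₐ I y)
  refine ⟨a, ?_⟩
  rw [← AdicCompletion.ker_evalOneₐ_eq_map I hfg, RingHom.mem_ker]
  simp only [AlgHom.toRingHom_eq_coe, RingHom.coe_coe, map_sub, AlgHom.commutes]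
  rw [sub_eq_zero, ← ha]
  rfl

theorem comap_isMaximal : (n.comap (algebraMap A (AdicCompletion I A))).IsMaximal := by
  letI : Field (AdicCompletion I A ⧸ n) := Ideal.Quotient.field n
  let f : A →+* AdicCompletion I A ⧸ n := (Ideal.Quotient.mk n).comp (algebraMap A _)
  have hf : Function.Surjective f := by
    intro z
    obtain ⟨y, rfl⟩ := Ideal.Quotient.mk_surjective z
    obtain ⟨a, ha⟩ := exists_sub_mem A I (IsNoetherian.noetherian I) y
    refine ⟨a, ?_⟩
    change Ideal.Quotient.mk n (algebraMap A _ a) = Ideal.Quotient.mk n y
    rw [Ideal.Quotient.eq]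
    have := n.neg_mem (I_map_le A I n ha)
    rwa [neg_sub] at this
  have hker : RingHom.ker f = n.comap (algebraMap A (AdicCompletion I A)) := by
    ext a
    rw [RingHom.mem_ker, Ideal.mem_comap]
    change Ideal.Quotient.mk n (algebraMap A _ a) = 0 ↔ _
    rw [Ideal.Quotient.eq_zero_iff_mem]
  rw [← hker]
  exact RingHom.ker_isMaximal_of_surjective f hf

section Local

variable (m : Ideal A) [m.IsPrime] [hover : n.LiesOver m]

theorem map_maximalIdeal_eq :
    letI := Localization.AtPrime.algebraOfLiesOver m n
    (maximalIdeal (Localization.AtPrime m)).map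
      (algebraMap (Localization.AtPrime m) (Localization.AtPrime n)) =
      maximalIdeal (Localization.AtPrime n) := by
  letI := Localization.AtPrime.algebraOfLiesOver m n
  have hmn : m = n.comap (algebraMap A (AdicCompletion I A)) := hover.over
  have hmap : m.map (algebraMap A (AdicCompletion I A)) = n := by
    rw [hmn]
    exact Groth.Agent.Lib.Helper5.RegCompletion.map_comap_eq_of_isMaximal A I n
  rw [← Localization.AtPrime.map_eq_maximalIdeal, ← Localization.AtPrime.map_eq_maximalIdeal,
    Ideal.map_map, ← IsScalarTower.algebraMap_eq,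
    IsScalarTower.algebraMap_eq A (AdicCompletion I A) (Localization.AtPrime n), ← Ideal.map_map,
    hmap]

theorem isLocalHom_local :
    letI := Localization.AtPrime.algebraOfLiesOver m n
    IsLocalHom (algebraMap (Localization.AtPrime m) (Localization.AtPrime n)) := by
  letI := Localization.AtPrime.algebraOfLiesOver m n
  rw [RingHom.algebraMap_toAlgebra]
  exact Localization.isLocalHom_localRingHom m n (algebraMap A (AdicCompletion I A))
    Ideal.LiesOver.over

theorem residueField_map_surjective :
    letI := Localization.AtPrime.algebraOfLiesOver m n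
    haveI := isLocalHom_local A I n m
    Function.Surjective (IsLocalRing.ResidueField.map
      (algebraMap (Localization.AtPrime m) (Localization.AtPrime n))) := by
  letI := Localization.AtPrime.algebraOfLiesOver m n
  haveI := isLocalHom_local A I n m
  intro z
  obtain ⟨y, rfl⟩ := Ideal.algebraMap_residueField_surjective n z
  obtain ⟨a, ha⟩ := exists_sub_mem A I (IsNoetherian.noetherian I) y
  have hmem : y - algebraMap A (AdicCompletion I A) a ∈ n := I_map_le A I n ha
  have h0 : algebraMap (AdicCompletion I A) n.ResidueField
      (y - algebraMap A (AdicCompletion I A) a) = 0 :=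
    (Ideal.algebraMap_residueField_eq_zero).mpr hmem
  rw [map_sub, sub_eq_zero] at h0
  refine ⟨IsLocalRing.residue _ (algebraMap A (Localization.AtPrime m) a), ?_⟩
  rw [IsLocalRing.ResidueField.map_residue, h0,
    ← IsScalarTower.algebraMap_apply A (Localization.AtPrime m) (Localization.AtPrime n),
    IsScalarTower.algebraMap_apply A (AdicCompletion I A) (Localization.AtPrime n)]
  rfl

end Local

end Groth.Agent.Lib.Helper22.CplLocGlob
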