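import Mathlib
import Groth.Prelude.Def_EGA4b
import Groth.Agent.S10862
import Groth.Agent.Lib.Helper22.NormalColim

set_option autoImplicit false
universe u
open TensorProduct

noncomputable section

namespace Groth.Agent.Lib.Helper22.NormApprox

open IntermediateField IntermediateField.algebraAdjoinAdjoin

variable (k B : Type u) [Field k] [CommRing B] [IsDomain B] [Algebra k B]

open Classical in
/-- generators in the fraction field -/
def gens (s : Finset B) : Finset (FractionRing B) := s.image (algebraMap B (FractionRing B))

/-- the f.g. subalgebra of the fraction field -/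
abbrev D (s : Finset B) : Subalgebra k (FractionRing B) := Algebra.adjoin k (gens B s : Set (FractionRing B))

/-- the f.g. subfield -/
abbrev F (s : Finset B) : IntermediateField k (FractionRing B) :=
  IntermediateField.adjoin k (gens B s : Set (FractionRing B))

/-- the stage: integral closure of `D s` in its fraction field `F s` -/
abbrev E (s : Finset B) : Subalgebra (D k B s) (F k B s) := integralClosure (D k B s) (F k B s)

instance (s : Finset B) : Algebra.FiniteType k (D k B s) := by
  rw [← Subalgebra.fg_iff_finiteType]
  exact Subalgebra.fg_adjoin_finset _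

instance (s : Finset B) : Module.Finite (D k B s) (E k B s) :=
  Groth.Agent.S10862.result k (D k B s) (F k B s) (F k B s)

instance (s : Finset B) : Algebra.FiniteType k (E k B s) := by
  haveI h1 : Module.Finite (D k B s) (E k B s) := inferInstance
  haveI h2 : Algebra.FiniteType (D k B s) (E k B s) := Module.Finite.finiteType _
  exact Algebra.FiniteType.trans (S := D k B s) inferInstance h2

instance (s : Finset B) : IsIntegrallyClosed (E k B s) :=
  integralClosure.isIntegrallyClosedOfFiniteExtension (F k B s)

omit [IsDomain B] in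
theorem isIntegral_of_le {R L : Type*} [CommRing R] [CommRing L] [Algebra R L]
    {D₁ D₂ : Subalgebra R L} (h : D₁ ≤ D₂) {x : L} (hx : IsIntegral D₁ x) : IsIntegral D₂ x := by
  letI : Algebra D₁ D₂ := (Subalgebra.inclusion h).toAlgebra
  haveI : IsScalarTower D₁ D₂ L := IsScalarTower.of_algebraMap_eq (fun _ => rfl)
  exact hx.tower_top

/-- the image of `B` in its fraction field, as a `k`-subalgebra -/
abbrev B' : Subalgebra k (FractionRing B) := (IsScalarTower.toAlgHom k B (FractionRing B)).range

/-- `B ≃ B'` -/
def eB : B ≃ₐ[k] B' k B :=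
  AlgEquiv.ofInjective (IsScalarTower.toAlgHom k B (FractionRing B))
    (IsFractionRing.injective B (FractionRing B))

theorem coe_eB (b : B) : ((eB k B b : B' k B) : FractionRing B) = algebraMap B (FractionRing B) b :=
  rfl

theorem isIntegral_of_range (x : FractionRing B) (hx : IsIntegral (B' k B) x) : IsIntegral B x := by
  obtain ⟨p, hp, hpx⟩ := hx
  have hcomp : (algebraMap B (FractionRing B)).comp (eB k B).symm.toRingEquiv.toRingHom =
      algebraMap (B' k B) (FractionRing B) := by
    ext y
    obtain ⟨b, rfl⟩ := (eB k B).surjective y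
    change algebraMap B (FractionRing B) ((eB k B).symm (eB k B b)) = _
    rw [AlgEquiv.symm_apply_apply]
    rfl
  refine ⟨p.map (eB k B).symm.toRingEquiv.toRingHom, hp.map _, ?_⟩
  rw [Polynomial.eval₂_map, hcomp]
  exact hpx

theorem D_le_B' (s : Finset B) : D k B s ≤ B' k B := by
  classical
  apply Algebra.adjoin_le
  intro x hx
  simp only [gens, Finset.coe_image, Set.mem_image, Finset.mem_coe] at hx
  obtain ⟨b, _, rfl⟩ := hx
  exact ⟨b, rfl⟩

variable [IsIntegrallyClosed B]

/-- `E s → L` -/
def psi (s : Finset B) : E k B s →ₐ[k] FractionRing B :=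
  (F k B s).val.comp ((E k B s).val.restrictScalars k)

theorem psi_apply (s : Finset B) (e : E k B s) : psi k B s e = ((e : F k B s) : FractionRing B) := rfl

theorem isIntegral_D_psi (s : Finset B) (e : E k B s) : IsIntegral (D k B s) (psi k B s e) := by
  have h : IsIntegral (D k B s) (e : F k B s) := e.2
  exact h.map (IsScalarTower.toAlgHom (D k B s) (F k B s) (FractionRing B))

theorem psi_mem (s : Finset B) (e : E k B s) : psi k B s e ∈ B' k B := by
  have h1 : IsIntegral (B' k B) (psi k B s e) := isIntegral_of_le (D_le_B' k B s) (isIntegral_D_psi k B s e)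
  have h2 : IsIntegral B (psi k B s e) := isIntegral_of_range k B _ h1
  obtain ⟨b, hb⟩ := (isIntegrallyClosed_iff (FractionRing B)).mp inferInstance h2
  exact ⟨b, hb⟩

/-- the stage map `E s → B` -/
def iota (s : Finset B) : E k B s →ₐ[k] B :=
  ((eB k B).symm : B' k B →ₐ[k] B).comp ((psi k B s).codRestrict (B' k B) (psi_mem k B s))

theorem algebraMap_iota (s : Finset B) (e : E k B s) :
    algebraMap B (FractionRing B) (iota k B s e) = psi k B s e := by
  have : eB k B (iota k B s e) = (psi k B s).codRestrict (B' k B) (psi_mem k B s) e := by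
    simp [iota]
  rw [← coe_eB k B, this]
  rfl

theorem iota_injective (s : Finset B) : Function.Injective (iota k B s) := by
  intro e1 e2 h
  have h1 := congrArg (algebraMap B (FractionRing B)) h
  rw [algebraMap_iota, algebraMap_iota, psi_apply, psi_apply] at h1
  exact Subtype.ext (Subtype.ext h1)

/-- characterization of the range of the stage map -/
theorem mem_range_iota_iff (s : Finset B) (b : B) :
    b ∈ Set.range (iota k B s) ↔ algebraMap B (FractionRing B) b ∈ F k B s ∧
      IsIntegral (D k B s) (algebraMap B (FractionRing B) b) := by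
  constructor
  · rintro ⟨e, rfl⟩
    rw [algebraMap_iota]
    exact ⟨(e : F k B s).2, isIntegral_D_psi k B s e⟩
  · rintro ⟨h1, h2⟩
    have h3 : IsIntegral (D k B s) (⟨_, h1⟩ : F k B s) :=
      (isIntegral_algHom_iff (IsScalarTower.toAlgHom (D k B s) (F k B s) (FractionRing B))
        Subtype.val_injective).mp h2
    refine ⟨⟨⟨_, h1⟩, h3⟩, ?_⟩
    apply IsFractionRing.injective B (FractionRing B)
    rw [algebraMap_iota]
    rfl

theorem range_iota_mono {s t : Finset B} (h : s ⊆ t) :
    Set.range (iota k B s) ⊆ Set.range (iota k B t) := by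
  classical
  intro b hb
  rw [mem_range_iota_iff] at hb ⊢
  have hg : (gens B s : Set (FractionRing B)) ⊆ gens B t := by
    simp only [gens, Finset.coe_image]
    exact Set.image_mono (Finset.coe_subset.mpr h)
  exact ⟨IntermediateField.adjoin.mono k _ _ hg hb.1,
    isIntegral_of_le (Algebra.adjoin_mono hg) hb.2⟩

theorem mem_range_iota_singleton (b : B) : b ∈ Set.range (iota k B {b}) := by
  classical
  rw [mem_range_iota_iff]
  have hb : algebraMap B (FractionRing B) b ∈ (gens B {b} : Set (FractionRing B)) := by
    simp [gens]
  refine ⟨IntermediateField.subset_adjoin k _ hb, ?_⟩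
  have : algebraMap B (FractionRing B) b =
      algebraMap (D k B {b}) (FractionRing B) ⟨_, Algebra.subset_adjoin hb⟩ := rfl
  rw [this]
  exact isIntegral_algebraMap

/-- the stage type, with cached instances -/
def St (s : Finset B) : Type u := ↥(E k B s)

instance (s : Finset B) : CommRing (St k B s) := inferInstanceAs (CommRing ↥(E k B s))
instance (s : Finset B) : Algebra k (St k B s) := inferInstanceAs (Algebra k ↥(E k B s))
instance (s : Finset B) : IsDomain (St k B s) := inferInstanceAs (IsDomain ↥(E k B s))
instance (s : Finset B) : IsIntegrallyClosed (St k B s) :=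
  inferInstanceAs (IsIntegrallyClosed ↥(E k B s))
instance (s : Finset B) : Algebra.FiniteType k (St k B s) :=
  inferInstanceAs (Algebra.FiniteType k ↥(E k B s))

/-- the stage map `St s → B` -/
def iotaSt (s : Finset B) : St k B s →ₐ[k] B := iota k B s

theorem iotaSt_injective (s : Finset B) : Function.Injective (iotaSt k B s) := iota_injective k B s

theorem range_iotaSt_mono {s t : Finset B} (h : s ⊆ t) :
    Set.range (iotaSt k B s) ⊆ Set.range (iotaSt k B t) := range_iota_mono k B h

theorem mem_range_iotaSt_singleton (b : B) : b ∈ Set.range (iotaSt k B {b}) :=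
  mem_range_iota_singleton k B b

section colim

variable (A : Type u) [CommRing A] [Algebra k A]

/-- the stage map on tensor products -/
def stageMap (s : Finset B) : A ⊗[k] St k B s →+* A ⊗[k] B :=
  (Algebra.TensorProduct.map (AlgHom.id k A) (iotaSt k B s)).toRingHom

theorem stageMap_tmul (s : Finset B) (a : A) (e : St k B s) :
    stageMap k B A s (a ⊗ₜ e) = a ⊗ₜ iotaSt k B s e := rfl

theorem stageMap_injective (s : Finset B) : Function.Injective (stageMap k B A s) :=
  Module.Flat.lTensor_preserves_injective_linearMap (M := A) (iotaSt k B s).toLinearMap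
    (iotaSt_injective k B s)

theorem range_stageMap_mono {s t : Finset B} (h : s ⊆ t) :
    Set.range (stageMap k B A s) ⊆ Set.range (stageMap k B A t) := by
  rintro _ ⟨x, rfl⟩
  induction x using TensorProduct.induction_on with
  | zero => exact ⟨0, by simp⟩
  | tmul a e =>
    obtain ⟨e', he'⟩ := range_iotaSt_mono k B h ⟨e, rfl⟩
    exact ⟨a ⊗ₜ e', by rw [stageMap_tmul, stageMap_tmul, he']⟩
  | add z w hz hw =>
    obtain ⟨z', hz'⟩ := hz
    obtain ⟨w', hw'⟩ := hw
    exact ⟨z' + w', by rw [map_add, map_add, hz', hw']⟩

theorem exists_mem_range_stageMap (x : A ⊗[k] B) :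
    ∃ s : Finset B, x ∈ Set.range (stageMap k B A s) := by
  classical
  induction x using TensorProduct.induction_on with
  | zero => exact ⟨∅, 0, map_zero _⟩
  | tmul a b =>
    obtain ⟨e, he⟩ := mem_range_iotaSt_singleton k B b
    exact ⟨{b}, a ⊗ₜ e, by rw [stageMap_tmul, he]⟩
  | add z w hz hw =>
    obtain ⟨S, z', hz'⟩ := hz
    obtain ⟨T, w', hw'⟩ := hw
    obtain ⟨z'', hz''⟩ := range_stageMap_mono k B A (Finset.subset_union_left (s₂ := T)) ⟨z', hz'⟩
    obtain ⟨w'', hw''⟩ := range_stageMap_mono k B A (Finset.subset_union_right (s₁ := S)) ⟨w', hw'⟩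
    exact ⟨S ∪ T, z'' + w'', by rw [map_add, hz'', hw'']⟩

open Groth.Agent.Lib.Helper22.NormalColim in
theorem isColim_tensor :
    IsColim (A ⊗[k] B) (fun s : Finset B => A ⊗[k] St k B s) (stageMap k B A) where
  fin := by
    classical
    intro s
    induction s using Finset.induction_on with
    | empty => exact ⟨∅, by simp⟩
    | insert x s _ ih =>
      obtain ⟨S, hS⟩ := ih
      obtain ⟨T, hT⟩ := exists_mem_range_stageMap k B A x
      refine ⟨S ∪ T, ?_⟩
      intro z hz
      rw [Finset.coe_insert, Set.mem_insert_iff] at hz
      rcases hz with rfl | hz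
      · exact range_stageMap_mono k B A Finset.subset_union_right hT
      · exact range_stageMap_mono k B A Finset.subset_union_left (hS hz)
  ker := by
    intro S x hx
    refine ⟨S, RingHom.id _, rfl, ?_⟩
    exact stageMap_injective k B A S (by rw [RingHom.id_apply, hx, map_zero])

end colim

end Groth.Agent.Lib.Helper22.NormApprox
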