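import Mathlib
import Groth.Prelude.Def_EGA4b
import Groth.Agent.Lib.helper10.NormalTotal2
import Groth.Agent.Lib.Helper9.NormalLoc

set_option autoImplicit false
universe u
open TensorProduct

namespace Groth.Agent.Lib.Helper22.NormTensor

open Groth.Agent.Lib.helper10.NormalTotal

/-- Lemma LocInt: an element of the total ring of fractions integral over `R` can be written with a
denominator in `M`, if the localization at `M` (nonzerodivisors) is a normal ring. -/
theorem exists_mul_eq_of_isIntegral {R : Type u} [CommRing R] (M : Submonoid R)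
    (hM : M ≤ nonZeroDivisors R) (R' : Type u) [CommRing R'] [Algebra R R'] [IsLocalization M R']
    (hR' : EGA4.IsNormalRing R') (x : FractionRing R) (hx : IsIntegral R x) :
    ∃ r : R, ∃ m ∈ M, algebraMap R (FractionRing R) m * x = algebraMap R (FractionRing R) r := by
  have hunits : ∀ y : M, IsUnit (algebraMap R (FractionRing R) y) := fun y =>
    IsLocalization.map_units (FractionRing R) (⟨y.1, hM y.2⟩ : nonZeroDivisors R)
  letI : Algebra R' (FractionRing R) := (IsLocalization.lift (M := M) hunits).toAlgebra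
  haveI : IsScalarTower R R' (FractionRing R) :=
    IsScalarTower.of_algebraMap_eq' (IsLocalization.lift_comp hunits).symm
  haveI : IsFractionRing R' (FractionRing R) :=
    IsFractionRing.isFractionRing_of_isLocalization M R' (FractionRing R) hM
  obtain ⟨y, hy⟩ := forwardL (nonZeroDivisors R') le_rfl (FractionRing R) hR' x hx.tower_top
  obtain ⟨r, m, rfl⟩ := IsLocalization.exists_mk'_eq M y
  refine ⟨r, m.1, m.2, ?_⟩
  rw [← hy, IsScalarTower.algebraMap_apply R R' (FractionRing R),
    IsScalarTower.algebraMap_apply R R' (FractionRing R) r, ← map_mul, mul_comm,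
    IsLocalization.mk'_spec]

theorem le_nonZeroDivisors_of_injective {R R' : Type*} [CommRing R] [CommRing R'] [Algebra R R']
    (M : Submonoid R) [IsLocalization M R'] (hinj : Function.Injective (algebraMap R R')) :
    M ≤ nonZeroDivisors R := by
  intro m hm
  rw [mem_nonZeroDivisors_iff_right]
  intro r hr
  apply hinj
  have h1 : algebraMap R R' r * algebraMap R R' m = 0 := by rw [← map_mul, hr, map_zero]
  rw [map_zero]
  exact (IsLocalization.map_units R' (⟨m, hm⟩ : M)).mul_left_eq_zero.mp h1

section core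

variable (k : Type u) [Field k] (A B : Type u) [CommRing A] [CommRing B] [IsDomain A] [IsDomain B]
  [Algebra k A] [Algebra k B]

omit [IsDomain A] in
/-- if `(1 ⊗ b) * r1 = (a ⊗ 1) * r2` with `b ≠ 0` then `r1` is divisible by `a ⊗ 1`. -/
theorem exists_eq_mul_of_mul_eq (a : A) (b : B) (hb : b ≠ 0) (r1 r2 : A ⊗[k] B)
    (h : ((1 : A) ⊗ₜ[k] b) * r1 = (a ⊗ₜ[k] (1 : B)) * r2) : ∃ r, r1 = (a ⊗ₜ[k] (1 : B)) * r := by
  let I : Ideal A := Ideal.span {a}
  let π : A →ₐ[k] A ⧸ I := Ideal.Quotient.mkₐ k I
  let φ : A ⊗[k] B →ₐ[k] (A ⧸ I) ⊗[k] B := Algebra.TensorProduct.map π (AlgHom.id k B)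
  have hπa : π a = 0 := Ideal.Quotient.eq_zero_iff_mem.mpr (Ideal.mem_span_singleton_self a)
  have h0 : φ (((1 : A) ⊗ₜ[k] b) * r1) = 0 := by
    rw [h, map_mul]
    have : φ (a ⊗ₜ[k] (1 : B)) = 0 := by
      change (π a) ⊗ₜ[k] (1 : B) = 0
      rw [hπa, zero_tmul]
    rw [this, zero_mul]
  rw [map_mul] at h0
  have hφb : φ ((1 : A) ⊗ₜ[k] b) = (1 : A ⧸ I) ⊗ₜ[k] b := by
    change (π 1) ⊗ₜ[k] b = _
    rw [map_one]
  rw [hφb] at h0
  -- multiplication by `1 ⊗ b` is injective
  have hmul : ∀ z : (A ⧸ I) ⊗[k] B, ((1 : A ⧸ I) ⊗ₜ[k] b) * z =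
      LinearMap.lTensor (A ⧸ I) (LinearMap.mulLeft k b) z := by
    intro z
    induction z using TensorProduct.induction_on with
    | zero => simp
    | tmul x y => simp [Algebra.TensorProduct.tmul_mul_tmul]
    | add x y hx hy => rw [mul_add, hx, hy, map_add]
  have hinj : Function.Injective (LinearMap.lTensor (A ⧸ I) (LinearMap.mulLeft k b)) :=
    Module.Flat.lTensor_preserves_injective_linearMap (M := A ⧸ I) (LinearMap.mulLeft k b)
      (mul_right_injective₀ hb)
  have hφr1 : φ r1 = 0 := by
    apply hinj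
    rw [← hmul, h0, map_zero]
  have hker : r1 ∈ RingHom.ker φ := hφr1
  have hk := Algebra.TensorProduct.rTensor_ker (R := k) (S := k) (C := B) π
    (Ideal.Quotient.mkₐ_surjective k I)
  have hkerπ : RingHom.ker π = I := Ideal.Quotient.mkₐ_ker k I
  rw [show RingHom.ker φ = RingHom.ker (Algebra.TensorProduct.map π (AlgHom.id k B)) from rfl,
    hk, hkerπ, Ideal.map_span, Set.image_singleton] at hker
  obtain ⟨r, hr⟩ := Ideal.mem_span_singleton'.mp hker
  exact ⟨r, by rw [← hr, mul_comm]; rfl⟩

theorem isNormalRing_tensor_core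
    (h1 : EGA4.IsNormalRing (FractionRing A ⊗[k] B)) (h2 : EGA4.IsNormalRing (A ⊗[k] FractionRing B))
    (hfin : (minimalPrimes (FractionRing A ⊗[k] B)).Finite) : EGA4.IsNormalRing (A ⊗[k] B) := by
  let K := FractionRing A
  let L := FractionRing B
  let R := A ⊗[k] B
  let R1 := K ⊗[k] B
  let R2 := A ⊗[k] L
  -- first localization
  let i1 : R →ₐ[A] R1 := Algebra.TensorProduct.map (IsScalarTower.toAlgHom A A K) (AlgHom.id k B)
  letI alg1 : Algebra R R1 := i1.toRingHom.toAlgebra
  haveI : IsScalarTower A R R1 := IsScalarTower.of_algebraMap_eq (fun s => (i1.commutes s).symm)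
  have H1 : (algebraMap R R1).comp Algebra.TensorProduct.includeRight.toRingHom =
      Algebra.TensorProduct.includeRight.toRingHom := by
    ext x
    simp only [RingHom.coe_comp, Function.comp_apply, AlgHom.toRingHom_eq_coe, RingHom.coe_coe,
      Algebra.TensorProduct.includeRight_apply, RingHom.algebraMap_toAlgebra]
    erw [Algebra.TensorProduct.map_tmul]
    rw [map_one]
    rfl
  haveI hloc1 : IsLocalization (Algebra.algebraMapSubmonoid R (nonZeroDivisors A)) R1 :=
    IsLocalization.tensorProduct_tensorProduct k B (nonZeroDivisors A) K H1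
  have hinj1 : Function.Injective (algebraMap R R1) :=
    Module.Flat.rTensor_preserves_injective_linearMap (M := B)
      (IsScalarTower.toAlgHom k A K).toLinearMap (IsFractionRing.injective A K)
  have hM1 := le_nonZeroDivisors_of_injective
    (Algebra.algebraMapSubmonoid R (nonZeroDivisors A)) hinj1
  -- second localization
  let i2 : R →ₐ[A] R2 := Algebra.TensorProduct.map (AlgHom.id A A) (IsScalarTower.toAlgHom k B L)
  letI alg2 : Algebra R R2 := i2.toRingHom.toAlgebra
  haveI : IsScalarTower A R R2 := IsScalarTower.of_algebraMap_eq (fun s => (i2.commutes s).symm)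
  have H2 : (algebraMap R R2).comp Algebra.TensorProduct.includeRight.toRingHom =
      Algebra.TensorProduct.includeRight.toRingHom.comp (algebraMap B L) := by
    ext x
    simp only [RingHom.coe_comp, Function.comp_apply, AlgHom.toRingHom_eq_coe, RingHom.coe_coe,
      Algebra.TensorProduct.includeRight_apply, RingHom.algebraMap_toAlgebra]
    erw [Algebra.TensorProduct.map_tmul]
    rfl
  haveI hloc2 : IsLocalization ((nonZeroDivisors B).map
      (Algebra.TensorProduct.includeRight (R := k) (A := A))) R2 :=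
    IsLocalization.tensorProduct_tensorProduct_right k A (nonZeroDivisors B) L H2
  have hinj2 : Function.Injective (algebraMap R R2) :=
    Module.Flat.lTensor_preserves_injective_linearMap (M := A)
      (IsScalarTower.toAlgHom k B L).toLinearMap (IsFractionRing.injective B L)
  have hM2 := le_nonZeroDivisors_of_injective ((nonZeroDivisors B).map
      (Algebra.TensorProduct.includeRight (R := k) (A := A))) hinj2
  -- reducedness and finiteness of minimal primes
  haveI hred2 : IsReduced R2 := Groth.Agent.Lib.Helper9.NormalLoc.isReduced_of_isNormalRing h2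
  haveI hred : IsReduced R := isReduced_of_injective (algebraMap R R2) hinj2
  have hfinR : (minimalPrimes R).Finite := by
    have h := IsLocalization.minimalPrimes_comap
      (Algebra.algebraMapSubmonoid R (nonZeroDivisors A)) R1 (⊥ : Ideal R1)
    have hker : (⊥ : Ideal R1).comap (algebraMap R R1) = ⊥ := by
      rw [← RingHom.ker_eq_comap_bot]
      exact (RingHom.injective_iff_ker_eq_bot _).mp hinj1
    rw [hker] at h
    change (⊥ : Ideal R).minimalPrimes.Finite
    rw [h]
    exact Set.Finite.image _ hfin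
  -- integrally closed in the total ring of fractions
  have hic : IsIntegrallyClosedIn R (FractionRing R) := by
    rw [isIntegrallyClosedIn_iff]
    refine ⟨IsLocalization.injective _ le_rfl, ?_⟩
    intro x hx
    obtain ⟨r1, m1, hm1, e1⟩ := exists_mul_eq_of_isIntegral _ hM1 R1 h1 x hx
    obtain ⟨r2, m2, hm2, e2⟩ := exists_mul_eq_of_isIntegral _ hM2 R2 h2 x hx
    obtain ⟨a, ha, rfl⟩ := hm1
    obtain ⟨b, hb, rfl⟩ := hm2
    have hinjQ : Function.Injective (algebraMap R (FractionRing R)) :=
      IsLocalization.injective _ le_rfl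
    have hrel : ((1 : A) ⊗ₜ[k] b) * r1 = (a ⊗ₜ[k] (1 : B)) * r2 := by
      apply hinjQ
      rw [map_mul, map_mul, ← e1, ← e2]
      change algebraMap R (FractionRing R) ((1 : A) ⊗ₜ[k] b) *
        (algebraMap R (FractionRing R) (a ⊗ₜ[k] (1 : B)) * x) =
        algebraMap R (FractionRing R) (a ⊗ₜ[k] (1 : B)) *
        (algebraMap R (FractionRing R) ((1 : A) ⊗ₜ[k] b) * x)
      ring
    obtain ⟨r, hr⟩ := exists_eq_mul_of_mul_eq k A B a b (nonZeroDivisors.ne_zero hb) r1 r2 hrel
    refine ⟨r, ?_⟩
    have hu : IsUnit (algebraMap R (FractionRing R) (a ⊗ₜ[k] (1 : B))) :=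
      IsLocalization.map_units (FractionRing R)
        (⟨_, hM1 ⟨a, ha, rfl⟩⟩ : nonZeroDivisors R)
    apply hu.mul_left_cancel
    rw [← map_mul, ← hr]
    exact e1.symm
  intro P hP
  exact backward hfinR hic P

end core

end Groth.Agent.Lib.Helper22.NormTensor
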