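import Mathlib
import Groth.Agent.Lib.Helper22.GeomFG

/-!
# Finitely generated geometrically reduced field extensions are separably generated (helper22)

MacLane's criterion via Mathlib's `exists_isTranscendenceBasis_and_isSeparable_of_linearIndepOn_pow…`,
and the resulting ascent of a `GeomFG.Good` ring property along such extensions.
-/

set_option autoImplicit false
set_option linter.style.haveILetI false
universe u
noncomputable section
namespace Groth.Agent.Lib.Helper22.GeomRedSepGen

open TensorProduct IntermediateField

/-- In a geometrically reduced extension of characteristic `p`, `p`-th powers of `k`-linearly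
independent elements are `k`-linearly independent. -/
theorem linearIndepOn_pow_of_isGeometricallyReduced {k E : Type u} [Field k] [Field E]
    [Algebra k E] [Algebra.IsGeometricallyReduced k E] (p : ℕ) [hp : Fact p.Prime] [CharP k p]
    (s : Finset E) (hs : LinearIndepOn k id (s : Set E)) :
    LinearIndepOn k (· ^ p) (s : Set E) := by
  classical
  rw [linearIndepOn_finset_iff]
  intro c hc i hi
  let Ω := AlgebraicClosure k
  have hroot : ∀ j : E, ∃ d : Ω, d ^ p = algebraMap k Ω (c j) :=
    fun j => IsAlgClosed.exists_pow_nat_eq _ hp.out.pos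
  choose d hd using hroot
  haveI hred : IsReduced (Ω ⊗[k] E) := inferInstance
  haveI hnt : Nontrivial (Ω ⊗[k] E) :=
    Algebra.TensorProduct.nontrivial_of_algebraMap_injective_of_flat_left (R := k) Ω E
      (algebraMap k E).injective
  haveI : CharP (Ω ⊗[k] E) p :=
    charP_of_injective_algebraMap (algebraMap k (Ω ⊗[k] E)).injective p
  haveI : ExpChar (Ω ⊗[k] E) p := ExpChar.prime hp.out
  set z : Ω ⊗[k] E := ∑ j : ↥(s : Set E), d j.1 ⊗ₜ[k] (j.1 : E) with hz
  have hz0 : z = 0 := by
    have hzp : z ^ p = 0 := by
      rw [hz, sum_pow_char p]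
      have : ∀ j : ↥(s : Set E), (d j.1 ⊗ₜ[k] (j.1 : E)) ^ p =
          (1 : Ω) ⊗ₜ[k] (c j.1 • (j.1 : E) ^ p) := by
        intro j
        rw [Algebra.TensorProduct.tmul_pow, hd j.1, Algebra.algebraMap_eq_smul_one,
          TensorProduct.smul_tmul]
      rw [Finset.sum_congr rfl (fun j _ => this j), ← TensorProduct.tmul_sum]
      have h2 : ∑ j : ↥(s : Set E), c j.1 • (j.1 : E) ^ p = ∑ j ∈ s, c j • j ^ p := by
        rw [← Finset.sum_coe_sort s (fun j => c j • j ^ p)]
        rfl
      rw [h2, hc, TensorProduct.tmul_zero]
    exact eq_zero_of_pow_eq_zero hzp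
  have hli : LinearIndependent Ω (fun j : ↥(s : Set E) => (1 : Ω) ⊗ₜ[k] (j.1 : E)) :=
    Module.Flat.linearIndependent_one_tmul (S := Ω) hs
  have hz' : ∑ j : ↥(s : Set E), d j.1 • ((1 : Ω) ⊗ₜ[k] (j.1 : E)) = 0 := by
    rw [← hz0, hz]
    refine Finset.sum_congr rfl fun j _ => ?_
    rw [TensorProduct.smul_tmul', smul_eq_mul, mul_one]
  have h0 := Fintype.linearIndependent_iff.mp hli (fun j => d j.1) hz' ⟨i, hi⟩
  have h1 := hd i
  simp only at h0
  rw [h0, zero_pow hp.out.ne_zero] at h1
  exact ((map_eq_zero_iff _ (algebraMap k Ω).injective).mp h1.symm)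

/-- MacLane: a finitely generated geometrically reduced field extension has a separating
transcendence basis. -/
theorem exists_separating_transcendenceBasis (k E : Type u) [Field k] [Field E] [Algebra k E]
    [Algebra.EssFiniteType k E] [Algebra.IsGeometricallyReduced k E] :
    ∃ s : Finset E, IsTranscendenceBasis k ((↑) : s → E) ∧
      Algebra.IsSeparable (IntermediateField.adjoin k (s : Set E)) E := by
  obtain _ | ⟨p, hp, hpk⟩ := CharP.exists' k
  · exact exists_isTranscendenceBasis_and_isSeparable_of_perfectField k E
  · haveI : ExpChar k p := .prime hp.out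
    exact exists_isTranscendenceBasis_and_isSeparable_of_linearIndepOn_pow_of_essFiniteType
      p hp.out (fun s hs => linearIndepOn_pow_of_isGeometricallyReduced p s hs)


open Groth.Agent.Lib.Helper22.GeomFG in
/-- A `Good` ring property ascends along finitely generated geometrically reduced field
extensions of the base field. -/
theorem tensor_of_geomReduced_fg {P : ∀ (R : Type u) [CommRing R], Prop} (hP : Good P)
    (k E T : Type u) [Field k] [Field E] [Algebra k E] [Algebra.EssFiniteType k E]
    [Algebra.IsGeometricallyReduced k E] [CommRing T] [Algebra k T] (hT : P T) :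
    P (E ⊗[k] T) := by
  obtain ⟨s, hs, hsep⟩ := exists_separating_transcendenceBasis k E
  let x : ↥s → E := (↑)
  have hx : AlgebraicIndependent k x := hs.1
  let M : IntermediateField k E := IntermediateField.adjoin k (Set.range x)
  let e : FractionRing (MvPolynomial ↥s k) ≃ₐ[k] M := hx.aevalEquivField
  haveI hsepM : Algebra.IsSeparable M E := by
    have : ∀ T : Set E, T = (s : Set E) →
        Algebra.IsSeparable (IntermediateField.adjoin k T) E := by
      rintro T rfl
      exact hsep
    exact this _ Subtype.range_coe
  haveI : Algebra.EssFiniteType M E := Algebra.EssFiniteType.of_comp k M E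
  haveI : Algebra.IsAlgebraic M E := Algebra.IsSeparable.isAlgebraic M E
  haveI : Module.Finite M E := Algebra.finite_of_essFiniteType_of_isAlgebraic
  exact tensor_of_sepGen hP k M E T ↥s hT e

end Groth.Agent.Lib.Helper22.GeomRedSepGen
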