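import Mathlib
import Groth.Agent.Lib.Helper22.NormalGood
import Groth.Agent.S2690

/-!
# Normality of local rings of `S ⊗_k k'` versus local rings of `S` (helper22)

EGA IV 6.7.4-type statement for "normal" in affine pointwise form, without Noetherian hypotheses:
`normal_baseChange_field_aux`.
-/

set_option autoImplicit false
set_option linter.style.haveILetI false
universe u
noncomputable section
namespace Groth.Agent.Lib.Helper22.NormalLocal

open TensorProduct Groth.Agent.Lib.Helper22.NormalGood

/-- The local ring of a localization `R'` of `R` at the prime generated by a prime `P` of `R`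
disjoint from the multiplicative set is the local ring of `R` at `P`. -/
theorem exists_ringEquiv_localization_map {R R' : Type u} [CommRing R] [CommRing R'] [Algebra R R']
    (M : Submonoid R) [IsLocalization M R'] (P : Ideal R) [hP : P.IsPrime]
    (hd : Disjoint (M : Set R) ↑P) :
    ∃ (_ : (P.map (algebraMap R R')).IsPrime),
      Nonempty (Localization.AtPrime (P.map (algebraMap R R')) ≃+* Localization.AtPrime P) := by
  have hP' : (P.map (algebraMap R R')).IsPrime := IsLocalization.isPrime_of_isPrime_disjoint M R' P hP hd
  refine ⟨hP', ?_⟩
  have hcomap : (P.map (algebraMap R R')).comap (algebraMap R R') = P :=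
    IsLocalization.under_map_of_isPrime_disjoint M R' hP hd
  haveI h1 : IsLocalization.AtPrime (Localization.AtPrime (P.map (algebraMap R R')))
      ((P.map (algebraMap R R')).comap (algebraMap R R')) :=
    IsLocalization.isLocalization_isLocalization_atPrime_isLocalization M
      (Localization.AtPrime (P.map (algebraMap R R'))) (P.map (algebraMap R R'))
  have h2 : ∀ Q : Ideal R, ∀ hQ : Q.IsPrime, Q = P →
      @IsLocalization.AtPrime _ _ (Localization.AtPrime (P.map (algebraMap R R'))) _ _ Q hQ →
      Nonempty (Localization.AtPrime (P.map (algebraMap R R')) ≃+* Localization.AtPrime P) := by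
    rintro Q hQ rfl h
    exact ⟨(IsLocalization.algEquiv Q.primeCompl
      (Localization.AtPrime (Q.map (algebraMap R R'))) (Localization.AtPrime Q)).toRingEquiv⟩
  exact h2 _ _ hcomap h1

/-- An integrally closed domain is a normal ring. -/
theorem isNormalRing_of_QN {R : Type u} [CommRing R] (h : QN R) : EGA4.IsNormalRing R := by
  obtain ⟨h1, h2⟩ := h
  intro p hp
  have hle : p.primeCompl ≤ nonZeroDivisors R := Ideal.primeCompl_le_nonZeroDivisors p
  exact ⟨IsLocalization.isDomain_localization hle,
    isIntegrallyClosed_of_isLocalization (Localization.AtPrime p) p.primeCompl hle⟩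

/-- A local normal ring is an integrally closed domain. -/
theorem QN_of_isNormalRing_of_isLocalRing {R : Type u} [CommRing R] [IsLocalRing R]
    (h : EGA4.IsNormalRing R) : QN R := by
  have h1 := h (IsLocalRing.maximalIdeal R)
  have hu : ∀ x ∈ (IsLocalRing.maximalIdeal R).primeCompl, IsUnit x := by
    intro x hx
    by_contra hnu
    exact hx ((IsLocalRing.mem_maximalIdeal x).mpr hnu)
  let e : R ≃ₐ[R] Localization.AtPrime (IsLocalRing.maximalIdeal R) :=
    IsLocalization.atUnits R (IsLocalRing.maximalIdeal R).primeCompl hu
  exact QN_iso _ _ e.symm.toRingEquiv h1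

/-- Descent of "integrally closed domain" along a flat local homomorphism of local rings. -/
theorem descend_QN {A C : Type u} [CommRing A] [CommRing C] [Algebra A C] [IsLocalRing A]
    [IsLocalRing C] [Module.Flat A C] [IsLocalHom (algebraMap A C)] (hC : QN C) : QN A :=
  QN_of_isNormalRing_of_isLocalRing
    (Groth.Agent.S1182.part2 A C Module.FaithfullyFlat.of_flat_of_isLocalHom (isNormalRing_of_QN hC))

theorem normal_baseChange_field_aux (k S k' : Type u) [Field k] [CommRing S] [Algebra k S]
    [Field k'] [Algebra k k'] (q' : Ideal (S ⊗[k] k')) [q'.IsPrime] :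
    (QN (Localization.AtPrime q') →
      QN (Localization.AtPrime (q'.comap (algebraMap S (S ⊗[k] k'))))) ∧
    (Algebra.IsGeometricallyReduced k k' →
      QN (Localization.AtPrime (q'.comap (algebraMap S (S ⊗[k] k')))) →
      QN (Localization.AtPrime q')) := by
  set q := q'.comap (algebraMap S (S ⊗[k] k')) with hq
  let A := Localization.AtPrime q
  let T := S ⊗[k] k'
  let T' := A ⊗[k] k'
  letI algTT' : Algebra T T' :=
    (Algebra.TensorProduct.map (IsScalarTower.toAlgHom k S A) (AlgHom.id k k')).toRingHom.toAlgebra
  haveI : IsScalarTower S T T' := IsScalarTower.of_algebraMap_eq (fun s => rfl)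
  have H : (algebraMap T T').comp Algebra.TensorProduct.includeRight.toRingHom =
      Algebra.TensorProduct.includeRight.toRingHom := by
    ext x
    simp only [RingHom.coe_comp, Function.comp_apply, AlgHom.toRingHom_eq_coe, RingHom.coe_coe,
      Algebra.TensorProduct.includeRight_apply, RingHom.algebraMap_toAlgebra]
    erw [Algebra.TensorProduct.map_tmul]
    rw [map_one]
    rfl
  haveI hloc : IsLocalization (Algebra.algebraMapSubmonoid T q.primeCompl) T' :=
    IsLocalization.tensorProduct_tensorProduct k k' q.primeCompl A H
  have hd : Disjoint ((Algebra.algebraMapSubmonoid T q.primeCompl : Submonoid T) : Set T) ↑q' := by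
    rw [Set.disjoint_left]
    rintro _ ⟨s, hs, rfl⟩ hmem
    exact hs hmem
  obtain ⟨hP', ⟨e⟩⟩ := exists_ringEquiv_localization_map (R := T) (R' := T')
    (Algebra.algebraMapSubmonoid T q.primeCompl) q' hd
  set q'' := q'.map (algebraMap T T') with hq''
  let C := Localization.AtPrime q''
  constructor
  · intro hB
    have hC : QN C := QN_iso _ _ e.symm hB
    have hCn : EGA4.IsNormalRing C := isNormalRing_of_QN hC
    haveI : Module.Flat A T' := inferInstance
    haveI : Module.Flat T' C := inferInstance
    haveI : @Module.Flat A C _ _ Algebra.toModule := Module.Flat.trans A T' C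
    haveI : IsLocalHom (algebraMap A C) := by
      refine ((IsLocalRing.local_hom_TFAE (algebraMap A C)).out 0 2).mpr ?_
      rw [← Localization.AtPrime.map_eq_maximalIdeal, Ideal.map_map, Ideal.map_le_iff_le_comap]
      intro s hs
      rw [Ideal.mem_comap]
      have h1 : ((algebraMap A C).comp (algebraMap S A)) s =
          algebraMap T' C (algebraMap T T' (algebraMap S T s)) := by
        rw [RingHom.comp_apply, IsScalarTower.algebraMap_apply A T' C]
        congr 1
      have hcm : Ideal.comap (algebraMap T' C) (IsLocalRing.maximalIdeal C) = q'' :=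
        Localization.AtPrime.under_maximalIdeal
      rw [h1, ← Ideal.mem_comap, hcm]
      exact Ideal.mem_map_of_mem _ hs
    exact descend_QN (A := A) (C := C) hC
  · intro hsep hA
    have hAn : EGA4.IsNormalRing A := isNormalRing_of_QN hA
    have h1 : EGA4.IsNormalRing (k' ⊗[k] A) := Groth.Agent.S2690.result k A k' hAn
    have h2 : EGA4.IsNormalRing T' :=
      good_normal.iso _ _ (Algebra.TensorProduct.comm k k' A).toRingEquiv h1
    have hC : QN C := h2 q''
    exact QN_iso _ _ e hC

end Groth.Agent.Lib.Helper22.NormalLocal
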