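import Mathlib
import Groth.Prelude.Def_EGA4b
import Groth.Agent.Lib.Helper22.NormTensor
import Groth.Agent.Lib.Helper22.NormFib2
import Groth.Agent.Lib.Helper22.NormRedFib
import Groth.Agent.Lib.Helper22.NormalLocal
import Groth.Agent.S2690

set_option autoImplicit false
universe u
open TensorProduct

namespace Groth.Agent.Lib.Helper22.NormTensor

open Groth.Agent.Lib.Helper22.NormalGood

/-- geometric normality passes to localizations -/
theorem isGeomNormal_of_isLocalization {k A : Type u} [Field k] [CommRing A] [Algebra k A]
    (hA : EGA4.IsGeomNormal k A) (M : Submonoid A) (K : Type u) [CommRing K] [Algebra A K]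
    [Algebra k K] [IsScalarTower k A K] [IsLocalization M K] : EGA4.IsGeomNormal k K := by
  intro k' _ _ hfin
  have h := hA k' hfin
  letI : Algebra (k' ⊗[k] A) (k' ⊗[k] K) :=
    (Algebra.TensorProduct.map (AlgHom.id k k') (IsScalarTower.toAlgHom k A K)).toRingHom.toAlgebra
  haveI : IsScalarTower k' (k' ⊗[k] A) (k' ⊗[k] K) := IsScalarTower.of_algebraMap_eq (fun s => by
    rw [RingHom.algebraMap_toAlgebra]
    simp [Algebra.TensorProduct.algebraMap_apply])
  have H : (algebraMap (k' ⊗[k] A) (k' ⊗[k] K)).comp
      Algebra.TensorProduct.includeRight.toRingHom =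
      Algebra.TensorProduct.includeRight.toRingHom.comp (algebraMap A K) := by
    ext x
    simp only [RingHom.coe_comp, Function.comp_apply, AlgHom.toRingHom_eq_coe, RingHom.coe_coe,
      Algebra.TensorProduct.includeRight_apply, RingHom.algebraMap_toAlgebra]
    erw [Algebra.TensorProduct.map_tmul]
    rfl
  haveI := IsLocalization.tensorProduct_tensorProduct_right k k' M K H
  exact good_normal.loc (k' ⊗[k] A)
    (M.map (Algebra.TensorProduct.includeRight (R := k) (A := k'))) (k' ⊗[k] K) h

/-- the domain case with `B` of finite type -/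
theorem isNormalRing_tensor_of_domains_finiteType (k A B : Type u) [Field k] [CommRing A]
    [CommRing B] [IsDomain A] [IsDomain B] [Algebra k A] [Algebra k B]
    (hA : EGA4.IsGeomNormal k A) [IsIntegrallyClosed B] [Algebra.FiniteType k B] :
    EGA4.IsNormalRing (A ⊗[k] B) := by
  have hB : EGA4.IsNormalRing B :=
    Groth.Agent.Lib.Helper22.NormalLocal.isNormalRing_of_QN ⟨inferInstance, inferInstance⟩
  apply isNormalRing_tensor_core k A B
  · have hK : EGA4.IsGeomNormal k (FractionRing A) :=
      isGeomNormal_of_isLocalization hA (nonZeroDivisors A) (FractionRing A)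
    haveI := Groth.Agent.Lib.Helper22.NormRedFib.isGeometricallyReduced_of_isGeomNormal hK
    exact Groth.Agent.S2690.result k B (FractionRing A) hB
  · have h := Groth.Agent.Lib.Helper22.NormFib2.isNormalRing_tensor_of_isGeomNormal hA
      (FractionRing B)
    exact good_normal.iso _ _ (Algebra.TensorProduct.comm k (FractionRing B) A).toRingEquiv h
  · haveI : IsNoetherianRing (FractionRing A ⊗[k] B) :=
      Algebra.FiniteType.isNoetherianRing (FractionRing A) _
    exact minimalPrimes.finite_of_isNoetherianRing _

end Groth.Agent.Lib.Helper22.NormTensor
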