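import Mathlib
import Groth.Prelude.Def_EGA4b
import Groth.Agent.Lib.Helper22.NormTensor2
import Groth.Agent.Lib.Helper22.NormApprox

set_option autoImplicit false
universe u
open TensorProduct

namespace Groth.Agent.Lib.Helper22.NormTensor

open Groth.Agent.Lib.Helper22.NormalGood Groth.Agent.Lib.Helper22.NormalLocal

/-- the domain case -/
theorem isNormalRing_tensor_of_domains (k A B : Type u) [Field k] [CommRing A]
    [CommRing B] [IsDomain A] [IsDomain B] [Algebra k A] [Algebra k B]
    (hA : EGA4.IsGeomNormal k A) [IsIntegrallyClosed B] :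
    EGA4.IsNormalRing (A ⊗[k] B) :=
  (Groth.Agent.Lib.Helper22.NormApprox.isColim_tensor k B A).isNormalRing
    (fun s => isNormalRing_tensor_of_domains_finiteType k A
      (Groth.Agent.Lib.Helper22.NormApprox.St k B s) hA)

/-- if a localization `R'` of `R` is normal, the local rings of `R` at primes disjoint from the
multiplicative set are integrally closed domains -/
theorem QN_atPrime_of_isLocalization {R R' : Type u} [CommRing R] [CommRing R'] [Algebra R R']
    (M : Submonoid R) [IsLocalization M R'] (h : EGA4.IsNormalRing R') (P : Ideal R) [P.IsPrime]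
    (hd : Disjoint (M : Set R) ↑P) : QN (Localization.AtPrime P) := by
  obtain ⟨hP', ⟨e⟩⟩ := exists_ringEquiv_localization_map (R := R) (R' := R') M P hd
  exact QN_iso _ _ e (h (P.map (algebraMap R R')))

/-- a geometrically normal algebra is a normal ring -/
theorem isNormalRing_of_isGeomNormal {k A : Type u} [Field k] [CommRing A] [Algebra k A]
    (hA : EGA4.IsGeomNormal k A) : EGA4.IsNormalRing A :=
  good_normal.iso _ _ (Algebra.TensorProduct.lid k A).toRingEquiv (hA k inferInstance)

/-- **Main theorem** (Stacks 06DF): tensor product of a geometrically normal algebra and a normal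
algebra over a field is normal. -/
theorem isNormalRing_tensor (k A B : Type u) [Field k] [CommRing A] [CommRing B] [Algebra k A]
    [Algebra k B] (hA : EGA4.IsGeomNormal k A) (hB : EGA4.IsNormalRing B) :
    EGA4.IsNormalRing (A ⊗[k] B) := by
  intro r hr
  let T := A ⊗[k] B
  let fA : A →+* T := (Algebra.TensorProduct.includeLeft : A →ₐ[k] T).toRingHom
  let fB : B →+* T := (Algebra.TensorProduct.includeRight : B →ₐ[k] T).toRingHom
  let p : Ideal A := r.comap fA
  let q : Ideal B := r.comap fB
  haveI : p.IsPrime := Ideal.IsPrime.comap fA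
  haveI : q.IsPrime := Ideal.IsPrime.comap fB
  let Ap := Localization.AtPrime p
  let Bq := Localization.AtPrime q
  obtain ⟨hAd, hAi⟩ := isNormalRing_of_isGeomNormal hA p
  obtain ⟨hBd, hBi⟩ := hB q
  have hAp : EGA4.IsGeomNormal k Ap := isGeomNormal_of_isLocalization hA p.primeCompl Ap
  have hT2 : EGA4.IsNormalRing (Ap ⊗[k] Bq) := isNormalRing_tensor_of_domains k Ap Bq hAp
  -- first localization
  let T1 := Ap ⊗[k] B
  let i1 : T →ₐ[A] T1 := Algebra.TensorProduct.map (IsScalarTower.toAlgHom A A Ap) (AlgHom.id k B)
  letI alg1 : Algebra T T1 := i1.toRingHom.toAlgebra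
  haveI : IsScalarTower A T T1 := IsScalarTower.of_algebraMap_eq (fun s => (i1.commutes s).symm)
  have H1 : (algebraMap T T1).comp Algebra.TensorProduct.includeRight.toRingHom =
      Algebra.TensorProduct.includeRight.toRingHom := by
    ext x
    simp only [RingHom.coe_comp, Function.comp_apply, AlgHom.toRingHom_eq_coe, RingHom.coe_coe,
      Algebra.TensorProduct.includeRight_apply, RingHom.algebraMap_toAlgebra]
    erw [Algebra.TensorProduct.map_tmul]
    rw [map_one]
    rfl
  haveI hloc1 : IsLocalization (Algebra.algebraMapSubmonoid T p.primeCompl) T1 :=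
    IsLocalization.tensorProduct_tensorProduct k B p.primeCompl Ap H1
  have hd1 : Disjoint ((Algebra.algebraMapSubmonoid T p.primeCompl : Submonoid T) : Set T) ↑r := by
    rw [Set.disjoint_left]
    rintro _ ⟨a, ha, rfl⟩ hmem
    exact ha hmem
  obtain ⟨hr1, ⟨e1⟩⟩ := exists_ringEquiv_localization_map (R := T) (R' := T1)
    (Algebra.algebraMapSubmonoid T p.primeCompl) r hd1
  -- second localization
  let T2 := Ap ⊗[k] Bq
  let i2 : T1 →ₐ[Ap] T2 := Algebra.TensorProduct.map (AlgHom.id Ap Ap) (IsScalarTower.toAlgHom k B Bq)
  letI alg2 : Algebra T1 T2 := i2.toRingHom.toAlgebra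
  haveI : IsScalarTower Ap T1 T2 := IsScalarTower.of_algebraMap_eq (fun s => (i2.commutes s).symm)
  have H2 : (algebraMap T1 T2).comp Algebra.TensorProduct.includeRight.toRingHom =
      Algebra.TensorProduct.includeRight.toRingHom.comp (algebraMap B Bq) := by
    ext x
    simp only [RingHom.coe_comp, Function.comp_apply, AlgHom.toRingHom_eq_coe, RingHom.coe_coe,
      Algebra.TensorProduct.includeRight_apply, RingHom.algebraMap_toAlgebra]
    erw [Algebra.TensorProduct.map_tmul]
    rfl
  haveI hloc2 : IsLocalization (q.primeCompl.map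
      (Algebra.TensorProduct.includeRight (R := k) (A := Ap))) T2 :=
    IsLocalization.tensorProduct_tensorProduct_right k Ap q.primeCompl Bq H2
  have hcomap : (r.map (algebraMap T T1)).comap (algebraMap T T1) = r :=
    IsLocalization.under_map_of_isPrime_disjoint (Algebra.algebraMapSubmonoid T p.primeCompl) T1 hr hd1
  have hd2 : Disjoint ((q.primeCompl.map
      (Algebra.TensorProduct.includeRight (R := k) (A := Ap)) : Submonoid T1) : Set T1)
      ↑(r.map (algebraMap T T1)) := by
    rw [Set.disjoint_left]
    rintro _ ⟨b, hb, rfl⟩ hmem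
    apply hb
    change fB b ∈ r
    rw [← hcomap, Ideal.mem_comap]
    have : algebraMap T T1 (fB b) = Algebra.TensorProduct.includeRight (R := k) (A := Ap) b :=
      RingHom.congr_fun H1 b
    rw [this]
    exact hmem
  have h3 : QN (Localization.AtPrime (r.map (algebraMap T T1))) :=
    QN_atPrime_of_isLocalization _ hT2 (r.map (algebraMap T T1)) hd2
  exact QN_iso _ _ e1 h3

end Groth.Agent.Lib.Helper22.NormTensor
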