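import Mathlib
import Groth.Agent.Lib.Helper22.NormTensor3
import Groth.Agent.Lib.Helper5.StalkBCE

/-!
# Geometric normality at a point (helper22)
-/

set_option autoImplicit false
set_option linter.style.haveILetI false
universe u
noncomputable section
namespace Groth.Agent.Lib.Helper22.SchNormalAt

open CategoryTheory CategoryTheory.Limits AlgebraicGeometry TopologicalSpace TensorProduct
open Groth.Agent.Lib.Helper22.NormalLocal Groth.Agent.Lib.Helper22.NormalGood
open Groth.Agent.Lib.Helper5.StalkBC

/-- a ring whose localizations at maximal ideals are normal domains is a normal ring -/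
theorem isNormalRing_of_forall_maximal {R : Type u} [CommRing R]
    (h : ∀ (m : Ideal R) [m.IsMaximal], QN (Localization.AtPrime m)) : EGA4.IsNormalRing R := by
  intro q hq
  obtain ⟨m, hm, hqm⟩ := Ideal.exists_le_maximal q hq.ne_top
  have hRm : EGA4.IsNormalRing (Localization.AtPrime m) := isNormalRing_of_QN (h m)
  refine Groth.Agent.Lib.Helper22.NormTensor.QN_atPrime_of_isLocalization m.primeCompl hRm q ?_
  rw [Set.disjoint_left]
  intro a ha haq
  exact ha (hqm haq)

/-- geometric normality tested on finite purely inseparable extensions gives normality of all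
field base changes -/
theorem isNormalRing_tensor_of_PI {k S : Type u} [Field k] [CommRing S] [Algebra k S]
    (h : ∀ (k' : Type u) [Field k'] [Algebra k k'], Module.Finite k k' →
      IsPurelyInseparable k k' → EGA4.IsNormalRing (k' ⊗[k] S))
    (K : Type u) [Field K] [Algebra k K] : EGA4.IsNormalRing (K ⊗[k] S) := by
  refine (Groth.Agent.Lib.Helper22.NormalColim.isColim_tensor k K S).isNormalRing (fun T => ?_)
  exact Groth.Agent.Lib.Helper22.GeomFG.tensor_of_fg good_normal k
    ↥(IntermediateField.adjoin k (T : Set K)) S (fun k' _ _ hf hpi => h k' hf hpi)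

attribute [local instance] Curv2.stalkAlgebra

variable (k : Type u) [Field k] (X : Scheme.{u}) [X.Over (Spec (CommRingCat.of k))] (x : X)

/-- (3) ⇒ (1) -/
theorem qn_stalk_of_isNormalRing_tensor (k' : Type u) [Field k'] [Algebra k k']
    (h : EGA4.IsNormalRing (k' ⊗[k] X.presheaf.stalk x)) (x' : Curv2.bc k X k')
    (hx : Curv2.bcFst k X k' x' = x) :
    IsDomain ((Curv2.bc k X k').presheaf.stalk x') ∧
      IsIntegrallyClosed ((Curv2.bc k X k').presheaf.stalk x') := by
  obtain ⟨Q, hQ, -, ⟨e⟩⟩ := exists_equiv_of_point' k X k' x x' hx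
  have h' : EGA4.IsNormalRing ((X.presheaf.stalk x) ⊗[k] k') :=
    good_normal.iso _ _ (Algebra.TensorProduct.comm k k' (X.presheaf.stalk x)).toRingEquiv h
  exact QN_iso _ _ e.symm (h' Q)

/-- (2) ⇒ (3), first for finite extensions -/
theorem isNormalRing_tensor_of_points (k' : Type u) [Field k'] [Algebra k k']
    [Algebra.IsIntegral k k']
    (h : ∀ x' : Curv2.bc k X k', Curv2.bcFst k X k' x' = x →
      IsDomain ((Curv2.bc k X k').presheaf.stalk x') ∧
        IsIntegrallyClosed ((Curv2.bc k X k').presheaf.stalk x')) :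
    EGA4.IsNormalRing (k' ⊗[k] X.presheaf.stalk x) := by
  have h' : EGA4.IsNormalRing ((X.presheaf.stalk x) ⊗[k] k') := by
    apply isNormalRing_of_forall_maximal
    intro m hm
    have hcm := comap_eq_maximalIdeal_of_isMaximal k X k' x m
    obtain ⟨x', hx', ⟨e⟩⟩ := exists_point_of_prime k X k' x m hcm
    exact QN_iso _ _ e (h x' hx')
  exact good_normal.iso _ _ (Algebra.TensorProduct.comm k (X.presheaf.stalk x) k').toRingEquiv h'

/-- (2) ⇒ (3) -/
theorem three_of_two
    (h : ∀ (k' : Type u) [Field k'] [Algebra k k'] [FiniteDimensional k k']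
      [IsPurelyInseparable k k'] (x' : ↥(Curv2.bc k X k')), Curv2.bcFst k X k' x' = x →
        IsDomain ↥((Curv2.bc k X k').presheaf.stalk x') ∧
          IsIntegrallyClosed ↥((Curv2.bc k X k').presheaf.stalk x')) :
    ∀ (k' : Type u) [Field k'] [Algebra k k'],
      EGA4.IsNormalRing (k' ⊗[k] ↥(X.presheaf.stalk x)) := by
  intro K _ _
  apply isNormalRing_tensor_of_PI
  intro k' _ _ hfin hpi
  haveI : FiniteDimensional k k' := hfin
  haveI := hpi
  exact isNormalRing_tensor_of_points k X x k' (fun x' hx' => h k' x' hx')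

/-- (3) ⇒ (1) -/
theorem one_of_three
    (h : ∀ (k' : Type u) [Field k'] [Algebra k k'],
      EGA4.IsNormalRing (k' ⊗[k] ↥(X.presheaf.stalk x))) :
    ∀ (k' : Type u) [Field k'] [Algebra k k'] (x' : ↥(Curv2.bc k X k')),
      Curv2.bcFst k X k' x' = x →
        IsDomain ↥((Curv2.bc k X k').presheaf.stalk x') ∧
          IsIntegrallyClosed ↥((Curv2.bc k X k').presheaf.stalk x') :=
  fun k' _ _ x' hx' => qn_stalk_of_isNormalRing_tensor k X x k' (h k') x' hx'

end Groth.Agent.Lib.Helper22.SchNormalAt
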