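import Mathlib
import Groth.Prelude.Def_EGA4b
import Groth.Agent.Lib.Helper22.CplLocGlob2
import Groth.Agent.Lib.Helper22.NormTensor3
import Groth.Agent.Lib.Helper5.RegHomSmooth
import Groth.Agent.Lib.Helper22.SchNormalAt

/-!
# Part 3: local-to-global on the target, and composition with a localization (helper22)
-/

set_option autoImplicit false
set_option linter.style.haveILetI false
universe u
open TensorProduct IsLocalRing

namespace Groth.Agent.Lib.Helper22.CplLocGlob

open Groth.Agent.Lib.Helper22.NormalLocal Groth.Agent.Lib.Helper22.NormalGood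

section LocGlob

variable {A B : Type u} [CommRing A] [CommRing B] [Algebra A B]

/-- the local ring of `F ⊗_A B` at a prime is a local ring of `F ⊗_A B_𝔫` for a maximal ideal
`𝔫` of `B` -/
theorem exists_maximal_ringEquiv (F : Type u) [CommRing F] [Algebra A F] (r : Ideal (F ⊗[A] B))
    [hr : r.IsPrime] :
    ∃ (𝔫 : Ideal B) (_ : 𝔫.IsMaximal) (r' : Ideal (F ⊗[A] Localization.AtPrime 𝔫))
      (_ : r'.IsPrime), Nonempty (Localization.AtPrime r' ≃+* Localization.AtPrime r) := by
  let T := F ⊗[A] B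
  let fB : B →+* T := (Algebra.TensorProduct.includeRight : B →ₐ[A] T).toRingHom
  let q : Ideal B := r.comap fB
  haveI : q.IsPrime := Ideal.IsPrime.comap fB
  obtain ⟨𝔫, h𝔫, hq𝔫⟩ := Ideal.exists_le_maximal q (Ideal.IsPrime.ne_top inferInstance)
  haveI := h𝔫
  let B' := Localization.AtPrime 𝔫
  let T' := F ⊗[A] B'
  let i2 : T →ₐ[F] T' := Algebra.TensorProduct.map (AlgHom.id F F) (IsScalarTower.toAlgHom A B B')
  letI alg2 : Algebra T T' := i2.toRingHom.toAlgebra
  have H2 : (algebraMap T T').comp Algebra.TensorProduct.includeRight.toRingHom =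
      Algebra.TensorProduct.includeRight.toRingHom.comp (algebraMap B B') := by
    ext x
    simp only [RingHom.coe_comp, Function.comp_apply, AlgHom.toRingHom_eq_coe, RingHom.coe_coe,
      Algebra.TensorProduct.includeRight_apply, RingHom.algebraMap_toAlgebra]
    erw [Algebra.TensorProduct.map_tmul]
    rfl
  haveI hloc2 : IsLocalization (𝔫.primeCompl.map
      (Algebra.TensorProduct.includeRight (R := A) (A := F))) T' :=
    IsLocalization.tensorProduct_tensorProduct_right A F 𝔫.primeCompl B' H2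
  have hd2 : Disjoint ((𝔫.primeCompl.map
      (Algebra.TensorProduct.includeRight (R := A) (A := F)) : Submonoid T) : Set T) ↑r := by
    rw [Set.disjoint_left]
    rintro _ ⟨b, hb, rfl⟩ hmem
    exact hb (hq𝔫 hmem)
  obtain ⟨hP', ⟨e⟩⟩ := exists_ringEquiv_localization_map (R := T) (R' := T')
    (𝔫.primeCompl.map (Algebra.TensorProduct.includeRight (R := A) (A := F))) r hd2
  exact ⟨𝔫, h𝔫, r.map (algebraMap T T'), hP', ⟨e⟩⟩

/-- normal homomorphisms: local-to-global on the target -/
theorem isNormalHom_of_forall_maximal [Module.Flat A B]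
    (h : ∀ (𝔫 : Ideal B) [𝔫.IsMaximal], EGA4.IsNormalHom A (Localization.AtPrime 𝔫)) :
    EGA4.IsNormalHom A B := by
  refine ⟨inferInstance, ?_⟩
  intro p hp k' _ _ hfin
  letI : Algebra A k' :=
    ((algebraMap p.ResidueField k').comp (algebraMap A p.ResidueField)).toAlgebra
  haveI : IsScalarTower A p.ResidueField k' := IsScalarTower.of_algebraMap_eq' rfl
  let e : k' ⊗[p.ResidueField] (p.ResidueField ⊗[A] B) ≃ₐ[k'] k' ⊗[A] B :=
    Algebra.TensorProduct.cancelBaseChange A p.ResidueField k' k' B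
  refine good_normal.iso _ _ e.symm.toRingEquiv ?_
  intro r hr
  obtain ⟨𝔫, h𝔫, r', hr', ⟨e'⟩⟩ := exists_maximal_ringEquiv (A := A) (B := B) k' r
  have hT' : EGA4.IsNormalRing (k' ⊗[A] Localization.AtPrime 𝔫) :=
    Groth.Agent.Lib.Helper22.NormFib2.isNormalRing_tensor_field (h 𝔫).2 k'
  exact QN_iso _ _ e' (hT' r')

/-- geometrically reduced fibres: local-to-global on the target -/
theorem isGeometricallyReduced_fiber_of_forall_maximal
    (h : ∀ (𝔫 : Ideal B) [𝔫.IsMaximal] (p : Ideal A) [p.IsPrime],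
      Algebra.IsGeometricallyReduced p.ResidueField (p.Fiber (Localization.AtPrime 𝔫)))
    (p : Ideal A) [p.IsPrime] : Algebra.IsGeometricallyReduced p.ResidueField (p.Fiber B) := by
  rw [Algebra.isGeometricallyReduced_field_iff]
  let e : AlgebraicClosure p.ResidueField ⊗[p.ResidueField] (p.ResidueField ⊗[A] B) ≃ₐ[_]
      AlgebraicClosure p.ResidueField ⊗[A] B :=
    Algebra.TensorProduct.cancelBaseChange A p.ResidueField (AlgebraicClosure p.ResidueField)
      (AlgebraicClosure p.ResidueField) B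
  suffices hred : IsReduced (AlgebraicClosure p.ResidueField ⊗[A] B) from
    isReduced_of_injective e e.injective
  apply isReduced_ofLocalizationMaximal
  intro r hr
  obtain ⟨𝔫, h𝔫, r', hr', ⟨e'⟩⟩ :=
    exists_maximal_ringEquiv (A := A) (B := B) (AlgebraicClosure p.ResidueField) r
  haveI := Groth.Agent.Lib.Helper22.FormalFibQuot.isGeometricallyReduced_tensor_field
    (fun p' _ => h 𝔫 p') (AlgebraicClosure p.ResidueField)
  haveI hT' : IsReduced (AlgebraicClosure p.ResidueField ⊗[A] Localization.AtPrime 𝔫) :=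
    Algebra.isReduced_of_isGeometricallyReduced (AlgebraicClosure p.ResidueField)
  haveI : IsReduced (Localization.AtPrime r') := inferInstance
  exact isReduced_of_injective e'.symm e'.symm.injective

/-- regular homomorphisms: local-to-global on the target -/
theorem isRegularHom_of_forall_maximal [IsNoetherianRing B] [Module.Flat A B]
    (h : ∀ (𝔫 : Ideal B) [𝔫.IsMaximal], CAlg.IsRegularHom A (Localization.AtPrime 𝔫)) :
    CAlg.IsRegularHom A B := by
  refine ⟨inferInstance, fun p hp =>
    ⟨Groth.Agent.Lib.Helper21.FlatLocal.isNoetherianRing_fiber p, ?_⟩⟩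
  intro k' _ _ hfin
  haveI hNfib : IsNoetherianRing (p.Fiber B) :=
    Groth.Agent.Lib.Helper21.FlatLocal.isNoetherianRing_fiber p
  letI : Algebra A k' :=
    ((algebraMap p.ResidueField k').comp (algebraMap A p.ResidueField)).toAlgebra
  haveI : IsScalarTower A p.ResidueField k' := IsScalarTower.of_algebraMap_eq' rfl
  let e : k' ⊗[p.ResidueField] (p.ResidueField ⊗[A] B) ≃ₐ[k'] k' ⊗[A] B :=
    Algebra.TensorProduct.cancelBaseChange A p.ResidueField k' k' B
  have hfinT : Module.Finite (p.Fiber B) ((p.Fiber B) ⊗[p.ResidueField] k') := inferInstance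
  have hNT : IsNoetherianRing ((p.Fiber B) ⊗[p.ResidueField] k') :=
    IsNoetherianRing.of_finite (p.Fiber B) _
  have hNT2 : IsNoetherianRing (k' ⊗[p.ResidueField] (p.Fiber B)) :=
    isNoetherianRing_of_ringEquiv _
      (Algebra.TensorProduct.comm p.ResidueField (p.Fiber B) k').toRingEquiv
  haveI hNT3 : IsNoetherianRing (k' ⊗[A] B) := isNoetherianRing_of_ringEquiv _ e.toRingEquiv
  suffices hreg : IsRegularRing (k' ⊗[A] B) by
    haveI := hreg
    exact IsRegularRing.of_ringEquiv e.symm.toRingEquiv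
  rw [isRegularRing_iff]
  intro r hr
  obtain ⟨𝔫, h𝔫, r', hr', ⟨e'⟩⟩ := exists_maximal_ringEquiv (A := A) (B := B) k' r
  haveI h1 : IsRegularRing (k' ⊗[p.ResidueField] (p.Fiber (Localization.AtPrime 𝔫))) :=
    ((h 𝔫).2 p).2 k' hfin
  let e𝔫 : k' ⊗[p.ResidueField] (p.ResidueField ⊗[A] Localization.AtPrime 𝔫) ≃ₐ[k']
      k' ⊗[A] Localization.AtPrime 𝔫 :=
    Algebra.TensorProduct.cancelBaseChange A p.ResidueField k' k' (Localization.AtPrime 𝔫)
  haveI h2 : IsRegularRing (k' ⊗[A] Localization.AtPrime 𝔫) :=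
    IsRegularRing.of_ringEquiv
      (R := k' ⊗[p.ResidueField] (p.ResidueField ⊗[A] Localization.AtPrime 𝔫)) e𝔫.toRingEquiv
  haveI : IsRegularLocalRing (Localization.AtPrime r') := inferInstance
  exact IsRegularLocalRing.of_ringEquiv (R := Localization.AtPrime r') e'

end LocGlob

end Groth.Agent.Lib.Helper22.CplLocGlob
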