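import Mathlib
import Groth.Prelude.Def_EGA4b
import Groth.Agent.Lib.Helper22.CplLocGlob
import Groth.Agent.Lib.Helper22.CplLocGlob2
import Groth.Agent.Lib.Helper22.CplLocGlob3
import Groth.Agent.Lib.Helper22.CplDescent2
import Groth.Agent.Lib.Helper22.RedFib
import Groth.Agent.Lib.Helper22.NormRedFib
import Groth.Agent.S19379
import Groth.Agent.S4696

/-!
# Part 4: `A → Â_I` is a P-homomorphism when the local rings of `A` have P formal fibres (helper22)
-/

set_option autoImplicit false
set_option linter.style.haveILetI false
universe u
open TensorProduct IsLocalRing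

namespace Groth.Agent.Lib.Helper22.CplLocGlob

variable (A : Type u) [CommRing A] [IsNoetherianRing A] (I : Ideal A)

/-- localization at a prime of a Noetherian ring is a regular homomorphism -/
theorem isRegularHom_localization_atPrime (m : Ideal A) [m.IsPrime] :
    CAlg.IsRegularHom A (Localization.AtPrime m) := by
  haveI := Algebra.FormallySmooth.of_isLocalization m.primeCompl (Rₘ := Localization.AtPrime m)
  exact Groth.Agent.S19379.result A (Localization.AtPrime m)

/-- regular case -/
theorem isRegularHom_adicCompletion
    (hA : ∀ (p : Ideal A) [p.IsPrime],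
      CAlg.IsRegularHom (Localization.AtPrime p) (EGA4.Cpl (Localization.AtPrime p))) :
    CAlg.IsRegularHom A (AdicCompletion I A) := by
  haveI : IsNoetherianRing (AdicCompletion I A) :=
    Groth.Agent.Lib.helper19.isNoetherianRing_adicCompletion A I
  haveI : Module.Flat A (AdicCompletion I A) := AdicCompletion.flat_of_isNoetherian I
  apply isRegularHom_of_forall_maximal
  intro n hn
  let m := n.comap (algebraMap A (AdicCompletion I A))
  haveI hm : m.IsMaximal := comap_isMaximal A I n
  haveI : n.LiesOver m := ⟨rfl⟩
  letI := Localization.AtPrime.algebraOfLiesOver m n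
  haveI := isLocalHom_local A I n m
  have h1 : CAlg.IsRegularHom (Localization.AtPrime m) (Localization.AtPrime n) :=
    isRegularHom_of_cpl _ _ (map_maximalIdeal_eq A I n m) (residueField_map_surjective A I n m)
      (hA m)
  exact Groth.Agent.Lib.Helper5.RegHom.isRegularHom_comp A (Localization.AtPrime m)
    (Localization.AtPrime n) (isRegularHom_localization_atPrime A m) h1
    (fun p _ => Groth.Agent.Lib.Helper21.FlatLocal.isNoetherianRing_fiber p)

/-- normal case -/
theorem isNormalHom_adicCompletion
    (hA : ∀ (p : Ideal A) [p.IsPrime], EGA4.HasGeomNormalFormalFibres (Localization.AtPrime p)) :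
    EGA4.IsNormalHom A (AdicCompletion I A) := by
  haveI : IsNoetherianRing (AdicCompletion I A) :=
    Groth.Agent.Lib.helper19.isNoetherianRing_adicCompletion A I
  haveI : Module.Flat A (AdicCompletion I A) := AdicCompletion.flat_of_isNoetherian I
  apply isNormalHom_of_forall_maximal
  intro n hn
  let m := n.comap (algebraMap A (AdicCompletion I A))
  haveI hm : m.IsMaximal := comap_isMaximal A I n
  haveI : n.LiesOver m := ⟨rfl⟩
  letI := Localization.AtPrime.algebraOfLiesOver m n
  haveI := isLocalHom_local A I n m
  have h1 : EGA4.IsNormalHom (Localization.AtPrime m) (Localization.AtPrime n) :=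
    isNormalHom_of_cpl _ _ (map_maximalIdeal_eq A I n m) (residueField_map_surjective A I n m)
      (hA m)
  exact Groth.Agent.S4696.result A (Localization.AtPrime m) (Localization.AtPrime n)
    (Groth.Agent.Lib.Helper22.CplDescent.isNormalHom_of_isRegularHom
      (isRegularHom_localization_atPrime A m)) h1

/-- reduced case -/
theorem isGeometricallyReduced_fiber_adicCompletion
    (hA : ∀ (p : Ideal A) [p.IsPrime], EGA4.HasGeomReducedFormalFibres (Localization.AtPrime p))
    (p : Ideal A) [p.IsPrime] :
    Algebra.IsGeometricallyReduced p.ResidueField (p.Fiber (AdicCompletion I A)) := by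
  haveI : IsNoetherianRing (AdicCompletion I A) :=
    Groth.Agent.Lib.helper19.isNoetherianRing_adicCompletion A I
  haveI : Module.Flat A (AdicCompletion I A) := AdicCompletion.flat_of_isNoetherian I
  revert p
  apply isGeometricallyReduced_fiber_of_forall_maximal
  intro n hn
  let m := n.comap (algebraMap A (AdicCompletion I A))
  haveI hm : m.IsMaximal := comap_isMaximal A I n
  haveI : n.LiesOver m := ⟨rfl⟩
  letI := Localization.AtPrime.algebraOfLiesOver m n
  haveI := isLocalHom_local A I n m
  have h1 : ∀ (q : Ideal (Localization.AtPrime m)) [q.IsPrime],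
      Algebra.IsGeometricallyReduced q.ResidueField (q.Fiber (Localization.AtPrime n)) :=
    fun q _ => isGeometricallyReduced_fiber_of_cpl _ _ (map_maximalIdeal_eq A I n m)
      (residueField_map_surjective A I n m) (hA m) q
  have h0 := Groth.Agent.Lib.Helper22.CplDescent.isNormalHom_of_isRegularHom
      (isRegularHom_localization_atPrime A m)
  have hAB : ∀ (p : Ideal A) [p.IsPrime],
      Algebra.IsGeometricallyReduced p.ResidueField (p.Fiber (Localization.AtPrime m)) :=
    fun p _ => Groth.Agent.Lib.Helper22.NormRedFib.isGeometricallyReduced_of_isGeomNormal (h0.2 p)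
  intro p _
  exact Groth.Agent.Lib.Helper22.RedFib.isGeometricallyReduced_fiber_comp
    (B := Localization.AtPrime m) (C := Localization.AtPrime n) A hAB h1 p

end Groth.Agent.Lib.Helper22.CplLocGlob
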