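import Mathlib

set_option autoImplicit false
set_option linter.style.haveILetI false
universe u
open TensorProduct IsLocalRing

namespace Groth.Agent.Lib.Helper22.FinDom

variable (A : Type u) [CommRing A] (p : Ideal A) [p.IsPrime]
  (k' : Type u) [Field k'] [Algebra p.ResidueField k'] [Module.Finite p.ResidueField k']
  [Algebra A k'] [IsScalarTower A p.ResidueField k']

include p in
omit [Module.Finite p.ResidueField k'] in
theorem exists_integral_smul [Algebra.IsIntegral p.ResidueField k'] (z : k') :
    ∃ s : A, s ∉ p ∧ IsIntegral A (s • z) := by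
  have hz : IsIntegral p.ResidueField z := Algebra.IsIntegral.isIntegral z
  letI : Algebra (A ⧸ p) k' :=
    ((algebraMap p.ResidueField k').comp (algebraMap (A ⧸ p) p.ResidueField)).toAlgebra
  haveI : IsScalarTower (A ⧸ p) p.ResidueField k' := .of_algebraMap_eq' rfl
  haveI : IsScalarTower A (A ⧸ p) k' := .of_algebraMap_eq (fun x => by
    rw [IsScalarTower.algebraMap_apply A p.ResidueField k',
      IsScalarTower.algebraMap_apply (A ⧸ p) p.ResidueField k',
      IsScalarTower.algebraMap_apply A (A ⧸ p) p.ResidueField])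
  have hz' : IsAlgebraic (A ⧸ p) z :=
    (IsFractionRing.isAlgebraic_iff (A ⧸ p) p.ResidueField k').mpr hz.isAlgebraic
  obtain ⟨y, hy0, hy⟩ := hz'.exists_integral_multiple
  obtain ⟨s, rfl⟩ := Ideal.Quotient.mk_surjective y
  refine ⟨s, fun hs => hy0 (Ideal.Quotient.eq_zero_iff_mem.mpr hs), ?_⟩
  have h1 : (Ideal.Quotient.mk p s) • z = s • z := by
    rw [← algebraMap_smul (A ⧸ p) s z]; rfl
  rw [← h1]
  haveI : Algebra.IsIntegral A (A ⧸ p) :=
    Algebra.isIntegral_of_surjective Ideal.Quotient.mk_surjective
  exact isIntegral_trans _ hy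

/-- every element of the residue field is a fraction of elements of `A` -/
theorem exists_smul_eq_algebraMap (A : Type u) [CommRing A] (p : Ideal A) [p.IsPrime]
    (c : p.ResidueField) :
    ∃ (a u : A), u ∉ p ∧ algebraMap A p.ResidueField u * c = algebraMap A p.ResidueField a := by
  obtain ⟨x, rfl⟩ := IsLocalRing.residue_surjective c
  obtain ⟨⟨a, u⟩, h⟩ := IsLocalization.surj p.primeCompl x
  refine ⟨a, u.1, u.2, ?_⟩
  have := congrArg (IsLocalRing.residue (Localization.AtPrime p)) h
  rw [map_mul] at this
  rw [mul_comm]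
  exact this

include p in
/-- a finite `A`-subalgebra of `k'` with fraction field `k'` -/
theorem exists_finite_subalgebra :
    ∃ B : Subalgebra A k', Module.Finite A B ∧ IsFractionRing B k' := by
  classical
  haveI : Algebra.IsIntegral p.ResidueField k' := inferInstance
  obtain ⟨S, hS⟩ := (Module.Finite.fg_top : (⊤ : Submodule p.ResidueField k').FG)
  choose s hsp hsint using exists_integral_smul A p k'
  let G : Set k' := (fun b => s b • b) '' (S : Set k')
  have hGfin : G.Finite := (Finset.finite_toSet S).image _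
  let B : Subalgebra A k' := Algebra.adjoin A G
  have hBfg : B.toSubmodule.FG := fg_adjoin_of_finite hGfin (by
    rintro _ ⟨b, -, rfl⟩
    exact hsint b)
  refine ⟨B, Module.Finite.of_fg hBfg, ?_⟩
  -- key: every element of k' has a multiple in B
  have hne : ∀ u : A, u ∉ p → algebraMap A k' u ≠ 0 := by
    intro u hu h0
    rw [IsScalarTower.algebraMap_apply A p.ResidueField k', map_eq_zero_iff _
      (algebraMap p.ResidueField k').injective] at h0
    exact hu ((Ideal.algebraMap_residueField_eq_zero).mp h0)
  have key : ∀ z : k', ∃ t : A, t ∉ p ∧ t • z ∈ B := by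
    intro z
    have hz : z ∈ Submodule.span p.ResidueField (S : Set k') := by rw [hS]; trivial
    induction hz using Submodule.span_induction with
    | mem b hb =>
      exact ⟨s b, hsp b, Algebra.subset_adjoin ⟨b, hb, rfl⟩⟩
    | zero => exact ⟨1, fun h => Ideal.IsPrime.ne_top inferInstance ((Ideal.eq_top_iff_one p).mpr h),
        by simp⟩
    | add z1 z2 _ _ h1 h2 =>
      obtain ⟨t1, ht1, h1⟩ := h1
      obtain ⟨t2, ht2, h2⟩ := h2
      refine ⟨t1 * t2, fun h => (Ideal.IsPrime.mem_or_mem inferInstance h).elim ht1 ht2, ?_⟩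
      have : (t1 * t2) • (z1 + z2) = t2 • (t1 • z1) + t1 • (t2 • z2) := by
        simp only [smul_add, smul_smul]; rw [mul_comm t2 t1]
      rw [this]
      exact B.add_mem (B.smul_mem h1 t2) (B.smul_mem h2 t1)
    | smul c z _ h =>
      obtain ⟨t, ht, h⟩ := h
      obtain ⟨a, u, hu, hc⟩ := exists_smul_eq_algebraMap A p c
      refine ⟨u * t, fun h => (Ideal.IsPrime.mem_or_mem inferInstance h).elim hu ht, ?_⟩
      have : (u * t) • (c • z) = a • (t • z) := by
        rw [mul_smul, smul_comm t c z, ← smul_assoc u c (t • z)]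
        rw [Algebra.smul_def u c, hc, algebraMap_smul]
      rw [this]
      exact B.smul_mem h a
  haveI : FaithfulSMul B k' :=
    (faithfulSMul_iff_algebraMap_injective B k').mpr Subtype.val_injective
  refine IsFractionRing.of_field B k' ?_
  intro z
  obtain ⟨t, ht, hz⟩ := key z
  refine ⟨⟨t • z, hz⟩, algebraMap A B t, ?_⟩
  have h1 : algebraMap B k' (algebraMap A B t) = algebraMap A k' t := rfl
  have h2 : algebraMap B k' ⟨t • z, hz⟩ = t • z := rfl
  rw [h1, h2, Algebra.smul_def, mul_comm, mul_div_assoc, div_self (hne t ht), mul_one]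

/-- primes of `Frac(B) ⊗_A C` come from primes of `B ⊗_A C` lying over `0`, with the same local
ring -/
theorem exists_prime_ringEquiv (A : Type u) [CommRing A] (B : Type u) [CommRing B] [IsDomain B]
    [Algebra A B] (K : Type u) [Field K] [Algebra A K] [Algebra B K] [IsScalarTower A B K]
    [IsFractionRing B K] (C : Type u) [CommRing C] [Algebra A C] (Q : Ideal (K ⊗[A] C))
    [hQ : Q.IsPrime] :
    ∃ (q : Ideal (B ⊗[A] C)) (_ : q.IsPrime), q.comap (algebraMap B (B ⊗[A] C)) = ⊥ ∧
      Nonempty (Localization.AtPrime q ≃+* Localization.AtPrime Q) := by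
  let T := B ⊗[A] C
  let T' := K ⊗[A] C
  let i : T →ₐ[B] T' :=
    Algebra.TensorProduct.map (IsScalarTower.toAlgHom B B K) (AlgHom.id A C)
  letI : Algebra T T' := i.toRingHom.toAlgebra
  haveI : IsScalarTower B T T' := .of_algebraMap_eq (fun x => (i.commutes x).symm)
  have H : (algebraMap T T').comp Algebra.TensorProduct.includeRight.toRingHom =
      Algebra.TensorProduct.includeRight.toRingHom := by
    ext x
    simp [RingHom.algebraMap_toAlgebra, i, T, T']
  haveI : IsLocalization (Algebra.algebraMapSubmonoid T (nonZeroDivisors B)) T' :=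
    IsLocalization.tensorProduct_tensorProduct A C (nonZeroDivisors B) K H
  let q := Q.comap (algebraMap T T')
  haveI : IsScalarTower T T' (Localization.AtPrime Q) := inferInstance
  haveI : IsLocalization.AtPrime (Localization.AtPrime Q) q :=
    IsLocalization.isLocalization_isLocalization_atPrime_isLocalization
      (Algebra.algebraMapSubmonoid T (nonZeroDivisors B)) (Localization.AtPrime Q) Q
  refine ⟨q, inferInstance, ?_,
    ⟨(IsLocalization.algEquiv q.primeCompl (Localization.AtPrime q)
      (Localization.AtPrime Q)).toRingEquiv⟩⟩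
  rw [eq_bot_iff]
  intro b hb
  by_contra hb0
  have hmem : algebraMap T T' (algebraMap B T b) ∈ Q := hb
  have hu : IsUnit (algebraMap T T' (algebraMap B T b)) :=
    IsLocalization.map_units T' (⟨_, ⟨b, mem_nonZeroDivisors_of_ne_zero hb0, rfl⟩⟩ :
      Algebra.algebraMapSubmonoid T (nonZeroDivisors B))
  exact Ideal.IsPrime.ne_top hQ (Ideal.eq_top_of_isUnit_mem _ hmem hu)

end Groth.Agent.Lib.Helper22.FinDom
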