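import Mathlib
import Groth.Prelude.Def_EGA4b
import Groth.Agent.Lib.Helper22.FinDom
import Groth.Agent.Lib.Helper22.NormalLocal
import Groth.Agent.Lib.Helper22.RedFib
import Groth.Agent.Lib.Helper22.GeomRed2
import Groth.Agent.Lib.Helper22.CplLocGlob4
import Groth.Agent.Lib.Helper5.RegHomLoc
import Groth.Agent.Lib.Helper5.RegHomBC

/-!
# Formal fibres via finite domains (helper22)
-/

set_option autoImplicit false
set_option linter.style.haveILetI false
universe u
open TensorProduct IsLocalRing

namespace Groth.Agent.Lib.Helper22.FinDom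

open Groth.Agent.Lib.Helper22.NormalLocal

/-- a prime of `B ⊗_A C` lying over `0` gives a prime of `Frac(B) ⊗_A C` with the same local
ring -/
theorem exists_prime_ringEquiv' (A : Type u) [CommRing A] (B : Type u) [CommRing B] [IsDomain B]
    [Algebra A B] (K : Type u) [Field K] [Algebra A K] [Algebra B K] [IsScalarTower A B K]
    [IsFractionRing B K] (C : Type u) [CommRing C] [Algebra A C] (q : Ideal (B ⊗[A] C))
    [hq : q.IsPrime] (hq0 : q.comap (algebraMap B (B ⊗[A] C)) = ⊥) :
    ∃ (Q : Ideal (K ⊗[A] C)) (_ : Q.IsPrime),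
      Nonempty (Localization.AtPrime Q ≃+* Localization.AtPrime q) := by
  let T := B ⊗[A] C
  let T' := K ⊗[A] C
  let i : T →ₐ[B] T' :=
    Algebra.TensorProduct.map (IsScalarTower.toAlgHom B B K) (AlgHom.id A C)
  letI : Algebra T T' := i.toRingHom.toAlgebra
  haveI : IsScalarTower B T T' := .of_algebraMap_eq (fun x => (i.commutes x).symm)
  have H : (algebraMap T T').comp Algebra.TensorProduct.includeRight.toRingHom =
      Algebra.TensorProduct.includeRight.toRingHom := by
    ext x
    simp [RingHom.algebraMap_toAlgebra, i, T, T']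
  haveI : IsLocalization (Algebra.algebraMapSubmonoid T (nonZeroDivisors B)) T' :=
    IsLocalization.tensorProduct_tensorProduct A C (nonZeroDivisors B) K H
  have hd : Disjoint ((Algebra.algebraMapSubmonoid T (nonZeroDivisors B) : Submonoid T) : Set T)
      ↑q := by
    rw [Set.disjoint_left]
    rintro _ ⟨b, hb, rfl⟩ hmem
    have hb' : b ∈ q.comap (algebraMap B (B ⊗[A] C)) := hmem
    rw [hq0, Ideal.mem_bot] at hb'
    exact nonZeroDivisors.ne_zero hb hb'
  obtain ⟨hP', ⟨e⟩⟩ := exists_ringEquiv_localization_map (R := T) (R' := T')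
    (Algebra.algebraMapSubmonoid T (nonZeroDivisors B)) q hd
  exact ⟨q.map (algebraMap T T'), hP', ⟨e⟩⟩


section Reduced

variable (A : Type u) [CommRing A] (C : Type u) [CommRing C] [Algebra A C]

/-- (→), reduced case -/
theorem isReduced_localization_of_geomReduced
    (h : ∀ (p : Ideal A) [p.IsPrime], Algebra.IsGeometricallyReduced p.ResidueField (p.Fiber C))
    (B : Type u) [CommRing B] [IsDomain B] [Algebra A B]
    (q : Ideal (B ⊗[A] C)) [q.IsPrime] (hq0 : q.comap (algebraMap B (B ⊗[A] C)) = ⊥) :
    IsReduced (Localization.AtPrime q) := by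
  obtain ⟨Q, hQ, ⟨e⟩⟩ := exists_prime_ringEquiv' A B (FractionRing B) C q hq0
  haveI : IsReduced (FractionRing B ⊗[A] C) :=
    Groth.Agent.Lib.Helper22.RedFib.isReduced_tensor_field h (FractionRing B)
  haveI : IsReduced (Localization.AtPrime Q) := inferInstance
  exact isReduced_of_injective e.symm e.symm.injective

/-- (←), reduced case -/
theorem geomReduced_of_isReduced_localization
    (h : ∀ (B : Type u) [CommRing B] [IsDomain B] [Algebra A B] [Module.Finite A B]
        (q : Ideal (B ⊗[A] C)) [q.IsPrime],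
        q.comap (algebraMap B (B ⊗[A] C)) = ⊥ → IsReduced (Localization.AtPrime q))
    (p : Ideal A) [p.IsPrime] : Algebra.IsGeometricallyReduced p.ResidueField (p.Fiber C) := by
  apply Groth.Agent.Lib.Helper22.GeomRed2.isGeometricallyReduced_of_forall_purelyInseparable
  intro k' _ _ _ _
  letI : Algebra A k' :=
    ((algebraMap p.ResidueField k').comp (algebraMap A p.ResidueField)).toAlgebra
  haveI : IsScalarTower A p.ResidueField k' := IsScalarTower.of_algebraMap_eq' rfl
  let e : k' ⊗[p.ResidueField] (p.ResidueField ⊗[A] C) ≃ₐ[k'] k' ⊗[A] C :=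
    Algebra.TensorProduct.cancelBaseChange A p.ResidueField k' k' C
  suffices hred : IsReduced (k' ⊗[A] C) from isReduced_of_injective e e.injective
  obtain ⟨B, hBfin, hBfrac⟩ := exists_finite_subalgebra A p k'
  apply isReduced_ofLocalizationMaximal
  intro Q hQ
  obtain ⟨q, hq, hq0, ⟨e'⟩⟩ := exists_prime_ringEquiv A B k' C Q
  haveI := h B q hq0
  exact isReduced_of_injective e'.symm e'.symm.injective

end Reduced

section Regular

variable (A : Type u) [CommRing A] (C : Type u) [CommRing C] [Algebra A C] [IsNoetherianRing C]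

/-- the local ring of a domain at `0` is regular -/
theorem isRegularLocalRing_atPrime_of_eq_bot {B : Type u} [CommRing B] [IsDomain B]
    (r : Ideal B) [r.IsPrime] (hr : r = ⊥) : IsRegularLocalRing (Localization.AtPrime r) := by
  let _ : Field (Localization.AtPrime r) := IsField.toField <| by
    simp [IsLocalRing.isField_iff_maximalIdeal_eq, ← Localization.AtPrime.map_eq_maximalIdeal, hr]
  infer_instance

/-- (→), regular case -/
theorem isRegularLocalRing_localization_of_isRegularHom (h : CAlg.IsRegularHom A C)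
    (B : Type u) [CommRing B] [IsDomain B] [Algebra A B] [Module.Finite A B]
    (q : Ideal (B ⊗[A] C)) [q.IsPrime] (hq0 : q.comap (algebraMap B (B ⊗[A] C)) = ⊥) :
    IsRegularLocalRing (Localization.AtPrime q) := by
  have hBC : CAlg.IsRegularHom B (B ⊗[A] C) :=
    Groth.Agent.Lib.Helper5.RegHom.isRegularHom_baseChange A C B h
  haveI hN1 : IsNoetherianRing (C ⊗[A] B) := IsNoetherianRing.of_finite C _
  haveI hN : IsNoetherianRing (B ⊗[A] C) :=
    isNoetherianRing_of_ringEquiv _ (Algebra.TensorProduct.comm A C B).toRingEquiv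
  exact Groth.Agent.Lib.Helper5.RegHom.regular_localization_of_isRegularHom B (B ⊗[A] C) hBC q
    (isRegularLocalRing_atPrime_of_eq_bot _ hq0)

/-- (←), regular case -/
theorem isRegularHom_of_isRegularLocalRing_localization [Module.Flat A C]
    (h : ∀ (B : Type u) [CommRing B] [IsDomain B] [Algebra A B] [Module.Finite A B]
        (q : Ideal (B ⊗[A] C)) [q.IsPrime],
        q.comap (algebraMap B (B ⊗[A] C)) = ⊥ → IsRegularLocalRing (Localization.AtPrime q)) :
    CAlg.IsRegularHom A C := by
  refine ⟨inferInstance, fun p hp =>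
    ⟨Groth.Agent.Lib.Helper21.FlatLocal.isNoetherianRing_fiber p, ?_⟩⟩
  intro k' _ _ hfin
  haveI hNfib : IsNoetherianRing (p.Fiber C) :=
    Groth.Agent.Lib.Helper21.FlatLocal.isNoetherianRing_fiber p
  letI : Algebra A k' :=
    ((algebraMap p.ResidueField k').comp (algebraMap A p.ResidueField)).toAlgebra
  haveI : IsScalarTower A p.ResidueField k' := IsScalarTower.of_algebraMap_eq' rfl
  let e : k' ⊗[p.ResidueField] (p.ResidueField ⊗[A] C) ≃ₐ[k'] k' ⊗[A] C :=
    Algebra.TensorProduct.cancelBaseChange A p.ResidueField k' k' C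
  have hfinT : Module.Finite (p.Fiber C) ((p.Fiber C) ⊗[p.ResidueField] k') := inferInstance
  have hNT : IsNoetherianRing ((p.Fiber C) ⊗[p.ResidueField] k') :=
    IsNoetherianRing.of_finite (p.Fiber C) _
  have hNT2 : IsNoetherianRing (k' ⊗[p.ResidueField] (p.Fiber C)) :=
    isNoetherianRing_of_ringEquiv _
      (Algebra.TensorProduct.comm p.ResidueField (p.Fiber C) k').toRingEquiv
  haveI hNT3 : IsNoetherianRing (k' ⊗[A] C) := isNoetherianRing_of_ringEquiv _ e.toRingEquiv
  suffices hreg : IsRegularRing (k' ⊗[A] C) by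
    haveI := hreg
    exact IsRegularRing.of_ringEquiv e.symm.toRingEquiv
  obtain ⟨B, hBfin, hBfrac⟩ := exists_finite_subalgebra A p k'
  rw [isRegularRing_iff]
  intro Q hQ
  obtain ⟨q, hq, hq0, ⟨e'⟩⟩ := exists_prime_ringEquiv A B k' C Q
  haveI := h B q hq0
  exact IsRegularLocalRing.of_ringEquiv (R := Localization.AtPrime q) e'

end Regular

end Groth.Agent.Lib.Helper22.FinDom
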