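import Mathlib.AlgebraicGeometry.AffineTransitionLimit

set_option autoImplicit false
universe u

open CategoryTheory CategoryTheory.Limits AlgebraicGeometry

namespace Groth.Agent.Lib.Helper22

variable {I : Type u} [Category.{u} I] (D : I ⥤ Scheme.{u}) (c : Cone D)

/-- The base change of the diagram (restricted to `Over i`) along `a : T ⟶ D.obj i`. -/
noncomputable def bcDiag (i : I) {T : Scheme.{u}} (a : T ⟶ D.obj i) : Over i ⥤ Scheme.{u} :=
  Over.post D ⋙ Over.pullback a ⋙ Over.forget _

/-- The base change of a cone. -/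
noncomputable def bcCone (i : I) {T : Scheme.{u}} (a : T ⟶ D.obj i) : Cone (bcDiag D i a) :=
  (Over.pullback a ⋙ Over.forget _).mapCone ((Over.conePost D i).obj c)

variable {c}

/-- The base change of a limit cone is a limit cone. -/
noncomputable def bcIsLimit [IsCofiltered I] (hc : IsLimit c) (i : I) {T : Scheme.{u}}
    (a : T ⟶ D.obj i) : IsLimit (bcCone D c i a) :=
  isLimitOfPreserves (Over.pullback a ⋙ Over.forget _) (Over.isLimitConePost i hc)

variable (c)

lemma bcDiag_obj (i : I) {T : Scheme.{u}} (a : T ⟶ D.obj i) (j : Over i) :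
    (bcDiag D i a).obj j = pullback (D.map j.hom) a := rfl

lemma bcCone_pt (i : I) {T : Scheme.{u}} (a : T ⟶ D.obj i) :
    (bcCone D c i a).pt = pullback (c.π.app i) a := rfl

lemma bcDiag_map_snd (i : I) {T : Scheme.{u}} (a : T ⟶ D.obj i) {j k : Over i} (f : j ⟶ k) :
    (bcDiag D i a).map f ≫ pullback.snd (D.map k.hom) a = pullback.snd (D.map j.hom) a :=
  pullback.lift_snd _ _ _

lemma bcDiag_map_fst (i : I) {T : Scheme.{u}} (a : T ⟶ D.obj i) {j k : Over i} (f : j ⟶ k) :
    (bcDiag D i a).map f ≫ pullback.fst (D.map k.hom) a =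
      pullback.fst (D.map j.hom) a ≫ D.map f.left :=
  pullback.lift_fst _ _ _

lemma bcCone_π_snd (i : I) {T : Scheme.{u}} (a : T ⟶ D.obj i) (j : Over i) :
    (bcCone D c i a).π.app j ≫ pullback.snd (D.map j.hom) a = pullback.snd (c.π.app i) a :=
  pullback.lift_snd _ _ _

lemma bcCone_π_fst (i : I) {T : Scheme.{u}} (a : T ⟶ D.obj i) (j : Over i) :
    (bcCone D c i a).π.app j ≫ pullback.fst (D.map j.hom) a =
      pullback.fst (c.π.app i) a ≫ c.π.app j.left :=
  pullback.lift_fst _ _ _

instance bcDiag_isAffineHom [∀ (i j : I) (f : i ⟶ j), IsAffineHom (D.map f)]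
    (i : I) {T : Scheme.{u}} (a : T ⟶ D.obj i) {j k : Over i} (f : j ⟶ k) :
    IsAffineHom ((bcDiag D i a).map f) := by
  have h1 : ∀ l : Over i, IsAffineHom (pullback.snd (D.map l.hom) a) := fun l =>
    MorphismProperty.pullback_snd (P := @IsAffineHom) _ _ inferInstance
  have h2 : IsSeparated (pullback.snd (D.map k.hom) a) := @IsSeparated.of_isAffineHom _ _ _ (h1 k)
  have : IsAffineHom ((bcDiag D i a).map f ≫ pullback.snd (D.map k.hom) a) := by
    rw [bcDiag_map_snd]
    exact h1 j
  exact @IsAffineHom.of_comp _ _ _ ((bcDiag D i a).map f) (pullback.snd (D.map k.hom) a) this h2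

instance bcDiag_compactSpace [∀ (i j : I) (f : i ⟶ j), IsAffineHom (D.map f)]
    (i : I) {T : Scheme.{u}} (a : T ⟶ D.obj i) [CompactSpace T] (j : Over i) :
    CompactSpace ((bcDiag D i a).obj j) := by
  rw [bcDiag_obj]
  have : IsAffineHom (pullback.snd (D.map j.hom) a) :=
    MorphismProperty.pullback_snd (P := @IsAffineHom) _ _ inferInstance
  exact QuasiCompact.compactSpace_of_compactSpace (pullback.snd (D.map j.hom) a)

end Groth.Agent.Lib.Helper22
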