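import Mathlib
import Groth.Agent.Lib.Helper22.GeomIrr

set_option autoImplicit false
set_option linter.style.haveILetI false
universe u
noncomputable section
namespace Groth.Agent.Lib.Helper22.GeomIrr4

open TensorProduct Polynomial

/-- a root of a separable polynomial is a separable element -/
theorem isSeparable_of_aeval_eq_zero {k L : Type*} [Field k] [Field L] [Algebra k L]
    {f : k[X]} (hf : f.Separable) {a : L} (ha : aeval a f = 0) : IsSeparable k a :=
  hf.of_dvd (minpoly.dvd k a ha)

/-- if `k` is separably closed in `K`, monic factors over `K` of separable polynomials over `k`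
have coefficients in `k`. -/
theorem mem_lifts_of_monic_of_dvd_map {k K : Type*} [Field k] [Field K] [Algebra k K]
    (hK : ∀ α : K, IsSeparable k α → α ∈ Set.range (algebraMap k K))
    {f : k[X]} (hf : f.Separable) {g : K[X]} (hg : g.Monic)
    (hd : g ∣ f.map (algebraMap k K)) : g ∈ lifts (algebraMap k K) := by
  let Ω := AlgebraicClosure K
  let F : IntermediateField k Ω := separableClosure k Ω
  have hsplit : (g.map (algebraMap K Ω)).Splits := IsAlgClosed.splits _
  have hroots : ∀ a ∈ (g.map (algebraMap K Ω)).roots, a ∈ (algebraMap F Ω).range := by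
    intro a ha
    have h1 : aeval a f = 0 := by
      have h2 : (g.map (algebraMap K Ω)).eval a = 0 := (mem_roots'.mp ha).2
      obtain ⟨q, hq⟩ := hd
      have h3 : ((f.map (algebraMap k K)).map (algebraMap K Ω)).eval a = 0 := by
        rw [hq, Polynomial.map_mul, eval_mul, h2, zero_mul]
      rw [Polynomial.map_map, ← IsScalarTower.algebraMap_eq, eval_map_algebraMap] at h3
      exact h3
    have h4 : a ∈ F := mem_separableClosure_iff.mpr (isSeparable_of_aeval_eq_zero hf h1)
    exact ⟨⟨a, h4⟩, rfl⟩
  have hl := hsplit.mem_lift_of_roots_mem_range (hg.map _) (algebraMap F Ω) hroots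
  rw [lifts_iff_coeff_lifts] at hl ⊢
  intro n
  obtain ⟨c, hc⟩ := hl n
  rw [coeff_map] at hc
  have h5 : IsSeparable k (algebraMap K Ω (g.coeff n)) := by
    rw [← hc]
    exact mem_separableClosure_iff.mp c.2
  have h6 : IsSeparable k (g.coeff n) :=
    (isSeparable_map_iff (IsScalarTower.toAlgHom k K Ω) (algebraMap K Ω).injective).mp h5
  exact hK _ h6

/-- if `k` is separably closed in `K` then `k' ⊗ K` is a domain for finite separable `k'`. -/
theorem isDomain_tensor_of_sepClosedIn {k K k' : Type u} [Field k] [Field K] [Algebra k K]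
    (hK : ∀ α : K, IsSeparable k α → α ∈ Set.range (algebraMap k K))
    [Field k'] [Algebra k k'] [Module.Finite k k'] [Algebra.IsSeparable k k'] :
    IsDomain (k' ⊗[k] K) := by
  classical
  let pb := Field.powerBasisOfFiniteOfSeparable k k'
  let θ := pb.gen
  let f := minpoly k θ
  have hfsep : f.Separable := Algebra.IsSeparable.isSeparable k θ
  let Ω := AlgebraicClosure K
  let σ : k' →ₐ[k] Ω := IsAlgClosed.lift
  let θ' := σ θ
  have hθ' : aeval θ' f = 0 := by
    show aeval (σ θ) (minpoly k θ) = 0
    rw [aeval_algHom_apply, minpoly.aeval, map_zero]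
  let h := minpoly K θ'
  have hint : IsIntegral K θ' := Algebra.IsIntegral.isIntegral θ'
  have hmonic : h.Monic := minpoly.monic hint
  have hdvd : h ∣ f.map (algebraMap k K) := by
    apply minpoly.dvd
    rw [aeval_map_algebraMap]
    exact hθ'
  obtain ⟨h₀, hmap, hdeg, hmonic₀⟩ :=
    lifts_and_natDegree_eq_and_monic (mem_lifts_of_monic_of_dvd_map hK hfsep hmonic hdvd) hmonic
  have hroot₀ : aeval θ h₀ = 0 := by
    apply σ.toRingHom.injective
    show σ (aeval θ h₀) = σ 0
    rw [map_zero, ← aeval_algHom_apply]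
    have : aeval θ' (h₀.map (algebraMap k K)) = 0 := by
      rw [hmap]; exact minpoly.aeval K θ'
    rwa [aeval_map_algebraMap] at this
  have hle : pb.dim ≤ h.natDegree := by
    rw [← hdeg, ← pb.natDegree_minpoly]
    exact natDegree_le_natDegree (minpoly.min k θ hmonic₀ hroot₀)
  have hli : LinearIndependent K (fun i : Fin pb.dim => θ' ^ (i : ℕ)) :=
    (linearIndependent_pow θ').comp (Fin.castLE hle) (Fin.castLE_injective hle)
  let μ : k' ⊗[k] K →ₐ[k] Ω :=
    Algebra.TensorProduct.lift σ (IsScalarTower.toAlgHom k K Ω) (fun _ _ => Commute.all _ _)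
  have hμ : Function.Injective μ := by
    rw [injective_iff_map_eq_zero]
    intro z hz
    let e := TensorProduct.equivFinsuppOfBasisLeft (N := K) pb.basis
    obtain ⟨c, rfl⟩ := e.symm.surjective z
    rw [TensorProduct.equivFinsuppOfBasisLeft_symm_apply, Finsupp.sum_fintype _ _ (by simp),
      map_sum] at hz
    have h1 : ∀ i, μ (pb.basis i ⊗ₜ[k] c i) = c i • θ' ^ (i : ℕ) := by
      intro i
      simp only [μ, Algebra.TensorProduct.lift_tmul, PowerBasis.coe_basis, map_pow,
        IsScalarTower.coe_toAlgHom', Algebra.smul_def]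
      rw [mul_comm]
    simp_rw [h1] at hz
    have h2 := Fintype.linearIndependent_iff.mp hli (fun i => c i) hz
    have : c = 0 := by
      ext i
      exact h2 i
    rw [this, map_zero]
  exact hμ.isDomain μ.toRingHom

open Groth.Agent.S9627 in
/-- if `K/k` is geometrically irreducible then `k` is separably closed in `K`. -/
theorem mem_range_of_geomIrr {k K : Type u} [Field k] [Field K] [Algebra k K]
    (h : ∀ (k' : Type u) [Field k'] [Algebra k k'], IrreducibleSpace (PrimeSpectrum (k' ⊗[k] K)))
    (α : K) (hα : IsSeparable k α) : α ∈ Set.range (algebraMap k K) := by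
  classical
  by_contra hne
  let f := minpoly k α
  have hint : IsIntegral k α := hα.isIntegral
  haveI : Fact (Irreducible f) := ⟨minpoly.irreducible hint⟩
  let k' := AdjoinRoot f
  have hirr : IrreducibleSpace (PrimeSpectrum (K ⊗[k] k')) :=
    haveI := h k'
    irr_of_equiv (Algebra.TensorProduct.comm k K k').toRingEquiv
  have hprime := PrimeSpectrum.irreducibleSpace_iff_isPrime_nilradical.mp hirr
  let ρ : K ⊗[k] k' := 1 ⊗ₜ AdjoinRoot.root f
  let P : K[X] := f.map (algebraMap k K)
  have hPα : P.IsRoot α := by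
    show eval α (f.map (algebraMap k K)) = 0
    rw [eval_map_algebraMap]; exact minpoly.aeval k α
  let g : K[X] := P /ₘ (X - C α)
  have hPg : (X - C α) * g = P := mul_divByMonic_eq_iff_isRoot.mpr hPα
  have hρ : aeval ρ P = 0 := by
    show aeval ρ (f.map (algebraMap k K)) = 0
    rw [aeval_map_algebraMap]
    have : ρ = (Algebra.TensorProduct.includeRight : k' →ₐ[k] K ⊗[k] k') (AdjoinRoot.root f) := rfl
    rw [this, aeval_algHom_apply, AdjoinRoot.aeval_eq, AdjoinRoot.mk_self, map_zero]
  let u : K ⊗[k] k' := ρ - algebraMap K (K ⊗[k] k') α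
  let v : K ⊗[k] k' := aeval ρ g
  have huv : u * v = 0 := by
    have : u = aeval ρ (X - C α) := by simp [u]
    rw [this, ← map_mul, hPg, hρ]
  -- g(α) ≠ 0
  have hgα : g.eval α ≠ 0 := by
    have h1 : aeval α (derivative f) ≠ 0 := hα.aeval_derivative_ne_zero (minpoly.aeval k α)
    have h2 : aeval α (derivative f) = (derivative P).eval α := by
      rw [← eval_map_algebraMap, derivative_map]
    rw [h2, ← hPg, derivative_mul] at h1
    simpa using h1
  -- φ₁ : root ↦ α
  have hroot1 : f.eval₂ (Algebra.ofId k K : k →ₐ[k] K) α = 0 := by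
    have := minpoly.aeval k α
    rwa [aeval_def] at this
  let φ₁ : K ⊗[k] k' →ₐ[K] K :=
    Algebra.TensorProduct.lift (AlgHom.id K K)
      (AdjoinRoot.liftAlgHom f (Algebra.ofId k K) α hroot1) (fun _ _ => Commute.all _ _)
  have hφ₁ρ : φ₁ ρ = α := by
    simp only [φ₁, ρ, Algebra.TensorProduct.lift_tmul, map_one, one_mul]
    exact AdjoinRoot.liftAlgHom_root _ _ _ _
  have hv : v ∉ nilradical (K ⊗[k] k') := by
    intro hv
    obtain ⟨n, hn⟩ := mem_nilradical.mp hv
    have h1 : φ₁ v = g.eval α := by
      show φ₁ (aeval ρ g) = _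
      rw [← aeval_algHom_apply, hφ₁ρ, coe_aeval_eq_eval]
    have h2 : (g.eval α) ^ n = 0 := by rw [← h1, ← map_pow, hn, map_zero]
    by_cases hn0 : n = 0
    · subst hn0; simp at h2
    · exact hgα ((pow_eq_zero_iff hn0).mp h2)
  -- a root β of g in the algebraic closure
  let Ω := AlgebraicClosure K
  have hgdeg : (g.map (algebraMap K Ω)).degree ≠ 0 := by
    have hfdeg : 2 ≤ f.natDegree := by
      have h1 : 0 < f.natDegree := minpoly.natDegree_pos hint
      have h2 : f.natDegree ≠ 1 := by
        intro h2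
        exact hne ((minpoly.natDegree_eq_one_iff).mp h2)
      omega
    have hg0 : g ≠ 0 := by
      rintro h0
      rw [h0, eval_zero] at hgα
      exact hgα rfl
    have hdeg : P.natDegree = 1 + g.natDegree := by
      rw [← hPg, natDegree_mul (X_sub_C_ne_zero α) hg0, natDegree_X_sub_C]
    have hPdeg : P.natDegree = f.natDegree := natDegree_map _
    rw [degree_map, degree_eq_natDegree hg0]
    have : g.natDegree ≠ 0 := by omega
    exact_mod_cast this
  obtain ⟨β, hβ⟩ := IsAlgClosed.exists_root _ hgdeg
  have hβg : aeval β g = 0 := by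
    rw [IsRoot, eval_map_algebraMap] at hβ; exact hβ
  have hβα : β ≠ algebraMap K Ω α := by
    rintro rfl
    rw [aeval_algebraMap_apply, coe_aeval_eq_eval] at hβg
    exact hgα ((algebraMap K Ω).injective (by rw [hβg, map_zero]))
  have hroot2 : f.eval₂ (IsScalarTower.toAlgHom k k Ω : k →ₐ[k] Ω) β = 0 := by
    have h1 : aeval β P = 0 := by
      rw [← hPg, map_mul, hβg, mul_zero]
    have h2 : aeval β f = 0 := by
      rwa [aeval_map_algebraMap] at h1
    rwa [aeval_def] at h2
  let φ₂ : K ⊗[k] k' →ₐ[K] Ω :=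
    Algebra.TensorProduct.lift (Algebra.ofId K Ω)
      (AdjoinRoot.liftAlgHom f (IsScalarTower.toAlgHom k k Ω) β hroot2) (fun _ _ => Commute.all _ _)
  have hφ₂ρ : φ₂ ρ = β := by
    simp only [φ₂, ρ, Algebra.TensorProduct.lift_tmul, map_one, one_mul]
    exact AdjoinRoot.liftAlgHom_root _ _ _ _
  have hu : u ∉ nilradical (K ⊗[k] k') := by
    intro hu
    obtain ⟨n, hn⟩ := mem_nilradical.mp hu
    have h1 : φ₂ u = β - algebraMap K Ω α := by
      show φ₂ (ρ - algebraMap K (K ⊗[k] k') α) = _
      rw [map_sub, hφ₂ρ, AlgHom.commutes]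
    have h2 : (β - algebraMap K Ω α) ^ n = 0 := by rw [← h1, ← map_pow, hn, map_zero]
    have h3 : β - algebraMap K Ω α = 0 := by
      by_cases hn0 : n = 0
      · subst hn0; simp at h2
      · exact (pow_eq_zero_iff hn0).mp h2
    exact hβα (sub_eq_zero.mp h3)
  have hmem : u * v ∈ nilradical (K ⊗[k] k') := by rw [huv]; exact Ideal.zero_mem _
  rcases hprime.mem_or_mem hmem with h1 | h1
  · exact hu h1
  · exact hv h1

end Groth.Agent.Lib.Helper22.GeomIrr4
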