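import Mathlib

set_option autoImplicit false
set_option linter.style.haveILetI false
universe u
noncomputable section
namespace Groth.Agent.Lib.Helper22.GalTrans

open TensorProduct

variable {k K F : Type u} [Field k] [Field K] [Algebra k K] [Field F] [Algebra k F]

/-- the map `F ⊗ K → Ω` attached to an embedding of `F`. -/
def evalHom (j : F →ₐ[k] AlgebraicClosure K) : F ⊗[k] K →ₐ[k] AlgebraicClosure K :=
  Algebra.TensorProduct.lift j (IsScalarTower.toAlgHom k K (AlgebraicClosure K))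
    (fun _ _ => Commute.all _ _)

/-- every prime of `F ⊗ K` (with `F/k` algebraic) is the kernel of an evaluation map -/
theorem exists_embedding_ker_eq [Algebra.IsAlgebraic k F] (P : Ideal (F ⊗[k] K)) [hP : P.IsPrime] :
    ∃ j : F →ₐ[k] AlgebraicClosure K, RingHom.ker (evalHom j).toRingHom = P := by
  let Ω := AlgebraicClosure K
  -- work in T' = K ⊗ F
  let e : (F ⊗[k] K) ≃ₐ[k] (K ⊗[k] F) := Algebra.TensorProduct.comm k F K
  let P' : Ideal (K ⊗[k] F) := P.comap e.symm.toRingEquiv.toRingHom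
  haveI hP' : P'.IsPrime := Ideal.comap_isPrime _ _
  haveI : Algebra.IsIntegral k F := Algebra.IsAlgebraic.isIntegral
  haveI hmax : P'.IsMaximal := by
    apply Ideal.isMaximal_of_isIntegral_of_isMaximal_comap (R := K) P'
    have : P'.comap (algebraMap K (K ⊗[k] F)) = ⊥ := by
      refine (Ideal.eq_bot_or_top _).resolve_right ?_
      exact (Ideal.comap_isPrime _ _).ne_top
    rw [this]
    exact Ideal.bot_isMaximal
  letI : Field ((K ⊗[k] F) ⧸ P') := Ideal.Quotient.field P'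
  haveI : Algebra.IsIntegral K ((K ⊗[k] F) ⧸ P') :=
    Algebra.IsIntegral.of_surjective (Ideal.Quotient.mkₐ K P') Ideal.Quotient.mk_surjective
  haveI : Module.IsTorsionFree K ((K ⊗[k] F) ⧸ P') :=
    DivisionSemiring.to_moduleIsTorsionFree
  haveI : Algebra.IsAlgebraic K ((K ⊗[k] F) ⧸ P') := Algebra.IsIntegral.isAlgebraic
  let ι : ((K ⊗[k] F) ⧸ P') →ₐ[K] Ω := IsAlgClosed.lift
  let ψ : (K ⊗[k] F) →ₐ[K] Ω := ι.comp (Ideal.Quotient.mkₐ K P')
  have hψ : RingHom.ker ψ.toRingHom = P' := by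
    ext x
    simp only [RingHom.mem_ker]
    show ι (Ideal.Quotient.mk P' x) = 0 ↔ x ∈ P'
    rw [map_eq_zero_iff ι ι.toRingHom.injective, Ideal.Quotient.eq_zero_iff_mem]
  let j : F →ₐ[k] Ω := (ψ.restrictScalars k).comp Algebra.TensorProduct.includeRight
  refine ⟨j, ?_⟩
  have hcomp : (evalHom j) = (ψ.restrictScalars k).comp e.toAlgHom := by
    apply Algebra.TensorProduct.ext'
    intro a b
    simp only [evalHom, Algebra.TensorProduct.lift_tmul, IsScalarTower.coe_toAlgHom',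
      AlgHom.coe_comp, AlgHom.coe_restrictScalars', Function.comp_apply, j, e,
      Algebra.TensorProduct.includeRight_apply]
    rw [← AlgHom.commutes ψ b, ← map_mul]
    congr 1
    rw [Algebra.TensorProduct.algebraMap_apply, Algebra.TensorProduct.tmul_mul_tmul, one_mul,
      mul_one]
    rfl
  ext x
  rw [RingHom.mem_ker]
  show evalHom j x = 0 ↔ x ∈ P
  rw [hcomp]
  show ψ (e x) = 0 ↔ x ∈ P
  have : ψ (e x) = 0 ↔ e x ∈ P' := by
    rw [← hψ, RingHom.mem_ker]; rfl
  rw [this]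
  show e.symm (e x) ∈ P ↔ x ∈ P
  rw [AlgEquiv.symm_apply_apply]

/-- two embeddings of a normal extension differ by an automorphism -/
theorem exists_algEquiv_comp_eq {Ω : Type*} [Field Ω] [Algebra k Ω] [Normal k F]
    (j₁ j₂ : F →ₐ[k] Ω) : ∃ σ : F ≃ₐ[k] F, ∀ x, j₁ (σ x) = j₂ x := by
  haveI : Algebra.IsAlgebraic k F := (inferInstance : Normal k F).toIsAlgebraic
  have hmem : ∀ x : F, j₂ x ∈ j₁.range := by
    intro x
    have hs := Normal.splits (inferInstance : Normal k F) x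
    have h1 : j₂ x ∈ (minpoly k x).rootSet Ω := by
      rw [Polynomial.mem_rootSet]
      refine ⟨minpoly.ne_zero (Algebra.IsIntegral.isIntegral x), ?_⟩
      rw [Polynomial.aeval_algHom_apply, minpoly.aeval, map_zero]
    rw [← hs.image_rootSet j₁] at h1
    obtain ⟨y, -, hy⟩ := h1
    exact ⟨y, hy⟩
  let e₁ : F ≃ₐ[k] j₁.range := AlgEquiv.ofInjectiveField j₁
  let σ₀ : F →ₐ[k] F := (e₁.symm : j₁.range →ₐ[k] F).comp (j₂.codRestrict j₁.range hmem)
  have hσ₀ : ∀ x, j₁ (σ₀ x) = j₂ x := by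
    intro x
    have h1 : (e₁ (σ₀ x) : Ω) = j₁ (σ₀ x) := rfl
    rw [← h1]
    show ((e₁ (e₁.symm (j₂.codRestrict j₁.range hmem x)) : j₁.range) : Ω) = j₂ x
    rw [AlgEquiv.apply_symm_apply]
    rfl
  have hbij : Function.Bijective σ₀ := Algebra.IsAlgebraic.algHom_bijective σ₀
  exact ⟨AlgEquiv.ofBijective σ₀ hbij, hσ₀⟩

/-- **Transitivity**: for a normal algebraic extension `F/k`, `Aut(F/k)` acts transitively on
the primes of `F ⊗ K`. -/
theorem exists_algEquiv_comap_eq [Normal k F] (P Q : Ideal (F ⊗[k] K)) [P.IsPrime] [Q.IsPrime] :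
    ∃ σ : F ≃ₐ[k] F,
      Q = P.comap (Algebra.TensorProduct.map (σ : F →ₐ[k] F) (AlgHom.id k K)) := by
  haveI : Algebra.IsAlgebraic k F := (inferInstance : Normal k F).toIsAlgebraic
  obtain ⟨jP, hjP⟩ := exists_embedding_ker_eq P
  obtain ⟨jQ, hjQ⟩ := exists_embedding_ker_eq Q
  obtain ⟨σ, hσ⟩ := exists_algEquiv_comp_eq jP jQ
  refine ⟨σ, ?_⟩
  have hcomp : evalHom jQ =
      (evalHom jP).comp (Algebra.TensorProduct.map (σ : F →ₐ[k] F) (AlgHom.id k K)) := by
    apply Algebra.TensorProduct.ext'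
    intro a b
    simp only [evalHom, Algebra.TensorProduct.lift_tmul, AlgHom.coe_comp, Function.comp_apply,
      Algebra.TensorProduct.map_tmul, AlgHom.coe_id, id_eq]
    rw [← hσ a]
    rfl
  ext x
  rw [← hjQ, ← hjP, Ideal.mem_comap, RingHom.mem_ker, RingHom.mem_ker]
  show evalHom jQ x = 0 ↔ evalHom jP _ = 0
  rw [hcomp]
  rfl

end Groth.Agent.Lib.Helper22.GalTrans
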