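import Mathlib
import Groth.Agent.Lib.Helper22.GalTrans
import Groth.Agent.S6333
import Groth.Agent.S2150

/-!
# Primes of `F ⊗_K L` for `F/K` finitely generated and `L/K` Galois (helper22)

`finite_primeSpectrum_tensor`: finitely many primes (via the algebraic closure `K₁` of `K` in `F`, finite by S6333,
separably closed in `F`, so primes of `F ⊗_{K₁} R` are determined by their contraction to `R = K₁ ⊗_K L`).
`exists_algEquiv_comap_eq_right`: `Aut(L/K)` acts transitively on them.
-/

set_option autoImplicit false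
set_option linter.style.haveILetI false
universe u
noncomputable section
namespace Groth.Agent.Lib.Helper22.GalPrimes

open TensorProduct

/-- If `k` is separably closed in `F` and `κ/k` is algebraic, then `F ⊗ κ` has at most one prime. -/
theorem prime_unique_of_sepClosedIn {k F κ : Type u} [Field k] [Field F] [Algebra k F] [Field κ]
    [Algebra k κ] [Algebra.IsAlgebraic k κ]
    (hF : ∀ α : F, IsSeparable k α → α ∈ Set.range (algebraMap k F))
    (P Q : Ideal (F ⊗[k] κ)) [hP : P.IsPrime] [hQ : Q.IsPrime] : P = Q := by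
  haveI h1 : IrreducibleSpace (PrimeSpectrum (κ ⊗[k] F)) := (Groth.Agent.S2150.result.mpr hF) κ
  haveI h2 : IrreducibleSpace (PrimeSpectrum (F ⊗[k] κ)) :=
    Groth.Agent.S9627.irr_of_equiv (Algebra.TensorProduct.comm k F κ).toRingEquiv
  rw [PrimeSpectrum.irreducibleSpace_iff_isPrime_nilradical] at h2
  haveI : Algebra.IsIntegral k κ := Algebra.IsAlgebraic.isIntegral
  haveI : Algebra.IsIntegral F (F ⊗[k] κ) := inferInstance
  have hmax : ∀ (I : Ideal (F ⊗[k] κ)) [I.IsPrime], I.IsMaximal := by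
    intro I _
    apply Ideal.isMaximal_of_isIntegral_of_isMaximal_comap (R := F) I
    rw [Ideal.eq_bot_of_prime (I.comap (algebraMap F (F ⊗[k] κ)))]
    exact Ideal.bot_isMaximal
  have hN := hmax (nilradical (F ⊗[k] κ))
  rw [← hN.eq_of_le hP.ne_top (nilradical_le_prime P), ← hN.eq_of_le hQ.ne_top (nilradical_le_prime Q)]

/-- The kernel of `F ⊗ R → F ⊗ R/m` lies in any ideal whose contraction contains `m`. -/
theorem ker_map_mk_le {k F R : Type u} [Field k] [Field F] [Algebra k F] [CommRing R] [Algebra k R]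
    (m : Ideal R) (𝔓 : Ideal (F ⊗[k] R))
    (hm : m ≤ 𝔓.comap (Algebra.TensorProduct.includeRight : R →ₐ[k] F ⊗[k] R).toRingHom) :
    RingHom.ker (Algebra.TensorProduct.map (AlgHom.id F F) (Ideal.Quotient.mkₐ k m)).toRingHom
      ≤ 𝔓 := by
  intro x hx
  have hx' : (Ideal.Quotient.mkₐ k m).toLinearMap.lTensor F x = 0 := hx
  have hex : Function.Exact (m.restrictScalars k).subtype (Ideal.Quotient.mkₐ k m).toLinearMap := by
    intro t
    constructor
    · intro ht
      have : t ∈ m := by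
        have : Ideal.Quotient.mk m t = 0 := ht
        rwa [Ideal.Quotient.eq_zero_iff_mem] at this
      exact ⟨⟨t, this⟩, rfl⟩
    · rintro ⟨⟨t, ht⟩, rfl⟩
      exact Ideal.Quotient.eq_zero_iff_mem.mpr ht
  have hE := lTensor_exact F hex (Ideal.Quotient.mkₐ_surjective k m)
  obtain ⟨y, rfl⟩ := (hE x).mp hx'
  clear hx hx'
  induction y using TensorProduct.induction_on with
  | zero => simp
  | tmul s n =>
    rw [LinearMap.lTensor_tmul, Submodule.subtype_apply]
    have h1 : ((1 : F) ⊗ₜ[k] (n : R) : F ⊗[k] R) ∈ 𝔓 := hm n.2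
    have h2 : (s ⊗ₜ[k] (n : R) : F ⊗[k] R) = (s ⊗ₜ[k] (1 : R)) * ((1 : F) ⊗ₜ[k] (n : R)) := by
      rw [Algebra.TensorProduct.tmul_mul_tmul, mul_one, one_mul]
    rw [h2]
    exact 𝔓.mul_mem_left _ h1
  | add a b ha hb =>
    rw [map_add]
    exact 𝔓.add_mem ha hb

/-- Primes of `F ⊗ R` are determined by their contraction to `R`, when `k` is separably closed in
`F` and `R` is integral over `k`. -/
theorem eq_of_comap_eq {k F R : Type u} [Field k] [Field F] [Algebra k F] [CommRing R] [Algebra k R]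
    [Algebra.IsIntegral k R]
    (hF : ∀ α : F, IsSeparable k α → α ∈ Set.range (algebraMap k F))
    (𝔓 𝔓' : Ideal (F ⊗[k] R)) [h𝔓 : 𝔓.IsPrime] [h𝔓' : 𝔓'.IsPrime]
    (h : 𝔓.comap (Algebra.TensorProduct.includeRight : R →ₐ[k] F ⊗[k] R).toRingHom =
      𝔓'.comap (Algebra.TensorProduct.includeRight : R →ₐ[k] F ⊗[k] R).toRingHom) : 𝔓 = 𝔓' := by
  set m := 𝔓.comap (Algebra.TensorProduct.includeRight : R →ₐ[k] F ⊗[k] R).toRingHom with hm
  haveI hmp : m.IsPrime := Ideal.comap_isPrime _ _
  haveI hmm : m.IsMaximal := by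
    apply Ideal.isMaximal_of_isIntegral_of_isMaximal_comap (R := k) m
    rw [Ideal.eq_bot_of_prime (m.comap (algebraMap k R))]
    exact Ideal.bot_isMaximal
  letI : Field (R ⧸ m) := Ideal.Quotient.field m
  haveI : Algebra.IsIntegral k (R ⧸ m) :=
    Algebra.IsIntegral.of_surjective (Ideal.Quotient.mkₐ k m) (Ideal.Quotient.mkₐ_surjective k m)
  haveI : Algebra.IsAlgebraic k (R ⧸ m) := Algebra.IsIntegral.isAlgebraic
  let π := (Algebra.TensorProduct.map (AlgHom.id F F) (Ideal.Quotient.mkₐ k m))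
  have hπs : Function.Surjective π.toRingHom :=
    Algebra.TensorProduct.map_surjective _ _ Function.surjective_id (Ideal.Quotient.mkₐ_surjective k m)
  have hk : RingHom.ker π.toRingHom ≤ 𝔓 := ker_map_mk_le m 𝔓 le_rfl
  have hk' : RingHom.ker π.toRingHom ≤ 𝔓' := ker_map_mk_le m 𝔓' h.le
  haveI p1 : (𝔓.map π.toRingHom).IsPrime := Ideal.map_isPrime_of_surjective hπs hk
  haveI p2 : (𝔓'.map π.toRingHom).IsPrime := Ideal.map_isPrime_of_surjective hπs hk'
  have heq := prime_unique_of_sepClosedIn hF (𝔓.map π.toRingHom) (𝔓'.map π.toRingHom)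
  have e1 := Ideal.comap_map_of_surjective π.toRingHom hπs 𝔓
  have e2 := Ideal.comap_map_of_surjective π.toRingHom hπs 𝔓'
  have k1 : Ideal.comap π.toRingHom ⊥ ≤ 𝔓 := hk
  have k2 : Ideal.comap π.toRingHom ⊥ ≤ 𝔓' := hk'
  rw [sup_eq_left.mpr k1] at e1
  rw [sup_eq_left.mpr k2] at e2
  rw [← e1, ← e2, heq]

/-- Core finiteness statement with an abstract intermediate field `K₁`. -/
theorem finite_primeSpectrum_tensor_aux {K K₁ F L : Type u} [Field K] [Field K₁] [Field F]
    [Algebra K K₁] [Algebra K F] [Algebra K₁ F] [IsScalarTower K K₁ F] [Field L]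
    [Algebra K L] [Algebra.IsAlgebraic K L] [FiniteDimensional K K₁]
    (hsep : ∀ α : F, IsSeparable K₁ α → α ∈ Set.range (algebraMap K₁ F)) :
    Finite (PrimeSpectrum (F ⊗[K] L)) := by
  haveI : Algebra.IsIntegral K L := Algebra.IsAlgebraic.isIntegral
  haveI : Algebra.IsIntegral K₁ (K₁ ⊗[K] L) := inferInstance
  -- finitely many primes of `K₁ ⊗ L`
  haveI hfinR : Finite (PrimeSpectrum (K₁ ⊗[K] L)) := by
    haveI : Module.Finite L (L ⊗[K] K₁) := inferInstance
    haveI : IsArtinianRing (L ⊗[K] K₁) := by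
      convert (IsArtinianRing.of_finite L (L ⊗[K] K₁))
    let e : (K₁ ⊗[K] L) ≃ₐ[K] (L ⊗[K] K₁) := Algebra.TensorProduct.comm K K₁ L
    exact Finite.of_injective (PrimeSpectrum.comap e.symm.toRingEquiv.toRingHom)
      (PrimeSpectrum.comap_injective_of_surjective _ e.symm.surjective)
  -- contraction is injective
  haveI hfinT : Finite (PrimeSpectrum (F ⊗[K₁] (K₁ ⊗[K] L))) := by
    refine Finite.of_injective (PrimeSpectrum.comap
      (Algebra.TensorProduct.includeRight : (K₁ ⊗[K] L) →ₐ[K₁] F ⊗[K₁] (K₁ ⊗[K] L)).toRingHom) ?_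
    intro 𝔓 𝔓' h
    have h' := congrArg PrimeSpectrum.asIdeal h
    exact PrimeSpectrum.ext (eq_of_comap_eq hsep 𝔓.asIdeal 𝔓'.asIdeal h')
  let e := Algebra.TensorProduct.cancelBaseChange K K₁ K₁ F L
  exact Finite.of_injective (PrimeSpectrum.comap e.toRingEquiv.toRingHom)
    (PrimeSpectrum.comap_injective_of_surjective _ e.surjective)

/-- For a finitely generated field extension `F/K` and an algebraic extension `L/K`, the ring
`F ⊗_K L` has finitely many primes. -/
theorem finite_primeSpectrum_tensor {K F L : Type u} [Field K] [Field F] [Algebra K F] [Field L]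
    [Algebra K L] [Algebra.IsAlgebraic K L] (hfg : (⊤ : IntermediateField K F).FG) :
    Finite (PrimeSpectrum (F ⊗[K] L)) := by
  haveI : FiniteDimensional K (algebraicClosure K F) := Groth.Agent.S6333.result hfg
  refine finite_primeSpectrum_tensor_aux (K₁ := algebraicClosure K F) ?_
  intro α hα
  have h1 : IsIntegral (algebraicClosure K F) α := hα.isIntegral
  haveI : Algebra.IsIntegral K (algebraicClosure K F) := Algebra.IsIntegral.of_finite K _
  have h2 : IsIntegral K α := isIntegral_trans (R := K) (A := algebraicClosure K F) α h1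
  have h3 : α ∈ algebraicClosure K F := (mem_algebraicClosure_iff').mpr h2
  exact ⟨⟨α, h3⟩, rfl⟩

/-- Transitivity of the Galois action on the primes of `F ⊗_K L` (acting on the right factor). -/
theorem exists_algEquiv_comap_eq_right {K F L : Type u} [Field K] [Field F] [Algebra K F] [Field L]
    [Algebra K L] [Normal K L] (P Q : Ideal (F ⊗[K] L)) [P.IsPrime] [Q.IsPrime] :
    ∃ γ : L ≃ₐ[K] L,
      Q = P.comap (Algebra.TensorProduct.map (AlgHom.id K F) (γ : L →ₐ[K] L)) := by
  let c : (L ⊗[K] F) ≃ₐ[K] (F ⊗[K] L) := Algebra.TensorProduct.comm K L F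
  let P' : Ideal (L ⊗[K] F) := P.comap c.toRingEquiv.toRingHom
  let Q' : Ideal (L ⊗[K] F) := Q.comap c.toRingEquiv.toRingHom
  haveI : P'.IsPrime := Ideal.comap_isPrime _ _
  haveI : Q'.IsPrime := Ideal.comap_isPrime _ _
  obtain ⟨σ, hσ⟩ := Groth.Agent.Lib.Helper22.GalTrans.exists_algEquiv_comap_eq P' Q'
  refine ⟨σ, ?_⟩
  have key : ∀ x : F ⊗[K] L,
      c (Algebra.TensorProduct.map (σ : L →ₐ[K] L) (AlgHom.id K F) (c.symm x))
      = Algebra.TensorProduct.map (AlgHom.id K F) (σ : L →ₐ[K] L) x := by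
    intro x
    induction x using TensorProduct.induction_on with
    | zero => simp
    | tmul a b => simp [c]
    | add a b ha hb => simp only [map_add, ha, hb]
  ext x
  have hx : x ∈ Q ↔ c.symm x ∈ Q' := by
    show x ∈ Q ↔ c (c.symm x) ∈ Q
    rw [AlgEquiv.apply_symm_apply]
  rw [hx, hσ, Ideal.mem_comap, Ideal.mem_comap]
  show c (Algebra.TensorProduct.map (σ : L →ₐ[K] L) (AlgHom.id K F) (c.symm x)) ∈ P ↔ _
  rw [key]
  exact Iff.rfl

end Groth.Agent.Lib.Helper22.GalPrimes
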