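import Mathlib
import Groth.Agent.Lib.Helper22.GeomIrr

set_option autoImplicit false
set_option linter.style.haveILetI false
universe u
noncomputable section
namespace Groth.Agent.Lib.Helper22.SchGeomIrr

open TensorProduct CategoryTheory CategoryTheory.Limits AlgebraicGeometry

/-- Over an algebraically closed field `k`, `Spec K ⟶ Spec k` is geometrically irreducible for
every field extension `K/k`. -/
theorem geometricallyIrreducible_specMap {k K : Type u} [Field k] [IsAlgClosed k] [Field K]
    [Algebra k K] :
    GeometricallyIrreducible (Spec.map (CommRingCat.ofHom (algebraMap k K))) := by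
  rw [GeometricallyIrreducible.eq_geometrically,
    geometrically_iff_of_commRing_of_isClosedUnderIsomorphisms]
  intro K' _ _
  haveI : IsDomain (K ⊗[k] K') := Groth.Agent.Lib.Helper22.GeomIrr.isDomain_tensor
  rw [(pullbackSpecIso k K K').hom.homeomorph.irreducibleSpace_iff]
  exact inferInstanceAs (IrreducibleSpace (PrimeSpectrum (K ⊗[k] K')))

/-- Over an algebraically closed field `k`, `Spec K ⟶ Spec k` is geometrically connected for
every field extension `K/k`. -/
theorem geometricallyConnected_specMap {k K : Type u} [Field k] [IsAlgClosed k] [Field K]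
    [Algebra k K] :
    GeometricallyConnected (Spec.map (CommRingCat.ofHom (algebraMap k K))) := by
  rw [GeometricallyConnected.eq_geometrically,
    geometrically_iff_of_commRing_of_isClosedUnderIsomorphisms]
  intro K' _ _
  haveI : IsDomain (K ⊗[k] K') := Groth.Agent.Lib.Helper22.GeomIrr.isDomain_tensor
  haveI : IrreducibleSpace (Spec (CommRingCat.of (K ⊗[k] K'))) :=
    inferInstanceAs (IrreducibleSpace (PrimeSpectrum (K ⊗[k] K')))
  haveI : IrreducibleSpace ↥(pullback (Spec.map (CommRingCat.ofHom (algebraMap k K)))
      (Spec.map (CommRingCat.ofHom (algebraMap k K')))) :=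
    (pullbackSpecIso k K K').hom.homeomorph.irreducibleSpace_iff.mpr inferInstance
  infer_instance

instance subsingleton_spec_field {K : Type u} [Field K] :
    Subsingleton ↥(Spec (CommRingCat.of K)) :=
  inferInstanceAs (Subsingleton (PrimeSpectrum K))

/-- Preimages of connected sets under an open continuous map with connected fibres are connected
(no closedness needed). -/
theorem isConnected_preimage_of_isOpenMap {α β : Type*} [TopologicalSpace α] [TopologicalSpace β]
    {f : α → β} (hc : Continuous f) (ho : IsOpenMap f)
    (hfib : ∀ t, IsConnected (f ⁻¹' {t})) {Z : Set β} (hZ : IsConnected Z) :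
    IsConnected (f ⁻¹' Z) := by
  have hsurj : Function.Surjective f := fun t => by
    obtain ⟨x, hx⟩ := (hfib t).nonempty
    exact ⟨x, hx⟩
  let q : f ⁻¹' Z → Z := Z.restrictPreimage f
  have hqo : IsOpenMap q := ho.restrictPreimage Z
  have hqc : Continuous q := hc.restrictPreimage
  have hqs : Function.Surjective q := by
    rintro ⟨z, hz⟩
    obtain ⟨x, rfl⟩ := hsurj z
    exact ⟨⟨x, hz⟩, rfl⟩
  have hqfib : ∀ t : Z, IsConnected (q ⁻¹' {t}) := by
    rintro ⟨z, hz⟩
    have himg : (Subtype.val : f ⁻¹' Z → α) '' (q ⁻¹' {⟨z, hz⟩}) = f ⁻¹' {z} := by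
      ext x
      constructor
      · rintro ⟨⟨y, hy⟩, hy', rfl⟩
        have : q ⟨y, hy⟩ = ⟨z, hz⟩ := hy'
        exact congrArg Subtype.val this
      · intro hx
        have hx' : f x = z := hx
        refine ⟨⟨x, by change f x ∈ Z; rw [hx']; exact hz⟩, ?_, rfl⟩
        change q _ = _
        exact Subtype.ext hx'
    have h1 : IsConnected ((Subtype.val : f ⁻¹' Z → α) '' (q ⁻¹' {⟨z, hz⟩})) := by
      rw [himg]; exact hfib z
    refine ⟨?_, ?_⟩
    · obtain ⟨x, hx⟩ := h1.nonempty
      obtain ⟨y, hy, _⟩ := hx
      exact ⟨y, hy⟩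
    · exact (Topology.IsInducing.subtypeVal.isPreconnected_image).mp h1.isPreconnected
  haveI : ConnectedSpace Z := isConnected_iff_connectedSpace.mp hZ
  have hcoind : Topology.IsCoinducing q := (hqo.isQuotientMap hqc hqs).isCoinducing
  have := hcoind.isConnected_preimage_of_isClosed hqfib isClosed_univ isConnected_univ
  rw [Set.preimage_univ] at this
  exact isConnected_iff_connectedSpace.mpr (connectedSpace_iff_univ.mpr this)

end Groth.Agent.Lib.Helper22.SchGeomIrr
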