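import Mathlib
import Groth.Prelude.Def_FDesc
import Groth.Agent.Lib.Helper22.SchGeomIrr
import Groth.Agent.Lib.Helper15.GeomDesc2

set_option autoImplicit false
set_option linter.style.haveILetI false
universe u
noncomputable section
namespace Groth.Agent.Lib.Helper22.SchBC

open TensorProduct CategoryTheory CategoryTheory.Limits AlgebraicGeometry

/-- Two extensions of a field have a common algebraically closed extension. -/
theorem exists_common_algClosed (k K Ω : Type u) [Field k] [Field K] [Field Ω] [Algebra k K]
    [Algebra k Ω] :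
    ∃ (Ω' : Type u) (_ : Field Ω') (_ : IsAlgClosed Ω') (a : K →+* Ω') (b : Ω →+* Ω'),
      a.comp (algebraMap k K) = b.comp (algebraMap k Ω) := by
  have hnt : Nontrivial (K ⊗[k] Ω) :=
    Algebra.TensorProduct.nontrivial_of_algebraMap_injective_of_flat_left (R := k) K Ω
      (algebraMap k Ω).injective
  obtain ⟨m, hm⟩ := Ideal.exists_maximal (K ⊗[k] Ω)
  letI : Field ((K ⊗[k] Ω) ⧸ m) := Ideal.Quotient.field m
  let E := AlgebraicClosure ((K ⊗[k] Ω) ⧸ m)
  let ιK : K →+* E := (algebraMap ((K ⊗[k] Ω) ⧸ m) E).comp ((Ideal.Quotient.mk m).comp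
    (Algebra.TensorProduct.includeLeft (R := k) (S := k) (A := K) (B := Ω)).toRingHom)
  let ιΩ : Ω →+* E := (algebraMap ((K ⊗[k] Ω) ⧸ m) E).comp ((Ideal.Quotient.mk m).comp
    (Algebra.TensorProduct.includeRight (R := k) (A := K) (B := Ω)).toRingHom)
  refine ⟨E, inferInstance, inferInstance, ιK, ιΩ, ?_⟩
  ext c
  simp only [ιK, ιΩ, RingHom.comp_apply, AlgHom.toRingHom_eq_coe, RingHom.coe_coe, AlgHom.commutes]

variable {k : Type u} [Field k] {X : Scheme.{u}} (f : X ⟶ Spec (CommRingCat.of k))

/-- The transition morphism `X_L ⟶ X_K` for a tower `k ⊆ K ⊆ L`. -/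
def bcMap (K L : Type u) [Field K] [Field L] [Algebra k K] [Algebra k L] [Algebra K L]
    [IsScalarTower k K L] : FBase.bc f L ⟶ FBase.bc f K :=
  pullback.lift (FBase.bcπ f L) (FBase.bcStr f L ≫ Spec.map (CommRingCat.ofHom (algebraMap K L)))
    (by
      rw [Category.assoc, ← Spec.map_comp, ← CommRingCat.ofHom_comp,
        ← IsScalarTower.algebraMap_eq]
      exact pullback.condition)

theorem bcMap_bcπ (K L : Type u) [Field K] [Field L] [Algebra k K] [Algebra k L] [Algebra K L]
    [IsScalarTower k K L] : bcMap f K L ≫ FBase.bcπ f K = FBase.bcπ f L :=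
  pullback.lift_fst _ _ _

theorem bcMap_bcStr (K L : Type u) [Field K] [Field L] [Algebra k K] [Algebra k L] [Algebra K L]
    [IsScalarTower k K L] :
    bcMap f K L ≫ FBase.bcStr f K =
      FBase.bcStr f L ≫ Spec.map (CommRingCat.ofHom (algebraMap K L)) :=
  pullback.lift_snd _ _ _

theorem isPullback_bcMap (K L : Type u) [Field K] [Field L] [Algebra k K] [Algebra k L]
    [Algebra K L] [IsScalarTower k K L] :
    IsPullback (bcMap f K L) (FBase.bcStr f L) (FBase.bcStr f K)
      (Spec.map (CommRingCat.ofHom (algebraMap K L))) := by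
  have hK : IsPullback (FBase.bcπ f K) (FBase.bcStr f K) f
      (Spec.map (CommRingCat.ofHom (algebraMap k K))) := IsPullback.of_hasPullback _ _
  have hL : IsPullback (FBase.bcπ f L) (FBase.bcStr f L) f
      (Spec.map (CommRingCat.ofHom (algebraMap k L))) := IsPullback.of_hasPullback _ _
  refine IsPullback.of_right ?_ (bcMap_bcStr f K L) hK
  rw [bcMap_bcπ, ← Spec.map_comp, ← CommRingCat.ofHom_comp, ← IsScalarTower.algebraMap_eq]
  exact hL

theorem surjective_bcMap (K L : Type u) [Field K] [Field L] [Algebra k K] [Algebra k L]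
    [Algebra K L] [IsScalarTower k K L] : Surjective (bcMap f K L) :=
  MorphismProperty.of_isPullback (P := @Surjective) (isPullback_bcMap f K L).flip
    (Groth.Agent.Lib.Helper15.GeomDesc.surjective_specMap_field (algebraMap K L))

theorem universallyOpen_bcMap (K L : Type u) [Field K] [Field L] [Algebra k K] [Algebra k L]
    [Algebra K L] [IsScalarTower k K L] : UniversallyOpen (bcMap f K L) := by
  haveI : Subsingleton ↥(Spec (CommRingCat.of K)) :=
    Groth.Agent.Lib.Helper22.SchGeomIrr.subsingleton_spec_field
  exact MorphismProperty.of_isPullback (P := @UniversallyOpen) (isPullback_bcMap f K L).flip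
    inferInstance

theorem geometricallyConnected_bcMap (K L : Type u) [Field K] [IsAlgClosed K] [Field L]
    [Algebra k K] [Algebra k L] [Algebra K L] [IsScalarTower k K L] :
    GeometricallyConnected (bcMap f K L) :=
  MorphismProperty.of_isPullback (P := @GeometricallyConnected) (isPullback_bcMap f K L).flip
    Groth.Agent.Lib.Helper22.SchGeomIrr.geometricallyConnected_specMap

theorem geometricallyIrreducible_bcMap (K L : Type u) [Field K] [IsAlgClosed K] [Field L]
    [Algebra k K] [Algebra k L] [Algebra K L] [IsScalarTower k K L] :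
    GeometricallyIrreducible (bcMap f K L) :=
  MorphismProperty.of_isPullback (P := @GeometricallyIrreducible) (isPullback_bcMap f K L).flip
    Groth.Agent.Lib.Helper22.SchGeomIrr.geometricallyIrreducible_specMap

/-- A continuous surjection onto a quasi-sober space cannot decrease the number of irreducible
components. -/
theorem card_irreducibleComponents_le_of_surjective {A B : Type u} [TopologicalSpace A]
    [TopologicalSpace B] [QuasiSober B] (p : A → B) (hp : Continuous p)
    (hs : Function.Surjective p) :
    Cardinal.mk ↥(irreducibleComponents B) ≤ Cardinal.mk ↥(irreducibleComponents A) := by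
  classical
  have key : ∀ Z : irreducibleComponents B, ∃ a : A, IsGenericPoint (p a) Z.1 := by
    rintro ⟨Z, hZ⟩
    have hirr : IsIrreducible Z := hZ.1
    have hcl : IsClosed Z := isClosed_of_mem_irreducibleComponents Z hZ
    obtain ⟨a, ha⟩ := hs hirr.genericPoint
    refine ⟨a, ?_⟩
    rw [ha]
    exact hirr.isGenericPoint_genericPoint hcl
  choose a ha using key
  let F : irreducibleComponents B → irreducibleComponents A := fun Z =>
    ⟨irreducibleComponent (a Z), irreducibleComponent_mem_irreducibleComponents (a Z)⟩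
  have hT : ∀ Z : irreducibleComponents B, closure (p '' (F Z).1) = Z.1 := by
    intro Z
    have hirrT : IsIrreducible (closure (p '' (F Z).1)) :=
      (isIrreducible_irreducibleComponent.image p hp.continuousOn).closure
    have hle : Z.1 ⊆ closure (p '' (F Z).1) := by
      have h1 : p (a Z) ∈ p '' (F Z).1 := ⟨a Z, mem_irreducibleComponent, rfl⟩
      have h2 : closure {p (a Z)} ⊆ closure (p '' (F Z).1) :=
        closure_mono (Set.singleton_subset_iff.mpr h1)
      rwa [(ha Z).def] at h2
    exact (Z.2.2 hirrT hle).antisymm hle |>.symm ▸ rfl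
  have hinj : Function.Injective F := by
    intro Z₁ Z₂ h
    apply Subtype.ext
    rw [← hT Z₁, ← hT Z₂, h]
  exact Cardinal.mk_le_of_injective hinj

end Groth.Agent.Lib.Helper22.SchBC
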