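import Mathlib
import Groth.Prelude.Def_FDesc
import Groth.Agent.Lib.Helper22.SchBC

set_option autoImplicit false
set_option linter.style.haveILetI false
universe u
noncomputable section
namespace Groth.Agent.Lib.Helper22.SchGeomConn

open TensorProduct CategoryTheory CategoryTheory.Limits AlgebraicGeometry

/-- Topological core: if `p : A → B` is open and closed, `B` is preconnected, and the preimage of
some nonempty set is preconnected, then `A` is preconnected. -/
theorem preconnectedSpace_of_isOpenMap_of_isClosedMap {A B : Type*} [TopologicalSpace A]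
    [TopologicalSpace B] [PreconnectedSpace B] (p : A → B) (hopen : IsOpenMap p)
    (hclosed : IsClosedMap p) (S : Set B) (hS : S.Nonempty) (hT : IsPreconnected (p ⁻¹' S)) :
    PreconnectedSpace A := by
  rw [preconnectedSpace_iff_clopen]
  intro U hU
  by_contra hne
  rw [not_or] at hne
  obtain ⟨hU1, hU2⟩ := hne
  have hUne : U.Nonempty := Set.nonempty_iff_ne_empty.mpr hU1
  have hUcne : Uᶜ.Nonempty := by
    rw [Set.nonempty_compl]; exact hU2
  have key : ∀ V : Set A, IsClopen V → V.Nonempty → p '' V = Set.univ := by
    intro V hV hVne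
    have hcl : IsClopen (p '' V) := ⟨hclosed _ hV.1, hopen _ hV.2⟩
    rcases isClopen_iff.mp hcl with h | h
    · exact absurd (hVne.image p) (by rw [h]; exact Set.not_nonempty_empty)
    · exact h
  obtain ⟨b, hb⟩ := hS
  have h1 : b ∈ p '' U := by rw [key U hU hUne]; trivial
  have h2 : b ∈ p '' Uᶜ := by rw [key Uᶜ hU.compl hUcne]; trivial
  obtain ⟨a, haU, rfl⟩ := h1
  obtain ⟨a', ha'U, ha'⟩ := h2
  have hsub : p ⁻¹' S ⊆ U := hT.subset_isClopen hU ⟨a, hb, haU⟩
  exact ha'U (hsub (by simpa [ha'] using hb))


variable {k : Type u} [Field k] {X Y : Scheme.{u}} (g : Y ⟶ X) (f : X ⟶ Spec (CommRingCat.of k))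

/-- EGA IV 4.5.13, algebraic case: if `X` is connected and receives a `k`-morphism from a nonempty
geometrically connected `k`-scheme, then `X_K` is connected for every algebraic extension `K/k`. -/
theorem connectedSpace_bc_of_isAlgebraic [Nonempty Y] [ConnectedSpace X]
    [GeometricallyConnected (g ≫ f)] (K : Type u) [Field K] [Algebra k K]
    [Algebra.IsAlgebraic k K] : ConnectedSpace ↥(FBase.bc f K) := by
  change ConnectedSpace ↥(pullback f (Spec.map (CommRingCat.ofHom (algebraMap k K))))
  let s : Spec (CommRingCat.of K) ⟶ Spec (CommRingCat.of k) :=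
    Spec.map (CommRingCat.ofHom (algebraMap k K))
  let p : pullback f s ⟶ X := pullback.fst f s
  have hYK : ConnectedSpace ↥(pullback (g ≫ f) s) :=
    pullback_of_geometrically
      (GeometricallyConnected.geometrically_connectedSpace (f := g ≫ f)) K s
  let gK : pullback (g ≫ f) s ⟶ pullback f s :=
    pullback.lift (pullback.fst _ _ ≫ g) (pullback.snd _ _)
      (by rw [Category.assoc]; exact pullback.condition)
  have hgK1 : gK ≫ p = pullback.fst (g ≫ f) s ≫ g := pullback.lift_fst _ _ _
  have hgK2 : gK ≫ pullback.snd f s = pullback.snd (g ≫ f) s := pullback.lift_snd _ _ _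
  have hpb : IsPullback gK (pullback.fst (g ≫ f) s) p g := by
    have hbig : IsPullback (pullback.fst (g ≫ f) s) (pullback.snd (g ≫ f) s) (g ≫ f) s :=
      IsPullback.of_hasPullback _ _
    have hsmall : IsPullback p (pullback.snd f s) f s := IsPullback.of_hasPullback _ _
    refine IsPullback.of_right ?_ hgK1 hsmall.flip
    rw [hgK2]
    exact hbig.flip
  have hrange : Set.range gK = p ⁻¹' Set.range g := by
    have h1 : Set.range gK = Set.range (pullback.fst p g) := by
      have h2 : hpb.isoPullback.hom ≫ pullback.fst p g = gK := hpb.isoPullback_hom_fst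
      rw [← h2]
      ext x
      constructor
      · rintro ⟨a, rfl⟩
        exact ⟨hpb.isoPullback.hom a, by rw [← Scheme.Hom.comp_apply]⟩
      · rintro ⟨a, rfl⟩
        refine ⟨hpb.isoPullback.inv a, ?_⟩
        simp [← Scheme.Hom.comp_apply]
    rw [h1, Scheme.Pullback.range_fst]
  haveI : Subsingleton ↥(Spec (CommRingCat.of k)) :=
    Groth.Agent.Lib.Helper22.SchGeomIrr.subsingleton_spec_field
  haveI hsint : IsIntegralHom s := by
    rw [IsIntegralHom.SpecMap_iff]
    exact algebraMap_isIntegral_iff.mpr inferInstance
  have hopen : IsOpenMap p := (pullback.fst f s).isOpenMap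
  have hclosed : IsClosedMap p := (pullback.fst f s).isClosedMap
  haveI : Nonempty ↥(pullback (g ≫ f) s) := inferInstance
  have hpre : _root_.IsPreconnected (p ⁻¹' Set.range g) := by
    rw [← hrange]
    exact isPreconnected_range gK.continuous
  haveI : PreconnectedSpace ↥(pullback f s) :=
    preconnectedSpace_of_isOpenMap_of_isClosedMap p hopen hclosed (Set.range g)
      (Set.range_nonempty _) hpre
  haveI : Nonempty ↥(pullback f s) := ⟨gK (Nonempty.some inferInstance)⟩
  exact ConnectedSpace.mk ‹_›


/-- EGA IV 4.5.13: if `X` is connected and receives a `k`-morphism from a nonempty geometrically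
connected `k`-scheme, then `X` is geometrically connected. -/
theorem geometricallyConnected_of_source [Nonempty Y] [ConnectedSpace X]
    [GeometricallyConnected (g ≫ f)] : GeometricallyConnected f := by
  rw [GeometricallyConnected.eq_geometrically,
    geometrically_iff_of_commRing_of_isClosedUnderIsomorphisms]
  intro K _ _
  change ConnectedSpace ↥(FBase.bc f K)
  let Kb := AlgebraicClosure K
  haveI : IsScalarTower k K Kb := inferInstance
  let L : Type u := ↥(algebraicClosure k Kb)
  haveI : IsAlgClosure k L := algebraicClosure.isAlgClosure (F := k) (E := Kb)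
  haveI : IsAlgClosed L := IsAlgClosure.isAlgClosed k
  haveI : Algebra.IsAlgebraic k L := IsAlgClosure.isAlgebraic
  haveI hL : ConnectedSpace ↥(FBase.bc f L) := connectedSpace_bc_of_isAlgebraic g f L
  haveI := SchBC.geometricallyConnected_bcMap f L Kb
  haveI := SchBC.universallyOpen_bcMap f L Kb
  haveI hKb : ConnectedSpace ↥(FBase.bc f Kb) :=
    GeometricallyConnected.connectedSpace (SchBC.bcMap f L Kb) (SchBC.bcMap f L Kb).isOpenMap
  haveI hsurj := SchBC.surjective_bcMap f K Kb
  have hs : Function.Surjective (SchBC.bcMap f K Kb) := (SchBC.bcMap f K Kb).surjective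
  have hpre : PreconnectedSpace ↥(FBase.bc f K) := by
    constructor
    rw [← Set.range_eq_univ.mpr hs]
    exact isPreconnected_range (SchBC.bcMap f K Kb).continuous
  haveI : Nonempty ↥(FBase.bc f K) := ⟨SchBC.bcMap f K Kb (Nonempty.some inferInstance)⟩
  exact ConnectedSpace.mk ‹_›

end Groth.Agent.Lib.Helper22.SchGeomConn
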