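import Mathlib
import Groth.Prelude.Def_FDesc
import Groth.Agent.Lib.Helper22.SchGeomConn

/-!
# Geometric connectedness of closed connected subsets (helper22)

`isConnected_preimage_of_preconnected_preimage` (EGA IV 4.5.13, set version): let `X` be a
`k`-scheme, `C ⊆ X` a closed connected subset and `S ⊆ C` a nonempty subset whose preimage in `X_L`
is preconnected for every algebraic extension `L/k`. Then the preimage of `C` in `X_K` is connected
for every extension `K/k`.
-/

set_option autoImplicit false
set_option linter.style.haveILetI false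
universe u
noncomputable section
namespace Groth.Agent.Lib.Helper22.SchGeomConn

open TensorProduct CategoryTheory CategoryTheory.Limits AlgebraicGeometry

variable {k : Type u} [Field k] {X : Scheme.{u}} (f : X ⟶ Spec (CommRingCat.of k))

theorem isOpenMap_bcπ (K : Type u) [Field K] [Algebra k K] : IsOpenMap (FBase.bcπ f K) := by
  haveI : Subsingleton ↥(Spec (CommRingCat.of k)) :=
    Groth.Agent.Lib.Helper22.SchGeomIrr.subsingleton_spec_field
  exact (pullback.fst f (Spec.map (CommRingCat.ofHom (algebraMap k K)))).isOpenMap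

theorem isClosedMap_bcπ (K : Type u) [Field K] [Algebra k K] [Algebra.IsAlgebraic k K] :
    IsClosedMap (FBase.bcπ f K) := by
  haveI hsint : IsIntegralHom (Spec.map (CommRingCat.ofHom (algebraMap k K))) := by
    rw [IsIntegralHom.SpecMap_iff]
    exact algebraMap_isIntegral_iff.mpr inferInstance
  exact (pullback.fst f (Spec.map (CommRingCat.ofHom (algebraMap k K)))).isClosedMap

theorem surjective_bcπ (K : Type u) [Field K] [Algebra k K] :
    Function.Surjective (FBase.bcπ f K) := by
  haveI := Groth.Agent.Lib.Helper15.GeomDesc.surjective_specMap_field (algebraMap k K)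
  exact (pullback.fst f (Spec.map (CommRingCat.ofHom (algebraMap k K)))).surjective

/-- Algebraic case. -/
theorem isConnected_preimage_of_isAlgebraic (C S : Set X) (hC : _root_.IsPreconnected C)
    (hSC : S ⊆ C) (hSne : S.Nonempty) (L : Type u) [Field L] [Algebra k L]
    [Algebra.IsAlgebraic k L] (hS : _root_.IsPreconnected (FBase.bcπ f L ⁻¹' S)) :
    _root_.IsConnected (FBase.bcπ f L ⁻¹' C) := by
  set p := FBase.bcπ f L with hp
  constructor
  · obtain ⟨s, hs⟩ := hSne
    obtain ⟨a, ha⟩ := surjective_bcπ f L s
    exact ⟨a, by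
      show p a ∈ C
      rw [ha]; exact hSC hs⟩
  · rw [isPreconnected_iff_preconnectedSpace]
    haveI : PreconnectedSpace ↥C := isPreconnected_iff_preconnectedSpace.mp hC
    let q : ↥(p ⁻¹' C) → ↥C := Set.restrictPreimage C p
    have hqo : IsOpenMap q := (isOpenMap_bcπ f L).restrictPreimage C
    have hqc : IsClosedMap q := (isClosedMap_bcπ f L).restrictPreimage C
    refine preconnectedSpace_of_isOpenMap_of_isClosedMap q hqo hqc (Subtype.val ⁻¹' S) ?_ ?_
    · obtain ⟨s, hs⟩ := hSne
      exact ⟨⟨s, hSC hs⟩, hs⟩
    · rw [← Topology.IsInducing.subtypeVal.isPreconnected_image]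
      convert hS using 1
      ext a
      constructor
      · rintro ⟨⟨b, hb⟩, hbS, rfl⟩
        exact hbS
      · intro ha
        exact ⟨⟨a, hSC ha⟩, ha, rfl⟩

/-- EGA IV 4.5.13, set version. -/
theorem isConnected_preimage_of_preconnected_preimage (C S : Set X)
    (hC : _root_.IsPreconnected C) (hCcl : IsClosed C) (hSC : S ⊆ C) (hSne : S.Nonempty)
    (hS : ∀ (L : Type u) [Field L] [Algebra k L] [Algebra.IsAlgebraic k L],
      _root_.IsPreconnected (FBase.bcπ f L ⁻¹' S))
    (K : Type u) [Field K] [Algebra k K] : _root_.IsConnected (FBase.bcπ f K ⁻¹' C) := by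
  let Kb := AlgebraicClosure K
  haveI : IsScalarTower k K Kb := inferInstance
  let L : Type u := ↥(algebraicClosure k Kb)
  haveI : IsAlgClosure k L := algebraicClosure.isAlgClosure (F := k) (E := Kb)
  haveI : IsAlgClosed L := IsAlgClosure.isAlgClosed k
  haveI : Algebra.IsAlgebraic k L := IsAlgClosure.isAlgebraic
  have hL : _root_.IsConnected (FBase.bcπ f L ⁻¹' C) :=
    isConnected_preimage_of_isAlgebraic f C S hC hSC hSne L (hS L)
  have hLcl : IsClosed (FBase.bcπ f L ⁻¹' C) := hCcl.preimage (FBase.bcπ f L).continuous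
  haveI := SchBC.geometricallyConnected_bcMap f L Kb
  haveI := SchBC.universallyOpen_bcMap f L Kb
  have hKb : _root_.IsConnected (SchBC.bcMap f L Kb ⁻¹' (FBase.bcπ f L ⁻¹' C)) :=
    Scheme.Hom.isConnected_preimage (SchBC.bcMap f L Kb) (SchBC.bcMap f L Kb).isOpenMap hL hLcl
  have e1 : SchBC.bcMap f L Kb ⁻¹' (FBase.bcπ f L ⁻¹' C) = FBase.bcπ f Kb ⁻¹' C := by
    rw [← SchBC.bcMap_bcπ f L Kb]
    rfl
  rw [e1] at hKb
  haveI hsurj := SchBC.surjective_bcMap f K Kb
  have hs : Function.Surjective (SchBC.bcMap f K Kb) := (SchBC.bcMap f K Kb).surjective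
  have e2 : FBase.bcπ f Kb ⁻¹' C = SchBC.bcMap f K Kb ⁻¹' (FBase.bcπ f K ⁻¹' C) := by
    rw [← SchBC.bcMap_bcπ f K Kb]
    rfl
  have e3 : FBase.bcπ f K ⁻¹' C = SchBC.bcMap f K Kb '' (FBase.bcπ f Kb ⁻¹' C) := by
    rw [e2, Set.image_preimage_eq _ hs]
  rw [e3]
  exact hKb.image _ (SchBC.bcMap f K Kb).continuous.continuousOn

end Groth.Agent.Lib.Helper22.SchGeomConn

namespace Groth.Agent.Lib.Helper22.SchGeomConn

open TensorProduct CategoryTheory CategoryTheory.Limits AlgebraicGeometry

variable {k : Type u} [Field k] {X Y : Scheme.{u}} (f : X ⟶ Spec (CommRingCat.of k))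

/-- The preimage in `X_K` of the image of a geometrically connected `k`-scheme is connected. -/
theorem isPreconnected_preimage_range (g : Y ⟶ X) [GeometricallyConnected (g ≫ f)]
    (K : Type u) [Field K] [Algebra k K] :
    _root_.IsPreconnected (FBase.bcπ f K ⁻¹' Set.range g) := by
  let s : Spec (CommRingCat.of K) ⟶ Spec (CommRingCat.of k) :=
    Spec.map (CommRingCat.ofHom (algebraMap k K))
  let p : pullback f s ⟶ X := pullback.fst f s
  change _root_.IsPreconnected (p ⁻¹' Set.range g)
  have hYK : ConnectedSpace ↥(pullback (g ≫ f) s) :=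
    pullback_of_geometrically
      (GeometricallyConnected.geometrically_connectedSpace (f := g ≫ f)) K s
  let gK : pullback (g ≫ f) s ⟶ pullback f s :=
    pullback.lift (pullback.fst _ _ ≫ g) (pullback.snd _ _)
      (by rw [Category.assoc]; exact pullback.condition)
  have hgK1 : gK ≫ p = pullback.fst (g ≫ f) s ≫ g := pullback.lift_fst _ _ _
  have hgK2 : gK ≫ pullback.snd f s = pullback.snd (g ≫ f) s := pullback.lift_snd _ _ _
  have hpb : IsPullback gK (pullback.fst (g ≫ f) s) p g := by
    have hbig : IsPullback (pullback.fst (g ≫ f) s) (pullback.snd (g ≫ f) s) (g ≫ f) s :=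
      IsPullback.of_hasPullback _ _
    have hsmall : IsPullback p (pullback.snd f s) f s := IsPullback.of_hasPullback _ _
    refine IsPullback.of_right ?_ hgK1 hsmall.flip
    rw [hgK2]
    exact hbig.flip
  have hrange : Set.range gK = p ⁻¹' Set.range g := by
    have h1 : Set.range gK = Set.range (pullback.fst p g) := by
      have h2 : hpb.isoPullback.hom ≫ pullback.fst p g = gK := hpb.isoPullback_hom_fst
      rw [← h2]
      ext x
      constructor
      · rintro ⟨a, rfl⟩
        exact ⟨hpb.isoPullback.hom a, by rw [← Scheme.Hom.comp_apply]⟩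
      · rintro ⟨a, rfl⟩
        refine ⟨hpb.isoPullback.inv a, ?_⟩
        simp [← Scheme.Hom.comp_apply]
    rw [h1, Scheme.Pullback.range_fst]
  rw [← hrange]
  exact isPreconnected_range gK.continuous

/-- EGA IV 4.5.13 for connected components: the connected component of the image of a nonempty
geometrically connected `k`-scheme is geometrically connected. -/
theorem isConnected_preimage_connectedComponent_of_source (g : Y ⟶ X)
    [GeometricallyConnected (g ≫ f)] (y : Y) (K : Type u) [Field K] [Algebra k K] :
    _root_.IsConnected (FBase.bcπ f K ⁻¹' connectedComponent (g y)) := by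
  haveI : Subsingleton ↥(Spec (CommRingCat.of k)) :=
    Groth.Agent.Lib.Helper22.SchGeomIrr.subsingleton_spec_field
  haveI : ConnectedSpace Y := GeometricallyConnected.connectedSpace_of_subsingleton (g ≫ f)
  refine isConnected_preimage_of_preconnected_preimage f (connectedComponent (g y))
    (Set.range g) isPreconnected_connectedComponent isClosed_connectedComponent ?_
    (Set.range_nonempty _) (fun L _ _ _ => isPreconnected_preimage_range f g L) K
  exact (isPreconnected_range g.continuous).subset_connectedComponent ⟨y, rfl⟩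

end Groth.Agent.Lib.Helper22.SchGeomConn
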