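import Mathlib
import Groth.Prelude.Def_FDesc
import Groth.Agent.Lib.Helper22.SchGeomConn2
import Groth.Agent.Lib.Helper22.GalPrimes

/-!
# Points with separably closed residue field and geometric connectedness (helper22)
-/

set_option autoImplicit false
set_option linter.style.haveILetI false
universe u
noncomputable section
namespace Groth.Agent.Lib.Helper22.SchGeomConn

open TensorProduct CategoryTheory CategoryTheory.Limits AlgebraicGeometry

/-- If `k` is separably closed in `F`, then `Spec F ⟶ Spec k` is geometrically irreducible. -/
theorem geometricallyIrreducible_specMap_of_sepClosedIn {k F : Type u} [Field k] [Field F]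
    [Algebra k F] (hF : ∀ α : F, IsSeparable k α → α ∈ Set.range (algebraMap k F)) :
    GeometricallyIrreducible (Spec.map (CommRingCat.ofHom (algebraMap k F))) := by
  rw [GeometricallyIrreducible.eq_geometrically,
    geometrically_iff_of_commRing_of_isClosedUnderIsomorphisms]
  intro K' _ _
  haveI h1 : IrreducibleSpace (PrimeSpectrum (K' ⊗[k] F)) := (Groth.Agent.S2150.result.mpr hF) K'
  haveI h2 : IrreducibleSpace (PrimeSpectrum (F ⊗[k] K')) :=
    Groth.Agent.S9627.irr_of_equiv (Algebra.TensorProduct.comm k F K').toRingEquiv
  rw [(pullbackSpecIso k F K').hom.homeomorph.irreducibleSpace_iff]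
  exact inferInstanceAs (IrreducibleSpace (PrimeSpectrum (F ⊗[k] K')))

/-- If `k` is separably closed in `F`, then `Spec F ⟶ Spec k` is geometrically connected. -/
theorem geometricallyConnected_specMap_of_sepClosedIn {k F : Type u} [Field k] [Field F]
    [Algebra k F] (hF : ∀ α : F, IsSeparable k α → α ∈ Set.range (algebraMap k F)) :
    GeometricallyConnected (Spec.map (CommRingCat.ofHom (algebraMap k F))) := by
  rw [GeometricallyConnected.eq_geometrically,
    geometrically_iff_of_commRing_of_isClosedUnderIsomorphisms]
  intro K' _ _
  haveI h1 : IrreducibleSpace (PrimeSpectrum (K' ⊗[k] F)) := (Groth.Agent.S2150.result.mpr hF) K'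
  haveI h2 : IrreducibleSpace (PrimeSpectrum (F ⊗[k] K')) :=
    Groth.Agent.S9627.irr_of_equiv (Algebra.TensorProduct.comm k F K').toRingEquiv
  haveI : IrreducibleSpace (Spec (CommRingCat.of (F ⊗[k] K'))) :=
    inferInstanceAs (IrreducibleSpace (PrimeSpectrum (F ⊗[k] K')))
  haveI : IrreducibleSpace ↥(pullback (Spec.map (CommRingCat.ofHom (algebraMap k F)))
      (Spec.map (CommRingCat.ofHom (algebraMap k K')))) :=
    (pullbackSpecIso k F K').hom.homeomorph.irreducibleSpace_iff.mpr inferInstance
  infer_instance

theorem sepClosedIn_of_separableClosure_eq_bot {k F : Type u} [Field k] [Field F] [Algebra k F]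
    (h : separableClosure k F = ⊥) (α : F) (hα : IsSeparable k α) :
    α ∈ Set.range (algebraMap k F) := by
  have h1 : α ∈ separableClosure k F := mem_separableClosure_iff.mpr hα
  rw [h] at h1
  exact IntermediateField.mem_bot.mp h1

variable {k : Type u} [Field k] {X : Scheme.{u}} (f : X ⟶ Spec (CommRingCat.of k))

/-- EGA IV 4.5.14: a connected `k`-scheme with a point whose residue field is a primary extension
of `k` is geometrically connected. -/
theorem geometricallyConnected_of_residueFieldProp [ConnectedSpace X] (x : X)
    (hx : FBase.ResidueFieldProp f x (fun K _ _ => separableClosure k K = ⊥)) :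
    GeometricallyConnected f := by
  obtain ⟨φ, hφ, hsep⟩ := hx
  letI := φ.toAlgebra
  haveI : GeometricallyConnected (X.fromSpecResidueField x ≫ f) := by
    rw [← hφ]
    exact geometricallyConnected_specMap_of_sepClosedIn
      (sepClosedIn_of_separableClosure_eq_bot hsep)
  haveI : Nonempty ↥(Spec (X.residueField x)) :=
    inferInstanceAs (Nonempty (PrimeSpectrum (X.residueField x)))
  exact geometricallyConnected_of_source (X.fromSpecResidueField x) f

end Groth.Agent.Lib.Helper22.SchGeomConn
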