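import Mathlib
import Groth.Prelude.Def_CAlg2
import Groth.Agent.Lib.lead.GUPack
import Groth.Agent.S2731

/-!
# Geometric unibranchness via an abstract normalization, and transfer along integral birational
extensions (algebra core of S5865)
-/

set_option autoImplicit false
set_option linter.style.haveILetI false
set_option linter.unusedSectionVars false
universe u

namespace Groth.Agent.Lib.Helper22.RadPtAlg

open IsLocalRing Groth.Agent.Lib.Helper17.GeomUnibranch Groth.Agent.Lib.Helper17.Unibranch

/-- `D'` is a normalization of `R` (integral, nilpotent kernel, same fractions). -/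
structure IsNormn (R D' : Type u) [CommRing R] [CommRing D'] [Algebra R D'] : Prop where
  int : Algebra.IsIntegral R D'
  ker : ∀ a : R, algebraMap R D' a = 0 → IsNilpotent a
  frac : ∀ y : D', ∃ d : R, algebraMap R D' d ≠ 0 ∧
    ∃ d₂ : R, algebraMap R D' d * y = algebraMap R D' d₂

section T

variable (R : Type u) [CommRing R] [IsLocalRing R] (D' : Type u) [CommRing D'] [IsDomain D']
  [IsIntegrallyClosed D'] [Algebra R D']

/-- non-units map into every maximal ideal of a normalization -/
theorem IsNormn.map_mem (h : IsNormn R D') (m : Ideal D') [hm : m.IsMaximal] (a : R)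
    (ha : a ∈ maximalIdeal R) : algebraMap R D' a ∈ m := by
  haveI := h.int
  have hmax : (m.comap (algebraMap R D')).IsMaximal :=
    Ideal.isMaximal_comap_of_isIntegral_of_isMaximal m
  have := eq_maximalIdeal hmax
  have h2 : a ∈ m.comap (algebraMap R D') := by rw [this]; exact ha
  exact h2

theorem IsNormn.comap_eq (h : IsNormn R D') (m : Ideal D') [hm : m.IsMaximal] :
    m.comap (algebraMap R D') = maximalIdeal R := by
  haveI := h.int
  have hmax : (m.comap (algebraMap R D')).IsMaximal :=
    Ideal.isMaximal_comap_of_isIntegral_of_isMaximal m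
  exact eq_maximalIdeal hmax

theorem gu_of_normn (h : IsNormn R D') (q : ℕ) [hq : ExpChar (ResidueField R) q]
    [IsLocalRing D']
    (hpi : ∀ y : D', ∃ (n : ℕ) (a : R), y ^ (q ^ n) - algebraMap R D' a ∈ maximalIdeal D') :
    CAlg2.IsGeomUnibranch R := by
  haveI := h.int
  refine Groth.Agent.Lib.lead.GUPack.pack D' h.ker h.frac q ?_ hpi
  rcases expChar_is_prime_or_one (ResidueField R) q with hp | h1
  · right
    refine ⟨hp, ?_⟩
    have h0 : ((q : ℕ) : ResidueField R) = 0 := natCast_eq_zero_of_expChar_prime _ _ hp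
    have h1 : ((q : ℕ) : R) ∈ maximalIdeal R := by
      rw [← Ideal.Quotient.eq_zero_iff_mem, map_natCast]
      exact h0
    have := h.map_mem R D' (maximalIdeal D') _ h1
    rwa [map_natCast] at this
  · left
    exact h1

theorem normn_of_gu (h : IsNormn R D') (q : ℕ) [hq : ExpChar (ResidueField R) q]
    (hGU : CAlg2.IsGeomUnibranch R) :
    IsLocalRing D' ∧ ∀ (m : Ideal D'), m.IsMaximal →
      ∀ y : D', ∃ (n : ℕ) (a : R), y ^ (q ^ n) - algebraMap R D' a ∈ m := by
  obtain ⟨⟨hdom, hloc⟩, hpi⟩ := hGU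
  haveI := hdom
  haveI := hloc
  haveI := h.int
  have h0 : ∀ a ∈ nilradical R, algebraMap R D' a = 0 := by
    intro a ha
    exact IsNilpotent.eq_zero (IsNilpotent.map (mem_nilradical.mp ha) (algebraMap R D'))
  let ρ : CAlg2.red R →+* D' := Ideal.Quotient.lift (nilradical R) (algebraMap R D') h0
  letI algA : Algebra (CAlg2.red R) D' := ρ.toAlgebra
  have hρ : ∀ a : R, algebraMap (CAlg2.red R) D' (Ideal.Quotient.mk _ a) = algebraMap R D' a :=
    fun a => rfl
  haveI : IsScalarTower R (CAlg2.red R) D' := IsScalarTower.of_algebraMap_eq (fun a => (hρ a).symm)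
  haveI : Algebra.IsIntegral (CAlg2.red R) D' :=
    ⟨fun y => (Algebra.IsIntegral.isIntegral (R := R) y).tower_top⟩
  have hinjA : Function.Injective (algebraMap (CAlg2.red R) D') := by
    rw [injective_iff_map_eq_zero]
    intro x hx
    obtain ⟨a, rfl⟩ := Ideal.Quotient.mk_surjective x
    rw [hρ] at hx
    exact Ideal.Quotient.eq_zero_iff_mem.mpr (mem_nilradical.mpr (h.ker a hx))
  have hfracA : ∀ y : D', ∃ d : CAlg2.red R, d ≠ 0 ∧ ∃ d₂ : CAlg2.red R,
      algebraMap (CAlg2.red R) D' d * y = algebraMap (CAlg2.red R) D' d₂ := by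
    intro y
    obtain ⟨d, hd, d₂, h⟩ := h.frac y
    refine ⟨Ideal.Quotient.mk _ d, fun h0 => hd ?_, Ideal.Quotient.mk _ d₂, ?_⟩
    · rw [← hρ, h0, map_zero]
    · rw [hρ, hρ, h]
  obtain ⟨φ⟩ := nonempty_algEquiv_integralClosure (CAlg2.red R) D' hinjA hfracA
  refine ⟨φ.toRingEquiv.isLocalRing, ?_⟩
  intro m hm y
  let m' : Ideal (CAlg2.normRed R) := m.comap φ.toRingEquiv.toRingHom
  haveI hm' : m'.IsMaximal := Ideal.comap_isMaximal_of_surjective _ φ.surjective
  obtain ⟨n, a, ha⟩ := hpi m' (Ideal.Quotient.mk m' (φ.symm y))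
  -- the characteristic exponents agree
  letI : Field (CAlg2.normRed R ⧸ m') := Ideal.Quotient.field m'
  let g : ResidueField R →+* CAlg2.normRed R ⧸ m' :=
    Ideal.Quotient.lift (maximalIdeal R) (Groth.Agent.S2731.toRes R m')
      (Groth.Agent.S2731.toRes_ker R m')
  haveI : ExpChar (CAlg2.normRed R ⧸ m') q := expChar_of_injective_ringHom g.injective q
  rw [ringExpChar.eq (CAlg2.normRed R ⧸ m') q] at ha
  refine ⟨n, a, ?_⟩
  have h1 : (φ.symm y) ^ (q ^ n) -
      algebraMap (CAlg2.red R) (CAlg2.normRed R) (Ideal.Quotient.mk _ a) ∈ m' := by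
    refine Ideal.Quotient.eq.mp ?_
    rw [RingHom.map_pow]
    exact ha.symm
  have h2 : φ ((φ.symm y) ^ (q ^ n) -
      algebraMap (CAlg2.red R) (CAlg2.normRed R) (Ideal.Quotient.mk _ a)) ∈ m := h1
  rwa [map_sub, map_pow, φ.apply_symm_apply, φ.commutes, hρ] at h2

end T

section Core

/-- maximal ideals of an integral extension of a local ring contract to the maximal ideal -/
theorem comap_eq_of_integral (R S : Type u) [CommRing R] [IsLocalRing R] [CommRing S] [Algebra R S]
    [Algebra.IsIntegral R S] (m : Ideal S) [hm : m.IsMaximal] :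
    m.comap (algebraMap R S) = maximalIdeal R := by
  have hmax : (m.comap (algebraMap R S)).IsMaximal :=
    Ideal.isMaximal_comap_of_isIntegral_of_isMaximal m
  exact eq_maximalIdeal hmax

theorem isLocalHom_of_integral (R S : Type u) [CommRing R] [IsLocalRing R] [CommRing S]
    [IsLocalRing S] [Algebra R S] [Algebra.IsIntegral R S] : IsLocalHom (algebraMap R S) := by
  constructor
  intro a ha
  by_contra hna
  have h1 : a ∈ maximalIdeal R := hna
  rw [← comap_eq_of_integral R S (maximalIdeal S)] at h1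
  exact h1 ha

/-- the canonical algebra structure on the normalization of the reduction -/
noncomputable def algNormRed (B : Type u) [CommRing B] : Algebra B (CAlg2.normRed B) :=
  ((algebraMap (CAlg2.red B) (CAlg2.normRed B)).comp (Ideal.Quotient.mk (nilradical B))).toAlgebra

instance (B : Type u) [CommRing B] [IsDomain (CAlg2.red B)] :
    IsIntegrallyClosed (CAlg2.normRed B) :=
  integralClosure.isIntegrallyClosedOfFiniteExtension (FractionRing (CAlg2.red B))

theorem normn_normRed (B : Type u) [CommRing B] [IsDomain (CAlg2.red B)] :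
    @IsNormn B (CAlg2.normRed B) _ _ (algNormRed B) := by
  letI := algNormRed B
  have halgR : ∀ r : B, algebraMap B (CAlg2.normRed B) r =
      algebraMap (CAlg2.red B) (CAlg2.normRed B) (Ideal.Quotient.mk _ r) := fun r => rfl
  have h2inj : Function.Injective (algebraMap (CAlg2.red B) (CAlg2.normRed B)) := by
    have h3 : Function.Injective (algebraMap (CAlg2.red B) (FractionRing (CAlg2.red B))) :=
      IsFractionRing.injective _ _
    rw [IsScalarTower.algebraMap_eq (CAlg2.red B) (CAlg2.normRed B)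
      (FractionRing (CAlg2.red B)), RingHom.coe_comp] at h3
    exact Function.Injective.of_comp h3
  refine ⟨?_, ?_, ?_⟩
  · have h1 : (Ideal.Quotient.mk (nilradical B)).IsIntegral :=
      RingHom.isIntegral_of_surjective _ Ideal.Quotient.mk_surjective
    have h2 : (algebraMap (CAlg2.red B) (CAlg2.normRed B)).IsIntegral :=
      algebraMap_isIntegral_iff.mpr inferInstance
    exact ⟨RingHom.IsIntegral.trans _ _ h1 h2⟩
  · intro a ha
    rw [halgR] at ha
    have h1 : Ideal.Quotient.mk (nilradical B) a = 0 := h2inj (by rw [ha, map_zero])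
    exact mem_nilradical.mp (Ideal.Quotient.eq_zero_iff_mem.mp h1)
  · intro r'
    obtain ⟨α, β, hβ, hαβ⟩ := IsFractionRing.div_surjective (A := CAlg2.red B)
      (r' : FractionRing (CAlg2.red B))
    obtain ⟨a, rfl⟩ := Ideal.Quotient.mk_surjective α
    obtain ⟨b, rfl⟩ := Ideal.Quotient.mk_surjective β
    have hb0 : (Ideal.Quotient.mk (nilradical B)) b ≠ 0 := nonZeroDivisors.ne_zero hβ
    refine ⟨b, fun h0 => hb0 (h2inj (by rw [← halgR, h0, map_zero])), a, ?_⟩
    rw [halgR, halgR]
    apply Subtype.ext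
    have hb1 : algebraMap (CAlg2.red B) (FractionRing (CAlg2.red B))
        ((Ideal.Quotient.mk (nilradical B)) b) ≠ 0 := fun h0 =>
      hb0 (IsFractionRing.injective (CAlg2.red B) (FractionRing (CAlg2.red B))
        (by rw [h0, map_zero]))
    change algebraMap (CAlg2.red B) (FractionRing (CAlg2.red B)) _ *
      (r' : FractionRing (CAlg2.red B)) = algebraMap (CAlg2.red B) (FractionRing (CAlg2.red B)) _
    rw [← hαβ, mul_div_cancel₀ _ hb1]

/-- a ring with a local normalization is local -/
theorem isLocalRing_of_normn (B D' : Type u) [CommRing B] [Nontrivial B] [CommRing D'] [Algebra B D']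
    (h : IsNormn B D') [IsLocalRing D'] : IsLocalRing B := by
  haveI := h.int
  refine IsLocalRing.of_unique_max_ideal
    ⟨(maximalIdeal D').comap (algebraMap B D'),
      Ideal.isMaximal_comap_of_isIntegral_of_isMaximal _, ?_⟩
  intro n hn
  have hker : RingHom.ker (algebraMap B D') ≤ n := by
    intro a ha
    have hnil := h.ker a ha
    obtain ⟨k, hk⟩ := hnil
    exact hn.isPrime.mem_of_pow_mem k (by rw [hk]; exact n.zero_mem)
  obtain ⟨Q, hQ, hQn⟩ := Ideal.exists_ideal_over_maximal_of_isIntegral n hker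
  rw [← hQn, eq_maximalIdeal hQ]

variable (A B : Type u) [CommRing A] [IsLocalRing A] [CommRing B] [Algebra A B]
  [Algebra.IsIntegral A B] [IsDomain (CAlg2.red B)]

/-- `normRed B` is also a normalization of `A`, for `A → B` integral and birational. -/
theorem normn_comp
    (hk : ∀ a : A, IsNilpotent (algebraMap A B a) → IsNilpotent a)
    (hf : ∀ b : B, ∃ s a : A, ¬ IsNilpotent s ∧
      IsNilpotent (algebraMap A B s * b - algebraMap A B a)) :
    @IsNormn A (CAlg2.normRed B) _ _
      (((@algebraMap B (CAlg2.normRed B) _ _ (algNormRed B)).comp (algebraMap A B)).toAlgebra) := by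
  letI := algNormRed B
  letI : Algebra A (CAlg2.normRed B) :=
    ((algebraMap B (CAlg2.normRed B)).comp (algebraMap A B)).toAlgebra
  haveI : IsScalarTower A B (CAlg2.normRed B) := IsScalarTower.of_algebraMap_eq (fun a => rfl)
  have hB := normn_normRed B
  haveI := hB.int
  have hz : ∀ b : B, IsNilpotent b → algebraMap B (CAlg2.normRed B) b = 0 := by
    intro b hb
    exact IsNilpotent.eq_zero (hb.map (algebraMap B (CAlg2.normRed B)))
  refine ⟨Algebra.IsIntegral.trans (R := A) B, ?_, ?_⟩
  · intro a ha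
    rw [IsScalarTower.algebraMap_apply A B] at ha
    exact hk a (hB.ker _ ha)
  · intro y
    obtain ⟨b, hb, b₂, hbb⟩ := hB.frac y
    obtain ⟨s, a, hs, hsa⟩ := hf b
    obtain ⟨s₂, a₂, hs₂, hsa₂⟩ := hf b₂
    have e1 := hz _ hsa
    have e2 := hz _ hsa₂
    rw [map_sub, map_mul, sub_eq_zero, ← IsScalarTower.algebraMap_apply,
      ← IsScalarTower.algebraMap_apply] at e1 e2
    have hs' : algebraMap A (CAlg2.normRed B) s ≠ 0 := by
      intro h0
      rw [IsScalarTower.algebraMap_apply A B] at h0
      exact hs (hk s (hB.ker _ h0))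
    have hs₂' : algebraMap A (CAlg2.normRed B) s₂ ≠ 0 := by
      intro h0
      rw [IsScalarTower.algebraMap_apply A B] at h0
      exact hs₂ (hk s₂ (hB.ker _ h0))
    refine ⟨s₂ * a, ?_, s * a₂, ?_⟩
    · rw [map_mul, ← e1]
      exact mul_ne_zero hs₂' (mul_ne_zero hs' hb)
    · rw [map_mul, map_mul, ← e1, ← e2, mul_assoc, mul_assoc, hbb]
      ring

theorem core_fwd
    (hk : ∀ a : A, IsNilpotent (algebraMap A B a) → IsNilpotent a)
    (hf : ∀ b : B, ∃ s a : A, ¬ IsNilpotent s ∧
      IsNilpotent (algebraMap A B s * b - algebraMap A B a))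
    (q : ℕ) [ExpChar (ResidueField A) q] (hGU : CAlg2.IsGeomUnibranch A) :
    ∃ _ : IsLocalRing B, (∀ b : B, ∃ (n : ℕ) (a : A),
      b ^ (q ^ n) - algebraMap A B a ∈ maximalIdeal B) ∧ CAlg2.IsGeomUnibranch B := by
  letI := algNormRed B
  letI : Algebra A (CAlg2.normRed B) :=
    ((algebraMap B (CAlg2.normRed B)).comp (algebraMap A B)).toAlgebra
  haveI : IsScalarTower A B (CAlg2.normRed B) := IsScalarTower.of_algebraMap_eq (fun a => rfl)
  have hA := normn_comp A B hk hf
  have hB := normn_normRed B
  haveI := hB.int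
  obtain ⟨hloc, hpi⟩ := normn_of_gu A (CAlg2.normRed B) hA q hGU
  haveI := hloc
  haveI : Nontrivial B := by
    by_contra hS
    rw [not_nontrivial_iff_subsingleton] at hS
    exact zero_ne_one (α := CAlg2.red B) (by
      rw [← map_zero (Ideal.Quotient.mk (nilradical B)), ← map_one (Ideal.Quotient.mk (nilradical B)),
        Subsingleton.elim (0 : B) 1])
  have hlocB : IsLocalRing B := isLocalRing_of_normn B (CAlg2.normRed B) hB
  refine ⟨hlocB, ?_, ?_⟩
  · intro b
    obtain ⟨n, a, h⟩ := hpi (maximalIdeal (CAlg2.normRed B)) (maximalIdeal.isMaximal _)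
      (algebraMap B (CAlg2.normRed B) b)
    refine ⟨n, a, ?_⟩
    have h1 : b ^ (q ^ n) - algebraMap A B a ∈
        (maximalIdeal (CAlg2.normRed B)).comap (algebraMap B (CAlg2.normRed B)) := by
      change algebraMap B (CAlg2.normRed B) (b ^ (q ^ n) - algebraMap A B a) ∈
        maximalIdeal (CAlg2.normRed B)
      rw [map_sub, map_pow, ← IsScalarTower.algebraMap_apply]
      exact h
    rwa [comap_eq_of_integral B (CAlg2.normRed B)] at h1
  · haveI : IsLocalHom (algebraMap A B) := isLocalHom_of_integral A B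
    haveI : ExpChar (ResidueField B) q :=
      expChar_of_injective_ringHom (ResidueField.map (algebraMap A B)).injective q
    refine gu_of_normn B (CAlg2.normRed B) hB q ?_
    intro y
    obtain ⟨n, a, h⟩ := hpi (maximalIdeal (CAlg2.normRed B)) (maximalIdeal.isMaximal _) y
    exact ⟨n, algebraMap A B a, by rwa [← IsScalarTower.algebraMap_apply]⟩

theorem core_bwd
    (hk : ∀ a : A, IsNilpotent (algebraMap A B a) → IsNilpotent a)
    (hf : ∀ b : B, ∃ s a : A, ¬ IsNilpotent s ∧
      IsNilpotent (algebraMap A B s * b - algebraMap A B a))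
    (q : ℕ) [ExpChar (ResidueField A) q] [IsLocalRing B]
    (hrad : ∀ b : B, ∃ (n : ℕ) (a : A), b ^ (q ^ n) - algebraMap A B a ∈ maximalIdeal B)
    (hGU : CAlg2.IsGeomUnibranch B) : CAlg2.IsGeomUnibranch A := by
  letI := algNormRed B
  letI : Algebra A (CAlg2.normRed B) :=
    ((algebraMap B (CAlg2.normRed B)).comp (algebraMap A B)).toAlgebra
  haveI : IsScalarTower A B (CAlg2.normRed B) := IsScalarTower.of_algebraMap_eq (fun a => rfl)
  have hA := normn_comp A B hk hf
  have hB := normn_normRed B
  haveI := hB.int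
  haveI : IsLocalHom (algebraMap A B) := isLocalHom_of_integral A B
  haveI : ExpChar (ResidueField B) q :=
    expChar_of_injective_ringHom (ResidueField.map (algebraMap A B)).injective q
  obtain ⟨hloc, hpi⟩ := normn_of_gu B (CAlg2.normRed B) hB q hGU
  haveI := hloc
  refine gu_of_normn A (CAlg2.normRed B) hA q ?_
  intro y
  obtain ⟨n, b, h⟩ := hpi (maximalIdeal (CAlg2.normRed B)) (maximalIdeal.isMaximal _) y
  obtain ⟨n', a, h'⟩ := hrad b
  refine ⟨n + n', a, ?_⟩
  have h1 := hB.map_mem B (CAlg2.normRed B) (maximalIdeal _) _ h'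
  rw [map_sub, map_pow, ← IsScalarTower.algebraMap_apply] at h1
  have h2 : (y ^ (q ^ n)) ^ (q ^ n') - (algebraMap B (CAlg2.normRed B) b) ^ (q ^ n') ∈
      maximalIdeal (CAlg2.normRed B) :=
    Ideal.mem_of_dvd _ (sub_dvd_pow_sub_pow _ _ _) h
  have h3 := Ideal.add_mem _ h2 h1
  rw [sub_add_sub_cancel] at h3
  rw [pow_add, pow_mul]
  exact h3

end Core

end Groth.Agent.Lib.Helper22.RadPtAlg
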