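import Mathlib
import Groth.Agent.Lib.Helper22.GeomRed2
import Groth.Agent.Lib.Helper22.GalPrimes

set_option autoImplicit false
set_option linter.style.haveILetI false
universe u
noncomputable section
namespace Groth.Agent.Lib.Helper22.GeomRed3

open TensorProduct Groth.Agent.Lib.Helper22.GeomRed Groth.Agent.Lib.Helper22.GeomRed2

/-- If `P/k` is an algebraic extension with `P` perfect and `P ⊗ S` reduced, then `S` is
geometrically reduced over `k`. -/
theorem isGeometricallyReduced_of_perfect_tensor {k S P : Type u} [Field k] [CommRing S]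
    [Algebra k S] [Field P] [Algebra k P] [Algebra.IsAlgebraic k P] [PerfectField P]
    [IsReduced (P ⊗[k] S)] : Algebra.IsGeometricallyReduced k S := by
  haveI h3 : Algebra.IsGeometricallyReduced P (P ⊗[k] S) := isGeometricallyReduced_of_perfectField
  let Ω := AlgebraicClosure P
  haveI h4 : IsReduced (Ω ⊗[P] (P ⊗[k] S)) := isReduced_tensor_of_isGeometricallyReduced
  haveI h5 : IsReduced (Ω ⊗[k] S) :=
    isReduced_of_injective (Algebra.TensorProduct.cancelBaseChange k P P Ω S).symm
      (Algebra.TensorProduct.cancelBaseChange k P P Ω S).symm.injective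
  rw [Algebra.isGeometricallyReduced_field_iff]
  let φ : AlgebraicClosure k →ₐ[k] Ω := IsAlgClosed.lift
  let g : AlgebraicClosure k ⊗[k] S →ₐ[k] Ω ⊗[k] S :=
    Algebra.TensorProduct.map φ (AlgHom.id k S)
  have hg : Function.Injective g :=
    Module.Flat.rTensor_preserves_injective_linearMap (M := S) φ.toLinearMap φ.injective
  exact isReduced_of_injective g hg

/-- A finite subset of `P ⊗ A` (with `P/k` algebraic) comes from `k' ⊗ A` for a finite
subextension `k'`. -/
theorem exists_finite_subfield {k P A : Type u} [Field k] [Field P] [Algebra k P]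
    [Algebra.IsAlgebraic k P] [CommRing A] [Algebra k A] (s : Set (P ⊗[k] A)) (hs : s.Finite) :
    ∃ (k' : Type u) (_ : Field k') (_ : Algebra k k') (_ : Algebra k' P)
      (_ : IsScalarTower k k' P), Module.Finite k k' ∧
      s ⊆ Set.range (Algebra.TensorProduct.map (IsScalarTower.toAlgHom k k' P) (AlgHom.id k A)) := by
  obtain ⟨M', hM', hsM⟩ := TensorProduct.exists_finite_submodule_left_of_setFinite s hs
  obtain ⟨G, hG⟩ := (Module.Finite.iff_fg.mp hM')
  let E : Subalgebra k P := Algebra.adjoin k (G : Set P)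
  have hME : M' ≤ Subalgebra.toSubmodule E := by
    rw [← hG]
    exact Submodule.span_le.mpr (fun x hx => Algebra.subset_adjoin hx)
  letI : Field E := (Subalgebra.isField_of_algebraic E).toField
  haveI : Algebra.FiniteType k E := (Subalgebra.fg_iff_finiteType E).mp (Subalgebra.fg_adjoin_finset G)
  haveI : Algebra.IsAlgebraic k E := Algebra.IsAlgebraic.of_injective E.val Subtype.val_injective
  haveI : Algebra.IsIntegral k E := Algebra.IsAlgebraic.isIntegral
  haveI : Module.Finite k E := Algebra.IsIntegral.finite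
  refine ⟨E, inferInstance, inferInstance, inferInstance, inferInstance, inferInstance, ?_⟩
  intro x hx
  obtain ⟨y, rfl⟩ := hsM hx
  clear hx
  induction y using TensorProduct.induction_on with
  | zero => exact ⟨0, by simp⟩
  | tmul m a =>
    refine ⟨(⟨m.1, hME m.2⟩ : E) ⊗ₜ[k] a, ?_⟩
    rw [Algebra.TensorProduct.map_tmul]
    rfl
  | add a b ha hb =>
    obtain ⟨a', ha'⟩ := ha
    obtain ⟨b', hb'⟩ := hb
    exact ⟨a' + b', by rw [map_add, map_add, ha', hb']⟩

/-- Auxiliary form of `exists_finite_geomReduced` with an abstract intermediate field. -/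
theorem geomReduced_aux {k k' P A : Type u} [Field k] [Field k'] [Field P] [Algebra k k']
    [Algebra k P] [Algebra k' P] [IsScalarTower k k' P] [CommRing A] [Algebra k A]
    [Algebra.IsAlgebraic k' P] [PerfectField P]
    (s : Set (P ⊗[k] A)) (hs : Ideal.span s = nilradical (P ⊗[k] A))
    (hsub : s ⊆ Set.range
      (Algebra.TensorProduct.map (IsScalarTower.toAlgHom k k' P) (AlgHom.id k A))) :
    Algebra.IsGeometricallyReduced k' ((k' ⊗[k] A) ⧸ nilradical (k' ⊗[k] A)) := by
  set ι : k' ⊗[k] A →ₐ[k] P ⊗[k] A :=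
    Algebra.TensorProduct.map (IsScalarTower.toAlgHom k k' P) (AlgHom.id k A) with hι
  have hιinj : Function.Injective ι :=
    Module.Flat.rTensor_preserves_injective_linearMap (M := A)
      (IsScalarTower.toAlgHom k k' P).toLinearMap (algebraMap k' P).injective
  let e : P ⊗[k'] (k' ⊗[k] A) ≃ₐ[k'] P ⊗[k] A := Algebra.TensorProduct.cancelBaseChange k k' k' P A
  have he : ∀ t : k' ⊗[k] A, e ((1 : P) ⊗ₜ[k'] t) = ι t := by
    intro t
    induction t using TensorProduct.induction_on with
    | zero => simp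
    | tmul c a =>
      rw [Algebra.TensorProduct.cancelBaseChange_tmul, hι, Algebra.TensorProduct.map_tmul,
        Algebra.smul_def, mul_one]
      rfl
    | add a b ha hb => rw [TensorProduct.tmul_add, map_add, map_add, ha, hb]
  let N' : Ideal (k' ⊗[k] A) := nilradical (k' ⊗[k] A)
  let π : P ⊗[k'] (k' ⊗[k] A) →ₐ[P] P ⊗[k'] ((k' ⊗[k] A) ⧸ N') :=
    Algebra.TensorProduct.map (AlgHom.id P P) (Ideal.Quotient.mkₐ k' N')
  have hπsurj : Function.Surjective π :=
    Algebra.TensorProduct.map_surjective _ _ Function.surjective_id (Ideal.Quotient.mkₐ_surjective k' N')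
  let 𝔓 : Ideal (P ⊗[k'] (k' ⊗[k] A)) := (nilradical (P ⊗[k] A)).comap e.toAlgHom.toRingHom
  have hm : N' ≤ 𝔓.comap
      (Algebra.TensorProduct.includeRight : (k' ⊗[k] A) →ₐ[k'] P ⊗[k'] (k' ⊗[k] A)).toRingHom := by
    intro n hn
    change e ((1 : P) ⊗ₜ[k'] n) ∈ nilradical (P ⊗[k] A)
    rw [he]
    exact mem_nilradical.mpr ((mem_nilradical.mp hn).map ι)
  have h1 : RingHom.ker π.toRingHom ≤ 𝔓 := Groth.Agent.Lib.Helper22.GalPrimes.ker_map_mk_le N' 𝔓 hm
  have h2 : 𝔓 ≤ RingHom.ker π.toRingHom := by
    intro y hy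
    have hy' : e y ∈ Ideal.span s := by rw [hs]; exact hy
    have hle : Ideal.span s ≤ (RingHom.ker π.toRingHom).comap e.symm.toAlgHom.toRingHom := by
      rw [Ideal.span_le]
      intro z hz
      obtain ⟨t, rfl⟩ := hsub hz
      have htn : IsNilpotent t := by
        have : IsNilpotent (ι t) := by
          have : ι t ∈ nilradical (P ⊗[k] A) := by rw [← hs]; exact Ideal.subset_span hz
          exact mem_nilradical.mp this
        exact (IsNilpotent.map_iff hιinj).mp this
      change π (e.symm (ι t)) = 0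
      rw [← he, AlgEquiv.symm_apply_apply]
      change (1 : P) ⊗ₜ[k'] (Ideal.Quotient.mk N' t) = 0
      rw [Ideal.Quotient.eq_zero_iff_mem.mpr (mem_nilradical.mpr htn), TensorProduct.tmul_zero]
    have := hle hy'
    change π (e.symm (e y)) = 0 at this
    rwa [AlgEquiv.symm_apply_apply] at this
  haveI : IsReduced (P ⊗[k'] ((k' ⊗[k] A) ⧸ N')) := by
    constructor
    intro x hx
    obtain ⟨y, rfl⟩ := hπsurj x
    obtain ⟨n, hn⟩ := hx
    have hyn : y ^ n ∈ 𝔓 := h1 (by change π (y ^ n) = 0; rw [map_pow, hn])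
    have hy : y ∈ 𝔓 := by
      change e y ∈ nilradical (P ⊗[k] A)
      have : e (y ^ n) ∈ nilradical (P ⊗[k] A) := hyn
      rw [map_pow] at this
      exact mem_nilradical.mpr (IsNilpotent.of_pow (mem_nilradical.mp this))
    exact h2 hy
  exact isGeometricallyReduced_of_perfect_tensor (k := k') (P := P)

/-- **Lemma G.** If `P/k` is a perfect purely inseparable extension and the nilradical of `P ⊗ A`
is finitely generated, then there is a finite purely inseparable `k'/k` such that
`(k' ⊗ A)_red` is geometrically reduced over `k'`. -/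
theorem exists_finite_geomReduced {k : Type u} [Field k] (A : Type u) [CommRing A] [Algebra k A]
    (P : Type u) [Field P] [Algebra k P] [IsPurelyInseparable k P] [PerfectField P]
    (hN : (nilradical (P ⊗[k] A)).FG) :
    ∃ (k' : Type u) (_ : Field k') (_ : Algebra k k'), Module.Finite k k' ∧
      IsPurelyInseparable k k' ∧
      Algebra.IsGeometricallyReduced k' ((k' ⊗[k] A) ⧸ nilradical (k' ⊗[k] A)) := by
  haveI : Algebra.IsAlgebraic k P := IsPurelyInseparable.isAlgebraic k P
  obtain ⟨s, hs⟩ := hN
  obtain ⟨k', hF, hA, hA', hT, hfin, hsub⟩ :=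
    exists_finite_subfield (s : Set (P ⊗[k] A)) s.finite_toSet
  letI := hF
  letI := hA
  letI := hA'
  haveI := hT
  haveI := hfin
  haveI : IsPurelyInseparable k k' := IsPurelyInseparable.tower_bot k k' P
  haveI : Algebra.IsAlgebraic k' P := Algebra.IsAlgebraic.tower_top (K := k) k'
  exact ⟨k', hF, hA, hfin, inferInstance, geomReduced_aux (s : Set (P ⊗[k] A)) hs hsub⟩

end Groth.Agent.Lib.Helper22.GeomRed3
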