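import Mathlib
import Groth.Agent.Lib.Helper22.GeomRed3

set_option autoImplicit false
set_option linter.style.haveILetI false
universe u
noncomputable section
namespace Groth.Agent.Lib.Helper22.GeomRed4

open TensorProduct Groth.Agent.Lib.Helper22.GeomRed Groth.Agent.Lib.Helper22.GeomRed2

/-- Purely inseparable base change preserves "at most one prime ideal". -/
theorem subsingleton_primeSpectrum_tensor {k P R : Type u} [Field k] [Field P] [Algebra k P]
    [IsPurelyInseparable k P] [CommRing R] [Algebra k R] [Subsingleton (PrimeSpectrum R)] :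
    Subsingleton (PrimeSpectrum (P ⊗[k] R)) := by
  have hhom := PrimeSpectrum.isHomeomorph_comap_of_isPurelyInseparable k P R
  have hsub : Subsingleton (PrimeSpectrum (R ⊗[k] P)) := by
    constructor
    intro a b
    exact hhom.injective (Subsingleton.elim _ _)
  constructor
  intro a b
  have := (PrimeSpectrum.comapEquiv (Algebra.TensorProduct.comm k P R).toRingEquiv).injective
  exact this (Subsingleton.elim _ _)

/-- In a ring with at most one prime ideal, every prime ideal is the nilradical. -/
theorem eq_nilradical_of_subsingleton {R : Type u} [CommRing R] [Subsingleton (PrimeSpectrum R)]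
    (q : Ideal R) [hq : q.IsPrime] : q = nilradical R := by
  rw [nilradical_eq_sInf]
  apply le_antisymm
  · apply le_sInf
    intro J hJ
    have : (⟨J, hJ⟩ : PrimeSpectrum R) = ⟨q, hq⟩ := Subsingleton.elim _ _
    rw [PrimeSpectrum.ext_iff] at this
    exact this.ge
  · exact sInf_le hq

/-- A ring with at most one prime ideal whose nilradical is finitely generated is Artinian. -/
theorem isArtinianRing_of_subsingleton_of_fg {S : Type u} [CommRing S]
    [Subsingleton (PrimeSpectrum S)] (hfg : (nilradical S).FG) : IsArtinianRing S := by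
  rw [isArtinianRing_iff_isNoetherianRing_krullDimLE_zero]
  constructor
  · apply IsNoetherianRing.of_prime
    intro q hq
    rw [eq_nilradical_of_subsingleton q]
    exact hfg
  · rw [Ring.krullDimLE_zero_iff]
    intro q hq
    obtain ⟨m, hm, hqm⟩ := Ideal.exists_le_maximal q hq.ne_top
    haveI := hm.isPrime
    rw [eq_nilradical_of_subsingleton q, ← eq_nilradical_of_subsingleton m]
    exact hm

/-- (c) ⇒ (a): if `(k' ⊗ K)_red` is geometrically reduced over the finite purely inseparable
extension `k'` of `k`, then `P ⊗_{k'} (k' ⊗_k K)` is Artinian for `P/k'` purely inseparable. -/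
theorem isArtinianRing_tensor_of_geomReduced {k k' K P : Type u} [Field k] [Field k'] [Field K]
    [Field P] [Algebra k k'] [Algebra k K] [Algebra k' P]
    [Module.Finite k k'] [IsPurelyInseparable k k'] [IsPurelyInseparable k' P]
    (h : Algebra.IsGeometricallyReduced k' ((k' ⊗[k] K) ⧸ nilradical (k' ⊗[k] K))) :
    IsArtinianRing (P ⊗[k'] (k' ⊗[k] K)) := by
  haveI : IsArtinianRing (K ⊗[k] k') := IsArtinianRing.of_finite K _
  haveI : IsArtinianRing (k' ⊗[k] K) :=
    (Algebra.TensorProduct.comm k K k').toRingEquiv.isArtinianRing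
  haveI : IsNoetherianRing (k' ⊗[k] K) := inferInstance
  haveI : Subsingleton (PrimeSpectrum (k' ⊗[k] K)) := subsingleton_primeSpectrum_tensor
  haveI : Subsingleton (PrimeSpectrum (P ⊗[k'] (k' ⊗[k] K))) := subsingleton_primeSpectrum_tensor
  set N' : Ideal (k' ⊗[k] K) := nilradical (k' ⊗[k] K) with hN'
  have hN'fg : N'.FG := IsNoetherian.noetherian N'
  have hN'nil : IsNilpotent N' := IsNoetherianRing.isNilpotent_nilradical _
  let incl : (k' ⊗[k] K) →ₐ[k'] P ⊗[k'] (k' ⊗[k] K) := Algebra.TensorProduct.includeRight
  let π : P ⊗[k'] (k' ⊗[k] K) →ₐ[P] P ⊗[k'] ((k' ⊗[k] K) ⧸ N') :=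
    Algebra.TensorProduct.map (AlgHom.id P P) (Ideal.Quotient.mkₐ k' N')
  have h1 : RingHom.ker π.toRingHom ≤ N'.map incl.toRingHom :=
    Groth.Agent.Lib.Helper22.GalPrimes.ker_map_mk_le N' _ Ideal.le_comap_map
  haveI : IsReduced (P ⊗[k'] ((k' ⊗[k] K) ⧸ N')) := isReduced_tensor_of_isGeometricallyReduced
  apply isArtinianRing_of_subsingleton_of_fg
  have heq : nilradical (P ⊗[k'] (k' ⊗[k] K)) = N'.map incl.toRingHom := by
    apply le_antisymm
    · intro x hx
      apply h1
      have hx' : IsNilpotent (π x) := (mem_nilradical.mp hx).map π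
      exact hx'.eq_zero
    · rw [Ideal.map_le_iff_le_comap]
      intro n hn
      exact mem_nilradical.mpr ((mem_nilradical.mp hn).map incl)
  rw [heq]
  exact hN'fg.map _

end Groth.Agent.Lib.Helper22.GeomRed4
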