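import Mathlib
import Groth.Agent.S1544
import Groth.Agent.S1535
import Groth.Agent.Lib.Helper5.StalkBCH
import Groth.Agent.Lib.Helper22.GeomRedSepGen
import Groth.Agent.Lib.Helper22.GeomRed4
import Groth.Agent.Lib.helper19.RegularLocal

/-!
# Smoothness versus geometric reducedness over a field (helper22)

* `mem_of_dense_open_of_isGenericPoint`: in a locally Noetherian scheme a dense open contains the
  generic point of every irreducible component.
* `isField_stalk_of_isGenericPoint`: in a reduced scheme the local ring at the generic point of an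
  irreducible component is a field.
* `formallySmooth_stalkMap_of_isGeometricallyReduced`: if the local ring at `x` is a field which is
  geometrically reduced over `k`, then `X → Spec k` is smooth at `x`.
* `dense_smoothLocus_of_geometricallyReduced`.
* `isGeomReducedAt_of_mem_smooth_open`.
-/

set_option autoImplicit false
set_option linter.style.haveILetI false
universe u
noncomputable section
namespace Groth.Agent.Lib.Helper22.SmoothGeomRed

open CategoryTheory CategoryTheory.Limits AlgebraicGeometry TopologicalSpace

/-- In a Noetherian space, a dense open set meets every irreducible component. -/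
theorem exists_mem_inter_of_dense {T : Type*} [TopologicalSpace T] [NoetherianSpace T]
    {U : Set T} (hd : Dense U) {Z : Set T} (hZ : Z ∈ irreducibleComponents T) :
    (U ∩ Z).Nonempty := by
  have hcl := closure_sUnion_irreducibleComponents_sdiff_singleton
    NoetherianSpace.finite_irreducibleComponents Z hZ
  set O : Set T := (⋃₀ (irreducibleComponents T \ {Z}))ᶜ with hO
  have hOopen : IsOpen O := by
    rw [hO, Set.sUnion_eq_biUnion, isOpen_compl_iff]
    exact NoetherianSpace.finite_irreducibleComponents.sdiff.isClosed_biUnion
      fun W hW ↦ isClosed_of_mem_irreducibleComponents W hW.1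
  have hOne : O.Nonempty := by
    by_contra h
    rw [Set.not_nonempty_iff_eq_empty] at h
    rw [h, closure_empty] at hcl
    exact hZ.1.1.ne_empty hcl.symm
  obtain ⟨u, huO, huU⟩ := hd.inter_open_nonempty O hOopen hOne
  exact ⟨u, huU, hcl ▸ subset_closure huO⟩

/-- In a locally Noetherian scheme a dense open contains the generic point of every irreducible
component. -/
theorem mem_of_dense_open_of_isGenericPoint {X : Scheme.{u}} [IsLocallyNoetherian X]
    (U : X.Opens) (hd : Dense (U : Set X)) {Z : Set X} (hZ : Z ∈ irreducibleComponents X)
    {η : X} (hη : IsGenericPoint η Z) : η ∈ U := by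
  obtain ⟨W, hW, hηW, -⟩ := exists_isAffineOpen_mem_and_subset (x := η) (U := ⊤) trivial
  haveI : IsNoetherianRing Γ(X, W) := IsLocallyNoetherian.component_noetherian ⟨W, hW⟩
  haveI : NoetherianSpace (↥W : Type u) := noetherianSpace_of_isAffineOpen W hW
  have hemb : Topology.IsOpenEmbedding (Subtype.val : W → X) := W.isOpen.isOpenEmbedding_subtypeVal
  have hZW : (Subtype.val : W → X) ⁻¹' Z ∈ irreducibleComponents W :=
    preimage_mem_irreducibleComponents hZ hemb ⟨η, hη.mem, ⟨⟨η, hηW⟩, rfl⟩⟩
  have hUW : Dense ((Subtype.val : W → X) ⁻¹' (U : Set X)) := hd.preimage hemb.isOpenMap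
  obtain ⟨u, huU, huZ⟩ := exists_mem_inter_of_dense hUW hZW
  have hspec : η ⤳ u.1 := hη.specializes huZ
  exact hspec.mem_open U.isOpen huU

/-- In a reduced scheme the local ring at the generic point of an irreducible component is a
field. -/
theorem isField_stalk_of_isGenericPoint {X : Scheme.{u}} [IsReduced X]
    {Z : Set X} (hZ : Z ∈ irreducibleComponents X) {η : X} (hη : IsGenericPoint η Z) :
    IsField (X.presheaf.stalk η) := by
  have hsub : Subsingleton (PrimeSpectrum (X.presheaf.stalk η)) := by
    have hall : ∀ p : PrimeSpectrum (X.presheaf.stalk η), p = IsLocalRing.closedPoint _ := by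
      intro p
      have hp : (X.fromSpecStalk η) p ⤳ η := by
        have : (X.fromSpecStalk η) p ∈ Set.range (X.fromSpecStalk η) := ⟨p, rfl⟩
        rwa [Scheme.range_fromSpecStalk] at this
      have h1 : Z ⊆ closure {(X.fromSpecStalk η) p} := by
        rw [← hη.def]
        exact closure_minimal (Set.singleton_subset_iff.mpr (specializes_iff_mem_closure.mp hp))
          isClosed_closure
      have h2 : closure {(X.fromSpecStalk η) p} ⊆ Z :=
        hZ.2 isIrreducible_singleton.closure h1
      have h3 : η ⤳ (X.fromSpecStalk η) p := by
        rw [specializes_iff_mem_closure, hη.def]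
        exact h2 (subset_closure rfl)
      have h4 : (X.fromSpecStalk η) p = η := (hp.antisymm h3).eq
      apply (X.fromSpecStalk η).isEmbedding.injective
      rw [h4]
      exact Scheme.fromSpecStalk_closedPoint.symm
    exact ⟨fun a b => (hall a).trans (hall b).symm⟩
  rw [IsLocalRing.isField_iff_maximalIdeal_eq]
  rw [Groth.Agent.Lib.Helper22.GeomRed4.eq_nilradical_of_subsingleton
    (IsLocalRing.maximalIdeal (X.presheaf.stalk η))]
  exact nilradical_eq_zero _

variable (k : Type u) [Field k] (X : Scheme.{u}) [X.Over (Spec (CommRingCat.of k))]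

/-- The germ map at any point of the spectrum of a field is an isomorphism. -/
theorem isIso_germ_top_spec_field (p : Spec (CommRingCat.of k)) :
    IsIso ((Spec (CommRingCat.of k)).presheaf.germ ⊤ p trivial) := by
  obtain rfl : p = IsLocalRing.closedPoint k := Subsingleton.elim _ _
  rw [← ΓSpecIso_hom_stalkClosedPointIso_inv]
  infer_instance

/-- `Curv2.stalkMap` is the stalk map of the structure morphism precomposed with the
identification of `k` with the stalk of `Spec k`. -/
theorem stalkMap_eq (x : X) :
    Curv2.stalkMap k X x = ((X ↘ Spec (CommRingCat.of k)).stalkMap x).hom.comp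
      ((Scheme.ΓSpecIso (CommRingCat.of k)).inv ≫
        (Spec (CommRingCat.of k)).presheaf.germ ⊤ ((X ↘ Spec (CommRingCat.of k)) x) trivial).hom := by
  rw [← CommRingCat.hom_comp, Category.assoc]
  erw [Scheme.Hom.germ_stalkMap]
  rfl

attribute [local instance] Curv2.stalkAlgebra

/-- A finitely generated geometrically reduced field extension is formally smooth. -/
theorem formallySmooth_of_isGeometricallyReduced (K E : Type u) [Field K] [Field E] [Algebra K E]
    [Algebra.EssFiniteType K E] [Algebra.IsGeometricallyReduced K E] :
    Algebra.FormallySmooth K E := by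
  obtain ⟨s, hs, hsep⟩ := GeomRedSepGen.exists_separating_transcendenceBasis K E
  have : ∀ T : Set E, T = (s : Set E) →
      Algebra.IsSeparable (IntermediateField.adjoin K T) E := by
    rintro T rfl
    exact hsep
  haveI := this _ (Subtype.range_coe (s := (s : Set E)))
  exact Algebra.FormallySmooth.of_algebraicIndependent_of_isSeparable
    (v := (Subtype.val : ↥s → E)) hs.1

/-- If the local ring of `X` at `x` is a field, geometrically reduced over `k`, then
`X → Spec k` is formally smooth at `x`. -/
theorem formallySmooth_stalkMap [LocallyOfFiniteType (X ↘ Spec (CommRingCat.of k))] (x : X)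
    (hF : IsField (X.presheaf.stalk x))
    (hgr : Algebra.IsGeometricallyReduced k (X.presheaf.stalk x)) :
    ((X ↘ Spec (CommRingCat.of k)).stalkMap x).hom.FormallySmooth := by
  set f := X ↘ Spec (CommRingCat.of k) with hf
  haveI := isIso_germ_top_spec_field k (f x)
  let ψ : CommRingCat.of k ≅ (Spec (CommRingCat.of k)).presheaf.stalk (f x) :=
    (Scheme.ΓSpecIso (CommRingCat.of k)).symm ≪≫
      asIso ((Spec (CommRingCat.of k)).presheaf.germ ⊤ (f x) trivial)
  let e : k ≃+* (Spec (CommRingCat.of k)).presheaf.stalk (f x) := ψ.commRingCatIsoToRingEquiv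
  have hcomp : Curv2.stalkMap k X x = (f.stalkMap x).hom.comp e.toRingHom := stalkMap_eq k X x
  have hess : (Curv2.stalkMap k X x).EssFiniteType := by
    rw [hcomp]
    exact RingHom.EssFiniteType.respectsIso.2 _ e (LocallyOfFiniteType.stalkMap f x)
  letI : Field (X.presheaf.stalk x) := hF.toField
  haveI : Algebra.EssFiniteType k (X.presheaf.stalk x) := hess
  have hfs : (Curv2.stalkMap k X x).FormallySmooth :=
    formallySmooth_of_isGeometricallyReduced k (X.presheaf.stalk x)
  have h2 : (f.stalkMap x).hom = (Curv2.stalkMap k X x).comp e.symm.toRingHom := by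
    rw [hcomp]
    ext a
    simp
  rw [h2]
  exact RingHom.FormallySmooth.respectsIso.2 _ e.symm hfs

/-- A geometrically reduced `k`-scheme is geometrically reduced at every point. -/
theorem isGeomReducedAt_of_geometricallyReduced
    (h : GeometricallyReduced (X ↘ Spec (CommRingCat.of k))) (x : X) :
    Curv2.IsGeomReducedAt k X x := by
  intro k' _ _ x' _
  haveI : AlgebraicGeometry.IsReduced (Curv2.bc k X k') :=
    pullback_of_geometrically
      (GeometricallyReduced.geometrically_isReduced (f := X ↘ (Spec (CommRingCat.of k)))) k' _
  infer_instance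

/-- The generic point of an irreducible component of a reduced, geometrically reduced scheme
locally of finite type over a field lies in the smooth locus. -/
theorem mem_smoothLocus_of_isGenericPoint [IsReduced X]
    [LocallyOfFinitePresentation (X ↘ Spec (CommRingCat.of k))]
    (h : GeometricallyReduced (X ↘ Spec (CommRingCat.of k)))
    {Z : Set X} (hZ : Z ∈ irreducibleComponents X) {η : X} (hη : IsGenericPoint η Z) :
    η ∈ (X ↘ Spec (CommRingCat.of k)).smoothLocus := by
  rw [Scheme.Hom.mem_smoothLocus]
  exact formallySmooth_stalkMap k X η (isField_stalk_of_isGenericPoint hZ hη)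
    ((Groth.Agent.Lib.Helper5.StalkBC.isGeomReducedAt_iff k X η).mp
      (isGeomReducedAt_of_geometricallyReduced k X h η))

/-- The smooth locus of a reduced, geometrically reduced scheme locally of finite type over a
field is dense. -/
theorem dense_smoothLocus_of_geometricallyReduced [IsReduced X]
    [LocallyOfFinitePresentation (X ↘ Spec (CommRingCat.of k))]
    (h : GeometricallyReduced (X ↘ Spec (CommRingCat.of k))) :
    Dense ((X ↘ Spec (CommRingCat.of k)).smoothLocus : Set X) := by
  rw [dense_iff_closure_eq, Set.eq_univ_iff_forall]
  intro x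
  have hirr := isIrreducible_irreducibleComponent (x := x)
  have hη : IsGenericPoint hirr.genericPoint (irreducibleComponent x) :=
    hirr.isGenericPoint_genericPoint isClosed_irreducibleComponent
  have hmem := mem_smoothLocus_of_isGenericPoint k X h
    (irreducibleComponent_mem_irreducibleComponents x) hη
  exact (hη.specializes mem_irreducibleComponent).mem_closed isClosed_closure (subset_closure hmem)

/-- A point of an open subscheme which is smooth over `k` is a point of geometric reducedness. -/
theorem isGeomReducedAt_of_mem_smooth_open (U : X.Opens)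
    [Smooth (U.ι ≫ (X ↘ Spec (CommRingCat.of k)))] {x : X} (hx : x ∈ U) :
    Curv2.IsGeomReducedAt k X x := by
  intro k' _ _ x' hx'
  set π := Curv2.bcFst k X k' with hπ
  set W : (Curv2.bc k X k').Opens := π ⁻¹ᵁ U with hW
  have hx'W : x' ∈ W := by
    change π x' ∈ U
    rw [hx']
    exact hx
  have hpb : IsPullback (π ∣_ U) (W.ι ≫ Curv2.bcSnd k X k')
      (U.ι ≫ (X ↘ Spec (CommRingCat.of k)))
      (Spec.map (CommRingCat.ofHom (algebraMap k k'))) :=
    (isPullback_morphismRestrict π U).paste_vert (IsPullback.of_hasPullback _ _)
  have hsm : Smooth (W.ι ≫ Curv2.bcSnd k X k') :=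
    MorphismProperty.of_isPullback hpb inferInstance
  letI : W.toScheme.Over (Spec (CommRingCat.of k')) := ⟨W.ι ≫ Curv2.bcSnd k X k'⟩
  haveI : Smooth (W.toScheme ↘ Spec (CommRingCat.of k')) := hsm
  have hreg := Groth.Agent.S1535.result k' W.toScheme ⟨x', hx'W⟩
  haveI := Groth.Agent.Lib.helper19.isDomain_of_isRegularLocalRing
    (W.toScheme.presheaf.stalk ⟨x', hx'W⟩)
  have key : ∀ y : W.toScheme, _root_.IsReduced (W.toScheme.presheaf.stalk y) →
      _root_.IsReduced ((Curv2.bc k X k').presheaf.stalk (W.ι y)) := by
    intro y hy
    exact isReduced_of_injective (W.ι.stalkMap y).hom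
      ((ConcreteCategory.bijective_of_isIso (W.ι.stalkMap y)).injective)
  exact key ⟨x', hx'W⟩ inferInstance

end Groth.Agent.Lib.Helper22.SmoothGeomRed
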