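import Mathlib
import Groth.Prelude.Def_FDesc
import Groth.Agent.Lib.Helper22.SchGeomConn3

/-!
# Geometric connectedness tested on finite separable extensions (helper22)
-/

set_option autoImplicit false
set_option linter.style.haveILetI false
universe u
noncomputable section
namespace Groth.Agent.Lib.Helper22.SchGeomConn

open TensorProduct CategoryTheory CategoryTheory.Limits AlgebraicGeometry

variable {k : Type u} [Field k] {X : Scheme.{u}} (f : X ⟶ Spec (CommRingCat.of k))

/-- If `X_K ⟶ Spec K` is geometrically connected for some extension `K/k`, then `X ⟶ Spec k` is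
geometrically connected. -/
theorem geometricallyConnected_of_bcStr (K : Type u) [Field K] [Algebra k K]
    [GeometricallyConnected (FBase.bcStr f K)] : GeometricallyConnected f := by
  rw [GeometricallyConnected.eq_geometrically,
    geometrically_iff_of_commRing_of_isClosedUnderIsomorphisms]
  intro Ω _ _
  change ConnectedSpace ↥(FBase.bc f Ω)
  obtain ⟨Ω', hF, hAC, a, b, hab⟩ := Groth.Agent.Lib.Helper22.SchBC.exists_common_algClosed k K Ω
  letI := hF
  haveI := hAC
  letI : Algebra K Ω' := a.toAlgebra
  letI : Algebra Ω Ω' := b.toAlgebra
  letI : Algebra k Ω' := (a.comp (algebraMap k K)).toAlgebra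
  haveI : IsScalarTower k K Ω' := IsScalarTower.of_algebraMap_eq (fun _ => rfl)
  haveI : IsScalarTower k Ω Ω' := IsScalarTower.of_algebraMap_eq (fun x => by
    change (a.comp (algebraMap k K)) x = b (algebraMap k Ω x)
    rw [hab]; rfl)
  haveI hΩ' : ConnectedSpace ↥(FBase.bc f Ω') :=
    (GeometricallyConnected.geometrically_connectedSpace (f := FBase.bcStr f K))
      (Spec.map (CommRingCat.ofHom (algebraMap K Ω'))) (SchBC.bcMap f K Ω') (FBase.bcStr f Ω')
      (SchBC.isPullback_bcMap f K Ω')
  haveI hsurj := SchBC.surjective_bcMap f Ω Ω'
  have hs : Function.Surjective (SchBC.bcMap f Ω Ω') := (SchBC.bcMap f Ω Ω').surjective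
  have hpre : PreconnectedSpace ↥(FBase.bc f Ω) := by
    constructor
    rw [← Set.range_eq_univ.mpr hs]
    exact isPreconnected_range (SchBC.bcMap f Ω Ω').continuous
  haveI : Nonempty ↥(FBase.bc f Ω) := ⟨SchBC.bcMap f Ω Ω' (Nonempty.some inferInstance)⟩
  exact ConnectedSpace.mk ‹_›

/-- EGA IV 4.5.15-type criterion: if `X` has a point `x` such that the separable closure `k'` of
`k` in `κ(x)` is finite over `k`, and `X_K` is connected for all finite separable `K/k`, then `X`
is geometrically connected. -/
theorem geometricallyConnected_of_forall_finite_separable (x : X)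
    (hx : FBase.ResidueFieldProp f x (fun K _ _ => FiniteDimensional k (separableClosure k K)))
    (h : ∀ (K : Type u) [Field K] [Algebra k K] [FiniteDimensional k K]
      [Algebra.IsSeparable k K], ConnectedSpace ↥(FBase.bc f K)) :
    GeometricallyConnected f := by
  obtain ⟨φ, hφ, hfin⟩ := hx
  letI := φ.toAlgebra
  let k' : Type u := ↥(separableClosure k (X.residueField x))
  haveI : FiniteDimensional k k' := hfin
  haveI : Algebra.IsSeparable k k' := separableClosure.isSeparable k (X.residueField x)
  haveI hconn : ConnectedSpace ↥(FBase.bc f k') := h k'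
  have hsc : ∀ α : X.residueField x, IsSeparable k' α →
      α ∈ Set.range (algebraMap k' (X.residueField x)) :=
    sepClosedIn_of_separableClosure_eq_bot
      (separableClosure.separableClosure_eq_bot k (X.residueField x))
  have hcomm : X.fromSpecResidueField x ≫ f =
      Spec.map (CommRingCat.ofHom (algebraMap k' (X.residueField x))) ≫
        Spec.map (CommRingCat.ofHom (algebraMap k k')) := by
    rw [← hφ, ← Spec.map_comp, ← CommRingCat.ofHom_comp]
    rfl
  let g : Spec (X.residueField x) ⟶ FBase.bc f k' :=
    pullback.lift (X.fromSpecResidueField x)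
      (Spec.map (CommRingCat.ofHom (algebraMap k' (X.residueField x)))) hcomm
  have hg : g ≫ FBase.bcStr f k' =
      Spec.map (CommRingCat.ofHom (algebraMap k' (X.residueField x))) := pullback.lift_snd _ _ _
  haveI : GeometricallyConnected (g ≫ FBase.bcStr f k') := by
    rw [hg]
    exact geometricallyConnected_specMap_of_sepClosedIn hsc
  haveI : Nonempty ↥(Spec (X.residueField x)) :=
    inferInstanceAs (Nonempty (PrimeSpectrum (X.residueField x)))
  haveI : GeometricallyConnected (FBase.bcStr f k') :=
    geometricallyConnected_of_source g (FBase.bcStr f k')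
  exact geometricallyConnected_of_bcStr f k'

end Groth.Agent.Lib.Helper22.SchGeomConn
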