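import Mathlib
import Groth.Agent.Lib.Helper22.GeomRed
import Groth.Agent.S4628
import Groth.Agent.Lib.Helper15.GeomDesc2

set_option autoImplicit false
set_option linter.style.haveILetI false
universe u
noncomputable section
namespace Groth.Agent.Lib.Helper22.SchGeomRed

open TensorProduct CategoryTheory CategoryTheory.Limits AlgebraicGeometry
open Groth.Agent.Lib.Helper22.GeomRed

/-- `Spec k' ⟶ Spec k` is geometrically reduced when `k'` is a geometrically reduced `k`-algebra. -/
theorem geometricallyReduced_specMap {k k' : Type u} [Field k] [CommRing k'] [Algebra k k']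
    [Algebra.IsGeometricallyReduced k k'] :
    GeometricallyReduced (Spec.map (CommRingCat.ofHom (algebraMap k k'))) := by
  rw [geometricallyReduced_iff, geometrically_iff_of_commRing_of_isClosedUnderIsomorphisms]
  intro K _ _
  haveI h1 : _root_.IsReduced (K ⊗[k] k') := isReduced_tensor_of_isGeometricallyReduced
  haveI h2 : _root_.IsReduced (k' ⊗[k] K) :=
    isReduced_of_injective (Algebra.TensorProduct.comm k k' K)
      (Algebra.TensorProduct.comm k k' K).injective
  have h5 : AlgebraicGeometry.IsReduced (Spec (CommRingCat.of (k' ⊗[k] K))) :=
    (affine_isReduced_iff (CommRingCat.of (k' ⊗[k] K))).2 h2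
  exact isReduced_of_isOpenImmersion (pullbackSpecIso k k' K).hom

/-- Base change of a reduced `k`-scheme along a geometrically reduced `k`-algebra is reduced. -/
theorem isReduced_pullback_specMap {k k' : Type u} [Field k] [CommRing k'] [Algebra k k']
    [Algebra.IsGeometricallyReduced k k'] {X : Scheme.{u}} (f : X ⟶ Spec (CommRingCat.of k))
    [AlgebraicGeometry.IsReduced X] :
    AlgebraicGeometry.IsReduced (pullback f (Spec.map (CommRingCat.ofHom (algebraMap k k')))) := by
  haveI := geometricallyReduced_specMap (k := k) (k' := k')
  haveI h : AlgebraicGeometry.IsReduced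
      (pullback (Spec.map (CommRingCat.ofHom (algebraMap k k'))) f) :=
    Groth.Agent.S4628.result _ f
  exact isReduced_of_isOpenImmersion
    (pullbackSymmetry f (Spec.map (CommRingCat.ofHom (algebraMap k k')))).hom

end Groth.Agent.Lib.Helper22.SchGeomRed
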