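import Mathlib
import Groth.Agent.Lib.Helper22.GeomIrr

set_option autoImplicit false
set_option linter.style.haveILetI false
universe u
noncomputable section
namespace Groth.Agent.Lib.Helper22.GeomConn

open TensorProduct Topology

/-- quotient map with connected fibres onto a connected space -/
theorem connectedSpace_of_isQuotientMap {X Y : Type*} [TopologicalSpace X] [TopologicalSpace Y]
    {f : X → Y} (hf : IsQuotientMap f) (hfib : ∀ y, IsConnected (f ⁻¹' {y}))
    [ConnectedSpace Y] : ConnectedSpace X := by
  obtain ⟨y⟩ := (inferInstance : Nonempty Y)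
  obtain ⟨a, -⟩ := hf.surjective y
  have h1 := hf.isCoinducing.preimage_connectedComponent hfib a
  rw [PreconnectedSpace.connectedComponent_eq_univ (f a), Set.preimage_univ] at h1
  exact { isPreconnected_univ := h1 ▸ isPreconnected_connectedComponent
          toNonempty := ⟨a⟩ }

variable {k : Type u} [Field k]

/-- the fibre ring of `A → A ⊗ B` at a prime -/
def fiberEquiv (A B : Type u) [CommRing A] [CommRing B] [Algebra k A] [Algebra k B]
    (p : PrimeSpectrum A) :
    p.asIdeal.Fiber (A ⊗[k] B) ≃ₐ[A] p.asIdeal.ResidueField ⊗[k] B :=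
  Algebra.TensorProduct.cancelBaseChange k A A p.asIdeal.ResidueField B

/-- **Lemma C**: connectedness of a tensor product from connectedness of the fibres. -/
theorem connectedSpace_tensor_of_fibers {A B : Type u} [CommRing A] [CommRing B]
    [Algebra k A] [Algebra k B] [ConnectedSpace (PrimeSpectrum A)]
    (h : ∀ p : PrimeSpectrum A,
      ConnectedSpace (PrimeSpectrum (p.asIdeal.ResidueField ⊗[k] B))) :
    ConnectedSpace (PrimeSpectrum (A ⊗[k] B)) := by
  let f := PrimeSpectrum.comap (algebraMap A (A ⊗[k] B))
  have hopen : IsOpenMap f := PrimeSpectrum.isOpenMap_comap_algebraMap_tensorProduct_of_field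
  have hcont : Continuous f := PrimeSpectrum.continuous_comap _
  have hfib : ∀ p, IsConnected (f ⁻¹' {p}) := by
    intro p
    have e1 := PrimeSpectrum.preimageHomeomorphFiber A (A ⊗[k] B) p
    have e2 := PrimeSpectrum.homeomorphOfRingEquiv (fiberEquiv (k := k) A B p).toRingEquiv
    haveI := h p
    have h3 : ConnectedSpace (f ⁻¹' {p}) := (e1.trans e2).symm.surjective.connectedSpace
      (e1.trans e2).symm.continuous
    exact isConnected_iff_connectedSpace.mpr h3
  have hsurj : Function.Surjective f := by
    intro p
    obtain ⟨q, hq⟩ := (hfib p).nonempty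
    exact ⟨q, hq⟩
  exact connectedSpace_of_isQuotientMap (hopen.isQuotientMap hcont hsurj) hfib

open Groth.Agent.Lib.Helper22.GeomIrr in
/-- over a separably closed field, connected implies geometrically connected -/
theorem geomConn_of_isSepClosed {S : Type u} [IsSepClosed k] [CommRing S] [Algebra k S]
    [ConnectedSpace (PrimeSpectrum S)] (κ : Type u) [Field κ] [Algebra k κ] :
    ConnectedSpace (PrimeSpectrum (κ ⊗[k] S)) := by
  have h1 : ConnectedSpace (PrimeSpectrum (S ⊗[k] κ)) := by
    apply connectedSpace_tensor_of_fibers
    intro p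
    haveI : IrreducibleSpace (PrimeSpectrum (p.asIdeal.ResidueField ⊗[k] κ)) :=
      geomIrr_of_isSepClosed _
    infer_instance
  let e := PrimeSpectrum.homeomorphOfRingEquiv (Algebra.TensorProduct.comm k S κ).toRingEquiv
  exact e.surjective.connectedSpace e.continuous

/-- tensor products of connected algebras over a separably closed field are connected -/
theorem connectedSpace_tensor_of_isSepClosed {R S : Type u} [IsSepClosed k]
    [CommRing R] [Algebra k R] [CommRing S] [Algebra k S]
    [ConnectedSpace (PrimeSpectrum R)] [ConnectedSpace (PrimeSpectrum S)] :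
    ConnectedSpace (PrimeSpectrum (R ⊗[k] S)) :=
  connectedSpace_tensor_of_fibers (fun p => geomConn_of_isSepClosed p.asIdeal.ResidueField)

end Groth.Agent.Lib.Helper22.GeomConn
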