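import Mathlib

/-!
# Field-theoretic lemmas for the geometric case of the étale neighbourhood criterion
-/

set_option autoImplicit false
set_option linter.style.haveILetI false
set_option linter.unusedSectionVars false

namespace Groth.Agent.Lib.Helper22.EtNbField

open Polynomial

/-- some `q`-power of `y` is separable -/
theorem exists_sep_pow (F E : Type*) [Field F] [Field E] [Algebra F E] [Algebra.IsAlgebraic F E]
    (q : ℕ) [ExpChar F q] (y : E) : ∃ n : ℕ, IsSeparable F (y ^ q ^ n) := by
  haveI : IsPurelyInseparable (separableClosure F E) E :=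
    separableClosure.isPurelyInseparable F E
  haveI : ExpChar (separableClosure F E) q :=
    expChar_of_injective_algebraMap (algebraMap F (separableClosure F E)).injective q
  obtain ⟨n, z, hz⟩ := IsPurelyInseparable.pow_mem (separableClosure F E) q y
  refine ⟨n, ?_⟩
  rw [← hz]
  exact mem_separableClosure_iff.mp z.2

/-- a separable element outside the base field is moved by some embedding into an
algebraically closed field -/
theorem exists_algHom_ne (F E Ω : Type*) [Field F] [Field E] [Field Ω] [Algebra F E]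
    [Algebra F Ω] [Algebra E Ω] [IsScalarTower F E Ω] [Algebra.IsAlgebraic F E] [IsAlgClosed Ω]
    (z : E) (hsep : IsSeparable F z) (hz : z ∉ (algebraMap F E).range) :
    ∃ φ : E →ₐ[F] Ω, φ z ≠ algebraMap E Ω z := by
  have hint : IsIntegral F z := Algebra.IsIntegral.isIntegral z
  have hdeg : 2 ≤ (minpoly F z).natDegree := by
    have h1 : (minpoly F z).natDegree ≠ 1 := fun h => hz (minpoly.natDegree_eq_one_iff.mp h)
    have h2 : 0 < (minpoly F z).natDegree := minpoly.natDegree_pos hint
    omega
  have hcard := Polynomial.card_rootSet_eq_natDegree (K := Ω) hsep (IsAlgClosed.splits _)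
  have hroot : algebraMap E Ω z ∈ (minpoly F z).rootSet Ω := by
    rw [Polynomial.mem_rootSet]
    refine ⟨minpoly.ne_zero hint, ?_⟩
    rw [Polynomial.aeval_algebraMap_apply, minpoly.aeval, map_zero]
  haveI : Nontrivial ((minpoly F z).rootSet Ω) := by
    rw [← Fintype.one_lt_card_iff_nontrivial, hcard]
    omega
  obtain ⟨⟨z₂, hz₂⟩, hne⟩ := exists_ne (⟨algebraMap E Ω z, hroot⟩ : (minpoly F z).rootSet Ω)
  have hz₂' : aeval z₂ (minpoly F z) = 0 := (Polynomial.mem_rootSet.mp hz₂).2
  obtain ⟨φ, hφ⟩ := IntermediateField.exists_algHom_of_splits_of_aeval (F := F) (E := E) (K := Ω)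
    (fun s => ⟨Algebra.IsIntegral.isIntegral s, IsAlgClosed.splits _⟩) hz₂'
  refine ⟨φ, ?_⟩
  rw [hφ]
  intro h
  exact hne (Subtype.ext h)

/-- a monic lift with simple root, after scaling -/
theorem exists_monic_lift (R₀ F E : Type*) [CommRing R₀] [Field F] [Field E] [Algebra R₀ F]
    [Algebra F E] [Algebra R₀ E] [IsScalarTower R₀ F E]
    (hfrac : ∀ c : F, ∃ a b : R₀, algebraMap R₀ F b ≠ 0 ∧ c * algebraMap R₀ F b = algebraMap R₀ F a)
    (z : E) (hsep : IsSeparable F z) :
    ∃ s : R₀, algebraMap R₀ F s ≠ 0 ∧ ∃ f : R₀[X], f.Monic ∧ aeval (s • z) f = 0 ∧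
      aeval (s • z) (derivative f) ≠ 0 := by
  classical
  have hint : IsIntegral F z := hsep.isIntegral
  set ν := minpoly F z with hν
  set m := ν.natDegree with hm
  choose a b hb hab using hfrac
  let s : R₀ := ∏ i ∈ Finset.range m, b (ν.coeff i)
  have hs : algebraMap R₀ F s ≠ 0 := by
    rw [map_prod]
    exact Finset.prod_ne_zero_iff.mpr (fun i _ => hb _)
  have hcoef : ∀ i < m, ν.coeff i * algebraMap R₀ F s ∈ (algebraMap R₀ F).range := by
    intro i hi
    have h1 : s = b (ν.coeff i) * ∏ j ∈ (Finset.range m).erase i, b (ν.coeff j) :=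
      (Finset.mul_prod_erase _ _ (Finset.mem_range.mpr hi)).symm
    rw [h1, map_mul, ← mul_assoc, hab, ← map_mul]
    exact ⟨_, rfl⟩
  let g := ν.scaleRoots (algebraMap R₀ F s)
  have hgmonic : g.Monic := (monic_scaleRoots_iff _).mpr (minpoly.monic hint)
  have hglift : g ∈ lifts (algebraMap R₀ F) := by
    rw [lifts_iff_coeff_lifts]
    intro i
    rw [coeff_scaleRoots]
    rcases lt_trichotomy i m with hi | hi | hi
    · have h2 : ν.natDegree - i = (ν.natDegree - i - 1) + 1 := by omega
      rw [h2, pow_succ, ← mul_assoc, mul_right_comm]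
      obtain ⟨c, hc⟩ := hcoef i hi
      exact ⟨c * s ^ (ν.natDegree - i - 1), by rw [map_mul, map_pow, hc]⟩
    · rw [hi, hm, Nat.sub_self, pow_zero, mul_one, coeff_natDegree, (minpoly.monic hint).leadingCoeff]
      exact ⟨1, map_one _⟩
    · rw [coeff_eq_zero_of_natDegree_lt hi, zero_mul]
      exact ⟨0, map_zero _⟩
  obtain ⟨f, hfg, -, hfmonic⟩ := lifts_and_natDegree_eq_and_monic hglift hgmonic
  have hsz : s • z = algebraMap R₀ F s • z := by
    rw [algebraMap_smul]
  have hgmin : g = minpoly F (algebraMap R₀ F s • z) :=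
    (IsIntegrallyClosed.minpoly_smul hs hint).symm
  have hsep' : IsSeparable F (algebraMap R₀ F s • z) := by
    rw [Algebra.smul_def]
    exact Field.isSeparable_mul (isSeparable_algebraMap _) hsep
  have hgsep : g.Separable := hgmin ▸ hsep'
  have hroot : aeval (s • z) g = 0 := by
    rw [hsz, hgmin]
    exact minpoly.aeval _ _
  refine ⟨s, hs, f, hfmonic, ?_, ?_⟩
  · rw [← aeval_map_algebraMap F, hfg]
    exact hroot
  · rw [← aeval_map_algebraMap F, ← derivative_map, hfg]
    exact hgsep.aeval_derivative_ne_zero hroot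

end Groth.Agent.Lib.Helper22.EtNbField
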