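import Mathlib
import Groth.Prelude.Def_FDesc
import Groth.Agent.Lib.Helper18.GeomIrrGen
import Groth.Agent.Lib.Helper22.SchGeomConn3

/-!
# Irreducible, not geometrically irreducible schemes have few purely inseparable points (helper22)

EGA IV 4.5.19-type statement: if `X` is an irreducible `k`-scheme that is not geometrically
irreducible, there is a nonempty open subset of `X` containing no point whose residue field is
purely inseparable over `k` (in particular no rational point).
-/

set_option autoImplicit false
set_option linter.style.haveILetI false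
universe u
noncomputable section
namespace Groth.Agent.Lib.Helper22.NoPIPoints

open CategoryTheory CategoryTheory.Limits AlgebraicGeometry Polynomial
open Groth.Agent.Lib.Helper18

variable {k : Type u} [Field k] {X : Scheme.{u}} (f : X ⟶ Spec (CommRingCat.of k))

/-- evaluation of a section at a point. -/
def ev (V : X.Opens) (x : X) (hx : x ∈ V) : Γ(X, V) →+* X.residueField x :=
  (X.residue x).hom.comp (X.presheaf.germ V x hx).hom

/-- `k → Γ(X, V)`. -/
def kToΓ (V : X.Opens) : k →+* Γ(X, V) :=
  (X.presheaf.map (homOfLE (le_top : V ≤ ⊤)).op).hom.comp (Coh.toGlobal f)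

theorem ev_kToΓ (V : X.Opens) (x : X) (hx : x ∈ V) (c : k) :
    ev V x hx (kToΓ f V c) = GeomIrrGen.resMap f x c := by
  change (X.residue x).hom ((X.presheaf.germ V x hx).hom
    ((X.presheaf.map (homOfLE (le_top : V ≤ ⊤)).op).hom (Coh.toGlobal f c))) =
    (X.residue x).hom ((X.presheaf.germ ⊤ x trivial).hom (Coh.toGlobal f c))
  congr 1
  exact X.presheaf.germ_res_apply (homOfLE (le_top : V ≤ ⊤)) x hx _

theorem ev_eq_zero_of_generic [IrreducibleSpace X] (V : X.Opens) (hξ : genericPoint X ∈ V)
    (t : Γ(X, V)) (ht : ev V (genericPoint X) hξ t = 0) (x : X) (hx : x ∈ V) :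
    ev V x hx t = 0 := by
  by_contra hne
  have hxb : x ∈ X.basicOpen t := by
    rw [Scheme.mem_basicOpen _ _ x hx]
    by_contra hnu
    apply hne
    change IsLocalRing.residue _ _ = 0
    rw [IsLocalRing.residue_eq_zero_iff]
    exact hnu
  have hξb : genericPoint X ∈ X.basicOpen t := by
    change genericPoint X ∈ ((X.basicOpen t : X.Opens) : Set X)
    rw [(genericPoint_spec X).mem_open_set_iff (X.basicOpen t).isOpen]
    exact ⟨x, trivial, hxb⟩
  rw [Scheme.mem_basicOpen _ _ _ hξ] at hξb
  have : IsUnit (ev V (genericPoint X) hξ t) := hξb.map (X.residue _).hom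
  rw [ht] at this
  exact not_isUnit_zero this

/-- If `X` is irreducible but not geometrically irreducible over `k`, some nonempty open subset of
`X` contains no point with purely inseparable residue field. -/
theorem exists_open_no_purelyInseparable [IrreducibleSpace X] (h : ¬ GeometricallyIrreducible f) :
    ∃ V : X.Opens, genericPoint X ∈ V ∧ ∀ x ∈ V,
      ¬ (letI := (GeomIrrGen.resMap f x).toAlgebra; IsPurelyInseparable k (X.residueField x)) := by
  set ξ := genericPoint X with hξdef
  letI algξ : Algebra k (X.residueField ξ) := (GeomIrrGen.resMap f ξ).toAlgebra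
  -- a separable element of κ(ξ) not in k
  have hex : ∃ a : X.residueField ξ, IsSeparable k a ∧
      a ∉ Set.range (algebraMap k (X.residueField ξ)) := by
    by_contra hcon
    push Not at hcon
    apply h
    refine GeomIrrGen.geometricallyIrreducible_of_generic f ?_
    exact Groth.Agent.Lib.Helper22.SchGeomConn.geometricallyIrreducible_specMap_of_sepClosedIn
      (k := k) (F := X.residueField ξ) hcon
  obtain ⟨a, hasep, hnot⟩ := hex
  have haint : IsIntegral k a := hasep.isIntegral
  set P := minpoly k a with hP
  have hPirr : Irreducible P := minpoly.irreducible haint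
  have hPsep : P.Separable := hasep
  -- lift `a` to a section over an open `V ∋ ξ`
  obtain ⟨a', ha'⟩ := X.residue_surjective ξ a
  obtain ⟨V, hξV, s, hs⟩ := X.presheaf.exists_germ_eq a'
  refine ⟨V, hξV, ?_⟩
  intro x hx hpi
  letI algx : Algebra k (X.residueField x) := (GeomIrrGen.resMap f x).toAlgebra
  haveI : IsPurelyInseparable k (X.residueField x) := hpi
  set t : Γ(X, V) := P.eval₂ (kToΓ f V) s with htdef
  have hev : ∀ (y : X) (hy : y ∈ V),
      ev V y hy t = P.eval₂ (GeomIrrGen.resMap f y) (ev V y hy s) := by
    intro y hy
    rw [htdef, Polynomial.hom_eval₂]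
    congr 1
    ext c
    exact ev_kToΓ f V y hy c
  have hξs : ev V ξ hξV s = a := by
    change (X.residue ξ).hom ((X.presheaf.germ V ξ hξV).hom s) = a
    rw [← ha']
    congr 1
  have htξ : ev V ξ hξV t = 0 := by
    rw [hev ξ hξV, hξs]
    exact minpoly.aeval k a
  have htx : ev V x hx t = 0 := ev_eq_zero_of_generic V hξV t htξ x hx
  set b : X.residueField x := ev V x hx s with hb
  have hbroot : Polynomial.aeval b P = 0 := by
    rw [hev x hx] at htx
    exact htx
  have hP0 : P ≠ 0 := hPirr.ne_zero
  have hbint : IsIntegral k b := ⟨P, minpoly.monic haint, hbroot⟩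
  have hbsep : IsSeparable k b := hPsep.of_dvd (minpoly.dvd k b hbroot)
  obtain ⟨c, hc⟩ := IsPurelyInseparable.inseparable k b hbsep
  have hcroot : P.IsRoot c := by
    rw [← hc, Polynomial.aeval_algebraMap_apply] at hbroot
    have hinj : Function.Injective (algebraMap k (X.residueField x)) :=
      (algebraMap k (X.residueField x)).injective
    exact hinj (by rw [map_zero]; simpa using hbroot)
  have hdeg : P.degree = 1 := Polynomial.degree_eq_one_of_irreducible_of_root hPirr hcroot
  exact hnot (minpoly.mem_range_of_degree_eq_one k a hdeg)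

end Groth.Agent.Lib.Helper22.NoPIPoints
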