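import Mathlib
import Groth.Prelude.Def_FDesc
import Groth.Agent.Lib.Helper22.NoPIPoints
import Groth.Agent.Lib.Helper13.AlgClosureFG

/-!
# Residue fields of schemes locally of finite type over a field are finitely generated (helper22)
-/

set_option autoImplicit false
set_option linter.style.haveILetI false
universe u
noncomputable section
namespace Groth.Agent.Lib.Helper22.NoPIPoints

open CategoryTheory CategoryTheory.Limits AlgebraicGeometry
open Groth.Agent.Lib.Helper18

variable {k : Type u} [Field k] {X : Scheme.{u}} (f : X ⟶ Spec (CommRingCat.of k))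

theorem essFiniteType_resMap [LocallyOfFiniteType f] (x : X) :
    (GeomIrrGen.resMap f x).EssFiniteType := by
  obtain ⟨U, hU, hxU, -⟩ := exists_isAffineOpen_mem_and_subset (x := x) (U := ⊤) trivial
  have h1 : (kToΓ f U).FiniteType := by
    have hsurj : Function.Surjective (Scheme.ΓSpecIso (CommRingCat.of k)).inv.hom :=
      (ConcreteCategory.bijective_of_isIso (Scheme.ΓSpecIso (CommRingCat.of k)).inv).2
    have h0 : kToΓ f U = ((f.appLE ⊤ U le_top).hom).comp
        (Scheme.ΓSpecIso (CommRingCat.of k)).inv.hom := rfl
    rw [h0]
    exact RingHom.FiniteType.comp (f.finiteType_appLE (isAffineOpen_top _) hU le_top)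
      (RingHom.FiniteType.of_surjective _ hsurj)
  have h2 : (X.presheaf.germ U x hxU).hom.EssFiniteType := by
    letI := TopCat.Presheaf.algebra_section_stalk X.presheaf ⟨x, hxU⟩
    haveI := hU.isLocalization_stalk ⟨x, hxU⟩
    have : Algebra.EssFiniteType Γ(X, U) (X.presheaf.stalk x) :=
      .of_isLocalization _ (hU.primeIdealOf ⟨x, hxU⟩).asIdeal.primeCompl
    exact RingHom.essFiniteType_algebraMap.mpr this
  have h3 : (X.residue x).hom.EssFiniteType :=
    (RingHom.FiniteType.of_surjective _ (X.residue_surjective x)).essFiniteType
  have heq : GeomIrrGen.resMap f x =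
      ((X.residue x).hom.comp (X.presheaf.germ U x hxU).hom).comp (kToΓ f U) := by
    ext c; exact (ev_kToΓ f U x hxU c).symm
  rw [heq]
  exact (h1.essFiniteType).comp (h2.comp h3)

/-- For `X` locally of finite type over `k`, the separable closure of `k` in every residue field is
finite over `k`. -/
theorem residueFieldProp_finite_separableClosure [LocallyOfFiniteType f] (x : X) :
    FBase.ResidueFieldProp f x (fun K _ _ => FiniteDimensional k (separableClosure k K)) := by
  refine ⟨GeomIrrGen.resMap f x, (GeomIrrGen.fromSpecResidueField_comp f x).symm, ?_⟩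
  letI := (GeomIrrGen.resMap f x).toAlgebra
  haveI : Algebra.EssFiniteType k (X.residueField x) :=
    RingHom.essFiniteType_algebraMap.mp (essFiniteType_resMap f x)
  haveI : Module.Finite k (algebraicClosure k (X.residueField x)) :=
    Groth.Agent.Lib.Helper13.AlgClosureFG.finite_algebraicClosure k (X.residueField x)
  have hle : separableClosure k (X.residueField x) ≤ algebraicClosure k (X.residueField x) :=
    le_algebraicClosure k (X.residueField x) _
  exact FiniteDimensional.of_injective (IntermediateField.inclusion hle).toLinearMap
    (IntermediateField.inclusion hle).injective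

end Groth.Agent.Lib.Helper22.NoPIPoints
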