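import Mathlib
import Groth.Prelude.Def_FDesc
import Groth.Agent.Lib.Helper22.SchGeomConn4

/-!
# Bounding the number of geometric connected components (helper22)

EGA IV 4.5.x: if `X` is a connected `k`-scheme with a point `x` such that the separable closure
`k'` of `k` in `κ(x)` is finite over `k`, then `X_Ω` has at most `[k' : k]` connected components.
-/

set_option autoImplicit false
set_option linter.style.haveILetI false
universe u
noncomputable section
namespace Groth.Agent.Lib.Helper22.SchGeomConn

open TensorProduct CategoryTheory CategoryTheory.Limits AlgebraicGeometry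

/-- If finitely many points `s i` meet every nonempty clopen subset, then the space has at most
`card ι` connected components. -/
theorem finite_connectedComponents_of_meets {A : Type*} [TopologicalSpace A] {ι : Type*} [Finite ι]
    (s : ι → A) (hs : ∀ U : Set A, IsClopen U → U.Nonempty → ∃ i, s i ∈ U) :
    Finite (ConnectedComponents A) ∧ Nat.card (ConnectedComponents A) ≤ Nat.card ι := by
  classical
  rcases isEmpty_or_nonempty A with hA | hA
  · haveI : IsEmpty (ConnectedComponents A) := ⟨fun c => by
      obtain ⟨a, _⟩ := ConnectedComponents.surjective_coe c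
      exact hA.elim a⟩
    exact ⟨inferInstance, by simp⟩
  let P : ℕ → Prop := fun r => ∃ φ : A → Fin r, Continuous φ ∧ Function.Surjective φ
  have hbound : ∀ r, P r → r ≤ Nat.card ι := by
    rintro r ⟨φ, hφc, hφs⟩
    have hsurj : Function.Surjective (φ ∘ s) := by
      intro j
      obtain ⟨a, ha⟩ := hφs j
      have hclopen : IsClopen (φ ⁻¹' {j}) := (isClopen_discrete {j}).preimage hφc
      obtain ⟨i, hi⟩ := hs _ hclopen ⟨a, ha⟩
      exact ⟨i, hi⟩
    have := Nat.card_le_card_of_surjective _ hsurj
    simpa using this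
  have hP1 : P 1 := ⟨fun _ => 0, continuous_const, fun j => ⟨Classical.arbitrary A,
    Subsingleton.elim _ _⟩⟩
  set r := Nat.findGreatest P (Nat.card ι) with hr
  have h1le : 1 ≤ Nat.card ι := hbound 1 hP1
  have hPr : P r := Nat.findGreatest_spec h1le hP1
  obtain ⟨φ, hφc, hφs⟩ := hPr
  have hfib : ∀ j, IsPreconnected (φ ⁻¹' {j}) := by
    intro j0
    by_contra hnp
    have hcl : IsClosed (φ ⁻¹' {j0}) := (isClosed_discrete {j0}).preimage hφc
    have hop : IsOpen (φ ⁻¹' {j0}) := (isOpen_discrete {j0}).preimage hφc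
    rw [isPreconnected_iff_subset_of_fully_disjoint_closed hcl] at hnp
    simp only [not_forall, not_or] at hnp
    obtain ⟨u, v, hu, hv, huv, hdisj, hnu, hnv⟩ := hnp
    set W := φ ⁻¹' {j0} ∩ u with hW
    have hWcl : IsClosed W := hcl.inter hu
    have hWeq : W = φ ⁻¹' {j0} ∩ vᶜ := by
      ext a; constructor
      · rintro ⟨h1, h2⟩; exact ⟨h1, fun h3 => Set.disjoint_left.mp hdisj h2 h3⟩
      · rintro ⟨h1, h2⟩; exact ⟨h1, (huv h1).resolve_right h2⟩
    have hWop : IsOpen W := by rw [hWeq]; exact hop.inter hv.isOpen_compl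
    obtain ⟨a1, ha1, ha1v⟩ := Set.not_subset.mp hnv
    obtain ⟨a2, ha2, ha2u⟩ := Set.not_subset.mp hnu
    have ha1W : a1 ∈ W := by rw [hWeq]; exact ⟨ha1, ha1v⟩
    have ha2W : a2 ∉ W := fun h => ha2u h.2
    let ψ : A → Fin (r+1) := fun a => if a ∈ W then Fin.last r else (φ a).castSucc
    have hψW : ∀ a, a ∈ W → ψ a = Fin.last r := fun a h => by simp [ψ, h]
    have hψnW : ∀ a, a ∉ W → ψ a = (φ a).castSucc := fun a h => by simp [ψ, h]
    have hψc : Continuous ψ := by
      rw [continuous_discrete_rng]
      intro b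
      refine Fin.lastCases ?_ ?_ b
      · have : ψ ⁻¹' {Fin.last r} = W := by
          ext a
          simp only [Set.mem_preimage, Set.mem_singleton_iff]
          by_cases h : a ∈ W
          · simp [hψW a h, h]
          · simp [hψnW a h, h, (Fin.castSucc_lt_last _).ne]
        rw [this]; exact hWop
      · intro j
        have : ψ ⁻¹' {j.castSucc} = φ ⁻¹' {j} ∩ Wᶜ := by
          ext a
          simp only [Set.mem_preimage, Set.mem_singleton_iff, Set.mem_inter_iff,
            Set.mem_compl_iff]
          by_cases h : a ∈ W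
          · simp [hψW a h, h, (Fin.castSucc_lt_last j).ne']
          · simp [hψnW a h, h, Fin.castSucc_inj]
        rw [this]; exact ((isOpen_discrete {j}).preimage hφc).inter hWcl.isOpen_compl
    have hψs : Function.Surjective ψ := by
      intro b
      refine Fin.lastCases ?_ ?_ b
      · exact ⟨a1, hψW a1 ha1W⟩
      · intro j
        by_cases hj : j = j0
        · subst hj
          refine ⟨a2, ?_⟩
          rw [hψnW a2 ha2W]
          congr 1
        · obtain ⟨a, ha⟩ := hφs j
          have haW : a ∉ W := fun h => hj (by rw [← ha]; exact h.1)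
          exact ⟨a, by rw [hψnW a haW, ha]⟩
    have hPr1 : P (r+1) := ⟨ψ, hψc, hψs⟩
    have hle := hbound _ hPr1
    exact Nat.findGreatest_is_greatest (Nat.lt_succ_self r) hle hPr1
  choose a ha using hφs
  let Φ : Fin r → ConnectedComponents A := fun j => (a j : ConnectedComponents A)
  have hΦ : Function.Surjective Φ := by
    intro c
    obtain ⟨b, rfl⟩ := ConnectedComponents.surjective_coe c
    refine ⟨φ b, ?_⟩
    show ((a (φ b) : A) : ConnectedComponents A) = (b : ConnectedComponents A)
    rw [ConnectedComponents.coe_eq_coe']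
    exact (hfib (φ b)).subset_connectedComponent (show b ∈ φ ⁻¹' {φ b} from rfl) (ha (φ b))
  haveI := Finite.of_surjective Φ hΦ
  refine ⟨inferInstance, ?_⟩
  calc Nat.card (ConnectedComponents A) ≤ Nat.card (Fin r) :=
        Nat.card_le_card_of_surjective Φ hΦ
    _ = r := by simp
    _ ≤ Nat.card ι := Nat.findGreatest_le _


/-- `F ⊗_k L` has at most `[F : k]` primes, for `F/k` finite. -/
theorem card_primeSpectrum_tensor_le {k F L : Type u} [Field k] [Field F] [Algebra k F]
    [FiniteDimensional k F] [Field L] [Algebra k L] :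
    Finite (PrimeSpectrum (F ⊗[k] L)) ∧
      Nat.card (PrimeSpectrum (F ⊗[k] L)) ≤ Module.finrank k F := by
  haveI : Algebra.IsAlgebraic k F := Algebra.IsAlgebraic.of_finite k F
  have key : ∀ P : PrimeSpectrum (F ⊗[k] L), ∃ j : F →ₐ[k] AlgebraicClosure L,
      RingHom.ker (GalTrans.evalHom j).toRingHom = P.asIdeal :=
    fun P => GalTrans.exists_embedding_ker_eq P.asIdeal
  choose j hj using key
  have hinj : Function.Injective j := by
    intro P Q h
    apply PrimeSpectrum.ext
    rw [← hj P, ← hj Q, h]
  haveI : Finite (F →ₐ[k] AlgebraicClosure L) := inferInstance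
  exact ⟨Finite.of_injective j hinj, (Nat.card_le_card_of_injective j hinj).trans
    (card_algHom_le_finrank k F (AlgebraicClosure L))⟩

/-- Core count with an abstract intermediate field `K₁`. -/
theorem card_primeSpectrum_tensor_le_aux {K K₁ F L : Type u} [Field K] [Field K₁] [Field F]
    [Algebra K K₁] [Algebra K F] [Algebra K₁ F] [IsScalarTower K K₁ F] [Field L]
    [Algebra K L] [Algebra.IsAlgebraic K L] [FiniteDimensional K K₁]
    (hsep : ∀ α : F, IsSeparable K₁ α → α ∈ Set.range (algebraMap K₁ F)) :
    Finite (PrimeSpectrum (F ⊗[K] L)) ∧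
      Nat.card (PrimeSpectrum (F ⊗[K] L)) ≤ Module.finrank K K₁ := by
  haveI : Algebra.IsIntegral K L := Algebra.IsAlgebraic.isIntegral
  haveI : Algebra.IsIntegral K₁ (K₁ ⊗[K] L) := inferInstance
  obtain ⟨hfin, hcard⟩ := card_primeSpectrum_tensor_le (k := K) (F := K₁) (L := L)
  let c1 : PrimeSpectrum (F ⊗[K₁] (K₁ ⊗[K] L)) → PrimeSpectrum (K₁ ⊗[K] L) :=
    PrimeSpectrum.comap
      (Algebra.TensorProduct.includeRight : (K₁ ⊗[K] L) →ₐ[K₁] F ⊗[K₁] (K₁ ⊗[K] L)).toRingHom
  have hc1 : Function.Injective c1 := by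
    intro 𝔓 𝔓' h
    have h' := congrArg PrimeSpectrum.asIdeal h
    exact PrimeSpectrum.ext (GalPrimes.eq_of_comap_eq hsep 𝔓.asIdeal 𝔓'.asIdeal h')
  let e := Algebra.TensorProduct.cancelBaseChange K K₁ K₁ F L
  let c2 : PrimeSpectrum (F ⊗[K] L) → PrimeSpectrum (F ⊗[K₁] (K₁ ⊗[K] L)) :=
    PrimeSpectrum.comap e.toRingEquiv.toRingHom
  have hc2 : Function.Injective c2 := PrimeSpectrum.comap_injective_of_surjective _ e.surjective
  have hinj := hc1.comp hc2
  exact ⟨Finite.of_injective _ hinj, (Nat.card_le_card_of_injective _ hinj).trans hcard⟩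

/-- `κ ⊗_k L` has at most `[k' : k]` primes, for `L/k` algebraic and `k'` the separable closure of
`k` in `κ`, assumed finite over `k`. -/
theorem card_primeSpectrum_tensor_le_sepClosure {k κ L : Type u} [Field k] [Field κ] [Algebra k κ]
    [Field L] [Algebra k L] [Algebra.IsAlgebraic k L]
    [FiniteDimensional k (separableClosure k κ)] :
    Finite (PrimeSpectrum (κ ⊗[k] L)) ∧
      Nat.card (PrimeSpectrum (κ ⊗[k] L)) ≤ Module.finrank k (separableClosure k κ) :=
  card_primeSpectrum_tensor_le_aux (K₁ := separableClosure k κ)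
    (sepClosedIn_of_separableClosure_eq_bot (separableClosure.separableClosure_eq_bot k κ))

variable {k : Type u} [Field k] {X Y : Scheme.{u}} (f : X ⟶ Spec (CommRingCat.of k))

/-- The base change of a `k`-morphism, with its range. -/
theorem exists_bcLift (g : Y ⟶ X) (K : Type u) [Field K] [Algebra k K] :
    ∃ gK : FBase.bc (g ≫ f) K ⟶ FBase.bc f K,
      Set.range gK = FBase.bcπ f K ⁻¹' Set.range g := by
  let s : Spec (CommRingCat.of K) ⟶ Spec (CommRingCat.of k) :=
    Spec.map (CommRingCat.ofHom (algebraMap k K))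
  let p : pullback f s ⟶ X := pullback.fst f s
  let gK : pullback (g ≫ f) s ⟶ pullback f s :=
    pullback.lift (pullback.fst _ _ ≫ g) (pullback.snd _ _)
      (by rw [Category.assoc]; exact pullback.condition)
  have hgK1 : gK ≫ p = pullback.fst (g ≫ f) s ≫ g := pullback.lift_fst _ _ _
  have hgK2 : gK ≫ pullback.snd f s = pullback.snd (g ≫ f) s := pullback.lift_snd _ _ _
  have hpb : IsPullback gK (pullback.fst (g ≫ f) s) p g := by
    have hbig : IsPullback (pullback.fst (g ≫ f) s) (pullback.snd (g ≫ f) s) (g ≫ f) s :=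
      IsPullback.of_hasPullback _ _
    have hsmall : IsPullback p (pullback.snd f s) f s := IsPullback.of_hasPullback _ _
    refine IsPullback.of_right ?_ hgK1 hsmall.flip
    rw [hgK2]
    exact hbig.flip
  refine ⟨gK, ?_⟩
  change Set.range gK = p ⁻¹' Set.range g
  have h1 : Set.range gK = Set.range (pullback.fst p g) := by
    have h2 : hpb.isoPullback.hom ≫ pullback.fst p g = gK := hpb.isoPullback_hom_fst
    rw [← h2]
    ext x
    constructor
    · rintro ⟨a, rfl⟩
      exact ⟨hpb.isoPullback.hom a, by rw [← Scheme.Hom.comp_apply]⟩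
    · rintro ⟨a, rfl⟩
      refine ⟨hpb.isoPullback.inv a, ?_⟩
      simp [← Scheme.Hom.comp_apply]
  rw [h1, Scheme.Pullback.range_fst]

/-- Algebraic case of the bound. -/
theorem card_connectedComponents_bc_le_of_isAlgebraic [ConnectedSpace X] (x : X)
    (φ : k →+* X.residueField x)
    (hφ : Spec.map (CommRingCat.ofHom φ) = X.fromSpecResidueField x ≫ f)
    (L : Type u) [Field L] [Algebra k L] [Algebra.IsAlgebraic k L]
    (hfin : letI := φ.toAlgebra; FiniteDimensional k (separableClosure k (X.residueField x))) :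
    Finite (_root_.ConnectedComponents ↥(FBase.bc f L)) ∧
      Nat.card (_root_.ConnectedComponents ↥(FBase.bc f L)) ≤
        (letI := φ.toAlgebra; Module.finrank k (separableClosure k (X.residueField x))) := by
  letI := φ.toAlgebra
  haveI := hfin
  obtain ⟨gL, hgL⟩ := exists_bcLift f (X.fromSpecResidueField x) L
  have hι : Finite ↥(FBase.bc (X.fromSpecResidueField x ≫ f) L) ∧
      Nat.card ↥(FBase.bc (X.fromSpecResidueField x ≫ f) L) ≤
        Module.finrank k (separableClosure k (X.residueField x)) := by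
    rw [← hφ]
    have e : ↥(pullback (Spec.map (CommRingCat.ofHom (algebraMap k (X.residueField x))))
        (Spec.map (CommRingCat.ofHom (algebraMap k L)))) ≃ₜ
        PrimeSpectrum ((X.residueField x) ⊗[k] L) :=
      (pullbackSpecIso k (X.residueField x) L).hom.homeomorph
    obtain ⟨h1, h2⟩ := card_primeSpectrum_tensor_le_sepClosure (k := k)
      (κ := X.residueField x) (L := L)
    exact ⟨Finite.of_equiv _ e.symm.toEquiv, (Nat.card_congr e.toEquiv).le.trans h2⟩
  obtain ⟨hι1, hι2⟩ := hι
  have hs : ∀ U : Set ↥(FBase.bc f L), IsClopen U → U.Nonempty → ∃ i, gL i ∈ U := by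
    intro U hU hUne
    have hcl : IsClopen (FBase.bcπ f L '' U) :=
      ⟨isClosedMap_bcπ f L _ hU.1, isOpenMap_bcπ f L _ hU.2⟩
    have huniv : FBase.bcπ f L '' U = Set.univ := by
      rcases isClopen_iff.mp hcl with h | h
      · exact absurd (hUne.image _) (by rw [h]; exact Set.not_nonempty_empty)
      · exact h
    have hx : x ∈ FBase.bcπ f L '' U := by rw [huniv]; trivial
    obtain ⟨u, huU, hux⟩ := hx
    have hur : u ∈ Set.range gL := by
      rw [hgL, Scheme.range_fromSpecResidueField]
      exact hux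
    obtain ⟨i, rfl⟩ := hur
    exact ⟨i, huU⟩
  obtain ⟨h1, h2⟩ := finite_connectedComponents_of_meets (fun i => gL i) hs
  exact ⟨h1, h2.trans hι2⟩

/-- EGA IV 4.5.x: at most `[k' : k]` connected components after base change to an algebraically
closed field. -/
theorem card_connectedComponents_bc_le [ConnectedSpace X] (x : X) (Ω : Type u) [Field Ω]
    [Algebra k Ω] [IsAlgClosed Ω] :
    FBase.ResidueFieldProp f x (fun K _ _ =>
      FiniteDimensional k (separableClosure k K) →
        Finite (_root_.ConnectedComponents ↥(FBase.bc f Ω)) ∧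
          Nat.card (_root_.ConnectedComponents ↥(FBase.bc f Ω)) ≤
            Module.finrank k (separableClosure k K)) := by
  obtain ⟨φ', hφ'⟩ := Spec.map_surjective (X.fromSpecResidueField x ≫ f)
  refine ⟨φ'.hom, hφ', ?_⟩
  intro hfin
  let L : Type u := ↥(algebraicClosure k Ω)
  haveI : IsAlgClosure k L := algebraicClosure.isAlgClosure (F := k) (E := Ω)
  haveI : IsAlgClosed L := IsAlgClosure.isAlgClosed k
  haveI : Algebra.IsAlgebraic k L := IsAlgClosure.isAlgebraic
  obtain ⟨h1, h2⟩ := card_connectedComponents_bc_le_of_isAlgebraic f x φ'.hom hφ' L hfin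
  haveI := SchBC.geometricallyConnected_bcMap f L Ω
  haveI := SchBC.universallyOpen_bcMap f L Ω
  have e := Scheme.Hom.connectedComponentsHomeomorph (SchBC.bcMap f L Ω)
    (SchBC.bcMap f L Ω).isOpenMap
  exact ⟨Finite.of_equiv _ e.symm.toEquiv, (Nat.card_congr e.toEquiv).le.trans h2⟩

end Groth.Agent.Lib.Helper22.SchGeomConn
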