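import Mathlib
import Groth.Agent.S2150
import Groth.Agent.S9627

/-!
# Primes of `κ ⊗_k k''` for `k''/k` normal (helper22)

Let `k'` be a subfield of `κ`, algebraic over `k` and embeddable in the normal extension `k''/k`.
* `exists_embedding_compat` (A1): every maximal ideal `𝔮` of `κ ⊗_k k''` determines an embedding
  `τ : k' → k''` with `a ⊗ 1 - 1 ⊗ τ a ∈ 𝔮`.
* `swapMap`, `ker_swapMap_le` (A2): then `𝔮` comes from `k'' ⊗_{k',τ} κ`.
* `geometricallyConnected_specMap_tensor`, `geometricallyIrreducible_specMap_tensor` (A3): if `k'`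
  is separably closed in `κ`, `Spec (k'' ⊗_{k'} κ) ⟶ Spec k''` is geometrically irreducible.
-/

set_option autoImplicit false
set_option linter.style.haveILetI false
universe u
noncomputable section
namespace Groth.Agent.Lib.Helper22.SplitPrime

open TensorProduct CategoryTheory CategoryTheory.Limits AlgebraicGeometry

/-- Lemma A1: for a maximal ideal `𝔮` of `κ ⊗_k k''` with `k''/k` normal and a subfield `k' ⊆ κ`
algebraic over `k` that embeds into `k''`, there is an embedding `τ : k' → k''` such that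
`a ⊗ 1 - 1 ⊗ τ a ∈ 𝔮` for all `a ∈ k'`. -/
theorem exists_embedding_compat {k κ k'' : Type u} [Field k] [Field κ] [Algebra k κ] [Field k'']
    [Algebra k k''] [Normal k k''] (k' : IntermediateField k κ) [Algebra.IsAlgebraic k k']
    (τ₀ : k' →ₐ[k] k'') (𝔮 : Ideal (κ ⊗[k] k'')) [h𝔮 : 𝔮.IsMaximal] :
    ∃ τ : k' →ₐ[k] k'', ∀ a : k', ((a : κ) ⊗ₜ[k] (1 : k'') - (1 : κ) ⊗ₜ[k] τ a) ∈ 𝔮 := by
  letI : Field ((κ ⊗[k] k'') ⧸ 𝔮) := Ideal.Quotient.field 𝔮
  let E' := (κ ⊗[k] k'') ⧸ 𝔮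
  let ι₁ : κ →ₐ[k] E' := (Ideal.Quotient.mkₐ k 𝔮).comp Algebra.TensorProduct.includeLeft
  let ι₂ : k'' →ₐ[k] E' := (Ideal.Quotient.mkₐ k 𝔮).comp Algebra.TensorProduct.includeRight
  have hι₂ : Function.Injective ι₂ := ι₂.toRingHom.injective
  have hmem : ∀ a : k', ι₁ (a : κ) ∈ ι₂.range := by
    intro a
    have hint : IsIntegral k (a : k') := (Algebra.IsAlgebraic.isAlgebraic a).isIntegral
    have hint' : IsIntegral k (ι₁ (a : κ)) := by
      have : ι₁ (a : κ) = (ι₁.comp k'.val) a := rfl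
      rw [this]
      exact hint.map _
    have hmp : minpoly k (ι₁ (a : κ)) = minpoly k (τ₀ a) := by
      have e1 : minpoly k ((ι₁.comp k'.val) a) = minpoly k a :=
        minpoly.algHom_eq _ (ι₁.comp k'.val).toRingHom.injective a
      have e2 : minpoly k (τ₀ a) = minpoly k a := minpoly.algHom_eq _ τ₀.toRingHom.injective a
      rw [e2, ← e1]
      rfl
    refine hint'.mem_range_algHom_of_minpoly_splits ?_ ι₂
    rw [hmp]
    exact Normal.splits inferInstance (τ₀ a)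
  choose b hb using hmem
  have hbeq : ∀ a : k', ι₂ (b a) = ι₁ (a : κ) := hb
  let τ : k' →ₐ[k] k'' :=
    { toFun := b
      map_one' := hι₂ (by rw [hbeq, map_one]; simp)
      map_mul' := fun x y => hι₂ (by rw [map_mul, hbeq, hbeq, hbeq]; simp)
      map_zero' := hι₂ (by rw [hbeq, map_zero]; simp)
      map_add' := fun x y => hι₂ (by rw [map_add, hbeq, hbeq, hbeq]; simp)
      commutes' := fun c => hι₂ (by
        rw [hbeq, AlgHom.commutes]
        have : ((algebraMap k k') c : κ) = algebraMap k κ c := rfl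
        rw [this, AlgHom.commutes]) }
  refine ⟨τ, fun a => ?_⟩
  rw [← Ideal.Quotient.eq]
  exact (hbeq a).symm


section A2

variable {k κ k'' K₁ : Type u} [Field k] [Field κ] [Algebra k κ] [Field k''] [Algebra k k'']
  [Field K₁] [Algebra k K₁] [Algebra K₁ κ] [Algebra K₁ k''] [IsScalarTower k K₁ κ]
  [IsScalarTower k K₁ k'']

/-- The canonical map `κ ⊗_k k'' → k'' ⊗_{K₁} κ`, `a ⊗ b ↦ b ⊗ a`. -/
def swapMap : κ ⊗[k] k'' →+* k'' ⊗[K₁] κ :=
  (Algebra.TensorProduct.mapOfCompatibleSMul K₁ k k k'' κ).toRingHom.comp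
    (Algebra.TensorProduct.comm k κ k'').toAlgHom.toRingHom

theorem swapMap_tmul (a : κ) (b : k'') : swapMap (K₁ := K₁) (a ⊗ₜ[k] b) = b ⊗ₜ[K₁] a := rfl

theorem swapMap_surjective : Function.Surjective (swapMap (k := k) (κ := κ) (k'' := k'') (K₁ := K₁)) :=
  (Algebra.TensorProduct.mapOfCompatibleSMul_surjective K₁ k k k'' κ).comp
    (Algebra.TensorProduct.comm k κ k'').surjective

/-- Lemma A2. -/
theorem ker_swapMap_le (𝔮 : Ideal (κ ⊗[k] k''))
    (h : ∀ a : K₁, ((algebraMap K₁ κ a) ⊗ₜ[k] (1 : k'') - (1 : κ) ⊗ₜ[k] (algebraMap K₁ k'' a)) ∈ 𝔮) :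
    RingHom.ker (swapMap (k := k) (κ := κ) (k'' := k'') (K₁ := K₁)) ≤ 𝔮 := by
  let E' := (κ ⊗[k] k'') ⧸ 𝔮
  let ι₁ : κ →+* E' := (Ideal.Quotient.mk 𝔮).comp
    (Algebra.TensorProduct.includeLeft : κ →ₐ[k] κ ⊗[k] k'').toRingHom
  let ι₂ : k'' →+* E' := (Ideal.Quotient.mk 𝔮).comp
    (Algebra.TensorProduct.includeRight : k'' →ₐ[k] κ ⊗[k] k'').toRingHom
  haveI : IsScalarTower K₁ K₁ E' := IsScalarTower.left K₁
  let g : κ →ₐ[K₁] E' := { ι₁ with commutes' := fun _ => rfl }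
  let f : k'' →ₐ[K₁] E' := { ι₂ with
    commutes' := fun a => by
      change Ideal.Quotient.mk 𝔮 ((1 : κ) ⊗ₜ[k] (algebraMap K₁ k'' a)) =
        Ideal.Quotient.mk 𝔮 ((algebraMap K₁ κ a) ⊗ₜ[k] (1 : k''))
      rw [eq_comm, Ideal.Quotient.eq]
      exact h a }
  let Φ : k'' ⊗[K₁] κ →ₐ[K₁] E' := Algebra.TensorProduct.lift f g (fun _ _ => Commute.all _ _)
  have hcomp : ∀ x : κ ⊗[k] k'', Φ (swapMap (K₁ := K₁) x) = Ideal.Quotient.mk 𝔮 x := by
    intro x
    induction x using TensorProduct.induction_on with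
    | zero => simp
    | tmul a b =>
      rw [swapMap_tmul, Algebra.TensorProduct.lift_tmul]
      change Ideal.Quotient.mk 𝔮 ((1 : κ) ⊗ₜ[k] b) * Ideal.Quotient.mk 𝔮 (a ⊗ₜ[k] (1 : k'')) = _
      rw [← map_mul, Algebra.TensorProduct.tmul_mul_tmul, one_mul, mul_one]
    | add x y hx hy => rw [map_add, map_add, hx, hy, map_add]
  intro x hx
  have h0 : swapMap (K₁ := K₁) x = 0 := hx
  have := hcomp x
  rw [h0, map_zero] at this
  exact Ideal.Quotient.eq_zero_iff_mem.mp this.symm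

end A2


section A3

variable {κ k'' K₁ : Type u} [Field κ] [Field k''] [Field K₁] [Algebra K₁ κ] [Algebra K₁ k'']

/-- If `K₁` is separably closed in `κ`, then `(k'' ⊗_{K₁} κ) ⊗_{k''} K` has irreducible spectrum
for every field extension `K/k''`. -/
theorem irreducibleSpace_tensor_tensor
    (hF : ∀ α : κ, IsSeparable K₁ α → α ∈ Set.range (algebraMap K₁ κ))
    (K : Type u) [Field K] [Algebra k'' K] :
    IrreducibleSpace (PrimeSpectrum ((k'' ⊗[K₁] κ) ⊗[k''] K)) := by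
  letI : Algebra K₁ K := ((algebraMap k'' K).comp (algebraMap K₁ k'')).toAlgebra
  haveI : IsScalarTower K₁ k'' K := IsScalarTower.of_algebraMap_eq (fun _ => rfl)
  haveI h1 : IrreducibleSpace (PrimeSpectrum (K ⊗[K₁] κ)) := (Groth.Agent.S2150.result.mpr hF) K
  let e1 : (k'' ⊗[K₁] κ) ⊗[k''] K ≃ₐ[k''] K ⊗[k''] (k'' ⊗[K₁] κ) :=
    Algebra.TensorProduct.comm k'' _ _
  let e2 : K ⊗[k''] (k'' ⊗[K₁] κ) ≃ₐ[K] K ⊗[K₁] κ :=
    Algebra.TensorProduct.cancelBaseChange K₁ k'' K K κ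
  exact Groth.Agent.S9627.irr_of_equiv (e1.toRingEquiv.trans e2.toRingEquiv)

/-- `Spec (k'' ⊗_{K₁} κ) ⟶ Spec k''` is geometrically irreducible when `K₁` is separably closed
in `κ`. -/
theorem geometricallyIrreducible_specMap_tensor
    (hF : ∀ α : κ, IsSeparable K₁ α → α ∈ Set.range (algebraMap K₁ κ)) :
    GeometricallyIrreducible
      (Spec.map (CommRingCat.ofHom (algebraMap k'' (k'' ⊗[K₁] κ)))) := by
  rw [GeometricallyIrreducible.eq_geometrically,
    geometrically_iff_of_commRing_of_isClosedUnderIsomorphisms]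
  intro K _ _
  haveI := irreducibleSpace_tensor_tensor (k'' := k'') hF K
  rw [(pullbackSpecIso k'' (k'' ⊗[K₁] κ) K).hom.homeomorph.irreducibleSpace_iff]
  exact inferInstanceAs (IrreducibleSpace (PrimeSpectrum ((k'' ⊗[K₁] κ) ⊗[k''] K)))

/-- `Spec (k'' ⊗_{K₁} κ) ⟶ Spec k''` is geometrically connected when `K₁` is separably closed
in `κ`. -/
theorem geometricallyConnected_specMap_tensor
    (hF : ∀ α : κ, IsSeparable K₁ α → α ∈ Set.range (algebraMap K₁ κ)) :
    GeometricallyConnected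
      (Spec.map (CommRingCat.ofHom (algebraMap k'' (k'' ⊗[K₁] κ)))) := by
  rw [GeometricallyConnected.eq_geometrically,
    geometrically_iff_of_commRing_of_isClosedUnderIsomorphisms]
  intro K _ _
  haveI := irreducibleSpace_tensor_tensor (k'' := k'') hF K
  haveI : IrreducibleSpace (Spec (CommRingCat.of ((k'' ⊗[K₁] κ) ⊗[k''] K))) :=
    inferInstanceAs (IrreducibleSpace (PrimeSpectrum ((k'' ⊗[K₁] κ) ⊗[k''] K)))
  haveI : IrreducibleSpace ↥(pullback
      (Spec.map (CommRingCat.ofHom (algebraMap k'' (k'' ⊗[K₁] κ))))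
      (Spec.map (CommRingCat.ofHom (algebraMap k'' K)))) :=
    (pullbackSpecIso k'' (k'' ⊗[K₁] κ) K).hom.homeomorph.irreducibleSpace_iff.mpr inferInstance
  infer_instance

end A3


end Groth.Agent.Lib.Helper22.SplitPrime
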