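import Mathlib
import Groth.Prelude.Def_FDesc
import Groth.Agent.Lib.Helper22.SchGeomConn5
import Groth.Agent.Lib.Helper22.SplitPrime

/-!
# Points of `X_{k''}` for `k''/k` normal receive geometrically irreducible sources (helper22)
-/

set_option autoImplicit false
set_option linter.style.haveILetI false
universe u
noncomputable section
namespace Groth.Agent.Lib.Helper22.SchGeomConn

open TensorProduct CategoryTheory CategoryTheory.Limits AlgebraicGeometry

variable {k : Type u} [Field k] {X Y : Scheme.{u}} (f : X ⟶ Spec (CommRingCat.of k))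

/-- Base change of a `k`-morphism `g : Y ⟶ X` (with structure morphism `h = g ≫ f` of `Y`). -/
def bcLift' (g : Y ⟶ X) (h : Y ⟶ Spec (CommRingCat.of k)) (w : g ≫ f = h) (K : Type u) [Field K]
    [Algebra k K] : FBase.bc h K ⟶ FBase.bc f K :=
  pullback.lift (FBase.bcπ h K ≫ g) (FBase.bcStr h K)
    (by rw [Category.assoc, w]; exact pullback.condition)

theorem bcLift'_bcπ (g : Y ⟶ X) (h : Y ⟶ Spec (CommRingCat.of k)) (w : g ≫ f = h) (K : Type u)
    [Field K] [Algebra k K] :
    bcLift' f g h w K ≫ FBase.bcπ f K = FBase.bcπ h K ≫ g := pullback.lift_fst _ _ _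

theorem bcLift'_bcStr (g : Y ⟶ X) (h : Y ⟶ Spec (CommRingCat.of k)) (w : g ≫ f = h) (K : Type u)
    [Field K] [Algebra k K] :
    bcLift' f g h w K ≫ FBase.bcStr f K = FBase.bcStr h K := pullback.lift_snd _ _ _

theorem range_bcLift' (g : Y ⟶ X) (h : Y ⟶ Spec (CommRingCat.of k)) (w : g ≫ f = h) (K : Type u)
    [Field K] [Algebra k K] :
    Set.range (bcLift' f g h w K) = FBase.bcπ f K ⁻¹' Set.range g := by
  subst w
  let s : Spec (CommRingCat.of K) ⟶ Spec (CommRingCat.of k) :=
    Spec.map (CommRingCat.ofHom (algebraMap k K))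
  let p : pullback f s ⟶ X := pullback.fst f s
  let gK : pullback (g ≫ f) s ⟶ pullback f s := bcLift' f g (g ≫ f) rfl K
  have hgK1 : gK ≫ p = pullback.fst (g ≫ f) s ≫ g := pullback.lift_fst _ _ _
  have hgK2 : gK ≫ pullback.snd f s = pullback.snd (g ≫ f) s := pullback.lift_snd _ _ _
  have hpb : IsPullback gK (pullback.fst (g ≫ f) s) p g := by
    have hbig : IsPullback (pullback.fst (g ≫ f) s) (pullback.snd (g ≫ f) s) (g ≫ f) s :=
      IsPullback.of_hasPullback _ _
    have hsmall : IsPullback p (pullback.snd f s) f s := IsPullback.of_hasPullback _ _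
    refine IsPullback.of_right ?_ hgK1 hsmall.flip
    rw [hgK2]
    exact hbig.flip
  change Set.range gK = p ⁻¹' Set.range g
  have h1 : Set.range gK = Set.range (pullback.fst p g) := by
    have h2 : hpb.isoPullback.hom ≫ pullback.fst p g = gK := hpb.isoPullback_hom_fst
    rw [← h2]
    ext x
    constructor
    · rintro ⟨a, rfl⟩
      exact ⟨hpb.isoPullback.hom a, by rw [← Scheme.Hom.comp_apply]⟩
    · rintro ⟨a, rfl⟩
      refine ⟨hpb.isoPullback.inv a, ?_⟩
      simp [← Scheme.Hom.comp_apply]
  rw [h1, Scheme.Pullback.range_fst]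

/-- Fibres of `X_K ⟶ X` are finite for finite `K/k`. -/
theorem finite_preimage_singleton_bcπ (K : Type u) [Field K] [Algebra k K] [FiniteDimensional k K]
    (x : X) : (FBase.bcπ f K ⁻¹' {x}).Finite := by
  obtain ⟨φ', hφ'⟩ := Spec.map_surjective (X.fromSpecResidueField x ≫ f)
  letI := φ'.hom.toAlgebra
  have hw : X.fromSpecResidueField x ≫ f =
      Spec.map (CommRingCat.ofHom (algebraMap k (X.residueField x))) := hφ'.symm
  have hr := range_bcLift' f (X.fromSpecResidueField x) _ hw K
  rw [Scheme.range_fromSpecResidueField] at hr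
  rw [← hr]
  have e : ↥(pullback (Spec.map (CommRingCat.ofHom (algebraMap k (X.residueField x))))
      (Spec.map (CommRingCat.ofHom (algebraMap k K)))) ≃ₜ
      PrimeSpectrum ((X.residueField x) ⊗[k] K) :=
    (pullbackSpecIso k (X.residueField x) K).hom.homeomorph
  haveI h1 : Finite (PrimeSpectrum (K ⊗[k] (X.residueField x))) :=
    (card_primeSpectrum_tensor_le (k := k) (F := K) (L := X.residueField x)).1
  haveI h2 : Finite (PrimeSpectrum ((X.residueField x) ⊗[k] K)) :=
    Finite.of_injective
      (PrimeSpectrum.comap (Algebra.TensorProduct.comm k K (X.residueField x)).toRingEquiv.toRingHom)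
      (PrimeSpectrum.comap_injective_of_surjective _
        (Algebra.TensorProduct.comm k K (X.residueField x)).surjective)
  haveI : Finite ↥(FBase.bc (Spec.map (CommRingCat.ofHom (algebraMap k (X.residueField x)))) K) :=
    Finite.of_equiv _ e.symm.toEquiv
  exact Set.finite_range _

end Groth.Agent.Lib.Helper22.SchGeomConn
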