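import Mathlib
import Groth.Prelude.Def_FDesc
import Groth.Agent.Lib.Helper22.SchGeomConn6

/-!
# Connected components become geometrically connected after a finite separable extension (helper22)

EGA IV 4.5.15-type statement (`exists_finite_separable_connectedComponents_geomConnected`).
-/

set_option autoImplicit false
set_option linter.style.haveILetI false
universe u
noncomputable section
namespace Groth.Agent.Lib.Helper22.SchGeomConn

open TensorProduct CategoryTheory CategoryTheory.Limits AlgebraicGeometry

variable {k : Type u} [Field k] {X : Scheme.{u}} (f : X ⟶ Spec (CommRingCat.of k))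

/-- Lemma P0: every point of `Spec κ ×_k Spec k''` is hit by a geometrically irreducible
`k''`-scheme, when `k''/k` is normal and contains a copy of a subfield `k' ⊆ κ`, algebraic over `k`
and separably closed in `κ`. -/
theorem exists_geomIrr_source_aux {κ : Type u} [Field κ] [Algebra k κ]
    (g₀ : Spec (CommRingCat.of κ) ⟶ X)
    (w : g₀ ≫ f = Spec.map (CommRingCat.ofHom (algebraMap k κ)))
    (k' : IntermediateField k κ) [Algebra.IsAlgebraic k k']
    (hF : ∀ α : κ, IsSeparable k' α → α ∈ Set.range (algebraMap k' κ))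
    (k'' : Type u) [Field k''] [Algebra k k''] [Normal k k''] (τ₀ : k' →ₐ[k] k'')
    (z : ↥(FBase.bc (Spec.map (CommRingCat.ofHom (algebraMap k κ))) k'')) :
    ∃ (Y : Scheme.{u}) (g : Y ⟶ FBase.bc f k'') (y : Y),
      GeometricallyConnected (g ≫ FBase.bcStr f k'') ∧
      GeometricallyIrreducible (g ≫ FBase.bcStr f k'') ∧
      g y = bcLift' f g₀ _ w k'' z := by
  let iso : FBase.bc (Spec.map (CommRingCat.ofHom (algebraMap k κ))) k'' ≅
      Spec (CommRingCat.of (κ ⊗[k] k'')) := pullbackSpecIso k κ k''
  let zz : PrimeSpectrum (κ ⊗[k] k'') := iso.hom z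
  let 𝔮 : Ideal (κ ⊗[k] k'') := zz.asIdeal
  haveI h𝔮p : 𝔮.IsPrime := zz.isPrime
  haveI : Algebra.IsAlgebraic k k'' := inferInstance
  haveI : Algebra.IsIntegral k k'' := Algebra.IsAlgebraic.isIntegral
  haveI : Algebra.IsIntegral κ (κ ⊗[k] k'') := inferInstance
  haveI h𝔮m : 𝔮.IsMaximal := by
    apply Ideal.isMaximal_of_isIntegral_of_isMaximal_comap (R := κ) 𝔮
    rw [Ideal.eq_bot_of_prime (𝔮.comap (algebraMap κ (κ ⊗[k] k'')))]
    exact Ideal.bot_isMaximal
  obtain ⟨τ, hτ⟩ := SplitPrime.exists_embedding_compat k' τ₀ 𝔮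
  letI : Algebra k' k'' := τ.toRingHom.toAlgebra
  haveI : IsScalarTower k k' k'' := IsScalarTower.of_algebraMap_eq (fun c => (τ.commutes c).symm)
  have hker : RingHom.ker (SplitPrime.swapMap (k := k) (κ := κ) (k'' := k'') (K₁ := k')) ≤ 𝔮 :=
    SplitPrime.ker_swapMap_le 𝔮 hτ
  have hsurj := SplitPrime.swapMap_surjective (k := k) (κ := κ) (k'' := k'') (K₁ := k')
  have hzz : zz ∈ Set.range (PrimeSpectrum.comap (SplitPrime.swapMap (k := k) (κ := κ)
      (k'' := k'') (K₁ := k'))) := by
    rw [_root_.range_comap_of_surjective _ _ hsurj]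
    exact hker
  obtain ⟨r, hr⟩ := hzz
  let R := k'' ⊗[k'] κ
  let sw : Spec (CommRingCat.of R) ⟶ Spec (CommRingCat.of (κ ⊗[k] k'')) :=
    Spec.map (CommRingCat.ofHom (SplitPrime.swapMap (k := k) (κ := κ) (k'' := k'') (K₁ := k')))
  let g : Spec (CommRingCat.of R) ⟶ FBase.bc f k'' := sw ≫ iso.inv ≫ bcLift' f g₀ _ w k''
  have hstr : g ≫ FBase.bcStr f k'' = Spec.map (CommRingCat.ofHom (algebraMap k'' R)) := by
    change (sw ≫ iso.inv ≫ bcLift' f g₀ _ w k'') ≫ FBase.bcStr f k'' = _
    rw [Category.assoc, Category.assoc, bcLift'_bcStr]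
    have h2 : iso.inv ≫ FBase.bcStr (Spec.map (CommRingCat.ofHom (algebraMap k κ))) k'' =
        Spec.map (CommRingCat.ofHom (Algebra.TensorProduct.includeRight :
          k'' →ₐ[k] κ ⊗[k] k'').toRingHom) := pullbackSpecIso_inv_snd k κ k''
    rw [h2, ← Spec.map_comp, ← CommRingCat.ofHom_comp]
    rfl
  refine ⟨Spec (CommRingCat.of R), g, r, ?_, ?_, ?_⟩
  · rw [hstr]
    exact SplitPrime.geometricallyConnected_specMap_tensor hF
  · rw [hstr]
    exact SplitPrime.geometricallyIrreducible_specMap_tensor hF
  · have h1 : sw r = iso.hom z := hr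
    have h2 : (sw ≫ iso.inv ≫ bcLift' f g₀ _ w k'') r =
        (bcLift' f g₀ _ w k'') (iso.inv (sw r)) := rfl
    have h3 : iso.inv (iso.hom z) = z := by
      rw [← Scheme.Hom.comp_apply, Iso.hom_inv_id]
      rfl
    change (sw ≫ iso.inv ≫ bcLift' f g₀ _ w k'') r = _
    rw [h2, h1, h3]


/-- Lemma P': the abstract data attached to a point whose residue field has finite separable
closure of `k`. -/
theorem exists_geomIrr_source (x : X)
    (hx : FBase.ResidueFieldProp f x
      (fun K _ _ => FiniteDimensional k (separableClosure k K))) :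
    ∃ (K' : Type u) (_ : Field K') (_ : Algebra k K') (_ : FiniteDimensional k K')
      (_ : Algebra.IsSeparable k K'),
      ∀ (k'' : Type u) [Field k''] [Algebra k k''] [Normal k k''] (_ : K' →ₐ[k] k'')
        (u : ↥(FBase.bc f k'')), FBase.bcπ f k'' u = x →
        ∃ (Y : Scheme.{u}) (g : Y ⟶ FBase.bc f k'') (y : Y),
          GeometricallyConnected (g ≫ FBase.bcStr f k'') ∧
          GeometricallyIrreducible (g ≫ FBase.bcStr f k'') ∧ g y = u := by
  obtain ⟨φ, hφ, hfin⟩ := hx
  letI := φ.toAlgebra
  let k' : IntermediateField k (X.residueField x) := separableClosure k (X.residueField x)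
  haveI : FiniteDimensional k k' := hfin
  haveI : Algebra.IsSeparable k k' := separableClosure.isSeparable k (X.residueField x)
  refine ⟨↥k', inferInstance, inferInstance, hfin, inferInstance, ?_⟩
  intro k'' _ _ _ τ₀ u hu
  have w : X.fromSpecResidueField x ≫ f =
      Spec.map (CommRingCat.ofHom (algebraMap k (X.residueField x))) := hφ.symm
  have hur : u ∈ Set.range (bcLift' f (X.fromSpecResidueField x) _ w k'') := by
    rw [range_bcLift', Scheme.range_fromSpecResidueField]
    exact hu
  obtain ⟨z, rfl⟩ := hur
  haveI : Algebra.IsAlgebraic k k' := Algebra.IsAlgebraic.of_finite k k'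
  exact exists_geomIrr_source_aux (κ := X.residueField x) f (X.fromSpecResidueField x) w k'
    (sepClosedIn_of_separableClosure_eq_bot
      (separableClosure.separableClosure_eq_bot k (X.residueField x))) k'' τ₀ z

theorem isOpen_connectedComponent_of_finite {α : Type*} [TopologicalSpace α]
    [Finite (ConnectedComponents α)] (x : α) : IsOpen (connectedComponent x) := by
  rw [← isClosed_compl_iff]
  have h : (connectedComponent x)ᶜ =
      ⋃ c ∈ {c : ConnectedComponents α | c ≠ ConnectedComponents.mk x},
        ConnectedComponents.mk ⁻¹' {c} := by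
    ext y
    simp only [Set.mem_compl_iff, Set.mem_ofPred_eq, Set.mem_iUnion, Set.mem_preimage,
      Set.mem_singleton_iff, exists_prop, exists_eq_right']
    rw [← connectedComponents_preimage_singleton]
    simp
  rw [h]
  refine Set.Finite.isClosed_biUnion (Set.toFinite _) (fun c _ => ?_)
  obtain ⟨y, rfl⟩ := ConnectedComponents.surjective_coe c
  rw [connectedComponents_preimage_singleton]
  exact isClosed_connectedComponent

/-- EGA IV 4.5.15-type statement: after a finite separable extension all connected components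
become geometrically connected. -/
theorem exists_finite_separable_connectedComponents_geomConnected
    [Finite (_root_.ConnectedComponents ↥X)]
    (hx : ∀ c : _root_.ConnectedComponents ↥X, ∃ x : X, _root_.ConnectedComponents.mk x = c ∧
      FBase.ResidueFieldProp f x (fun K _ _ => FiniteDimensional k (separableClosure k K))) :
    ∃ (k'' : Type u) (_ : Field k'') (_ : Algebra k k''), FiniteDimensional k k'' ∧
      Algebra.IsSeparable k k'' ∧
      ∀ (K : Type u) [Field K] [Algebra k'' K] (x' : ↥(FBase.bc f k'')),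
        _root_.IsConnected (⇑(FBase.bcπ (FBase.bcStr f k'') K) ⁻¹' connectedComponent x') := by
  classical
  choose x hxc hxP using hx
  choose K' hfld halg hfin hsep hP using fun c => exists_geomIrr_source f (x c) (hxP c)
  letI : ∀ c, Field (K' c) := hfld
  letI : ∀ c, Algebra k (K' c) := halg
  haveI : ∀ c, FiniteDimensional k (K' c) := hfin
  haveI : ∀ c, Algebra.IsSeparable k (K' c) := hsep
  let N : _root_.ConnectedComponents ↥X → IntermediateField k (SeparableClosure k) :=
    fun c => IntermediateField.normalClosure k (K' c) (SeparableClosure k)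
  let E : IntermediateField k (SeparableClosure k) := ⨆ c, N c
  haveI : ∀ c, Normal k (N c) := fun c => inferInstance
  haveI : ∀ c, FiniteDimensional k (N c) := fun c => inferInstance
  haveI hEn : Normal k E := IntermediateField.normal_iSup k (SeparableClosure k) N
  haveI hEf : FiniteDimensional k E := IntermediateField.finiteDimensional_iSup_of_finite
  haveI hEs : Algebra.IsSeparable k E := inferInstance
  refine ⟨↥E, inferInstance, inferInstance, hEf, hEs, ?_⟩
  intro K _ _ x'
  haveI : Algebra.IsAlgebraic k E := Algebra.IsAlgebraic.of_finite k E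
  haveI hfinC : Finite (_root_.ConnectedComponents ↥(FBase.bc f E)) :=
    IsOpenMap.finite_connectedComponents_of_finite_preimage_singleton (isOpenMap_bcπ f E)
      (isClosedMap_bcπ f E) (FBase.bcπ f E).continuous
      (fun y => finite_preimage_singleton_bcπ f E y)
  have hTclopen : IsClopen (connectedComponent x') :=
    ⟨isClosed_connectedComponent, isOpen_connectedComponent_of_finite x'⟩
  have hpT : IsClopen (FBase.bcπ f E '' connectedComponent x') :=
    ⟨isClosedMap_bcπ f E _ hTclopen.1, isOpenMap_bcπ f E _ hTclopen.2⟩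
  let c : _root_.ConnectedComponents ↥X := _root_.ConnectedComponents.mk (FBase.bcπ f E x')
  have hsub : connectedComponent (FBase.bcπ f E x') ⊆ FBase.bcπ f E '' connectedComponent x' :=
    hpT.connectedComponent_subset ⟨x', mem_connectedComponent, rfl⟩
  have hxc' : x c ∈ connectedComponent (FBase.bcπ f E x') := by
    rw [← ConnectedComponents.coe_eq_coe']
    exact hxc c
  obtain ⟨u, huT, hux⟩ := hsub hxc'
  let σ : K' c →ₐ[k] SeparableClosure k := IsSepClosed.lift
  have hσ : σ.fieldRange ≤ E := (σ.fieldRange_le_normalClosure).trans (le_iSup N c)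
  let τ₀ : K' c →ₐ[k] E := σ.codRestrict E.toSubalgebra (fun a => hσ ⟨a, rfl⟩)
  obtain ⟨Y, g, y, hgc, -, hgy⟩ := hP c ↥E τ₀ u hux
  haveI := hgc
  have hmain := isConnected_preimage_connectedComponent_of_source (FBase.bcStr f E) g y K
  rw [hgy, ← connectedComponent_eq huT] at hmain
  exact hmain

end Groth.Agent.Lib.Helper22.SchGeomConn
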