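import Mathlib
import Groth.Prelude.Def_FDesc
import Groth.Agent.Lib.Helper22.SchGeomConn7

/-!
# Irreducible components become geometrically irreducible after a finite separable extension
(helper22)

EGA IV 4.5.11-type statement (`exists_finite_separable_irreducibleComponents_geomIrreducible`).
-/

set_option autoImplicit false
set_option linter.style.haveILetI false
universe u
noncomputable section
namespace Groth.Agent.Lib.Helper22.SchGeomConn

open TensorProduct CategoryTheory CategoryTheory.Limits AlgebraicGeometry

variable {k : Type u} [Field k] {X Y : Scheme.{u}} (f : X ⟶ Spec (CommRingCat.of k))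

theorem flat_specMap_field (K : Type u) [Field K] [Algebra k K] :
    Flat (Spec.map (CommRingCat.ofHom (algebraMap k K))) := by
  rw [HasRingHomProperty.Spec_iff (P := @Flat)]
  change (algebraMap k K).Flat
  rw [RingHom.flat_algebraMap_iff]
  infer_instance

theorem generalizingMap_bcπ (K : Type u) [Field K] [Algebra k K] :
    GeneralizingMap (FBase.bcπ f K) := by
  haveI := flat_specMap_field (k := k) K
  exact Flat.generalizingMap (pullback.fst f (Spec.map (CommRingCat.ofHom (algebraMap k K))))

/-- A generalizing map sends the generic point of an irreducible component to the generic point of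
an irreducible component. -/
theorem closure_singleton_mem_irreducibleComponents_of_generalizingMap {A B : Type*}
    [TopologicalSpace A] [TopologicalSpace B] [QuasiSober B] [T0Space A] (p : A → B)
    (hp : GeneralizingMap p) (a : A) (ha : closure {a} ∈ irreducibleComponents A) :
    closure {p a} ∈ irreducibleComponents B := by
  refine ⟨isIrreducible_singleton.closure, ?_⟩
  intro T hT hWT
  -- generic point of closure T
  let t : B := hT.genericPoint
  have ht : IsGenericPoint t (closure T) := hT.isGenericPoint_genericPoint_closure
  have hspec : t ⤳ p a := ht.specializes (subset_closure (hWT (subset_closure rfl)))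
  obtain ⟨t', ht'a, ht't⟩ := hp hspec
  -- closure {t'} ⊇ closure {a}
  have hsub : closure {a} ⊆ closure {t'} := specializes_iff_closure_subset.mp ht'a
  have heq : closure {t'} = closure {a} :=
    (ha.2 isIrreducible_singleton.closure hsub).antisymm hsub
  have : t' = a := IsGenericPoint.eq (S := closure {a}) heq rfl
  subst this
  rw [ht't, ht.def]
  exact subset_closure

/-- The preimage in `X_K` of the closure of the image of a geometrically irreducible `k`-scheme is
irreducible. -/
theorem isIrreducible_preimage_closure_range (g : Y ⟶ X) [GeometricallyIrreducible (g ≫ f)]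
    (K : Type u) [Field K] [Algebra k K] :
    IsIrreducible (FBase.bcπ f K ⁻¹' closure (Set.range g)) := by
  rw [(isOpenMap_bcπ f K).preimage_closure_eq_closure_preimage (FBase.bcπ f K).continuous,
    ← range_bcLift' f g (g ≫ f) rfl K]
  haveI hYK : IrreducibleSpace ↥(FBase.bc (g ≫ f) K) :=
    pullback_of_geometrically
      (GeometricallyIrreducible.geometrically_irreducibleSpace (f := g ≫ f)) K
      (Spec.map (CommRingCat.ofHom (algebraMap k K)))
  refine IsIrreducible.closure ?_
  rw [← Set.image_univ]
  exact (IrreducibleSpace.isIrreducible_univ _).image _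
    (bcLift' f g (g ≫ f) rfl K).continuous.continuousOn

/-- EGA IV 4.5.11-type statement: after a finite separable extension all irreducible components
become geometrically irreducible. -/
theorem exists_finite_separable_irreducibleComponents_geomIrreducible
    [Finite ↥(irreducibleComponents ↥X)]
    (hx : ∀ (Z : Set ↥X) (hZ : Z ∈ irreducibleComponents ↥X),
      FBase.ResidueFieldProp f hZ.1.genericPoint
        (fun K _ _ => FiniteDimensional k (separableClosure k K))) :
    ∃ (L : Type u) (_ : Field L) (_ : Algebra k L), FiniteDimensional k L ∧
      Algebra.IsSeparable k L ∧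
      ∀ (K : Type u) [Field K] [Algebra L K] (Z' : Set ↥(FBase.bc f L)),
        Z' ∈ irreducibleComponents ↥(FBase.bc f L) →
        IsIrreducible (⇑(FBase.bcπ (FBase.bcStr f L) K) ⁻¹' Z') := by
  classical
  choose K' hfld halg hfin hsep hP using
    fun c : ↥(irreducibleComponents ↥X) =>
      exists_geomIrr_source f (c.2.1.genericPoint) (hx c.1 c.2)
  letI : ∀ c, Field (K' c) := hfld
  letI : ∀ c, Algebra k (K' c) := halg
  haveI : ∀ c, FiniteDimensional k (K' c) := hfin
  haveI : ∀ c, Algebra.IsSeparable k (K' c) := hsep
  let N : ↥(irreducibleComponents ↥X) → IntermediateField k (SeparableClosure k) :=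
    fun c => IntermediateField.normalClosure k (K' c) (SeparableClosure k)
  let E : IntermediateField k (SeparableClosure k) := ⨆ c, N c
  haveI : ∀ c, Normal k (N c) := fun c => inferInstance
  haveI : ∀ c, FiniteDimensional k (N c) := fun c => inferInstance
  haveI hEn : Normal k E := IntermediateField.normal_iSup k (SeparableClosure k) N
  haveI hEf : FiniteDimensional k E := IntermediateField.finiteDimensional_iSup_of_finite
  haveI hEs : Algebra.IsSeparable k E := inferInstance
  refine ⟨↥E, inferInstance, inferInstance, hEf, hEs, ?_⟩
  intro K _ _ Z' hZ'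
  have hZ'cl : IsClosed Z' := isClosed_of_mem_irreducibleComponents Z' hZ'
  let η' : ↥(FBase.bc f E) := hZ'.1.genericPoint
  have hη' : IsGenericPoint η' Z' := hZ'.1.isGenericPoint_genericPoint hZ'cl
  have hη'c : closure {η'} ∈ irreducibleComponents ↥(FBase.bc f E) := by
    rw [hη'.def]; exact hZ'
  have hW : closure {FBase.bcπ f E η'} ∈ irreducibleComponents ↥X :=
    closure_singleton_mem_irreducibleComponents_of_generalizingMap _
      (generalizingMap_bcπ f E) η' hη'c
  let c : ↥(irreducibleComponents ↥X) := ⟨_, hW⟩
  have hxc : FBase.bcπ f E η' = c.2.1.genericPoint := by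
    have h1 : IsGenericPoint c.2.1.genericPoint (closure {FBase.bcπ f E η'}) :=
      c.2.1.isGenericPoint_genericPoint isClosed_closure
    exact IsGenericPoint.eq (S := closure {FBase.bcπ f E η'}) rfl h1
  let σ : K' c →ₐ[k] SeparableClosure k := IsSepClosed.lift
  have hσ : σ.fieldRange ≤ E := (σ.fieldRange_le_normalClosure).trans (le_iSup N c)
  let τ₀ : K' c →ₐ[k] E := σ.codRestrict E.toSubalgebra (fun a => hσ ⟨a, rfl⟩)
  obtain ⟨Y, g, y, -, hgi, hgy⟩ := hP c ↥E τ₀ η' hxc
  haveI := hgi
  have hmain := isIrreducible_preimage_closure_range (FBase.bcStr f E) g K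
  have hZeq : closure (Set.range g) = Z' := by
    haveI : Subsingleton ↥(Spec (CommRingCat.of ↥E)) :=
      Groth.Agent.Lib.Helper22.SchGeomIrr.subsingleton_spec_field
    haveI : IrreducibleSpace Y :=
      GeometricallyIrreducible.irreducibleSpace_of_subsingleton (g ≫ FBase.bcStr f E)
    have hirr : IsIrreducible (closure (Set.range g)) := by
      refine IsIrreducible.closure ?_
      rw [← Set.image_univ]
      exact (IrreducibleSpace.isIrreducible_univ _).image _ g.continuous.continuousOn
    have hsub : Z' ⊆ closure (Set.range g) := by
      rw [← hη'.def]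
      exact closure_mono (Set.singleton_subset_iff.mpr ⟨y, hgy⟩)
    exact ((hZ'.2 hirr hsub).antisymm hsub)
  rw [hZeq] at hmain
  exact hmain

end Groth.Agent.Lib.Helper22.SchGeomConn
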