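import Mathlib
import Groth.Agent.Lib.Helper22.SplitPrime
import Groth.Agent.Lib.Helper22.SchGeomConn3

/-!
# Counting the primes of `κ ⊗_k k''` for `k''/k` normal (helper22)

Let `k' ⊆ κ` be a subfield algebraic over `k` and separably closed in `κ`, and `k''/k` a normal
extension. The primes of `κ ⊗_k k''` are in bijection with the `k`-embeddings `k' → k''`
(`card_primeSpectrum_tensor_eq`).
-/

set_option autoImplicit false
set_option linter.style.haveILetI false
universe u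
noncomputable section
namespace Groth.Agent.Lib.Helper22.SplitPrime

open TensorProduct

variable {k κ k'' : Type u} [Field k] [Field κ] [Algebra k κ] [Field k''] [Algebra k k'']
  (k' : IntermediateField k κ)

/-- The prime `𝔮` of `κ ⊗_k k''` is compatible with the embedding `τ : k' → k''`. -/
def Compat (τ : k' →ₐ[k] k'') (𝔮 : Ideal (κ ⊗[k] k'')) : Prop :=
  ∀ a : k', ((a : κ) ⊗ₜ[k] (1 : k'') - (1 : κ) ⊗ₜ[k] τ a) ∈ 𝔮

variable {k'}

theorem compat_unique_hom (𝔮 : Ideal (κ ⊗[k] k'')) (h𝔮 : 𝔮 ≠ ⊤) (τ τ' : k' →ₐ[k] k'')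
    (h : Compat k' τ 𝔮) (h' : Compat k' τ' 𝔮) : τ = τ' := by
  ext a
  by_contra hne
  have hc : τ a - τ' a ≠ 0 := sub_ne_zero.mpr hne
  have hmem : ((1 : κ) ⊗ₜ[k] (τ a - τ' a)) ∈ 𝔮 := by
    have := 𝔮.sub_mem (h' a) (h a)
    have e : ((a : κ) ⊗ₜ[k] (1 : k'') - (1 : κ) ⊗ₜ[k] τ' a) -
        ((a : κ) ⊗ₜ[k] (1 : k'') - (1 : κ) ⊗ₜ[k] τ a) = (1 : κ) ⊗ₜ[k] (τ a - τ' a) := by
      rw [TensorProduct.tmul_sub]; ring
    rwa [e] at this
  apply h𝔮
  rw [Ideal.eq_top_iff_one]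
  have := 𝔮.mul_mem_right ((1 : κ) ⊗ₜ[k] (τ a - τ' a)⁻¹) hmem
  rwa [Algebra.TensorProduct.tmul_mul_tmul, one_mul, mul_inv_cancel₀ hc,
    ← Algebra.TensorProduct.one_def] at this

theorem exists_prime_compat (τ : k' →ₐ[k] k'') :
    ∃ 𝔮 : PrimeSpectrum (κ ⊗[k] k''), Compat k' τ 𝔮.asIdeal := by
  letI : Algebra k' k'' := τ.toRingHom.toAlgebra
  haveI : IsScalarTower k k' k'' := IsScalarTower.of_algebraMap_eq (fun c => (τ.commutes c).symm)
  haveI : Nontrivial (k'' ⊗[k'] κ) := inferInstance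
  obtain ⟨r⟩ : Nonempty (PrimeSpectrum (k'' ⊗[k'] κ)) := inferInstance
  refine ⟨PrimeSpectrum.comap (swapMap (k := k) (κ := κ) (k'' := k'') (K₁ := k')) r, ?_⟩
  intro a
  change swapMap (K₁ := k') _ ∈ r.asIdeal
  rw [map_sub, swapMap_tmul, swapMap_tmul]
  have : (τ a) ⊗ₜ[k'] (1 : κ) = (1 : k'') ⊗ₜ[k'] (a : κ) := by
    have h1 : τ a = a • (1 : k'') := by
      rw [Algebra.smul_def, mul_one]; rfl
    have h2 : (a : κ) = a • (1 : κ) := by
      rw [Algebra.smul_def, mul_one]; rfl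
    rw [h1, h2, TensorProduct.smul_tmul]
  rw [this, sub_self]
  exact r.asIdeal.zero_mem

/-- A ring with irreducible spectrum all of whose primes are maximal has a unique prime. -/
theorem subsingleton_primeSpectrum_of_irreducible {R : Type*} [CommRing R]
    [IrreducibleSpace (PrimeSpectrum R)] (hmax : ∀ p : PrimeSpectrum R, p.asIdeal.IsMaximal) :
    Subsingleton (PrimeSpectrum R) := by
  refine ⟨fun x y => ?_⟩
  have key : ∀ z : PrimeSpectrum R, genericPoint (PrimeSpectrum R) = z := by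
    intro z
    have h1 : genericPoint (PrimeSpectrum R) ⤳ z := genericPoint_specializes z
    rw [← PrimeSpectrum.le_iff_specializes] at h1
    have h2 := (hmax (genericPoint (PrimeSpectrum R))).eq_of_le z.isPrime.ne_top h1
    exact PrimeSpectrum.ext h2
  rw [← key x, ← key y]

theorem isMaximal_of_prime_tensor [Algebra.IsAlgebraic k k''] (𝔮 : Ideal (κ ⊗[k] k''))
    [𝔮.IsPrime] : 𝔮.IsMaximal := by
  haveI : Algebra.IsIntegral k k'' := Algebra.IsAlgebraic.isIntegral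
  haveI : Algebra.IsIntegral κ (κ ⊗[k] k'') := inferInstance
  apply Ideal.isMaximal_of_isIntegral_of_isMaximal_comap (R := κ) 𝔮
  rw [Ideal.eq_bot_of_prime (𝔮.comap (algebraMap κ (κ ⊗[k] k'')))]
  exact Ideal.bot_isMaximal

theorem compat_unique_prime [Algebra.IsAlgebraic k k'']
    (hF : ∀ α : κ, IsSeparable k' α → α ∈ Set.range (algebraMap k' κ))
    (τ : k' →ₐ[k] k'') (𝔮 𝔮' : PrimeSpectrum (κ ⊗[k] k''))
    (h : Compat k' τ 𝔮.asIdeal) (h' : Compat k' τ 𝔮'.asIdeal) : 𝔮 = 𝔮' := by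
  letI : Algebra k' k'' := τ.toRingHom.toAlgebra
  haveI : IsScalarTower k k' k'' := IsScalarTower.of_algebraMap_eq (fun c => (τ.commutes c).symm)
  have hsurj := swapMap_surjective (k := k) (κ := κ) (k'' := k'') (K₁ := k')
  have hk : RingHom.ker (swapMap (k := k) (κ := κ) (k'' := k'') (K₁ := k')) ≤ 𝔮.asIdeal :=
    ker_swapMap_le 𝔮.asIdeal h
  have hk' : RingHom.ker (swapMap (k := k) (κ := κ) (k'' := k'') (K₁ := k')) ≤ 𝔮'.asIdeal :=
    ker_swapMap_le 𝔮'.asIdeal h'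
  have h1 : 𝔮 ∈ Set.range (PrimeSpectrum.comap (swapMap (k := k) (κ := κ)
      (k'' := k'') (K₁ := k'))) := by
    rw [_root_.range_comap_of_surjective _ _ hsurj]; exact hk
  have h2 : 𝔮' ∈ Set.range (PrimeSpectrum.comap (swapMap (k := k) (κ := κ)
      (k'' := k'') (K₁ := k'))) := by
    rw [_root_.range_comap_of_surjective _ _ hsurj]; exact hk'
  obtain ⟨r, rfl⟩ := h1
  obtain ⟨r', rfl⟩ := h2
  haveI : IrreducibleSpace (PrimeSpectrum (k'' ⊗[k'] κ)) :=
    (Groth.Agent.S2150.result.mpr hF) k''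
  haveI : Algebra.IsAlgebraic k' k'' := Algebra.IsAlgebraic.tower_top (K := k) k'
  haveI : Algebra.IsIntegral k' k'' := Algebra.IsAlgebraic.isIntegral
  haveI : Subsingleton (PrimeSpectrum (k'' ⊗[k'] κ)) := by
    apply subsingleton_primeSpectrum_of_irreducible
    intro p
    let e : κ ⊗[k'] k'' ≃ₐ[k'] k'' ⊗[k'] κ := Algebra.TensorProduct.comm k' κ k''
    haveI : (p.asIdeal.comap e.toRingEquiv.toRingHom).IsPrime := Ideal.IsPrime.comap _
    have hm : (p.asIdeal.comap e.toRingEquiv.toRingHom).IsMaximal :=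
      isMaximal_of_prime_tensor (k := k') (κ := κ) (k'' := k'') _
    exact (Ideal.isMaximal_comap_iff_of_bijective e.toRingEquiv.toRingHom
      e.toRingEquiv.bijective).mp hm
  rw [Subsingleton.elim r r']

/-- The primes of `κ ⊗_k k''` are in bijection with the `k`-embeddings `k' → k''`. -/
theorem card_primeSpectrum_tensor_eq_card_algHom [Normal k k''] [Algebra.IsAlgebraic k k']
    (hF : ∀ α : κ, IsSeparable k' α → α ∈ Set.range (algebraMap k' κ))
    (τ₀ : k' →ₐ[k] k'') :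
    Nat.card (PrimeSpectrum (κ ⊗[k] k'')) = Nat.card (k' →ₐ[k] k'') := by
  haveI : Algebra.IsAlgebraic k k'' := inferInstance
  have hex : ∀ 𝔮 : PrimeSpectrum (κ ⊗[k] k''), ∃ τ : k' →ₐ[k] k'', Compat k' τ 𝔮.asIdeal := by
    intro 𝔮
    haveI := isMaximal_of_prime_tensor 𝔮.asIdeal
    exact exists_embedding_compat k' τ₀ 𝔮.asIdeal
  choose F hF' using hex
  refine Nat.card_congr (Equiv.ofBijective F ⟨?_, ?_⟩)
  · intro 𝔮 𝔮' h
    refine compat_unique_prime hF (F 𝔮) 𝔮 𝔮' (hF' 𝔮) ?_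
    rw [h]; exact hF' 𝔮'
  · intro τ
    obtain ⟨𝔮, h𝔮⟩ := exists_prime_compat τ
    exact ⟨𝔮, compat_unique_hom 𝔮.asIdeal 𝔮.isPrime.ne_top _ _ (hF' 𝔮) h𝔮⟩

/-- EGA IV 4.5.10-type count: if `k'` is finite separable over `k`, separably closed in `κ`, and
embeds in the normal extension `k''/k`, then `κ ⊗_k k''` has exactly `[k' : k]` primes. -/
theorem card_primeSpectrum_tensor_eq [Normal k k''] [FiniteDimensional k k']
    [Algebra.IsSeparable k k']
    (hF : ∀ α : κ, IsSeparable k' α → α ∈ Set.range (algebraMap k' κ))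
    (τ₀ : k' →ₐ[k] k'') :
    Nat.card (PrimeSpectrum (κ ⊗[k] k'')) = Module.finrank k k' := by
  haveI : Algebra.IsAlgebraic k k' := Algebra.IsAlgebraic.of_finite k k'
  rw [card_primeSpectrum_tensor_eq_card_algHom hF τ₀]
  apply AlgHom.natCard_of_splits
  intro a
  have e2 : minpoly k (τ₀ a) = minpoly k a := minpoly.algHom_eq _ τ₀.toRingHom.injective a
  rw [← e2]
  exact Normal.splits inferInstance (τ₀ a)

end Groth.Agent.Lib.Helper22.SplitPrime
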