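import Mathlib
import Groth.Prelude.Def_FDesc
import Groth.Agent.Lib.Helper22.SchGeomConn8
import Groth.Agent.Lib.Helper22.SplitPrime2

/-!
# Number of irreducible components of `X ⊗_k k''` for `k''/k` Galois (helper22)

EGA IV 4.5.10-type statement (`card_irreducibleComponents_bc_eq_finrank`).
-/

set_option autoImplicit false
set_option linter.style.haveILetI false
universe u
noncomputable section
namespace Groth.Agent.Lib.Helper22.SchGeomConn

open TensorProduct CategoryTheory CategoryTheory.Limits AlgebraicGeometry

variable {k : Type u} [Field k] {X Y : Scheme.{u}} (f : X ⟶ Spec (CommRingCat.of k))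

theorem isPullback_bcLift' (g : Y ⟶ X) (h : Y ⟶ Spec (CommRingCat.of k)) (w : g ≫ f = h)
    (K : Type u) [Field K] [Algebra k K] :
    IsPullback (bcLift' f g h w K) (FBase.bcπ h K) (FBase.bcπ f K) g := by
  subst w
  let s : Spec (CommRingCat.of K) ⟶ Spec (CommRingCat.of k) :=
    Spec.map (CommRingCat.ofHom (algebraMap k K))
  let p : pullback f s ⟶ X := pullback.fst f s
  let gK : pullback (g ≫ f) s ⟶ pullback f s := bcLift' f g (g ≫ f) rfl K
  have hgK1 : gK ≫ p = pullback.fst (g ≫ f) s ≫ g := pullback.lift_fst _ _ _
  have hgK2 : gK ≫ pullback.snd f s = pullback.snd (g ≫ f) s := pullback.lift_snd _ _ _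
  have hbig : IsPullback (pullback.fst (g ≫ f) s) (pullback.snd (g ≫ f) s) (g ≫ f) s :=
    IsPullback.of_hasPullback _ _
  have hsmall : IsPullback p (pullback.snd f s) f s := IsPullback.of_hasPullback _ _
  change IsPullback gK (pullback.fst (g ≫ f) s) p g
  refine IsPullback.of_right ?_ hgK1 hsmall.flip
  rw [hgK2]
  exact hbig.flip

theorem isPreimmersion_bcLift' (g : Y ⟶ X) [IsPreimmersion g] (h : Y ⟶ Spec (CommRingCat.of k))
    (w : g ≫ f = h) (K : Type u) [Field K] [Algebra k K] :
    IsPreimmersion (bcLift' f g h w K) :=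
  MorphismProperty.of_isPullback (P := @IsPreimmersion) (isPullback_bcLift' f g h w K).flip
    inferInstance

/-- In `Spec (κ ⊗_k K)` with `K/k` algebraic there are no nontrivial specializations. -/
theorem eq_of_specializes_primeSpectrum_tensor {κ K : Type u} [Field κ] [Algebra k κ] [Field K]
    [Algebra k K] [Algebra.IsAlgebraic k K] (z z' : PrimeSpectrum (κ ⊗[k] K)) (h : z' ⤳ z) :
    z' = z := by
  rw [← PrimeSpectrum.le_iff_specializes] at h
  haveI := SplitPrime.isMaximal_of_prime_tensor z'.asIdeal
  exact PrimeSpectrum.ext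
    ((SplitPrime.isMaximal_of_prime_tensor z'.asIdeal).eq_of_le z.isPrime.ne_top h)

/-- For `X` irreducible and `K/k` algebraic, the generic points of the irreducible components of
`X_K` are exactly the points above the generic point of `X`; they are in bijection with
`Spec (κ(ξ) ⊗_k K)`. -/
theorem card_irreducibleComponents_bc_eq_card_primeSpectrum [IrreducibleSpace X]
    (ξ : X) (hξ : IsGenericPoint ξ Set.univ)
    [Algebra k (X.residueField ξ)]
    (w : X.fromSpecResidueField ξ ≫ f =
      Spec.map (CommRingCat.ofHom (algebraMap k (X.residueField ξ))))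
    (K : Type u) [Field K] [Algebra k K] [Algebra.IsAlgebraic k K] :
    Nat.card (irreducibleComponents ↥(FBase.bc f K)) =
      Nat.card (PrimeSpectrum (X.residueField ξ ⊗[k] K)) := by
  set p := FBase.bcπ f K with hp
  let j := bcLift' f (X.fromSpecResidueField ξ) _ w K
  haveI : IsPreimmersion j := isPreimmersion_bcLift' f _ _ w K
  have hjr : Set.range j = p ⁻¹' {ξ} := by
    rw [range_bcLift', Scheme.range_fromSpecResidueField]
  let iso : FBase.bc (Spec.map (CommRingCat.ofHom (algebraMap k (X.residueField ξ)))) K ≅
      Spec (CommRingCat.of (X.residueField ξ ⊗[k] K)) := pullbackSpecIso k (X.residueField ξ) K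
  have hsub : ∀ x : ↥(FBase.bc f K),
      closure {x} ∈ irreducibleComponents ↥(FBase.bc f K) → p x = ξ := by
    intro x hx
    have h1 := closure_singleton_mem_irreducibleComponents_of_generalizingMap _
      (generalizingMap_bcπ f K) x hx
    rw [irreducibleComponents_eq_singleton, Set.mem_singleton_iff] at h1
    exact IsGenericPoint.eq (S := Set.univ) h1 hξ
  have hgen : genericPoints ↥(FBase.bc f K) = p ⁻¹' {ξ} := by
    ext u
    constructor
    · exact hsub u
    · intro hu
      obtain ⟨Z', hZ', hsubZ⟩ := exists_mem_irreducibleComponents_subset_of_isIrreducible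
        (closure {u}) isIrreducible_singleton.closure
      have hZ'cl : IsClosed Z' := isClosed_of_mem_irreducibleComponents Z' hZ'
      let η' : ↥(FBase.bc f K) := hZ'.1.genericPoint
      have hη' : IsGenericPoint η' Z' := hZ'.1.isGenericPoint_genericPoint hZ'cl
      have hη'c : closure {η'} ∈ irreducibleComponents ↥(FBase.bc f K) := by
        rw [hη'.def]; exact hZ'
      have hpη' : p η' = ξ := hsub η' hη'c
      have hspec : η' ⤳ u := hη'.specializes (hsubZ (subset_closure rfl))
      obtain ⟨z, hz⟩ : u ∈ Set.range j := by rw [hjr]; exact hu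
      obtain ⟨z', hz'⟩ : η' ∈ Set.range j := by rw [hjr]; exact hpη'
      have hzz : z' ⤳ z := by
        rw [← j.isEmbedding.isInducing.specializes_iff, hz, hz']
        exact hspec
      have hzz2 : iso.hom z' ⤳ iso.hom z := hzz.map iso.hom.continuous
      have heq : iso.hom z' = iso.hom z :=
        eq_of_specializes_primeSpectrum_tensor (k := k) (κ := X.residueField ξ) (K := K)
          (iso.hom z) (iso.hom z') hzz2
      have heq2 : z' = z := by
        have := congrArg iso.inv heq
        simpa [← Scheme.Hom.comp_apply] using this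
      have : η' = u := by rw [← hz, ← hz', heq2]
      change closure {u} ∈ irreducibleComponents ↥(FBase.bc f K)
      rw [← this]
      exact hη'c
  have hinj : Function.Injective (fun z : PrimeSpectrum (X.residueField ξ ⊗[k] K) =>
      j (iso.inv z)) := by
    intro z z' h
    have h1 : iso.inv z = iso.inv z' := j.isEmbedding.injective h
    have h2 := congrArg iso.hom h1
    have h3 : ∀ y, iso.hom (iso.inv y) = y := fun y => by
      rw [← Scheme.Hom.comp_apply, Iso.inv_hom_id]; rfl
    exact (h3 z).symm.trans (h2.trans (h3 z'))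
  have hrange : Set.range (fun z : PrimeSpectrum (X.residueField ξ ⊗[k] K) =>
      j (iso.inv z)) = p ⁻¹' {ξ} := by
    rw [← hjr]
    ext u
    constructor
    · rintro ⟨z, rfl⟩
      exact ⟨_, rfl⟩
    · rintro ⟨z, rfl⟩
      refine ⟨iso.hom z, ?_⟩
      change j (iso.inv (iso.hom z)) = j z
      congr 1
      simp [← Scheme.Hom.comp_apply]
  rw [← Nat.card_congr (genericPoints.equiv (α := ↥(FBase.bc f K))), hgen, ← hrange]
  exact Nat.card_range_of_injective hinj

end Groth.Agent.Lib.Helper22.SchGeomConn
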