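import Mathlib
import Groth.Prelude.Def_FDesc
import Groth.Agent.Lib.Helper22.SchGeomConn9
import Groth.Agent.Lib.Helper22.ResFieldFG

/-!
# Geometric irreducibility of reduced closed subschemes from irreducibility of preimages (helper22)
-/

set_option autoImplicit false
set_option linter.style.haveILetI false
universe u
noncomputable section
namespace Groth.Agent.Lib.Helper22.SchGeomConn

open TensorProduct CategoryTheory CategoryTheory.Limits AlgebraicGeometry

theorem irreducibleSpace_of_isInducing_of_isIrreducible_range {A B : Type*} [TopologicalSpace A]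
    [TopologicalSpace B] {j : A → B} (hj : Topology.IsInducing j)
    (h : IsIrreducible (Set.range j)) : IrreducibleSpace A := by
  obtain ⟨⟨b, a, rfl⟩, hpre⟩ := h
  haveI : Nonempty A := ⟨a⟩
  refine { isPreirreducible_univ := ?_, toNonempty := inferInstance }
  intro u' v' hu' hv' hu'ne hv'ne
  obtain ⟨u, hu, rfl⟩ := hj.isOpen_iff.mp hu'
  obtain ⟨v, hv, rfl⟩ := hj.isOpen_iff.mp hv'
  obtain ⟨x, -, hx⟩ := hu'ne
  obtain ⟨y, -, hy⟩ := hv'ne
  obtain ⟨_, ⟨z, rfl⟩, hzu, hzv⟩ := hpre u v hu hv ⟨j x, ⟨x, rfl⟩, hx⟩ ⟨j y, ⟨y, rfl⟩, hy⟩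
  exact ⟨z, trivial, hzu, hzv⟩

theorem geometricallyIrreducible_comp_of_isIrreducible_preimage {L : Type u} [Field L]
    {W Z : Scheme.{u}} (g : W ⟶ Spec (CommRingCat.of L)) (ι : Z ⟶ W) [IsPreimmersion ι]
    (h : ∀ (K : Type u) [Field K] [Algebra L K],
      IsIrreducible (FBase.bcπ g K ⁻¹' Set.range ι)) :
    GeometricallyIrreducible (ι ≫ g) := by
  rw [GeometricallyIrreducible.eq_geometrically,
    geometrically_iff_of_commRing_of_isClosedUnderIsomorphisms]
  intro K _ _
  change IrreducibleSpace ↥(FBase.bc (ι ≫ g) K)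
  let j := bcLift' g ι (ι ≫ g) rfl K
  haveI : IsPreimmersion j := isPreimmersion_bcLift' g ι _ rfl K
  have hr : Set.range j = FBase.bcπ g K ⁻¹' Set.range ι := range_bcLift' g ι _ rfl K
  have h1 := h K
  rw [← hr] at h1
  exact irreducibleSpace_of_isInducing_of_isIrreducible_range j.isEmbedding.isInducing h1

variable {k : Type u} [Field k] {X : Scheme.{u}} (f : X ⟶ Spec (CommRingCat.of k))

/-- EGA IV 4.5.11 for schemes locally of finite type, in the reduced-induced-structure form. -/
theorem exists_finite_separable_components_geometricallyIrreducible [LocallyOfFiniteType f]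
    (hirr : (irreducibleComponents ↥X).Finite) :
    ∃ (L : Type u) (_ : Field L) (_ : Algebra k L), FiniteDimensional k L ∧
      Algebra.IsSeparable k L ∧
      ∀ (T : Set ↥(FBase.bc f L)) (hT : T ∈ irreducibleComponents ↥(FBase.bc f L)),
        GeometricallyIrreducible
          ((Scheme.IdealSheafData.vanishingIdeal
            ⟨T, isClosed_of_mem_irreducibleComponents T hT⟩).subschemeι ≫ FBase.bcStr f L) := by
  haveI : Finite ↥(irreducibleComponents ↥X) := hirr.to_subtype
  obtain ⟨L, hL1, hL2, hfin, hsep, hmain⟩ :=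
    exists_finite_separable_irreducibleComponents_geomIrreducible f
      (fun Z hZ => NoPIPoints.residueFieldProp_finite_separableClosure f _)
  refine ⟨L, hL1, hL2, hfin, hsep, ?_⟩
  intro T hT
  apply geometricallyIrreducible_comp_of_isIrreducible_preimage
  intro K _ _
  rw [Scheme.IdealSheafData.range_subschemeι, Scheme.IdealSheafData.coe_support_vanishingIdeal]
  exact hmain K T hT

end Groth.Agent.Lib.Helper22.SchGeomConn
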