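import Mathlib
import Groth.Prelude.Def_FDesc
import Groth.Agent.Lib.Helper22.SchGeomConn10

/-!
# Irreducible components over a separably closed field (helper22)

Over a separably closed field `k`, an irreducible component `T` of `X_K` is the full preimage of
the closure of its image, which is an irreducible component of `X`.
-/

set_option autoImplicit false
set_option linter.style.haveILetI false
universe u
noncomputable section
namespace Groth.Agent.Lib.Helper22.SchGeomConn

open TensorProduct CategoryTheory CategoryTheory.Limits AlgebraicGeometry
open Groth.Agent.Lib.Helper18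

variable {k : Type u} [Field k] {X : Scheme.{u}} (f : X ⟶ Spec (CommRingCat.of k))

/-- The closure of the image of an irreducible component of `X_K` is an irreducible component of
`X`. -/
theorem closure_image_mem_irreducibleComponents (K : Type u) [Field K] [Algebra k K]
    (T : Set ↥(FBase.bc f K)) (hT : T ∈ irreducibleComponents ↥(FBase.bc f K)) :
    closure (FBase.bcπ f K '' T) ∈ irreducibleComponents ↥X ∧
      closure (FBase.bcπ f K '' T) = closure {FBase.bcπ f K hT.1.genericPoint} := by
  have hTcl : IsClosed T := isClosed_of_mem_irreducibleComponents T hT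
  set η' : ↥(FBase.bc f K) := hT.1.genericPoint with hη'def
  have hη' : IsGenericPoint η' T := hT.1.isGenericPoint_genericPoint hTcl
  have hη'c : closure {η'} ∈ irreducibleComponents ↥(FBase.bc f K) := by
    rw [hη'.def]; exact hT
  have hW : closure {FBase.bcπ f K η'} ∈ irreducibleComponents ↥X :=
    closure_singleton_mem_irreducibleComponents_of_generalizingMap _
      (generalizingMap_bcπ f K) η' hη'c
  have heq : closure (FBase.bcπ f K '' T) = closure {FBase.bcπ f K η'} := by
    apply subset_antisymm
    · apply closure_minimal _ isClosed_closure
      rw [← hη'.def]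
      exact (image_closure_subset_closure_image (FBase.bcπ f K).continuous).trans
        (by rw [Set.image_singleton])
    · apply closure_mono
      rw [Set.singleton_subset_iff]
      exact ⟨η', hη'.mem, rfl⟩
  exact ⟨heq ▸ hW, heq⟩

/-- Over a separably closed field, an irreducible component of `X_K` is the preimage of the closure
of its image. -/
theorem eq_preimage_closure_image_of_isSepClosed [IsSepClosed k] (K : Type u) [Field K]
    [Algebra k K] (T : Set ↥(FBase.bc f K)) (hT : T ∈ irreducibleComponents ↥(FBase.bc f K)) :
    T = FBase.bcπ f K ⁻¹' closure (FBase.bcπ f K '' T) := by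
  obtain ⟨hZ, hZeq⟩ := closure_image_mem_irreducibleComponents f K T hT
  set ξ := FBase.bcπ f K hT.1.genericPoint with hξ
  letI : Algebra k (X.residueField ξ) := (GeomIrrGen.resMap f ξ).toAlgebra
  have hsep : ∀ α : X.residueField ξ, IsSeparable k α →
      α ∈ Set.range (algebraMap k (X.residueField ξ)) := by
    intro α hα
    exact minpoly.mem_range_of_degree_eq_one k α
      (IsSepClosed.degree_eq_one_of_irreducible k (minpoly.irreducible hα.isIntegral) hα)
  have hgi : GeometricallyIrreducible (Spec.map (CommRingCat.ofHom
      (algebraMap k (X.residueField ξ)))) :=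
    geometricallyIrreducible_specMap_of_sepClosedIn (k := k) (F := X.residueField ξ) hsep
  haveI : GeometricallyIrreducible (X.fromSpecResidueField ξ ≫ f) := by
    rw [GeomIrrGen.fromSpecResidueField_comp f ξ]
    exact hgi
  have hirr := isIrreducible_preimage_closure_range f (X.fromSpecResidueField ξ) K
  rw [Scheme.range_fromSpecResidueField, ← hZeq] at hirr
  have hsub : T ⊆ FBase.bcπ f K ⁻¹' closure (FBase.bcπ f K '' T) :=
    fun t ht => subset_closure ⟨t, ht, rfl⟩
  exact (hT.2 hirr hsub).antisymm hsub |>.symm

end Groth.Agent.Lib.Helper22.SchGeomConn
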