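import Mathlib
import Groth.Prelude.Def_FDesc
import Groth.Agent.Lib.Helper22.SchGeomConn11
import Groth.Agent.Lib.Helper22.SchBC

/-!
# Images of irreducible components under base field extension (helper22)

For a `k`-scheme `X` and an arbitrary field extension `K/k`, the image in `X` of an irreducible
component of `X_K` is an irreducible component of `X`, and every irreducible component of `X`
arises this way (EGA IV 4.4.1-type statement).
-/

set_option autoImplicit false
set_option linter.style.haveILetI false
universe u
noncomputable section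
namespace Groth.Agent.Lib.Helper22.SchGeomConn

open TensorProduct CategoryTheory CategoryTheory.Limits AlgebraicGeometry

section Topology

variable {A B : Type*} [TopologicalSpace A] [TopologicalSpace B]

/-- The generic point of an irreducible component has no proper generization. -/
theorem eq_of_specializes_genericPoint_of_mem_irreducibleComponents [T0Space B] {T : Set B}
    (hT : T ∈ irreducibleComponents B) {η t : B} (hη : IsGenericPoint η T) (h : t ⤳ η) :
    t = η := by
  have hsub : closure {η} ⊆ closure {t} := specializes_iff_closure_subset.mp h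
  rw [hη.def] at hsub
  have heq : closure {t} = T := (hT.2 isIrreducible_singleton.closure hsub).antisymm hsub
  exact IsGenericPoint.eq (S := T) heq hη

/-- A generalizing continuous map sends irreducible components onto dense subsets of irreducible
components. -/
theorem closure_image_mem_irreducibleComponents_of_generalizingMap [QuasiSober A] [QuasiSober B]
    [T0Space A] (p : A → B) (hc : Continuous p) (hg : GeneralizingMap p) (T : Set A)
    (hT : T ∈ irreducibleComponents A) :
    closure (p '' T) ∈ irreducibleComponents B ∧
      closure (p '' T) = closure {p hT.1.genericPoint} := by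
  have hTcl : IsClosed T := isClosed_of_mem_irreducibleComponents T hT
  set η' : A := hT.1.genericPoint with hη'def
  have hη' : IsGenericPoint η' T := hT.1.isGenericPoint_genericPoint hTcl
  have hη'c : closure {η'} ∈ irreducibleComponents A := by
    rw [hη'.def]; exact hT
  have hW : closure {p η'} ∈ irreducibleComponents B :=
    closure_singleton_mem_irreducibleComponents_of_generalizingMap p hg η' hη'c
  have heq : closure (p '' T) = closure {p η'} := by
    apply subset_antisymm
    · apply closure_minimal _ isClosed_closure
      rw [← hη'.def]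
      exact (image_closure_subset_closure_image hc).trans (by rw [Set.image_singleton])
    · apply closure_mono
      rw [Set.singleton_subset_iff]
      exact ⟨η', hη'.mem, rfl⟩
  exact ⟨heq ▸ hW, heq⟩

/-- Along a surjective generalizing continuous map, every irreducible component of the target
contains the image of an irreducible component of the source whose generic point maps to its
generic point. -/
theorem exists_irreducibleComponent_image_subset [QuasiSober A] [QuasiSober B] [T0Space B]
    (q : A → B) (hc : Continuous q) (hs : Function.Surjective q) (T : Set B)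
    (hT : T ∈ irreducibleComponents B) :
    ∃ T' ∈ irreducibleComponents A, q '' T' ⊆ T ∧ ∃ a ∈ T', IsGenericPoint (q a) T := by
  have hTcl : IsClosed T := isClosed_of_mem_irreducibleComponents T hT
  set η : B := hT.1.genericPoint
  have hη : IsGenericPoint η T := hT.1.isGenericPoint_genericPoint hTcl
  obtain ⟨u, hu⟩ := hs η
  obtain ⟨T', hT', hsub⟩ := exists_mem_irreducibleComponents_subset_of_isIrreducible
    (closure {u}) isIrreducible_singleton.closure
  have hT'cl : IsClosed T' := isClosed_of_mem_irreducibleComponents T' hT'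
  set η' : A := hT'.1.genericPoint
  have hη' : IsGenericPoint η' T' := hT'.1.isGenericPoint_genericPoint hT'cl
  have h1 : η' ⤳ u := hη'.specializes (hsub (subset_closure rfl))
  have h2 : q η' ⤳ η := hu ▸ h1.map hc
  have h3 : q η' = η := eq_of_specializes_genericPoint_of_mem_irreducibleComponents hT hη h2
  refine ⟨T', hT', ?_, η', hη'.mem, h3 ▸ hη⟩
  rw [← hη'.def, ← hη.def, ← h3]
  exact (image_closure_subset_closure_image hc).trans (by rw [Set.image_singleton])

end Topology

variable {k : Type u} [Field k] {X : Scheme.{u}} (f : X ⟶ Spec (CommRingCat.of k))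

theorem flat_bcMap (K L : Type u) [Field K] [Field L] [Algebra k K] [Algebra k L] [Algebra K L]
    [IsScalarTower k K L] : Flat (SchBC.bcMap f K L) :=
  MorphismProperty.of_isPullback (P := @Flat) (SchBC.isPullback_bcMap f K L).flip
    (flat_specMap_field L)

/-- `(X_K)_L ≅ X_L` for a tower `k ⊆ K ⊆ L`. -/
def bcBcIso (K L : Type u) [Field K] [Field L] [Algebra k K] [Algebra k L] [Algebra K L]
    [IsScalarTower k K L] : FBase.bc (FBase.bcStr f K) L ≅ FBase.bc f L :=
  (IsPullback.of_hasPullback (FBase.bcStr f K)
    (Spec.map (CommRingCat.ofHom (algebraMap K L)))).isoIsPullback _ _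
    (SchBC.isPullback_bcMap f K L)

theorem bcBcIso_hom_bcMap (K L : Type u) [Field K] [Field L] [Algebra k K] [Algebra k L]
    [Algebra K L] [IsScalarTower k K L] :
    (bcBcIso f K L).hom ≫ SchBC.bcMap f K L = FBase.bcπ (FBase.bcStr f K) L :=
  IsPullback.isoIsPullback_hom_fst _ _ _ _

/-- Over a separably closed intermediate field `K`, an irreducible component of `X_L` is the
preimage of the closure of its image in `X_K`. -/
theorem eq_preimage_closure_image_bcMap (K L : Type u) [Field K] [Field L] [Algebra k K]
    [Algebra k L] [Algebra K L] [IsScalarTower k K L] [IsSepClosed K]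
    (T : Set ↥(FBase.bc f L)) (hT : T ∈ irreducibleComponents ↥(FBase.bc f L)) :
    T = SchBC.bcMap f K L ⁻¹' closure (SchBC.bcMap f K L '' T) := by
  set e := bcBcIso f K L with he
  set p₂ := SchBC.bcMap f K L with hp₂
  set π := FBase.bcπ (FBase.bcStr f K) L with hπ
  have heπ : ∀ a, p₂ (e.hom a) = π a := by
    intro a
    rw [← Scheme.Hom.comp_apply, he, hp₂, bcBcIso_hom_bcMap]
  have hsurj : Function.Surjective e.hom := e.hom.homeomorph.surjective
  have hT' : e.hom ⁻¹' T ∈ irreducibleComponents ↥(FBase.bc (FBase.bcStr f K) L) := by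
    apply preimage_mem_irreducibleComponents hT e.hom.isOpenEmbedding
    obtain ⟨t, ht⟩ := hT.1.1
    exact ⟨t, ht, hsurj t⟩
  have h1 := eq_preimage_closure_image_of_isSepClosed (FBase.bcStr f K) L _ hT'
  have h2 : π '' (e.hom ⁻¹' T) = p₂ '' T := by
    ext y
    constructor
    · rintro ⟨a, ha, rfl⟩
      exact ⟨e.hom a, ha, heπ a⟩
    · rintro ⟨t, ht, rfl⟩
      obtain ⟨a, rfl⟩ := hsurj t
      exact ⟨a, ht, (heπ a).symm⟩
  rw [← hπ, h2] at h1
  have h3 : π ⁻¹' closure (p₂ '' T) = e.hom ⁻¹' (p₂ ⁻¹' closure (p₂ '' T)) := by
    ext a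
    simp only [Set.mem_preimage, heπ]
  rw [h3] at h1
  exact hsurj.preimage_injective h1

/-- EGA IV 4.4.1-type statement: the image of an irreducible component of `X_K` is an
irreducible component of `X`. -/
theorem image_mem_irreducibleComponents (K : Type u) [Field K] [Algebra k K]
    (T : Set ↥(FBase.bc f K)) (hT : T ∈ irreducibleComponents ↥(FBase.bc f K)) :
    FBase.bcπ f K '' T ∈ irreducibleComponents ↥X := by
  let Ω := AlgebraicClosure K
  haveI : IsScalarTower k K Ω := inferInstance
  let kb : Type u := ↥(algebraicClosure k Ω)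
  haveI : IsAlgClosure k kb := algebraicClosure.isAlgClosure (F := k) (E := Ω)
  haveI : IsAlgClosed kb := IsAlgClosure.isAlgClosed k
  haveI : Algebra.IsAlgebraic k kb := IsAlgClosure.isAlgebraic
  set q := SchBC.bcMap f K Ω with hq
  set p₂ := SchBC.bcMap f kb Ω with hp₂
  set p₁ := FBase.bcπ f kb with hp₁
  set p := FBase.bcπ f K with hp
  have hqp : ∀ a, p (q a) = p₁ (p₂ a) := by
    intro a
    rw [← Scheme.Hom.comp_apply, ← Scheme.Hom.comp_apply, hq, hp, hp₂, hp₁,
      SchBC.bcMap_bcπ, SchBC.bcMap_bcπ]
  haveI := SchBC.surjective_bcMap f K Ω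
  haveI := SchBC.surjective_bcMap f kb Ω
  haveI := flat_bcMap f kb Ω
  obtain ⟨TΩ, hTΩ, hqT, -⟩ := exists_irreducibleComponent_image_subset q q.continuous
    q.surjective T hT
  have h1 : TΩ = p₂ ⁻¹' closure (p₂ '' TΩ) := eq_preimage_closure_image_bcMap f kb Ω TΩ hTΩ
  have hT₁ : closure (p₂ '' TΩ) ∈ irreducibleComponents ↥(FBase.bc f kb) :=
    (closure_image_mem_irreducibleComponents_of_generalizingMap p₂ p₂.continuous
      (Flat.generalizingMap p₂) TΩ hTΩ).1
  have h2 : p₂ '' TΩ = closure (p₂ '' TΩ) := by
    conv_lhs => rw [h1]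
    exact Set.image_preimage_eq _ p₂.surjective
  have h3 : IsClosed (p₁ '' closure (p₂ '' TΩ)) := isClosedMap_bcπ f kb _ isClosed_closure
  have h4 : p₁ '' closure (p₂ '' TΩ) ∈ irreducibleComponents ↥X := by
    have := (closure_image_mem_irreducibleComponents_of_generalizingMap p₁ p₁.continuous
      (generalizingMap_bcπ f kb) _ hT₁).1
    rwa [h3.closure_eq] at this
  have h5 : p₁ '' closure (p₂ '' TΩ) ⊆ p '' T := by
    rw [← h2]
    rintro _ ⟨_, ⟨a, ha, rfl⟩, rfl⟩
    exact ⟨q a, hqT ⟨a, ha, rfl⟩, hqp a⟩
  have hZ := (closure_image_mem_irreducibleComponents_of_generalizingMap p p.continuous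
    (generalizingMap_bcπ f K) T hT).1
  have h6 : closure (p '' T) ⊆ p₁ '' closure (p₂ '' TΩ) :=
    h4.2 hZ.1 (h5.trans subset_closure)
  have h7 : p '' T = closure (p '' T) :=
    subset_antisymm subset_closure (h6.trans h5)
  rw [h7]
  exact hZ

/-- Every irreducible component of `X` is the image of an irreducible component of `X_K`. -/
theorem exists_irreducibleComponent_image_eq (K : Type u) [Field K] [Algebra k K]
    (Z : Set ↥X) (hZ : Z ∈ irreducibleComponents ↥X) :
    ∃ T ∈ irreducibleComponents ↥(FBase.bc f K), FBase.bcπ f K '' T = Z := by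
  obtain ⟨T, hT, hsub, -⟩ := exists_irreducibleComponent_image_subset (FBase.bcπ f K)
    (FBase.bcπ f K).continuous (surjective_bcπ f K) Z hZ
  refine ⟨T, hT, ?_⟩
  have h1 := image_mem_irreducibleComponents f K T hT
  exact subset_antisymm hsub (h1.2 hZ.1 hsub)

end Groth.Agent.Lib.Helper22.SchGeomConn
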