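import Mathlib
import Groth.Prelude.Def_FDesc
import Groth.Agent.Lib.Helper22.SchGeomConn12

/-!
# Points of base changes to two field extensions have a common refinement (helper22)
-/

set_option autoImplicit false
set_option linter.style.haveILetI false
universe u
noncomputable section
namespace Groth.Agent.Lib.Helper22.TowerPts

open TensorProduct CategoryTheory CategoryTheory.Limits AlgebraicGeometry
open Groth.Agent.Lib.Helper22.SchGeomConn

variable {k : Type u} [Field k] {X : Scheme.{u}} (f : X ⟶ Spec (CommRingCat.of k))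

/-- Lemma W: two points of `X_K` and `X_{k'}` over the same point of `X` are dominated by a point
of `X_L` for a common extension `L` of `K` and `k'`. -/
theorem exists_common_point (K k' : Type u) [Field K] [Field k'] [Algebra k K] [Algebra k k']
    (y : ↥(FBase.bc f K)) (x' : ↥(FBase.bc f k')) (h : FBase.bcπ f K y = FBase.bcπ f k' x') :
    ∃ (L : Type u) (_ : Field L) (_ : Algebra k L) (_ : Algebra K L) (_ : Algebra k' L)
      (_ : IsScalarTower k K L) (_ : IsScalarTower k k' L) (w : ↥(FBase.bc f L)),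
      SchBC.bcMap f K L w = y ∧ SchBC.bcMap f k' L w = x' := by
  obtain ⟨z, hz1, hz2⟩ := Scheme.Pullback.exists_preimage_pullback
    (f := FBase.bcπ f K) (g := FBase.bcπ f k') y x' h
  let W := pullback (FBase.bcπ f K) (FBase.bcπ f k')
  let L : Type u := ↑(W.residueField z)
  let ι : Spec (CommRingCat.of L) ⟶ W := W.fromSpecResidueField z
  let a : Spec (CommRingCat.of L) ⟶ FBase.bc f K := ι ≫ pullback.fst _ _
  let b : Spec (CommRingCat.of L) ⟶ FBase.bc f k' := ι ≫ pullback.snd _ _
  obtain ⟨φ, hφ⟩ := Spec.map_surjective (a ≫ FBase.bcStr f K)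
  obtain ⟨ψ, hψ⟩ := Spec.map_surjective (b ≫ FBase.bcStr f k')
  letI algKL : Algebra K L := φ.hom.toAlgebra
  letI algk'L : Algebra k' L := ψ.hom.toAlgebra
  letI algkL : Algebra k L := (φ.hom.comp (algebraMap k K)).toAlgebra
  haveI t1 : IsScalarTower k K L := IsScalarTower.of_algebraMap_eq (fun _ => rfl)
  have hcondK : FBase.bcπ f K ≫ f =
      FBase.bcStr f K ≫ Spec.map (CommRingCat.ofHom (algebraMap k K)) := pullback.condition
  have hcondk' : FBase.bcπ f k' ≫ f =
      FBase.bcStr f k' ≫ Spec.map (CommRingCat.ofHom (algebraMap k k')) := pullback.condition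
  have hab : a ≫ FBase.bcπ f K = b ≫ FBase.bcπ f k' := by
    simp only [a, b, Category.assoc]
    rw [pullback.condition]
  have hφ' : Spec.map (CommRingCat.ofHom (algebraMap K L)) = a ≫ FBase.bcStr f K := hφ
  have hψ' : Spec.map (CommRingCat.ofHom (algebraMap k' L)) = b ≫ FBase.bcStr f k' := hψ
  have hkL : Spec.map (CommRingCat.ofHom (algebraMap k L)) = a ≫ FBase.bcπ f K ≫ f := by
    have : CommRingCat.ofHom (algebraMap k L) =
        CommRingCat.ofHom (algebraMap k K) ≫ CommRingCat.ofHom (algebraMap K L) := rfl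
    rw [this, Spec.map_comp, hφ', Category.assoc, ← hcondK]
  haveI t2 : IsScalarTower k k' L := by
    apply IsScalarTower.of_algebraMap_eq'
    have h1 : Spec.map (CommRingCat.ofHom ((algebraMap k' L).comp (algebraMap k k'))) =
        Spec.map (CommRingCat.ofHom (algebraMap k L)) := by
      have : CommRingCat.ofHom ((algebraMap k' L).comp (algebraMap k k')) =
          CommRingCat.ofHom (algebraMap k k') ≫ CommRingCat.ofHom (algebraMap k' L) := rfl
      rw [this, Spec.map_comp, hψ', Category.assoc, ← hcondk', hkL, ← Category.assoc b, ← hab,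
        Category.assoc]
    have h2 := Spec.map_injective h1
    exact (congrArg CommRingCat.Hom.hom h2).symm
  let w₀ : Spec (CommRingCat.of L) ⟶ FBase.bc f L :=
    pullback.lift (a ≫ FBase.bcπ f K) (𝟙 _) (by rw [Category.id_comp, Category.assoc, hkL])
  have hw₀1 : w₀ ≫ FBase.bcπ f L = a ≫ FBase.bcπ f K := pullback.lift_fst _ _ _
  have hw₀2 : w₀ ≫ FBase.bcStr f L = 𝟙 _ := pullback.lift_snd _ _ _
  have hwa : w₀ ≫ SchBC.bcMap f K L = a := by
    apply pullback.hom_ext
    · change (w₀ ≫ SchBC.bcMap f K L) ≫ FBase.bcπ f K = a ≫ FBase.bcπ f K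
      rw [Category.assoc, SchBC.bcMap_bcπ, hw₀1]
    · change (w₀ ≫ SchBC.bcMap f K L) ≫ FBase.bcStr f K = a ≫ FBase.bcStr f K
      rw [Category.assoc, SchBC.bcMap_bcStr, ← Category.assoc, hw₀2, Category.id_comp, hφ']
  have hwb : w₀ ≫ SchBC.bcMap f k' L = b := by
    apply pullback.hom_ext
    · change (w₀ ≫ SchBC.bcMap f k' L) ≫ FBase.bcπ f k' = b ≫ FBase.bcπ f k'
      rw [Category.assoc, SchBC.bcMap_bcπ, hw₀1, hab]
    · change (w₀ ≫ SchBC.bcMap f k' L) ≫ FBase.bcStr f k' = b ≫ FBase.bcStr f k'
      rw [Category.assoc, SchBC.bcMap_bcStr, ← Category.assoc, hw₀2, Category.id_comp, hψ']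
  let pt : ↥(Spec (CommRingCat.of L)) := (⊥ : PrimeSpectrum L)
  have hιpt : ι pt = z := by
    have : ι pt ∈ Set.range ι := ⟨pt, rfl⟩
    rw [Scheme.range_fromSpecResidueField] at this
    exact this
  refine ⟨L, inferInstance, algkL, algKL, algk'L, t1, t2, w₀ pt, ?_, ?_⟩
  · rw [← Scheme.Hom.comp_apply, hwa]
    change (ι ≫ pullback.fst (FBase.bcπ f K) (FBase.bcπ f k')) pt = y
    rw [Scheme.Hom.comp_apply, hιpt, hz1]
  · rw [← Scheme.Hom.comp_apply, hwb]
    change (ι ≫ pullback.snd (FBase.bcπ f K) (FBase.bcπ f k')) pt = x'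
    rw [Scheme.Hom.comp_apply, hιpt, hz2]

set_option backward.isDefEq.respectTransparency.types false in
/-- Lemma I: the stalk maps of a flat morphism are injective. -/
theorem stalkMap_injective_of_flat {X Y : Scheme.{u}} (g : X ⟶ Y) [Flat g] (x : X) :
    Function.Injective (g.stalkMap x).hom := by
  algebraize [(g.stalkMap x).hom]
  have : Module.FaithfullyFlat (Y.presheaf.stalk (g x)) (X.presheaf.stalk x) :=
    @Module.FaithfullyFlat.of_flat_of_isLocalHom _ _ _ _ _ _ _
      (Flat.stalkMap g x) (g.toLRSHom.prop x)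
  exact ‹RingHom.FaithfullyFlat _›.injective

/-- Transport of a ring property along the stalk isomorphism of an isomorphism of schemes. -/
theorem stalk_of_iso (P : ∀ (R : Type u) [CommRing R], Prop)
    (hinj : ∀ (R S : Type u) [CommRing R] [CommRing S] (φ : R →+* S),
      Function.Injective φ → P S → P R)
    {X Y : Scheme.{u}} (g : X ⟶ Y) [IsIso g] (x : X)
    (h : P (Y.presheaf.stalk (g x))) : P (X.presheaf.stalk x) := by
  refine hinj _ _ (inv (g.stalkMap x)).hom ?_ h
  have : Function.Bijective (inv (g.stalkMap x)).hom :=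
    ConcreteCategory.bijective_of_isIso (inv (g.stalkMap x))
  exact this.1

/-- The generic tower theorem: a property of rings that descends along injective ring maps holds
at all points of all base changes `X_K` above `π(x')` iff it holds at all points of all base
changes `(X_{k'})_L` above `x'`. -/
theorem forall_stalk_iff (P : ∀ (R : Type u) [CommRing R], Prop)
    (hinj : ∀ (R S : Type u) [CommRing R] [CommRing S] (φ : R →+* S),
      Function.Injective φ → P S → P R)
    (k' : Type u) [Field k'] [Algebra k k'] (x' : ↥(FBase.bc f k')) :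
    (∀ (K : Type u) [Field K] [Algebra k K] (y : ↥(FBase.bc f K)),
        (FBase.bcπ f K).base y = (FBase.bcπ f k') x' → P ((FBase.bc f K).presheaf.stalk y)) ↔
    (∀ (L : Type u) [Field L] [Algebra k' L] (w : ↥(FBase.bc (FBase.bcStr f k') L)),
        (FBase.bcπ (FBase.bcStr f k') L).base w = x' →
        P ((FBase.bc (FBase.bcStr f k') L).presheaf.stalk w)) := by
  constructor
  · intro H L _ _ w hw
    letI : Algebra k L := ((algebraMap k' L).comp (algebraMap k k')).toAlgebra
    haveI : IsScalarTower k k' L := IsScalarTower.of_algebraMap_eq (fun _ => rfl)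
    have hy : (FBase.bcπ f L).base ((bcBcIso f k' L).hom w) = (FBase.bcπ f k') x' := by
      rw [← SchBC.bcMap_bcπ f k' L, Scheme.Hom.comp_apply, ← Scheme.Hom.comp_apply _
        (SchBC.bcMap f k' L), bcBcIso_hom_bcMap]
      exact congrArg _ hw
    exact stalk_of_iso P hinj (bcBcIso f k' L).hom w (H L _ hy)
  · intro H K _ _ y hy
    obtain ⟨L, _, _, _, _, _, _, w, rfl, rfl⟩ := exists_common_point f K k' y x' hy
    have hw' : (FBase.bcπ (FBase.bcStr f k') L).base ((bcBcIso f k' L).inv w) =
        SchBC.bcMap f k' L w := by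
      rw [← bcBcIso_hom_bcMap, ← Scheme.Hom.comp_apply, Iso.inv_hom_id_assoc]
    have h1 := H L _ hw'
    have h2 : P ((FBase.bc f L).presheaf.stalk w) :=
      stalk_of_iso P hinj (bcBcIso f k' L).inv w h1
    haveI := flat_bcMap f K L
    exact hinj _ _ _ (stalkMap_injective_of_flat (SchBC.bcMap f K L) w) h2

end Groth.Agent.Lib.Helper22.TowerPts
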