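import Mathlib

/-!
# Cokernels of injective endomorphisms of one-dimensional modules have finite length
-/

set_option autoImplicit false
universe u v
open IsLocalRing

namespace Groth.Agent.Lib.Helper22.DimOneCoker

/-- A finite module over a Noetherian ring with zero-dimensional support has finite length. -/
theorem isFiniteLength_of_supportDim_le_zero {R : Type u} [CommRing R] [IsNoetherianRing R]
    {N : Type v} [AddCommGroup N] [Module R N] [Module.Finite R N]
    (h : Module.supportDim R N ≤ 0) : IsFiniteLength R N := by
  have hdim : ringKrullDim (R ⧸ Module.annihilator R N) ≤ 0 := by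
    rw [← Module.supportDim_eq_ringKrullDim_quotient_annihilator]; exact h
  haveI : Ring.KrullDimLE 0 (R ⧸ Module.annihilator R N) := Ring.krullDimLE_iff.mpr hdim
  haveI : IsArtinianRing (R ⧸ Module.annihilator R N) := isArtinianRing_iff_krullDimLE_zero.mpr this
  have htors : Module.IsTorsionBySet R N (Module.annihilator R N) :=
    Module.isTorsionBySet_annihilator R N
  letI : Module (R ⧸ Module.annihilator R N) N := htors.module
  haveI : IsScalarTower R (R ⧸ Module.annihilator R N) N := htors.isScalarTower
  haveI : Module.Finite (R ⧸ Module.annihilator R N) N :=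
    Module.Finite.of_restrictScalars_finite R (R ⧸ Module.annihilator R N) N
  haveI : IsArtinian (R ⧸ Module.annihilator R N) N := inferInstance
  haveI : IsArtinian R N :=
    isArtinian_of_surjective_algebraMap (S := R) (R := R ⧸ Module.annihilator R N)
      Ideal.Quotient.mk_surjective
  rw [isFiniteLength_iff_isNoetherian_isArtinian]
  exact ⟨inferInstance, inferInstance⟩

/-- If all primes in the support are the closed point, the support has dimension `≤ 0`. -/
theorem supportDim_le_zero_of_forall_eq {R : Type u} [CommRing R]
    {N : Type v} [AddCommGroup N] [Module R N] (p₀ : PrimeSpectrum R)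
    (h : ∀ p ∈ Module.support R N, p = p₀) : Module.supportDim R N ≤ 0 := by
  unfold Module.supportDim
  haveI : Subsingleton (Module.support R N) :=
    ⟨fun a b => Subtype.ext ((h a.1 a.2).trans (h b.1 b.2).symm)⟩
  exact Order.krullDim_nonpos_of_subsingleton

variable {A : Type u} [CommRing A] [IsNoetherianRing A] [IsLocalRing A]
variable {M : Type v} [AddCommGroup M] [Module A M] [Module.Finite A M]

/-- At a minimal non-closed point `p` of the support of `M`, an injective endomorphism `θ` becomes
surjective: every element of `M` is, up to a multiplier outside `p`, in the range of `θ`. -/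
theorem exists_smul_mem_range_of_minimal (p : PrimeSpectrum A)
    (hmin : ∀ q ∈ Module.support A M, q ≤ p → q = p)
    (θ : M →ₗ[A] M) (hθ : Function.Injective θ) (m : M) :
    ∃ s : A, s ∉ p.asIdeal ∧ s • m ∈ LinearMap.range θ := by
  set S := p.asIdeal.primeCompl with hS
  -- the localized module has zero-dimensional support
  have hsupp : ∀ Q ∈ Module.support (Localization.AtPrime p.asIdeal) (LocalizedModule S M),
      Q = closedPoint (Localization.AtPrime p.asIdeal) := by
    intro Q hQ
    rw [Module.mem_support_iff_exists_annihilator] at hQ
    obtain ⟨x, hx⟩ := hQ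
    induction x using LocalizedModule.induction_on with
    | h m s =>
    let q : PrimeSpectrum A := PrimeSpectrum.comap (algebraMap A (Localization.AtPrime p.asIdeal)) Q
    have hq : q ∈ Module.support A M := by
      rw [Module.mem_support_iff_exists_annihilator]
      refine ⟨m, ?_⟩
      intro a ha
      rw [Submodule.mem_annihilator_span_singleton] at ha
      show algebraMap A (Localization.AtPrime p.asIdeal) a ∈ Q.asIdeal
      apply hx
      rw [Submodule.mem_annihilator_span_singleton, algebraMap_smul, LocalizedModule.smul'_mk,
        ha, LocalizedModule.zero_mk]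
    have hqp : q ≤ p := by
      intro a ha
      by_contra hap
      have hu : IsUnit (algebraMap A (Localization.AtPrime p.asIdeal) a) :=
        IsLocalization.map_units (Localization.AtPrime p.asIdeal) (⟨a, hap⟩ : p.asIdeal.primeCompl)
      exact Q.2.ne_top (Ideal.eq_top_of_isUnit_mem _ ha hu)
    have hqeq : q = p := hmin q hq hqp
    apply PrimeSpectrum.ext
    apply le_antisymm
    · exact le_maximalIdeal Q.2.ne_top
    · show maximalIdeal _ ≤ Q.asIdeal
      rw [← Localization.AtPrime.map_eq_maximalIdeal, Ideal.map_le_iff_le_comap]
      exact (le_of_eq hqeq.symm : p ≤ q)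
  have hfl : IsFiniteLength (Localization.AtPrime p.asIdeal) (LocalizedModule S M) :=
    isFiniteLength_of_supportDim_le_zero (supportDim_le_zero_of_forall_eq _ hsupp)
  haveI : IsArtinian (Localization.AtPrime p.asIdeal) (LocalizedModule S M) :=
    (isFiniteLength_iff_isNoetherian_isArtinian.mp hfl).2
  have hinj := LocalizedModule.map_injective S θ hθ
  have hsurj := IsArtinian.surjective_of_injective_endomorphism (LocalizedModule.map S θ) hinj
  obtain ⟨y, hy⟩ := hsurj (LocalizedModule.mk m 1)
  induction y using LocalizedModule.induction_on with
  | h m' s =>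
  rw [LocalizedModule.map_mk, LocalizedModule.mk_eq] at hy
  obtain ⟨u, hu⟩ := hy
  -- u • 1 • θ m' = u • s • m
  refine ⟨u * s, ?_, ?_⟩
  · exact (p.asIdeal.primeCompl.mul_mem u.2 s.2)
  · refine ⟨(u : A) • m', ?_⟩
    rw [map_smul]
    have := hu
    simp only [one_smul] at this
    rw [mul_smul]
    exact this

/-- **Main lemma**: for a finite module `M` of dimension `≤ 1` over a Noetherian local ring, the
cokernel of an injective endomorphism has finite length. -/
theorem isFiniteLength_coker_of_injective (hdim : Module.supportDim A M ≤ 1)
    (θ : M →ₗ[A] M) (hθ : Function.Injective θ) :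
    IsFiniteLength A (M ⧸ LinearMap.range θ) := by
  apply isFiniteLength_of_supportDim_le_zero
  apply supportDim_le_zero_of_forall_eq (closedPoint A)
  intro p hp
  by_contra hne
  have hpM : p ∈ Module.support A M :=
    Module.support_subset_of_surjective _ (LinearMap.range θ).mkQ_surjective hp
  have hple : p ≤ closedPoint A := le_maximalIdeal p.2.ne_top
  have hplt : p < closedPoint A := lt_of_le_of_ne hple hne
  have hcM : closedPoint A ∈ Module.support A M := Module.mem_support_mono hple hpM
  -- p is minimal in the support
  have hmin : ∀ q ∈ Module.support A M, q ≤ p → q = p := by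
    intro q hq hqp
    by_contra hqne
    have hqlt : q < p := lt_of_le_of_ne hqp hqne
    let a : Module.support A M := ⟨q, hq⟩
    let b : Module.support A M := ⟨p, hpM⟩
    let c : Module.support A M := ⟨closedPoint A, hcM⟩
    have hab : a < b := hqlt
    have hbc : b < c := hplt
    let l : LTSeries (Module.support A M) :=
      LTSeries.mk 2 ![a, b, c] (by
        rw [Fin.strictMono_iff_lt_succ]
        intro i
        fin_cases i
        · exact hab
        · exact hbc)
    have hl : l.length = 2 := rfl
    have := Order.LTSeries.length_le_krullDim l
    rw [hl] at this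
    have h2 : ((2 : ℕ) : WithBot ℕ∞) ≤ 1 := this.trans hdim
    norm_cast at h2
  -- every element of the quotient is killed by something outside p
  rw [Module.mem_support_iff_exists_annihilator] at hp
  obtain ⟨x, hx⟩ := hp
  obtain ⟨m, rfl⟩ := (LinearMap.range θ).mkQ_surjective x
  obtain ⟨s, hs, hsm⟩ := exists_smul_mem_range_of_minimal p hmin θ hθ m
  apply hs
  apply hx
  rw [Submodule.mem_annihilator_span_singleton, ← map_smul, Submodule.mkQ_apply,
    Submodule.Quotient.mk_eq_zero]
  exact hsm

end Groth.Agent.Lib.Helper22.DimOneCoker
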