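import Mathlib
import Groth.Agent.S9627

/-!
# Geometric irreducibility and rational function fields (helper22)

`irr_of_fractions`, `irr_tensor_of_fractions`: irreducibility of spectra passes to rings of fractions.
`jmap : k(t) ⊗_k K → K(t)` is injective (`jmap_injective`) and `K(t)` consists of fractions of its image
(`jmap_fractions`); hence `geomIrr_ratFunc`. Conversely `mem_range_of_sepClosed_ratFunc`.
-/

set_option linter.unusedSectionVars false
set_option linter.style.haveILetI false

namespace Groth.Agent.Lib.Helper22.RatFuncIrr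
open TensorProduct Polynomial

universe u

/-- If `f : R → R'` is injective and every element of `R'` is `f x` up to a unit, then
irreducibility of `Spec R` passes to `Spec R'`. -/
theorem irr_of_fractions {R R' : Type*} [CommRing R] [CommRing R'] (f : R →+* R')
    (hf : Function.Injective f)
    (hfr : ∀ x' : R', ∃ x : R, ∃ u : R', IsUnit u ∧ x' * u = f x)
    [IrreducibleSpace (PrimeSpectrum R)] : IrreducibleSpace (PrimeSpectrum R') := by
  rw [PrimeSpectrum.irreducibleSpace_iff_isPrime_nilradical] at *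
  rename_i hR
  have hnil : ∀ x : R, IsNilpotent (f x) → IsNilpotent x := by
    rintro x ⟨n, hn⟩
    refine ⟨n, hf ?_⟩
    rw [map_pow, hn, map_zero]
  have hunit : ∀ (x' u : R'), IsUnit u → IsNilpotent (x' * u) → IsNilpotent x' := by
    rintro x' u ⟨u, rfl⟩ h
    have : x' = x' * u * (↑u⁻¹ : R') := by rw [mul_assoc, Units.mul_inv, mul_one]
    rw [this]
    exact (Commute.all _ _).isNilpotent_mul_right h
  have : Nontrivial R := by
    by_contra hnt
    rw [not_nontrivial_iff_subsingleton] at hnt
    exact hR.ne_top (Subsingleton.elim _ _)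
  have : Nontrivial R' := hf.nontrivial
  refine ⟨?_, ?_⟩
  · intro h
    have : (1 : R') ∈ nilradical R' := by rw [h]; trivial
    rw [mem_nilradical] at this
    exact not_isNilpotent_one this
  · intro x' y' hxy
    rw [mem_nilradical] at hxy
    obtain ⟨x, u, hu, hx⟩ := hfr x'
    obtain ⟨y, v, hv, hy⟩ := hfr y'
    have h1 : IsNilpotent (f (x * y)) := by
      rw [map_mul, ← hx, ← hy]
      have : x' * u * (y' * v) = (x' * y') * (u * v) := by ring
      rw [this]
      exact (Commute.all _ _).isNilpotent_mul_right hxy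
    have h2 : x * y ∈ nilradical R := mem_nilradical.mpr (hnil _ h1)
    rcases hR.mem_or_mem h2 with h | h
    · left
      rw [mem_nilradical] at h ⊢
      apply hunit x' u hu
      rw [hx]
      exact h.map f
    · right
      rw [mem_nilradical] at h ⊢
      apply hunit y' v hv
      rw [hy]
      exact h.map f

/-- Tensor version: if `F` is a field of "fractions" of a `κ`-algebra `A`, then irreducibility of
`Spec (L ⊗ A)` passes to `Spec (L ⊗ F)`. -/
theorem irr_tensor_of_fractions {κ A F L : Type*} [Field κ] [CommRing A] [Algebra κ A]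
    [Field F] [Algebra κ F] [Field L] [Algebra κ L] (j : A →ₐ[κ] F)
    (hj : Function.Injective j) (hfr : ∀ z : F, ∃ a s : A, j s ≠ 0 ∧ z * j s = j a)
    [IrreducibleSpace (PrimeSpectrum (L ⊗[κ] A))] :
    IrreducibleSpace (PrimeSpectrum (L ⊗[κ] F)) := by
  let f : L ⊗[κ] A →ₐ[L] L ⊗[κ] F := Algebra.TensorProduct.map (AlgHom.id L L) j
  have hf : Function.Injective f :=
    Module.Flat.lTensor_preserves_injective_linearMap (M := L) j.toLinearMap hj
  apply irr_of_fractions f.toRingHom hf
  have key : ∀ x' : L ⊗[κ] F, ∃ x : L ⊗[κ] A, ∃ s : A, j s ≠ 0 ∧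
      x' * ((1 : L) ⊗ₜ[κ] j s) = f x := by
    intro x'
    induction x' using TensorProduct.induction_on with
    | zero => exact ⟨0, 1, by simp, by simp⟩
    | tmul l z =>
      obtain ⟨a, s, hs, h⟩ := hfr z
      refine ⟨l ⊗ₜ a, s, hs, ?_⟩
      rw [Algebra.TensorProduct.tmul_mul_tmul, mul_one, h]
      simp [f]
    | add x' y' hx hy =>
      obtain ⟨x, s, hs, hx⟩ := hx
      obtain ⟨y, t, ht, hy⟩ := hy
      refine ⟨x * ((1 : L) ⊗ₜ[κ] t) + y * ((1 : L) ⊗ₜ[κ] s), s * t, ?_, ?_⟩
      · rw [map_mul]; exact mul_ne_zero hs ht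
      · have e1 : ((1 : L) ⊗ₜ[κ] j (s * t) : L ⊗[κ] F)
            = ((1 : L) ⊗ₜ[κ] j s) * ((1 : L) ⊗ₜ[κ] j t) := by
          rw [Algebra.TensorProduct.tmul_mul_tmul, mul_one, map_mul]
        have e2 : ∀ a : A, f ((1 : L) ⊗ₜ[κ] a) = (1 : L) ⊗ₜ[κ] j a := by
          intro a; simp [f]
        rw [e1, map_add, map_mul f, map_mul f, e2, e2, ← hx, ← hy]
        ring
  intro x'
  obtain ⟨x, s, hs, h⟩ := key x'
  refine ⟨x, (1 : L) ⊗ₜ[κ] j s, ?_, h⟩
  refine IsUnit.of_mul_eq_one ((1 : L) ⊗ₜ[κ] (j s)⁻¹) ?_
  rw [Algebra.TensorProduct.tmul_mul_tmul, mul_one, mul_inv_cancel₀ hs]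
  rfl


section main

variable {k K : Type u} [Field k] [Field K] [Algebra k K]
    (kt Kt : Type u) [Field kt] [Field Kt] [Algebra k[X] kt] [IsFractionRing k[X] kt]
    [Algebra K[X] Kt] [IsFractionRing K[X] Kt] [Algebra kt Kt]
    [Algebra k kt] [IsScalarTower k k[X] kt] [Algebra k Kt] [IsScalarTower k kt Kt]
    [Algebra K Kt] [IsScalarTower K K[X] Kt] [IsScalarTower k K Kt]

/-- The natural map `k(t) ⊗_k K → K(t)`. -/
noncomputable def jmap : kt ⊗[k] K →ₐ[kt] Kt :=
  Algebra.TensorProduct.productLeftAlgHom (Algebra.ofId kt Kt) (IsScalarTower.toAlgHom k K Kt)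

omit [IsFractionRing k[X] kt] [IsFractionRing K[X] Kt] [IsScalarTower k k[X] kt]
  [IsScalarTower K K[X] Kt] in
theorem jmap_tmul (c : kt) (a : K) :
    jmap kt Kt (c ⊗ₜ[k] a) = algebraMap kt Kt c * algebraMap K Kt a := by
  simp [jmap, Algebra.ofId_apply]

variable (hcompat : ∀ p : k[X], algebraMap kt Kt (algebraMap k[X] kt p)
    = algebraMap K[X] Kt (Polynomial.map (algebraMap k K) p))

include hcompat in
theorem jmap_injective : Function.Injective (jmap (k := k) (K := K) kt Kt) := by
  rw [injective_iff_map_eq_zero]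
  intro x hx
  classical
  let b := Module.Free.chooseBasis k K
  let B := Algebra.TensorProduct.basis kt b
  set c := B.repr x with hc
  have hxsum : x = ∑ i ∈ c.support, c i ⊗ₜ[k] b i := by
    conv_lhs => rw [← B.linearCombination_repr x]
    rw [Finsupp.linearCombination_apply, Finsupp.sum]
    refine Finset.sum_congr rfl fun i _ => ?_
    rw [← Algebra.TensorProduct.basis_repr_symm_apply' ]
  obtain ⟨q, hq⟩ := IsLocalization.exist_integer_multiples (nonZeroDivisors k[X]) c.support c
  choose! p hp using hq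
  have hq0 : algebraMap k[X] kt (q : k[X]) ≠ 0 := by
    intro h
    have := (IsFractionRing.injective k[X] kt) (h.trans (map_zero _).symm)
    exact nonZeroDivisors.coe_ne_zero q this
  -- the key polynomial identity
  have hpoly : ∑ i ∈ c.support, (p i).map (algebraMap k K) * C (b i) = 0 := by
    apply IsFractionRing.injective K[X] Kt
    rw [map_zero, map_sum]
    have h1 : algebraMap kt Kt (algebraMap k[X] kt (q : k[X])) * jmap kt Kt x = 0 := by
      rw [hx, mul_zero]
    rw [hxsum, map_sum, Finset.mul_sum] at h1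
    rw [← h1]
    refine Finset.sum_congr rfl fun i hi => ?_
    rw [jmap_tmul, map_mul, ← hcompat, hp i hi, Algebra.smul_def, map_mul, mul_assoc]
    congr 2
    rw [IsScalarTower.algebraMap_apply K K[X] Kt]
    rfl
  have hcoef : ∀ i ∈ c.support, p i = 0 := by
    intro i hi
    ext n
    have h2 := congrArg (fun P => P.coeff n) hpoly
    simp only [finsetSum_coeff, coeff_mul_C, coeff_map, coeff_zero] at h2
    have h3 : ∑ i ∈ c.support, ((p i).coeff n) • b i = 0 := by
      rw [← h2]
      refine Finset.sum_congr rfl fun i _ => ?_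
      rw [Algebra.smul_def]
    have := linearIndependent_iff'.mp b.linearIndependent c.support (fun i => (p i).coeff n) h3 i hi
    simpa using this
  have hc0 : c = 0 := by
    ext i
    by_cases hi : i ∈ c.support
    · have h4 := hp i hi
      rw [hcoef i hi, map_zero, Algebra.smul_def] at h4
      rcases mul_eq_zero.mp h4.symm with h | h
      · exact absurd h hq0
      · simpa using h
    · simpa using hi
  have : B.repr x = 0 := hc0
  simpa using this

include hcompat in
omit [IsFractionRing k[X] kt] [IsFractionRing K[X] Kt] in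
theorem algebraMap_mem_range_jmap (P : K[X]) :
    ∃ a : kt ⊗[k] K, jmap kt Kt a = algebraMap K[X] Kt P := by
  let x : kt ⊗[k] K := (algebraMap k[X] kt X) ⊗ₜ[k] (1 : K)
  let ι : K →+* kt ⊗[k] K := (Algebra.TensorProduct.includeRight : K →ₐ[k] kt ⊗[k] K).toRingHom
  refine ⟨Polynomial.eval₂ ι x P, ?_⟩
  have h := Polynomial.hom_eval₂ P ι (jmap kt Kt).toRingHom x
  have h' : jmap kt Kt (Polynomial.eval₂ ι x P)
      = Polynomial.eval₂ ((jmap kt Kt).toRingHom.comp ι) (jmap kt Kt x) P := h
  rw [h']
  have e1 : jmap kt Kt x = algebraMap K[X] Kt X := by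
    simp only [x, jmap_tmul, map_one, mul_one]
    rw [hcompat, Polynomial.map_X]
  have e2 : (jmap kt Kt).toRingHom.comp ι = (algebraMap K[X] Kt).comp C := by
    ext a
    simp only [ι, RingHom.comp_apply]
    change jmap kt Kt ((1 : kt) ⊗ₜ[k] a) = _
    rw [jmap_tmul, map_one, one_mul, IsScalarTower.algebraMap_apply K K[X] Kt]
    rfl
  rw [e1, e2, ← Polynomial.hom_eval₂, Polynomial.eval₂_C_X]

include hcompat in
omit [IsFractionRing k[X] kt] in
theorem jmap_fractions (z : Kt) :
    ∃ a s : kt ⊗[k] K, jmap kt Kt s ≠ 0 ∧ z * jmap kt Kt s = jmap kt Kt a := by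
  obtain ⟨P, Q, hQ, rfl⟩ := IsFractionRing.div_surjective (A := K[X]) z
  obtain ⟨a, ha⟩ := algebraMap_mem_range_jmap kt Kt hcompat P
  obtain ⟨s, hs⟩ := algebraMap_mem_range_jmap kt Kt hcompat Q
  have hQ0 : algebraMap K[X] Kt Q ≠ 0 := by
    intro h
    have := (IsFractionRing.injective K[X] Kt) (h.trans (map_zero _).symm)
    exact nonZeroDivisors.ne_zero hQ this
  refine ⟨a, s, by rw [hs]; exact hQ0, ?_⟩
  rw [hs, ha, div_mul_cancel₀ _ hQ0]

include hcompat in
/-- If `K/k` is geometrically irreducible then so is `K(t)/k(t)`. -/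
theorem geomIrr_ratFunc
    (h : ∀ (k' : Type u) [Field k'] [Algebra k k'], IrreducibleSpace (PrimeSpectrum (k' ⊗[k] K)))
    (L : Type u) [Field L] [Algebra kt L] : IrreducibleSpace (PrimeSpectrum (L ⊗[kt] Kt)) := by
  letI : Algebra k L := ((algebraMap kt L).comp (algebraMap k kt)).toAlgebra
  haveI : IsScalarTower k kt L := IsScalarTower.of_algebraMap_eq (fun _ => rfl)
  haveI := h L
  haveI : IrreducibleSpace (PrimeSpectrum (L ⊗[kt] (kt ⊗[k] K))) :=
    Groth.Agent.S9627.irr_of_equiv
      (Algebra.TensorProduct.cancelBaseChange k kt kt L K).toRingEquiv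
  exact irr_tensor_of_fractions (jmap kt Kt) (jmap_injective kt Kt hcompat)
    (jmap_fractions kt Kt hcompat)

include hcompat in
/-- If `k(t)` is separably closed in `K(t)` then `k` is separably closed in `K`. -/
theorem mem_range_of_sepClosed_ratFunc
    (h : ∀ β : Kt, IsSeparable kt β → β ∈ Set.range (algebraMap kt Kt))
    (α : K) (hα : IsSeparable k α) : α ∈ Set.range (algebraMap k K) := by
  have hsep : IsSeparable kt (algebraMap K Kt α) := by
    have h1 : IsSeparable k (IsScalarTower.toAlgHom k K Kt α) :=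
      hα.map (IsScalarTower.toAlgHom k K Kt) (algebraMap K Kt).injective
    exact IsSeparable.tower_top kt h1
  obtain ⟨r, hr⟩ := h _ hsep
  obtain ⟨p, q, hq, rfl⟩ := IsFractionRing.div_surjective (A := k[X]) r
  have hq0 : algebraMap k[X] kt q ≠ 0 := by
    intro h
    have := (IsFractionRing.injective k[X] kt) (h.trans (map_zero _).symm)
    exact nonZeroDivisors.ne_zero hq this
  have hq1 : q ≠ 0 := nonZeroDivisors.ne_zero hq
  have hpoly : p.map (algebraMap k K) = C α * q.map (algebraMap k K) := by
    apply IsFractionRing.injective K[X] Kt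
    rw [map_mul, ← hcompat, ← hcompat]
    have e : algebraMap K[X] Kt (C α) = algebraMap K Kt α := by
      rw [IsScalarTower.algebraMap_apply K K[X] Kt]
      rfl
    rw [e, ← hr, map_div₀, div_mul_cancel₀]
    exact fun h0 => hq0 ((algebraMap kt Kt).injective (h0.trans (map_zero _).symm))
  have hc := congrArg (fun P => P.coeff q.natDegree) hpoly
  simp only [coeff_map, coeff_C_mul, coeff_natDegree] at hc
  have hl : q.leadingCoeff ≠ 0 := leadingCoeff_ne_zero.mpr hq1
  refine ⟨p.coeff q.natDegree / q.leadingCoeff, ?_⟩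
  rw [map_div₀, hc, mul_div_assoc, div_self, mul_one]
  exact fun h0 => hl ((algebraMap k K).injective (h0.trans (map_zero _).symm))

end main

end Groth.Agent.Lib.Helper22.RatFuncIrr
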