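import Mathlib
import Groth.Agent.Lib.Helper5.StalkBCA
import Groth.Agent.Lib.Helper22.SmoothGeomRed

/-!
# Local rings of the fibre over a point whose local ring is a field (helper22)

If `O_{Y,y}` is a field (e.g. `y` the generic point of an integral scheme), the fibre
`X_y → X` is flat and surjective on stalks, so the local rings of `X_y` are those of `X`; formal
smoothness of `X_y → Spec κ(y)` at `x'` gives formal smoothness of `f` at the image of `x'`.
-/

set_option autoImplicit false
set_option linter.style.haveILetI false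
universe u
noncomputable section
namespace Groth.Agent.Lib.Helper22.GenFibre

open CategoryTheory CategoryTheory.Limits AlgebraicGeometry TopologicalSpace

variable {X Y : Scheme.{u}} (f : X ⟶ Y) (y : Y)

theorem isIso_residue_of_isField (hF : IsField (Y.presheaf.stalk y)) : IsIso (Y.residue y) := by
  rw [ConcreteCategory.isIso_iff_bijective]
  refine ⟨?_, Ideal.Quotient.mk_surjective⟩
  have h0 : IsLocalRing.maximalIdeal (Y.presheaf.stalk y) = ⊥ :=
    IsLocalRing.isField_iff_maximalIdeal_eq.mp hF
  rw [injective_iff_map_eq_zero]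
  intro a ha
  have : a ∈ IsLocalRing.maximalIdeal (Y.presheaf.stalk y) :=
    (IsLocalRing.residue_eq_zero_iff a).mp ha
  rwa [h0, Ideal.mem_bot] at this

theorem flat_fromSpecResidueField (hF : IsField (Y.presheaf.stalk y)) :
    Flat (Y.fromSpecResidueField y) := by
  haveI := isIso_residue_of_isField y hF
  haveI : Flat (Y.fromSpecStalk y) := Groth.Agent.Lib.Helper5.StalkBC.flat_fromSpecStalk Y y
  dsimp only [Scheme.fromSpecResidueField]
  infer_instance

/-- The local rings of the fibre over `y` are those of `X` when `O_{Y,y}` is a field. -/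
theorem stalkMap_fiberι_bijective (hF : IsField (Y.presheaf.stalk y)) (x' : f.fiber y) :
    Function.Bijective ((f.fiberι y).stalkMap x').hom := by
  haveI := flat_fromSpecResidueField y hF
  haveI : Flat (f.fiberι y) :=
    MorphismProperty.of_isPullback (P := @Flat)
      (IsPullback.of_hasPullback f (Y.fromSpecResidueField y)).flip ‹_›
  exact Groth.Agent.Lib.Helper5.StalkBC.stalkMap_bijective (f.fiberι y) x'

/-- **(C)** Formal smoothness of the fibre at `x'` over `κ(y)` gives formal smoothness of `f` at
the image of `x'`, when `O_{Y,y}` is a field. -/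
theorem formallySmooth_stalkMap_of_fiber (hF : IsField (Y.presheaf.stalk y)) (x' : f.fiber y)
    (h : ((f.fiberToSpecResidueField y).stalkMap x').hom.FormallySmooth) :
    (f.stalkMap (f.fiberι y x')).hom.FormallySmooth := by
  set ι := f.fiberι y with hι
  set p := f.fiberToSpecResidueField y with hp
  set r := Y.fromSpecResidueField y with hr
  have fac : ι ≫ f = p ≫ r := f.fiber_fac y
  haveI := flat_fromSpecResidueField y hF
  haveI : IsIso (ι.stalkMap x') :=
    (ConcreteCategory.isIso_iff_bijective _).mpr (stalkMap_fiberι_bijective f y hF x')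
  haveI : IsIso (r.stalkMap (p x')) :=
    (ConcreteCategory.isIso_iff_bijective _).mpr
      (Groth.Agent.Lib.Helper5.StalkBC.stalkMap_bijective r (p x'))
  have h1 : (ι ≫ f).stalkMap x' = f.stalkMap (ι x') ≫ ι.stalkMap x' :=
    Scheme.Hom.stalkMap_comp ι f x'
  have h2 : (p ≫ r).stalkMap x' = r.stalkMap (p x') ≫ p.stalkMap x' :=
    Scheme.Hom.stalkMap_comp p r x'
  have h3 := Scheme.Hom.stalkMap_congr_hom (ι ≫ f) (p ≫ r) fac x'
  rw [h1, h2] at h3
  have h5 : (r.stalkMap (p x') ≫ p.stalkMap x').hom.FormallySmooth :=
    (RingHom.FormallySmooth.respectsIso.cancel_left_isIso (r.stalkMap (p x'))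
      (p.stalkMap x')).mpr h
  have h4 : (f.stalkMap (ι x') ≫ ι.stalkMap x').hom.FormallySmooth := by
    rw [h3]
    exact (RingHom.FormallySmooth.respectsIso.cancel_left_isIso _ _).mpr h5
  exact (RingHom.FormallySmooth.respectsIso.cancel_right_isIso _ (ι.stalkMap x')).mp h4

end Groth.Agent.Lib.Helper22.GenFibre
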