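import Mathlib
import Groth.Prelude.Def_CurvBase
import Groth.Agent.Lib.Helper17.SmoothNormal
import Groth.Agent.Lib.Helper22.GenFibre

set_option autoImplicit false
universe u
open CategoryTheory CategoryTheory.Limits AlgebraicGeometry

namespace Groth.Agent.Lib.Helper22.SmoothRat

/-- local rings at smooth points over a field are integrally closed domains -/
theorem isIntegrallyClosed_stalk_of_mem_smoothLocus (k : Type u) [Field k] {X : Scheme.{u}}
    (f : X ⟶ Spec (CommRingCat.of k)) [LocallyOfFinitePresentation f] (x : X)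
    (hsm : x ∈ f.smoothLocus) :
    IsDomain (X.presheaf.stalk x) ∧ IsIntegrallyClosed (X.presheaf.stalk x) := by
  obtain ⟨U, hU, V, hV, hVU, hxV, hs⟩ := exists_smooth_of_formallySmooth_stalk f x hsm
  have hUtop : U = ⊤ := by
    rw [eq_top_iff]
    intro y _
    have : y = f x := Subsingleton.elim (α := PrimeSpectrum k) _ _
    rw [this]; exact hVU hxV
  subst hUtop
  let e : Γ(Spec (CommRingCat.of k), ⊤) ≃+* k :=
    (Scheme.ΓSpecIso (CommRingCat.of k)).commRingCatIsoToRingEquiv
  haveI : IsDomain Γ(Spec (CommRingCat.of k), ⊤) := e.toMulEquiv.isDomain _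
  haveI : IsIntegrallyClosed Γ(Spec (CommRingCat.of k), ⊤) :=
    IsIntegrallyClosed.of_equiv e.symm
  algebraize [(f.appLE ⊤ V hVU).hom]
  haveI : Algebra.Smooth Γ(Spec (CommRingCat.of k), ⊤) Γ(X, V) := hs
  obtain ⟨h1, h2⟩ := Groth.Agent.Lib.Helper17.SmoothNormal.isDomain_and_isIntegrallyClosed_atPrime_of_smooth
    Γ(Spec (CommRingCat.of k), ⊤) (B := Γ(X, V)) (hV.primeIdealOf ⟨x, hxV⟩).asIdeal
  letI := TopCat.Presheaf.algebra_section_stalk X.presheaf (U := V) ⟨x, hxV⟩
  haveI := hV.isLocalization_stalk ⟨x, hxV⟩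
  let e' : Localization.AtPrime (hV.primeIdealOf ⟨x, hxV⟩).asIdeal ≃ₐ[Γ(X, V)] X.presheaf.stalk x :=
    IsLocalization.algEquiv (hV.primeIdealOf ⟨x, hxV⟩).asIdeal.primeCompl _ _
  exact ⟨e'.symm.toMulEquiv.isDomain _, IsIntegrallyClosed.of_equiv e'.toRingEquiv⟩

end Groth.Agent.Lib.Helper22.SmoothRat

namespace Groth.Agent.Lib.Helper22.SmoothRat

attribute [local instance] Curv2.resAlgebra Curv2.stalkAlgebra

variable (k : Type u) [Field k] (X : Scheme.{u}) [X.Over (Spec (CommRingCat.of k))]

theorem algebraMap_comp_stalkMap [IsIntegral X] (x : X) :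
    (algebraMap (X.presheaf.stalk x) X.functionField).comp (Curv2.stalkMap k X x) =
      Curv2.stalkMap k X (genericPoint X) := by
  unfold Curv2.stalkMap
  ext c
  simp only [RingHom.comp_apply]
  rw [RingHom.algebraMap_toAlgebra]
  exact congrArg (fun φ => φ.hom (Coh.toGlobal (X ↘ Spec (CommRingCat.of k)) c))
    (X.presheaf.germ_stalkSpecializes (U := ⊤) (x := genericPoint X) (y := x) trivial
      ((genericPoint_spec X).specializes trivial))

/-- an element of a local domain `O` over a field `k` with residue field `k` which is integral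
over `k` comes from `k`. -/
theorem mem_range_of_isIntegral_of_residue {O : Type*} [CommRing O] [IsDomain O] [IsLocalRing O]
    [Algebra k O] (hres : Function.Surjective
      ((IsLocalRing.residue O).comp (algebraMap k O))) (b : O) (hb : IsIntegral k b) :
    b ∈ Set.range (algebraMap k O) := by
  obtain ⟨c, hc⟩ := hres (IsLocalRing.residue O b)
  refine ⟨c, ?_⟩
  by_contra hne
  set d : O := b - algebraMap k O c with hd
  have hd0 : d ≠ 0 := fun h => hne (sub_eq_zero.mp h).symm
  have hdm : d ∈ IsLocalRing.maximalIdeal O := by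
    rw [← IsLocalRing.residue_eq_zero_iff, hd, map_sub, sub_eq_zero]
    exact hc.symm
  have hdi : IsIntegral k d := hb.sub isIntegral_algebraMap
  have h0 := minpoly.coeff_zero_ne_zero hdi hd0
  have h1 := minpoly.aeval k d
  rw [← Polynomial.divX_mul_X_add (minpoly k d), map_add, map_mul, Polynomial.aeval_X,
    Polynomial.aeval_C] at h1
  have h2 : algebraMap k O ((minpoly k d).coeff 0) ∈ IsLocalRing.maximalIdeal O := by
    have : algebraMap k O ((minpoly k d).coeff 0) =
        -(Polynomial.aeval d (minpoly k d).divX) * d := by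
      rw [neg_mul, eq_neg_iff_add_eq_zero, add_comm]; exact h1
    rw [this]
    exact Ideal.mul_mem_left _ _ hdm
  have h3 : IsUnit (algebraMap k O ((minpoly k d).coeff 0)) :=
    (IsUnit.mk0 _ h0).map _
  exact (IsLocalRing.mem_maximalIdeal _).mp h2 h3

theorem mem_range_of_isIntegral [IsIntegral X] (x : X)
    (hx : Function.Surjective (Curv2.resMap k X x))
    (hic : IsIntegrallyClosed (X.presheaf.stalk x))
    (a : X.residueField (genericPoint X)) (ha : IsIntegral k a) :
    a ∈ Set.range (algebraMap k (X.residueField (genericPoint X))) := by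
  obtain ⟨b, rfl⟩ := X.residue_surjective (genericPoint X) a
  have hinj : Function.Injective (X.residue (genericPoint X)).hom :=
    RingHom.injective (R := X.functionField) _
  -- b is integral over O
  have hb : IsIntegral (X.presheaf.stalk x) (b : X.functionField) := by
    obtain ⟨p, hp, hpa⟩ := ha
    refine ⟨p.map (Curv2.stalkMap k X x), hp.map _, ?_⟩
    rw [Polynomial.eval₂_map, algebraMap_comp_stalkMap]
    apply hinj
    rw [map_zero, ← hpa, Polynomial.hom_eval₂]
    rfl
  obtain ⟨b', hb'⟩ := (isIntegrallyClosed_iff X.functionField).mp hic hb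
  haveI : IsScalarTower k (X.presheaf.stalk x) X.functionField :=
    IsScalarTower.of_algebraMap_eq' (algebraMap_comp_stalkMap k X x).symm
  have hb'i : IsIntegral k b' := by
    rw [← isIntegral_algebraMap_iff
      (IsFractionRing.injective (X.presheaf.stalk x) X.functionField), hb']
    obtain ⟨p, hp, hpa⟩ := ha
    refine ⟨p, hp, ?_⟩
    apply hinj
    rw [map_zero, ← hpa, Polynomial.hom_eval₂]
    rfl
  obtain ⟨c, hc⟩ := mem_range_of_isIntegral_of_residue k hx b' hb'i
  refine ⟨c, ?_⟩
  rw [← hb', ← hc]
  change (X.residue (genericPoint X)).hom (Curv2.stalkMap k X (genericPoint X) c) = _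
  rw [← algebraMap_comp_stalkMap k X x]
  rfl

end Groth.Agent.Lib.Helper22.SmoothRat
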