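import Mathlib

/-!
# Irreducible components through a point are the minimal primes of the local ring
-/

set_option autoImplicit false
set_option linter.style.haveILetI false
set_option linter.unusedSectionVars false

namespace Groth.Agent.Lib.Helper22.BrCountTop

open AlgebraicGeometry CategoryTheory

universe u

variable (U : Scheme.{u}) (u : U)

/-- the point of `U` attached to a prime of the local ring at `u` -/
noncomputable def pt (𝔭 : PrimeSpectrum (U.presheaf.stalk u)) : U := U.fromSpecStalk u 𝔭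

theorem pt_specializes (𝔭 : PrimeSpectrum (U.presheaf.stalk u)) : pt U u 𝔭 ⤳ u := by
  have : pt U u 𝔭 ∈ Set.range (U.fromSpecStalk u) := ⟨_, rfl⟩
  rw [Scheme.range_fromSpecStalk] at this
  exact this

theorem exists_pt_eq (ξ : U) (h : ξ ⤳ u) : ∃ 𝔭, pt U u 𝔭 = ξ := by
  have : ξ ∈ Set.range (U.fromSpecStalk u) := by
    rw [Scheme.range_fromSpecStalk]
    exact h
  exact this

theorem pt_specializes_iff (𝔭 𝔮 : PrimeSpectrum (U.presheaf.stalk u)) :
    pt U u 𝔭 ⤳ pt U u 𝔮 ↔ 𝔭 ≤ 𝔮 := by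
  rw [PrimeSpectrum.le_iff_specializes]
  exact (U.fromSpecStalk u).isEmbedding.isInducing.specializes_iff

theorem pt_injective : Function.Injective (pt U u) :=
  (U.fromSpecStalk u).isEmbedding.injective

/-- components through `u` are closures of points attached to minimal primes -/
theorem mem_components_iff (Z : Set U) :
    (Z ∈ irreducibleComponents U ∧ u ∈ Z) ↔
      ∃ 𝔭 : PrimeSpectrum (U.presheaf.stalk u), 𝔭.asIdeal ∈ minimalPrimes (U.presheaf.stalk u) ∧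
        Z = closure {pt U u 𝔭} := by
  constructor
  · rintro ⟨hZ, huZ⟩
    have hZcl : IsClosed Z := isClosed_of_mem_irreducibleComponents Z hZ
    have hZirr : IsIrreducible Z := hZ.1
    have hgp := hZirr.isGenericPoint_genericPoint hZcl
    have h1 : hZirr.genericPoint ⤳ u := by
      rw [specializes_iff_mem_closure, hgp.def]
      exact huZ
    obtain ⟨𝔭, h𝔭⟩ := exists_pt_eq U u _ h1
    refine ⟨𝔭, ?_, ?_⟩
    · refine ⟨⟨𝔭.2, bot_le⟩, ?_⟩
      intro 𝔮 ⟨h𝔮, _⟩ hle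
      let 𝔮' : PrimeSpectrum (U.presheaf.stalk u) := ⟨𝔮, h𝔮⟩
      have h2 : pt U u 𝔮' ⤳ pt U u 𝔭 := (pt_specializes_iff U u 𝔮' 𝔭).mpr hle
      have h3 : Z ⊆ closure {pt U u 𝔮'} := by
        rw [← hgp.def, ← h𝔭]
        exact closure_minimal (Set.singleton_subset_iff.mpr (specializes_iff_mem_closure.mp h2))
          isClosed_closure
      have h4 : closure {pt U u 𝔮'} ⊆ Z := hZ.2 isIrreducible_singleton.closure h3
      have h5 : pt U u 𝔮' ∈ Z := h4 (subset_closure (Set.mem_singleton _))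
      have h6 : pt U u 𝔭 ⤳ pt U u 𝔮' := by
        rw [specializes_iff_mem_closure, h𝔭, hgp.def]
        exact h5
      exact (pt_specializes_iff U u 𝔭 𝔮').mp h6
    · rw [h𝔭, hgp.def]
  · rintro ⟨𝔭, h𝔭, rfl⟩
    refine ⟨?_, specializes_iff_mem_closure.mp (pt_specializes U u 𝔭)⟩
    refine ⟨isIrreducible_singleton.closure, ?_⟩
    intro Z' hZ' hle
    have hcl : IsIrreducible (closure Z') := hZ'.closure
    have hgp := hcl.isGenericPoint_genericPoint isClosed_closure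
    have h1 : hcl.genericPoint ⤳ pt U u 𝔭 := by
      rw [specializes_iff_mem_closure, hgp.def]
      exact subset_closure (hle (subset_closure (Set.mem_singleton _)))
    obtain ⟨𝔮, h𝔮⟩ := exists_pt_eq U u _ (h1.trans (pt_specializes U u 𝔭))
    rw [← h𝔮] at h1
    have h2 : 𝔮 ≤ 𝔭 := (pt_specializes_iff U u 𝔮 𝔭).mp h1
    have h3 : 𝔭.asIdeal ≤ 𝔮.asIdeal := h𝔭.2 ⟨𝔮.2, bot_le⟩ h2
    have h4 : 𝔮 = 𝔭 := le_antisymm h2 h3
    calc Z' ⊆ closure Z' := subset_closure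
      _ = closure {hcl.genericPoint} := hgp.def.symm
      _ = closure {pt U u 𝔭} := by rw [← h𝔮, h4]

theorem encard_components_eq :
    {Z : Set U | Z ∈ irreducibleComponents U ∧ u ∈ Z}.encard =
      (minimalPrimes (U.presheaf.stalk u)).encard := by
  classical
  let f : Ideal (U.presheaf.stalk u) → Set U := fun 𝔭 =>
    if h : 𝔭.IsPrime then closure {pt U u ⟨𝔭, h⟩} else ∅
  have hf : ∀ 𝔭 : PrimeSpectrum (U.presheaf.stalk u), f 𝔭.asIdeal = closure {pt U u 𝔭} := by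
    intro 𝔭
    simp only [f, dif_pos 𝔭.2]
  symm
  suffices h : Set.BijOn f (minimalPrimes (U.presheaf.stalk u))
      {Z : Set U | Z ∈ irreducibleComponents U ∧ u ∈ Z} from Set.encard_congr h.equiv
  refine ⟨?_, ?_, ?_⟩
  · intro 𝔭 h𝔭
    exact (mem_components_iff U u _).mpr ⟨⟨𝔭, h𝔭.1.1⟩, h𝔭, hf ⟨𝔭, h𝔭.1.1⟩⟩
  · intro 𝔭 h𝔭 𝔮 h𝔮 heq
    have h1 := hf ⟨𝔭, h𝔭.1.1⟩
    have h2 := hf ⟨𝔮, h𝔮.1.1⟩
    simp only at h1 h2
    rw [h1, h2] at heq
    have h3 : pt U u ⟨𝔭, h𝔭.1.1⟩ = pt U u ⟨𝔮, h𝔮.1.1⟩ := by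
      have g1 : IsGenericPoint (pt U u ⟨𝔭, h𝔭.1.1⟩) (closure {pt U u ⟨𝔭, h𝔭.1.1⟩}) := rfl
      have g2 : IsGenericPoint (pt U u ⟨𝔮, h𝔮.1.1⟩) (closure {pt U u ⟨𝔭, h𝔭.1.1⟩}) := heq.symm
      exact g1.eq g2
    exact congrArg PrimeSpectrum.asIdeal (pt_injective U u h3)
  · intro Z hZ
    obtain ⟨𝔭, h𝔭, rfl⟩ := (mem_components_iff U u Z).mp hZ
    exact ⟨𝔭.asIdeal, h𝔭, hf 𝔭⟩

end Groth.Agent.Lib.Helper22.BrCountTop
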