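import Mathlib
import Groth.Prelude.Def_EGA4b
import Groth.Agent.Lib.Helper22.NormalColim

/-!
# Products of normal rings are normal (helper22)
-/

set_option autoImplicit false
set_option linter.style.haveILetI false
universe u

namespace Groth.Agent.Lib.Helper22.NormProd

open Polynomial Groth.Agent.Lib.Helper22.NormalColim

theorem isNormalRing_pi {ι : Type u} (R : ι → Type u) [∀ i, CommRing (R i)]
    (h : ∀ i, EGA4.IsNormalRing (R i)) : EGA4.IsNormalRing (∀ i, R i) := by
  rw [isNormalRing_iff]
  constructor
  · intro a b hab
    have h1 : ∀ i, ∃ u v : R i, u * a i = 0 ∧ v * b i = 0 ∧ u + v = 1 := fun i =>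
      N1_of_isNormalRing (h i) (a i) (b i) (congrFun hab i)
    choose u v hu hv huv using h1
    exact ⟨u, v, funext hu, funext hv, funext huv⟩
  · intro a b q hq hrel
    have h1 : ∀ i, ∃ r : R i, a i = b i * r := by
      intro i
      by_cases hnt : Nontrivial (R i)
      · refine N2_of_isNormalRing (h i) (a i) (b i) (q.map (Pi.evalRingHom R i)) (hq.map _) ?_
        have hlc : (Pi.evalRingHom R i) q.leadingCoeff ≠ 0 := by
          rw [hq.leadingCoeff, map_one]
          exact one_ne_zero
        have h4 : (q.map (Pi.evalRingHom R i)).scaleRoots (b i) =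
            (q.scaleRoots b).map (Pi.evalRingHom R i) :=
          (Polynomial.map_scaleRoots q b (Pi.evalRingHom R i) hlc).symm
        rw [h4]
        have h2 : ((q.scaleRoots b).map (Pi.evalRingHom R i)).eval (Pi.evalRingHom R i a) =
            Pi.evalRingHom R i ((q.scaleRoots b).eval a) := by
          rw [Polynomial.eval_map, Polynomial.eval₂_at_apply]
        have h3 : Pi.evalRingHom R i a = a i := rfl
        rw [h3] at h2
        rw [h2, hrel, map_zero]
      · rw [not_nontrivial_iff_subsingleton] at hnt
        exact ⟨0, Subsingleton.elim _ _⟩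
    choose r hr using h1
    exact ⟨r, funext hr⟩

end Groth.Agent.Lib.Helper22.NormProd
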