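import Mathlib
import Groth.Prelude.Def_EGA4b
import Groth.Prelude.Def_Pi1
import Groth.Agent.Lib.Helper22.BrCountTop
import Groth.Agent.Lib.Helper22.NormProd

/-!
# Sections of normal schemes with locally finitely many components (helper22)

* `isIntegrallyClosed_sections`: sections of an integral scheme with integrally closed local rings
  over a nonempty open form an integrally closed domain.
* `isOpen_component`: if all local rings are domains and the irreducible components are locally
  finite, each irreducible component is open (and they are pairwise disjoint: `component_unique`).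
* `bijective_of_disjoint_cover`: sections over a disjoint union are the product of the sections.
* `isNormalRing_sections`: on a normal scheme with locally finitely many irreducible components,
  the ring of sections over any open is a normal ring.
* `qn_stalk_of_isNormalRing_sections`: converse on affine opens.
-/

set_option autoImplicit false
set_option linter.style.haveILetI false
set_option linter.unusedSectionVars false
universe u

namespace Groth.Agent.Lib.Helper22.NormalSections

open AlgebraicGeometry CategoryTheory TopologicalSpace Opposite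

/-- an integrally closed domain is a normal ring -/
theorem isNormalRing_of_isIntegrallyClosed (R : Type u) [CommRing R] [IsDomain R]
    [IsIntegrallyClosed R] : EGA4.IsNormalRing R := by
  intro p hp
  exact ⟨inferInstance, isIntegrallyClosed_of_isLocalization (Localization.AtPrime p)
    p.primeCompl p.primeCompl_le_nonZeroDivisors⟩

/-- the zero ring is normal -/
theorem isNormalRing_of_subsingleton (R : Type u) [CommRing R] [Subsingleton R] :
    EGA4.IsNormalRing R := by
  intro p hp
  exact absurd (Subsingleton.elim _ _) hp.ne_top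

/-- normality of a ring is invariant under ring isomorphisms. -/
theorem isNormalRing_of_ringEquiv {R S : Type u} [CommRing R] [CommRing S] (e : R ≃+* S)
    (h : EGA4.IsNormalRing R) : EGA4.IsNormalRing S := by
  intro K hK
  haveI : (K.comap (e : R →+* S)).IsPrime := Ideal.comap_isPrime _ _
  obtain ⟨h1, h2⟩ := h (K.comap (e : R →+* S))
  let e' : Localization.AtPrime (K.comap (e : R →+* S)) ≃+* Localization.AtPrime K :=
    Localization.localRingEquiv (K.comap (e : R →+* S)) K e rfl
  exact ⟨e'.toMulEquiv.isDomain_iff.1 h1, IsIntegrallyClosed.of_equiv e'⟩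

/-- sections of an integral scheme with integrally closed local rings form an integrally closed
domain -/
theorem isIntegrallyClosed_sections {X : Scheme.{u}} [IsIntegral X]
    (hX : ∀ x : X, IsIntegrallyClosed (X.presheaf.stalk x)) (U : X.Opens) [Nonempty U] :
    IsIntegrallyClosed Γ(X, U) := by
  haveI : IsIntegrallyClosedIn Γ(X, U) X.functionField := by
    rw [isIntegrallyClosedIn_iff]
    refine ⟨X.germToFunctionField_injective U, ?_⟩
    intro t ht
    -- local solutions
    have hloc : ∀ x : U, ∃ (V : X.Opens) (hV : V ≤ U) (hx : x.1 ∈ V) (s : Γ(X, V)),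
        ∀ h : genericPoint X ∈ V, X.presheaf.germ V (genericPoint X) h s = t := by
      intro x
      haveI := hX x.1
      have htx : IsIntegral (X.presheaf.stalk x.1) t := ht.tower_top
      obtain ⟨r, hr⟩ := IsIntegrallyClosed.algebraMap_eq_of_integral htx
      obtain ⟨V', hxV', s', hs'⟩ := X.presheaf.exists_germ_eq r
      refine ⟨V' ⊓ U, inf_le_right, ⟨hxV', x.2⟩, X.presheaf.map (homOfLE inf_le_left).op s', ?_⟩
      intro h
      rw [← hr, ← hs']
      haveI : Nonempty ((V' ⊓ U : X.Opens).toScheme) := ⟨⟨x.1, hxV', x.2⟩⟩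
      haveI : Nonempty (Scheme.Opens.toScheme (X := X) V') := ⟨⟨x.1, hxV'⟩⟩
      rw [Scheme.algebraMap_germ_eq_germToFunctionField]
      exact TopCat.Presheaf.germ_res_apply X.presheaf (homOfLE inf_le_left) _ _ s'
    choose V hVU hxV s hs using hloc
    have hcompat : TopCat.Presheaf.IsCompatible X.presheaf V s := by
      intro x y
      by_cases hne : Nonempty ((V x ⊓ V y : X.Opens).toScheme)
      · apply X.germToFunctionField_injective (V x ⊓ V y)
        show X.presheaf.germ _ _ _ _ = X.presheaf.germ _ _ _ _
        erw [TopCat.Presheaf.germ_res_apply X.presheaf (Opens.infLELeft (V x) (V y)) _ _ (s x),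
          TopCat.Presheaf.germ_res_apply X.presheaf (Opens.infLERight (V x) (V y)) _ _ (s y)]
        rw [hs x _, hs y _]
      · have hbot : V x ⊓ V y = ⊥ := by
          rw [not_nonempty_iff] at hne
          ext z
          simp only [Opens.coe_bot, Set.mem_empty_iff_false, iff_false]
          exact fun hz => hne.false ⟨z, hz⟩
        have : Subsingleton Γ(X, V x ⊓ V y) := by rw [hbot]; infer_instance
        exact Subsingleton.elim _ _
    obtain ⟨g, hg, -⟩ := X.sheaf.existsUnique_gluing' V U (fun x => homOfLE (hVU x))
      (fun z hz => Opens.mem_iSup.mpr ⟨⟨z, hz⟩, hxV ⟨z, hz⟩⟩) s hcompat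
    refine ⟨g, ?_⟩
    obtain ⟨x⟩ := ‹Nonempty U›
    show X.presheaf.germ U _ _ g = t
    rw [← hs x (((genericPoint_spec X).mem_open_set_iff (V x).isOpen).mpr
      ⟨x.1, Set.mem_univ _, hxV x⟩), ← hg x]
    exact (TopCat.Presheaf.germ_res_apply X.presheaf (homOfLE (hVU x)) _ _ g).symm
  haveI : FaithfulSMul Γ(X, U) X.functionField :=
    (faithfulSMul_iff_algebraMap_injective _ _).mpr (X.germToFunctionField_injective U)
  exact IsIntegrallyClosed.of_isIntegrallyClosed_of_isIntegrallyClosedIn Γ(X, U) X.functionField

/-- sections of a normal scheme over an irreducible open subset form an integrally closed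
domain -/
theorem isIntegrallyClosed_sections_of_isIrreducible {X : Scheme.{u}}
    (hX : Pi1.IsNormalScheme X) (U : X.Opens) (hU : IsIrreducible (U : Set X)) :
    IsDomain Γ(X, U) ∧ IsIntegrallyClosed Γ(X, U) := by
  haveI : ∀ x : X, _root_.IsReduced (X.presheaf.stalk x) := fun x => by
    haveI := (hX x).1
    infer_instance
  haveI : IsReduced X := isReduced_of_isReduced_stalk X
  haveI : IrreducibleSpace U.toScheme := Subtype.irreducibleSpace hU
  haveI : IsIntegral U.toScheme := isIntegral_of_irreducibleSpace_of_isReduced _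
  have hst : ∀ x : U.toScheme, IsIntegrallyClosed (U.toScheme.presheaf.stalk x) := by
    intro x
    haveI := (hX (U.ι x)).2
    exact IsIntegrallyClosed.of_equiv (asIso (U.ι.stalkMap x)).commRingCatIsoToRingEquiv
  haveI : Nonempty ((⊤ : U.toScheme.Opens) : Set U.toScheme) := by
    obtain ⟨x, hx⟩ := hU.1
    exact ⟨⟨⟨x, hx⟩, trivial⟩⟩
  haveI : Nonempty (⊤ : U.toScheme.Opens) := by
    obtain ⟨x, hx⟩ := hU.1
    exact ⟨⟨⟨x, hx⟩, trivial⟩⟩
  have h1 := isIntegrallyClosed_sections hst ⊤
  let e : Γ(U.toScheme, ⊤) ≃+* Γ(X, U) := U.topIso.commRingCatIsoToRingEquiv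
  exact ⟨e.toMulEquiv.isDomain_iff.1 inferInstance, IsIntegrallyClosed.of_equiv e⟩

section LocIrr

variable {X : Scheme.{u}}

/-- with domain local rings, there is only one irreducible component through each point -/
theorem component_unique (x : X) [IsDomain (X.presheaf.stalk x)] {Z Z' : Set X}
    (hZ : Z ∈ irreducibleComponents X) (hZ' : Z' ∈ irreducibleComponents X) (hx : x ∈ Z)
    (hx' : x ∈ Z') : Z = Z' := by
  obtain ⟨𝔭, h𝔭, rfl⟩ := (BrCountTop.mem_components_iff X x Z).mp ⟨hZ, hx⟩
  obtain ⟨𝔮, h𝔮, rfl⟩ := (BrCountTop.mem_components_iff X x Z').mp ⟨hZ', hx'⟩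
  rw [IsDomain.minimalPrimes_eq_singleton_bot, Set.mem_singleton_iff] at h𝔭 h𝔮
  have : 𝔭 = 𝔮 := PrimeSpectrum.ext (h𝔭.trans h𝔮.symm)
  rw [this]

variable (hdom : ∀ x : X, IsDomain (X.presheaf.stalk x))
  (hfin : LocallyFinite (fun Z : ↥(irreducibleComponents ↥X) => (Z : Set ↥X)))

include hdom hfin in
/-- with domain local rings and locally finitely many components, each component is open -/
theorem isOpen_component (Z : Set X) (hZ : Z ∈ irreducibleComponents X) : IsOpen Z := by
  classical
  let g : ↥(irreducibleComponents ↥X) → Set X := fun Z' => if (Z' : Set X) = Z then ∅ else Z'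
  have hg : LocallyFinite g := hfin.subset (fun Z' => by
    dsimp only [g]; split_ifs
    · exact Set.empty_subset _
    · exact subset_rfl)
  have hcl : IsClosed (⋃ i, g i) := hg.isClosed_iUnion (fun Z' => by
    dsimp only [g]; split_ifs
    · exact isClosed_empty
    · exact isClosed_of_mem_irreducibleComponents _ Z'.2)
  have heq : Z = (⋃ i, g i)ᶜ := by
    ext x
    simp only [Set.mem_compl_iff, Set.mem_iUnion, not_exists]
    constructor
    · intro hx Z' hx'
      dsimp only [g] at hx'
      split_ifs at hx' with h
      · exact hx'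
      · haveI := hdom x
        exact h (component_unique x Z'.2 hZ hx' hx)
    · intro h
      have h1 := h ⟨_, irreducibleComponent_mem_irreducibleComponents x⟩
      dsimp only [g] at h1
      split_ifs at h1 with h2
      · rw [← h2]; exact mem_irreducibleComponent
      · exact absurd mem_irreducibleComponent h1
  rw [heq]
  exact hcl.isOpen_compl

end LocIrr

/-- sections over a disjoint union are the product of the sections -/
theorem bijective_of_disjoint_cover {X : Scheme.{u}} {ι : Type*} (V : ι → X.Opens) (W : X.Opens)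
    (hle : ∀ i, V i ≤ W) (hcov : W ≤ iSup V) (hdisj : ∀ i j, i ≠ j → V i ⊓ V j = ⊥) :
    Function.Bijective
      (RingHom.pi (fun i => (X.presheaf.map (homOfLE (hle i)).op).hom) :
        Γ(X, W) →+* ∀ i, Γ(X, V i)) := by
  rw [Function.bijective_iff_existsUnique]
  intro s
  have hcompat : TopCat.Presheaf.IsCompatible X.presheaf V s := by
    intro i j
    by_cases hij : i = j
    · subst hij
      rw [Subsingleton.elim (Opens.infLELeft (V i) (V i)) (Opens.infLERight (V i) (V i))]
    · have : Subsingleton Γ(X, V i ⊓ V j) := by rw [hdisj i j hij]; infer_instance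
      exact Subsingleton.elim _ _
  obtain ⟨g, hg, hguniq⟩ := X.sheaf.existsUnique_gluing' V W (fun i => homOfLE (hle i)) hcov s
    hcompat
  refine ⟨g, funext hg, ?_⟩
  intro g' hg'
  exact hguniq g' (fun i => congrFun hg' i)

/-- On a normal scheme with locally finitely many irreducible components, the ring of sections
over any open subset is a normal ring. -/
theorem isNormalRing_sections {X : Scheme.{u}} (hX : Pi1.IsNormalScheme X)
    (hfin : LocallyFinite (fun Z : ↥(irreducibleComponents ↥X) => (Z : Set ↥X)))
    (W : X.Opens) : EGA4.IsNormalRing Γ(X, W) := by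
  have hdom : ∀ x : X, IsDomain (X.presheaf.stalk x) := fun x => (hX x).1
  let C : ↥(irreducibleComponents ↥X) → X.Opens := fun Z =>
    ⟨Z, isOpen_component hdom hfin Z Z.2⟩
  let V : ↥(irreducibleComponents ↥X) → X.Opens := fun Z => W ⊓ C Z
  have hle : ∀ Z, V Z ≤ W := fun Z => inf_le_left
  have hcov : W ≤ iSup V := by
    intro x hx
    exact Opens.mem_iSup.mpr ⟨⟨_, irreducibleComponent_mem_irreducibleComponents x⟩, hx,
      mem_irreducibleComponent⟩
  have hdisj : ∀ Z Z', Z ≠ Z' → V Z ⊓ V Z' = ⊥ := by
    intro Z Z' hne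
    ext x
    simp only [Opens.coe_bot, Set.mem_empty_iff_false, iff_false]
    rintro ⟨⟨-, hx⟩, ⟨-, hx'⟩⟩
    haveI := hdom x
    exact hne (Subtype.ext (component_unique x Z.2 Z'.2 hx hx'))
  let e : Γ(X, W) ≃+* ∀ Z, Γ(X, V Z) :=
    RingEquiv.ofBijective _ (bijective_of_disjoint_cover V W hle hcov hdisj)
  refine isNormalRing_of_ringEquiv e.symm (NormProd.isNormalRing_pi _ ?_)
  intro Z
  by_cases hne : (V Z : Set X).Nonempty
  · have hirr : IsIrreducible (V Z : Set X) :=
      ⟨hne, Z.2.1.2.open_subset (V Z).isOpen (fun x hx => hx.2)⟩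
    obtain ⟨h1, h2⟩ := isIntegrallyClosed_sections_of_isIrreducible hX (V Z) hirr
    exact isNormalRing_of_isIntegrallyClosed _
  · have hbot : V Z = ⊥ := by
      ext x
      simp only [Opens.coe_bot, Set.mem_empty_iff_false, iff_false]
      exact fun hx => hne ⟨x, hx⟩
    haveI : Subsingleton Γ(X, V Z) := by rw [hbot]; infer_instance
    exact isNormalRing_of_subsingleton _

/-- finitely many components version -/
theorem isNormalRing_sections_of_finite {X : Scheme.{u}} (hX : Pi1.IsNormalScheme X)
    (hfin : (irreducibleComponents X).Finite) (W : X.Opens) : EGA4.IsNormalRing Γ(X, W) := by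
  haveI : Finite ↥(irreducibleComponents ↥X) := hfin
  exact isNormalRing_sections hX (locallyFinite_of_finite _) W

/-- if the sections over an affine open form a normal ring, the local rings at its points are
integrally closed domains -/
theorem qn_stalk_of_isNormalRing_sections {Y : Scheme.{u}} {V : Y.Opens} (hV : IsAffineOpen V)
    (hN : EGA4.IsNormalRing Γ(Y, V)) (y : Y) (hy : y ∈ V) :
    IsDomain (Y.presheaf.stalk y) ∧ IsIntegrallyClosed (Y.presheaf.stalk y) := by
  letI := TopCat.Presheaf.algebra_section_stalk Y.presheaf ⟨y, hy⟩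
  haveI := hV.isLocalization_stalk ⟨y, hy⟩
  obtain ⟨h1, h2⟩ := hN (hV.primeIdealOf ⟨y, hy⟩).asIdeal
  let e : Localization.AtPrime (hV.primeIdealOf ⟨y, hy⟩).asIdeal ≃+* Y.presheaf.stalk y :=
    (IsLocalization.algEquiv (hV.primeIdealOf ⟨y, hy⟩).asIdeal.primeCompl
      (Localization.AtPrime (hV.primeIdealOf ⟨y, hy⟩).asIdeal) (Y.presheaf.stalk y)).toRingEquiv
  exact ⟨e.toMulEquiv.isDomain_iff.1 h1, IsIntegrallyClosed.of_equiv e⟩

/-- the target of a fibration (`O_Y ≅ f_* O_X`) from a normal scheme with locally finitely many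
irreducible components is normal -/
theorem isNormalScheme_of_fibration {X Y : Scheme.{u}} (f : X ⟶ Y)
    (hfib : ∀ V : Y.Opens, IsIso (f.app V)) (hX : Pi1.IsNormalScheme X)
    (hfin : LocallyFinite (fun Z : ↥(irreducibleComponents ↥X) => (Z : Set ↥X))) :
    Pi1.IsNormalScheme Y := by
  intro y
  obtain ⟨_, ⟨V, hV, rfl⟩, hyV, -⟩ := Y.isBasis_affineOpens.exists_subset_of_mem_open
    (Set.mem_univ y) isOpen_univ
  haveI := hfib V
  have hN : EGA4.IsNormalRing Γ(Y, V) :=
    isNormalRing_of_ringEquiv (asIso (f.app V)).commRingCatIsoToRingEquiv.symm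
      (isNormalRing_sections hX hfin (f ⁻¹ᵁ V))
  exact qn_stalk_of_isNormalRing_sections hV hN y hyV

/-- the target of a fibration from a normal Noetherian scheme is normal -/
theorem isNormalScheme_of_fibration_of_isNoetherian {X Y : Scheme.{u}} [IsNoetherian X]
    (f : X ⟶ Y) (hfib : ∀ V : Y.Opens, IsIso (f.app V)) (hX : Pi1.IsNormalScheme X) :
    Pi1.IsNormalScheme Y := by
  haveI : Finite ↥(irreducibleComponents ↥X) :=
    TopologicalSpace.NoetherianSpace.finite_irreducibleComponents
  exact isNormalScheme_of_fibration f hfib hX (locallyFinite_of_finite _)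

end Groth.Agent.Lib.Helper22.NormalSections
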