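import Mathlib
import Groth.Agent.Lib.Helper5.RegSmoothPerfect

/-!
# Generic smoothness on the target (helper22)

* `formallySmooth_of_regular_of_perfect`: a regular local ring essentially of finite type over a
  perfect field is formally smooth.
* `nhds_or_compl_nhds_of_isLocallyConstructible`: a locally constructible set or its complement is
  a neighbourhood of a generic point.
* `exists_dense_open_preimage_le_smoothLocus`: spreading out smoothness of the generic fibre.
-/

set_option autoImplicit false
set_option linter.style.haveILetI false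
universe u
noncomputable section
namespace Groth.Agent.Lib.Helper22.GenericSmooth

open CategoryTheory CategoryTheory.Limits AlgebraicGeometry TopologicalSpace Topology

/-- **Lemma R.** A regular local ring essentially of finite type over a perfect field is formally
smooth over it. -/
theorem formallySmooth_of_regular_of_perfect (K A : Type u) [Field K] [PerfectField K]
    [CommRing A] [Algebra K A] [Algebra.EssFiniteType K A] [IsRegularLocalRing A] :
    Algebra.FormallySmooth K A := by
  let S₀ := Algebra.EssFiniteType.subalgebra K A
  let q : Ideal S₀ := (IsLocalRing.maximalIdeal A).comap (algebraMap S₀ A)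
  haveI hq : q.IsPrime := Ideal.comap_isPrime _ _
  have hM : Algebra.EssFiniteType.submonoid K A = q.primeCompl := by
    ext x
    change IsUnit (algebraMap S₀ A x) ↔ x ∉ q
    rw [Ideal.mem_comap, IsLocalRing.mem_maximalIdeal, mem_nonunits_iff, not_not]
  haveI : IsLocalization.AtPrime A q := by
    change IsLocalization q.primeCompl A
    rw [← hM]
    infer_instance
  let e : Localization.AtPrime q ≃ₐ[S₀] A :=
    IsLocalization.algEquiv q.primeCompl (Localization.AtPrime q) A
  haveI : IsRegularLocalRing (Localization.AtPrime q) :=
    IsRegularLocalRing.of_ringEquiv e.symm.toRingEquiv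
  haveI : Algebra.IsSmoothAt K q :=
    Groth.Agent.Lib.Helper5.RegSmoothCore.isSmoothAt_of_regular K S₀ q
  haveI : Algebra.FormallySmooth K (Localization.AtPrime q) := ‹Algebra.IsSmoothAt K q›
  exact Algebra.FormallySmooth.of_equiv (e.restrictScalars K)

/-- **(A)** A regular point over the generic point of an integral scheme with perfect function
field lies in the smooth locus. -/
theorem mem_smoothLocus_of_regular {X Y : Scheme.{u}} [IsIntegral Y]
    [PerfectField Y.functionField] (f : X ⟶ Y) [LocallyOfFinitePresentation f] (x : X)
    (hx : f x = genericPoint Y) (hreg : IsRegularLocalRing (X.presheaf.stalk x)) :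
    x ∈ f.smoothLocus := by
  rw [Scheme.Hom.mem_smoothLocus]
  have key : ∀ y : Y, y = genericPoint Y →
      ∃ h : IsField (Y.presheaf.stalk y), @PerfectField _ h.toField := by
    rintro _ rfl
    exact ⟨isField_stalk_of_closure_mem_irreducibleComponents Y _
      (by simp [irreducibleComponents_eq_singleton]), ‹PerfectField Y.functionField›⟩
  obtain ⟨hF, hP⟩ := key _ hx
  letI : Field (Y.presheaf.stalk (f x)) := hF.toField
  haveI : PerfectField (Y.presheaf.stalk (f x)) := hP
  have hft := LocallyOfFiniteType.stalkMap f x
  algebraize [(f.stalkMap x).hom]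
  exact formallySmooth_of_regular_of_perfect (Y.presheaf.stalk (f x)) (X.presheaf.stalk x)

/-- **Lemma L0.** At a generic point, a constructible set or its complement is a neighbourhood. -/
theorem nhds_or_compl_nhds_of_isConstructible {T : Type*} [TopologicalSpace T] {η : T}
    (hη : closure ({η} : Set T) = Set.univ) {s : Set T} (hs : IsConstructible s) :
    s ∈ 𝓝 η ∨ sᶜ ∈ 𝓝 η := by
  induction hs using IsConstructible.empty_union_induction with
  | open_retrocompact U hU _ =>
    by_cases h : η ∈ U
    · exact Or.inl (hU.mem_nhds h)
    · right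
      have : U = ∅ := by
        by_contra hne
        obtain ⟨u, hu⟩ := Set.nonempty_iff_ne_empty.mpr hne
        have hu' : u ∈ closure ({η} : Set T) := hη ▸ Set.mem_univ u
        obtain ⟨z, hzU, hz⟩ := mem_closure_iff.mp hu' U hU hu
        rw [Set.mem_singleton_iff] at hz
        exact h (hz ▸ hzU)
      rw [this, Set.compl_empty]
      exact Filter.univ_mem
  | union s _ t _ hs ht =>
    rcases hs with hs | hs
    · exact Or.inl (Filter.mem_of_superset hs Set.subset_union_left)
    · rcases ht with ht | ht
      · exact Or.inl (Filter.mem_of_superset ht Set.subset_union_right)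
      · right
        rw [Set.compl_union]
        exact Filter.inter_mem hs ht
  | compl s _ hs =>
    rcases hs with hs | hs
    · right; rwa [compl_compl]
    · exact Or.inl hs

/-- **Lemma L.** At a generic point, a locally constructible set or its complement is a
neighbourhood. -/
theorem nhds_or_compl_nhds_of_isLocallyConstructible {T : Type*} [TopologicalSpace T] {η : T}
    (hη : closure ({η} : Set T) = Set.univ) {s : Set T} (hs : IsLocallyConstructible s) :
    s ∈ 𝓝 η ∨ sᶜ ∈ 𝓝 η := by
  obtain ⟨U, hUη, hU, hc⟩ := hs η
  have hηU : η ∈ U := mem_of_mem_nhds hUη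
  have hemb : IsOpenEmbedding (Subtype.val : U → T) := hU.isOpenEmbedding_subtypeVal
  have hη' : closure ({(⟨η, hηU⟩ : U)} : Set U) = Set.univ := by
    rw [hemb.isEmbedding.closure_eq_preimage_closure_image, Set.image_singleton, hη,
      Set.preimage_univ]
  have hmap : 𝓝 η = Filter.map (Subtype.val : U → T) (𝓝 ⟨η, hηU⟩) :=
    (hemb.map_nhds_eq ⟨η, hηU⟩).symm
  rcases nhds_or_compl_nhds_of_isConstructible hη' hc with h | h
  · left
    rw [hmap]
    exact h
  · right
    rw [hmap]
    exact h

/-- In a Noetherian space every closed set is constructible. -/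
theorem isConstructible_of_isClosed {T : Type*} [TopologicalSpace T] [NoetherianSpace T]
    {s : Set T} (hs : IsClosed s) : IsConstructible s := by
  rw [← isConstructible_compl]
  exact IsRetrocompact.isConstructible hs.isOpen_compl
    (fun V _ _ => NoetherianSpace.isCompact _)

/-- In a locally Noetherian scheme every closed set is locally constructible. -/
theorem isLocallyConstructible_of_isClosed {X : Scheme.{u}} [IsLocallyNoetherian X]
    {s : Set X} (hs : IsClosed s) : IsLocallyConstructible s := by
  intro x
  obtain ⟨W, hW, hxW, -⟩ := exists_isAffineOpen_mem_and_subset (x := x) (U := ⊤) trivial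
  haveI : IsNoetherianRing Γ(X, W) := IsLocallyNoetherian.component_noetherian ⟨W, hW⟩
  haveI : NoetherianSpace (↥W : Type u) := noetherianSpace_of_isAffineOpen W hW
  exact ⟨W, W.isOpen.mem_nhds hxW, W.isOpen,
    isConstructible_of_isClosed (hs.preimage continuous_subtype_val)⟩

/-- **(B)** If the fibre of `f` over the generic point lies in the smooth locus, then so does the
preimage of a dense open. -/
theorem exists_dense_open_preimage_le_smoothLocus {X Y : Scheme.{u}} [IsLocallyNoetherian X]
    [IrreducibleSpace Y] (f : X ⟶ Y) [LocallyOfFinitePresentation f] [QuasiCompact f]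
    (hgen : ∀ x : X, f x = genericPoint Y → x ∈ f.smoothLocus) :
    ∃ V : Y.Opens, Dense (V : Set Y) ∧ f ⁻¹ᵁ V ≤ f.smoothLocus := by
  set T : Set X := (f.smoothLocus : Set X)ᶜ with hT
  have hTc : IsClosed T := f.smoothLocus.isOpen.isClosed_compl
  have hC : IsLocallyConstructible (f '' T) :=
    f.isLocallyConstructible_image (isLocallyConstructible_of_isClosed hTc)
  have hη : closure ({genericPoint Y} : Set Y) = Set.univ := (genericPoint_spec Y).def
  have hnot : genericPoint Y ∉ f '' T := by
    rintro ⟨x, hxT, hx⟩
    exact hxT (hgen x hx)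
  have hnhds : (f '' T)ᶜ ∈ 𝓝 (genericPoint Y) := by
    rcases nhds_or_compl_nhds_of_isLocallyConstructible hη hC with h | h
    · exact absurd (mem_of_mem_nhds h) hnot
    · exact h
  obtain ⟨V, hVsub, hVo, hVη⟩ := mem_nhds_iff.mp hnhds
  refine ⟨⟨V, hVo⟩, hVo.dense ⟨_, hVη⟩, ?_⟩
  intro x hx
  by_contra hxs
  exact hVsub hx ⟨x, hxs, rfl⟩

/-- Generic smoothness on the target: `f : X → Y` dominant quasi-compact locally of finite
presentation between integral schemes, `X` regular and `K(Y)` perfect. -/
theorem exists_dense_open_smooth {X Y : Scheme.{u}} [IsIntegral Y] [IsLocallyNoetherian X]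
    (hreg : ∀ x : X, IsRegularLocalRing (X.presheaf.stalk x))
    (f : X ⟶ Y) [LocallyOfFinitePresentation f] [QuasiCompact f]
    [PerfectField Y.functionField] :
    ∃ V : Y.Opens, Dense (V : Set Y) ∧ Smooth (f ∣_ V) := by
  obtain ⟨V, hVd, hV⟩ := exists_dense_open_preimage_le_smoothLocus f
    (fun x hx => mem_smoothLocus_of_regular f x hx (hreg x))
  refine ⟨V, hVd, ?_⟩
  rw [← Scheme.Hom.smoothLocus_eq_top_iff]
  ext x
  simp only [TopologicalSpace.Opens.coe_top, Set.mem_univ, iff_true]
  rw [SetLike.mem_coe, Scheme.Hom.mem_smoothLocus]
  exact (RingHom.FormallySmooth.respectsIso.arrow_mk_iso_iff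
    (morphismRestrictStalkMap f V x)).mpr (hV x.2)

end Groth.Agent.Lib.Helper22.GenericSmooth
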