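import Mathlib

/-!
# Krull–Akizuki for modules (Stacks 00PF): for a one-dimensional Noetherian domain `R` with
fraction field `K`, a submodule `M ⊆ K^r` and `x ≠ 0`, the module `M / xM` has finite length.

The rank one case is a port to submodules of helper13's proof of Krull–Akizuki for overrings.
-/

set_option autoImplicit false

namespace Groth.Agent.Lib.Helper22.KAModule

universe u

section core

variable {R K : Type*} [CommRing R] [IsDomain R] [IsNoetherianRing R] [Ring.KrullDimLE 1 R]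
  [Field K] [Algebra R K] [IsFractionRing R K]

local notation "ι" => algebraMap R K

omit [IsNoetherianRing R] [Ring.KrullDimLE 1 R] in
theorem ι_ne_zero {a : R} (ha : a ≠ 0) : ι a ≠ 0 := fun h =>
  ha (IsFractionRing.injective R K (h.trans (map_zero _).symm))

theorem isArtinian_quotient (q : R) (hq : q ≠ 0) : IsArtinian R (R ⧸ Ideal.span {q}) := by
  have hfl := isFiniteLength_quotient_span_singleton (R := R)
    (mem_nonZeroDivisors_of_ne_zero hq)
  exact (isFiniteLength_iff_isNoetherian_isArtinian.mp hfl).2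

/-- (Kp-a) -/
theorem exists_pow_mul_eq (a : R) (c : K) :
    ∃ (m : ℕ) (r s : R), ι a ^ m * c = ι a ^ (m + 1) * (ι r * c) + ι s := by
  obtain ⟨p, q, hq, rfl⟩ := IsFractionRing.div_surjective (A := R) c
  have hq0 : q ≠ 0 := nonZeroDivisors.ne_zero hq
  have hart := isArtinian_quotient q hq0
  obtain ⟨n, y, hy⟩ := IsArtinian.exists_pow_succ_smul_dvd a (1 : R ⧸ Ideal.span {q})
  obtain ⟨y₀, rfl⟩ := Ideal.Quotient.mk_surjective y
  have h0 : (Ideal.Quotient.mk (Ideal.span {q}) (a ^ (n + 1) * y₀ - a ^ n)) = 0 := by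
    have h1 : a ^ (n + 1) • (Ideal.Quotient.mk (Ideal.span {q}) y₀) =
        Ideal.Quotient.mk (Ideal.span {q}) (a ^ (n + 1) * y₀) := rfl
    have h2 : a ^ n • (1 : R ⧸ Ideal.span {q}) = Ideal.Quotient.mk (Ideal.span {q}) (a ^ n) := by
      have : a ^ n • (Ideal.Quotient.mk (Ideal.span {q}) 1) =
        Ideal.Quotient.mk (Ideal.span {q}) (a ^ n * 1) := rfl
      rw [mul_one, map_one] at this
      exact this
    rw [map_sub, ← h1, ← h2]
    rw [Nat.succ_eq_add_one] at hy
    rw [hy, sub_self]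
  rw [Ideal.Quotient.eq_zero_iff_mem, Ideal.mem_span_singleton'] at h0
  obtain ⟨s, hs⟩ := h0
  refine ⟨n, y₀, -s * p, ?_⟩
  have hqK : ι q ≠ 0 := ι_ne_zero hq0
  have hsK : ι s * ι q = ι a ^ (n + 1) * ι y₀ - ι a ^ n := by
    have := congrArg ι hs
    simpa using this
  rw [map_mul, map_neg]
  field_simp
  linear_combination ι p * hsK

variable (M : Submodule R K)

/-- the ideal `a^n M ∩ R` of `R` -/
def Jn (a : R) (n : ℕ) : Ideal R where
  carrier := {β | ∃ c ∈ M, ι β = ι a ^ n * c}
  add_mem' := by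
    rintro x y ⟨c, hc, hx⟩ ⟨d, hd, hy⟩
    exact ⟨c + d, M.add_mem hc hd, by rw [map_add, hx, hy, mul_add]⟩
  zero_mem' := ⟨0, M.zero_mem, by simp⟩
  smul_mem' := by
    rintro r x ⟨c, hc, hx⟩
    refine ⟨r • c, M.smul_mem r hc, ?_⟩
    rw [smul_eq_mul, map_mul, hx, Algebra.smul_def]
    ring

omit [IsDomain R] [IsNoetherianRing R] [Ring.KrullDimLE 1 R] [IsFractionRing R K] in
theorem mem_Jn (a : R) (n : ℕ) (β : R) :
    β ∈ Jn M a n ↔ ∃ c ∈ M, ι β = ι a ^ n * c := Iff.rfl

omit [IsDomain R] [IsNoetherianRing R] [Ring.KrullDimLE 1 R] [IsFractionRing R K] in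
theorem Jn_antitone (a : R) : Antitone (Jn M a) := by
  apply antitone_nat_of_succ_le
  intro n β hβ
  rw [mem_Jn] at hβ ⊢
  obtain ⟨c, hc, h⟩ := hβ
  exact ⟨a • c, M.smul_mem a hc, by rw [h, pow_succ, Algebra.smul_def]; ring⟩

/-- (Kp-b) -/
theorem exists_stable (a : R) (ha : a ≠ 0) :
    ∃ h : ℕ, ∀ n, h ≤ n → ∀ β : R, β ∈ Jn M a n →
      ∃ β'' ∈ Jn M a (n + 1), ∃ β' : R, β = β'' + a * β' := by
  have hart : IsArtinian R (R ⧸ Ideal.span {a}) := isArtinian_quotient a ha
  have hartR : IsArtinianRing (R ⧸ Ideal.span {a}) := isArtinian_of_tower R hart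
  let f : ℕ →o (Ideal (R ⧸ Ideal.span {a}))ᵒᵈ :=
    ⟨fun n => OrderDual.toDual ((Jn M a n).map (Ideal.Quotient.mk (Ideal.span {a}))),
      fun m n hmn => OrderDual.toDual_le_toDual.mpr
        (Ideal.map_mono (Jn_antitone M a hmn))⟩
  obtain ⟨h, hh⟩ := IsArtinian.monotone_stabilizes f
  refine ⟨h, fun n hn β hβ => ?_⟩
  have h1 : (Jn M a n).map (Ideal.Quotient.mk (Ideal.span {a})) =
      (Jn M a (n + 1)).map (Ideal.Quotient.mk (Ideal.span {a})) := by
    have e1 := hh n hn
    have e2 := hh (n + 1) (by omega)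
    have e3 : f n = f (n + 1) := e1.symm.trans e2
    exact congrArg OrderDual.ofDual e3
  have h2 : Ideal.Quotient.mk (Ideal.span {a}) β ∈
      (Jn M a (n + 1)).map (Ideal.Quotient.mk (Ideal.span {a})) := by
    rw [← h1]; exact Ideal.mem_map_of_mem _ hβ
  obtain ⟨β'', hβ'', he⟩ := (Ideal.mem_map_iff_of_surjective _
    Ideal.Quotient.mk_surjective).mp h2
  have h3 : β - β'' ∈ Ideal.span {a} := by
    rw [← Ideal.Quotient.eq_zero_iff_mem, map_sub, he, sub_self]
  obtain ⟨β', hβ'⟩ := Ideal.mem_span_singleton'.mp h3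
  refine ⟨β'', hβ'', β', ?_⟩
  rw [mul_comm, hβ']; ring

/-- (Kp-c) -/
theorem exists_uniform (a : R) (ha : a ≠ 0) :
    ∃ h : ℕ, ∀ c : K, c ∈ M → ∃ c' : K, c' ∈ M ∧ ∃ s : R,
      ι a ^ h * c = ι a ^ (h + 1) * c' + ι s := by
  obtain ⟨h, hh⟩ := exists_stable M a ha
  have haK : ι a ≠ 0 := ι_ne_zero ha
  refine ⟨h, fun c hc => ?_⟩
  have up : ∀ m k : ℕ, (∃ c' : K, c' ∈ M ∧ ∃ s : R,
      ι a ^ m * c = ι a ^ (m + 1) * c' + ι s) →
      (∃ c' : K, c' ∈ M ∧ ∃ s : R,
      ι a ^ (m + k) * c = ι a ^ (m + k + 1) * c' + ι s) := by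
    intro m k
    rintro ⟨c', hc', s, hs⟩
    refine ⟨c', hc', a ^ k * s, ?_⟩
    rw [map_mul, map_pow]
    rw [pow_add, mul_assoc (ι a ^ m), mul_comm (ι a ^ k), ← mul_assoc, hs]
    ring
  have down : ∀ k : ℕ, (∃ c' : K, c' ∈ M ∧ ∃ s : R,
      ι a ^ (h + k) * c = ι a ^ (h + k + 1) * c' + ι s) →
      (∃ c' : K, c' ∈ M ∧ ∃ s : R,
      ι a ^ h * c = ι a ^ (h + 1) * c' + ι s) := by
    intro k
    induction k with
    | zero => intro hk; simpa using hk
    | succ k ih =>
      rintro ⟨c', hc', s, hs⟩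
      apply ih
      have hsJ : s ∈ Jn M a (h + (k + 1)) := by
        rw [mem_Jn]
        refine ⟨c - a • c', M.sub_mem hc (M.smul_mem a hc'), ?_⟩
        have : ι s = ι a ^ (h + (k + 1)) * c - ι a ^ (h + (k + 1) + 1) * c' := by
          rw [hs]; ring
        rw [this, Algebra.smul_def]; ring
      obtain ⟨β'', hβ'', β', hβ'⟩ := hh (h + (k + 1)) (by omega) s hsJ
      rw [mem_Jn] at hβ''
      obtain ⟨c'', hc'', h''⟩ := hβ''
      refine ⟨c' + c'', M.add_mem hc' hc'', β', ?_⟩
      have hsK : ι s = ι β'' + ι a * ι β' := by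
        have := congrArg ι hβ'
        simpa using this
      have key : ι a * (ι a ^ (h + k) * c) =
          ι a * (ι a ^ (h + k + 1) * (c' + c'') + ι β') := by
        have e1 : ι a * (ι a ^ (h + k) * c) = ι a ^ (h + (k + 1)) * c := by
          rw [← add_assoc, pow_succ]; ring
        rw [e1, hs, hsK, h'']
        rw [← add_assoc h k 1]
        ring
      exact mul_left_cancel₀ haK key
  obtain ⟨m, r, s, hm⟩ := exists_pow_mul_eq (K := K) a c
  have hP : ∃ c' : K, c' ∈ M ∧ ∃ s : R,
      ι a ^ m * c = ι a ^ (m + 1) * c' + ι s :=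
    ⟨r • c, M.smul_mem r hc, s, by rw [Algebra.smul_def]; exact hm⟩
  rcases le_total m h with hmh | hmh
  · obtain ⟨k, rfl⟩ := Nat.exists_eq_add_of_le hmh
    exact up m k hP
  · obtain ⟨k, rfl⟩ := Nat.exists_eq_add_of_le hmh
    exact down k hP

/-- (Kp-d): `M / aM` is a Noetherian `R`-module. -/
theorem isNoetherian_quotient (a : R) (ha : a ≠ 0) :
    IsNoetherian R (M ⧸ (Ideal.span ({a} : Set R) • (⊤ : Submodule R M))) := by
  obtain ⟨h, hh⟩ := exists_uniform M a ha
  have haK : ι a ≠ 0 := ι_ne_zero ha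
  -- multiplication by `a^h` on `M`
  let φ : M →ₗ[R] K := (a ^ h) • M.subtype
  have hφ : ∀ c : M, φ c = ι a ^ h * (c : K) := fun c => by
    change (a ^ h) • (c : K) = _
    rw [Algebra.smul_def, map_pow]
  have hφinj : Function.Injective φ := by
    intro x y hxy
    rw [hφ, hφ] at hxy
    exact Subtype.ext (mul_left_cancel₀ (pow_ne_zero h haK) hxy)
  let N : Submodule R K := LinearMap.range (Algebra.linearMap R K)
  haveI : IsNoetherian R N :=
    isNoetherian_of_surjective (Algebra.linearMap R K).rangeRestrict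
      (LinearMap.range_rangeRestrict _)
  let S' : Submodule R M := N.comap φ
  let f : S' →ₗ[R] N := (φ.domRestrict S').codRestrict N (fun c => c.2)
  have hf : Function.Injective f := by
    intro x y hxy
    have := congrArg Subtype.val hxy
    exact Subtype.ext (hφinj this)
  haveI hS'noeth : IsNoetherian R S' := isNoetherian_of_injective f hf
  let g : S' →ₗ[R] (M ⧸ (Ideal.span ({a} : Set R) • (⊤ : Submodule R M))) :=
    (Submodule.mkQ _).comp S'.subtype
  have hg : Function.Surjective g := by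
    intro z
    obtain ⟨c, rfl⟩ := Submodule.Quotient.mk_surjective _ z
    obtain ⟨c', hc', s, hs⟩ := hh c c.2
    have hmem : (c - a • (⟨c', hc'⟩ : M)) ∈ S' := by
      change φ (c - a • (⟨c', hc'⟩ : M)) ∈ N
      refine ⟨s, ?_⟩
      rw [hφ]
      change ι s = ι a ^ h * ((c : K) - a • c')
      rw [Algebra.smul_def, mul_sub, hs, pow_succ]
      ring
    refine ⟨⟨_, hmem⟩, ?_⟩
    change Submodule.Quotient.mk (c - a • (⟨c', hc'⟩ : M)) = Submodule.Quotient.mk c
    rw [Submodule.Quotient.eq, sub_sub_cancel_left, neg_mem_iff]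
    exact Submodule.smul_mem_smul (Ideal.mem_span_singleton_self a) Submodule.mem_top
  exact isNoetherian_of_surjective g (LinearMap.range_eq_top.mpr hg)

end core

section exact

variable {R : Type*} [CommRing R] {N' N N'' : Type*} [AddCommGroup N'] [AddCommGroup N]
  [AddCommGroup N''] [Module R N'] [Module R N] [Module R N'']

/-- right exactness of `N ↦ N / I N`, in the form needed -/
theorem isNoetherian_quotient_smul_of_exact (I : Ideal R) (f : N' →ₗ[R] N) (g : N →ₗ[R] N'')
    (hg : Function.Surjective g) (hfg : LinearMap.range f = LinearMap.ker g)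
    [IsNoetherian R (N' ⧸ (I • (⊤ : Submodule R N')))]
    [IsNoetherian R (N'' ⧸ (I • (⊤ : Submodule R N'')))] :
    IsNoetherian R (N ⧸ (I • (⊤ : Submodule R N))) := by
  have hf' : I • (⊤ : Submodule R N') ≤ (I • (⊤ : Submodule R N)).comap f := by
    rw [Submodule.smul_le]
    intro r hr n _
    rw [Submodule.mem_comap, map_smul]
    exact Submodule.smul_mem_smul hr Submodule.mem_top
  have hg' : I • (⊤ : Submodule R N) ≤ (I • (⊤ : Submodule R N'')).comap g := by
    rw [Submodule.smul_le]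
    intro r hr n _
    rw [Submodule.mem_comap, map_smul]
    exact Submodule.smul_mem_smul hr Submodule.mem_top
  refine isNoetherian_of_range_eq_ker (Submodule.mapQ _ _ f hf') (Submodule.mapQ _ _ g hg') ?_
  apply le_antisymm
  · rintro _ ⟨x, rfl⟩
    obtain ⟨n', rfl⟩ := Submodule.Quotient.mk_surjective _ x
    rw [LinearMap.mem_ker, Submodule.mapQ_apply, Submodule.mapQ_apply]
    have : g (f n') = 0 := by
      have : f n' ∈ LinearMap.ker g := hfg ▸ LinearMap.mem_range_self f n'
      exact this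
    rw [this, Submodule.Quotient.mk_zero]
  · intro y hy
    obtain ⟨n, rfl⟩ := Submodule.Quotient.mk_surjective _ y
    rw [LinearMap.mem_ker, Submodule.mapQ_apply, Submodule.Quotient.mk_eq_zero] at hy
    have hmap : (I • (⊤ : Submodule R N)).map g = I • (⊤ : Submodule R N'') := by
      rw [Submodule.map_smul'', Submodule.map_top, LinearMap.range_eq_top.mpr hg]
    rw [← hmap] at hy
    obtain ⟨n₁, hn₁, hgn⟩ := hy
    have hker : n - n₁ ∈ LinearMap.ker g := by
      rw [LinearMap.mem_ker, map_sub, hgn, sub_self]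
    rw [← hfg] at hker
    obtain ⟨n', hn'⟩ := hker
    refine ⟨Submodule.Quotient.mk n', ?_⟩
    rw [Submodule.mapQ_apply, hn', Submodule.Quotient.eq, sub_sub_cancel_left, neg_mem_iff]
    exact hn₁

end exact

section general

variable {R K : Type*} [CommRing R] [IsDomain R] [IsNoetherianRing R] [Ring.KrullDimLE 1 R]
  [Field K] [Algebra R K] [IsFractionRing R K]

/-- `M / aM` is Noetherian for submodules of `K^r` -/
theorem isNoetherian_quotient_pi (a : R) (ha : a ≠ 0) :
    ∀ (r : ℕ) (M : Submodule R (Fin r → K)),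
      IsNoetherian R (M ⧸ (Ideal.span ({a} : Set R) • (⊤ : Submodule R M))) := by
  intro r
  induction r with
  | zero =>
    intro M
    haveI : Subsingleton M := ⟨fun x y => Subtype.ext (Subsingleton.elim _ _)⟩
    infer_instance
  | succ r ih =>
    intro M
    let π : (Fin (r + 1) → K) →ₗ[R] K := LinearMap.proj 0
    let ι₁ : (Fin r → K) →ₗ[R] (Fin (r + 1) → K) :=
      LinearMap.pi (fun i => Fin.cases (motive := fun _ => (Fin r → K) →ₗ[R] K) 0
        (fun j => LinearMap.proj j) i)
    have hι₀ : ∀ v, ι₁ v 0 = 0 := fun v => rfl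
    have hιs : ∀ v (j : Fin r), ι₁ v j.succ = v j := fun v j => rfl
    let M'' : Submodule R K := M.map π
    let M' : Submodule R (Fin r → K) := M.comap ι₁
    let g : M →ₗ[R] M'' := (π.domRestrict M).codRestrict M''
      (fun m => Submodule.mem_map_of_mem m.2)
    let f : M' →ₗ[R] M := (ι₁.domRestrict M').codRestrict M (fun v => v.2)
    have hg : Function.Surjective g := by
      rintro ⟨_, m, hm, rfl⟩
      exact ⟨⟨m, hm⟩, rfl⟩
    have hfg : LinearMap.range f = LinearMap.ker g := by
      apply le_antisymm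
      · rintro _ ⟨v, rfl⟩
        rw [LinearMap.mem_ker]
        apply Subtype.ext
        exact hι₀ v.1
      · intro m hm
        rw [LinearMap.mem_ker] at hm
        have hm0 : (m : Fin (r + 1) → K) 0 = 0 := congrArg Subtype.val hm
        have hv : ι₁ (fun j => (m : Fin (r + 1) → K) j.succ) = (m : Fin (r + 1) → K) := by
          funext i
          refine Fin.cases ?_ (fun j => ?_) i
          · rw [hι₀, hm0]
          · rw [hιs]
        have hvM : (fun j => (m : Fin (r + 1) → K) j.succ) ∈ M' := by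
          change ι₁ _ ∈ M
          rw [hv]
          exact m.2
        exact ⟨⟨_, hvM⟩, Subtype.ext hv⟩
    haveI := ih M'
    haveI := isNoetherian_quotient M'' a ha
    exact isNoetherian_quotient_smul_of_exact _ f g hg hfg

/-- **Stacks 00PF**: `M / xM` has finite length. -/
theorem length_quotient_ne_top (r : ℕ) (M : Submodule R (Fin r → K)) (x : R) (hx : x ≠ 0) :
    Module.length R (M ⧸ (Ideal.span ({x} : Set R) • (⊤ : Submodule R M))) ≠ ⊤ := by
  haveI := isNoetherian_quotient_pi (K := K) x hx r M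
  have hart : IsArtinian R (R ⧸ Ideal.span {x}) := isArtinian_quotient x hx
  haveI hartR : IsArtinianRing (R ⧸ Ideal.span {x}) := isArtinian_of_tower R hart
  haveI : Module.Finite (R ⧸ Ideal.span {x})
      (M ⧸ (Ideal.span ({x} : Set R) • (⊤ : Submodule R M))) :=
    Module.Finite.of_restrictScalars_finite R _ _
  haveI : IsArtinian (R ⧸ Ideal.span {x})
      (M ⧸ (Ideal.span ({x} : Set R) • (⊤ : Submodule R M))) := inferInstance
  haveI : IsArtinian R (M ⧸ (Ideal.span ({x} : Set R) • (⊤ : Submodule R M))) :=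
    isArtinian_of_surjective_algebraMap (R := R ⧸ Ideal.span {x}) Ideal.Quotient.mk_surjective
  exact Module.length_ne_top

end general

end Groth.Agent.Lib.Helper22.KAModule
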