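import Mathlib
import Groth.Agent.Lib.Helper2.KAorder
import Groth.Agent.Lib.Helper14.BranchBound

/-!
# Krull–Akizuki for rings in a finite extension of the fraction field, with the finiteness of
`A / xA` (after helper2's `KAorder.isNoetherianRing_of_span_eq_top`), and Stacks 00PH-type
consequences.
-/

set_option autoImplicit false

namespace Groth.Agent.Lib.Helper22.KAFinExt

open Module Groth.Agent.Lib.Helper2

universe u

/-- Krull–Akizuki for a ring `A` between `R` and a finite extension `L` of `Frac R`, when `A`
spans `L` over `K = Frac R`: moreover `A / xA` is a finite `R`-module for `x ≠ 0` in `R`. -/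
theorem main (R K : Type*) (L : Type u) [CommRing R] [IsDomain R]
    [IsNoetherianRing R] [Ring.KrullDimLE 1 R] [Field K] [Field L]
    [Algebra R K] [IsFractionRing R K] [Algebra K L] [FiniteDimensional K L] [Algebra R L]
    [IsScalarTower R K L] (A : Type*) [CommRing A] [Algebra R A] [Algebra A L]
    [IsScalarTower R A L] (hA : Function.Injective (algebraMap A L))
    (hspan : Submodule.span K (Set.range (algebraMap A L)) = ⊤) :
    IsNoetherianRing A ∧ Ring.KrullDimLE 1 A ∧
      ∀ x : R, x ≠ 0 → Module.Finite R (A ⧸ Ideal.span {algebraMap R A x}) := by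
  classical
  have hRL : Function.Injective (algebraMap R L) := by
    rw [IsScalarTower.algebraMap_eq R K L]
    exact (algebraMap K L).injective.comp (IsFractionRing.injective R K)
  let b₀ := Basis.ofSpan hspan.ge
  have hb₀ : ∀ i, ∃ a : A, algebraMap A L a = b₀ i := fun i =>
    Basis.ofSpan_subset hspan.ge (Set.mem_range_self i)
  haveI : Finite ((linearIndepOn_empty K id).extend
      (Set.empty_subset (Set.range (algebraMap A L)))) :=
    (FiniteDimensional.fintypeBasisIndex b₀).finite
  haveI := Fintype.ofFinite ((linearIndepOn_empty K id).extend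
      (Set.empty_subset (Set.range (algebraMap A L))))
  obtain ⟨y, hy0, hy⟩ := exists_integral_multiples R K (Finset.univ.image b₀)
  have hyK : IsUnit (algebraMap R K y) :=
    IsUnit.mk0 _ (fun h => hy0 (IsFractionRing.injective R K (h.trans (map_zero _).symm)))
  let b := b₀.isUnitSMul (w := fun _ => algebraMap R K y) (fun _ => hyK)
  have hb : ∀ i, b i = y • b₀ i := by
    intro i
    rw [Basis.isUnitSMul_apply, algebraMap_smul]
  have hbint : ∀ i, IsIntegral R (b i) := by
    intro i
    rw [hb]
    exact hy _ (Finset.mem_image_of_mem _ (Finset.mem_univ i))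
  obtain ⟨hfin, hfrac⟩ := KAorder.order_of_basis R K L b hbint
  obtain ⟨hN₁, hD₁⟩ := KAorder.order_props R L (Algebra.adjoin R (Set.range b))
  let Ā : Subalgebra R L := (IsScalarTower.toAlgHom R A L).range
  have hle : Algebra.adjoin R (Set.range b) ≤ Ā := by
    rw [Algebra.adjoin_le_iff]
    rintro _ ⟨i, rfl⟩
    obtain ⟨a, ha⟩ := hb₀ i
    refine ⟨y • a, ?_⟩
    rw [hb, ← ha]
    show algebraMap A L (y • a) = y • algebraMap A L a
    rw [Algebra.smul_def, map_mul, ← IsScalarTower.algebraMap_apply R A L, ← Algebra.smul_def]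
  letI alg₁ : Algebra (Algebra.adjoin R (Set.range b)) Ā := (Subalgebra.inclusion hle).toAlgebra
  haveI : IsScalarTower (Algebra.adjoin R (Set.range b)) Ā L :=
    IsScalarTower.of_algebraMap_eq fun _ => rfl
  haveI : IsScalarTower R (Algebra.adjoin R (Set.range b)) Ā :=
    IsScalarTower.of_algebraMap_eq fun _ => rfl
  obtain ⟨hN, hD, hQ⟩ := KAabs.main (A := Algebra.adjoin R (Set.range b)) (C := Ā) (L := L)
    Subtype.val_injective
  let e : A ≃ₐ[R] Ā := AlgEquiv.ofInjective (IsScalarTower.toAlgHom R A L) hA
  refine ⟨isNoetherianRing_of_ringEquiv Ā e.symm.toRingEquiv, ?_, ?_⟩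
  · rw [Ring.krullDimLE_iff, ringKrullDim_eq_of_ringEquiv e.toRingEquiv]
    exact Ring.krullDimLE_iff.mp hD
  · intro x hx
    have hx₁ : algebraMap R (Algebra.adjoin R (Set.range b)) x ≠ 0 := by
      intro h0
      apply hx
      apply hRL
      rw [map_zero]
      exact congrArg Subtype.val h0
    have h1 := hQ _ hx₁
    haveI : Module.Finite (Algebra.adjoin R (Set.range b))
        (Ā ⧸ Ideal.span {algebraMap (Algebra.adjoin R (Set.range b)) Ā
          (algebraMap R (Algebra.adjoin R (Set.range b)) x)}) := Module.IsNoetherian.finite _ _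
    have h2 : Module.Finite R (Ā ⧸ Ideal.span {algebraMap (Algebra.adjoin R (Set.range b)) Ā
          (algebraMap R (Algebra.adjoin R (Set.range b)) x)}) :=
      Module.Finite.trans (Algebra.adjoin R (Set.range b)) _
    rw [← IsScalarTower.algebraMap_apply R (Algebra.adjoin R (Set.range b)) Ā] at h2
    -- transport along `e`
    have hmap : (Ideal.span {algebraMap R Ā x}).comap (e : A →+* Ā) =
        Ideal.span {algebraMap R A x} := by
      have : Ideal.span {algebraMap R Ā x} = (Ideal.span {algebraMap R A x}).map (e : A →+* Ā) := by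
        rw [Ideal.map_span, Set.image_singleton]
        congr 2
        exact (e.commutes x).symm
      rw [this]
      exact Ideal.comap_map_of_bijective _ e.bijective
    let f : Ā →ₐ[R] A ⧸ Ideal.span {algebraMap R A x} :=
      (Ideal.Quotient.mkₐ R _).comp (e.symm : Ā →ₐ[R] A)
    have hf : ∀ z ∈ Ideal.span {algebraMap R Ā x}, f z = 0 := by
      intro z hz
      change Ideal.Quotient.mk _ (e.symm z) = 0
      rw [Ideal.Quotient.eq_zero_iff_mem, ← hmap, Ideal.mem_comap]
      change e (e.symm z) ∈ _
      rw [AlgEquiv.apply_symm_apply]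
      exact hz
    let g : (Ā ⧸ Ideal.span {algebraMap R Ā x}) →ₐ[R] A ⧸ Ideal.span {algebraMap R A x} :=
      Ideal.Quotient.liftₐ _ f hf
    have hg : Function.Surjective g := by
      intro z
      obtain ⟨a, rfl⟩ := Ideal.Quotient.mk_surjective z
      refine ⟨Ideal.Quotient.mk _ (e a), ?_⟩
      change Ideal.Quotient.mk _ (e.symm (e a)) = _
      rw [AlgEquiv.symm_apply_apply]
    exact Module.Finite.of_surjective g.toLinearMap hg

section Local

variable (R S K L : Type u) [CommRing R] [IsDomain R] [IsNoetherianRing R]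
  [CommRing S] [IsDomain S] [Algebra R S] [Field K] [Field L] [Algebra R K] [IsFractionRing R K]
  [Algebra S L] [IsFractionRing S L] [Algebra K L] [Algebra R L] [IsScalarTower R K L]
  [IsScalarTower R S L] [FiniteDimensional K L]

omit [IsDomain R] [IsNoetherianRing R] [Algebra R S] [Algebra R K] [IsFractionRing R K]
  [Algebra R L] [IsScalarTower R K L] [IsScalarTower R S L] in
/-- a domain with fraction field `L` spans `L` over a subfield `K` over which `L` is finite -/
theorem span_eq_top : Submodule.span K (Set.range (algebraMap S L)) = ⊤ := by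
  haveI : Algebra.IsAlgebraic K L := Algebra.IsAlgebraic.of_finite K L
  have hW : Algebra.adjoin K (Set.range (algebraMap S L)) = ⊤ := by
    rw [eq_top_iff]
    rintro l -
    obtain ⟨s, t, ht, rfl⟩ := IsFractionRing.div_surjective (A := S) l
    have hs : algebraMap S L s ∈ Algebra.adjoin K (Set.range (algebraMap S L)) :=
      Algebra.subset_adjoin ⟨s, rfl⟩
    have ht' : algebraMap S L t ∈ Algebra.adjoin K (Set.range (algebraMap S L)) :=
      Algebra.subset_adjoin ⟨t, rfl⟩
    have hinv := (Algebra.adjoin K (Set.range (algebraMap S L))).inv_mem_of_algebraic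
      (x := ⟨_, ht'⟩) (Algebra.IsAlgebraic.isAlgebraic _)
    rw [div_eq_mul_inv]
    exact Subalgebra.mul_mem _ hs hinv
  have h1 := Algebra.adjoin_eq_span (R := K) (s := Set.range (algebraMap S L))
  have h2 : Submonoid.closure (Set.range (algebraMap S L)) =
      MonoidHom.mrange ((algebraMap S L : S →+* L) : S →* L) := by
    have : Set.range (algebraMap S L) =
        ((MonoidHom.mrange ((algebraMap S L : S →+* L) : S →* L) : Submonoid L) : Set L) := by
      ext x; simp
    rw [this, Submonoid.closure_eq]
  rw [h2, hW] at h1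
  have h3 : ((MonoidHom.mrange ((algebraMap S L : S →+* L) : S →* L) : Submonoid L) : Set L) =
      Set.range (algebraMap S L) := by ext x; simp
  rw [← h3, ← h1]
  rfl

variable [IsLocalRing R]

include K L in
/-- **Stacks 00PH-type**: primes over the maximal ideal of a one-dimensional Noetherian local
domain `R` in a domain `S ⊇ R` with `Frac S` finite over `Frac R`. -/
theorem primesOver_maximalIdeal (hdim : ringKrullDim R = 1) :
    (∀ n ∈ (IsLocalRing.maximalIdeal R).primesOver S, n.IsMaximal) ∧
      ((IsLocalRing.maximalIdeal R).primesOver S).Finite ∧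
      ∀ n ∈ (IsLocalRing.maximalIdeal R).primesOver S, Module.Finite R (S ⧸ n) := by
  classical
  haveI : Ring.KrullDimLE 1 R := Ring.krullDimLE_iff.mpr hdim.le
  obtain ⟨-, -, hQ⟩ := main R K L S (IsFractionRing.injective S L) (span_eq_top S K L)
  -- a nonzero element of the maximal ideal
  have hm : IsLocalRing.maximalIdeal R ≠ ⊥ := by
    intro h
    have hf : IsField R := IsLocalRing.isField_iff_maximalIdeal_eq.mpr h
    rw [ringKrullDim_eq_zero_of_isField hf] at hdim
    exact zero_ne_one hdim
  obtain ⟨x, hxm, hx0⟩ := Submodule.exists_mem_ne_zero_of_ne_bot hm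
  haveI hfinQ := hQ x hx0
  have hle : ∀ n ∈ (IsLocalRing.maximalIdeal R).primesOver S,
      Ideal.span {algebraMap R S x} ≤ n := by
    rintro n ⟨-, hn⟩
    rw [Ideal.span_singleton_le_iff_mem]
    have : x ∈ n.under R := by rw [← hn.over]; exact hxm
    exact this
  have hfin : ∀ n ∈ (IsLocalRing.maximalIdeal R).primesOver S, Module.Finite R (S ⧸ n) := by
    intro n hn
    exact Module.Finite.of_surjective (Ideal.Quotient.factorₐ R (hle n hn)).toLinearMap
      (Ideal.Quotient.factor_surjective (hle n hn))
  have hmax : ∀ n ∈ (IsLocalRing.maximalIdeal R).primesOver S, n.IsMaximal := by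
    intro n hn
    haveI := hfin n hn
    haveI := hn.1
    haveI := hn.2
    haveI : Algebra.IsIntegral R (S ⧸ n) := Algebra.IsIntegral.of_finite R (S ⧸ n)
    haveI : Algebra.IsIntegral (R ⧸ IsLocalRing.maximalIdeal R) (S ⧸ n) :=
      ⟨fun z => (Algebra.IsIntegral.isIntegral (R := R) z).tower_top⟩
    have hF : IsField (R ⧸ IsLocalRing.maximalIdeal R) :=
      (Ideal.Quotient.maximal_ideal_iff_isField_quotient _).mp inferInstance
    exact Ideal.Quotient.maximal_of_isField n
      (isField_of_isIntegral_of_isField' (R := R ⧸ IsLocalRing.maximalIdeal R) hF)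
  refine ⟨hmax, ?_, hfin⟩
  -- finiteness
  haveI : Finite (MaximalSpectrum (S ⧸ Ideal.span {algebraMap R S x})) :=
    Helper14.finite_maxSpec R
  have hsub : (IsLocalRing.maximalIdeal R).primesOver S ⊆
      Set.range fun N : MaximalSpectrum (S ⧸ Ideal.span {algebraMap R S x}) =>
        N.asIdeal.comap (Ideal.Quotient.mk (Ideal.span {algebraMap R S x})) := by
    intro n hn
    haveI := hmax n hn
    have hker : RingHom.ker (Ideal.Quotient.mk (Ideal.span {algebraMap R S x})) ≤ n := by
      rw [Ideal.mk_ker]; exact hle n hn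
    refine ⟨⟨n.map (Ideal.Quotient.mk (Ideal.span {algebraMap R S x})),
      Ideal.IsMaximal.map_of_surjective_of_ker_le Ideal.Quotient.mk_surjective hker⟩, ?_⟩
    change (n.map _).comap _ = n
    rw [Ideal.comap_map_of_surjective _ Ideal.Quotient.mk_surjective, ← RingHom.ker_eq_comap_bot]
    exact sup_eq_left.mpr hker
  exact (Set.finite_range _).subset hsub

end Local

end Groth.Agent.Lib.Helper22.KAFinExt
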