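import Mathlib
import Groth.Prelude.Def_EGA4b
import Groth.Agent.Lib.Helper5.SerreLoc
import Groth.Agent.Lib.helper11.RegularCounting

/-!
# Nagata's criterion for the openness of the regular locus (helper22)
-/

set_option autoImplicit false
set_option linter.style.haveILetI false
universe u
open IsLocalRing

namespace Groth.Agent.Lib.Helper22.NagataCrit

/-- the regular locus is stable under generalization -/
theorem isRegularLocalRing_of_le (A : Type u) [CommRing A] (p q : Ideal A) [p.IsPrime] [q.IsPrime]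
    (hpq : p ≤ q) (hq : IsRegularLocalRing (Localization.AtPrime q)) :
    IsRegularLocalRing (Localization.AtPrime p) := by
  have hdisj : Disjoint (q.primeCompl : Set A) (p : Set A) := by
    rw [Set.disjoint_left]
    intro x hx hxp
    exact hx (hpq hxp)
  let P : Ideal (Localization.AtPrime q) := p.map (algebraMap A (Localization.AtPrime q))
  haveI hP : P.IsPrime := IsLocalization.isPrime_of_isPrime_disjoint q.primeCompl _ p ‹_› hdisj
  have hPc : P.comap (algebraMap A (Localization.AtPrime q)) = p :=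
    IsLocalization.comap_map_of_isPrime_disjoint q.primeCompl _ ‹_› hdisj
  have hreg : IsRegularLocalRing (Localization.AtPrime P) :=
    Groth.Agent.Lib.Helper5.SerreLoc.localization_regular _ P
  haveI h1 : IsLocalization.AtPrime (Localization.AtPrime P)
      (P.comap (algebraMap A (Localization.AtPrime q))) :=
    IsLocalization.isLocalization_isLocalization_atPrime_isLocalization q.primeCompl _ P
  have key : ∀ (p' : Ideal A) [p'.IsPrime], p' = p →
      IsLocalization.AtPrime (Localization.AtPrime P) p' →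
      IsRegularLocalRing (Localization.AtPrime p) := by
    intro p' _ hp' hloc
    subst hp'
    let e : Localization.AtPrime p' ≃ₐ[A] Localization.AtPrime P :=
      IsLocalization.algEquiv p'.primeCompl _ _
    exact IsRegularLocalRing.of_ringEquiv (R := Localization.AtPrime P) e.symm.toRingEquiv
  haveI := Ideal.comap_isPrime (algebraMap A (Localization.AtPrime q)) P
  exact key _ hPc h1

/-- a Noetherian local ring with a prime `P` generated by `ht P` elements and `R/P` regular is
regular -/
theorem regular_of_quotient_prime (R : Type u) [CommRing R] [IsLocalRing R] [IsNoetherianRing R]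
    (P : Ideal R) [P.IsPrime] (hspan : (P.spanFinrank : ℕ∞) ≤ P.height)
    (hreg : IsRegularLocalRing (R ⧸ P)) : IsRegularLocalRing R := by
  apply IsRegularLocalRing.of_spanFinrank_maximalIdeal_le
  have h1 := Groth.Agent.Lib.helper11.RegularCounting.spanFinrank_maximalIdeal_le_add P
  have h2 := Groth.Agent.Lib.helper11.RegularCounting.height_add_ringKrullDim_quotient_le P
  have h3 : ((maximalIdeal (R ⧸ P)).spanFinrank : WithBot ℕ∞) = ringKrullDim (R ⧸ P) :=
    IsRegularLocalRing.spanFinrank_maximalIdeal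
  calc ((maximalIdeal R).spanFinrank : WithBot ℕ∞)
      ≤ ((P.spanFinrank + (maximalIdeal (R ⧸ P)).spanFinrank : ℕ) : WithBot ℕ∞) := by
        exact_mod_cast h1
    _ = ((P.spanFinrank : ℕ∞) : WithBot ℕ∞) + ((maximalIdeal (R ⧸ P)).spanFinrank : WithBot ℕ∞) := by
        push_cast; rfl
    _ ≤ ((P.height : ℕ∞) : WithBot ℕ∞) + ringKrullDim (R ⧸ P) := by
        rw [h3]
        exact add_le_add_left (WithBot.coe_le_coe.mpr hspan) _
    _ ≤ ringKrullDim R := h2

/-- (b) if `A_p` is regular, then `p` is generated, near `p`, by `ht p` elements -/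
theorem exists_generators (A : Type u) [CommRing A] [IsNoetherianRing A] (p : Ideal A) [p.IsPrime]
    (hp : IsRegularLocalRing (Localization.AtPrime p)) :
    ∃ (X : Finset A) (s : A), (X.card : ℕ∞) ≤ p.height ∧ (X : Set A) ⊆ p ∧ s ∉ p ∧
      ∀ y ∈ p, s * y ∈ Ideal.span (X : Set A) := by
  classical
  set Ap := Localization.AtPrime p
  obtain ⟨t, htc, ht⟩ := Submodule.FG.exists_span_finset_card_eq_spanFinrank
    (p := maximalIdeal Ap) (IsNoetherian.noetherian _)
  have hr : ((maximalIdeal Ap).spanFinrank : WithBot ℕ∞) = ((p.height : ℕ∞) : WithBot ℕ∞) := by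
    rw [IsRegularLocalRing.spanFinrank_maximalIdeal,
      IsLocalization.AtPrime.ringKrullDim_eq_height p Ap]
  have hr' : ((maximalIdeal Ap).spanFinrank : ℕ∞) = p.height := by
    exact_mod_cast hr
  -- numerators
  have hnum : ∀ y : Ap, ∃ a : A, ∃ u : Ap, IsUnit u ∧ algebraMap A Ap a = y * u := by
    intro y
    obtain ⟨a, s, rfl⟩ := IsLocalization.exists_mk'_eq p.primeCompl y
    exact ⟨a, algebraMap A Ap s, IsLocalization.map_units Ap s, (IsLocalization.mk'_spec Ap a s).symm⟩
  choose a u hu hau using hnum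
  let X : Finset A := t.image a
  have hXcard : (X.card : ℕ∞) ≤ p.height := by
    rw [← hr', ← htc]
    exact_mod_cast Finset.card_image_le
  have hmapX : (Ideal.span (X : Set A)).map (algebraMap A Ap) = maximalIdeal Ap := by
    rw [Ideal.map_span, ← ht]
    apply le_antisymm
    · rw [Ideal.span_le]
      rintro _ ⟨x, hx, rfl⟩
      rw [Finset.mem_coe, Finset.mem_image] at hx
      obtain ⟨y, hy, rfl⟩ := hx
      rw [hau y]
      exact Ideal.mul_mem_right _ _ (Ideal.subset_span hy)
    · rw [Ideal.span_le]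
      intro y hy
      have : y = algebraMap A Ap (a y) * ((hu y).unit⁻¹ : Apˣ) := by
        rw [hau y, mul_assoc]
        simp
      rw [this]
      exact Ideal.mul_mem_right _ _ (Ideal.subset_span ⟨a y, Finset.mem_coe.mpr
        (Finset.mem_image_of_mem a hy), rfl⟩)
  have hXp : (X : Set A) ⊆ p := by
    intro x hx
    have h1 : algebraMap A Ap x ∈ maximalIdeal Ap := by
      rw [← hmapX]
      exact Ideal.mem_map_of_mem _ (Ideal.subset_span hx)
    exact (IsLocalization.AtPrime.to_map_mem_maximal_iff Ap p x).mp h1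
  -- multipliers
  have hmul : ∀ y ∈ p, ∃ s : A, s ∉ p ∧ s * y ∈ Ideal.span (X : Set A) := by
    intro y hy
    have h1 : algebraMap A Ap y ∈ (Ideal.span (X : Set A)).map (algebraMap A Ap) := by
      rw [hmapX]
      exact (IsLocalization.AtPrime.to_map_mem_maximal_iff Ap p y).mpr hy
    obtain ⟨⟨j, m⟩, hjm⟩ := (IsLocalization.mem_map_algebraMap_iff p.primeCompl Ap).mp h1
    rw [← map_mul] at hjm
    obtain ⟨c, hc⟩ := (IsLocalization.eq_iff_exists p.primeCompl Ap).mp hjm
    refine ⟨c * m, ?_, ?_⟩
    · exact (p.primeCompl.mul_mem c.2 m.2)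
    · have : (c : A) * (m : A) * y = c * j := by
        rw [← hc]; ring
      rw [this]
      exact Ideal.mul_mem_left _ _ j.2
  obtain ⟨G, hG⟩ := (IsNoetherian.noetherian p : p.FG)
  choose! sy hsy1 hsy2 using hmul
  refine ⟨X, ∏ y ∈ G, sy y, hXcard, hXp, ?_, ?_⟩
  · intro hmem
    obtain ⟨y, hyG, hy⟩ := (Ideal.IsPrime.prod_mem_iff (p := p)).mp hmem
    have hyp : y ∈ p := by
      rw [← hG]; exact Ideal.subset_span hyG
    exact hsy1 y hyp hy
  · intro z hz
    rw [← hG] at hz
    refine Submodule.span_induction ?_ ?_ ?_ ?_ hz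
    · intro y hyG
      have hyp : y ∈ p := by
        rw [← hG]; exact Ideal.subset_span hyG
      obtain ⟨c, hc⟩ := Finset.dvd_prod_of_mem sy hyG
      rw [hc, mul_comm (sy y) c, mul_assoc]
      exact Ideal.mul_mem_left _ _ (hsy2 y hyp)
    · simp
    · intro x y _ _ hx hy
      rw [mul_add]
      exact Ideal.add_mem _ hx hy
    · intro a x _ hx
      rw [smul_eq_mul, mul_left_comm]
      exact Ideal.mul_mem_left _ _ hx

/-- a nonempty open subset of the spectrum of a domain contains a basic open -/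
theorem exists_basicOpen_subset (D : Type u) [CommRing D] [IsDomain D]
    (W : Set (PrimeSpectrum D)) (hWo : IsOpen W) (hWn : W.Nonempty) :
    ∃ g : D, g ≠ 0 ∧ ∀ q : PrimeSpectrum D, g ∉ q.asIdeal → q ∈ W := by
  let η : PrimeSpectrum D := ⟨⊥, Ideal.isPrime_bot⟩
  obtain ⟨w, hw⟩ := hWn
  have hη : η ∈ W := by
    have hsp : η ⤳ w := (PrimeSpectrum.le_iff_specializes η w).mp bot_le
    exact hWo.stableUnderGeneralization hsp hw
  obtain ⟨v, ⟨g, rfl⟩, hηv, hvW⟩ :=
    PrimeSpectrum.isTopologicalBasis_basic_opens.exists_subset_of_mem_open hη hWo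
  refine ⟨g, ?_, fun q hq => hvW hq⟩
  intro h0
  apply hηv
  change g ∈ (⊥ : Ideal D)
  rw [h0]; exact Ideal.zero_mem _

theorem exists_spread (A : Type u) [CommRing A] [IsNoetherianRing A] (p : Ideal A) [p.IsPrime]
    (hp : IsRegularLocalRing (Localization.AtPrime p))
    (W : Set (PrimeSpectrum (A ⧸ p))) (hWo : IsOpen W) (hWn : W.Nonempty)
    (hW : W ⊆ EGA4.regLocus (A ⧸ p)) :
    ∃ g : A, g ∉ p ∧ ∀ (q : Ideal A) [q.IsPrime], p ≤ q → g ∉ q →
      IsRegularLocalRing (Localization.AtPrime q) := by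
  classical
  obtain ⟨X, s, hXc, hXp, hs, hsX⟩ := exists_generators A p hp
  obtain ⟨g0, hg0, hg0W⟩ := exists_basicOpen_subset (A ⧸ p) W hWo hWn
  obtain ⟨g₀, rfl⟩ := Ideal.Quotient.mk_surjective g0
  have hg₀ : g₀ ∉ p := fun h => hg0 (Ideal.Quotient.eq_zero_iff_mem.mpr h)
  refine ⟨s * g₀, fun h => (Ideal.IsPrime.mem_or_mem ‹_› h).elim hs hg₀, ?_⟩
  intro q _ hpq hgq
  have hsq : s ∉ q := fun h => hgq (Ideal.mul_mem_right _ _ h)
  have hg₀q : g₀ ∉ q := fun h => hgq (Ideal.mul_mem_left _ _ h)
  set R := Localization.AtPrime q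
  have hdisj : Disjoint (q.primeCompl : Set A) (p : Set A) := by
    rw [Set.disjoint_left]
    intro x hx hxp
    exact hx (hpq hxp)
  set P : Ideal R := p.map (algebraMap A R) with hPdef
  haveI hP : P.IsPrime := IsLocalization.isPrime_of_isPrime_disjoint q.primeCompl _ p ‹_› hdisj
  have hht : P.height = p.height := IsLocalization.height_map_of_disjoint q.primeCompl p hdisj
  -- generators
  have hPspan : P = Ideal.span (algebraMap A R '' (X : Set A)) := by
    apply le_antisymm
    · rw [hPdef, Ideal.map_le_iff_le_comap]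
      intro y hy
      rw [Ideal.mem_comap]
      have h1 : algebraMap A R (s * y) ∈ Ideal.span (algebraMap A R '' (X : Set A)) := by
        rw [← Ideal.map_span]
        exact Ideal.mem_map_of_mem _ (hsX y hy)
      rw [map_mul] at h1
      have hu : IsUnit (algebraMap A R s) := IsLocalization.map_units R (⟨s, hsq⟩ : q.primeCompl)
      exact (Ideal.unit_mul_mem_iff_mem _ hu).mp h1
    · rw [Ideal.span_le]
      rintro _ ⟨x, hx, rfl⟩
      exact Ideal.mem_map_of_mem _ (hXp hx)
  have hspan : (P.spanFinrank : ℕ∞) ≤ P.height := by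
    rw [hht]
    refine le_trans ?_ hXc
    have h1 : P.spanFinrank ≤ (algebraMap A R '' (X : Set A)).ncard := by
      rw [hPspan]
      exact Submodule.spanFinrank_span_le_ncard_of_finite (X.finite_toSet.image _)
    have h2 : (algebraMap A R '' (X : Set A)).ncard ≤ X.card := by
      rw [← Set.ncard_coe_finset]
      exact Set.ncard_image_le X.finite_toSet
    exact_mod_cast h1.trans h2
  -- the quotient
  let mk := Ideal.Quotient.mk p
  let q' : Ideal (A ⧸ p) := q.map mk
  haveI hq' : q'.IsPrime := Ideal.map_isPrime_of_surjective Ideal.Quotient.mk_surjective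
    (by rw [Ideal.mk_ker]; exact hpq)
  have hmem : ∀ x : A, mk x ∈ q' ↔ x ∈ q := fun x => Ideal.mem_quotient_iff_mem hpq
  have hsub : Algebra.algebraMapSubmonoid (A ⧸ p) q.primeCompl = q'.primeCompl := by
    ext x
    constructor
    · rintro ⟨y, hy, rfl⟩
      exact fun h => hy ((hmem y).mp h)
    · intro hx
      obtain ⟨y, rfl⟩ := Ideal.Quotient.mk_surjective x
      exact ⟨y, fun h => hx ((hmem y).mpr h), rfl⟩
  haveI hloc : IsLocalization.AtPrime (R ⧸ P) q' := by
    have : IsLocalization (Algebra.algebraMapSubmonoid (A ⧸ p) q.primeCompl) (R ⧸ P) :=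
      inferInstance
    rw [hsub] at this
    exact this
  have hq'W : (⟨q', hq'⟩ : PrimeSpectrum (A ⧸ p)) ∈ W := by
    apply hg0W
    exact fun h => hg₀q ((hmem g₀).mp h)
  have hreg' : IsRegularLocalRing (Localization.AtPrime q') := hW hq'W
  let e : Localization.AtPrime q' ≃ₐ[A ⧸ p] (R ⧸ P) := IsLocalization.algEquiv q'.primeCompl _ _
  have hreg : IsRegularLocalRing (R ⧸ P) :=
    IsRegularLocalRing.of_ringEquiv (R := Localization.AtPrime q') e.toRingEquiv
  exact regular_of_quotient_prime R P hspan hreg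

/-- **Nagata's criterion** -/
theorem isOpen_regLocus (A : Type u) [CommRing A] [IsNoetherianRing A]
    (h : ∀ p : PrimeSpectrum A, p ∈ EGA4.regLocus A →
      ∃ U : Set (PrimeSpectrum (A ⧸ p.asIdeal)), IsOpen U ∧ U.Nonempty ∧
        U ⊆ EGA4.regLocus (A ⧸ p.asIdeal)) :
    IsOpen (EGA4.regLocus A) := by
  classical
  rw [← isClosed_compl_iff]
  set Z : Set (PrimeSpectrum A) := (EGA4.regLocus A)ᶜ with hZ
  apply isClosed_of_closure_subset
  rw [← PrimeSpectrum.zeroLocus_vanishingIdeal_eq_closure]
  set I := PrimeSpectrum.vanishingIdeal Z with hI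
  intro q hq
  rw [PrimeSpectrum.mem_zeroLocus] at hq
  have hIz : ∀ z ∈ Z, I ≤ z.asIdeal := by
    intro z hz x hx
    exact (PrimeSpectrum.mem_vanishingIdeal Z x).mp hx z hz
  obtain ⟨p, hpmin, hpq⟩ := Ideal.exists_minimalPrimes_le (show I ≤ q.asIdeal from hq)
  haveI hpprime : p.IsPrime := hpmin.1.1
  have hIp : I ≤ p := hpmin.1.2
  -- the claim
  have claim : (⟨p, hpprime⟩ : PrimeSpectrum A) ∈ Z := by
    intro hpreg
    obtain ⟨W, hWo, hWn, hW⟩ := h ⟨p, hpprime⟩ hpreg
    obtain ⟨g, hg, hspread⟩ := exists_spread A p hpreg W hWo hWn hW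
    have hfin : (I.minimalPrimes).Finite := Ideal.finite_minimalPrimes_of_isNoetherianRing A I
    let F : Finset (Ideal A) := hfin.toFinset.erase p
    have hJ : ¬ (F.inf id ≤ p) := by
      intro hle
      obtain ⟨p', hp'F, hp'p⟩ := (Ideal.IsPrime.inf_le' hpprime).mp hle
      rw [Finset.mem_erase, Set.Finite.mem_toFinset] at hp'F
      apply hp'F.1
      exact le_antisymm hp'p (hpmin.2 hp'F.2.1 hp'p)
    obtain ⟨x, hxJ, hxp⟩ := SetLike.not_le_iff_exists.mp hJ
    have hgx : g * x ∈ I := by
      rw [hI, PrimeSpectrum.mem_vanishingIdeal]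
      intro z hz
      obtain ⟨p', hp'min, hp'z⟩ := Ideal.exists_minimalPrimes_le (hIz z hz)
      by_cases hpp : p' = p
      · subst hpp
        by_contra hgz
        have hgz' : g ∉ z.asIdeal := fun hmem => hgz (Ideal.mul_mem_right _ _ hmem)
        exact hz (hspread z.asIdeal hp'z hgz')
      · have hp'F : p' ∈ F := by
          rw [Finset.mem_erase, Set.Finite.mem_toFinset]
          exact ⟨hpp, hp'min⟩
        have : x ∈ p' := (Finset.inf_le hp'F : F.inf id ≤ id p') hxJ
        exact Ideal.mul_mem_left _ _ (hp'z this)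
    rcases Ideal.IsPrime.mem_or_mem hpprime (hIp hgx) with h1 | h1
    · exact hg h1
    · exact hxp h1
  intro hqreg
  apply claim
  exact isRegularLocalRing_of_le A p q.asIdeal hpq hqreg

end Groth.Agent.Lib.Helper22.NagataCrit
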