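import Mathlib
import Groth.Prelude.Def_EGA4b
import Groth.Agent.Lib.Helper22.NagataCrit

/-!
# Regularity of localizations of a base change, in terms of the regular locus (helper22)
-/

set_option autoImplicit false
set_option linter.unusedSectionVars false
set_option linter.style.haveILetI false
universe u

namespace Groth.Agent.Lib.Helper22.AdicSmOpen

open IsLocalRing TensorProduct

section Loc

variable (C : Type u) [CommRing C] [IsNoetherianRing C] (M : Submonoid C)
  (T : Type u) [CommRing T] [Algebra C T] [IsLocalization M T]

include M in
/-- the local ring of a localization at a prime is the local ring at the contracted prime -/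
theorem isRegularLocalRing_iff_comap (Q : Ideal T) [Q.IsPrime] :
    IsRegularLocalRing (Localization.AtPrime Q) ↔
      IsRegularLocalRing (Localization.AtPrime (Q.comap (algebraMap C T))) := by
  haveI : IsLocalization.AtPrime (Localization.AtPrime Q) (Q.comap (algebraMap C T)) :=
    IsLocalization.isLocalization_isLocalization_atPrime_isLocalization M
      (Localization.AtPrime Q) Q
  let e : Localization.AtPrime (Q.comap (algebraMap C T)) ≃ₐ[C] Localization.AtPrime Q :=
    IsLocalization.algEquiv (Q.comap (algebraMap C T)).primeCompl _ _
  constructor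
  · intro h
    exact IsRegularLocalRing.of_ringEquiv e.symm.toRingEquiv
  · intro h
    exact IsRegularLocalRing.of_ringEquiv e.toRingEquiv

theorem isRegularRing_of_forall_disjoint
    (h : ∀ (P : Ideal C) [P.IsPrime], Disjoint (M : Set C) (P : Set C) →
      IsRegularLocalRing (Localization.AtPrime P)) : IsRegularRing T := by
  haveI : IsNoetherianRing T := IsLocalization.isNoetherianRing M T inferInstance
  refine (isRegularRing_iff).2 fun Q hQ => ?_
  rw [isRegularLocalRing_iff_comap C M T Q]
  exact h _ ((IsLocalization.isPrime_iff_isPrime_disjoint M T Q).1 hQ).2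

theorem isRegularLocalRing_of_disjoint [IsRegularRing T] (P : Ideal C) [hP : P.IsPrime]
    (hd : Disjoint (M : Set C) (P : Set C)) : IsRegularLocalRing (Localization.AtPrime P) := by
  haveI hQ : (P.map (algebraMap C T)).IsPrime :=
    IsLocalization.isPrime_of_isPrime_disjoint M T P hP hd
  have hc : (P.map (algebraMap C T)).comap (algebraMap C T) = P :=
    IsLocalization.comap_map_of_isPrime_disjoint M T hP hd
  have h1 := (isRegularLocalRing_iff_comap C M T (P.map (algebraMap C T))).1 inferInstance
  have gen : ∀ (P' : Ideal C) [P'.IsPrime], P' = P →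
      IsRegularLocalRing (Localization.AtPrime P') → IsRegularLocalRing (Localization.AtPrime P) := by
    intro P' _ hPP' h
    subst hPP'
    exact h
  exact gen _ hc h1

end Loc

section Integral

variable (B C : Type u) [CommRing B] [CommRing C] [Algebra B C] [IsNoetherianRing C]
  [Algebra.IsIntegral B C]

/-- For an integral `B`-algebra `C` and a prime `n` of `B`, a localization of `C` at the image
of `B ∖ n` is regular iff all primes of `C` over `n` are in the regular locus. -/
theorem isRegularRing_localization_iff (n : Ideal B) [n.IsPrime]
    (T : Type u) [CommRing T] [Algebra C T]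
    [IsLocalization (Algebra.algebraMapSubmonoid C n.primeCompl) T] :
    IsRegularRing T ↔ ∀ P : PrimeSpectrum C, P.asIdeal.comap (algebraMap B C) = n →
      P ∈ EGA4.regLocus C := by
  constructor
  · intro h P hP
    haveI := h
    refine isRegularLocalRing_of_disjoint C (Algebra.algebraMapSubmonoid C n.primeCompl) T
      P.asIdeal ?_
    rw [Set.disjoint_left]
    rintro c ⟨b, hb, rfl⟩ hc
    apply hb
    rw [← hP]
    exact hc
  · intro h
    refine isRegularRing_of_forall_disjoint C (Algebra.algebraMapSubmonoid C n.primeCompl) T ?_
    intro P hP hd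
    have hle : P.comap (algebraMap B C) ≤ n := by
      intro b hb
      by_contra hbn
      exact (Set.disjoint_left.1 hd) ⟨b, hbn, rfl⟩ hb
    obtain ⟨P', hPP', hP'prime, hP'n⟩ :=
      Ideal.exists_ideal_over_prime_of_isIntegral_of_isPrime n P hle
    haveI := hP'prime
    have h1 : IsRegularLocalRing (Localization.AtPrime P') := h ⟨P', hP'prime⟩ hP'n
    exact Groth.Agent.Lib.Helper22.NagataCrit.isRegularLocalRing_of_le C P P' hPP' h1

/-- consequently the set of such primes is open if the regular locus of `C` is -/
theorem isOpen_setOf_forall_over (h : IsOpen (EGA4.regLocus C)) :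
    IsOpen {n : PrimeSpectrum B | ∀ P : PrimeSpectrum C,
      P.asIdeal.comap (algebraMap B C) = n.asIdeal → P ∈ EGA4.regLocus C} := by
  have hcl : IsClosed ((PrimeSpectrum.comap (algebraMap B C)) '' (EGA4.regLocus C)ᶜ) :=
    PrimeSpectrum.isClosedMap_comap_of_isIntegral (algebraMap B C)
      Algebra.IsIntegral.isIntegral _ h.isClosed_compl
  convert hcl.isOpen_compl using 1
  ext n
  simp only [Set.mem_setOf_eq, Set.mem_compl_iff, Set.mem_image, not_exists, not_and]
  constructor
  · intro hn P hP hPn
    apply hP
    apply hn P
    rw [← hPn]
    rfl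
  · intro hn P hP
    by_contra hPr
    apply hn P hPr
    ext1
    exact hP

end Integral

end Groth.Agent.Lib.Helper22.AdicSmOpen
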