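import Mathlib
import Groth.Prelude.Def_EGA4b
import Groth.Agent.S4573
import Groth.Agent.Lib.Helper5.RegHomDescent

/-!
# `k^{1/p}` and adic formal smoothness over a field with `[k : k^p] < ∞` (helper22)
-/

set_option autoImplicit false
set_option linter.unusedSectionVars false
set_option linter.style.haveILetI false
universe u

namespace Groth.Agent.Lib.Helper22.AdicSmOpen

open IsLocalRing TensorProduct

/-- the field `k^{1/p}`, realized as `k` with the Frobenius algebra structure -/
def PRoot (_p : ℕ) (k : Type u) : Type u := k

section

variable (p : ℕ) (k : Type u) [Field k]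

noncomputable instance : Field (PRoot p k) := inferInstanceAs (Field k)

variable [ExpChar k p]

noncomputable instance : Algebra k (PRoot p k) :=
  RingHom.toAlgebra (R := k) (S := PRoot p k) (frobenius k p)

theorem algebraMap_pRoot (a : k) : algebraMap k (PRoot p k) a = (a ^ p : k) := rfl

theorem pow_mem_range (x : PRoot p k) : x ^ p ∈ (algebraMap k (PRoot p k)).range :=
  ⟨x, rfl⟩

theorem finite_pRoot (hk : p = 1 ∨ Module.Finite (frobenius k p).fieldRange k) :
    Module.Finite k (PRoot p k) := by
  have hfin : Module.Finite (frobenius k p).fieldRange k := by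
    rcases hk with h1 | h
    · subst h1
      have htop : (frobenius k 1).fieldRange = ⊤ := by
        rw [RingHom.fieldRange_eq_top_iff]
        intro x
        exact ⟨x, by simp [frobenius_def]⟩
      refine ⟨⟨{1}, ?_⟩⟩
      rw [eq_top_iff]
      intro x _
      have hx : x ∈ (frobenius k 1).fieldRange := by rw [htop]; trivial
      have : x = (⟨x, hx⟩ : (frobenius k 1).fieldRange) • (1 : k) := by
        rw [Subfield.smul_def, smul_eq_mul, mul_one]
      rw [this]
      exact Submodule.smul_mem _ _ (Submodule.subset_span (by simp))
    · exact h
  let e : k ≃+* (frobenius k p).fieldRange := (frobenius k p).rangeRestrictFieldEquiv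
  let f : k →ₛₗ[(e.symm : (frobenius k p).fieldRange →+* k)] PRoot p k :=
    { toFun := fun y => (y : k)
      map_add' := fun _ _ => rfl
      map_smul' := by
        intro c y
        change ((c : k) * y : k) = ((e.symm c : k) ^ p * y : k)
        congr 1
        have h1 : ((e (e.symm c) : (frobenius k p).fieldRange) : k) = (e.symm c : k) ^ p := rfl
        rw [← h1, e.apply_symm_apply] }
  exact Module.Finite.of_surjective f (fun y => ⟨y, rfl⟩)

/-- universal property of `k^{1/p}` -/
theorem nonempty_algHom_pRoot (k' : Type u) [Field k'] [Algebra k k']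
    (h : ∀ x : k', x ^ p ∈ (algebraMap k k').range) : Nonempty (k' →ₐ[k] PRoot p k) := by
  haveI : ExpChar k' p := expChar_of_injective_algebraMap (algebraMap k k').injective p
  choose ψ hψ using h
  have hinj := (algebraMap k k').injective
  refine ⟨{ toFun := fun x => (ψ x : k)
            map_one' := ?_
            map_mul' := ?_
            map_zero' := ?_
            map_add' := ?_
            commutes' := ?_ }⟩
  · apply hinj
    change algebraMap k k' (ψ 1) = algebraMap k k' (1 : k)
    rw [hψ, one_pow, map_one]
  · intro x y
    apply hinj
    change algebraMap k k' (ψ (x * y)) = algebraMap k k' ((ψ x : k) * (ψ y : k))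
    rw [hψ, map_mul, hψ, hψ, mul_pow]
  · apply hinj
    change algebraMap k k' (ψ 0) = algebraMap k k' (0 : k)
    rw [hψ, map_zero, zero_pow (expChar_pos k' p).ne']
  · intro x y
    apply hinj
    change algebraMap k k' (ψ (x + y)) = algebraMap k k' ((ψ x : k) + (ψ y : k))
    rw [hψ, map_add, hψ, hψ, add_pow_expChar]
  · intro a
    apply hinj
    change algebraMap k k' (ψ (algebraMap k k' a)) = algebraMap k k' (a ^ p : k)
    rw [hψ, map_pow]

end

end Groth.Agent.Lib.Helper22.AdicSmOpen
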