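import Mathlib
import Groth.Prelude.Def_EGA4b
import Groth.Agent.Lib.Helper22.AdicSmOpenA
import Groth.Agent.Lib.Helper22.AdicSmOpenB

/-!
# Openness of the adically-formally-smooth locus over a field with `[k : k^p] < ∞` (helper22)
-/

set_option autoImplicit false
set_option linter.unusedSectionVars false
set_option linter.style.haveILetI false
universe u

namespace Groth.Agent.Lib.Helper22.AdicSmOpen

open IsLocalRing TensorProduct

variable (p : ℕ) (k : Type u) [Field k] [ExpChar k p]

/-- EGA 0_IV 22.5.8 with `k^{1/p}` finite over `k`: a single test field suffices. -/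
theorem adicSmooth_iff_regular_pRoot
    (hk : p = 1 ∨ Module.Finite (frobenius k p).fieldRange k)
    (R : Type u) [CommRing R] [IsLocalRing R] [IsNoetherianRing R] [Algebra k R] :
    CAlgX.IsAdicFormallySmooth k R (maximalIdeal R) ↔ IsRegularRing (R ⊗[k] PRoot p k) := by
  rw [Groth.Agent.S4573.result p]
  constructor
  · intro h
    haveI h1 := h (PRoot p k) (finite_pRoot p k hk) (pow_mem_range p k)
    exact IsRegularRing.of_ringEquiv (Algebra.TensorProduct.comm k (PRoot p k) R).toRingEquiv
  · intro h k' _ _ hfin hpow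
    obtain ⟨φ⟩ := nonempty_algHom_pRoot p k k' hpow
    letI : Algebra k' (PRoot p k) := φ.toRingHom.toAlgebra
    haveI : IsScalarTower k k' (PRoot p k) := .of_algebraMap_eq (fun a => (φ.commutes a).symm)
    haveI : Module.FaithfullyFlat k' (PRoot p k) := inferInstance
    haveI h2 := Groth.Agent.Lib.Helper5.RegHom.regular_tensor_descent k k' (PRoot p k) R h
    exact IsRegularRing.of_ringEquiv (Algebra.TensorProduct.comm k R k').toRingEquiv

/-- the adic-formally-smooth locus of a Noetherian `k`-algebra `B` is open as soon as the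
regular locus of `B ⊗_k k^{1/p}` is. -/
theorem isOpen_adicSmooth_locus_of_isOpen_regLocus
    (hk : p = 1 ∨ Module.Finite (frobenius k p).fieldRange k)
    (B : Type u) [CommRing B] [IsNoetherianRing B] [Algebra k B]
    (h : IsOpen (EGA4.regLocus (B ⊗[k] PRoot p k))) :
    IsOpen {n : PrimeSpectrum B | CAlgX.IsAdicFormallySmooth k (Localization.AtPrime n.asIdeal)
      (maximalIdeal (Localization.AtPrime n.asIdeal))} := by
  haveI := finite_pRoot p k hk
  haveI : Module.Finite B (B ⊗[k] PRoot p k) := inferInstance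
  haveI : IsNoetherianRing (B ⊗[k] PRoot p k) := IsNoetherianRing.of_finite B _
  haveI : Algebra.IsIntegral B (B ⊗[k] PRoot p k) := inferInstance
  convert isOpen_setOf_forall_over B (B ⊗[k] PRoot p k) h using 1
  ext n
  simp only [Set.mem_setOf_eq]
  rw [adicSmooth_iff_regular_pRoot p k hk]
  letI alg : Algebra (B ⊗[k] PRoot p k) (Localization.AtPrime n.asIdeal ⊗[k] PRoot p k) :=
    (Algebra.TensorProduct.map (IsScalarTower.toAlgHom k B (Localization.AtPrime n.asIdeal))
      (AlgHom.id k (PRoot p k))).toRingHom.toAlgebra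
  haveI : IsScalarTower B (B ⊗[k] PRoot p k) (Localization.AtPrime n.asIdeal ⊗[k] PRoot p k) := by
    refine .of_algebraMap_eq (fun b => ?_)
    change _ = (Algebra.TensorProduct.map (IsScalarTower.toAlgHom k B
      (Localization.AtPrime n.asIdeal)) (AlgHom.id k (PRoot p k))) (algebraMap B _ b)
    rw [Algebra.TensorProduct.algebraMap_apply, Algebra.TensorProduct.algebraMap_apply,
      Algebra.TensorProduct.map_tmul]
    simp
  haveI : IsLocalization (Algebra.algebraMapSubmonoid (B ⊗[k] PRoot p k) n.asIdeal.primeCompl)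
      (Localization.AtPrime n.asIdeal ⊗[k] PRoot p k) := by
    refine IsLocalization.tensorProduct_tensorProduct k (PRoot p k) n.asIdeal.primeCompl
      (Localization.AtPrime n.asIdeal) ?_
    ext s
    change (Algebra.TensorProduct.map (IsScalarTower.toAlgHom k B
      (Localization.AtPrime n.asIdeal)) (AlgHom.id k (PRoot p k))) (1 ⊗ₜ s) = 1 ⊗ₜ s
    rw [Algebra.TensorProduct.map_tmul]
    simp
  exact isRegularRing_localization_iff B (B ⊗[k] PRoot p k) n.asIdeal
    (Localization.AtPrime n.asIdeal ⊗[k] PRoot p k)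

/-- over a J-2 base -/
theorem isOpen_adicSmooth_locus_quotient
    (hk : p = 1 ∨ Module.Finite (frobenius k p).fieldRange k)
    (A : Type u) [CommRing A] [IsNoetherianRing A] [Algebra k A] (hJ : EGA4.IsJ2 A)
    (q : Ideal A) :
    IsOpen {n : PrimeSpectrum (A ⧸ q) |
      CAlgX.IsAdicFormallySmooth k (Localization.AtPrime n.asIdeal)
        (maximalIdeal (Localization.AtPrime n.asIdeal))} := by
  apply isOpen_adicSmooth_locus_of_isOpen_regLocus p k hk (A ⧸ q)
  haveI := finite_pRoot p k hk
  apply hJ
  haveI : Algebra.FiniteType A (A ⧸ q) :=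
    Algebra.FiniteType.of_surjective (Algebra.ofId A (A ⧸ q)) Ideal.Quotient.mk_surjective
  haveI : Module.Finite (A ⧸ q) ((A ⧸ q) ⊗[k] PRoot p k) := inferInstance
  haveI : Algebra.FiniteType (A ⧸ q) ((A ⧸ q) ⊗[k] PRoot p k) := inferInstance
  exact Algebra.FiniteType.trans (S := A ⧸ q) inferInstance inferInstance

end Groth.Agent.Lib.Helper22.AdicSmOpen
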