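import Mathlib
import Groth.Agent.Lib.Helper5.PowSerSmooth

/-!
# Artinian local algebras as unions of essentially finite type flat subalgebras (S6854), part A
-/

set_option autoImplicit false
set_option linter.style.haveILetI false
set_option linter.unusedSectionVars false
universe u

namespace Groth.Agent.Lib.Helper22.ArtUnion

open TensorProduct KaehlerDifferential

/-- **Derivation decomposition** from finiteness of `H₁(L_{K/k})`. -/
theorem derDecomp {k K : Type u} [Field k] [Field K] [Algebra k K]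
    (hH : Module.Finite K (Algebra.H1Cotangent k K))
    (M : Type u) [AddCommGroup M] [Module K M] (θ : k → M)
    (hadd : ∀ a b, θ (a + b) = θ a + θ b)
    (hmul : ∀ a b, θ (a * b) = algebraMap k K a • θ b + algebraMap k K b • θ a) :
    ∃ D : K → M, (∀ x y, D (x + y) = D x + D y) ∧ (∀ x y, D (x * y) = x • D y + y • D x) ∧
      ∃ (ι : Type u) (J₀ : Finset ι) (f : ι → M) (α : ι → k → k),
        ∀ a, θ a = D (algebraMap k K a) + ∑ i ∈ J₀, algebraMap k K (α i a) • f i := by
  classical
  letI modk : Module k M := Module.compHom M (algebraMap k K)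
  haveI : IsScalarTower k K M := ⟨fun a x m => by
    change (a • x) • m = algebraMap k K a • (x • m)
    rw [Algebra.smul_def, mul_smul]⟩
  have hθ0 : θ 0 = 0 := by
    have h := hadd 0 0
    rw [add_zero] at h
    exact left_eq_add.mp h
  have hθ1 : θ 1 = 0 := by
    have h := hmul 1 1
    rw [mul_one, map_one, one_smul] at h
    exact left_eq_add.mp h
  let θa : k →+ M := { toFun := θ, map_zero' := hθ0, map_add' := hadd }
  let θd : Derivation ℤ k M :=
    { toLinearMap := θa.toIntLinearMap
      map_one_eq_zero' := hθ1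
      leibniz' := fun a b => hmul a b }
  have hθd : ∀ a, θd a = θ a := fun a => rfl
  let L : Ω[k⁄ℤ] →ₗ[k] M := θd.liftKaehlerDifferential
  have hL : ∀ a, L (KaehlerDifferential.D ℤ k a) = θ a := fun a =>
    θd.liftKaehlerDifferential_comp_D a
  let b := Module.Free.chooseBasis k (Ω[k⁄ℤ])
  let bK := Algebra.TensorProduct.basis K b
  have hbK : ∀ i, bK i = (1 : K) ⊗ₜ[k] b i := fun i => Algebra.TensorProduct.basis_apply b i
  let g : K ⊗[k] Ω[k⁄ℤ] →ₗ[K] Ω[K⁄ℤ] := KaehlerDifferential.mapBaseChange ℤ k K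
  have hN : (LinearMap.ker g).FG := by
    have hex := Algebra.H1Cotangent.exact_δ_mapBaseChange ℤ k K
    rw [LinearMap.exact_iff.mp hex, ← Submodule.map_top]
    exact (Module.Finite.fg_top (R := K) (M := Algebra.H1Cotangent k K)).map _
  obtain ⟨s, hs⟩ := hN
  let J₀ : Finset _ := s.biUnion (fun v => (bK.repr v).support)
  have hsupp : ∀ v ∈ LinearMap.ker g, ∀ i ∉ J₀, bK.repr v i = 0 := by
    intro v hv
    rw [← hs] at hv
    refine Submodule.span_induction ?_ ?_ ?_ ?_ hv
    · intro x hx i hi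
      by_contra hne
      exact hi (Finset.mem_biUnion.mpr ⟨x, hx, Finsupp.mem_support_iff.mpr hne⟩)
    · intro i _; simp
    · intro x y _ _ hx hy i hi
      rw [map_add, Finsupp.add_apply, hx i hi, hy i hi, add_zero]
    · intro c x _ hx i hi
      rw [map_smul, Finsupp.smul_apply, hx i hi, smul_zero]
  let v : {i // i ∉ J₀} → K ⊗[k] Ω[k⁄ℤ] := fun i => bK i.1
  have hvli : LinearIndependent K v :=
    bK.linearIndependent.comp _ Subtype.val_injective
  have hvsupp : ∀ x ∈ Submodule.span K (Set.range v), ∀ i ∈ J₀, bK.repr x i = 0 := by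
    intro x hx
    refine Submodule.span_induction ?_ ?_ ?_ ?_ hx
    · rintro _ ⟨i', rfl⟩ i hi
      change bK.repr (bK i'.1) i = 0
      rw [Module.Basis.repr_self, Finsupp.single_apply, if_neg]
      intro h; exact i'.2 (h ▸ hi)
    · intro i _; simp
    · intro x y _ _ hx hy i hi
      rw [map_add, Finsupp.add_apply, hx i hi, hy i hi, add_zero]
    · intro c x _ hx i hi
      rw [map_smul, Finsupp.smul_apply, hx i hi, smul_zero]
  have hwli : LinearIndependent K (g ∘ v) := by
    refine hvli.map ?_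
    rw [Submodule.disjoint_def]
    intro x hx1 hx2
    have : bK.repr x = 0 := by
      ext i
      by_cases hi : i ∈ J₀
      · exact hvsupp x hx1 i hi
      · exact hsupp x hx2 i hi
    exact (bK.repr.map_eq_zero_iff).mp this
  -- the linear form on `Ω_K`
  let bs := Module.Basis.span hwli
  let Λ' : Submodule.span K (Set.range (g ∘ v)) →ₗ[K] M := bs.constr K (fun i => L (b i.1))
  obtain ⟨Dlin, hDlin⟩ := LinearMap.exists_extend Λ'
  have hDw : ∀ i : {i // i ∉ J₀}, Dlin (g (bK i.1)) = L (b i.1) := by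
    intro i
    have h1 : (bs i : Ω[K⁄ℤ]) = g (bK i.1) := congrArg Subtype.val (Module.Basis.span_apply hwli i)
    have h2 : Dlin (bs i : Ω[K⁄ℤ]) = Λ' (bs i) := congrArg (fun t => t (bs i)) hDlin
    rw [← h1, h2]
    exact bs.constr_basis K _ i
  let f : _ → M := fun i => L (b i) - Dlin (g (bK i))
  have hf0 : ∀ i ∉ J₀, f i = 0 := by
    intro i hi
    change L (b i) - Dlin (g (bK i)) = 0
    rw [hDw ⟨i, hi⟩, sub_self]
  refine ⟨fun x => Dlin (KaehlerDifferential.D ℤ K x), ?_, ?_, _, J₀, f,
    fun i a => b.repr (KaehlerDifferential.D ℤ k a) i, ?_⟩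
  · intro x y
    beta_reduce
    rw [map_add, map_add]
  · intro x y
    beta_reduce
    rw [Derivation.leibniz, map_add, map_smul, map_smul]
  · intro a
    beta_reduce
    -- two `k`-linear maps on `Ω_k`
    let Δ : Ω[k⁄ℤ] →ₗ[k] M :=
      L - (Dlin.restrictScalars k).comp ((g.restrictScalars k).comp
        ((TensorProduct.mk k K (Ω[k⁄ℤ])) 1))
    have hΔ : ∀ ω, Δ ω = L ω - Dlin (g ((1 : K) ⊗ₜ[k] ω)) := fun ω => rfl
    let Δ' : Ω[k⁄ℤ] →ₗ[k] M :=
      ∑ i ∈ J₀, ((LinearMap.id : k →ₗ[k] k).smulRight (f i)).comp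
        ((Finsupp.lapply i).comp b.repr.toLinearMap)
    have hΔ' : ∀ ω, Δ' ω = ∑ i ∈ J₀, algebraMap k K (b.repr ω i) • f i := by
      intro ω
      simp only [Δ', LinearMap.sum_apply, LinearMap.comp_apply, LinearMap.smulRight_apply,
        LinearMap.id_apply, Finsupp.lapply_apply, LinearEquiv.coe_coe]
      rfl
    have hΔΔ' : Δ = Δ' := by
      apply b.ext
      intro i₀
      rw [hΔ, hΔ', ← hbK]
      simp only [Module.Basis.repr_self, Finsupp.single_apply]
      by_cases h0 : i₀ ∈ J₀
      · rw [Finset.sum_eq_single i₀]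
        · simp [f]
        · intro i _ hne
          rw [if_neg (Ne.symm hne), map_zero, zero_smul]
        · intro h; exact absurd h0 h
      · rw [Finset.sum_eq_zero]
        · exact hf0 i₀ h0
        · intro i hi
          rw [if_neg, map_zero, zero_smul]
          intro h; exact h0 (h ▸ hi)
    have h1 : g ((1 : K) ⊗ₜ[k] KaehlerDifferential.D ℤ k a) =
        KaehlerDifferential.D ℤ K (algebraMap k K a) := by
      change KaehlerDifferential.mapBaseChange ℤ k K _ = _
      rw [KaehlerDifferential.mapBaseChange_tmul, one_smul, KaehlerDifferential.map_D]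
    have h2 : Δ (KaehlerDifferential.D ℤ k a) = Δ' (KaehlerDifferential.D ℤ k a) := by
      rw [hΔΔ']
    rw [hΔ, hΔ', hL, h1] at h2
    rw [← h2]
    abel

/-- lifting ring homs from a field of characteristic `p` along nilpotent surjections -/
theorem exists_lift_ringHom (p : ℕ) [Fact p.Prime] {L : Type u} [Field L] [CharP L p]
    {B C : Type u} [CommRing B] [CommRing C] (φ : ZMod p →+* B) (g : B →+* C)
    (hg : Function.Surjective g) (hnil : IsNilpotent (RingHom.ker g)) (f : L →+* C) :
    ∃ f' : L →+* B, g.comp f' = f := by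
  letI := ZMod.algebra L p
  letI : Algebra (ZMod p) B := φ.toAlgebra
  letI : Algebra (ZMod p) C := (g.comp φ).toAlgebra
  haveI : Algebra.FormallySmooth (ZMod p) L :=
    Groth.Agent.Lib.Helper5.PowSer.formallySmooth_of_perfectField
  let gA : B →ₐ[ZMod p] C := { g with commutes' := fun r => rfl }
  let fA : L →ₐ[ZMod p] C :=
    { f with
      commutes' := fun r =>
        RingHom.congr_fun (Subsingleton.elim (f.comp (algebraMap (ZMod p) L))
          (algebraMap (ZMod p) C)) r }
  have hnil' : IsNilpotent (RingHom.ker gA) := hnil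
  refine ⟨(Algebra.FormallySmooth.liftOfSurjective fA gA hg hnil').toRingHom, ?_⟩
  ext x
  exact Algebra.FormallySmooth.liftOfSurjective_apply fA gA hg hnil' x

/-- nilpotent Nakayama for subrings -/
theorem subring_eq_top_of_nilpotent {Λ : Type*} [CommRing Λ] (B : Subring Λ) {ι : Type*}
    (g : ι → Λ) (hg : ∀ t, g t ∈ B) (n : ℕ) (hn : Ideal.span (Set.range g) ^ n = ⊥)
    (h : ∀ z : Λ, ∃ b ∈ B, z - b ∈ Ideal.span (Set.range g)) : B = ⊤ := by
  have Q : ∀ r : ℕ, ∀ y ∈ Ideal.span (Set.range g) ^ r,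
      ∃ b ∈ B, y - b ∈ Ideal.span (Set.range g) ^ (r + 1) := by
    intro r
    induction r with
    | zero =>
      intro y _
      obtain ⟨b, hb, hyb⟩ := h y
      exact ⟨b, hb, by simpa using hyb⟩
    | succ r ih =>
      intro y hy
      rw [pow_succ] at hy
      refine Submodule.mul_induction_on hy ?_ ?_
      · intro a ha x hx
        -- induct on `x ∈ span (range g)`, generalizing `a`
        have key : ∀ x ∈ Ideal.span (Set.range g), ∀ a ∈ Ideal.span (Set.range g) ^ r,
            ∃ b ∈ B, a * x - b ∈ Ideal.span (Set.range g) ^ (r + 1 + 1) := by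
          intro x hx
          refine Submodule.span_induction ?_ ?_ ?_ ?_ hx
          · rintro _ ⟨t, rfl⟩ a ha
            obtain ⟨b, hb, hab⟩ := ih a ha
            refine ⟨b * g t, B.mul_mem hb (hg t), ?_⟩
            rw [← sub_mul, pow_succ (Ideal.span (Set.range g)) (r + 1)]
            exact Ideal.mul_mem_mul hab (Ideal.subset_span ⟨t, rfl⟩)
          · intro a _
            exact ⟨0, B.zero_mem, by simp⟩
          · intro x y _ _ hx hy a ha
            obtain ⟨b₁, hb₁, h₁⟩ := hx a ha
            obtain ⟨b₂, hb₂, h₂⟩ := hy a ha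
            refine ⟨b₁ + b₂, B.add_mem hb₁ hb₂, ?_⟩
            have : a * (x + y) - (b₁ + b₂) = (a * x - b₁) + (a * y - b₂) := by ring
            rw [this]
            exact Ideal.add_mem _ h₁ h₂
          · intro c x _ hx a ha
            obtain ⟨b, hb, hab⟩ := hx (a * c) (Ideal.mul_mem_right _ _ ha)
            refine ⟨b, hb, ?_⟩
            have : a * (c • x) - b = a * c * x - b := by rw [smul_eq_mul]; ring
            rw [this]
            exact hab
        exact key x hx a ha
      · intro x y hx hy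
        obtain ⟨b₁, hb₁, h₁⟩ := hx
        obtain ⟨b₂, hb₂, h₂⟩ := hy
        refine ⟨b₁ + b₂, B.add_mem hb₁ hb₂, ?_⟩
        have : x + y - (b₁ + b₂) = (x - b₁) + (y - b₂) := by ring
        rw [this]
        exact Ideal.add_mem _ h₁ h₂
  have R : ∀ r : ℕ, ∀ z : Λ, ∃ b ∈ B, z - b ∈ Ideal.span (Set.range g) ^ r := by
    intro r
    induction r with
    | zero => intro z; exact ⟨0, B.zero_mem, by simp⟩
    | succ r ih =>
      intro z
      obtain ⟨b, hb, hzb⟩ := ih z
      obtain ⟨b', hb', h'⟩ := Q r _ hzb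
      refine ⟨b + b', B.add_mem hb hb', ?_⟩
      have : z - (b + b') = z - b - b' := by ring
      rw [this]
      exact h'
  rw [eq_top_iff]
  intro z _
  obtain ⟨b, hb, hzb⟩ := R n z
  rw [hn, Ideal.mem_bot, sub_eq_zero] at hzb
  rw [hzb]
  exact hb

section RR

variable {k K Λ : Type u} [Field k] [Field K] [Algebra k K] [CommRing Λ]

/-- the subfield generated by `k` and a finite set -/
def FF (k : Type u) {K : Type u} [Field k] [Field K] [Algebra k K] (S : Finset K) : Subfield K :=
  Subfield.closure (Set.range (algebraMap k K) ∪ ↑S)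

theorem FF_mono {S T : Finset K} (h : S ⊆ T) : FF k S ≤ FF k T :=
  Subfield.closure_mono (Set.union_subset_union_right _ (Finset.coe_subset.mpr h))

theorem algebraMap_mem_FF (S : Finset K) (c : k) : algebraMap k K c ∈ FF k S :=
  Subfield.subset_closure (Or.inl ⟨c, rfl⟩)

theorem mem_FF_of_mem {S : Finset K} {x : K} (hx : x ∈ S) : x ∈ FF k S :=
  Subfield.subset_closure (Or.inr hx)

/-- the subring generated by `σ(F_S)` and the `λ`s -/
def RR (k : Type u) {K Λ : Type u} [Field k] [Field K] [Algebra k K] [CommRing Λ]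
    (σ : K →+* Λ) {d : ℕ} (lam : Fin d → Λ) (S : Finset K) : Subring Λ :=
  Subring.closure (σ '' (FF k S : Set K) ∪ Set.range lam)

variable (σ : K →+* Λ) {d : ℕ} (lam : Fin d → Λ)

theorem RR_mono {S T : Finset K} (h : S ⊆ T) : RR k σ lam S ≤ RR k σ lam T :=
  Subring.closure_mono (Set.union_subset_union_left _ (Set.image_mono (FF_mono h)))

theorem map_mem_RR {S : Finset K} {x : K} (hx : x ∈ FF k S) : σ x ∈ RR k σ lam S :=
  Subring.subset_closure (Or.inl ⟨x, hx, rfl⟩)

theorem lam_mem_RR (S : Finset K) (t : Fin d) : lam t ∈ RR k σ lam S :=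
  Subring.subset_closure (Or.inr ⟨t, rfl⟩)

/-- everything is generated by `σ(K)` and the `λ`s -/
theorem closure_eq_top (π : Λ →+* K) (hπσ : π.comp σ = RingHom.id K)
    (hlam : Ideal.span (Set.range lam) = RingHom.ker π) (n : ℕ) (hn : RingHom.ker π ^ n = ⊥) :
    Subring.closure (Set.range σ ∪ Set.range lam) = ⊤ := by
  refine subring_eq_top_of_nilpotent _ lam (fun t => Subring.subset_closure (Or.inr ⟨t, rfl⟩)) n
    (by rw [hlam]; exact hn) ?_
  intro z
  refine ⟨σ (π z), Subring.subset_closure (Or.inl ⟨_, rfl⟩), ?_⟩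
  rw [hlam, RingHom.mem_ker, map_sub]
  have : π (σ (π z)) = π z := congrArg (fun f => f (π z)) hπσ
  rw [this, sub_self]

/-- every element of the closure lies in some `RR` -/
theorem exists_finset_mem_RR [DecidableEq K] {z : Λ}
    (hz : z ∈ Subring.closure (Set.range σ ∪ Set.range lam)) :
    ∃ S : Finset K, z ∈ RR k σ lam S := by
  refine Subring.closure_induction ?_ ?_ ?_ ?_ ?_ ?_ hz
  · rintro x (⟨y, rfl⟩ | ⟨t, rfl⟩)
    · exact ⟨{y}, map_mem_RR σ lam (mem_FF_of_mem (Finset.mem_singleton_self y))⟩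
    · exact ⟨∅, lam_mem_RR σ lam ∅ t⟩
  · exact ⟨∅, Subring.zero_mem _⟩
  · exact ⟨∅, Subring.one_mem _⟩
  · rintro x y _ _ ⟨S, hS⟩ ⟨T, hT⟩
    exact ⟨S ∪ T, Subring.add_mem _ (RR_mono σ lam Finset.subset_union_left hS)
      (RR_mono σ lam Finset.subset_union_right hT)⟩
  · rintro x _ ⟨S, hS⟩
    exact ⟨S, Subring.neg_mem _ hS⟩
  · rintro x y _ _ ⟨S, hS⟩ ⟨T, hT⟩
    exact ⟨S ∪ T, Subring.mul_mem _ (RR_mono σ lam Finset.subset_union_left hS)
      (RR_mono σ lam Finset.subset_union_right hT)⟩

end RR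

section Modify

variable {K Λ : Type u} [Field K] [CommRing Λ] (π : Λ →+* K) (σ₀ : K →+* Λ)
  (hπσ : π.comp σ₀ = RingHom.id K) (I : Ideal Λ) (hI : I ≤ RingHom.ker π)
  (hIm : I * RingHom.ker π = ⊥)

include hπσ hI hIm

theorem mul_eq_of_map_eq {a a' y : Λ} (ha : π a = π a') (hy : y ∈ I) : a * y = a' * y := by
  have h1 : a - a' ∈ RingHom.ker π := by rw [RingHom.mem_ker, map_sub, ha, sub_self]
  have h2 : y * (a - a') ∈ I * RingHom.ker π := Ideal.mul_mem_mul hy h1
  rw [hIm, Ideal.mem_bot] at h2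
  have : a * y - a' * y = y * (a - a') := by ring
  exact sub_eq_zero.mp (this.trans h2)

theorem mul_eq_zero_of_mem {x y : Λ} (hx : x ∈ I) (hy : y ∈ I) : x * y = 0 := by
  have h2 : x * y ∈ I * RingHom.ker π := Ideal.mul_mem_mul hx (hI hy)
  rw [hIm, Ideal.mem_bot] at h2
  exact h2

/-- the modified section `σ₀ + D` -/
def modSection (D : K → I) (hDadd : ∀ x y, D (x + y) = D x + D y)
    (hDmul : ∀ x y, D (x * y) = σ₀ x • D y + σ₀ y • D x) : K →+* Λ where
  toFun x := σ₀ x + (D x : Λ)
  map_one' := by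
    have h := hDmul 1 1
    rw [mul_one, map_one, one_smul] at h
    have h1 : D 1 = 0 := left_eq_add.mp h
    rw [h1, map_one, Submodule.coe_zero, add_zero]
  map_mul' x y := by
    rw [hDmul, map_mul]
    have h0 := mul_eq_zero_of_mem π σ₀ hπσ I hI hIm (D x).2 (D y).2
    simp only [Submodule.coe_add, Submodule.coe_smul, smul_eq_mul]
    linear_combination -h0
  map_zero' := by
    have h := hDadd 0 0
    rw [add_zero] at h
    have h1 : D 0 = 0 := left_eq_add.mp h
    rw [h1, map_zero, Submodule.coe_zero, add_zero]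
  map_add' x y := by
    rw [hDadd, map_add, Submodule.coe_add]
    ring

theorem modSection_apply (D : K → I) (hDadd : ∀ x y, D (x + y) = D x + D y)
    (hDmul : ∀ x y, D (x * y) = σ₀ x • D y + σ₀ y • D x) (x : K) :
    modSection π σ₀ hπσ I hI hIm D hDadd hDmul x = σ₀ x + (D x : Λ) := rfl

theorem comp_modSection (D : K → I) (hDadd : ∀ x y, D (x + y) = D x + D y)
    (hDmul : ∀ x y, D (x * y) = σ₀ x • D y + σ₀ y • D x) :
    π.comp (modSection π σ₀ hπσ I hI hIm D hDadd hDmul) = RingHom.id K := by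
  ext x
  rw [RingHom.comp_apply, modSection_apply, map_add]
  have h1 : π (σ₀ x) = x := congrArg (fun f => f x) hπσ
  have h2 : π (D x : Λ) = 0 := hI (D x).2
  rw [h1, h2, add_zero]
  rfl


/-- transfer of membership under modification of the section -/
theorem add_D_mem_RR {k : Type u} [Field k] [Algebra k K] {d : ℕ} (lam : Fin d → Λ)
    (hlam : ∀ t, lam t ∈ RingHom.ker π)
    (D : K → I) (hDadd : ∀ x y, D (x + y) = D x + D y)
    (hDmul : ∀ x y, D (x * y) = σ₀ x • D y + σ₀ y • D x) (S : Finset K) {z : Λ}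
    (hz : z ∈ RR k σ₀ lam S) :
    z + (D (π z) : Λ) ∈ RR k (modSection π σ₀ hπσ I hI hIm D hDadd hDmul) lam S := by
  have hD0 : D 0 = 0 := by
    have h := hDadd 0 0
    rw [add_zero] at h
    exact left_eq_add.mp h
  have hD1 : D 1 = 0 := by
    have h := hDmul 1 1
    rw [mul_one, map_one, one_smul] at h
    exact left_eq_add.mp h
  have hDneg : ∀ x, D (-x) = -D x := by
    intro x
    have h := hDadd x (-x)
    rw [add_neg_cancel, hD0] at h
    exact (neg_eq_of_add_eq_zero_right h.symm).symm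
  refine Subring.closure_induction ?_ ?_ ?_ ?_ ?_ ?_ hz
  · rintro x (⟨y, hy, rfl⟩ | ⟨t, rfl⟩)
    · have h1 : π (σ₀ y) = y := congrArg (fun f => f y) hπσ
      rw [h1, ← modSection_apply π σ₀ hπσ I hI hIm D hDadd hDmul]
      exact map_mem_RR _ lam hy
    · have h1 : π (lam t) = 0 := hlam t
      rw [h1, hD0, Submodule.coe_zero, add_zero]
      exact lam_mem_RR _ lam S t
  · rw [map_zero, hD0, Submodule.coe_zero, add_zero]
    exact Subring.zero_mem _
  · rw [map_one, hD1, Submodule.coe_zero, add_zero]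
    exact Subring.one_mem _
  · intro x y _ _ hx hy
    have : x + y + (D (π (x + y)) : Λ) = (x + (D (π x) : Λ)) + (y + (D (π y) : Λ)) := by
      rw [map_add, hDadd, Submodule.coe_add]; ring
    rw [this]
    exact Subring.add_mem _ hx hy
  · intro x _ hx
    have : -x + (D (π (-x)) : Λ) = -(x + (D (π x) : Λ)) := by
      rw [map_neg, hDneg, Submodule.coe_neg]; ring
    rw [this]
    exact Subring.neg_mem _ hx
  · intro x y _ _ hx hy
    have h1 : x * (D (π y) : Λ) = σ₀ (π x) * (D (π y) : Λ) :=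
      mul_eq_of_map_eq π σ₀ hπσ I hI hIm
        ((congrArg (fun f => f (π x)) hπσ).symm) (D (π y)).2
    have h2 : y * (D (π x) : Λ) = σ₀ (π y) * (D (π x) : Λ) :=
      mul_eq_of_map_eq π σ₀ hπσ I hI hIm
        ((congrArg (fun f => f (π y)) hπσ).symm) (D (π x)).2
    have h0 := mul_eq_zero_of_mem π σ₀ hπσ I hI hIm (D (π x)).2 (D (π y)).2
    have : x * y + (D (π (x * y)) : Λ) = (x + (D (π x) : Λ)) * (y + (D (π y) : Λ)) := by
      rw [map_mul, hDmul]
      simp only [Submodule.coe_add, Submodule.coe_smul, smul_eq_mul]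
      linear_combination -h1 - h2 - h0
    rw [this]
    exact Subring.mul_mem _ hx hy

end Modify

end Groth.Agent.Lib.Helper22.ArtUnion
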