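import Mathlib
import Groth.Agent.Lib.Helper22.ArtUnionA

/-!
# S6854 part B: the claim (existence of a good section), by induction on the nilpotency index
-/

set_option autoImplicit false
set_option linter.style.haveILetI false
set_option linter.unusedSectionVars false
universe u

namespace Groth.Agent.Lib.Helper22.ArtUnion

open TensorProduct KaehlerDifferential

section Claim

variable (p : ℕ) [Fact p.Prime] {k K : Type u} [Field k] [Field K] [Algebra k K] [CharP k p]

/-- the statement of the claim for nilpotency index `n` -/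
def ClaimAt (k K : Type u) [Field k] [Field K] [Algebra k K] (n : ℕ) : Prop :=
  ∀ (Λ : Type u) [CommRing Λ] (i : k →+* Λ) (π : Λ →+* K), Function.Surjective π →
    π.comp i = algebraMap k K → ∀ (d : ℕ) (lam : Fin d → Λ),
    Ideal.span (Set.range lam) = RingHom.ker π → RingHom.ker π ^ n = ⊥ →
    ∃ σ : K →+* Λ, π.comp σ = RingHom.id K ∧ ∃ S : Finset K, ∀ c, i c ∈ RR k σ lam S

theorem claim_zero : ClaimAt k K 0 := by
  intro Λ _ i π hπ _ d lam _ hn
  exfalso
  rw [pow_zero, Ideal.one_eq_top] at hn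
  have h1 : (1 : Λ) ∈ (⊥ : Ideal Λ) := hn ▸ Submodule.mem_top
  rw [Ideal.mem_bot] at h1
  have : (1 : K) = 0 := by rw [← map_one π, h1, map_zero]
  exact one_ne_zero this

theorem claim_one : ClaimAt k K 1 := by
  classical
  intro Λ _ i π hπ hπi d lam _ hn
  rw [pow_one] at hn
  have hinj : Function.Injective π := (RingHom.injective_iff_ker_eq_bot π).mpr hn
  let e : Λ ≃+* K := RingEquiv.ofBijective π ⟨hinj, hπ⟩
  refine ⟨e.symm.toRingHom, ?_, ∅, ?_⟩
  · ext x
    exact e.apply_symm_apply x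
  · intro c
    have h1 : i c = e.symm.toRingHom (algebraMap k K c) := by
      apply hinj
      have : π (i c) = algebraMap k K c := congrArg (fun f => f c) hπi
      rw [this]
      exact (e.apply_symm_apply _).symm
    rw [h1]
    exact map_mem_RR _ lam (algebraMap_mem_FF ∅ c)


include p in
theorem claim_succ (hH : Module.Finite K (Algebra.H1Cotangent k K)) (n : ℕ) (hn1 : 1 ≤ n)
    (ih : ClaimAt k K n) : ClaimAt k K (n + 1) := by
  classical
  intro Λ _ i π hπ hπi d lam hlam hn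
  -- the square-zero ideal
  have hIm : RingHom.ker π ^ n * RingHom.ker π = ⊥ := by rw [← pow_succ]; exact hn
  have hI : RingHom.ker π ^ n ≤ RingHom.ker π := Ideal.pow_le_self (by omega)
  have hII : RingHom.ker π ^ n * RingHom.ker π ^ n = ⊥ := by
    rw [eq_bot_iff, ← hIm]
    exact Ideal.mul_mono_right hI
  -- the quotient
  have hπ' : ∀ a ∈ RingHom.ker π ^ n, π a = 0 := fun a ha => hI ha
  let π' : Λ ⧸ RingHom.ker π ^ n →+* K := Ideal.Quotient.lift _ π hπ'
  have hπ'mk : ∀ x, π' (Ideal.Quotient.mk _ x) = π x := fun x => Ideal.Quotient.lift_mk _ _ _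
  have hker' : RingHom.ker π' = (RingHom.ker π).map (Ideal.Quotient.mk (RingHom.ker π ^ n)) := by
    apply le_antisymm
    · intro x' hx'
      obtain ⟨x, rfl⟩ := Ideal.Quotient.mk_surjective x'
      rw [RingHom.mem_ker, hπ'mk] at hx'
      exact Ideal.mem_map_of_mem _ hx'
    · rw [Ideal.map_le_iff_le_comap]
      intro x hx
      rw [Ideal.mem_comap, RingHom.mem_ker, hπ'mk]
      exact hx
  obtain ⟨σ', hσ', S', hS'⟩ := ih (Λ ⧸ RingHom.ker π ^ n)
    ((Ideal.Quotient.mk (RingHom.ker π ^ n)).comp i) π'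
    (fun x => by obtain ⟨y, rfl⟩ := hπ x; exact ⟨Ideal.Quotient.mk _ y, hπ'mk y⟩)
    (by ext c; exact (hπ'mk (i c)).trans (congrArg (fun f => f c) hπi))
    d (fun t => Ideal.Quotient.mk (RingHom.ker π ^ n) (lam t))
    (by
      rw [hker', ← hlam, Ideal.map_span, ← Set.range_comp]
      rfl)
    (by rw [hker', ← Ideal.map_pow, Ideal.map_quotient_self])
  -- lift the section
  letI algZk : Algebra (ZMod p) k := ZMod.algebra k p
  haveI : CharP K p := charP_of_injective_algebraMap (algebraMap k K).injective p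
  let φ : ZMod p →+* Λ := i.comp (algebraMap (ZMod p) k)
  have hqnil : IsNilpotent (RingHom.ker (Ideal.Quotient.mk (RingHom.ker π ^ n))) := by
    refine ⟨2, ?_⟩
    rw [Ideal.mk_ker, pow_two]
    exact hII
  obtain ⟨σ₀, hσ₀⟩ := exists_lift_ringHom p φ (Ideal.Quotient.mk (RingHom.ker π ^ n))
    Ideal.Quotient.mk_surjective hqnil σ'
  have hσ₀' : ∀ x, Ideal.Quotient.mk (RingHom.ker π ^ n) (σ₀ x) = σ' x :=
    fun x => congrArg (fun f => f x) hσ₀
  have hπσ₀ : π.comp σ₀ = RingHom.id K := by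
    ext x
    rw [RingHom.comp_apply, ← hπ'mk, hσ₀']
    exact congrArg (fun f => f x) hσ'
  -- the subrings
  have hmapRR : (RR k σ₀ lam S').map (Ideal.Quotient.mk (RingHom.ker π ^ n)) =
      RR k σ' (fun t => Ideal.Quotient.mk (RingHom.ker π ^ n) (lam t)) S' := by
    unfold RR
    rw [RingHom.map_closure, Set.image_union, Set.image_image, ← Set.range_comp]
    congr 2
    ext y
    simp only [Set.mem_image, hσ₀']
  have hq_mem : ∀ x : RR k σ₀ lam S', Ideal.Quotient.mk (RingHom.ker π ^ n) (x : Λ) ∈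
      RR k σ' (fun t => Ideal.Quotient.mk (RingHom.ker π ^ n) (lam t)) S' := by
    intro x
    rw [← hmapRR]
    exact Subring.mem_map.mpr ⟨x, x.2, rfl⟩
  let gR : RR k σ₀ lam S' →+* RR k σ' (fun t => Ideal.Quotient.mk (RingHom.ker π ^ n) (lam t)) S' :=
    ((Ideal.Quotient.mk (RingHom.ker π ^ n)).comp (RR k σ₀ lam S').subtype).codRestrict _ hq_mem
  have hgR : ∀ x, ((gR x : _) : Λ ⧸ RingHom.ker π ^ n) =
      Ideal.Quotient.mk (RingHom.ker π ^ n) (x : Λ) := fun x => rfl
  have hgRsurj : Function.Surjective gR := by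
    rintro ⟨y, hy⟩
    rw [← hmapRR] at hy
    obtain ⟨x, hx, rfl⟩ := Subring.mem_map.mp hy
    exact ⟨⟨x, hx⟩, rfl⟩
  have hgRnil : IsNilpotent (RingHom.ker gR) := by
    refine ⟨2, ?_⟩
    rw [pow_two, Ideal.zero_eq_bot, eq_bot_iff, Ideal.mul_le]
    intro a ha b hb
    rw [Ideal.mem_bot]
    have ha' : (a : Λ) ∈ RingHom.ker π ^ n := by
      rw [RingHom.mem_ker] at ha
      have := congrArg Subtype.val ha
      rw [hgR] at this
      exact Ideal.Quotient.eq_zero_iff_mem.mp this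
    have hb' : (b : Λ) ∈ RingHom.ker π ^ n := by
      rw [RingHom.mem_ker] at hb
      have := congrArg Subtype.val hb
      rw [hgR] at this
      exact Ideal.Quotient.eq_zero_iff_mem.mp this
    apply Subtype.ext
    have h2 : (a : Λ) * (b : Λ) ∈ RingHom.ker π ^ n * RingHom.ker π ^ n :=
      Ideal.mul_mem_mul ha' hb'
    rw [hII, Ideal.mem_bot] at h2
    exact h2
  let i'R : k →+* RR k σ' (fun t => Ideal.Quotient.mk (RingHom.ker π ^ n) (lam t)) S' :=
    ((Ideal.Quotient.mk (RingHom.ker π ^ n)).comp i).codRestrict _ hS'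
  have hφmem : ∀ r : ZMod p, φ r ∈ RR k σ₀ lam S' := by
    intro r
    rw [← ZMod.natCast_zmod_val r, map_natCast]
    exact natCast_mem _ _
  let φR : ZMod p →+* RR k σ₀ lam S' := φ.codRestrict _ hφmem
  obtain ⟨τ, hτ⟩ := exists_lift_ringHom p φR gR hgRsurj hgRnil i'R
  have hτq : ∀ c, Ideal.Quotient.mk (RingHom.ker π ^ n) ((τ c : _) : Λ) =
      Ideal.Quotient.mk (RingHom.ker π ^ n) (i c) := by
    intro c
    have h1 : gR (τ c) = i'R c := congrArg (fun f => f c) hτ
    have h2 := congrArg Subtype.val h1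
    rw [hgR] at h2
    exact h2
  -- the derivation θ
  have hθmem : ∀ c, i c - (τ c : Λ) ∈ RingHom.ker π ^ n := by
    intro c
    rw [← Ideal.Quotient.eq_zero_iff_mem, map_sub, hτq, sub_self]
  have hπi' : ∀ c, π (i c) = algebraMap k K c := fun c => congrArg (fun f => f c) hπi
  have hπτ : ∀ c, π (τ c : Λ) = algebraMap k K c := by
    intro c
    rw [← hπ'mk, hτq, hπ'mk]
    exact hπi' c
  have hπσ₀' : ∀ x, π (σ₀ x) = x := fun x => congrArg (fun f => f x) hπσ₀
  letI modK : Module K (RingHom.ker π ^ n : Ideal Λ) := Module.compHom _ σ₀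
  have hsmul : ∀ (x : K) (y : (RingHom.ker π ^ n : Ideal Λ)),
      ((x • y : (RingHom.ker π ^ n : Ideal Λ)) : Λ) = σ₀ x * (y : Λ) := fun x y => rfl
  let θ : k → (RingHom.ker π ^ n : Ideal Λ) := fun c => ⟨i c - (τ c : Λ), hθmem c⟩
  have hθadd : ∀ a b, θ (a + b) = θ a + θ b := by
    intro a b
    apply Subtype.ext
    change i (a + b) - ((τ (a + b) : _) : Λ) = (i a - (τ a : Λ)) + (i b - (τ b : Λ))
    rw [map_add, map_add, Subring.coe_add]
    ring
  have hθmul : ∀ a b, θ (a * b) = algebraMap k K a • θ b + algebraMap k K b • θ a := by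
    intro a b
    apply Subtype.ext
    rw [Submodule.coe_add, hsmul, hsmul]
    change i (a * b) - ((τ (a * b) : _) : Λ) =
      σ₀ (algebraMap k K a) * (i b - (τ b : Λ)) + σ₀ (algebraMap k K b) * (i a - (τ a : Λ))
    have h1 : i a * (i b - (τ b : Λ)) = σ₀ (algebraMap k K a) * (i b - (τ b : Λ)) :=
      mul_eq_of_map_eq π σ₀ hπσ₀ _ hI hIm (by rw [hπi', hπσ₀']) (hθmem b)
    have h2 : (τ b : Λ) * (i a - (τ a : Λ)) = σ₀ (algebraMap k K b) * (i a - (τ a : Λ)) :=
      mul_eq_of_map_eq π σ₀ hπσ₀ _ hI hIm (by rw [hπτ, hπσ₀']) (hθmem a)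
    rw [map_mul, map_mul, Subring.coe_mul, ← h1, ← h2]
    ring
  obtain ⟨D, hDadd, hDmul, ι, J₀, f, α, hθ⟩ := derDecomp hH _ θ hθadd hθmul
  have hDmul' : ∀ x y, D (x * y) = σ₀ x • D y + σ₀ y • D x := fun x y => hDmul x y
  -- the new section
  have hσdef : ∀ x, modSection π σ₀ hπσ₀ _ hI hIm D hDadd hDmul' x = σ₀ x + (D x : Λ) :=
    fun x => rfl
  have hπσ := comp_modSection π σ₀ hπσ₀ _ hI hIm D hDadd hDmul'
  have htop := closure_eq_top (modSection π σ₀ hπσ₀ _ hI hIm D hDadd hDmul') lam π hπσ hlam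
    (n + 1) hn
  have hex : ∀ j : ι, ∃ S : Finset K,
      (f j : Λ) ∈ RR k (modSection π σ₀ hπσ₀ _ hI hIm D hDadd hDmul') lam S := by
    intro j
    exact exists_finset_mem_RR _ lam (by rw [htop]; exact Subring.mem_top _)
  choose Sf hSf using hex
  refine ⟨modSection π σ₀ hπσ₀ _ hI hIm D hDadd hDmul', hπσ, S' ∪ J₀.biUnion Sf, ?_⟩
  intro c
  have e1 : i c = ((τ c : Λ) + (D (π (τ c : Λ)) : Λ)) +
      ∑ j ∈ J₀, modSection π σ₀ hπσ₀ _ hI hIm D hDadd hDmul' (algebraMap k K (α j c)) *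
        (f j : Λ) := by
    have h1 := congrArg Subtype.val (hθ c)
    rw [Submodule.coe_add, Submodule.coe_sum] at h1
    change i c - (τ c : Λ) = _ at h1
    rw [hπτ]
    have h2 : ∀ j ∈ J₀, modSection π σ₀ hπσ₀ _ hI hIm D hDadd hDmul' (algebraMap k K (α j c)) *
        (f j : Λ) = ((algebraMap k K (α j c) • f j : (RingHom.ker π ^ n : Ideal Λ)) : Λ) := by
      intro j _
      rw [hsmul, hσdef, add_mul,
        mul_eq_zero_of_mem π σ₀ hπσ₀ _ hI hIm (D _).2 (f j).2, add_zero]
    rw [Finset.sum_congr rfl h2]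
    linear_combination h1
  rw [e1]
  refine Subring.add_mem _ ?_ ?_
  · exact RR_mono _ lam Finset.subset_union_left
      (add_D_mem_RR π σ₀ hπσ₀ _ hI hIm lam (fun t => by rw [← hlam]; exact Ideal.subset_span ⟨t, rfl⟩)
        D hDadd hDmul' S' (τ c).2)
  · refine Subring.sum_mem _ (fun j hj => ?_)
    refine Subring.mul_mem _ (map_mem_RR _ lam (algebraMap_mem_FF _ _)) ?_
    refine RR_mono _ lam ?_ (hSf j)
    exact (Finset.subset_biUnion_of_mem Sf hj).trans Finset.subset_union_right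


include p in
theorem claim (hH : Module.Finite K (Algebra.H1Cotangent k K)) : ∀ n, ClaimAt k K n := by
  intro n
  induction n with
  | zero => exact claim_zero
  | succ n ih =>
    rcases Nat.eq_zero_or_pos n with h0 | hpos
    · subst h0
      exact claim_one
    · exact claim_succ p hH n hpos ih

end Claim

end Groth.Agent.Lib.Helper22.ArtUnion
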