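import Mathlib
import Groth.Agent.Lib.Helper22.ArtUnionA

/-!
# S6854 part C: subalgebras of elements with coordinates in a subfield
-/

set_option autoImplicit false
set_option linter.style.haveILetI false
set_option linter.unusedSectionVars false
universe u

namespace Groth.Agent.Lib.Helper22.ArtUnion

open TensorProduct IsLocalRing

section Coord

variable {K Λ : Type u} [Field K] [CommRing Λ] [Algebra K Λ] {ι : Type} [Fintype ι] [DecidableEq ι]
  (u : Module.Basis ι K Λ)

theorem repr_mul (x y : Λ) (c : ι) :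
    u.repr (x * y) c = ∑ a, ∑ b, u.repr x a * u.repr y b * u.repr (u a * u b) c := by
  have h1 : x * y = ∑ a, ∑ b, (u.repr x a * u.repr y b) • (u a * u b) := by
    conv_lhs => rw [← u.sum_repr x, ← u.sum_repr y]
    rw [Finset.sum_mul_sum]
    refine Finset.sum_congr rfl (fun a _ => Finset.sum_congr rfl (fun b _ => ?_))
    rw [smul_mul_smul_comm]
  rw [h1]
  simp only [map_sum, map_smul, Finsupp.coe_finsetSum, Finsupp.coe_smul, Finset.sum_apply,
    Pi.smul_apply, smul_eq_mul]

/-- the subring of elements with coordinates in `F` -/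
def coordSubring (F : Subfield K) (h1 : ∀ c, u.repr 1 c ∈ F)
    (hmul : ∀ a b c, u.repr (u a * u b) c ∈ F) : Subring Λ where
  carrier := {x | ∀ c, u.repr x c ∈ F}
  mul_mem' := by
    intro x y hx hy c
    rw [repr_mul]
    exact Subfield.sum_mem _ (fun a _ => Subfield.sum_mem _ (fun b _ =>
      F.mul_mem (F.mul_mem (hx a) (hy b)) (hmul a b c)))
  one_mem' := h1
  add_mem' := by
    intro x y hx hy c
    rw [map_add, Finsupp.add_apply]
    exact F.add_mem (hx c) (hy c)
  zero_mem' := by
    intro c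
    rw [map_zero, Finsupp.zero_apply]
    exact F.zero_mem
  neg_mem' := by
    intro x hx c
    rw [map_neg, Finsupp.neg_apply]
    exact F.neg_mem (hx c)

variable (F : Subfield K) (h1 : ∀ c, u.repr 1 c ∈ F) (hmul : ∀ a b c, u.repr (u a * u b) c ∈ F)

theorem mem_coordSubring {x : Λ} : x ∈ coordSubring u F h1 hmul ↔ ∀ c, u.repr x c ∈ F := Iff.rfl

theorem algebraMap_mem_coordSubring {x : K} (hx : x ∈ F) :
    algebraMap K Λ x ∈ coordSubring u F h1 hmul := by
  intro c
  rw [Algebra.algebraMap_eq_smul_one, map_smul, Finsupp.smul_apply, smul_eq_mul]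
  exact F.mul_mem hx (h1 c)

theorem basis_mem_coordSubring (a : ι) : u a ∈ coordSubring u F h1 hmul := by
  intro c
  rw [Module.Basis.repr_self, Finsupp.single_apply]
  split_ifs
  · exact F.one_mem
  · exact F.zero_mem

end Coord

section CoordAlg

variable {K Λ : Type u} [Field K] [CommRing Λ] [Algebra K Λ] {ι : Type} [Fintype ι] [DecidableEq ι]
  (u : Module.Basis ι K Λ) (F : Subfield K)
  {k : Type u} [CommRing k] [Algebra k Λ] (A : Subalgebra k Λ)
  (hA : ∀ x, x ∈ A ↔ ∀ c, u.repr x c ∈ F)

include hA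

theorem algebraMap_mem_of_mem {x : K} (hx : x ∈ F) : algebraMap K Λ x ∈ A := by
  rw [hA]
  intro c
  rw [Algebra.algebraMap_eq_smul_one, map_smul, Finsupp.smul_apply, smul_eq_mul]
  exact F.mul_mem hx ((hA 1).mp A.one_mem c)

theorem basis_mem (a : ι) : u a ∈ A := by
  rw [hA]
  intro c
  rw [Module.Basis.repr_self, Finsupp.single_apply]
  split_ifs
  · exact F.one_mem
  · exact F.zero_mem

/-- the structure map `F → A` -/
def toA : F →+* A :=
  ((algebraMap K Λ).comp F.subtype).codRestrict A.toSubring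
    (fun x => algebraMap_mem_of_mem u F A hA x.2)

/-- the `F`-linear coordinate equivalence `A ≃ (ι → F)` -/
noncomputable def coordEquiv :
    letI : Algebra F A := (toA u F A hA).toAlgebra
    A ≃ₗ[F] (ι → F) :=
  letI : Algebra F A := (toA u F A hA).toAlgebra
  { toFun := fun x c => ⟨u.repr (x : Λ) c, (hA x).mp x.2 c⟩
    map_add' := by
      intro x y
      funext c
      apply Subtype.ext
      simp
    map_smul' := by
      intro r x
      funext c
      apply Subtype.ext
      change u.repr ((algebraMap K Λ (r : K)) * (x : Λ)) c = (r : K) * u.repr (x : Λ) c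
      rw [← Algebra.smul_def, map_smul, Finsupp.smul_apply, smul_eq_mul]
    invFun := fun v => ⟨∑ c, (v c : K) • u c, by
      rw [hA]
      intro c
      simp only [map_sum, map_smul, Module.Basis.repr_self, Finsupp.coe_finsetSum,
        Finsupp.coe_smul, Finset.sum_apply, Pi.smul_apply, Finsupp.single_apply, smul_eq_mul,
        mul_ite, mul_one, mul_zero, Finset.sum_ite_eq', Finset.mem_univ, if_true]
      exact (v c).2⟩
    left_inv := by
      intro x
      apply Subtype.ext
      exact u.sum_repr (x : Λ)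
    right_inv := by
      intro v
      funext c
      apply Subtype.ext
      simp only [map_sum, map_smul, Module.Basis.repr_self, Finsupp.coe_finsetSum,
        Finsupp.coe_smul, Finset.sum_apply, Pi.smul_apply, Finsupp.single_apply, smul_eq_mul,
        mul_ite, mul_one, mul_zero, Finset.sum_ite_eq', Finset.mem_univ, if_true] }


theorem coordEquiv_symm_single (c : ι) :
    letI : Algebra F A := (toA u F A hA).toAlgebra
    (((coordEquiv u F A hA).symm (Pi.single c 1) : A) : Λ) = u c := by
  letI : Algebra F A := (toA u F A hA).toAlgebra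
  change ∑ c', (((Pi.single c 1 : ι → F) c' : F) : K) • u c' = u c
  rw [Finset.sum_eq_single c]
  · rw [Pi.single_eq_same]
    simp
  · intro b _ hb
    rw [Pi.single_eq_of_ne hb]
    simp
  · intro h; exact absurd (Finset.mem_univ c) h

theorem flat_of_coord : Module.Flat A Λ := by
  classical
  letI algFA : Algebra F A := (toA u F A hA).toAlgebra
  haveI : IsScalarTower F A Λ := IsScalarTower.of_algebraMap_eq (fun x => rfl)
  let uA : Module.Basis ι F A := Module.Basis.ofEquivFun (coordEquiv u F A hA)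
  have huA : ∀ c, ((uA c : A) : Λ) = u c := by
    intro c
    rw [Module.Basis.coe_ofEquivFun]
    exact coordEquiv_symm_single u F A hA c
  let e := Module.Free.chooseBasis F K
  let Ψ : A ⊗[F] K →ₐ[A] Λ :=
    Algebra.TensorProduct.lift (Algebra.ofId A Λ) (IsScalarTower.toAlgHom F K Λ)
      (fun _ _ => Commute.all _ _)
  have hΨ : ∀ (a : A) (κ : K), Ψ (a ⊗ₜ κ) = (a : Λ) * algebraMap K Λ κ := by
    intro a κ
    exact Algebra.TensorProduct.lift_tmul _ _ _ a κ
  let b₁ := Module.Basis.tensorProduct uA e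
  let b₂ := e.smulTower u
  have hb : ∀ (c : ι) β, Ψ (b₁ (c, β)) = b₂ (β, c) := by
    intro c β
    rw [Module.Basis.tensorProduct_apply, hΨ, huA, Module.Basis.smulTower_apply,
      Algebra.smul_def, mul_comm]
  let E : (A ⊗[F] K) ≃ₗ[F] Λ := b₁.equiv b₂ (Equiv.prodComm ι _)
  have hE : (Ψ.toLinearMap.restrictScalars F) = E.toLinearMap := by
    apply b₁.ext
    rintro ⟨c, β⟩
    rw [LinearMap.restrictScalars_apply, AlgHom.toLinearMap_apply, hb, LinearEquiv.coe_coe,
      Module.Basis.equiv_apply]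
    rfl
  have hbij : Function.Bijective Ψ := by
    have : ⇑Ψ = ⇑E := by
      funext x
      exact congrArg (fun f => f x) hE
    rw [this]
    exact E.bijective
  haveI : Module.Flat A (A ⊗[F] K) := inferInstance
  exact Module.Flat.of_linearEquiv (LinearEquiv.ofBijective Ψ.toLinearMap hbij).symm

theorem finite_of_coord :
    letI : Algebra F A := (toA u F A hA).toAlgebra
    Module.Finite F A := by
  letI : Algebra F A := (toA u F A hA).toAlgebra
  exact Module.Finite.of_basis (Module.Basis.ofEquivFun (coordEquiv u F A hA))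

theorem isArtinianRing_of_coord : IsArtinianRing A := by
  letI : Algebra F A := (toA u F A hA).toAlgebra
  haveI := finite_of_coord u F A hA
  exact IsArtinianRing.of_finite F A

end CoordAlg

section LocalSub

variable {k Λ : Type u} [CommRing k] [CommRing Λ] [Algebra k Λ] [IsLocalRing Λ]
  (A : Subalgebra k Λ) [IsArtinianRing A]

theorem isLocalHom_subalgebra : IsLocalHom (algebraMap A Λ) := by
  constructor
  intro a ha
  apply IsArtinianRing.isUnit_of_mem_nonZeroDivisors
  rw [mem_nonZeroDivisors_iff_right]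
  intro b hb
  have h1 : (b : Λ) * (a : Λ) = 0 := by
    have := congrArg Subtype.val hb
    exact this
  apply Subtype.ext
  exact (ha.mul_left_eq_zero).mp h1

theorem isLocalRing_subalgebra : IsLocalRing A :=
  haveI := isLocalHom_subalgebra A
  (algebraMap A Λ).domain_isLocalRing

theorem mem_maximalIdeal_subalgebra_iff [IsLocalRing A] (a : A) :
    a ∈ maximalIdeal A ↔ (a : Λ) ∈ maximalIdeal Λ := by
  have hloc : IsLocalHom (algebraMap A Λ) := isLocalHom_subalgebra A
  have h := ((IsLocalRing.local_hom_TFAE (algebraMap A Λ)).out 0 4).mp hloc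
  rw [← h]
  rfl

theorem map_maximalIdeal_subalgebra [IsLocalRing A] {d : ℕ} (lam : Fin d → Λ)
    (hlam : Ideal.span (Set.range lam) = maximalIdeal Λ) (hmem : ∀ t, lam t ∈ A) :
    (maximalIdeal A).map (algebraMap A Λ) = maximalIdeal Λ := by
  have hloc : IsLocalHom (algebraMap A Λ) := isLocalHom_subalgebra A
  apply le_antisymm
  · exact ((IsLocalRing.local_hom_TFAE (algebraMap A Λ)).out 0 2).mp hloc
  · rw [← hlam, Ideal.span_le]
    rintro _ ⟨t, rfl⟩
    have h1 : (⟨lam t, hmem t⟩ : A) ∈ maximalIdeal A := by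
      rw [mem_maximalIdeal_subalgebra_iff, ← hlam]
      exact Ideal.subset_span ⟨t, rfl⟩
    exact Ideal.mem_map_of_mem _ h1

end LocalSub

section Ess

variable {k K Λ : Type u} [Field k] [Field K] [CommRing Λ] [IsLocalRing Λ] [Algebra k Λ]
  [Algebra K Λ] [Algebra k K]
  (π : Λ →+* K) (hπσ : ∀ x, π (algebraMap K Λ x) = x)
  (hπk : ∀ c, π (algebraMap k Λ c) = algebraMap k K c)
  (hker : RingHom.ker π = maximalIdeal Λ) (n : ℕ) (hn : maximalIdeal Λ ^ n = ⊥)
  {ι : Type} [Fintype ι] [DecidableEq ι] (u : Module.Basis ι K Λ) (S : Finset K)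
  (hS : ∀ c, π (u c) ∈ S)
  (A : Subalgebra k Λ) (hA : ∀ x, x ∈ A ↔ ∀ c, u.repr x c ∈ FF k S)

/-- the subring of fractions -/
def fracSubring (B₀ : Subalgebra k A) : Subring A where
  carrier := {a | ∃ t ∈ B₀, IsUnit t ∧ a * t ∈ B₀}
  mul_mem' := by
    rintro a b ⟨t, ht, htu, hat⟩ ⟨s, hs, hsu, hbs⟩
    refine ⟨t * s, B₀.mul_mem ht hs, htu.mul hsu, ?_⟩
    have : a * b * (t * s) = (a * t) * (b * s) := by ring
    rw [this]
    exact B₀.mul_mem hat hbs
  one_mem' := ⟨1, B₀.one_mem, isUnit_one, by rw [mul_one]; exact B₀.one_mem⟩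
  add_mem' := by
    rintro a b ⟨t, ht, htu, hat⟩ ⟨s, hs, hsu, hbs⟩
    refine ⟨t * s, B₀.mul_mem ht hs, htu.mul hsu, ?_⟩
    have : (a + b) * (t * s) = (a * t) * s + (b * s) * t := by ring
    rw [this]
    exact B₀.add_mem (B₀.mul_mem hat hs) (B₀.mul_mem hbs ht)
  zero_mem' := ⟨1, B₀.one_mem, isUnit_one, by rw [zero_mul]; exact B₀.zero_mem⟩
  neg_mem' := by
    rintro a ⟨t, ht, htu, hat⟩
    refine ⟨t, ht, htu, ?_⟩
    rw [neg_mul]
    exact B₀.neg_mem hat

theorem mem_fracSubring_of_mem (B₀ : Subalgebra k A) {a : A} (ha : a ∈ B₀) :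
    a ∈ fracSubring A B₀ :=
  ⟨1, B₀.one_mem, isUnit_one, by rw [mul_one]; exact ha⟩

theorem inv_mem_fracSubring (B₀ : Subalgebra k A) {a : A} (ha : a ∈ fracSubring A B₀)
    (hu : IsUnit a) : ∃ a' ∈ fracSubring A B₀, a * a' = 1 := by
  obtain ⟨t, ht, htu, hat⟩ := ha
  obtain ⟨a', ha'⟩ := hu.exists_right_inv
  refine ⟨a', ⟨a * t, hat, hu.mul htu, ?_⟩, ha'⟩
  have : a' * (a * t) = (a * a') * t := by ring
  rw [this, ha', one_mul]
  exact ht


include hπσ hπk hker hn hS hA in
theorem essFiniteType_of_coord [IsLocalRing A] [IsArtinianRing A] :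
    Algebra.EssFiniteType k A := by
  classical
  have hloc : IsLocalHom (algebraMap A Λ) := isLocalHom_subalgebra A
  -- generators
  let gu : ι → A := fun c => ⟨u c, basis_mem u (FF k S) A hA c⟩
  let gs : S → A := fun x => ⟨algebraMap K Λ (x : K),
    algebraMap_mem_of_mem u (FF k S) A hA (mem_FF_of_mem x.2)⟩
  let s : Finset A := Finset.univ.image gu ∪ Finset.univ.image gs
  have hgu : ∀ c, gu c ∈ Algebra.adjoin k (s : Set A) := fun c =>
    Algebra.subset_adjoin (Finset.mem_coe.mpr (Finset.mem_union_left _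
      (Finset.mem_image_of_mem _ (Finset.mem_univ c))))
  have hgs : ∀ x, gs x ∈ Algebra.adjoin k (s : Set A) := fun x =>
    Algebra.subset_adjoin (Finset.mem_coe.mpr (Finset.mem_union_right _
      (Finset.mem_image_of_mem _ (Finset.mem_univ x))))
  -- the subfield of residues of fractions
  let F' : Subfield K :=
    { carrier := {x | ∃ a ∈ fracSubring A (Algebra.adjoin k (s : Set A)), π (a : Λ) = x}
      mul_mem' := by
        rintro x y ⟨a, ha, rfl⟩ ⟨b, hb, rfl⟩
        exact ⟨a * b, Subring.mul_mem _ ha hb, by rw [Subalgebra.coe_mul, map_mul]⟩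
      one_mem' := ⟨1, Subring.one_mem _, by rw [Subalgebra.coe_one, map_one]⟩
      add_mem' := by
        rintro x y ⟨a, ha, rfl⟩ ⟨b, hb, rfl⟩
        exact ⟨a + b, Subring.add_mem _ ha hb, by rw [Subalgebra.coe_add, map_add]⟩
      zero_mem' := ⟨0, Subring.zero_mem _, by rw [Subalgebra.coe_zero, map_zero]⟩
      neg_mem' := by
        rintro x ⟨a, ha, rfl⟩
        exact ⟨-a, Subring.neg_mem _ ha, by rw [Subalgebra.coe_neg, map_neg]⟩
      inv_mem' := by
        rintro x ⟨a, ha, rfl⟩
        by_cases h0 : π (a : Λ) = 0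
        · rw [h0, inv_zero]
          exact ⟨0, Subring.zero_mem _, by rw [Subalgebra.coe_zero, map_zero]⟩
        · have hau : IsUnit (a : Λ) := by
            rw [← IsLocalRing.notMem_maximalIdeal, ← hker, RingHom.mem_ker]
            exact h0
          have hau' : IsUnit a := by
            have : IsUnit (algebraMap A Λ a) := hau
            exact this.of_map
          obtain ⟨a', ha', haa'⟩ := inv_mem_fracSubring A _ ha hau'
          refine ⟨a', ha', ?_⟩
          have h1 : π (a : Λ) * π (a' : Λ) = 1 := by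
            rw [← map_mul, ← Subalgebra.coe_mul, haa', Subalgebra.coe_one, map_one]
          exact (eq_inv_of_mul_eq_one_right h1) }
  have hFF' : FF k S ≤ F' := by
    apply Subfield.closure_le.mpr
    rintro x (⟨c, rfl⟩ | hx)
    · refine ⟨algebraMap k A c, mem_fracSubring_of_mem A _ (Subalgebra.algebraMap_mem _ c), ?_⟩
      exact hπk c
    · refine ⟨gs ⟨x, hx⟩, mem_fracSubring_of_mem A _ (hgs _), ?_⟩
      exact hπσ x
  -- the nilpotent ideal
  let g : ι → A := fun c => gu c - gs ⟨π (u c), hS c⟩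
  have hg_mem : ∀ c, g c ∈ fracSubring A (Algebra.adjoin k (s : Set A)) := fun c =>
    mem_fracSubring_of_mem A _ (Subalgebra.sub_mem _ (hgu c) (hgs _))
  have hg_ker : ∀ c, ((g c : A) : Λ) ∈ maximalIdeal Λ := by
    intro c
    rw [← hker, RingHom.mem_ker]
    change π (u c - algebraMap K Λ (π (u c))) = 0
    rw [map_sub, hπσ, sub_self]
  have hJn : Ideal.span (Set.range g) ^ n = ⊥ := by
    have h1 : Ideal.span (Set.range g) ≤ (maximalIdeal Λ).comap (algebraMap A Λ) := by
      rw [Ideal.span_le]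
      rintro _ ⟨c, rfl⟩
      exact hg_ker c
    have h2 : Ideal.span (Set.range g) ^ n ≤ (maximalIdeal Λ ^ n).comap (algebraMap A Λ) :=
      (Ideal.pow_right_mono h1 n).trans (Ideal.le_comap_pow _ _)
    rw [hn] at h2
    rw [eq_bot_iff]
    intro x hx
    have h3 := h2 hx
    rw [Ideal.mem_comap, Ideal.mem_bot] at h3
    rw [Ideal.mem_bot]
    exact Subtype.ext h3
  have htop : fracSubring A (Algebra.adjoin k (s : Set A)) = ⊤ := by
    refine subring_eq_top_of_nilpotent _ g hg_mem n hJn ?_
    intro z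
    -- the residue of z lies in F
    have hzF : π (z : Λ) ∈ FF k S := by
      rw [← u.sum_repr (z : Λ), map_sum]
      refine Subfield.sum_mem _ (fun c _ => ?_)
      rw [Algebra.smul_def, map_mul, hπσ]
      exact (FF k S).mul_mem ((hA z).mp z.2 c) (mem_FF_of_mem (hS c))
    obtain ⟨b, hb, hbz⟩ := hFF' hzF
    refine ⟨b, hb, ?_⟩
    -- z - b has residue zero, hence is a combination of the g's
    have hw : π ((z - b : A) : Λ) = 0 := by
      rw [Subalgebra.coe_sub, map_sub, hbz, sub_self]
    have hcoord : ∀ c, u.repr ((z - b : A) : Λ) c ∈ FF k S := (hA _).mp (z - b).2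
    have hexp : (z - b : A) = ∑ c, (⟨algebraMap K Λ (u.repr ((z - b : A) : Λ) c),
        algebraMap_mem_of_mem u (FF k S) A hA (hcoord c)⟩ : A) * g c := by
      apply Subtype.ext
      rw [AddSubmonoidClass.coe_finsetSum]
      simp only [Subalgebra.coe_mul]
      change ((z - b : A) : Λ) = ∑ c, algebraMap K Λ (u.repr ((z - b : A) : Λ) c) *
        (u c - algebraMap K Λ (π (u c)))
      simp only [mul_sub, Finset.sum_sub_distrib, ← map_mul, ← map_sum]
      have h1 : ∑ c, u.repr ((z - b : A) : Λ) c * π (u c) = π ((z - b : A) : Λ) := by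
        conv_rhs => rw [← u.sum_repr ((z - b : A) : Λ), map_sum]
        refine Finset.sum_congr rfl (fun c _ => ?_)
        rw [Algebra.smul_def, map_mul, hπσ]
      rw [h1, hw, map_zero, sub_zero]
      conv_lhs => rw [← u.sum_repr ((z - b : A) : Λ)]
      refine Finset.sum_congr rfl (fun c _ => ?_)
      rw [Algebra.smul_def]
    rw [hexp]
    exact Ideal.sum_mem _ (fun c _ => Ideal.mul_mem_left _ _ (Ideal.subset_span ⟨c, rfl⟩))
  rw [Algebra.essFiniteType_iff]
  refine ⟨s, fun a => ?_⟩
  have ha : a ∈ fracSubring A (Algebra.adjoin k (s : Set A)) := by rw [htop]; exact Subring.mem_top _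
  obtain ⟨t, ht, htu, hat⟩ := ha
  exact ⟨t, ht, htu, hat⟩

end Ess

end Groth.Agent.Lib.Helper22.ArtUnion
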