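import Mathlib
import Groth.Agent.Lib.Helper5.AdicSmoothDer

/-!
# Derivations of a tensor product `C ⊗[A] S` (helper22)

A derivation `D` of `S` and a derivation `δ : C → C ⊗[A] S` which agree on `A` glue to a derivation
of `C ⊗[A] S`.
-/

set_option autoImplicit false
set_option linter.style.haveILetI false
set_option linter.unusedSectionVars false

universe u

namespace Groth.Agent.Lib.Helper22.TensorDer

open TensorProduct Groth.Agent.Lib.Helper5

attribute [local instance] Algebra.TensorProduct.rightAlgebra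

/-- a type synonym of the dual numbers over `T`, to avoid instance diamonds -/
def Tw (T : Type u) [CommRing T] : Type u := TrivSqZeroExt T T

namespace Tw

variable {T : Type u} [CommRing T]

instance : CommRing (Tw T) := inferInstanceAs (CommRing (TrivSqZeroExt T T))

/-- first projection -/
def fst (x : Tw T) : T := TrivSqZeroExt.fst (R := T) (M := T) x
/-- second projection -/
def snd (x : Tw T) : T := TrivSqZeroExt.snd (R := T) (M := T) x

theorem fst_zero : fst (0 : Tw T) = 0 := rfl
theorem snd_zero : snd (0 : Tw T) = 0 := rfl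
theorem fst_one : fst (1 : Tw T) = 1 := rfl
theorem snd_one : snd (1 : Tw T) = 0 := rfl
theorem fst_add (x y : Tw T) : fst (x + y) = fst x + fst y := rfl
theorem snd_add (x y : Tw T) : snd (x + y) = snd x + snd y := rfl
theorem fst_mul (x y : Tw T) : fst (x * y) = fst x * fst y := rfl
theorem snd_mul (x y : Tw T) : snd (x * y) = fst x * snd y + fst y * snd x := by
  have h := TrivSqZeroExt.snd_mul (R := T) (M := T) (x : TrivSqZeroExt T T) y
  rw [op_smul_eq_smul, smul_eq_mul, smul_eq_mul] at h
  exact h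

theorem ext {x y : Tw T} (h1 : fst x = fst y) (h2 : snd x = snd y) : x = y :=
  TrivSqZeroExt.ext (R := T) (M := T) h1 h2

variable {k : Type u} [CommRing k] [Algebra k T]

/-- the ring map associated with a derivation -/
def twist (D : Derivation ℤ k T) : k →+* Tw T := AdicSmoothDer.twist D

theorem twist_fst (D : Derivation ℤ k T) (t : k) : fst (twist D t) = algebraMap k T t :=
  AdicSmoothDer.twist_fst D t

theorem twist_snd (D : Derivation ℤ k T) (t : k) : snd (twist D t) = D t :=
  AdicSmoothDer.twist_snd D t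

end Tw

variable {A C S : Type u} [CommRing A] [CommRing C] [CommRing S] [Algebra A C] [Algebra A S]

theorem exists_derivation_tensor (D : Derivation ℤ S S) (δ : Derivation ℤ C (C ⊗[A] S))
    (hδ : ∀ a : A, δ (algebraMap A C a) = (1 : C) ⊗ₜ[A] D (algebraMap A S a)) :
    ∃ DT : Derivation ℤ (C ⊗[A] S) (C ⊗[A] S),
      (∀ s : S, DT ((1 : C) ⊗ₜ[A] s) = (1 : C) ⊗ₜ[A] D s) ∧
      ∀ c : C, DT (c ⊗ₜ[A] (1 : S)) = δ c := by
  -- the derivation `S → C ⊗ S`
  let D' : Derivation ℤ S (C ⊗[A] S) := (Algebra.linearMap S (C ⊗[A] S)).compDer D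
  have hD' : ∀ s, D' s = (1 : C) ⊗ₜ[A] D s := fun s => rfl
  letI algE : Algebra A (Tw (C ⊗[A] S)) :=
    ((Tw.twist δ).comp (algebraMap A C)).toAlgebra
  let f : C →ₐ[A] Tw (C ⊗[A] S) :=
    { Tw.twist δ with commutes' := fun a => rfl }
  have hf : ∀ c, f c = Tw.twist δ c := fun c => rfl
  have hg : ∀ a : A, Tw.twist D' (algebraMap A S a) = Tw.twist δ (algebraMap A C a) := by
    intro a
    apply Tw.ext
    · rw [Tw.twist_fst, Tw.twist_fst]
      rw [Algebra.TensorProduct.algebraMap_apply, Algebra.TensorProduct.right_algebraMap_apply]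
      have h1 : (algebraMap A C a) ⊗ₜ[A] (1 : S) = (1 : C) ⊗ₜ[A] (algebraMap A S a) := by
        rw [Algebra.algebraMap_eq_smul_one, Algebra.algebraMap_eq_smul_one (A := S),
          TensorProduct.smul_tmul]
      exact h1.symm
    · rw [Tw.twist_snd, Tw.twist_snd, hδ, hD']
  let g : S →ₐ[A] Tw (C ⊗[A] S) :=
    { Tw.twist D' with commutes' := fun a => hg a }
  have hgx : ∀ s, g s = Tw.twist D' s := fun s => rfl
  let Ψ : C ⊗[A] S →ₐ[A] Tw (C ⊗[A] S) :=
    Algebra.TensorProduct.lift f g (fun _ _ => Commute.all _ _)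
  have hΨ : ∀ c s, Ψ (c ⊗ₜ[A] s) = Tw.twist δ c * Tw.twist D' s := fun c s =>
    Algebra.TensorProduct.lift_tmul f g _ c s
  have hfst : ∀ x, Tw.fst (Ψ x) = x := by
    intro x
    induction x using TensorProduct.induction_on with
    | zero => rw [map_zero, Tw.fst_zero]
    | tmul c s =>
      rw [hΨ, Tw.fst_mul, Tw.twist_fst, Tw.twist_fst,
        Algebra.TensorProduct.algebraMap_apply, Algebra.TensorProduct.right_algebraMap_apply,
        Algebra.TensorProduct.tmul_mul_tmul, mul_one, one_mul]
      rfl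
    | add x y hx hy => rw [map_add, Tw.fst_add, hx, hy]
  refine ⟨Derivation.mk'
    (AddMonoidHom.toIntLinearMap
      { toFun := fun x => Tw.snd (Ψ x)
        map_zero' := by rw [map_zero, Tw.snd_zero]
        map_add' := fun x y => by rw [map_add, Tw.snd_add] })
    (fun x y => ?_), fun s => ?_, fun c => ?_⟩
  · change Tw.snd (Ψ (x * y)) = x • Tw.snd (Ψ y) + y • Tw.snd (Ψ x)
    rw [map_mul, Tw.snd_mul, hfst, hfst, smul_eq_mul, smul_eq_mul]
  · change Tw.snd (Ψ ((1 : C) ⊗ₜ[A] s)) = _
    rw [hΨ, map_one, one_mul, Tw.twist_snd, hD']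
  · change Tw.snd (Ψ (c ⊗ₜ[A] (1 : S))) = _
    rw [hΨ, map_one, mul_one, Tw.twist_snd]

end Groth.Agent.Lib.Helper22.TensorDer
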