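import Mathlib
import Groth.Agent.Lib.Helper22.TensorDer
import Groth.Agent.Lib.Helper22.DerExtMod

/-!
# Extending a bounded derivation of `S` to `C ⊗[A] S` for `C` complete and adically formally
smooth over `A` (helper22)
-/

set_option autoImplicit false
set_option linter.style.haveILetI false
set_option linter.unusedSectionVars false

universe u

namespace Groth.Agent.Lib.Helper22.BddDerTensor

open TensorProduct IsLocalRing

theorem exists_derivation_tensor_of_bounded (A C S : Type u) [CommRing A] [CommRing C] [CommRing S]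
    [Algebra A C] [Algebra A S] [IsLocalRing C] [IsNoetherianRing C]
    [IsAdicComplete (maximalIdeal C) C]
    (hfs : CAlgX.IsAdicFormallySmooth A C (maximalIdeal C))
    (D : Derivation ℤ S S) (J : Type) [Fintype J] (ν : J → S)
    (hbdd : ∀ a : A, ∃ c : J → A, D (algebraMap A S a) = ∑ j, algebraMap A S (c j) * ν j) :
    ∃ DT : Derivation ℤ (C ⊗[A] S) (C ⊗[A] S),
      ∀ s : S, DT ((1 : C) ⊗ₜ[A] s) = (1 : C) ⊗ₜ[A] D s := by
  classical
  set M : Submodule C (C ⊗[A] S) :=
    Submodule.span C (Set.range (fun j => (1 : C) ⊗ₜ[A] ν j)) with hM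
  haveI : Module.Finite C M := Module.Finite.span_of_finite C (Set.finite_range _)
  have hmem : ∀ a : A, (1 : C) ⊗ₜ[A] D (algebraMap A S a) ∈ M := by
    intro a
    obtain ⟨c, hc⟩ := hbdd a
    rw [hc, TensorProduct.tmul_sum]
    apply Submodule.sum_mem
    intro j _
    have h1 : (1 : C) ⊗ₜ[A] (algebraMap A S (c j) * ν j) =
        (algebraMap A C (c j)) • ((1 : C) ⊗ₜ[A] ν j) := by
      rw [← Algebra.smul_def, TensorProduct.tmul_smul, algebraMap_smul]
    rw [h1]
    exact Submodule.smul_mem _ _ (Submodule.subset_span ⟨j, rfl⟩)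
  let D₁f : A →+ M :=
    { toFun := fun a => ⟨(1 : C) ⊗ₜ[A] D (algebraMap A S a), hmem a⟩
      map_zero' := by
        apply Subtype.ext
        change (1 : C) ⊗ₜ[A] D (algebraMap A S 0) = 0
        rw [map_zero, map_zero, TensorProduct.tmul_zero]
      map_add' := fun a b => by
        apply Subtype.ext
        change (1 : C) ⊗ₜ[A] D (algebraMap A S (a + b)) = _
        rw [map_add, map_add, TensorProduct.tmul_add]
        rfl }
  let D₁ : Derivation ℤ A M := Derivation.mk' D₁f.toIntLinearMap (fun a b => by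
    apply Subtype.ext
    change (1 : C) ⊗ₜ[A] D (algebraMap A S (a * b)) =
      ((a • (D₁f b) + b • (D₁f a) : M) : C ⊗[A] S)
    rw [map_mul, Derivation.leibniz, TensorProduct.tmul_add, smul_eq_mul, smul_eq_mul,
      ← Algebra.smul_def, ← Algebra.smul_def, TensorProduct.tmul_smul, TensorProduct.tmul_smul]
    rfl)
  have hD₁ : ∀ a : A, ((D₁ a : M) : C ⊗[A] S) = (1 : C) ⊗ₜ[A] D (algebraMap A S a) :=
    fun a => rfl
  obtain ⟨δ₁, hδ₁⟩ :=
    Groth.Agent.Lib.Helper22.DerExtMod.exists_derivation_extension A C hfs M D₁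
  let δ : Derivation ℤ C (C ⊗[A] S) := M.subtype.compDer δ₁
  have hδ : ∀ a : A, δ (algebraMap A C a) = (1 : C) ⊗ₜ[A] D (algebraMap A S a) := by
    intro a
    change ((δ₁ (algebraMap A C a) : M) : C ⊗[A] S) = _
    rw [hδ₁, hD₁]
  obtain ⟨DT, hDT, -⟩ := Groth.Agent.Lib.Helper22.TensorDer.exists_derivation_tensor D δ hδ
  exact ⟨DT, hDT⟩

end Groth.Agent.Lib.Helper22.BddDerTensor
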