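import Mathlib

set_option autoImplicit false
set_option linter.style.haveILetI false
set_option linter.unusedSectionVars false

/-! Extension of a derivation `F → E` to a simple algebraic extension `F⟮x⟯ ⊆ E`. -/

namespace Groth.Agent.Lib.Helper22.DerExt

open Polynomial IntermediateField TrivSqZeroExt

universe u

variable {k F E : Type*} [Field k] [Field F] [Field E] [Algebra k F] [Algebra k E] [Algebra F E]
  [IsScalarTower k F E]

/-- The ring homomorphism `F → E[ε]`, `a ↦ a + D(a) ε`. -/
noncomputable def toDual (D : Derivation k F E) : F →+* TrivSqZeroExt E E where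
  toFun a := inl (algebraMap F E a) + inr (D a)
  map_one' := by
    rw [map_one, Derivation.map_one_eq_zero, inr_zero, add_zero, inl_one]
  map_mul' a b := by
    refine TrivSqZeroExt.ext ?_ ?_
    · simp only [fst_add, fst_inl, fst_inr, add_zero, fst_mul, map_mul]
    · simp only [snd_add, snd_inl, snd_inr, zero_add, snd_mul, fst_add, fst_inl, fst_inr, add_zero,
        Derivation.leibniz, smul_eq_mul, MulOpposite.smul_eq_mul_unop, MulOpposite.unop_op,
        Algebra.smul_def]
      ring
  map_zero' := by
    rw [map_zero, map_zero, inr_zero, add_zero, inl_zero]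
  map_add' a b := by
    refine TrivSqZeroExt.ext ?_ ?_
    · simp only [fst_add, fst_inl, fst_inr, add_zero, map_add]
    · simp only [snd_add, snd_inl, snd_inr, zero_add, map_add]

@[simp] theorem fst_toDual (D : Derivation k F E) (a : F) : (toDual D a).fst = algebraMap F E a := by
  change (inl (algebraMap F E a) + inr (D a) : TrivSqZeroExt E E).fst = _
  rw [fst_add, fst_inl, fst_inr, add_zero]

@[simp] theorem snd_toDual (D : Derivation k F E) (a : F) : (toDual D a).snd = D a := by
  change (inl (algebraMap F E a) + inr (D a) : TrivSqZeroExt E E).snd = _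
  rw [snd_add, snd_inl, snd_inr, zero_add]

/-- The obstruction `Σ xⁱ D(fᵢ)`, linear in `D`. -/
noncomputable def obs (x : E) (f : F[X]) : Derivation k F E →ₗ[E] E where
  toFun D := ∑ i ∈ f.support, x ^ i * D (f.coeff i)
  map_add' D D' := by simp [mul_add, Finset.sum_add_distrib]
  map_smul' c D := by simp [Finset.mul_sum, mul_left_comm]

theorem snd_eval₂ (D : Derivation k F E) (x y : E) (f : F[X]) :
    (f.eval₂ (toDual D) (inl x + inr y)).snd = obs (k := k) x f D + aeval x (derivative f) * y := by
  rw [eval₂_eq_sum, Polynomial.sum_def, snd_sum]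
  have h1 : ∀ i ∈ f.support, ((toDual D (f.coeff i)) * (inl x + inr y : TrivSqZeroExt E E) ^ i).snd =
      x ^ i * D (f.coeff i) + (algebraMap F E (f.coeff i) * (i * x ^ (i - 1))) * y := by
    intro i _
    rw [snd_mul, fst_toDual, snd_toDual, fst_pow, snd_pow]
    simp only [fst_add, fst_inl, fst_inr, add_zero, snd_add, snd_inl, snd_inr, zero_add,
      smul_eq_mul, MulOpposite.smul_eq_mul_unop, MulOpposite.unop_op, nsmul_eq_mul,
      Nat.pred_eq_sub_one]
    ring
  rw [Finset.sum_congr rfl h1, Finset.sum_add_distrib, ← Finset.sum_mul]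
  congr 1
  congr 1
  rw [derivative_apply, Polynomial.sum_def, map_sum]
  refine Finset.sum_congr rfl (fun i _ => ?_)
  rw [map_mul, aeval_C, map_pow, aeval_X, map_mul, map_natCast]
  ring

variable (k)

/-- Extension of a derivation to a simple algebraic extension. -/
theorem exists_extension (D : Derivation k F E) (x : E) (hx : IsIntegral F x) (y : E)
    (hy : obs (k := k) x (minpoly F x) D + aeval x (derivative (minpoly F x)) * y = 0) :
    ∃ D' : Derivation k F⟮x⟯ E, (∀ a : F, D' (algebraMap F F⟮x⟯ a) = D a) ∧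
      D' (AdjoinSimple.gen F x) = y := by
  have hz : (minpoly F x).eval₂ (toDual D) (inl x + inr y) = 0 := by
    ext
    · have : (fstHom E E E : TrivSqZeroExt E E →ₐ[E] E).toRingHom.comp (toDual D) =
          algebraMap F E := by
        ext a; simp
      have h2 := Polynomial.hom_eval₂ (minpoly F x) (toDual D)
        (fstHom E E E : TrivSqZeroExt E E →ₐ[E] E).toRingHom (inl x + inr y)
      rw [this] at h2
      have h3 : (fstHom E E E : TrivSqZeroExt E E →ₐ[E] E).toRingHom (inl x + inr y) = x := by simp
      rw [h3, ← aeval_def, minpoly.aeval] at h2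
      simpa using h2
    · rw [snd_eval₂, hy]; simp
  let e := adjoinRootEquivAdjoin F hx
  let ψ : F⟮x⟯ →+* TrivSqZeroExt E E :=
    (AdjoinRoot.lift (toDual D) (inl x + inr y) hz).comp (e.symm : F⟮x⟯ →+* AdjoinRoot (minpoly F x))
  have hψF : ∀ a : F, ψ (algebraMap F F⟮x⟯ a) = toDual D a := by
    intro a
    change AdjoinRoot.lift (toDual D) (inl x + inr y) hz (e.symm (algebraMap F F⟮x⟯ a)) = _
    rw [AlgEquiv.commutes]
    exact AdjoinRoot.lift_of hz
  have hψx : ψ (AdjoinSimple.gen F x) = inl x + inr y := by
    change AdjoinRoot.lift (toDual D) (inl x + inr y) hz (e.symm (AdjoinSimple.gen F x)) = _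
    rw [adjoinRootEquivAdjoin_symm_apply_gen, AdjoinRoot.lift_root]
  have hfst : ∀ w : F⟮x⟯, (ψ w).fst = (w : E) := by
    intro w
    obtain ⟨g, rfl⟩ := e.surjective w
    obtain ⟨g, rfl⟩ := AdjoinRoot.mk_surjective g
    change (AdjoinRoot.lift (toDual D) (inl x + inr y) hz (e.symm (e (AdjoinRoot.mk _ g)))).fst = _
    rw [AlgEquiv.symm_apply_apply, AdjoinRoot.lift_mk]
    have h2 := Polynomial.hom_eval₂ g (toDual D)
      (fstHom E E E : TrivSqZeroExt E E →ₐ[E] E).toRingHom (inl x + inr y)
    have h1 : (fstHom E E E : TrivSqZeroExt E E →ₐ[E] E).toRingHom.comp (toDual D) =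
        algebraMap F E := by
      ext a; simp
    have h3 : (fstHom E E E : TrivSqZeroExt E E →ₐ[E] E).toRingHom (inl x + inr y) = x := by simp
    rw [h1, h3, ← aeval_def] at h2
    have h4 : ((e (AdjoinRoot.mk (minpoly F x) g) : F⟮x⟯) : E) = aeval x g := by
      rw [← AdjoinRoot.aeval_eq, ← aeval_algHom_apply, adjoinRootEquivAdjoin_apply_root]
      have := aeval_algHom_apply F⟮x⟯.val (AdjoinSimple.gen F x) g
      rw [IntermediateField.val_mk] at this
      exact this.symm
    rw [h4, ← h2]
    rfl
  let l : F⟮x⟯ →ₗ[k] E :=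
    { toFun := fun w => (ψ w).snd
      map_add' := fun a b => by simp
      map_smul' := fun c w => by
        have hc : c • w = algebraMap F F⟮x⟯ (algebraMap k F c) * w := by
          rw [← IsScalarTower.algebraMap_apply, Algebra.smul_def]
        simp only [RingHom.id_apply]
        rw [hc, map_mul, hψF, snd_mul, fst_toDual, snd_toDual, Derivation.map_algebraMap]
        simp only [smul_eq_mul, MulOpposite.smul_eq_mul_unop, MulOpposite.unop_op]
        rw [← IsScalarTower.algebraMap_apply, Algebra.smul_def, zero_mul, add_zero] }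
  refine ⟨Derivation.mk' l (fun a b => ?_), fun a => ?_, ?_⟩
  · change (ψ (a * b)).snd = a • (ψ b).snd + b • (ψ a).snd
    rw [map_mul, snd_mul, hfst, hfst]
    simp only [smul_eq_mul, MulOpposite.smul_eq_mul_unop, MulOpposite.unop_op]
    rw [mul_comm (ψ a).snd]
    rfl
  · change (ψ (algebraMap F F⟮x⟯ a)).snd = D a
    rw [hψF, snd_toDual]
  · change (ψ (AdjoinSimple.gen F x)).snd = y
    rw [hψx]; simp

end Groth.Agent.Lib.Helper22.DerExt
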