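import Mathlib
import Groth.Agent.Lib.Helper22.DerExtA

set_option autoImplicit false
set_option linter.style.haveILetI false
set_option linter.unusedSectionVars false

namespace Groth.Agent.Lib.Helper22.DerExt

open Polynomial IntermediateField

universe u

section Res

variable (k F F' E : Type u) [Field k] [Field F] [Field F'] [Field E] [Algebra k F] [Algebra k F']
  [Algebra k E] [Algebra F F'] [Algebra F' E] [Algebra F E] [IsScalarTower F F' E]
  [IsScalarTower k F F'] [IsScalarTower k F' E] [IsScalarTower k F E]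

/-- Restriction of `E`-valued derivations along `F → F'`. -/
noncomputable def res : Derivation k F' E →ₗ[E] Derivation k F E where
  toFun D := D.compAlgebraMap F
  map_add' _ _ := rfl
  map_smul' _ _ := rfl

@[simp] theorem res_apply (D : Derivation k F' E) (a : F) :
    res k F F' E D a = D (algebraMap F F' a) := rfl

end Res

section Abstract

variable {E : Type u} [Field E] {V V' : Type u} [AddCommGroup V] [Module E V]
  [AddCommGroup V'] [Module E V']

theorem rank_le_rank_comap_of_le_range (r : V' →ₗ[E] V) (𝒜 : Submodule E V)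
    (h : 𝒜 ≤ LinearMap.range r) : Module.rank E 𝒜 ≤ Module.rank E (𝒜.comap r) := by
  let ρ : (𝒜.comap r) →ₗ[E] 𝒜 := (r.domRestrict (𝒜.comap r)).codRestrict 𝒜 (fun D => D.2)
  have hsurj : Function.Surjective ρ := by
    intro D
    obtain ⟨D', hD'⟩ := h D.2
    refine ⟨⟨D', ?_⟩, Subtype.ext hD'⟩
    change r D' ∈ 𝒜
    rw [hD']; exact D.2
  exact LinearMap.rank_le_of_surjective ρ hsurj

theorem rank_le_rank_comap_of_ker_le (r : V' →ₗ[E] V) (c : V →ₗ[E] E) (𝒜 : Submodule E V)
    (h1 : ∀ D ∈ 𝒜, c D = 0 → D ∈ LinearMap.range r) (D₀ : V') (hD₀ : D₀ ≠ 0) (hr : r D₀ = 0) :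
    Module.rank E 𝒜 ≤ Module.rank E (𝒜.comap r) := by
  let ρ : (𝒜.comap r) →ₗ[E] 𝒜 := (r.domRestrict (𝒜.comap r)).codRestrict 𝒜 (fun D => D.2)
  let c' : 𝒜 →ₗ[E] E := c.domRestrict 𝒜
  have hk : LinearMap.ker c' ≤ LinearMap.range ρ := by
    intro D hD
    have hD' : c D.1 = 0 := hD
    obtain ⟨D', hD'r⟩ := h1 D.1 D.2 hD'
    refine ⟨⟨D', ?_⟩, Subtype.ext hD'r⟩
    change r D' ∈ 𝒜
    rw [hD'r]; exact D.2
  have h2 : 1 ≤ Module.rank E (LinearMap.ker ρ) := by
    rw [Cardinal.one_le_iff_ne_zero]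
    intro h
    rw [rank_zero_iff_forall_zero] at h
    have hmem : r D₀ ∈ 𝒜 := by rw [hr]; exact 𝒜.zero_mem
    have hker : (⟨D₀, hmem⟩ : 𝒜.comap r) ∈ LinearMap.ker ρ := by
      rw [LinearMap.mem_ker]
      exact Subtype.ext hr
    have h0 := h ⟨_, hker⟩
    apply hD₀
    have := congrArg (fun z : LinearMap.ker ρ => ((z : 𝒜.comap r) : V')) h0
    exact this
  have hrc := LinearMap.rank_range_add_rank_ker c'
  have hrρ := LinearMap.rank_range_add_rank_ker ρ
  have h4 : Module.rank E (LinearMap.range c') ≤ 1 := by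
    calc Module.rank E (LinearMap.range c') ≤ Module.rank E E := Submodule.rank_le _
      _ = 1 := CommSemiring.rank_self E
  have h5 : Module.rank E (LinearMap.ker c') ≤ Module.rank E (LinearMap.range ρ) :=
    Submodule.rank_mono hk
  rw [← hrc, ← hrρ, add_comm]
  exact add_le_add h5 (h4.trans h2)

end Abstract

section Simple

variable (k : Type u) {F E : Type u} [Field k] [Field F] [Field E] [Algebra k F] [Algebra k E]
  [Algebra F E] [IsScalarTower k F E]

theorem rank_le_rank_comap_res_simple (x : E) (hx : IsIntegral F x)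
    (𝒜 : Submodule E (Derivation k F E)) :
    Module.rank E 𝒜 ≤ Module.rank E (𝒜.comap (res k F F⟮x⟯ E)) := by
  classical
  by_cases hg : aeval x (derivative (minpoly F x)) = 0
  · obtain ⟨D₀, hD₀F, hD₀x⟩ := exists_extension k (0 : Derivation k F E) x hx 1
      (by rw [hg, zero_mul, map_zero, add_zero])
    have hres₀ : res k F F⟮x⟯ E D₀ = 0 := by
      ext a; exact hD₀F a
    have hD₀ : D₀ ≠ 0 := by
      intro h0
      rw [h0] at hD₀x
      simp at hD₀x
    refine rank_le_rank_comap_of_ker_le (E := E) (res k F F⟮x⟯ E) (obs (k := k) x (minpoly F x)) 𝒜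
      ?_ D₀ hD₀ hres₀
    intro D _ hD
    obtain ⟨D', hD'F, -⟩ := exists_extension k D x hx 0 (by rw [mul_zero, add_zero]; exact hD)
    exact ⟨D', by ext a; exact hD'F a⟩
  · refine rank_le_rank_comap_of_le_range (E := E) (res k F F⟮x⟯ E) 𝒜 ?_
    intro D _
    obtain ⟨D', hD'F, -⟩ := exists_extension k D x hx
      (-(obs (k := k) x (minpoly F x) D) / aeval x (derivative (minpoly F x)))
      (by rw [mul_div_cancel₀ _ hg, add_neg_cancel])
    exact ⟨D', by ext a; exact hD'F a⟩

end Simple

end Groth.Agent.Lib.Helper22.DerExt
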