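import Mathlib
import Groth.Agent.Lib.Helper22.DerExtB

set_option autoImplicit false
set_option linter.style.haveILetI false
set_option linter.unusedSectionVars false

namespace Groth.Agent.Lib.Helper22.DerExt

open Polynomial IntermediateField

universe u

theorem res_surjective_of_surjective (k L E : Type u) [Field k] [Field L] [Field E] [Algebra k L]
    [Algebra k E] [Algebra L E] [IsScalarTower k L E]
    (hsurj : Function.Surjective (algebraMap L E)) :
    Function.Surjective (res k L E E) := by
  intro D
  let e : L ≃ₐ[k] E := AlgEquiv.ofBijective (IsScalarTower.toAlgHom k L E)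
    ⟨(algebraMap L E).injective, hsurj⟩
  have he : ∀ a : L, e a = algebraMap L E a := fun a => rfl
  have hes : ∀ b : E, algebraMap L E (e.symm b) = b := fun b => e.apply_symm_apply b
  refine ⟨Derivation.mk' (D.toLinearMap ∘ₗ e.symm.toLinearMap) (fun a b => ?_), ?_⟩
  · change D (e.symm (a * b)) = a • D (e.symm b) + b • D (e.symm a)
    rw [map_mul, Derivation.leibniz, Algebra.smul_def, Algebra.smul_def, hes, hes]
    rfl
  · ext a
    change D (e.symm (algebraMap L E a)) = D a
    rw [← he, e.symm_apply_apply]

theorem rank_le_rank_comap_res (k : Type u) [Field k] :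
    ∀ (n : ℕ) (L E : Type u) [Field L] [Field E] [Algebra k L] [Algebra k E] [Algebra L E]
      [IsScalarTower k L E] [FiniteDimensional L E], Module.finrank L E = n →
      ∀ 𝒜 : Submodule E (Derivation k L E),
        Module.rank E 𝒜 ≤ Module.rank E (𝒜.comap (res k L E E)) := by
  intro n
  induction n using Nat.strong_induction_on with
  | _ n ih =>
  intro L E _ _ _ _ _ _ _ hn 𝒜
  by_cases hsurj : Function.Surjective (algebraMap L E)
  · refine rank_le_rank_comap_of_le_range (E := E) (res k L E E) 𝒜 ?_
    intro D _
    exact res_surjective_of_surjective k L E hsurj D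
  · have hex : ∃ x : E, x ∉ Set.range (algebraMap L E) := by
      by_contra hcon
      push Not at hcon
      exact hsurj hcon
    obtain ⟨x, hx⟩ := hex
    have hxint : IsIntegral L x := Algebra.IsIntegral.isIntegral x
    have h1 := rank_le_rank_comap_res_simple k x hxint 𝒜
    have hmul := Module.finrank_mul_finrank L L⟮x⟯ E
    have hne1 : Module.finrank L L⟮x⟯ ≠ 1 := by
      rw [Ne, IntermediateField.finrank_adjoin_simple_eq_one_iff, IntermediateField.mem_bot]
      exact hx
    have hpos1 : 0 < Module.finrank L L⟮x⟯ := Module.finrank_pos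
    have hpos2 : 0 < Module.finrank L⟮x⟯ E := Module.finrank_pos
    have hlt : Module.finrank L⟮x⟯ E < n := by
      rw [← hn, ← hmul]
      have h2 : 2 ≤ Module.finrank L L⟮x⟯ := by omega
      nlinarith
    have hT : IsScalarTower k L⟮x⟯ E := IsScalarTower.of_algebraMap_eq (fun c => by
      rw [IsScalarTower.algebraMap_apply k L L⟮x⟯, ← IsScalarTower.algebraMap_apply L L⟮x⟯ E,
        ← IsScalarTower.algebraMap_apply k L E])
    have h2 := ih (Module.finrank L⟮x⟯ E) hlt L⟮x⟯ E rfl (𝒜.comap (res k L L⟮x⟯ E))
    have hcomp : (𝒜.comap (res k L L⟮x⟯ E)).comap (res k L⟮x⟯ E E) = 𝒜.comap (res k L E E) := by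
      ext D
      simp only [Submodule.mem_comap]
      have : res k L L⟮x⟯ E (res k L⟮x⟯ E E D) = res k L E E D := by
        ext a
        simp only [res_apply]
        rfl
      rw [this]
    rw [hcomp] at h2
    exact h1.trans h2

end Groth.Agent.Lib.Helper22.DerExt
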