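import Mathlib
import Groth.Agent.S9405

set_option autoImplicit false
set_option linter.style.haveILetI false
set_option linter.unusedSectionVars false

namespace Groth.Agent.Lib.Helper22.SepPowSer

open IsLocalRing TensorProduct KaehlerDifferential

universe u

section Extend

variable {k B A E : Type*} [CommRing k] [CommRing B] [CommRing A] [CommRing E]
  [Algebra k B] [Algebra k A] [Algebra k E] [Algebra B A] [Algebra A E] [Algebra B E]
  [IsScalarTower k B A] [IsScalarTower k A E] [IsScalarTower k B E] [IsScalarTower B A E]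
  [Algebra.FormallyEtale B E]

/-- Extend a functional on `Ω[B⁄k]` to an `A`-linear map `Ω[A⁄k] → E`, where `E` is formally étale
over `B`. -/
noncomputable def extendFunctional (δ : Ω[B⁄k] →ₗ[B] B) : Ω[A⁄k] →ₗ[A] E :=
  ((LinearMap.liftBaseChange E ((Algebra.linearMap B E) ∘ₗ δ)) ∘ₗ
    (tensorKaehlerEquivOfFormallyEtale k B E).symm.toLinearMap).restrictScalars A ∘ₗ
    KaehlerDifferential.map k k A E

theorem extendFunctional_D_algebraMap (δ : Ω[B⁄k] →ₗ[B] B) (b : B) :
    extendFunctional (A := A) (E := E) δ (D k A (algebraMap B A b)) =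
      algebraMap B E (δ (D k B b)) := by
  simp only [extendFunctional, LinearMap.coe_comp, LinearMap.coe_restrictScalars,
    Function.comp_apply, KaehlerDifferential.map_D, LinearEquiv.coe_coe]
  rw [← IsScalarTower.algebraMap_apply, tensorKaehlerEquivOfFormallyEtale_symm_D_algebraMap,
    LinearMap.liftBaseChange_tmul, one_smul]
  rfl

theorem extendFunctional_D_mem (δ : Ω[B⁄k] →ₗ[B] B) (s : Set A)
    (hs : Submodule.span B s = ⊤) (a : A) :
    extendFunctional (A := A) (E := E) δ (D k A a) ∈
      Submodule.span A (insert (1 : E) ((fun a => extendFunctional (A := A) (E := E) δ (D k A a)) '' s)) := by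
  set F := Submodule.span A (insert (1 : E)
    ((fun a => extendFunctional (A := A) (E := E) δ (D k A a)) '' s)) with hF
  have ha : a ∈ Submodule.span B s := by rw [hs]; trivial
  induction ha using Submodule.span_induction with
  | mem x hx => exact Submodule.subset_span (Set.mem_insert_of_mem _ ⟨x, hx, rfl⟩)
  | zero => rw [map_zero, map_zero]; exact F.zero_mem
  | add x y _ _ hx hy => rw [map_add, map_add]; exact F.add_mem hx hy
  | smul b x _ hx =>
    rw [Algebra.smul_def, Derivation.leibniz, map_add, map_smul, map_smul,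
      extendFunctional_D_algebraMap]
    refine F.add_mem (F.smul_mem _ hx) ?_
    have h1 : algebraMap B E (δ (D k B b)) = (algebraMap B A (δ (D k B b))) • (1 : E) := by
      rw [Algebra.smul_def, mul_one, ← IsScalarTower.algebraMap_apply]
    rw [h1, smul_smul]
    exact F.smul_mem _ (Submodule.subset_span (Set.mem_insert _ _))

theorem range_extendFunctional_le (δ : Ω[B⁄k] →ₗ[B] B) (s : Set A)
    (hs : Submodule.span B s = ⊤) :
    LinearMap.range (extendFunctional (A := A) (E := E) δ) ≤
      Submodule.span A (insert (1 : E) ((fun a => extendFunctional (A := A) (E := E) δ (D k A a)) '' s)) := by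
  rw [LinearMap.range_eq_map, ← KaehlerDifferential.span_range_derivation, Submodule.map_span,
    Submodule.span_le]
  rintro _ ⟨_, ⟨a, rfl⟩, rfl⟩
  exact extendFunctional_D_mem δ s hs a

end Extend

section Complete

variable {A : Type u} [CommRing A] [IsNoetherianRing A] (I : Ideal A) [IsAdicComplete I A]
  {M E : Type u} [AddCommGroup M] [Module A M] [AddCommGroup E] [Module A E]

theorem exists_extend_adicCompletion (l : M →ₗ[A] E) (F : Submodule A E) (hF : F.FG)
    (hl : LinearMap.range l ≤ F) :
    ∃ Λ : AdicCompletion I M →ₗ[A] E, ∀ x, Λ (AdicCompletion.of I M x) = l x := by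
  have hfin : Module.Finite A F := Module.Finite.iff_fg.mpr hF
  let l' : M →ₗ[A] F := l.codRestrict F (fun x => hl ⟨x, rfl⟩)
  let e : F ≃ₗ[A] AdicCompletion I F :=
    LinearEquiv.ofBijective (AdicCompletion.of I F) (Groth.Agent.S9405.of_bijective_of_finite I F)
  refine ⟨F.subtype ∘ₗ e.symm.toLinearMap ∘ₗ (AdicCompletion.map I l').restrictScalars A, ?_⟩
  intro x
  simp only [LinearMap.coe_comp, LinearMap.coe_restrictScalars, Function.comp_apply,
    AdicCompletion.map_of, LinearEquiv.coe_coe, Submodule.coe_subtype]
  have : e.symm (AdicCompletion.of I F (l' x)) = l' x := by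
    rw [LinearEquiv.symm_apply_eq]; rfl
  rw [this]
  rfl

end Complete

end Groth.Agent.Lib.Helper22.SepPowSer
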