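import Mathlib
import Groth.Agent.Lib.Helper22.DerExtC
import Groth.Agent.Lib.Helper22.SepPowSerC
import Groth.Agent.Lib.Helper5.PowSerKaehler
import Groth.Agent.Lib.Helper12.CohenFinD

set_option autoImplicit false
set_option linter.style.haveILetI false
set_option linter.unusedSectionVars false

namespace Groth.Agent.Lib.Helper22.BoundedDer

open IsLocalRing TensorProduct KaehlerDifferential MvPowerSeries
open Groth.Agent.Lib.Helper5.PowSer Groth.Agent.Lib.Helper22.DerExt
open Groth.Agent.Lib.Helper22.SepPowSer
open scoped nonZeroDivisors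

universe u

section Frac

/-- A derivation of a fraction field vanishing on the ring is zero. -/
theorem derivation_eq_zero_of_fractionRing {k B E : Type*} [CommRing k] [CommRing B] [IsDomain B]
    [Field E] [Algebra k B] [Algebra k E] [Algebra B E] [IsFractionRing B E] [IsScalarTower k B E]
    (D : Derivation k E E) (h : ∀ b : B, D (algebraMap B E b) = 0) : D = 0 := by
  ext e
  obtain ⟨a, b, hb, rfl⟩ := IsFractionRing.div_surjective (A := B) e
  have hb0 : algebraMap B E b ≠ 0 := by
    rw [Ne, FaithfulSMul.algebraMap_eq_zero_iff]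
    exact nonZeroDivisors.ne_zero hb
  have h1 : algebraMap B E a / algebraMap B E b * algebraMap B E b = algebraMap B E a :=
    div_mul_cancel₀ _ hb0
  have h2 := congrArg D h1
  rw [Derivation.leibniz, h, h, smul_zero, zero_add, smul_eq_mul] at h2
  rcases mul_eq_zero.mp h2 with h3 | h3
  · exact absurd h3 hb0
  · exact h3

end Frac

variable (k : Type u) [Field k] (d : ℕ) (B : Type u) [CommRing B] [IsDomain B]
    [Algebra (MvPowerSeries (Fin d) k) B] [Algebra k B] [IsScalarTower k (MvPowerSeries (Fin d) k) B]
    [Module.Finite (MvPowerSeries (Fin d) k) B]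

local notation "𝔄" => MvPowerSeries (Fin d) k

/-- The partial derivative `∂_j` extended to the fraction field of the power series ring. -/
noncomputable def partialFrac (j : Fin d) : Derivation k (FractionRing 𝔄) (FractionRing 𝔄) :=
  have : Algebra.FormallyEtale 𝔄 (FractionRing 𝔄) :=
    Algebra.FormallyEtale.of_isLocalization (nonZeroDivisors 𝔄)
  (extendFunctional (k := k) (B := 𝔄) (A := FractionRing 𝔄) (E := FractionRing 𝔄)
    (LinearMap.proj j ∘ₗ psi k d)).compDer (KaehlerDifferential.D k (FractionRing 𝔄))

theorem partialFrac_algebraMap (j : Fin d) (f : 𝔄) :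
    partialFrac k d j (algebraMap 𝔄 (FractionRing 𝔄) f) =
      algebraMap 𝔄 (FractionRing 𝔄) (psi k d (D k 𝔄 f) j) := by
  have : Algebra.FormallyEtale 𝔄 (FractionRing 𝔄) :=
    Algebra.FormallyEtale.of_isLocalization (nonZeroDivisors 𝔄)
  change extendFunctional (k := k) (B := 𝔄) (A := FractionRing 𝔄) (E := FractionRing 𝔄)
    (LinearMap.proj j ∘ₗ psi k d) (D k (FractionRing 𝔄) (algebraMap 𝔄 (FractionRing 𝔄) f)) = _
  rw [extendFunctional_D_algebraMap]
  rfl

end Groth.Agent.Lib.Helper22.BoundedDer
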