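import Mathlib
import Groth.Agent.Lib.Helper5.PowSerKaehler
import Groth.Agent.S9405

set_option autoImplicit false
set_option linter.style.haveILetI false
set_option linter.unusedSectionVars false

namespace Groth.Agent.Lib.Helper22.SepPowSer

open IsLocalRing TensorProduct KaehlerDifferential MvPowerSeries

universe u

variable (k : Type u) [Field k] (r : ℕ) (A : Type u) [CommRing A]
    [IsLocalRing A] [IsNoetherianRing A]
    [Algebra (MvPowerSeries (Fin r) k) A] [Algebra k A] [IsScalarTower k (MvPowerSeries (Fin r) k) A]
    [Module.Finite (MvPowerSeries (Fin r) k) A]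

local notation "𝔄" => MvPowerSeries (Fin r) k

include r

theorem comap_maximalIdeal :
    (maximalIdeal A).comap (algebraMap 𝔄 A) = maximalIdeal 𝔄 := by
  have : Algebra.IsIntegral 𝔄 A := Algebra.IsIntegral.of_finite _ _
  have h := Ideal.isMaximal_comap_of_isIntegral_of_isMaximal (R := 𝔄) (maximalIdeal A)
  exact IsLocalRing.eq_maximalIdeal h

theorem algebraMap_mem_maximalIdeal {a : 𝔄} (ha : a ∈ maximalIdeal 𝔄) :
    algebraMap 𝔄 A a ∈ maximalIdeal A := by
  rw [← comap_maximalIdeal k r A] at ha
  exact ha

theorem finite_residueField : Module.Finite k (ResidueField A) := by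
  have h0 : Module.Finite A (ResidueField A) :=
    Module.Finite.of_surjective (Algebra.linearMap A (ResidueField A)) residue_surjective
  have h1 : Module.Finite 𝔄 (ResidueField A) := Module.Finite.trans A _
  obtain ⟨s, hs⟩ := h1.fg_top
  refine ⟨⟨s, ?_⟩⟩
  rw [eq_top_iff]
  rintro x -
  have hx : x ∈ Submodule.span 𝔄 (s : Set (ResidueField A)) := by rw [hs]; trivial
  induction hx using Submodule.span_induction with
  | mem x hx => exact Submodule.subset_span hx
  | zero => exact Submodule.zero_mem _
  | add x y _ _ hx hy => exact Submodule.add_mem _ hx hy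
  | smul a x _ hx =>
    have h2 : a • x = (constantCoeff a : k) • x := by
      have h3 : a - C (constantCoeff a) ∈ maximalIdeal 𝔄 := by
        rw [IsLocalRing.mem_maximalIdeal, mem_nonunits_iff, MvPowerSeries.isUnit_iff_constantCoeff]
        simp
      have h4 := algebraMap_mem_maximalIdeal k r A h3
      have h5 : (a - C (constantCoeff a)) • x = 0 := by
        rw [← algebraMap_smul A, ← algebraMap_smul (ResidueField A), smul_eq_mul]
        have : algebraMap A (ResidueField A) (algebraMap 𝔄 A (a - C (constantCoeff a))) = 0 :=
          (residue_eq_zero_iff _).mpr h4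
        rw [this, zero_mul]
      rw [sub_smul, sub_eq_zero] at h5
      rw [h5]
      have : (C (constantCoeff a) : 𝔄) = algebraMap k 𝔄 (constantCoeff a) := rfl
      rw [this, algebraMap_smul]
    rw [h2]
    exact Submodule.smul_mem _ _ hx

theorem finite_kaehler_residueField :
    Module.Finite (ResidueField A) (Ω[ResidueField A⁄k]) := by
  have := finite_residueField k r A
  have : Algebra.FiniteType k (ResidueField A) := inferInstance
  infer_instance

theorem finite_completedKaehler [IsAdicComplete (maximalIdeal A) A] :
    Module.Finite A (AdicCompletion (maximalIdeal A) (Ω[A⁄k])) := by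
  have hcot : Module.Finite (A ⧸ maximalIdeal A) (maximalIdeal A).Cotangent :=
    inferInstanceAs (Module.Finite (ResidueField A) (CotangentSpace A))
  have hres : Module.Finite (A ⧸ maximalIdeal A) (Ω[A ⧸ maximalIdeal A⁄k]) :=
    finite_kaehler_residueField k r A
  exact Groth.Agent.Lib.Helper5.ComplKaehler.finite_completedKaehler (A := k) (maximalIdeal A)

end Groth.Agent.Lib.Helper22.SepPowSer
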