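import Mathlib
import Groth.Agent.Lib.Helper22.SepPowSerA

set_option autoImplicit false
set_option linter.style.haveILetI false
set_option linter.unusedSectionVars false

namespace Groth.Agent.Lib.Helper22.SepPowSer

open IsLocalRing TensorProduct KaehlerDifferential MvPowerSeries

universe u

variable (k : Type u) [Field k] (r : ℕ) (A : Type u) [CommRing A] [IsDomain A]
    [Algebra (MvPowerSeries (Fin r) k) A]

local notation "𝔄" => MvPowerSeries (Fin r) k

theorem formallyEtale_fractionRing
    (hinj : Function.Injective (algebraMap 𝔄 A))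
    (hsep : ∀ a : A, ∃ P : Polynomial 𝔄, Polynomial.aeval a P = 0 ∧
      (P.map (algebraMap 𝔄 (FractionRing 𝔄))).Separable) :
    Algebra.FormallyEtale 𝔄 (FractionRing A) := by
  have hF : FaithfulSMul 𝔄 A := (faithfulSMul_iff_algebraMap_injective 𝔄 A).mpr hinj
  letI : Algebra (FractionRing 𝔄) (FractionRing A) := FractionRing.liftAlgebra 𝔄 (FractionRing A)
  have hT : IsScalarTower 𝔄 (FractionRing 𝔄) (FractionRing A) :=
    FractionRing.isScalarTower_liftAlgebra 𝔄 (FractionRing A)
  have hs : Algebra.IsSeparable (FractionRing 𝔄) (FractionRing A) := by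
    rw [← separableClosure.eq_top_iff, eq_top_iff]
    rintro x -
    have key : ∀ a : A, algebraMap A (FractionRing A) a ∈
        separableClosure (FractionRing 𝔄) (FractionRing A) := by
      intro a
      rw [mem_separableClosure_iff]
      obtain ⟨P, hP0, hPs⟩ := hsep a
      refine hPs.of_dvd (minpoly.dvd _ _ ?_)
      rw [Polynomial.aeval_map_algebraMap, Polynomial.aeval_algebraMap_apply, hP0, map_zero]
    obtain ⟨a, b, -, rfl⟩ := IsFractionRing.div_surjective (A := A) x
    exact div_mem (key a) (key b)
  have h1 : Algebra.FormallyEtale 𝔄 (FractionRing 𝔄) :=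
    Algebra.FormallyEtale.of_isLocalization (nonZeroDivisors 𝔄)
  have h2 : Algebra.FormallyEtale (FractionRing 𝔄) (FractionRing A) :=
    Algebra.FormallyEtale.of_isSeparable _ _
  exact Algebra.FormallyEtale.comp 𝔄 (FractionRing 𝔄) (FractionRing A)

end Groth.Agent.Lib.Helper22.SepPowSer
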