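import Mathlib
import Groth.Agent.Lib.Helper22.SepPowSerA

set_option autoImplicit false
set_option linter.style.haveILetI false
set_option linter.unusedSectionVars false

namespace Groth.Agent.Lib.Helper22.SepPowSer

open IsLocalRing TensorProduct KaehlerDifferential MvPowerSeries
open Groth.Agent.Lib.Helper5.PowSer

universe u

section General

theorem mem_of_forall_mem_sup {A : Type*} [CommRing A] (I : Ideal A) {W : Type*} [AddCommGroup W]
    [Module A W] (N : Submodule A W) [hQ : IsHausdorff I (W ⧸ N)] (x : W)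
    (h : ∀ n : ℕ, x ∈ N ⊔ (I ^ n • ⊤ : Submodule A W)) : x ∈ N := by
  rw [← Submodule.Quotient.mk_eq_zero N]
  apply hQ.haus
  intro n
  rw [SModEq.zero]
  obtain ⟨p, hp, q, hq, rfl⟩ := Submodule.mem_sup.mp (h n)
  have h1 : (Submodule.Quotient.mk (p + q) : W ⧸ N) = N.mkQ q := by
    rw [Submodule.Quotient.mk_add, (Submodule.Quotient.mk_eq_zero N).mpr hp, zero_add]
    rfl
  rw [h1]
  have hle : Submodule.map N.mkQ (I ^ n • ⊤ : Submodule A W) ≤ (I ^ n • ⊤ : Submodule A (W ⧸ N)) := by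
    rw [Submodule.map_smul'']
    exact smul_mono_right _ le_top
  exact hle ⟨_, hq, rfl⟩

end General

variable (k : Type u) [Field k] (r : ℕ) (A : Type u) [CommRing A]
    [IsLocalRing A] [IsNoetherianRing A]
    [Algebra (MvPowerSeries (Fin r) k) A] [Algebra k A] [IsScalarTower k (MvPowerSeries (Fin r) k) A]
    [Module.Finite (MvPowerSeries (Fin r) k) A]

local notation "𝔄" => MvPowerSeries (Fin r) k

theorem range_phi_sup_pow (n : ℕ) :
    LinearMap.range (phi k r) ⊔ (maximalIdeal 𝔄 ^ n • ⊤ : Submodule 𝔄 Ω[𝔄⁄k]) = ⊤ := by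
  induction n with
  | zero => rw [pow_zero, Ideal.one_eq_top, Submodule.top_smul, sup_top_eq]
  | succ n ih =>
    have h1 : (maximalIdeal 𝔄 ^ n • ⊤ : Submodule 𝔄 Ω[𝔄⁄k]) ≤
        LinearMap.range (phi k r) ⊔ (maximalIdeal 𝔄 ^ (n + 1) • ⊤ : Submodule 𝔄 Ω[𝔄⁄k]) := by
      calc (maximalIdeal 𝔄 ^ n • ⊤ : Submodule 𝔄 Ω[𝔄⁄k])
          = maximalIdeal 𝔄 ^ n • (LinearMap.range (phi k r) ⊔
              (maximalIdeal 𝔄 • ⊤ : Submodule 𝔄 Ω[𝔄⁄k])) := by rw [range_phi_sup]
        _ = maximalIdeal 𝔄 ^ n • LinearMap.range (phi k r) ⊔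
              maximalIdeal 𝔄 ^ n • (maximalIdeal 𝔄 • ⊤ : Submodule 𝔄 Ω[𝔄⁄k]) :=
            Submodule.smul_sup _ _ _
        _ ≤ LinearMap.range (phi k r) ⊔
              (maximalIdeal 𝔄 ^ (n + 1) • ⊤ : Submodule 𝔄 Ω[𝔄⁄k]) := by
          refine sup_le_sup Submodule.smul_le_right ?_
          rw [← Submodule.smul_assoc, smul_eq_mul, ← pow_succ]
    apply eq_top_iff.mpr
    calc (⊤ : Submodule 𝔄 Ω[𝔄⁄k]) = LinearMap.range (phi k r) ⊔
          (maximalIdeal 𝔄 ^ n • ⊤ : Submodule 𝔄 Ω[𝔄⁄k]) := ih.symm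
      _ ≤ _ := sup_le le_sup_left h1

/-- The differentials `d(T_j)` in `Ω[A⁄k]`. -/
noncomputable def dT (j : Fin r) : Ω[A⁄k] := D k A (algebraMap 𝔄 A (X j))

/-- The completed differentials `d̂(T_j)`. -/
noncomputable def gen (j : Fin r) : AdicCompletion (maximalIdeal A) (Ω[A⁄k]) :=
  AdicCompletion.of _ _ (dT k r A j)

theorem algebraMap_mem_pow {n : ℕ} {b : 𝔄} (hb : b ∈ maximalIdeal 𝔄 ^ n) :
    algebraMap 𝔄 A b ∈ maximalIdeal A ^ n := by
  have h1 : Ideal.map (algebraMap 𝔄 A) (maximalIdeal 𝔄) ≤ maximalIdeal A := by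
    rw [Ideal.map_le_iff_le_comap, comap_maximalIdeal k r A]
  have h2 := Ideal.mem_map_of_mem (algebraMap 𝔄 A) hb
  rw [Ideal.map_pow] at h2
  exact Ideal.pow_right_mono h1 n h2

theorem map_mem (n : ℕ) (ω : Ω[𝔄⁄k]) :
    KaehlerDifferential.map k k 𝔄 A ω ∈ Submodule.span A (Set.range (dT k r A)) ⊔
      (maximalIdeal A ^ n • ⊤ : Submodule A Ω[A⁄k]) := by
  have hω : ω ∈ LinearMap.range (phi k r) ⊔ (maximalIdeal 𝔄 ^ n • ⊤ : Submodule 𝔄 Ω[𝔄⁄k]) := by
    rw [range_phi_sup_pow]; trivial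
  obtain ⟨_, ⟨c, rfl⟩, z, hz, rfl⟩ := Submodule.mem_sup.mp hω
  rw [map_add]
  refine Submodule.add_mem _ (Submodule.mem_sup_left ?_) (Submodule.mem_sup_right ?_)
  · change KaehlerDifferential.map k k 𝔄 A (Fintype.linearCombination 𝔄 (fun i => D k 𝔄 (X i)) c) ∈ _
    rw [Fintype.linearCombination_apply, map_sum]
    refine Submodule.sum_mem _ (fun j _ => ?_)
    rw [map_smul, KaehlerDifferential.map_D, ← algebraMap_smul A]
    exact Submodule.smul_mem _ _ (Submodule.subset_span ⟨j, rfl⟩)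
  · refine Submodule.smul_induction_on hz ?_ ?_
    · intro b hb x _
      rw [map_smul, ← algebraMap_smul A b (KaehlerDifferential.map k k 𝔄 A x)]
      exact Submodule.smul_mem_smul (algebraMap_mem_pow k r A hb) Submodule.mem_top
    · intro x y hx hy
      rw [map_add]; exact Submodule.add_mem _ hx hy

theorem mapBaseChange_mem (n : ℕ) (t : A ⊗[𝔄] Ω[𝔄⁄k]) :
    KaehlerDifferential.mapBaseChange k 𝔄 A t ∈ Submodule.span A (Set.range (dT k r A)) ⊔
      (maximalIdeal A ^ n • ⊤ : Submodule A Ω[A⁄k]) := by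
  induction t using TensorProduct.induction_on with
  | zero => rw [map_zero]; exact Submodule.zero_mem _
  | tmul a ω =>
    rw [KaehlerDifferential.mapBaseChange_tmul]
    exact Submodule.smul_mem _ _ (map_mem k r A n ω)
  | add x y hx hy => rw [map_add]; exact Submodule.add_mem _ hx hy

theorem of_mem (n : ℕ) (ω : Ω[A⁄k])
    (hω : ω ∈ Submodule.span A (Set.range (dT k r A)) ⊔
      (maximalIdeal A ^ n • ⊤ : Submodule A Ω[A⁄k])) :
    AdicCompletion.of (maximalIdeal A) _ ω ∈ Submodule.span A (Set.range (gen k r A)) ⊔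
      (maximalIdeal A ^ n • ⊤ : Submodule A (AdicCompletion (maximalIdeal A) (Ω[A⁄k]))) := by
  obtain ⟨u, hu, v, hv, rfl⟩ := Submodule.mem_sup.mp hω
  rw [map_add]
  refine Submodule.add_mem _ (Submodule.mem_sup_left ?_) (Submodule.mem_sup_right ?_)
  · have : Submodule.span A (Set.range (gen k r A)) =
        Submodule.map (AdicCompletion.of (maximalIdeal A) (Ω[A⁄k]))
          (Submodule.span A (Set.range (dT k r A))) := by
      rw [Submodule.map_span, ← Set.range_comp]
      rfl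
    rw [this]
    exact Submodule.mem_map_of_mem hu
  · have hle : Submodule.map (AdicCompletion.of (maximalIdeal A) (Ω[A⁄k]))
        (maximalIdeal A ^ n • ⊤ : Submodule A Ω[A⁄k]) ≤
        (maximalIdeal A ^ n • ⊤ : Submodule A (AdicCompletion (maximalIdeal A) (Ω[A⁄k]))) := by
      rw [Submodule.map_smul'']
      exact smul_mono_right _ le_top
    exact hle (Submodule.mem_map_of_mem hv)

theorem map_mapBaseChange_mem [IsAdicComplete (maximalIdeal A) A]
    (y : AdicCompletion (maximalIdeal A) (A ⊗[𝔄] Ω[𝔄⁄k])) :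
    AdicCompletion.map (maximalIdeal A) (KaehlerDifferential.mapBaseChange k 𝔄 A) y ∈
      Submodule.span A (Set.range (gen k r A)) := by
  have hW := finite_completedKaehler k r A
  apply mem_of_forall_mem_sup (maximalIdeal A)
  intro n
  obtain ⟨t, ht⟩ := Submodule.mkQ_surjective _ (AdicCompletion.eval (maximalIdeal A) _ n y)
  have h1 : AdicCompletion.map (maximalIdeal A) (KaehlerDifferential.mapBaseChange k 𝔄 A) y -
      AdicCompletion.of (maximalIdeal A) _ (KaehlerDifferential.mapBaseChange k 𝔄 A t) ∈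
      (maximalIdeal A ^ n • ⊤ : Submodule A (AdicCompletion (maximalIdeal A) (Ω[A⁄k]))) := by
    rw [AdicCompletion.pow_smul_top_eq_ker_eval (IsNoetherian.noetherian _), LinearMap.mem_ker,
      map_sub, AdicCompletion.eval_of, AdicCompletion.eval_apply, AdicCompletion.map_val_apply]
    have hy : y.val n = Submodule.mkQ _ t := ht.symm
    rw [hy]
    simp
  have h2 := of_mem k r A n _ (mapBaseChange_mem k r A n t)
  have h3 := Submodule.add_mem _ (Submodule.mem_sup_right h1) h2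
  rwa [sub_add_cancel] at h3

end Groth.Agent.Lib.Helper22.SepPowSer
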