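import Mathlib
import Groth.Agent.Lib.Helper22.SepPowSerB
import Groth.Agent.Lib.Helper22.SepPowSerC
import Groth.Agent.Lib.Helper22.SepPowSerD
import Groth.Agent.S5991

set_option autoImplicit false
set_option linter.style.haveILetI false
set_option linter.unusedSectionVars false

namespace Groth.Agent.Lib.Helper22.SepPowSer

open IsLocalRing TensorProduct KaehlerDifferential MvPowerSeries
open Groth.Agent.Lib.Helper5.PowSer

universe u

variable (k : Type u) [Field k] (r : ℕ) (A : Type u) [CommRing A]
    [IsDomain A] [IsLocalRing A] [IsNoetherianRing A] [IsAdicComplete (maximalIdeal A) A]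
    [Algebra (MvPowerSeries (Fin r) k) A] [Algebra k A] [IsScalarTower k (MvPowerSeries (Fin r) k) A]
    [Module.Finite (MvPowerSeries (Fin r) k) A]

local notation "𝔄" => MvPowerSeries (Fin r) k

theorem exists_smul_eq_zero [Algebra.FormallyEtale 𝔄 (FractionRing A)] (ω : Ω[A⁄𝔄]) :
    ∃ s : A, s ≠ 0 ∧ s • ω = 0 := by
  have hU : Algebra.FormallyUnramified 𝔄 (FractionRing A) := inferInstance
  have hsub : Subsingleton Ω[FractionRing A⁄𝔄] := inferInstance
  have hloc : IsLocalizedModule (nonZeroDivisors A)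
      (KaehlerDifferential.map 𝔄 𝔄 A (FractionRing A)) :=
    KaehlerDifferential.isLocalizedModule_map 𝔄 A (FractionRing A) (nonZeroDivisors A)
  obtain ⟨c, hc⟩ := IsLocalizedModule.exists_of_eq (S := nonZeroDivisors A)
    (f := KaehlerDifferential.map 𝔄 𝔄 A (FractionRing A))
    (Subsingleton.elim (KaehlerDifferential.map 𝔄 𝔄 A (FractionRing A) ω)
      (KaehlerDifferential.map 𝔄 𝔄 A (FractionRing A) 0))
  refine ⟨c, nonZeroDivisors.coe_ne_zero c, ?_⟩
  rw [smul_zero] at hc
  exact hc

theorem exists_smul_mem_span [Algebra.FormallyEtale 𝔄 (FractionRing A)]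
    (w : AdicCompletion (maximalIdeal A) (Ω[A⁄k])) :
    ∃ s : A, s ≠ 0 ∧ s • w ∈ Submodule.span A (Set.range (gen k r A)) := by
  have hres := finite_kaehler_residueField k r A
  obtain ⟨-, -, hex⟩ := Groth.Agent.S5991.result k 𝔄 A
  have hfin : Module.Finite A Ω[A⁄𝔄] := inferInstance
  obtain ⟨ω, hω⟩ := (Groth.Agent.S9405.of_bijective_of_finite (maximalIdeal A) Ω[A⁄𝔄]).2
    (AdicCompletion.map _ (KaehlerDifferential.map k 𝔄 A A) w)
  obtain ⟨s, hs0, hs⟩ := exists_smul_eq_zero k r A ω
  refine ⟨s, hs0, ?_⟩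
  have hker : s • w ∈ LinearMap.ker
      (AdicCompletion.map (maximalIdeal A) (KaehlerDifferential.map k 𝔄 A A)) := by
    rw [LinearMap.mem_ker, LinearMap.map_smul_of_tower, ← hω, ← map_smul, hs, map_zero]
  rw [← hex] at hker
  obtain ⟨y, hy⟩ := hker
  rw [← hy]
  exact map_mapBaseChange_mem k r A y

end Groth.Agent.Lib.Helper22.SepPowSer

namespace Groth.Agent.Lib.Helper22.SepPowSer

open IsLocalRing TensorProduct KaehlerDifferential MvPowerSeries
open Groth.Agent.Lib.Helper5.PowSer

universe u

variable (k : Type u) [Field k] (r : ℕ) (A : Type u) [CommRing A]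
    [IsDomain A] [IsLocalRing A] [IsNoetherianRing A] [IsAdicComplete (maximalIdeal A) A]
    [Algebra (MvPowerSeries (Fin r) k) A] [Algebra k A] [IsScalarTower k (MvPowerSeries (Fin r) k) A]
    [Module.Finite (MvPowerSeries (Fin r) k) A]

local notation "𝔄" => MvPowerSeries (Fin r) k

theorem psi_D_X (j : Fin r) : psi k r (D k 𝔄 (X j)) = Pi.single j 1 := by
  classical
  have h := psi_phi k r (Pi.single j 1)
  have h2 : phi k r (Pi.single j 1) = D k 𝔄 (X j) := by
    change Fintype.linearCombination 𝔄 (fun i => D k 𝔄 (X i)) (Pi.single j 1) = _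
    rw [Fintype.linearCombination_apply_single, one_smul]
  rwa [h2] at h

theorem span_one_tmul_gen [Algebra.FormallyEtale 𝔄 (FractionRing A)] :
    Submodule.span (FractionRing A)
      (Set.range (fun j => (1 : FractionRing A) ⊗ₜ[A] gen k r A j)) = ⊤ := by
  set V := Submodule.span (FractionRing A)
      (Set.range (fun j => (1 : FractionRing A) ⊗ₜ[A] gen k r A j)) with hV
  have h1 : ∀ x ∈ Submodule.span A (Set.range (gen k r A)),
      (1 : FractionRing A) ⊗ₜ[A] x ∈ V := by
    intro x hx
    induction hx using Submodule.span_induction with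
    | mem x hx =>
      obtain ⟨j, rfl⟩ := hx
      exact Submodule.subset_span ⟨j, rfl⟩
    | zero => rw [TensorProduct.tmul_zero]; exact V.zero_mem
    | add x y _ _ hx hy => rw [TensorProduct.tmul_add]; exact V.add_mem hx hy
    | smul a x _ hx =>
      rw [TensorProduct.tmul_smul, ← algebraMap_smul (FractionRing A)]
      exact V.smul_mem _ hx
  rw [eq_top_iff]
  rintro x -
  induction x using TensorProduct.induction_on with
  | zero => exact V.zero_mem
  | add x y hx hy => exact V.add_mem hx hy
  | tmul e w =>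
    obtain ⟨s, hs0, hs⟩ := exists_smul_mem_span k r A w
    have hs' : algebraMap A (FractionRing A) s ≠ 0 := by
      rwa [Ne, FaithfulSMul.algebraMap_eq_zero_iff]
    have h2 : e ⊗ₜ[A] w = (e * (algebraMap A (FractionRing A) s)⁻¹) •
        ((1 : FractionRing A) ⊗ₜ[A] (s • w)) := by
      rw [← TensorProduct.smul_tmul, TensorProduct.smul_tmul', smul_eq_mul, Algebra.smul_def,
        mul_one, mul_assoc, inv_mul_cancel₀ hs', mul_one]
    rw [h2]
    exact V.smul_mem _ (h1 _ hs)

theorem main (hinj : Function.Injective (algebraMap 𝔄 A))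
    (hsep : ∀ a : A, ∃ P : Polynomial 𝔄, Polynomial.aeval a P = 0 ∧
      (P.map (algebraMap 𝔄 (FractionRing 𝔄))).Separable) :
    Module.finrank (FractionRing A)
      (FractionRing A ⊗[A] AdicCompletion (maximalIdeal A) (Ω[A⁄k])) = r := by
  classical
  have hEt : Algebra.FormallyEtale 𝔄 (FractionRing A) := formallyEtale_fractionRing k r A hinj hsep
  have hspan := span_one_tmul_gen k r A
  -- the functionals
  let δ : Fin r → (Ω[𝔄⁄k] →ₗ[𝔄] 𝔄) := fun i => LinearMap.proj i ∘ₗ psi k r
  let l : Fin r → (Ω[A⁄k] →ₗ[A] FractionRing A) := fun i =>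
    extendFunctional (k := k) (B := 𝔄) (A := A) (E := FractionRing A) (δ i)
  obtain ⟨S, hS⟩ := (Module.Finite.fg_top : (⊤ : Submodule 𝔄 A).FG)
  have hΛ : ∀ i, ∃ Λ : AdicCompletion (maximalIdeal A) (Ω[A⁄k]) →ₗ[A] FractionRing A,
      ∀ x, Λ (AdicCompletion.of (maximalIdeal A) _ x) = l i x := by
    intro i
    refine exists_extend_adicCompletion (maximalIdeal A) (l i) _ ?_
      (range_extendFunctional_le (δ i) (S : Set A) hS)
    exact Submodule.fg_span (Set.Finite.insert _ (S.finite_toSet.image _))
  choose Λ hΛ using hΛ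
  let ΛE : FractionRing A ⊗[A] AdicCompletion (maximalIdeal A) (Ω[A⁄k]) →ₗ[FractionRing A]
      (Fin r → FractionRing A) := LinearMap.liftBaseChange (FractionRing A) (LinearMap.pi Λ)
  have hΛv : ∀ j, ΛE ((1 : FractionRing A) ⊗ₜ[A] gen k r A j) = Pi.single j 1 := by
    intro j
    rw [LinearMap.liftBaseChange_one_tmul]
    funext i
    rw [LinearMap.pi_apply]
    change Λ i (AdicCompletion.of _ _ (dT k r A j)) = _
    rw [hΛ i]
    change extendFunctional (δ i) (D k A (algebraMap 𝔄 A (X j))) = _
    rw [extendFunctional_D_algebraMap]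
    change algebraMap 𝔄 (FractionRing A) ((psi k r (D k 𝔄 (X j))) i) = _
    rw [psi_D_X]
    by_cases hij : i = j
    · subst hij; simp
    · rw [Pi.single_apply, Pi.single_apply, if_neg hij, if_neg hij, map_zero]
  have hli : LinearIndependent (FractionRing A)
      (fun j => (1 : FractionRing A) ⊗ₜ[A] gen k r A j) := by
    apply LinearIndependent.of_comp ΛE
    have : (ΛE ∘ fun j => (1 : FractionRing A) ⊗ₜ[A] gen k r A j) =
        fun j => Pi.single j 1 := funext hΛv
    rw [this]
    have hb := (Pi.basisFun (FractionRing A) (Fin r)).linearIndependent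
    have hbe : (⇑(Pi.basisFun (FractionRing A) (Fin r)) : Fin r → Fin r → FractionRing A) =
        fun j => Pi.single j 1 := by
      funext j
      exact Pi.basisFun_apply _ _ j
    rwa [hbe] at hb
  rw [Module.finrank_eq_card_basis (Module.Basis.mk hli hspan.ge), Fintype.card_fin]

end Groth.Agent.Lib.Helper22.SepPowSer
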