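import Mathlib
import Groth.Agent.Lib.Helper22.BoundedDerA
import Groth.Agent.Lib.Helper22.SepPowSerE

set_option autoImplicit false
set_option linter.style.haveILetI false
set_option linter.unusedSectionVars false

namespace Groth.Agent.Lib.Helper22.BoundedDer

open IsLocalRing TensorProduct KaehlerDifferential MvPowerSeries
open Groth.Agent.Lib.Helper5.PowSer Groth.Agent.Lib.Helper22.DerExt
open Groth.Agent.Lib.Helper22.SepPowSer
open scoped nonZeroDivisors

universe u

variable (k : Type u) [Field k] (d : ℕ) (B : Type u) [CommRing B] [IsDomain B]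
    [Algebra (MvPowerSeries (Fin d) k) B] [Algebra k B] [IsScalarTower k (MvPowerSeries (Fin d) k) B]
    [Module.Finite (MvPowerSeries (Fin d) k) B]

local notation "𝔄" => MvPowerSeries (Fin d) k

theorem li_comp_subtype {E V' V'' ι : Type*} [Field E] [AddCommGroup V'] [Module E V']
    [AddCommGroup V''] [Module E V''] (W' : Submodule E V') (f : ι → W')
    (hf : LinearIndependent E f) (g : V' →ₗ[E] V'') (hg : Function.Injective g) :
    LinearIndependent E (fun i => g (f i).1) := by
  have h1 : LinearIndependent E (fun i => ((f i : W') : V')) :=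
    hf.map' W'.subtype (Submodule.ker_subtype _)
  exact h1.map' g (LinearMap.ker_eq_bot.mpr hg)

/-- Restriction of derivations of the fraction field to the ring, as an `E`-linear map. -/
noncomputable def resRing : Derivation k (FractionRing B) (FractionRing B) →ₗ[FractionRing B]
    Derivation k B (FractionRing B) where
  toFun D := D.compAlgebraMap B
  map_add' _ _ := rfl
  map_smul' _ _ := rfl

theorem resRing_injective : Function.Injective (resRing k B) := by
  rw [injective_iff_map_eq_zero]
  intro D hD
  refine derivation_eq_zero_of_fractionRing (k := k) (B := B) D (fun b => ?_)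
  have := congrArg (fun Δ : Derivation k B (FractionRing B) => Δ b) hD
  exact this

theorem exists_bounded_derivations_aux (hinj : Function.Injective (algebraMap 𝔄 B)) :
    ∃ Δ : Fin d → Derivation k B (FractionRing B), LinearIndependent (FractionRing B) Δ ∧
      ∀ i, ∃ Φ : Submodule B (FractionRing B), Φ.FG ∧ ∀ b, Δ i b ∈ Φ := by
  classical
  have hFS : FaithfulSMul 𝔄 B := (faithfulSMul_iff_algebraMap_injective 𝔄 B).mpr hinj
  letI : Algebra (FractionRing 𝔄) (FractionRing B) := FractionRing.liftAlgebra 𝔄 (FractionRing B)
  have hT1 : IsScalarTower 𝔄 (FractionRing 𝔄) (FractionRing B) :=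
    FractionRing.isScalarTower_liftAlgebra 𝔄 (FractionRing B)
  have hT2 : IsScalarTower k (FractionRing 𝔄) (FractionRing B) :=
    IsScalarTower.of_algebraMap_eq (fun c => by
      rw [IsScalarTower.algebraMap_apply k 𝔄 (FractionRing 𝔄),
        ← IsScalarTower.algebraMap_apply 𝔄 (FractionRing 𝔄) (FractionRing B),
        ← IsScalarTower.algebraMap_apply k 𝔄 (FractionRing B)])
  have hInt : Algebra.IsIntegral 𝔄 B := Algebra.IsIntegral.of_finite _ _
  have hAlg : Algebra.IsAlgebraic 𝔄 B := inferInstance
  have hLoc : IsLocalization (Algebra.algebraMapSubmonoid B 𝔄⁰) (FractionRing B) := inferInstance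
  have hFD : FiniteDimensional (FractionRing 𝔄) (FractionRing B) :=
    Module.Finite.of_isLocalization 𝔄 B 𝔄⁰
  -- the basic derivations on the fraction field of the power series ring
  let Dj : Fin d → Derivation k (FractionRing 𝔄) (FractionRing B) := fun j =>
    (Algebra.linearMap (FractionRing 𝔄) (FractionRing B)).compDer (partialFrac k d j)
  have hDj : ∀ (j : Fin d) (f : 𝔄), Dj j (algebraMap 𝔄 (FractionRing 𝔄) f) =
      algebraMap 𝔄 (FractionRing B) (psi k d (D k 𝔄 f) j) := by
    intro j f
    change algebraMap (FractionRing 𝔄) (FractionRing B)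
      (partialFrac k d j (algebraMap 𝔄 (FractionRing 𝔄) f)) = _
    rw [partialFrac_algebraMap, ← IsScalarTower.algebraMap_apply]
  let ev : Derivation k (FractionRing 𝔄) (FractionRing B) →ₗ[FractionRing B]
      (Fin d → FractionRing B) :=
    { toFun := fun D i => D (algebraMap 𝔄 (FractionRing 𝔄) (X i))
      map_add' := fun _ _ => rfl
      map_smul' := fun _ _ => rfl }
  have hev : ∀ j, ev (Dj j) = Pi.single j 1 := by
    intro j
    funext i
    change Dj j (algebraMap 𝔄 (FractionRing 𝔄) (X i)) = _
    rw [hDj, psi_D_X]
    by_cases hij : i = j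
    · subst hij; simp
    · rw [Pi.single_apply, Pi.single_apply, if_neg (Ne.symm hij), if_neg hij, map_zero]
  have hli : LinearIndependent (FractionRing B) Dj := by
    apply LinearIndependent.of_comp ev
    have : (ev ∘ Dj) = fun j => Pi.single j 1 := funext hev
    rw [this]
    have hb := (Pi.basisFun (FractionRing B) (Fin d)).linearIndependent
    have hbe : (⇑(Pi.basisFun (FractionRing B) (Fin d)) : Fin d → Fin d → FractionRing B) =
        fun j => Pi.single j 1 := by
      funext j
      exact Pi.basisFun_apply _ _ j
    rwa [hbe] at hb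
  set W := Submodule.span (FractionRing B) (Set.range Dj) with hW
  have hrankW : (d : Cardinal) ≤ Module.rank (FractionRing B) W := by
    rw [natCast_le_rank_iff]
    refine ⟨fun j => ⟨Dj j, Submodule.subset_span ⟨j, rfl⟩⟩, ?_⟩
    exact LinearIndependent.of_comp W.subtype hli
  have hFT := rank_le_rank_comap_res k (Module.finrank (FractionRing 𝔄) (FractionRing B))
    (FractionRing 𝔄) (FractionRing B) rfl W
  obtain ⟨f, hf⟩ := exists_linearIndependent_of_le_rank (hrankW.trans hFT)
  refine ⟨fun i => resRing k B (f i).1, ?_, fun i => ?_⟩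
  · exact li_comp_subtype (E := FractionRing B) _ f hf (resRing k B) (resRing_injective k B)
  · have hmem : res k (FractionRing 𝔄) (FractionRing B) (FractionRing B) (f i).1 ∈ W := (f i).2
    obtain ⟨e, he⟩ := (Submodule.mem_span_range_iff_exists_fun (FractionRing B)).mp hmem
    obtain ⟨S, hS⟩ := (Module.Finite.fg_top : (⊤ : Submodule 𝔄 B).FG)
    let Φ : Submodule B (FractionRing B) := Submodule.span B
      (Set.range e ∪ (fun b => resRing k B (f i).1 b) '' (S : Set B))
    refine ⟨Φ, Submodule.fg_span ((Set.finite_range e).union (S.finite_toSet.image _)), ?_⟩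
    have hbase : ∀ c : 𝔄, resRing k B (f i).1 (algebraMap 𝔄 B c) ∈ Φ := by
      intro c
      have h1 : resRing k B (f i).1 (algebraMap 𝔄 B c) =
          res k (FractionRing 𝔄) (FractionRing B) (FractionRing B) (f i).1
            (algebraMap 𝔄 (FractionRing 𝔄) c) := by
        change (f i).1 (algebraMap B (FractionRing B) (algebraMap 𝔄 B c)) =
          (f i).1 (algebraMap (FractionRing 𝔄) (FractionRing B) (algebraMap 𝔄 (FractionRing 𝔄) c))
        rw [← IsScalarTower.algebraMap_apply, ← IsScalarTower.algebraMap_apply]
      rw [h1, ← he]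
      have hsum : (∑ j, e j • Dj j) (algebraMap 𝔄 (FractionRing 𝔄) c) =
          ∑ j, e j • (Dj j (algebraMap 𝔄 (FractionRing 𝔄) c)) := by
        have := congrFun (map_sum (Derivation.coeFnAddMonoidHom (R := k) (A := FractionRing 𝔄)
          (M := FractionRing B)) (fun j => e j • Dj j) Finset.univ)
          (algebraMap 𝔄 (FractionRing 𝔄) c)
        rw [Finset.sum_apply] at this
        exact this
      rw [hsum]
      refine Φ.sum_mem (fun j _ => ?_)
      rw [hDj, IsScalarTower.algebraMap_apply 𝔄 B (FractionRing B), smul_eq_mul, mul_comm,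
        ← Algebra.smul_def]
      exact Φ.smul_mem _ (Submodule.subset_span (Or.inl ⟨j, rfl⟩))
    intro b
    have hb : b ∈ Submodule.span 𝔄 (S : Set B) := by rw [hS]; trivial
    induction hb using Submodule.span_induction with
    | mem x hx => exact Submodule.subset_span (Or.inr ⟨x, hx, rfl⟩)
    | zero => rw [map_zero]; exact Φ.zero_mem
    | add x y _ _ hx hy => rw [map_add]; exact Φ.add_mem hx hy
    | smul c x _ hx =>
      rw [Algebra.smul_def, Derivation.leibniz]
      exact Φ.add_mem (Φ.smul_mem _ hx) (Φ.smul_mem _ (hbase c))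

end Groth.Agent.Lib.Helper22.BoundedDer
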