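import Mathlib

set_option autoImplicit false
set_option linter.style.haveILetI false
set_option linter.unusedSectionVars false

namespace Groth.Agent.Lib.Helper22.ComplKaehlerGen

open IsLocalRing TensorProduct KaehlerDifferential

universe u

section Choice

variable {K V : Type*} [Field K] [AddCommGroup V] [Module K V]

/-- Greedy choice of a linearly independent family from a sequence of spanning sets. -/
theorem exists_linearIndependent_prefix [FiniteDimensional K V] (S : ℕ → Set V)
    (hS : ∀ i, Submodule.span K (S i) = ⊤) (j : ℕ) (hj : j ≤ Module.finrank K V) :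
    ∃ v : Fin j → V, (∀ i : Fin j, v i ∈ S i) ∧ LinearIndependent K v := by
  induction j with
  | zero => exact ⟨Fin.elim0, fun i => i.elim0, linearIndependent_empty_type⟩
  | succ j ih =>
    obtain ⟨v, hvS, hvli⟩ := ih (Nat.le_of_succ_le hj)
    have hne : Submodule.span K (Set.range v) ≠ ⊤ := by
      intro h
      have h1 := finrank_span_eq_card hvli
      rw [h, finrank_top, Fintype.card_fin] at h1
      omega
    have hex : ∃ w ∈ S j, w ∉ Submodule.span K (Set.range v) := by
      by_contra hcon
      push Not at hcon
      apply hne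
      rw [eq_top_iff, ← hS j]
      exact Submodule.span_le.mpr hcon
    obtain ⟨w, hwS, hw⟩ := hex
    refine ⟨Fin.snoc v w, ?_, linearIndependent_finSnoc.mpr ⟨hvli, hw⟩⟩
    intro i
    refine Fin.lastCases ?_ (fun i => ?_) i
    · simpa using hwS
    · simpa using hvS i

theorem exists_linearIndependent_of_span_eq_top [FiniteDimensional K V] (M : ℕ)
    (hM : Module.finrank K V = M) (S : Fin M → Set V)
    (hS : ∀ i, Submodule.span K (S i) = ⊤) :
    ∃ v : Fin M → V, (∀ i, v i ∈ S i) ∧ LinearIndependent K v := by
  let S' : ℕ → Set V := fun n => if h : n < M then S ⟨n, h⟩ else Set.univ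
  have hS' : ∀ n, Submodule.span K (S' n) = ⊤ := by
    intro n
    by_cases h : n < M
    · simp only [S', dif_pos h]; exact hS _
    · simp only [S', dif_neg h]; exact Submodule.span_univ
  obtain ⟨v, hv, hli⟩ := exists_linearIndependent_prefix S' hS' M hM.ge
  refine ⟨v, fun i => ?_, hli⟩
  have := hv i
  simp only [S', dif_pos i.isLt] at this
  exact this

end Choice

section Span

variable {k A : Type u} [Field k] [CommRing A] [Algebra k A] [IsLocalRing A] [IsNoetherianRing A]

/-- The completed module of differentials, when finite, is generated by the `d̂a`. -/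
theorem span_of_D_eq_top [Module.Finite A (AdicCompletion (maximalIdeal A) (Ω[A⁄k]))] :
    Submodule.span A (Set.range fun a : A =>
      AdicCompletion.of (maximalIdeal A) (Ω[A⁄k]) (D k A a)) = ⊤ := by
  set N₀ := Submodule.span A (Set.range fun a : A =>
      AdicCompletion.of (maximalIdeal A) (Ω[A⁄k]) (D k A a)) with hN₀
  have hof : ∀ ω : Ω[A⁄k], AdicCompletion.of (maximalIdeal A) (Ω[A⁄k]) ω ∈ N₀ := by
    intro ω
    have hω : ω ∈ Submodule.span A (Set.range (D k A)) := by
      rw [KaehlerDifferential.span_range_derivation]; trivial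
    have : Submodule.map (AdicCompletion.of (maximalIdeal A) (Ω[A⁄k]))
        (Submodule.span A (Set.range (D k A))) = N₀ := by
      rw [Submodule.map_span, ← Set.range_comp]; rfl
    rw [← this]
    exact Submodule.mem_map_of_mem hω
  have key : (⊤ : Submodule A (AdicCompletion (maximalIdeal A) (Ω[A⁄k]))) ≤
      N₀ ⊔ maximalIdeal A • ⊤ := by
    rintro w -
    obtain ⟨ω, hω⟩ := Submodule.mkQ_surjective _
      (AdicCompletion.eval (maximalIdeal A) (Ω[A⁄k]) 1 w)
    have h1 : w - AdicCompletion.of (maximalIdeal A) _ ω ∈
        (maximalIdeal A • ⊤ : Submodule A (AdicCompletion (maximalIdeal A) (Ω[A⁄k]))) := by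
      have hk : (maximalIdeal A • ⊤ : Submodule A (AdicCompletion (maximalIdeal A) (Ω[A⁄k]))) =
          LinearMap.ker (AdicCompletion.eval (maximalIdeal A) (Ω[A⁄k]) 1) := by
        have := AdicCompletion.pow_smul_top_eq_ker_eval (I := maximalIdeal A) (M := Ω[A⁄k])
          (n := 1) (IsNoetherian.noetherian _)
        rw [← this]
        congr 1
        exact (pow_one _).symm
      rw [hk, LinearMap.mem_ker, map_sub, AdicCompletion.eval_of, hω, sub_self]
    have h2 := Submodule.add_mem _ (Submodule.mem_sup_right h1) (Submodule.mem_sup_left (hof ω))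
    rwa [sub_add_cancel] at h2
  rw [eq_top_iff]
  exact Submodule.le_of_le_smul_of_le_jacobson_bot Module.Finite.fg_top
    (by rw [jacobson_eq_maximalIdeal]; exact bot_ne_top) key

end Span

end Groth.Agent.Lib.Helper22.ComplKaehlerGen
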