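import Mathlib
import Groth.Agent.Lib.Helper22.BoundedDerB
import Groth.Agent.Lib.Helper22.ComplKaehlerGen
import Groth.Agent.Lib.Helper12.CohenFinD
import Groth.Agent.Lib.Helper5.FlatCohenD

set_option autoImplicit false
set_option linter.style.haveILetI false
set_option linter.unusedSectionVars false

namespace Groth.Agent.Lib.Helper22.BoundedDer

open IsLocalRing TensorProduct KaehlerDifferential MvPowerSeries
open Groth.Agent.Lib.Helper22.SepPowSer
open scoped nonZeroDivisors

universe u

/-- Bounded derivations on a complete local domain with residue field finite over `k`. -/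
theorem exists_bounded_derivations (k B : Type u) [Field k] [CommRing B] [IsDomain B]
    [IsLocalRing B] [IsNoetherianRing B] [Algebra k B] [IsAdicComplete (maximalIdeal B) B]
    [Module.Finite k (ResidueField B)] :
    ∃ d : ℕ, ringKrullDim B = d ∧
      ∃ Δ : Fin d → Derivation k B (FractionRing B), LinearIndependent (FractionRing B) Δ ∧
        ∀ i, ∃ Φ : Submodule B (FractionRing B), Φ.FG ∧ ∀ b, Δ i b ∈ Φ := by
  obtain ⟨n, w, hinj, -, hfin, hdim⟩ :=
    Groth.Agent.Lib.Helper12.CohenFin.exists_finite_injective_of_field (k₀ := k) (A := B)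
  letI : Algebra (MvPowerSeries (Fin n) k) B := w.toRingHom.toAlgebra
  haveI : IsScalarTower k (MvPowerSeries (Fin n) k) B :=
    IsScalarTower.of_algebraMap_eq (fun c => (w.commutes c).symm)
  haveI : Module.Finite (MvPowerSeries (Fin n) k) B := hfin
  exact ⟨n, hdim, exists_bounded_derivations_aux k n B hinj⟩

/-- Nakayama at a prime: a finite module is generated at `p` by `r` elements, where `r` is the
dimension of the fibre. -/
theorem exists_gens_at_prime {A : Type u} [CommRing A] (p : Ideal A) [p.IsPrime] (M : Type u)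
    [AddCommGroup M] [Module A M] [Module.Finite A M] (r : ℕ)
    (hr : Module.finrank p.ResidueField (p.ResidueField ⊗[A] M) = r) :
    ∃ w : Fin r → M, ∀ x : M, ∃ s : A, s ∉ p ∧ s • x ∈ Submodule.span A (Set.range w) := by
  classical
  set K := p.ResidueField
  let S : Set (K ⊗[A] M) := Set.range (fun m : M => (1 : K) ⊗ₜ[A] m)
  have hS : Submodule.span K S = ⊤ := by
    rw [eq_top_iff]
    rintro x -
    induction x using TensorProduct.induction_on with
    | zero => exact Submodule.zero_mem _
    | add x y hx hy => exact Submodule.add_mem _ hx hy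
    | tmul e m =>
      have : e ⊗ₜ[A] m = e • ((1 : K) ⊗ₜ[A] m) := by
        rw [TensorProduct.smul_tmul', smul_eq_mul, mul_one]
      rw [this]
      exact Submodule.smul_mem _ _ (Submodule.subset_span ⟨m, rfl⟩)
  obtain ⟨v, hv, hli⟩ :=
    Groth.Agent.Lib.Helper22.ComplKaehlerGen.exists_linearIndependent_of_span_eq_top
      (K := K) (V := K ⊗[A] M) r hr (fun _ => S) (fun _ => hS)
  choose w hw using hv
  have hspan : Submodule.span K (Set.range v) = ⊤ :=
    hli.span_eq_top_of_card_eq_finrank' (by rw [Fintype.card_fin, hr])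
  refine ⟨w, ?_⟩
  set N := Submodule.span A (Set.range w)
  let g : K ⊗[A] M →ₗ[K] K ⊗[A] (M ⧸ N) := LinearMap.baseChange K N.mkQ
  have hg0 : g = 0 := by
    have : Submodule.span K (Set.range v) ≤ LinearMap.ker g := by
      rw [Submodule.span_le]
      rintro _ ⟨i, rfl⟩
      rw [SetLike.mem_coe, LinearMap.mem_ker, ← hw i]
      change (1 : K) ⊗ₜ[A] N.mkQ (w i) = 0
      have : N.mkQ (w i) = 0 := by
        rw [Submodule.mkQ_apply, Submodule.Quotient.mk_eq_zero]
        exact Submodule.subset_span ⟨i, rfl⟩
      rw [this, TensorProduct.tmul_zero]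
    rw [hspan, top_le_iff, LinearMap.ker_eq_top] at this
    exact this
  have hgs : Function.Surjective g :=
    LinearMap.lTensor_surjective K (Submodule.mkQ_surjective N)
  have hsub : Subsingleton (K ⊗[A] (M ⧸ N)) := by
    refine ⟨fun a b => ?_⟩
    obtain ⟨a', rfl⟩ := hgs a
    obtain ⟨b', rfl⟩ := hgs b
    rw [hg0]; rfl
  have hsupp : (⟨p, inferInstance⟩ : PrimeSpectrum A) ∉ Module.support A (M ⧸ N) := by
    rw [Module.mem_support_iff_nontrivial_residueField_tensorProduct]
    exact not_nontrivial_iff_subsingleton.mpr hsub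
  rw [Module.notMem_support_iff'] at hsupp
  intro x
  obtain ⟨s, hs, hsx⟩ := hsupp (N.mkQ x)
  refine ⟨s, hs, ?_⟩
  rw [← map_smul, Submodule.mkQ_apply, Submodule.Quotient.mk_eq_zero] at hsx
  exact hsx

end Groth.Agent.Lib.Helper22.BoundedDer
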