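import Mathlib
import Groth.Agent.Lib.Helper22.BoundedDerC

set_option autoImplicit false
set_option linter.style.haveILetI false
set_option linter.unusedSectionVars false

namespace Groth.Agent.Lib.Helper22.BoundedDer

open IsLocalRing TensorProduct KaehlerDifferential MvPowerSeries
open Groth.Agent.Lib.Helper22.SepPowSer
open scoped nonZeroDivisors

universe u

theorem derivation_sum_apply {k B E : Type*} [CommRing k] [CommRing B] [Field E] [Algebra k B]
    [Algebra B E] [Algebra k E] [IsScalarTower k B E] {ι : Type*} (s : Finset ι) (c : ι → E)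
    (Δ : ι → Derivation k B E) (b : B) :
    (∑ i ∈ s, c i • Δ i) b = ∑ i ∈ s, c i * Δ i b := by
  classical
  induction s using Finset.induction_on with
  | empty => simp
  | insert i s hi ih =>
    rw [Finset.sum_insert hi, Finset.sum_insert hi, Derivation.add_apply, ih,
      Derivation.smul_apply, smul_eq_mul]

theorem le_of_derivations {k A : Type u} [Field k] [CommRing A] [Algebra k A]
    [IsNoetherianRing A] (I : Ideal A) [IsAdicComplete I A]
    (p : Ideal A) [p.IsPrime] [Module.Finite A (AdicCompletion I Ω[A⁄k])]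
    (B : Type u) [CommRing B] [IsDomain B] [Algebra A B] [Algebra k B] [IsScalarTower k A B]
    (hsurj : Function.Surjective (algebraMap A B)) (hker : RingHom.ker (algebraMap A B) ≤ p)
    (d : ℕ) (Δ : Fin d → Derivation k B (FractionRing B))
    (hΔ : LinearIndependent (FractionRing B) Δ)
    (hΦ : ∀ i, ∃ Φ : Submodule B (FractionRing B), Φ.FG ∧ ∀ b, Δ i b ∈ Φ) :
    d ≤ Module.finrank p.ResidueField (p.ResidueField ⊗[A] AdicCompletion I Ω[A⁄k]) := by
  classical
  set E := FractionRing B
  set W := AdicCompletion I Ω[A⁄k]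
  set r := Module.finrank p.ResidueField (p.ResidueField ⊗[A] W) with hr
  obtain ⟨w, hw⟩ := exists_gens_at_prime p W r hr.symm
  by_contra hlt
  rw [not_le] at hlt
  choose Φ hΦfg hΦmem using hΦ
  -- the linear maps
  let δ : Fin d → Derivation k A E := fun i => (Δ i).compAlgebraMap A
  let l : Fin d → Ω[A⁄k] →ₗ[A] E := fun i => (δ i).liftKaehlerDifferential
  have hlD : ∀ i a, l i (D k A a) = Δ i (algebraMap A B a) := by
    intro i a
    exact Derivation.liftKaehlerDifferential_comp_D (δ i) a
  have hfinAB : Module.Finite A B := Module.Finite.of_surjective (Algebra.linearMap A B) hsurj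
  have hrange : ∀ i, LinearMap.range (l i) ≤ (Φ i).restrictScalars A := by
    intro i
    rw [LinearMap.range_eq_map, ← KaehlerDifferential.span_range_derivation, Submodule.map_span,
      Submodule.span_le]
    rintro _ ⟨_, ⟨a, rfl⟩, rfl⟩
    rw [hlD]
    exact hΦmem i _
  have hΛ : ∀ i, ∃ Λ : W →ₗ[A] E, ∀ x, Λ (AdicCompletion.of I Ω[A⁄k] x) = l i x := fun i =>
    exists_extend_adicCompletion I (l i) ((Φ i).restrictScalars A)
      (Submodule.FG.restrictScalars (hΦfg i)) (hrange i)
  choose Λ hΛof using hΛ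
  -- dependence
  have hdep : ¬ LinearIndependent E (fun i : Fin d => (fun j : Fin r => Λ i (w j))) := by
    intro hli
    have := hli.fintype_card_le_finrank
    rw [Fintype.card_fin, Module.finrank_fin_fun] at this
    omega
  rw [Fintype.not_linearIndependent_iff] at hdep
  obtain ⟨c, hc, i₀, hi₀⟩ := hdep
  let Ψ : W →ₗ[A] E := ∑ i, (LinearMap.mulLeft A (c i)) ∘ₗ Λ i
  have hΨ : ∀ x, Ψ x = ∑ i, c i * Λ i x := by
    intro x
    simp only [Ψ, LinearMap.sum_apply, LinearMap.comp_apply, LinearMap.mulLeft_apply]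
  have hΨw : ∀ j, Ψ (w j) = 0 := by
    intro j
    rw [hΨ]
    have := congrFun hc j
    simpa [Finset.sum_apply, Pi.smul_apply, smul_eq_mul] using this
  have hΨspan : Submodule.span A (Set.range w) ≤ LinearMap.ker Ψ := by
    rw [Submodule.span_le]
    rintro _ ⟨j, rfl⟩
    exact hΨw j
  have hΨ0 : ∀ x, Ψ x = 0 := by
    intro x
    obtain ⟨s, hs, hsx⟩ := hw x
    have h1 : Ψ (s • x) = 0 := hΨspan hsx
    rw [map_smul, Algebra.smul_def, mul_eq_zero] at h1
    rcases h1 with h1 | h1
    · exfalso
      rw [IsScalarTower.algebraMap_apply A B E, FaithfulSMul.algebraMap_eq_zero_iff] at h1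
      exact hs (hker h1)
    · exact h1
  have hsum : ∑ i, c i • Δ i = 0 := by
    ext b
    obtain ⟨a, rfl⟩ := hsurj b
    rw [derivation_sum_apply]
    have := hΨ0 (AdicCompletion.of I Ω[A⁄k] (D k A a))
    rw [hΨ] at this
    simp only [hΛof, hlD] at this
    simpa using this
  exact hi₀ (Fintype.linearIndependent_iff.mp hΔ c hsum i₀)

end Groth.Agent.Lib.Helper22.BoundedDer
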