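import Mathlib
import Groth.Agent.Lib.Helper22.BoundedDerD
import Groth.Agent.Lib.Helper5.ComplKaehler

set_option autoImplicit false
set_option linter.style.haveILetI false
set_option linter.unusedSectionVars false

namespace Groth.Agent.Lib.Helper22.BoundedDer

open IsLocalRing TensorProduct KaehlerDifferential MvPowerSeries
open Groth.Agent.Lib.Helper22.SepPowSer
open scoped nonZeroDivisors

universe u

theorem finite_residueField_quotient (k A : Type u) [Field k] [CommRing A] [IsLocalRing A]
    [Algebra k A] [Module.Finite k (ResidueField A)] (q : Ideal A) [IsLocalRing (A ⧸ q)] :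
    Module.Finite k (ResidueField (A ⧸ q)) := by
  let f : A →ₐ[k] ResidueField (A ⧸ q) :=
    (IsScalarTower.toAlgHom k (A ⧸ q) (ResidueField (A ⧸ q))).comp (Ideal.Quotient.mkₐ k q)
  have hf : ∀ a ∈ maximalIdeal A, f a = 0 := by
    intro a ha
    change residue (A ⧸ q) (Ideal.Quotient.mk q a) = 0
    rw [residue_eq_zero_iff]
    intro hu
    have : IsUnit a := by
      obtain ⟨b, hb⟩ := isUnit_iff_exists_inv.mp hu
      obtain ⟨b', rfl⟩ := Ideal.Quotient.mk_surjective b
      rw [← map_mul, ← map_one (Ideal.Quotient.mk q), Ideal.Quotient.eq] at hb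
      have hq : q ≤ maximalIdeal A := le_maximalIdeal (by
        intro h
        have : Subsingleton (A ⧸ q) := by
          rw [h]; exact Ideal.Quotient.subsingleton_iff.mpr rfl
        exact not_subsingleton (A ⧸ q) this)
      by_contra hau
      have h1 : a * b' ∈ maximalIdeal A := Ideal.mul_mem_right _ _ ha
      have h2 : a * b' - 1 ∈ maximalIdeal A := hq hb
      have : (1 : A) ∈ maximalIdeal A := by
        have := Ideal.sub_mem _ h1 h2
        simpa using this
      exact (Ideal.ne_top_iff_one _).mp (maximalIdeal.isMaximal A).ne_top this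
    exact ha this
  let g : ResidueField A →ₐ[k] ResidueField (A ⧸ q) := Ideal.Quotient.liftₐ (maximalIdeal A) f hf
  have hg : Function.Surjective g := by
    intro y
    obtain ⟨b, rfl⟩ := residue_surjective y
    obtain ⟨a, rfl⟩ := Ideal.Quotient.mk_surjective b
    exact ⟨residue A a, rfl⟩
  exact Module.Finite.of_surjective g.toLinearMap hg

theorem main (k A : Type u) [Field k] [CommRing A] [IsLocalRing A] [IsNoetherianRing A]
    [Algebra k A] [IsAdicComplete (maximalIdeal A) A] [Module.Finite k (ResidueField A)]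
    (p q : Ideal A) [p.IsPrime] [q.IsPrime] (hqp : q ≤ p) :
    ringKrullDim (A ⧸ q) ≤
      (Cardinal.toENat (Module.rank p.ResidueField
        (p.ResidueField ⊗[A] AdicCompletion (maximalIdeal A) Ω[A⁄k])) : WithBot ℕ∞) := by
  classical
  have hfk : Module.Finite (A ⧸ maximalIdeal A) (Ω[A ⧸ maximalIdeal A⁄k]) := by
    have h1 : Algebra.FiniteType k (ResidueField A) := inferInstance
    exact inferInstanceAs (Module.Finite (ResidueField A) (Ω[ResidueField A⁄k]))
  have hcot : Module.Finite (A ⧸ maximalIdeal A) (maximalIdeal A).Cotangent :=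
    inferInstanceAs (Module.Finite (ResidueField A) (CotangentSpace A))
  have hW : Module.Finite A (AdicCompletion (maximalIdeal A) (Ω[A⁄k])) :=
    Groth.Agent.Lib.Helper5.ComplKaehler.finite_completedKaehler (A := k) (maximalIdeal A)
  haveI : IsLocalRing (A ⧸ q) :=
    IsLocalRing.of_surjective' (Ideal.Quotient.mk q) Ideal.Quotient.mk_surjective
  haveI : IsAdicComplete (maximalIdeal (A ⧸ q)) (A ⧸ q) :=
    Groth.Agent.Lib.Helper5.FlatCohen.isAdicComplete_quotient q
  haveI : Module.Finite k (ResidueField (A ⧸ q)) := finite_residueField_quotient k A q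
  obtain ⟨d, hd, Δ, hΔ, hΦ⟩ := exists_bounded_derivations k (A ⧸ q)
  have hle := le_of_derivations (k := k) (maximalIdeal A) p (A ⧸ q)
    Ideal.Quotient.mk_surjective (by
      intro a ha
      rw [RingHom.mem_ker] at ha
      exact hqp (Ideal.Quotient.eq_zero_iff_mem.mp ha)) d Δ hΔ hΦ
  rw [hd, ← Module.finrank_eq_rank, Cardinal.toENat_nat]
  exact_mod_cast hle

end Groth.Agent.Lib.Helper22.BoundedDer
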