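import Mathlib

/-!
# Key lemma (many idempotents): orthogonal elements of a birational finite algebra after a
quasi-finite flat base change produce distinct minimal primes
-/

set_option autoImplicit false
set_option linter.style.haveILetI false
set_option linter.unusedSectionVars false

namespace Groth.Agent.Lib.Helper22.BrCountKey

open TensorProduct

/-- Going down: the contraction of a minimal prime is minimal. -/
theorem under_mem_minimalPrimes {R S : Type*} [CommRing R] [CommRing S]
    [Algebra R S] [Algebra.HasGoingDown R S] {Q : Ideal S} (hQ : Q ∈ minimalPrimes S) :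
    Q.under R ∈ minimalPrimes R := by
  haveI : Q.IsPrime := hQ.1.1
  refine ⟨⟨Ideal.comap_isPrime _ _, bot_le⟩, ?_⟩
  rintro P ⟨hP, -⟩ hle
  by_contra hne
  have hlt : P < Q.under R := lt_of_le_of_ne hle (fun h => hne (h ▸ le_rfl))
  obtain ⟨Q', hQ'le, hQ'prime, hQ'over⟩ :=
    Algebra.HasGoingDown.exists_ideal_le_liesOver_of_lt (p := P) Q hlt
  have h2 : Q ≤ Q' := hQ.2 ⟨hQ'prime, bot_le⟩ hQ'le
  have h3 : Q' = Q := le_antisymm hQ'le h2
  apply hne
  rw [← h3]
  exact le_of_eq hQ'over.over.symm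

variable {R₀ : Type*} [CommRing R₀] (p : Ideal R₀) [p.IsPrime]
  {S : Type*} [CommRing S] [Algebra R₀ S]
  {R' : Type*} [CommRing R'] [Algebra R₀ R'] [Algebra.QuasiFinite R₀ R'] (P : Ideal R') [P.IsPrime]
  {T : Type*} [CommRing T] [Algebra R₀ T] [Algebra R' T] [Algebra S T] [IsScalarTower R₀ R' T]
  [IsScalarTower R₀ S T] [Module.Flat S T]

include S in
theorem keyN (hPp : P.under R₀ ≤ p)
    (hS : ∀ s : Ideal S, s ∈ minimalPrimes S → s.under R₀ ∈ minimalPrimes R₀)
    (hgen : ∀ x : T, ∃ d : R₀, (∀ 𝔮 ∈ minimalPrimes R₀, 𝔮 ≤ p → d ∉ 𝔮) ∧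
      ∃ y : R', d • x = algebraMap R' T y)
    {ι : Type*} (e : ι → T) (he : ∀ i j, i ≠ j → e i * e j = 0)
    (P' : ι → Ideal T) (hP'prime : ∀ i, (P' i).IsPrime) (hP' : ∀ i, (P' i).under R' = P)
    (hne : ∀ i, e i ∉ P' i) :
    ∃ r : ι → Ideal R', Function.Injective r ∧ ∀ i, r i ∈ minimalPrimes R' ∧ r i ≤ P := by
  have hex : ∀ i, ∃ t : Ideal T, t ∈ minimalPrimes T ∧ t ≤ P' i := fun i =>
    Ideal.exists_minimalPrimes_le (bot_le : (⊥ : Ideal T) ≤ P' i)
  choose t htmin htle using hex
  have htp : ∀ i, (t i).IsPrime := fun i => (htmin i).1.1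
  have hemem : ∀ i j, i ≠ j → e j ∈ t i := by
    intro i j hij
    have h : e i * e j ∈ t i := by rw [he i j hij]; exact (t i).zero_mem
    rcases (htp i).mem_or_mem h with h | h
    · exact absurd (htle i h) (hne i)
    · exact h
  -- contraction to R₀
  have hunder : ∀ i, (t i).under R₀ ∈ minimalPrimes R₀ := by
    intro i
    have h1 : (t i).under S ∈ minimalPrimes S := under_mem_minimalPrimes (htmin i)
    have h2 := hS _ h1
    rwa [Ideal.under_under] at h2
  have hle : ∀ i, (t i).under R' ≤ P := fun i => hP' i ▸ Ideal.comap_mono (htle i)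
  have hunderle : ∀ i, (t i).under R₀ ≤ p := by
    intro i
    have h1 : ((t i).under R').under R₀ ≤ P.under R₀ := Ideal.comap_mono (hle i)
    rw [Ideal.under_under] at h1
    exact h1.trans hPp
  -- minimality of the contractions to R'
  have hminR' : ∀ i, (t i).under R' ∈ minimalPrimes R' := by
    intro i
    haveI := htp i
    haveI : ((t i).under R').IsPrime := Ideal.IsPrime.under R' (t i)
    obtain ⟨r', hr'min, hr'le⟩ :=
      Ideal.exists_minimalPrimes_le (bot_le : (⊥ : Ideal R') ≤ (t i).under R')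
    haveI : r'.IsPrime := hr'min.1.1
    have h1 : ((t i).under R').under R₀ = (t i).under R₀ := Ideal.under_under _
    have h2 : r'.under R₀ ≤ ((t i).under R').under R₀ := Ideal.comap_mono hr'le
    have h3 : (t i).under R₀ ≤ r'.under R₀ :=
      (hunder i).2 ⟨Ideal.IsPrime.under R₀ r', bot_le⟩ (h1 ▸ h2)
    have h4 : r'.under R₀ = ((t i).under R').under R₀ := le_antisymm h2 (h1 ▸ h3)
    have h5 : r' = (t i).under R' := Algebra.QuasiFinite.eq_of_le_of_under_eq r' _ hr'le h4
    rw [← h5]
    exact hr'min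
  refine ⟨fun i => (t i).under R', ?_, fun i => ⟨hminR' i, hle i⟩⟩
  intro i j heq
  by_contra hij
  obtain ⟨d, hd, y, hy⟩ := hgen (e j)
  have h1 : algebraMap R' T y ∈ t i := by
    rw [← hy, Algebra.smul_def]
    exact (t i).mul_mem_left _ (hemem i j hij)
  have h2 : y ∈ (t j).under R' := by
    have : y ∈ (t i).under R' := h1
    have heq' : (t i).under R' = (t j).under R' := heq
    rwa [heq'] at this
  have h3 : algebraMap R₀ T d * e j ∈ t j := by
    rw [← Algebra.smul_def, hy]
    exact h2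
  rcases (htp j).mem_or_mem h3 with h | h
  · exact hd _ (hunder j) (hunderle j) h
  · exact hne j (htle j h)

end Groth.Agent.Lib.Helper22.BrCountKey
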