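import Mathlib

/-!
# Key lemma: an idempotent splitting of a birational finite algebra after an étale base change
produces two minimal primes
-/

set_option autoImplicit false
set_option linter.style.haveILetI false
set_option linter.unusedSectionVars false

namespace Groth.Agent.Lib.Helper22.EtNbKey

open TensorProduct

/-- flatness for the right algebra structure on a tensor product -/
theorem flat_right (R A B : Type*) [CommRing R] [CommRing A] [CommRing B] [Algebra R A]
    [Algebra R B] [Module.Flat R A] :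
    letI := Algebra.TensorProduct.rightAlgebra (R := R) (A := A) (B := B)
    Module.Flat B (A ⊗[R] B) := by
  letI := Algebra.TensorProduct.rightAlgebra (R := R) (A := A) (B := B)
  let e : A ⊗[R] B ≃ₗ[B] B ⊗[R] A :=
    { (Algebra.TensorProduct.comm R A B).toLinearEquiv.toAddEquiv with
      map_smul' := by
        intro b x
        change (Algebra.TensorProduct.comm R A B) (b • x) =
          b • (Algebra.TensorProduct.comm R A B) x
        rw [Algebra.smul_def, Algebra.smul_def, map_mul]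
        congr 1 }
  exact Module.Flat.of_linearEquiv e

/-- a minimal prime of a flat algebra over a domain contracts to zero -/
theorem under_eq_bot_of_minimal (S T : Type*) [CommRing S] [IsDomain S] [CommRing T] [Algebra S T]
    [Module.Flat S T] (t : Ideal T) (ht : t ∈ minimalPrimes T) : t.under S = ⊥ := by
  haveI : t.IsPrime := ht.1.1
  haveI : (t.under S).IsPrime := Ideal.IsPrime.under S t
  haveI : (⊥ : Ideal S).IsPrime := Ideal.isPrime_bot
  haveI : t.LiesOver (t.under S) := ⟨rfl⟩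
  obtain ⟨t', hle, ht'prime, ht'over⟩ :=
    Ideal.exists_ideal_le_liesOver_of_le (p := (⊥ : Ideal S)) (q := t.under S) t bot_le
  have h1 : t ≤ t' := ht.2 ⟨ht'prime, bot_le⟩ hle
  have h2 : t' = t := le_antisymm hle h1
  rw [← h2]
  exact (ht'over.over).symm

variable {R₀ : Type*} [CommRing R₀] (p : Ideal R₀) [p.IsPrime]
  {D : Type*} [CommRing D] [IsDomain D] [Algebra R₀ D]
  (S : Subalgebra R₀ D)
  {R' : Type*} [CommRing R'] [Algebra R₀ R'] [Algebra.QuasiFinite R₀ R'] (P : Ideal R') [P.IsPrime]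
  {T : Type*} [CommRing T] [Algebra R₀ T] [Algebra R' T] [Algebra S T] [IsScalarTower R₀ R' T]
  [IsScalarTower R₀ S T] [Module.Flat S T]

include S in
theorem key (hPp : P.under R₀ ≤ p)
    (hmin : ∀ r : Ideal R₀, r.IsPrime → r ≤ p → RingHom.ker (algebraMap R₀ D) ≤ r)
    (hgen : ∀ x : T, ∃ d : R₀, algebraMap R₀ D d ≠ 0 ∧ ∃ y : R', d • x = algebraMap R' T y)
    (e₀ e₁ : T) (he : e₀ * e₁ = 0) (P₀ P₁ : Ideal T) [P₀.IsPrime] [P₁.IsPrime]
    (hP₀ : P₀.under R' = P) (hP₁ : P₁.under R' = P) (h₀ : e₀ ∉ P₀) (h₁ : e₁ ∉ P₁) :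
    ∃ r₀ r₁ : Ideal R', r₀ ∈ minimalPrimes R' ∧ r₁ ∈ minimalPrimes R' ∧ r₀ ≤ P ∧ r₁ ≤ P ∧
      r₀ ≠ r₁ := by
  obtain ⟨t₀, ht₀min, ht₀le⟩ := Ideal.exists_minimalPrimes_le (bot_le : (⊥ : Ideal T) ≤ P₀)
  obtain ⟨t₁, ht₁min, ht₁le⟩ := Ideal.exists_minimalPrimes_le (bot_le : (⊥ : Ideal T) ≤ P₁)
  haveI ht₀p : t₀.IsPrime := ht₀min.1.1
  haveI ht₁p : t₁.IsPrime := ht₁min.1.1
  have he₁t₀ : e₁ ∈ t₀ := by
    have h : e₀ * e₁ ∈ t₀ := by rw [he]; exact t₀.zero_mem
    rcases ht₀p.mem_or_mem h with h | h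
    · exact absurd (ht₀le h) h₀
    · exact h
  -- contraction to R₀
  have hunder : ∀ t : Ideal T, t ∈ minimalPrimes T →
      t.under R₀ = RingHom.ker (algebraMap R₀ D) := by
    intro t ht
    have hS := under_eq_bot_of_minimal S T t ht
    ext r
    rw [Ideal.under_def, Ideal.mem_comap, RingHom.mem_ker,
      IsScalarTower.algebraMap_apply R₀ S T]
    have h1 : algebraMap S T (algebraMap R₀ S r) ∈ t ↔ algebraMap R₀ S r ∈ t.under S := Iff.rfl
    rw [h1, hS, Ideal.mem_bot]
    constructor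
    · intro h
      have := congrArg (Subtype.val) h
      simpa using this
    · intro h
      apply Subtype.ext
      simpa using h
  -- minimality of the contractions to R'
  have hminR' : ∀ t : Ideal T, t ∈ minimalPrimes T → t.under R' ≤ P →
      t.under R' ∈ minimalPrimes R' := by
    intro t ht hle
    haveI : t.IsPrime := ht.1.1
    haveI : (t.under R').IsPrime := Ideal.IsPrime.under R' t
    obtain ⟨r', hr'min, hr'le⟩ :=
      Ideal.exists_minimalPrimes_le (bot_le : (⊥ : Ideal R') ≤ t.under R')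
    haveI : r'.IsPrime := hr'min.1.1
    have h1 : (t.under R').under R₀ = RingHom.ker (algebraMap R₀ D) := by
      rw [Ideal.under_under]
      exact hunder t ht
    have h2 : r'.under R₀ ≤ (t.under R').under R₀ := Ideal.comap_mono hr'le
    have h3 : RingHom.ker (algebraMap R₀ D) ≤ r'.under R₀ :=
      hmin _ (Ideal.IsPrime.under R₀ r') ((Ideal.comap_mono (hr'le.trans hle)).trans hPp)
    have h4 : r'.under R₀ = (t.under R').under R₀ := le_antisymm h2 (h1 ▸ h3)
    have h5 : r' = t.under R' := Algebra.QuasiFinite.eq_of_le_of_under_eq r' _ hr'le h4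
    rw [← h5]
    exact hr'min
  have hle₀ : t₀.under R' ≤ P := hP₀ ▸ Ideal.comap_mono ht₀le
  have hle₁ : t₁.under R' ≤ P := hP₁ ▸ Ideal.comap_mono ht₁le
  refine ⟨t₀.under R', t₁.under R', hminR' t₀ ht₀min hle₀, hminR' t₁ ht₁min hle₁, hle₀, hle₁, ?_⟩
  intro heq
  obtain ⟨d, hd, y, hy⟩ := hgen e₁
  have h1 : algebraMap R' T y ∈ t₀ := by
    rw [← hy, Algebra.smul_def]
    exact t₀.mul_mem_left _ he₁t₀
  have h2 : y ∈ t₁.under R' := by
    rw [← heq]
    exact h1
  have h3 : algebraMap R₀ T d * e₁ ∈ t₁ := by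
    rw [← Algebra.smul_def, hy]
    exact h2
  rcases ht₁p.mem_or_mem h3 with h | h
  · have h4 : d ∈ t₁.under R₀ := h
    rw [hunder t₁ ht₁min, RingHom.mem_ker] at h4
    exact hd h4
  · exact h₁ (ht₁le h)

end Groth.Agent.Lib.Helper22.EtNbKey
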