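import Mathlib
import Groth.Agent.Lib.Helper22.EtNbKey
import Groth.Agent.Lib.Helper22.BrCountKey

/-!
# Many maximal ideals of the normalization give many minimal primes on an elementary étale
neighbourhood
-/

set_option autoImplicit false
set_option linter.style.haveILetI false
set_option linter.unusedSectionVars false

namespace Groth.Agent.Lib.Helper22.BrCountAlg

open TensorProduct IsLocalRing

universe u

variable (R₀ : Type u) [CommRing R₀] (p : Ideal R₀) [p.IsPrime]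
  (A : Type u) [CommRing A] [IsLocalRing A] [Algebra R₀ A] [IsLocalization.AtPrime A p]
  (D : Type u) [CommRing D] [Algebra A D] [Algebra R₀ D] [IsScalarTower R₀ A D]

/-- the "good" denominators: outside every minimal prime inside `p` -/
def Good (d : R₀) : Prop := ∀ 𝔮 ∈ minimalPrimes R₀, 𝔮 ≤ p → d ∉ 𝔮

theorem good_one : Good R₀ p 1 := fun _ h𝔮 _ h1 =>
  h𝔮.1.1.ne_top ((Ideal.eq_top_iff_one _).mpr h1)

theorem good_mul {d₁ d₂ : R₀} (h₁ : Good R₀ p d₁) (h₂ : Good R₀ p d₂) : Good R₀ p (d₁ * d₂) := by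
  intro 𝔮 h𝔮 hle hmem
  rcases h𝔮.1.1.mem_or_mem hmem with h | h
  · exact h₁ 𝔮 h𝔮 hle h
  · exact h₂ 𝔮 h𝔮 hle h

include p in
theorem under_mem_minimalPrimes_iff (a : Ideal A) :
    a ∈ minimalPrimes A ↔ a.under R₀ ∈ minimalPrimes R₀ := by
  have := IsLocalization.minimalPrimes_map p.primeCompl A (⊥ : Ideal R₀)
  rw [Ideal.map_bot] at this
  change a ∈ (⊥ : Ideal A).minimalPrimes ↔ _
  rw [this]
  rfl

include p in
theorem under_le (a : Ideal A) (ha : a.IsPrime) : a.under R₀ ≤ p := by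
  rw [← IsLocalization.AtPrime.under_maximalIdeal A p]
  exact Ideal.comap_mono (IsLocalRing.le_maximalIdeal ha.ne_top)

theorem exists_minimal_of_le (𝔮 : Ideal R₀) (h𝔮 : 𝔮 ∈ minimalPrimes R₀) (hle : 𝔮 ≤ p) :
    ∃ a ∈ minimalPrimes A, a.under R₀ = 𝔮 := by
  haveI := h𝔮.1.1
  have hdisj : Disjoint (p.primeCompl : Set R₀) (𝔮 : Set R₀) := by
    rw [Set.disjoint_left]
    intro x hx hxq
    exact hx (hle hxq)
  have h1 : (𝔮.map (algebraMap R₀ A)).under R₀ = 𝔮 :=
    IsLocalization.under_map_of_isPrime_disjoint p.primeCompl A ‹_› hdisj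
  refine ⟨𝔮.map (algebraMap R₀ A), ?_, h1⟩
  rw [under_mem_minimalPrimes_iff R₀ p A, h1]
  exact h𝔮

include A in
theorem isUnit_map (d : R₀) (hd : d ∉ p) : IsUnit (algebraMap R₀ D d) := by
  rw [IsScalarTower.algebraMap_apply R₀ A D]
  exact (IsLocalization.map_units A (⟨d, hd⟩ : p.primeCompl)).map _

theorem hfrac
    (hfracD : ∀ s : D, ∃ t a : A, (∀ 𝔞 ∈ minimalPrimes A, t ∉ 𝔞) ∧ t • s = algebraMap A D a)
    (s : D) : ∃ d a : R₀, Good R₀ p d ∧ d • s = algebraMap R₀ D a := by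
  obtain ⟨t, aA, ht, hta⟩ := hfracD s
  obtain ⟨⟨d, u⟩, hdu⟩ := IsLocalization.surj p.primeCompl t
  obtain ⟨⟨a, v⟩, hav⟩ := IsLocalization.surj p.primeCompl aA
  simp only at hdu hav
  refine ⟨d * v, u * a, ?_, ?_⟩
  · intro 𝔮 h𝔮 hle hmem
    obtain ⟨𝔞, h𝔞, h𝔞𝔮⟩ := exists_minimal_of_le R₀ p A 𝔮 h𝔮 hle
    haveI := h𝔞.1.1
    have h1 : algebraMap R₀ A (d * v) ∈ 𝔞 := by
      rw [← h𝔞𝔮] at hmem
      exact hmem
    rw [map_mul, ← hdu] at h1
    have hu : IsUnit (algebraMap R₀ A u) := IsLocalization.map_units A u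
    have hv : IsUnit (algebraMap R₀ A v) := IsLocalization.map_units A v
    rcases h𝔞.1.1.mem_or_mem h1 with h | h
    · rcases h𝔞.1.1.mem_or_mem h with h | h
      · exact ht 𝔞 h𝔞 h
      · exact h𝔞.1.1.ne_top (Ideal.eq_top_of_isUnit_mem _ h hu)
    · exact h𝔞.1.1.ne_top (Ideal.eq_top_of_isUnit_mem _ h hv)
  · have h1 : algebraMap R₀ D (d * v) = algebraMap A D (t * algebraMap R₀ A u * algebraMap R₀ A v) := by
      rw [hdu, ← map_mul, ← IsScalarTower.algebraMap_apply]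
    have h2 : algebraMap R₀ D (u * a) = algebraMap A D (algebraMap R₀ A u * (aA * algebraMap R₀ A v)) := by
      rw [hav, ← map_mul, ← IsScalarTower.algebraMap_apply]
    rw [Algebra.smul_def] at hta
    rw [Algebra.smul_def, h1, h2, map_mul, map_mul, map_mul, map_mul, ← hta]
    ring

include p in
theorem hgen (S : Subalgebra R₀ D) {R' : Type*} [CommRing R'] [Algebra R₀ R']
    (hfr : ∀ s : D, ∃ d a : R₀, Good R₀ p d ∧ d • s = algebraMap R₀ D a)
    (x : R' ⊗[R₀] S) :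
    ∃ d : R₀, Good R₀ p d ∧ ∃ y : R', d • x = y ⊗ₜ[R₀] (1 : S) := by
  induction x using TensorProduct.induction_on with
  | zero => exact ⟨1, good_one R₀ p, 0, by simp⟩
  | tmul r' s =>
    obtain ⟨d, a, hd, hda⟩ := hfr (s : D)
    refine ⟨d, hd, a • r', ?_⟩
    have h1 : d • s = algebraMap R₀ S a := by
      apply Subtype.ext
      simpa using hda
    rw [TensorProduct.smul_tmul', TensorProduct.smul_tmul, h1, Algebra.algebraMap_eq_smul_one,
      TensorProduct.smul_tmul]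
  | add x₁ x₂ h₁ h₂ =>
    obtain ⟨d₁, hd₁, y₁, hy₁⟩ := h₁
    obtain ⟨d₂, hd₂, y₂, hy₂⟩ := h₂
    refine ⟨d₁ * d₂, good_mul R₀ p hd₁ hd₂, d₂ • y₁ + d₁ • y₂, ?_⟩
    rw [smul_add, TensorProduct.add_tmul, mul_comm d₁ d₂, mul_smul, hy₁, mul_comm d₂ d₁, mul_smul,
      hy₂, TensorProduct.smul_tmul', TensorProduct.smul_tmul']

include p A in
/-- minimal primes of a subalgebra of `D` contract to minimal primes of `R₀` -/
theorem hS (hminD : ∀ 𝔇 ∈ minimalPrimes D, 𝔇.under A ∈ minimalPrimes A)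
    (S : Subalgebra R₀ D) (s : Ideal S) (hs : s ∈ minimalPrimes S) :
    s.under R₀ ∈ minimalPrimes R₀ := by
  have hinj : Function.Injective (algebraMap S D) := Subtype.val_injective
  have hs' : s ∈ ((⊥ : Ideal D).comap (algebraMap S D)).minimalPrimes := by
    rw [Ideal.comap_bot_of_injective _ hinj]
    exact hs
  obtain ⟨𝔇, h𝔇, h𝔇s⟩ := Ideal.exists_minimalPrimes_comap_eq (algebraMap S D) s hs'
  have h1 := hminD 𝔇 h𝔇
  rw [under_mem_minimalPrimes_iff R₀ p A, Ideal.under_under] at h1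
  have h2 : s.under R₀ = 𝔇.under R₀ := by
    rw [← h𝔇s]
    change (𝔇.under S).under R₀ = _
    rw [Ideal.under_under]
  rw [h2]
  exact h1

end Groth.Agent.Lib.Helper22.BrCountAlg
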