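import Mathlib
import Groth.Prelude.Def_EssEt

/-!
# Local rings of étale neighbourhoods are essentially étale (chart form)
-/

set_option autoImplicit false
set_option linter.style.haveILetI false
set_option linter.unusedSectionVars false

namespace Groth.Agent.Lib.Helper22.BrCountEss

open TensorProduct IsLocalRing

universe u

variable {A₀ C : Type u} [CommRing A₀] [CommRing C] [Algebra A₀ C] [Algebra.Etale A₀ C]
  (p : Ideal A₀) [p.IsPrime] (R : Type u) [CommRing R] [Algebra A₀ R] [IsLocalization.AtPrime R p]
  [IsLocalRing R] (Q : Ideal C) [Q.IsPrime]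

theorem isEssentiallyEtale_of_chart (hQ : Q.comap (algebraMap A₀ C) = p)
    (S : Type u) [CommRing S] [Algebra C S] [IsLocalization.AtPrime S Q]
    [Algebra R S] [Algebra A₀ S] [IsScalarTower A₀ R S] [IsScalarTower A₀ C S] :
    EGA4loc.IsEssentiallyEtale R S := by
  letI algC : Algebra C (R ⊗[A₀] C) := Algebra.TensorProduct.rightAlgebra
  haveI : IsLocalization (Algebra.algebraMapSubmonoid C p.primeCompl) (R ⊗[A₀] C) :=
    IsLocalization.tensorRight (S := C) (A := R) p.primeCompl
  have hdisj : Disjoint (Algebra.algebraMapSubmonoid C p.primeCompl : Set C) (Q : Set C) := by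
    rw [Set.disjoint_left]
    rintro _ ⟨a, ha, rfl⟩ haQ
    apply ha
    rw [← hQ]
    exact haQ
  haveI hQp : (Q.map (algebraMap C (R ⊗[A₀] C))).IsPrime :=
    IsLocalization.isPrime_of_isPrime_disjoint _ _ Q ‹_› hdisj
  have hcomap : (Q.map (algebraMap C (R ⊗[A₀] C))).comap (algebraMap C _) = Q :=
    IsLocalization.under_map_of_isPrime_disjoint _ _ ‹_› hdisj
  have hover : (Q.map (algebraMap C (R ⊗[A₀] C))).comap
      (algebraMap R _) = maximalIdeal R := by
    have h1 : ((Q.map (algebraMap C (R ⊗[A₀] C))).comap (algebraMap R _)).under A₀ = p := by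
      rw [Ideal.under_def, Ideal.comap_comap, ← IsScalarTower.algebraMap_eq,
        IsScalarTower.algebraMap_eq A₀ C (R ⊗[A₀] C), ← Ideal.comap_comap, hcomap, hQ]
    rw [← IsLocalization.map_under p.primeCompl R
      ((Q.map (algebraMap C (R ⊗[A₀] C))).comap (algebraMap R _)), h1,
      IsLocalization.AtPrime.map_eq_maximalIdeal p R]
  haveI hloc : IsLocalization.AtPrime (Localization.AtPrime (Q.map (algebraMap C (R ⊗[A₀] C))))
      ((Q.map (algebraMap C (R ⊗[A₀] C))).comap (algebraMap C _)) :=
    IsLocalization.isLocalization_isLocalization_atPrime_isLocalization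
      (Algebra.algebraMapSubmonoid C p.primeCompl) _ _
  have heq : ((Q.map (algebraMap C (R ⊗[A₀] C))).comap
      (algebraMap C _)).primeCompl = Q.primeCompl := by
    ext x
    show x ∉ _ ↔ x ∉ _
    rw [hcomap]
  rw [IsLocalization.AtPrime, heq] at hloc
  let e₀ : S ≃ₐ[C] Localization.AtPrime (Q.map (algebraMap C (R ⊗[A₀] C))) :=
    IsLocalization.algEquiv Q.primeCompl S
      (Localization.AtPrime (Q.map (algebraMap C (R ⊗[A₀] C))))
  have hcomm : ∀ r : R, e₀ (algebraMap R S r) =
      algebraMap R (Localization.AtPrime (Q.map (algebraMap C (R ⊗[A₀] C)))) r := by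
    have hext : (e₀ : S →+* _).comp (algebraMap R S) =
        algebraMap R (Localization.AtPrime (Q.map (algebraMap C (R ⊗[A₀] C)))) := by
      apply IsLocalization.ringHom_ext p.primeCompl
      ext a
      simp only [RingHom.comp_apply]
      rw [← IsScalarTower.algebraMap_apply A₀ R S, IsScalarTower.algebraMap_apply A₀ C S]
      change e₀ (algebraMap C S (algebraMap A₀ C a)) = _
      rw [e₀.commutes]
      rw [IsScalarTower.algebraMap_apply C (R ⊗[A₀] C),
        IsScalarTower.algebraMap_apply R (R ⊗[A₀] C)]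
      congr 1
      rw [Algebra.TensorProduct.algebraMap_apply, Algebra.TensorProduct.right_algebraMap_apply,
        Algebra.algebraMap_self_apply, Algebra.algebraMap_eq_smul_one (A := C),
        Algebra.algebraMap_eq_smul_one (A := R), TensorProduct.smul_tmul]
    intro r
    exact congrArg (fun f => f r) hext
  refine ⟨R ⊗[A₀] C, inferInstance, inferInstance, Q.map (algebraMap C (R ⊗[A₀] C)), hQp,
    inferInstance, hover, ⟨AlgEquiv.ofRingEquiv (f := e₀.toRingEquiv) hcomm⟩⟩

end Groth.Agent.Lib.Helper22.BrCountEss
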