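import Mathlib

/-!
# An étale algebra with a map to a field hitting finitely many given simple roots
-/

set_option autoImplicit false
set_option linter.style.haveILetI false
set_option linter.unusedSectionVars false

namespace Groth.Agent.Lib.Helper22.BrCountHit

open TensorProduct Polynomial

universe u

theorem exists_etale_hitting (R₀ : Type u) [CommRing R₀] (Ω : Type u) [Field Ω] [Algebra R₀ Ω]
    (Z : Finset Ω)
    (hZ : ∀ z ∈ Z, ∃ f : R₀[X], f.Monic ∧ aeval z f = 0 ∧ aeval z (derivative f) ≠ 0) :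
    ∃ (R₁ : Type u) (_ : CommRing R₁) (_ : Algebra R₀ R₁) (_ : Algebra.Etale R₀ R₁)
      (ρ : R₁ →ₐ[R₀] Ω), ∀ z ∈ Z, z ∈ ρ.range := by
  classical
  induction Z using Finset.induction_on with
  | empty =>
    exact ⟨R₀, inferInstance, inferInstance, inferInstance, Algebra.ofId R₀ Ω, by simp⟩
  | insert z Z hz ih =>
    obtain ⟨R₁, _, _, _, ρ, hρ⟩ := ih (fun w hw => hZ w (Finset.mem_insert_of_mem hw))
    obtain ⟨f, hfmonic, hfroot, hfder⟩ := hZ z (Finset.mem_insert_self z Z)
    let PP : StandardEtalePair R₀ := ⟨f, hfmonic, derivative f, ⟨1, 0, 1, by simp⟩⟩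
    have hmap : PP.HasMap z := by
      refine ⟨?_, ?_⟩
      · exact hfroot
      · exact IsUnit.mk0 _ hfder
    let φ₁ : PP.Ring →ₐ[R₀] Ω := PP.lift _ hmap
    haveI : Algebra.Etale R₀ (R₁ ⊗[R₀] PP.Ring) :=
      Algebra.Etale.comp R₀ R₁ (R₁ ⊗[R₀] PP.Ring)
    refine ⟨R₁ ⊗[R₀] PP.Ring, inferInstance, inferInstance, inferInstance,
      Algebra.TensorProduct.productMap ρ φ₁, ?_⟩
    intro w hw
    rcases Finset.mem_insert.mp hw with rfl | hw
    · refine ⟨(1 : R₁) ⊗ₜ[R₀] PP.X, ?_⟩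
      change Algebra.TensorProduct.productMap ρ φ₁ _ = _
      rw [Algebra.TensorProduct.productMap_apply_tmul, map_one, one_mul]
      exact StandardEtalePair.lift_X _ _ hmap
    · obtain ⟨x, hx⟩ := hρ w hw
      refine ⟨x ⊗ₜ[R₀] (1 : PP.Ring), ?_⟩
      change Algebra.TensorProduct.productMap ρ φ₁ _ = _
      rw [Algebra.TensorProduct.productMap_apply_tmul, map_one, mul_one]
      exact hx

end Groth.Agent.Lib.Helper22.BrCountHit
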