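import Mathlib

/-!
# Splitting many primes of a finite algebra over the same prime by an elementary étale
neighbourhood
-/

set_option autoImplicit false
set_option linter.style.haveILetI false
set_option linter.unusedSectionVars false

namespace Groth.Agent.Lib.Helper22.BrCountSplit

open TensorProduct

universe u

theorem split_many {R : Type u} {S : Type u} [CommRing R] [CommRing S] [Algebra R S]
    [Module.Finite R S] (p : Ideal R) [p.IsPrime] (N : ℕ) (q : Fin N → Ideal S)
    (hqprime : ∀ i, (q i).IsPrime) (hqover : ∀ i, (q i).LiesOver p)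
    (hqinj : Function.Injective q) :
    ∃ (R' : Type u) (_ : CommRing R') (_ : Algebra R R') (_ : Algebra.Etale R R') (P : Ideal R')
      (_ : P.IsPrime) (_ : P.LiesOver p),
      Function.Bijective (Ideal.ResidueField.mapₐ p P (Algebra.ofId _ _) (P.over_def p)) ∧
      ∃ (e : Fin N → R' ⊗[R] S) (P'' : Fin N → Ideal (R' ⊗[R] S)),
        (∀ k l, k ≠ l → e k * e l = 0) ∧ (∀ k, (P'' k).IsPrime) ∧
        (∀ k, (P'' k).under R' = P) ∧ (∀ k, e k ∉ P'' k) := by
  classical
  obtain ⟨R', _, _, _, P, _, _, n, e, he, P', hP'prime, hP'over, Hbij, heP', H⟩ :=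
    Algebra.exists_etale_completeOrthogonalIdempotents_forall_liesOver_eq (R := R) (S := S) p
  refine ⟨R', inferInstance, inferInstance, inferInstance, P, inferInstance, inferInstance, Hbij, ?_⟩
  let Qk : Fin N → p.primesOver S := fun k => ⟨q k, hqprime k, hqover k⟩
  let P'' : Fin N → P.primesOver (R' ⊗[R] S) := fun k =>
    (Ideal.fiberIsoOfBijectiveResidueField Hbij).symm (Qk k)
  have hP''comap : ∀ k, (P'' k).1.comap
      (RingHomClass.toRingHom (Algebra.TensorProduct.includeRight : S →ₐ[R] R' ⊗[R] S)) = q k :=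
    fun k => Ideal.comap_fiberIsoOfBijectiveResidueField_symm Hbij (Qk k)
  have hP''prime : ∀ k, (P'' k).1.IsPrime := fun k => (P'' k).2.1
  have hP''over : ∀ k, (P'' k).1.LiesOver P := fun k => (P'' k).2.2
  have hP''inj : Function.Injective (fun k => (P'' k).1) := by
    intro k l hkl
    apply hqinj
    rw [← hP''comap k, ← hP''comap l]
    exact congrArg _ hkl
  have hidx : ∀ k, ∃ i : Fin n, e i.castSucc ∉ (P'' k).1 := by
    intro k
    by_contra hcon
    push Not at hcon
    have h1 : (1 : R' ⊗[R] S) ∈ (P'' k).1 := by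
      rw [← he.complete, Fin.sum_univ_castSucc]
      refine Ideal.add_mem _ (Ideal.sum_mem _ (fun i _ => hcon i)) ?_
      exact (H (P'' k).1 (hP''prime k) (hP''over k)).1
    exact (hP''prime k).ne_top ((Ideal.eq_top_iff_one _).mpr h1)
  choose ι hι using hidx
  have hιinj : Function.Injective ι := by
    intro k l hkl
    apply hP''inj
    change (P'' k).1 = (P'' l).1
    rw [(H (P'' k).1 (hP''prime k) (hP''over k)).2 (ι k) (hι k),
      (H (P'' l).1 (hP''prime l) (hP''over l)).2 (ι l) (hι l), hkl]
  refine ⟨fun k => e (ι k).castSucc, fun k => (P'' k).1, ?_, hP''prime, ?_, hι⟩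
  · intro k l hkl
    refine he.ortho ?_
    intro h
    exact hkl (hιinj (Fin.castSucc_injective _ h))
  · intro k
    exact (Ideal.LiesOver.over (p := P) (P := (P'' k).1)).symm

end Groth.Agent.Lib.Helper22.BrCountSplit
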