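import Mathlib
import Groth.Agent.Lib.Helper22.EtNbKey

/-!
# Engine: an idempotent splitting of `R' ⊗ S` (with `S` finite birational) gives two minimal
primes of `R'`
-/

set_option autoImplicit false
set_option linter.style.haveILetI false
set_option linter.unusedSectionVars false

namespace Groth.Agent.Lib.Helper22.EtNbEngine

open TensorProduct

variable {R₀ : Type*} [CommRing R₀] (p : Ideal R₀) [p.IsPrime]
  {D : Type*} [CommRing D] [IsDomain D] [Algebra R₀ D]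
  (S : Subalgebra R₀ D)
  {R' : Type*} [CommRing R'] [Algebra R₀ R'] [Algebra.QuasiFinite R₀ R'] [Module.Flat R₀ R']
  (P : Ideal R') [P.IsPrime]

theorem hgen (hfrac : ∀ s : D, ∃ d a : R₀, algebraMap R₀ D d ≠ 0 ∧ d • s = algebraMap R₀ D a)
    (x : R' ⊗[R₀] S) :
    ∃ d : R₀, algebraMap R₀ D d ≠ 0 ∧ ∃ y : R', d • x = y ⊗ₜ[R₀] (1 : S) := by
  induction x using TensorProduct.induction_on with
  | zero => exact ⟨1, by rw [map_one]; exact one_ne_zero, 0, by simp⟩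
  | tmul r' s =>
    obtain ⟨d, a, hd, hda⟩ := hfrac (s : D)
    refine ⟨d, hd, a • r', ?_⟩
    have h1 : d • s = algebraMap R₀ S a := by
      apply Subtype.ext
      simpa using hda
    rw [TensorProduct.smul_tmul', TensorProduct.smul_tmul, h1, Algebra.algebraMap_eq_smul_one,
      TensorProduct.smul_tmul]
  | add x₁ x₂ h₁ h₂ =>
    obtain ⟨d₁, hd₁, y₁, hy₁⟩ := h₁
    obtain ⟨d₂, hd₂, y₂, hy₂⟩ := h₂
    refine ⟨d₁ * d₂, by rw [map_mul]; exact mul_ne_zero hd₁ hd₂, d₂ • y₁ + d₁ • y₂, ?_⟩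
    rw [smul_add, TensorProduct.add_tmul, mul_comm d₁ d₂, mul_smul, hy₁, mul_comm d₂ d₁, mul_smul,
      hy₂, TensorProduct.smul_tmul', TensorProduct.smul_tmul']

include S in
theorem engine (hPp : P.under R₀ ≤ p)
    (hmin : ∀ r : Ideal R₀, r.IsPrime → r ≤ p → RingHom.ker (algebraMap R₀ D) ≤ r)
    (hfrac : ∀ s : D, ∃ d a : R₀, algebraMap R₀ D d ≠ 0 ∧ d • s = algebraMap R₀ D a)
    (e : R' ⊗[R₀] S) (P₀ P₁ : Ideal (R' ⊗[R₀] S)) [P₀.IsPrime] [P₁.IsPrime]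
    (hP₀ : P₀.under R' = P) (hP₁ : P₁.under R' = P) (h₀ : e ∉ P₀) (h₁ : (1 - e) ∉ P₁)
    (he : e * (1 - e) = 0) :
    ∃ r₀ r₁ : Ideal R', r₀ ∈ minimalPrimes R' ∧ r₁ ∈ minimalPrimes R' ∧ r₀ ≤ P ∧ r₁ ≤ P ∧
      r₀ ≠ r₁ := by
  letI algS : Algebra S (R' ⊗[R₀] S) := Algebra.TensorProduct.rightAlgebra
  haveI : IsScalarTower R₀ S (R' ⊗[R₀] S) := by
    refine IsScalarTower.of_algebraMap_eq (fun r => ?_)
    rw [Algebra.TensorProduct.algebraMap_eq_includeRight]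
    simp only [Algebra.algebraMap_eq_smul_one]
    rw [Algebra.TensorProduct.one_def]
    change r • ((1 : R') ⊗ₜ[R₀] (1 : S)) = (1 : R') ⊗ₜ[R₀] (r • (1 : S))
    rw [TensorProduct.tmul_smul]
  haveI : Module.Flat S (R' ⊗[R₀] S) := Groth.Agent.Lib.Helper22.EtNbKey.flat_right R₀ R' S
  refine Groth.Agent.Lib.Helper22.EtNbKey.key p S P hPp hmin ?_ e (1 - e) he P₀ P₁ hP₀ hP₁ h₀ h₁
  intro x
  obtain ⟨d, hd, y, hy⟩ := hgen S hfrac x
  exact ⟨d, hd, y, by rw [hy, Algebra.TensorProduct.algebraMap_apply]; simp⟩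

end Groth.Agent.Lib.Helper22.EtNbEngine
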