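import Mathlib

/-!
# Splitting two primes of a finite algebra over the same prime by an elementary étale
neighbourhood
-/

set_option autoImplicit false
set_option linter.style.haveILetI false
set_option linter.unusedSectionVars false

namespace Groth.Agent.Lib.Helper22.EtNbSplit

open TensorProduct

universe u

theorem split {R : Type u} {S : Type u} [CommRing R] [CommRing S] [Algebra R S]
    [Module.Finite R S] (p : Ideal R) [p.IsPrime] (q₁ q₂ : Ideal S) [q₁.IsPrime] [q₂.IsPrime]
    [q₁.LiesOver p] [q₂.LiesOver p] (hne : q₁ ≠ q₂) :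
    ∃ (R' : Type u) (_ : CommRing R') (_ : Algebra R R') (_ : Algebra.Etale R R') (P : Ideal R')
      (_ : P.IsPrime) (_ : P.LiesOver p),
      Function.Bijective (Ideal.ResidueField.mapₐ p P (Algebra.ofId _ _) (P.over_def p)) ∧
      ∃ (e : R' ⊗[R] S) (P₀ P₁ : Ideal (R' ⊗[R] S)) (_ : P₀.IsPrime) (_ : P₁.IsPrime),
        P₀.under R' = P ∧ P₁.under R' = P ∧ e ∉ P₀ ∧ (1 - e) ∉ P₁ ∧ e * (1 - e) = 0 := by
  obtain ⟨R', _, _, _, P, _, _, e, he, P', _, _, hP'q, heP', H, -, huniq⟩ :=
    Algebra.exists_etale_isIdempotentElem_forall_liesOver_eq p q₁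
  refine ⟨R', inferInstance, inferInstance, inferInstance, P, inferInstance, inferInstance, H, ?_⟩
  let Q₂ : p.primesOver S := ⟨q₂, inferInstance, inferInstance⟩
  let P₁ : P.primesOver (R' ⊗[R] S) := (Ideal.fiberIsoOfBijectiveResidueField H).symm Q₂
  have hP₁comap : P₁.1.comap
      (RingHomClass.toRingHom (Algebra.TensorProduct.includeRight : S →ₐ[R] R' ⊗[R] S)) = q₂ :=
    Ideal.comap_fiberIsoOfBijectiveResidueField_symm H Q₂
  haveI hP₁prime : P₁.1.IsPrime := P₁.2.1
  haveI hP₁over : P₁.1.LiesOver P := P₁.2.2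
  have hne' : P₁.1 ≠ P' := by
    intro h
    apply hne
    rw [← hP'q, ← hP₁comap, h]
    rfl
  have heP₁ : e ∈ P₁.1 := by
    by_contra h
    exact hne' (huniq P₁.1 inferInstance inferInstance h)
  refine ⟨e, P', P₁.1, inferInstance, inferInstance, ?_, ?_, heP', ?_, ?_⟩
  · exact (Ideal.LiesOver.over (p := P) (P := P')).symm
  · exact (Ideal.LiesOver.over (p := P) (P := P₁.1)).symm
  · intro h
    have : (1 : R' ⊗[R] S) ∈ P₁.1 := by
      have := P₁.1.add_mem h heP₁
      rwa [sub_add_cancel] at this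
    exact hP₁prime.ne_top ((Ideal.eq_top_iff_one _).mpr this)
  · rw [mul_sub, mul_one, he.eq, sub_self]

end Groth.Agent.Lib.Helper22.EtNbSplit
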