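import Mathlib
import Groth.Prelude.Def_CAlg2
import Groth.Agent.Lib.Helper22.RadPtAlg
import Groth.Agent.Lib.Helper22.EtNbEngine
import Groth.Agent.Lib.Helper22.EtNbSplit

/-!
# Non-unibranch local rings acquire two minimal primes on an elementary étale neighbourhood
-/

set_option autoImplicit false
set_option linter.style.haveILetI false
set_option linter.unusedSectionVars false

namespace Groth.Agent.Lib.Helper22.EtNbUni

open TensorProduct IsLocalRing Groth.Agent.Lib.Helper22.RadPtAlg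

universe u

variable (R₀ : Type u) [CommRing R₀] (p : Ideal R₀) [p.IsPrime]
  (A : Type u) [CommRing A] [IsLocalRing A] [Algebra R₀ A] [IsLocalization.AtPrime A p]
  (D' : Type u) [CommRing D'] [IsDomain D'] [IsIntegrallyClosed D'] [Algebra A D']
  [Algebra R₀ D'] [IsScalarTower R₀ A D']

include A in
theorem isUnit_map (d : R₀) (hd : d ∉ p) : IsUnit (algebraMap R₀ D' d) := by
  rw [IsScalarTower.algebraMap_apply R₀ A D']
  exact (IsLocalization.map_units A (⟨d, hd⟩ : p.primeCompl)).map _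

theorem hmin (hN : IsNormn A D') (r : Ideal R₀) (hr : r.IsPrime) (hrp : r ≤ p) :
    RingHom.ker (algebraMap R₀ D') ≤ r := by
  intro x hx
  rw [RingHom.mem_ker, IsScalarTower.algebraMap_apply R₀ A D'] at hx
  obtain ⟨n, hn⟩ := hN.ker _ hx
  rw [← map_pow, IsLocalization.map_eq_zero_iff p.primeCompl A] at hn
  obtain ⟨⟨s, hs⟩, hsx⟩ := hn
  have h1 : s * x ^ n ∈ r := by
    rw [hsx]; exact r.zero_mem
  rcases hr.mem_or_mem h1 with h | h
  · exact absurd (hrp h) hs
  · exact hr.mem_of_pow_mem n h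

include p in
theorem hfrac (hN : IsNormn A D') (s : D') :
    ∃ d a : R₀, algebraMap R₀ D' d ≠ 0 ∧ d • s = algebraMap R₀ D' a := by
  obtain ⟨dA, hdA, aA, hda⟩ := hN.frac s
  obtain ⟨⟨d, u⟩, hdu⟩ := IsLocalization.surj p.primeCompl dA
  obtain ⟨⟨a, v⟩, hav⟩ := IsLocalization.surj p.primeCompl aA
  simp only at hdu hav
  have hu := isUnit_map R₀ p A D' u u.2
  have hv := isUnit_map R₀ p A D' v v.2
  have hd' : algebraMap R₀ D' d = algebraMap A D' dA * algebraMap R₀ D' u := by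
    rw [IsScalarTower.algebraMap_apply R₀ A D' d, ← hdu, map_mul,
      ← IsScalarTower.algebraMap_apply R₀ A D']
  have ha' : algebraMap R₀ D' a = algebraMap A D' aA * algebraMap R₀ D' v := by
    rw [IsScalarTower.algebraMap_apply R₀ A D' a, ← hav, map_mul,
      ← IsScalarTower.algebraMap_apply R₀ A D']
  refine ⟨d * v, u * a, ?_, ?_⟩
  · rw [map_mul, hd']
    exact mul_ne_zero (mul_ne_zero hdA hu.ne_zero) hv.ne_zero
  · rw [Algebra.smul_def, map_mul, map_mul, hd', ha', ← hda]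
    ring

/-- If the normalization is not local, some elementary étale neighbourhood has two minimal
primes through the point. -/
theorem exists_of_not_local (hN : IsNormn A D') (hnl : ¬ IsLocalRing D') :
    ∃ (R' : Type u) (_ : CommRing R') (_ : Algebra R₀ R') (_ : Algebra.Etale R₀ R') (P : Ideal R')
      (_ : P.IsPrime) (_ : P.LiesOver p),
      Function.Bijective (Ideal.ResidueField.mapₐ p P (Algebra.ofId _ _) (P.over_def p)) ∧
      ∃ r₀ r₁ : Ideal R', r₀ ∈ minimalPrimes R' ∧ r₁ ∈ minimalPrimes R' ∧ r₀ ≤ P ∧ r₁ ≤ P ∧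
        r₀ ≠ r₁ := by
  haveI := hN.int
  obtain ⟨m₁, hm₁⟩ := Ideal.exists_maximal D'
  have hex : ∃ m₂ : Ideal D', m₂.IsMaximal ∧ m₂ ≠ m₁ := by
    by_contra hcon
    push Not at hcon
    exact hnl (IsLocalRing.of_unique_max_ideal ⟨m₁, hm₁, fun m hm => hcon m hm⟩)
  obtain ⟨m₂, hm₂, hne⟩ := hex
  have hex2 : ∃ t : D', t ∈ m₁ ∧ t ∉ m₂ := by
    by_contra hcon
    push Not at hcon
    exact hne (hm₁.eq_of_le hm₂.ne_top hcon).symm
  obtain ⟨t, ht₁, ht₂⟩ := hex2
  obtain ⟨m, hmint⟩ := IsIntegral.exists_multiple_integral_of_isLocalization p.primeCompl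
    (Rₘ := A) t (Algebra.IsIntegral.isIntegral t)
  have hmint' : IsIntegral R₀ ((m : R₀) • t) := hmint
  have hmu := isUnit_map R₀ p A D' m m.2
  have ht₁' : (m : R₀) • t ∈ m₁ := by
    rw [Algebra.smul_def]; exact m₁.mul_mem_left _ ht₁
  have ht₂' : (m : R₀) • t ∉ m₂ := by
    rw [Algebra.smul_def]
    intro h
    exact ht₂ ((Ideal.unit_mul_mem_iff_mem m₂ hmu).mp h)
  let S : Subalgebra R₀ D' := Algebra.adjoin R₀ {(m : R₀) • t}
  haveI : Module.Finite R₀ S := Algebra.finite_adjoin_simple_of_isIntegral hmint'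
  have hover : ∀ (n : Ideal D') [n.IsMaximal], (n.comap (algebraMap S D')).under R₀ = p := by
    intro n _
    have h1 : (n.comap (algebraMap S D')).under R₀ = n.under R₀ := by
      rw [Ideal.under_def, Ideal.comap_comap, ← IsScalarTower.algebraMap_eq]
    rw [h1, ← Ideal.under_under (B := A), Ideal.under_def (A := A), hN.comap_eq A D' n]
    exact IsLocalization.AtPrime.under_maximalIdeal A p
  let q₁ : Ideal S := m₁.comap (algebraMap S D')
  let q₂ : Ideal S := m₂.comap (algebraMap S D')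
  haveI : q₁.IsPrime := Ideal.comap_isPrime _ _
  haveI : q₂.IsPrime := Ideal.comap_isPrime _ _
  haveI : q₁.LiesOver p := ⟨(hover m₁).symm⟩
  haveI : q₂.LiesOver p := ⟨(hover m₂).symm⟩
  have hq : q₁ ≠ q₂ := by
    intro h
    have hmem : (⟨(m : R₀) • t, Algebra.subset_adjoin (Set.mem_singleton _)⟩ : S) ∈ q₁ := ht₁'
    rw [h] at hmem
    exact ht₂' hmem
  obtain ⟨R', _, _, _, P, _, _, Hbij, e, P₀, P₁, _, _, hP₀, hP₁, h₀, h₁, he⟩ :=
    Groth.Agent.Lib.Helper22.EtNbSplit.split p q₁ q₂ hq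
  refine ⟨R', inferInstance, inferInstance, inferInstance, P, inferInstance, inferInstance, Hbij, ?_⟩
  exact Groth.Agent.Lib.Helper22.EtNbEngine.engine p S P
    (le_of_eq (Ideal.LiesOver.over (p := p) (P := P)).symm)
    (hmin R₀ p A D' hN) (hfrac R₀ p A D' hN) e P₀ P₁ hP₀ hP₁ h₀ h₁ he

/-- If the reduction is not a domain, there are two minimal primes through the point. -/
theorem exists_of_not_domain (hnd : ¬ IsDomain (CAlg2.red A)) :
    ∃ r₀ r₁ : Ideal R₀, r₀ ∈ minimalPrimes R₀ ∧ r₁ ∈ minimalPrimes R₀ ∧ r₀ ≤ p ∧ r₁ ≤ p ∧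
      r₀ ≠ r₁ := by
  by_contra hcon
  push Not at hcon
  apply hnd
  have hmp : ∀ a : Ideal A, a ∈ minimalPrimes A ↔ a.under R₀ ∈ minimalPrimes R₀ := by
    intro a
    have := IsLocalization.minimalPrimes_map p.primeCompl A (⊥ : Ideal R₀)
    rw [Ideal.map_bot] at this
    change a ∈ (⊥ : Ideal A).minimalPrimes ↔ _
    rw [this]
    rfl
  have hlep : ∀ a : Ideal A, a.IsPrime → a.under R₀ ≤ p := by
    intro a ha
    rw [← IsLocalization.AtPrime.under_maximalIdeal A p]
    exact Ideal.comap_mono (IsLocalRing.le_maximalIdeal ha.ne_top)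
  obtain ⟨⟨a₀, ha₀⟩⟩ := Ideal.nonempty_minimalPrimes (I := (⊥ : Ideal A)) bot_ne_top
  have huniq : ∀ a ∈ minimalPrimes A, a = a₀ := by
    intro a ha
    have h1 := hcon _ _ ((hmp a).mp ha) ((hmp a₀).mp ha₀) (hlep a ha.1.1) (hlep a₀ ha₀.1.1)
    rw [← IsLocalization.map_under p.primeCompl A a, ← IsLocalization.map_under p.primeCompl A a₀,
      h1]
  have hnil : nilradical A = a₀ := by
    rw [nilradical, ← Ideal.sInf_minimalPrimes]
    have : (⊥ : Ideal A).minimalPrimes = {a₀} := by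
      ext a
      exact ⟨fun h => huniq a h, fun h => (Set.mem_singleton_iff.mp h) ▸ ha₀⟩
    rw [Ideal.zero_eq_bot, this, sInf_singleton]
  haveI : (nilradical A).IsPrime := hnil ▸ ha₀.1.1
  exact Ideal.Quotient.isDomain _

end Groth.Agent.Lib.Helper22.EtNbUni
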