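import Mathlib
import Groth.Prelude.Def_CAlg2
import Groth.Agent.Lib.Helper22.EtNbUni
import Groth.Agent.Lib.Helper22.EtNbField

/-!
# A non purely inseparable residue extension of the normalization gives an étale neighbourhood
with two minimal primes through the point
-/

set_option autoImplicit false
set_option linter.style.haveILetI false
set_option linter.unusedSectionVars false

namespace Groth.Agent.Lib.Helper22.EtNbGeo

open TensorProduct IsLocalRing Polynomial Groth.Agent.Lib.Helper22.RadPtAlg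

universe u

variable (R₀ : Type u) [CommRing R₀] (p : Ideal R₀) [p.IsPrime]
  (A : Type u) [CommRing A] [IsLocalRing A] [Algebra R₀ A] [IsLocalization.AtPrime A p]
  (D' : Type u) [CommRing D'] [IsDomain D'] [IsIntegrallyClosed D'] [IsLocalRing D']
  [Algebra A D'] [Algebra R₀ D'] [IsScalarTower R₀ A D'] [IsLocalHom (algebraMap A D')]

omit [IsDomain D'] [IsIntegrallyClosed D'] in
theorem isIntegral_residueField [Algebra.IsIntegral A D'] :
    Algebra.IsIntegral (ResidueField A) (ResidueField D') := by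
  refine ⟨fun x => ?_⟩
  obtain ⟨d, rfl⟩ := residue_surjective x
  have h := Algebra.IsIntegral.isIntegral (R := A) d
  have h2 : IsIntegral A (residue D' d) := h.map (IsScalarTower.toAlgHom A D' (ResidueField D'))
  exact h2.tower_top

include p A in
omit [IsDomain D'] [IsIntegrallyClosed D'] in
theorem residue_map_eq_zero_iff (r : R₀) :
    algebraMap R₀ (ResidueField D') r = 0 ↔ r ∈ p := by
  rw [IsScalarTower.algebraMap_apply R₀ D' (ResidueField D'), ResidueField.algebraMap_eq,
    residue_eq_zero_iff, IsScalarTower.algebraMap_apply R₀ A D',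
    ← IsLocalization.AtPrime.to_map_mem_maximal_iff A p r]
  constructor
  · intro h
    by_contra hn
    have hu : IsUnit (algebraMap R₀ A r) := by
      by_contra h2; exact hn h2
    exact h (hu.map _)
  · intro h hu
    exact h (isUnit_of_map_unit (algebraMap A D') _ hu)

include p in
omit [IsDomain D'] [IsIntegrallyClosed D'] [IsLocalRing D'] [Algebra A D'] [Algebra R₀ D']
  [IsScalarTower R₀ A D'] [IsLocalHom (algebraMap A D')] in
theorem residue_map_eq_zero_iff' (r : R₀) :
    algebraMap R₀ (ResidueField A) r = 0 ↔ r ∈ p := by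
  rw [IsScalarTower.algebraMap_apply R₀ A (ResidueField A), ResidueField.algebraMap_eq,
    residue_eq_zero_iff, IsLocalization.AtPrime.to_map_mem_maximal_iff A p r]

include p in
omit [IsDomain D'] [IsIntegrallyClosed D'] [IsLocalRing D'] [Algebra A D'] [Algebra R₀ D']
  [IsScalarTower R₀ A D'] [IsLocalHom (algebraMap A D')] in
theorem hfracκ (c : ResidueField A) :
    ∃ a b : R₀, algebraMap R₀ (ResidueField A) b ≠ 0 ∧
      c * algebraMap R₀ (ResidueField A) b = algebraMap R₀ (ResidueField A) a := by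
  obtain ⟨x, rfl⟩ := residue_surjective c
  obtain ⟨⟨a, b⟩, hab⟩ := IsLocalization.surj p.primeCompl x
  simp only at hab
  refine ⟨a, b, ?_, ?_⟩
  · rw [Ne, residue_map_eq_zero_iff' R₀ p A]
    exact b.2
  · rw [IsScalarTower.algebraMap_apply R₀ A (ResidueField A),
      IsScalarTower.algebraMap_apply R₀ A (ResidueField A), ResidueField.algebraMap_eq,
      ← map_mul, hab]

include p in
omit [IsDomain D'] [IsIntegrallyClosed D'] in
theorem sep_smul (c : R₀) (hc : c ∉ p) (w : ResidueField D')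
    (hsep : IsSeparable (ResidueField A) w)
    (hw : w ∉ (algebraMap (ResidueField A) (ResidueField D')).range) :
    IsSeparable (ResidueField A) (c • w) ∧
      c • w ∉ (algebraMap (ResidueField A) (ResidueField D')).range := by
  have h1 : c • w = algebraMap (ResidueField A) (ResidueField D')
      (algebraMap R₀ (ResidueField A) c) * w := by
    rw [Algebra.smul_def, IsScalarTower.algebraMap_apply R₀ (ResidueField A) (ResidueField D')]
  have hc0 : algebraMap R₀ (ResidueField A) c ≠ 0 := by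
    rw [Ne, residue_map_eq_zero_iff' R₀ p A]
    exact hc
  rw [h1]
  refine ⟨Field.isSeparable_mul (isSeparable_algebraMap _) hsep, ?_⟩
  rintro ⟨k, hk⟩
  apply hw
  refine ⟨(algebraMap R₀ (ResidueField A) c)⁻¹ * k, ?_⟩
  rw [map_mul, hk, ← mul_assoc, ← map_mul, inv_mul_cancel₀ hc0, map_one, one_mul]

/-- If the residue extension of the (local) normalization is not purely inseparable, some étale
neighbourhood has two minimal primes through the point. -/
theorem exists_of_not_radicial (hN : IsNormn A D') (q : ℕ) [ExpChar (ResidueField A) q]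
    (hnr : ¬ ∀ y : D', ∃ (n : ℕ) (a : A), y ^ (q ^ n) - algebraMap A D' a ∈ maximalIdeal D') :
    ∃ (R' : Type u) (_ : CommRing R') (_ : Algebra R₀ R') (_ : Algebra.Etale R₀ R') (P : Ideal R')
      (_ : P.IsPrime) (_ : P.LiesOver p),
      ∃ r₀ r₁ : Ideal R', r₀ ∈ minimalPrimes R' ∧ r₁ ∈ minimalPrimes R' ∧ r₀ ≤ P ∧ r₁ ≤ P ∧
        r₀ ≠ r₁ := by
  haveI := hN.int
  haveI := isIntegral_residueField A D'
  push Not at hnr
  obtain ⟨y, hy⟩ := hnr
  have hy' : ∀ n : ℕ, (residue D' y) ^ q ^ n ∉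
      (algebraMap (ResidueField A) (ResidueField D')).range := by
    rintro n ⟨k, hk⟩
    obtain ⟨a, rfl⟩ := residue_surjective k
    apply hy n a
    rw [← residue_eq_zero_iff, map_sub, map_pow, ← hk, ResidueField.algebraMap_residue, sub_self]
  obtain ⟨n, hsep⟩ := Groth.Agent.Lib.Helper22.EtNbField.exists_sep_pow (ResidueField A)
    (ResidueField D') q (residue D' y)
  -- make integral over R₀
  obtain ⟨d, hdint⟩ := IsIntegral.exists_multiple_integral_of_isLocalization p.primeCompl
    (Rₘ := A) (y ^ q ^ n) (Algebra.IsIntegral.isIntegral _)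
  have hdint' : IsIntegral R₀ ((d : R₀) • y ^ q ^ n) := hdint
  obtain ⟨hsep₁, hne₁⟩ := sep_smul R₀ p A D' d d.2 _ hsep (hy' n)
  -- monic lift
  obtain ⟨s, hs, f, hfmonic, hfroot, hfder⟩ :=
    Groth.Agent.Lib.Helper22.EtNbField.exists_monic_lift R₀ (ResidueField A) (ResidueField D')
      (hfracκ R₀ p A) _ hsep₁
  have hsp : s ∉ p := by
    rwa [Ne, residue_map_eq_zero_iff' R₀ p A] at hs
  obtain ⟨hsep₂, hne₂⟩ := sep_smul R₀ p A D' s hsp _ hsep₁ hne₁
  set t₁ : D' := s • ((d : R₀) • y ^ q ^ n) with ht₁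
  have ht₁int : IsIntegral R₀ t₁ := hdint'.smul s
  set z : ResidueField D' := s • ((d : R₀) • (residue D' y) ^ q ^ n) with hz
  have hres : residue D' t₁ = z := by
    rw [ht₁, hz, ← map_pow]
    rfl
  let S : Subalgebra R₀ D' := Algebra.adjoin R₀ {t₁}
  haveI : Module.Finite R₀ S := Algebra.finite_adjoin_simple_of_isIntegral ht₁int
  -- the algebraically closed field and the second embedding
  obtain ⟨φ, hφ⟩ := Groth.Agent.Lib.Helper22.EtNbField.exists_algHom_ne (ResidueField A)
    (ResidueField D') (AlgebraicClosure (ResidueField D')) z hsep₂ hne₂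
  -- the standard étale algebra
  let PP : StandardEtalePair R₀ := ⟨f, hfmonic, derivative f, ⟨1, 0, 1, by simp⟩⟩
  have hmap : PP.HasMap (algebraMap (ResidueField D') (AlgebraicClosure (ResidueField D')) z) := by
    refine ⟨?_, ?_⟩
    · change aeval _ f = 0
      rw [aeval_algebraMap_apply, hfroot, map_zero]
    · change IsUnit (aeval _ (derivative f))
      rw [aeval_algebraMap_apply]
      exact (IsUnit.mk0 _ hfder).map _
  let φ₁ : PP.Ring →ₐ[R₀] AlgebraicClosure (ResidueField D') := PP.lift _ hmap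
  let P₁ : Ideal PP.Ring := RingHom.ker φ₁
  haveI hP₁prime : P₁.IsPrime := RingHom.ker_isPrime φ₁
  have hP₁under : P₁.under R₀ = p := by
    ext r
    rw [Ideal.under_def, Ideal.mem_comap, RingHom.mem_ker, AlgHom.commutes,
      IsScalarTower.algebraMap_apply R₀ (ResidueField D') (AlgebraicClosure (ResidueField D')),
      map_eq_zero_iff _ (algebraMap (ResidueField D') _).injective,
      residue_map_eq_zero_iff R₀ p A D']
  haveI : P₁.LiesOver p := ⟨hP₁under.symm⟩
  -- two maps from `PP.Ring ⊗ S`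
  let c₀ : S →ₐ[R₀] ResidueField D' := (IsScalarTower.toAlgHom R₀ D' (ResidueField D')).comp S.val
  let c₁ : S →ₐ[R₀] AlgebraicClosure (ResidueField D') :=
    (IsScalarTower.toAlgHom R₀ (ResidueField D') (AlgebraicClosure (ResidueField D'))).comp c₀
  let c₂ : S →ₐ[R₀] AlgebraicClosure (ResidueField D') := (φ.restrictScalars R₀).comp c₀
  let ψ₁ : PP.Ring ⊗[R₀] S →ₐ[R₀] AlgebraicClosure (ResidueField D') :=
    Algebra.TensorProduct.productMap φ₁ c₁
  let ψ₂ : PP.Ring ⊗[R₀] S →ₐ[R₀] AlgebraicClosure (ResidueField D') :=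
    Algebra.TensorProduct.productMap φ₁ c₂
  let Q₁ : Ideal (PP.Ring ⊗[R₀] S) := RingHom.ker ψ₁
  let Q₂ : Ideal (PP.Ring ⊗[R₀] S) := RingHom.ker ψ₂
  haveI : Q₁.IsPrime := RingHom.ker_isPrime ψ₁
  haveI : Q₂.IsPrime := RingHom.ker_isPrime ψ₂
  haveI : Q₁.LiesOver P₁ := by
    refine ⟨?_⟩
    ext x
    rw [Ideal.under_def, Ideal.mem_comap, RingHom.mem_ker, RingHom.mem_ker,
      Algebra.TensorProduct.algebraMap_apply, Algebra.algebraMap_self_apply]
    change _ ↔ Algebra.TensorProduct.productMap φ₁ c₁ (x ⊗ₜ 1) = 0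
    rw [Algebra.TensorProduct.productMap_apply_tmul, map_one, mul_one]
  haveI : Q₂.LiesOver P₁ := by
    refine ⟨?_⟩
    ext x
    rw [Ideal.under_def, Ideal.mem_comap, RingHom.mem_ker, RingHom.mem_ker,
      Algebra.TensorProduct.algebraMap_apply, Algebra.algebraMap_self_apply]
    change _ ↔ Algebra.TensorProduct.productMap φ₁ c₂ (x ⊗ₜ 1) = 0
    rw [Algebra.TensorProduct.productMap_apply_tmul, map_one, mul_one]
  let τ : S := ⟨t₁, Algebra.subset_adjoin (Set.mem_singleton _)⟩
  have hc₀ : c₀ τ = z := hres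
  have hQne : Q₁ ≠ Q₂ := by
    intro h
    have hw₁ : PP.X ⊗ₜ[R₀] (1 : S) - (1 : PP.Ring) ⊗ₜ[R₀] τ ∈ Q₁ := by
      change Algebra.TensorProduct.productMap φ₁ c₁ _ = 0
      rw [map_sub, Algebra.TensorProduct.productMap_apply_tmul,
        Algebra.TensorProduct.productMap_apply_tmul, map_one, map_one, mul_one, one_mul]
      change PP.lift _ hmap PP.X - algebraMap _ _ (c₀ τ) = 0
      rw [StandardEtalePair.lift_X, hc₀, sub_self]
    rw [h] at hw₁
    have hw₂ : Algebra.TensorProduct.productMap φ₁ c₂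
        (PP.X ⊗ₜ[R₀] (1 : S) - (1 : PP.Ring) ⊗ₜ[R₀] τ) = 0 := hw₁
    rw [map_sub, Algebra.TensorProduct.productMap_apply_tmul,
      Algebra.TensorProduct.productMap_apply_tmul, map_one, map_one, mul_one, one_mul] at hw₂
    change PP.lift _ hmap PP.X - φ (c₀ τ) = 0 at hw₂
    rw [StandardEtalePair.lift_X, hc₀, sub_eq_zero] at hw₂
    exact hφ hw₂.symm
  -- split
  obtain ⟨R', _, _, _, P, _, _, -, e, P₀, P₁', _, _, hP₀, hP₁', h₀, h₁, he⟩ :=
    Groth.Agent.Lib.Helper22.EtNbSplit.split (R := PP.Ring) (S := PP.Ring ⊗[R₀] S) P₁ Q₁ Q₂ hQne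
  letI algR' : Algebra R₀ R' := ((algebraMap PP.Ring R').comp (algebraMap R₀ PP.Ring)).toAlgebra
  haveI : IsScalarTower R₀ PP.Ring R' := IsScalarTower.of_algebraMap_eq (fun _ => rfl)
  haveI : Algebra.Etale R₀ R' := Algebra.Etale.comp R₀ PP.Ring R'
  have hPunder : P.under R₀ = p := by
    rw [← Ideal.under_under (B := PP.Ring), ← Ideal.LiesOver.over (p := P₁) (P := P), hP₁under]
  haveI : P.LiesOver p := ⟨hPunder.symm⟩
  refine ⟨R', inferInstance, algR', inferInstance, P, inferInstance, inferInstance, ?_⟩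
  let ε : R' ⊗[PP.Ring] (PP.Ring ⊗[R₀] S) ≃ₐ[R'] R' ⊗[R₀] S :=
    Algebra.TensorProduct.cancelBaseChange R₀ PP.Ring R' R' S
  have hcomap : ∀ (I : Ideal (R' ⊗[PP.Ring] (PP.Ring ⊗[R₀] S))),
      (I.comap ε.symm.toRingHom).under R' = I.under R' := by
    intro I
    ext x
    simp only [Ideal.under_def, Ideal.mem_comap]
    change ε.symm (algebraMap R' _ x) ∈ I ↔ _
    rw [AlgEquiv.commutes]
  haveI : (P₀.comap ε.symm.toRingHom).IsPrime := Ideal.comap_isPrime _ _
  haveI : (P₁'.comap ε.symm.toRingHom).IsPrime := Ideal.comap_isPrime _ _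
  refine Groth.Agent.Lib.Helper22.EtNbEngine.engine p S P (le_of_eq hPunder)
    (Groth.Agent.Lib.Helper22.EtNbUni.hmin R₀ p A D' hN)
    (Groth.Agent.Lib.Helper22.EtNbUni.hfrac R₀ p A D' hN) (ε e)
    (P₀.comap ε.symm.toRingHom) (P₁'.comap ε.symm.toRingHom)
    ((hcomap P₀).trans hP₀) ((hcomap P₁').trans hP₁') ?_ ?_ ?_
  · change ε.symm (ε e) ∉ P₀
    rwa [AlgEquiv.symm_apply_apply]
  · change ε.symm (1 - ε e) ∉ P₁'
    rwa [map_sub, map_one, AlgEquiv.symm_apply_apply]
  · rw [← map_one ε, ← map_sub, ← map_mul, he, map_zero]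

end Groth.Agent.Lib.Helper22.EtNbGeo
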