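import Mathlib
import Groth.Agent.Lib.Helper22.BrCountAlg
import Groth.Agent.Lib.Helper22.BrCountSplit
import Groth.Agent.Lib.Helper22.BrCountHit
import Groth.Agent.Lib.Helper22.EtNbGeo

/-!
# Many geometric branches give many minimal primes on an étale neighbourhood: algebra
-/

set_option autoImplicit false
set_option linter.style.haveILetI false
set_option linter.unusedSectionVars false

namespace Groth.Agent.Lib.Helper22.BrCountGeoAlg

open TensorProduct IsLocalRing Polynomial Groth.Agent.Lib.Helper22.BrCountAlg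

universe u

variable (R₀ : Type u) [CommRing R₀] (p : Ideal R₀) [p.IsPrime]
  (A : Type u) [CommRing A] [IsLocalRing A] [Algebra R₀ A] [IsLocalization.AtPrime A p]
  (D : Type u) [CommRing D] [Algebra A D] [Algebra R₀ D] [IsScalarTower R₀ A D]
  (Ω : Type u) [Field Ω] [Algebra A Ω] [Algebra R₀ Ω] [IsScalarTower R₀ A Ω]
  [Algebra (ResidueField A) Ω] [IsScalarTower A (ResidueField A) Ω]
  [Algebra.IsAlgebraic (ResidueField A) Ω]

theorem exists_nbhd_geo [Algebra.IsIntegral A D]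
    (hminD : ∀ 𝔇 ∈ minimalPrimes D, 𝔇.under A ∈ minimalPrimes A)
    (hfracD : ∀ s : D, ∃ t a : A, (∀ 𝔞 ∈ minimalPrimes A, t ∉ 𝔞) ∧ t • s = algebraMap A D a)
    (N : ℕ) (φ : Fin N → D →ₐ[A] Ω) (hinj : Function.Injective φ) :
    ∃ (R' : Type u) (_ : CommRing R') (_ : Algebra R₀ R') (_ : Algebra.Etale R₀ R') (P : Ideal R')
      (_ : P.IsPrime) (_ : P.LiesOver p),
      ∃ r : Fin N → Ideal R', Function.Injective r ∧ ∀ i, r i ∈ minimalPrimes R' ∧ r i ≤ P := by
  classical
  haveI : IsScalarTower R₀ (ResidueField A) Ω := IsScalarTower.of_algebraMap_eq (fun r => by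
    rw [IsScalarTower.algebraMap_apply R₀ A Ω, IsScalarTower.algebraMap_apply A (ResidueField A) Ω,
      ← IsScalarTower.algebraMap_apply R₀ A (ResidueField A)])
  let ψ : Fin N → D →ₐ[R₀] Ω := fun k => (φ k).restrictScalars R₀
  obtain ⟨q, hq⟩ := ExpChar.exists (ResidueField A)
  haveI := hq
  haveI : ExpChar Ω q :=
    expChar_of_injective_algebraMap (algebraMap (ResidueField A) Ω).injective q
  have hzero : ∀ r : R₀, algebraMap R₀ Ω r = 0 ↔ r ∈ p := by
    intro r
    rw [IsScalarTower.algebraMap_apply R₀ (ResidueField A) Ω,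
      map_eq_zero_iff _ (algebraMap (ResidueField A) Ω).injective,
      Groth.Agent.Lib.Helper22.EtNbGeo.residue_map_eq_zero_iff' R₀ p A]
  have hex : ∀ k l, k ≠ l → ∃ (t : D) (f : R₀[X]), IsIntegral R₀ t ∧ f.Monic ∧
      aeval (ψ k t) f = 0 ∧ aeval (ψ k t) (derivative f) ≠ 0 ∧ ψ l t ≠ ψ k t := by
    intro k l hkl
    have hne : φ k ≠ φ l := fun h => hkl (hinj h)
    obtain ⟨y, hy⟩ := DFunLike.ne_iff.mp hne
    obtain ⟨n, hsep⟩ := Groth.Agent.Lib.Helper22.EtNbField.exists_sep_pow (ResidueField A) Ω q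
      (φ k y)
    have hy₁ : ψ k (y ^ q ^ n) ≠ ψ l (y ^ q ^ n) := by
      change φ k (y ^ q ^ n) ≠ φ l (y ^ q ^ n)
      rw [map_pow, map_pow]
      intro h
      exact hy (iterateFrobenius_inj Ω q n h)
    have hsep₁ : IsSeparable (ResidueField A) (ψ k (y ^ q ^ n)) := by
      change IsSeparable _ (φ k (y ^ q ^ n))
      rw [map_pow]
      exact hsep
    obtain ⟨d, hdint⟩ := IsIntegral.exists_multiple_integral_of_isLocalization p.primeCompl
      (Rₘ := A) (y ^ q ^ n) (Algebra.IsIntegral.isIntegral _)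
    have hdint' : IsIntegral R₀ ((d : R₀) • y ^ q ^ n) := hdint
    have hsep₂ : IsSeparable (ResidueField A) (ψ k ((d : R₀) • y ^ q ^ n)) := by
      rw [map_smul, Algebra.smul_def, IsScalarTower.algebraMap_apply R₀ (ResidueField A) Ω]
      exact Field.isSeparable_mul (isSeparable_algebraMap _) hsep₁
    obtain ⟨s, hs, f, hfmonic, hfroot, hfder⟩ :=
      Groth.Agent.Lib.Helper22.EtNbField.exists_monic_lift R₀ (ResidueField A) Ω
        (Groth.Agent.Lib.Helper22.EtNbGeo.hfracκ R₀ p A) _ hsep₂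
    have hsp : s ∉ p := by
      rwa [Ne, Groth.Agent.Lib.Helper22.EtNbGeo.residue_map_eq_zero_iff' R₀ p A] at hs
    refine ⟨s • ((d : R₀) • y ^ q ^ n), f, hdint'.smul s, hfmonic, ?_, ?_, ?_⟩
    · rw [map_smul]; exact hfroot
    · rw [map_smul]; exact hfder
    · rw [map_smul, map_smul, map_smul, map_smul]
      intro h
      rw [Algebra.smul_def, Algebra.smul_def, Algebra.smul_def, Algebra.smul_def] at h
      have h1 := mul_left_cancel₀ (fun h0 => hsp ((hzero s).mp h0)) h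
      have h2 := mul_left_cancel₀ (fun h0 => d.2 ((hzero d).mp h0)) h1
      exact hy₁ h2.symm
  choose t f htint hfmonic hfroot hfder hne using hex
  let G : Set D := Set.range (fun x : {kl : Fin N × Fin N // kl.1 ≠ kl.2} => t x.1.1 x.1.2 x.2)
  have hGfin : G.Finite := Set.finite_range _
  let S : Subalgebra R₀ D := Algebra.adjoin R₀ G
  haveI : Module.Finite R₀ S := Algebra.finite_adjoin_of_finite_of_isIntegral hGfin (by
    rintro _ ⟨x, rfl⟩
    exact htint _ _ _)
  let c : Fin N → S →ₐ[R₀] Ω := fun k => (ψ k).comp S.val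
  let Zs : Finset Ω := (Finset.univ : Finset {kl : Fin N × Fin N // kl.1 ≠ kl.2}).image
    (fun x => ψ x.1.1 (t x.1.1 x.1.2 x.2))
  obtain ⟨R₁, _, _, _, ρ, hρ⟩ :=
    Groth.Agent.Lib.Helper22.BrCountHit.exists_etale_hitting R₀ Ω Zs (by
      intro z hz
      obtain ⟨x, -, rfl⟩ := Finset.mem_image.mp hz
      exact ⟨f x.1.1 x.1.2 x.2, hfmonic _ _ _, hfroot _ _ _, hfder _ _ _⟩)
  have hxex : ∀ k l (h : k ≠ l), ∃ x : R₁, ρ x = ψ k (t k l h) := fun k l h =>
    hρ _ (Finset.mem_image.mpr ⟨⟨(k, l), h⟩, Finset.mem_univ _, rfl⟩)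
  choose x hx using hxex
  let P₁ : Ideal R₁ := RingHom.ker ρ
  haveI hP₁prime : P₁.IsPrime := RingHom.ker_isPrime ρ
  have hP₁under : P₁.under R₀ = p := by
    ext r
    rw [Ideal.under_def, Ideal.mem_comap, RingHom.mem_ker, AlgHom.commutes, hzero]
  haveI : P₁.LiesOver p := ⟨hP₁under.symm⟩
  let ψ' : Fin N → R₁ ⊗[R₀] S →ₐ[R₀] Ω := fun k => Algebra.TensorProduct.productMap ρ (c k)
  let Q : Fin N → Ideal (R₁ ⊗[R₀] S) := fun k => RingHom.ker (ψ' k)
  have hQprime : ∀ k, (Q k).IsPrime := fun k => RingHom.ker_isPrime (ψ' k)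
  have hQover : ∀ k, (Q k).LiesOver P₁ := by
    intro k
    refine ⟨?_⟩
    ext y
    rw [Ideal.under_def, Ideal.mem_comap, RingHom.mem_ker, RingHom.mem_ker,
      Algebra.TensorProduct.algebraMap_apply, Algebra.algebraMap_self_apply]
    change _ ↔ Algebra.TensorProduct.productMap ρ (c k) (y ⊗ₜ 1) = 0
    rw [Algebra.TensorProduct.productMap_apply_tmul, map_one, mul_one]
  have hQinj : Function.Injective Q := by
    intro k l hkl
    by_contra h
    let τ : S := ⟨t k l h, Algebra.subset_adjoin ⟨⟨(k, l), h⟩, rfl⟩⟩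
    have hw : x k l h ⊗ₜ[R₀] (1 : S) - (1 : R₁) ⊗ₜ[R₀] τ ∈ Q k := by
      change Algebra.TensorProduct.productMap ρ (c k) _ = 0
      rw [map_sub, Algebra.TensorProduct.productMap_apply_tmul,
        Algebra.TensorProduct.productMap_apply_tmul, map_one, map_one, mul_one, one_mul, hx]
      exact sub_self _
    rw [hkl] at hw
    have hw₂ : Algebra.TensorProduct.productMap ρ (c l)
        (x k l h ⊗ₜ[R₀] (1 : S) - (1 : R₁) ⊗ₜ[R₀] τ) = 0 := hw
    rw [map_sub, Algebra.TensorProduct.productMap_apply_tmul,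
      Algebra.TensorProduct.productMap_apply_tmul, map_one, map_one, mul_one, one_mul, hx,
      sub_eq_zero] at hw₂
    exact hne k l h hw₂.symm
  obtain ⟨R', _, _, _, P, _, _, -, e, P'', he, hP''prime, hP''under, hnot⟩ :=
    Groth.Agent.Lib.Helper22.BrCountSplit.split_many (R := R₁) (S := R₁ ⊗[R₀] S) P₁ N Q hQprime
      hQover hQinj
  letI algR' : Algebra R₀ R' := ((algebraMap R₁ R').comp (algebraMap R₀ R₁)).toAlgebra
  haveI : IsScalarTower R₀ R₁ R' := IsScalarTower.of_algebraMap_eq (fun _ => rfl)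
  haveI : Algebra.Etale R₀ R' := Algebra.Etale.comp R₀ R₁ R'
  have hPunder : P.under R₀ = p := by
    rw [← Ideal.under_under (B := R₁), ← Ideal.LiesOver.over (p := P₁) (P := P), hP₁under]
  haveI : P.LiesOver p := ⟨hPunder.symm⟩
  refine ⟨R', inferInstance, algR', inferInstance, P, inferInstance, inferInstance, ?_⟩
  let ε : R' ⊗[R₁] (R₁ ⊗[R₀] S) ≃ₐ[R'] R' ⊗[R₀] S :=
    Algebra.TensorProduct.cancelBaseChange R₀ R₁ R' R' S
  have hcomap : ∀ (I : Ideal (R' ⊗[R₁] (R₁ ⊗[R₀] S))),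
      (I.comap ε.symm.toRingHom).under R' = I.under R' := by
    intro I
    ext y
    simp only [Ideal.under_def, Ideal.mem_comap]
    change ε.symm (algebraMap R' _ y) ∈ I ↔ _
    rw [AlgEquiv.commutes]
  letI algS : Algebra S (R' ⊗[R₀] S) := Algebra.TensorProduct.rightAlgebra
  haveI : IsScalarTower R₀ S (R' ⊗[R₀] S) := by
    refine IsScalarTower.of_algebraMap_eq (fun r => ?_)
    rw [Algebra.TensorProduct.algebraMap_eq_includeRight]
    simp only [Algebra.algebraMap_eq_smul_one]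
    rw [Algebra.TensorProduct.one_def]
    change r • ((1 : R') ⊗ₜ[R₀] (1 : S)) = (1 : R') ⊗ₜ[R₀] (r • (1 : S))
    rw [TensorProduct.tmul_smul]
  haveI : Module.Flat S (R' ⊗[R₀] S) := Groth.Agent.Lib.Helper22.EtNbKey.flat_right R₀ R' S
  refine Groth.Agent.Lib.Helper22.BrCountKey.keyN (S := S) (T := R' ⊗[R₀] S) p P
    (le_of_eq hPunder) (hS R₀ p A D hminD S) ?_ (fun k => ε (e k)) ?_
    (fun k => (P'' k).comap ε.symm.toRingHom) ?_ ?_ ?_
  · intro y
    obtain ⟨d, hd, z, hz⟩ := hgen R₀ p D S (hfrac R₀ p A D hfracD) y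
    exact ⟨d, hd, z, by rw [hz, Algebra.TensorProduct.algebraMap_apply]; simp⟩
  · intro k l hkl
    change ε (e k) * ε (e l) = 0
    rw [← map_mul, he k l hkl, map_zero]
  · intro k
    haveI := hP''prime k
    exact Ideal.comap_isPrime _ _
  · intro k
    exact (hcomap (P'' k)).trans (hP''under k)
  · intro k
    change ε.symm (ε (e k)) ∉ P'' k
    rw [AlgEquiv.symm_apply_apply]
    exact hnot k

end Groth.Agent.Lib.Helper22.BrCountGeoAlg
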