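import Mathlib
import Groth.Prelude.Def_EssEt
import Groth.Prelude.Def_Brnch
import Groth.Agent.Lib.Helper12.BrnchD

/-!
# The local ring of an elementary étale neighbourhood has at most `numBranches` minimal primes
-/

set_option autoImplicit false
set_option linter.style.haveILetI false
set_option linter.unusedSectionVars false

namespace Groth.Agent.Lib.Helper22.BrCountLe

open TensorProduct IsLocalRing Groth.Agent.Lib.Helper12

universe u

/-- faithfully flat algebras have at least as many minimal primes -/
theorem encard_minimalPrimes_le_of_faithfullyFlat (A S : Type*) [CommRing A] [CommRing S]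
    [Algebra A S] [Module.FaithfullyFlat A S] :
    (minimalPrimes A).encard ≤ (minimalPrimes S).encard := by
  have hsub : minimalPrimes A ⊆ (fun P : Ideal S => P.comap (algebraMap A S)) '' minimalPrimes S := by
    intro p hp
    haveI : p.IsPrime := hp.1.1
    obtain ⟨Q, hQ⟩ := PrimeSpectrum.comap_surjective_of_faithfullyFlat (A := A) (B := S)
      ⟨p, inferInstance⟩
    have hQp : Q.asIdeal.comap (algebraMap A S) = p := congrArg PrimeSpectrum.asIdeal hQ
    obtain ⟨P, hP, hPQ⟩ := Ideal.exists_minimalPrimes_le (I := (⊥ : Ideal S)) (J := Q.asIdeal) bot_le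
    refine ⟨P, hP, ?_⟩
    have h1 : P.comap (algebraMap A S) ∈ minimalPrimes A :=
      NormRedMin.comap_mem_minimalPrimes_of_goingDown hP
    have h2 : P.comap (algebraMap A S) ≤ p := hQp ▸ Ideal.comap_mono hPQ
    exact le_antisymm h2 (hp.2 h1.1 h2)
  exact (Set.encard_le_encard hsub).trans (Set.encard_image_le _ _)

/-- ring isomorphisms preserve the number of minimal primes -/
theorem encard_minimalPrimes_le_of_ringEquiv {B B' : Type*} [CommRing B] [CommRing B']
    (e : B ≃+* B') : (minimalPrimes B).encard ≤ (minimalPrimes B').encard := by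
  have h1 := Ideal.comap_minimalPrimes_eq_of_surjective (f := (e : B →+* B')) e.surjective ⊥
  have h2 : Ideal.comap (e : B →+* B') ⊥ = ⊥ := by
    rw [← RingHom.ker_eq_comap_bot]
    exact (RingHom.injective_iff_ker_eq_bot _).mp e.injective
  rw [h2] at h1
  change minimalPrimes B = _ at h1
  rw [h1]
  exact Set.encard_image_le _ _

theorem encard_minimalPrimes_le_numBranches (A B : Type u) [CommRing A] [IsLocalRing A]
    [CommRing B] [IsLocalRing B] [Algebra A B] [IsLocalHom (algebraMap A B)]
    (h : EGA4loc.IsStrictlyEssentiallyEtale A B) :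
    (minimalPrimes B).encard ≤ Brnch.numBranches A := by
  obtain ⟨C, _, _, _, π, ⟨e⟩⟩ := EtaleNbhd.exists_equiv_loc A B h
  obtain ⟨i, ⟨e'⟩⟩ := Nbhd.exists_loc_equiv C π
  letI := Henselization.algebraOver i
  haveI := Henselization.faithfullyFlat_over i
  have h1 : (minimalPrimes B).encard ≤ (minimalPrimes i.G).encard :=
    encard_minimalPrimes_le_of_ringEquiv (e.trans e').toRingEquiv
  have h2 : (minimalPrimes i.G).encard ≤ (minimalPrimes (Henselization A)).encard :=
    encard_minimalPrimes_le_of_faithfullyFlat i.G (Henselization A)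
  have h3 : ENat.card (minimalPrimes (Henselization A)) = Brnch.numBranches A :=
    BrnchHens.card_minimalPrimes_henselization_eq_numBranches A (Henselization A)
  exact (h1.trans h2).trans (le_of_eq h3)

end Groth.Agent.Lib.Helper22.BrCountLe
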