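import Mathlib
import Groth.Agent.Lib.Helper22.BrCountAlg

/-!
# Many maximal ideals of the normalization give many minimal primes on an elementary étale
neighbourhood: main algebraic statement
-/

set_option autoImplicit false
set_option linter.style.haveILetI false
set_option linter.unusedSectionVars false

namespace Groth.Agent.Lib.Helper22.BrCountNb

open TensorProduct IsLocalRing Groth.Agent.Lib.Helper22.BrCountAlg

universe u

variable (R₀ : Type u) [CommRing R₀] (p : Ideal R₀) [p.IsPrime]
  (A : Type u) [CommRing A] [IsLocalRing A] [Algebra R₀ A] [IsLocalization.AtPrime A p]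
  (D : Type u) [CommRing D] [Algebra A D] [Algebra R₀ D] [IsScalarTower R₀ A D]

theorem exists_nbhd [Algebra.IsIntegral A D]
    (hminD : ∀ 𝔇 ∈ minimalPrimes D, 𝔇.under A ∈ minimalPrimes A)
    (hfracD : ∀ s : D, ∃ t a : A, (∀ 𝔞 ∈ minimalPrimes A, t ∉ 𝔞) ∧ t • s = algebraMap A D a)
    (N : ℕ) (m : Fin N → Ideal D) (hm : ∀ i, (m i).IsMaximal) (hinj : Function.Injective m) :
    ∃ (R' : Type u) (_ : CommRing R') (_ : Algebra R₀ R') (_ : Algebra.Etale R₀ R') (P : Ideal R')
      (_ : P.IsPrime) (_ : P.LiesOver p),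
      Function.Bijective (Ideal.ResidueField.mapₐ p P (Algebra.ofId _ _) (P.over_def p)) ∧
      ∃ r : Fin N → Ideal R', Function.Injective r ∧ ∀ i, r i ∈ minimalPrimes R' ∧ r i ≤ P := by
  classical
  -- Step 1: separating integral elements
  have hex : ∀ i j, i ≠ j → ∃ t : D, IsIntegral R₀ t ∧ t ∈ m i ∧ t ∉ m j := by
    intro i j hij
    have h1 : ¬ m i ≤ m j := by
      intro hle
      exact hij (hinj ((hm i).eq_of_le (hm j).ne_top hle))
    obtain ⟨t, ht₁, ht₂⟩ := SetLike.not_le_iff_exists.mp h1
    obtain ⟨s, hs⟩ := IsIntegral.exists_multiple_integral_of_isLocalization p.primeCompl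
      (Rₘ := A) t (Algebra.IsIntegral.isIntegral t)
    have hs' : IsIntegral R₀ ((s : R₀) • t) := hs
    have hsu := isUnit_map R₀ p A D s s.2
    refine ⟨(s : R₀) • t, hs', ?_, ?_⟩
    · rw [Algebra.smul_def]; exact (m i).mul_mem_left _ ht₁
    · rw [Algebra.smul_def]
      intro h
      exact ht₂ ((Ideal.unit_mul_mem_iff_mem _ hsu).mp h)
  choose τ hτint hτmem hτnot using hex
  let G : Set D := Set.range (fun x : {ij : Fin N × Fin N // ij.1 ≠ ij.2} => τ x.1.1 x.1.2 x.2)
  have hGfin : G.Finite := Set.finite_range _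
  let S : Subalgebra R₀ D := Algebra.adjoin R₀ G
  haveI : Module.Finite R₀ S := Algebra.finite_adjoin_of_finite_of_isIntegral hGfin (by
    rintro _ ⟨x, rfl⟩
    exact hτint _ _ _)
  have hover : ∀ i, ((m i).comap (algebraMap S D)).under R₀ = p := by
    intro i
    haveI := hm i
    have h1 : ((m i).comap (algebraMap S D)).under R₀ = (m i).under R₀ := by
      rw [Ideal.under_def, Ideal.comap_comap, ← IsScalarTower.algebraMap_eq]
    have h2 : (m i).under A = maximalIdeal A :=
      eq_maximalIdeal (Ideal.isMaximal_comap_of_isIntegral_of_isMaximal (m i))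
    rw [h1, ← Ideal.under_under (B := A), h2]
    exact IsLocalization.AtPrime.under_maximalIdeal A p
  let q : Fin N → Ideal S := fun i => (m i).comap (algebraMap S D)
  have hqprime : ∀ i, (q i).IsPrime := fun i =>
    haveI := (hm i).isPrime
    Ideal.comap_isPrime _ _
  have hqover : ∀ i, (q i).LiesOver p := fun i => ⟨(hover i).symm⟩
  have hqinj : Function.Injective q := by
    intro i j h
    by_contra hij
    have hmem : (⟨τ i j hij, Algebra.subset_adjoin ⟨⟨(i, j), hij⟩, rfl⟩⟩ : S) ∈ q i :=
      hτmem i j hij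
    rw [h] at hmem
    exact hτnot i j hij hmem
  -- Step 2: the étale neighbourhood splitting the fibre
  obtain ⟨R', _, _, _, P, _, _, n, e, he, P', hP'prime, hP'over, Hbij, heP', H⟩ :=
    Algebra.exists_etale_completeOrthogonalIdempotents_forall_liesOver_eq (R := R₀) (S := S) p
  refine ⟨R', inferInstance, inferInstance, inferInstance, P, inferInstance, inferInstance, Hbij, ?_⟩
  let Qk : Fin N → p.primesOver S := fun k => ⟨q k, hqprime k, hqover k⟩
  let P'' : Fin N → P.primesOver (R' ⊗[R₀] S) := fun k =>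
    (Ideal.fiberIsoOfBijectiveResidueField Hbij).symm (Qk k)
  have hP''comap : ∀ k, (P'' k).1.comap
      (RingHomClass.toRingHom (Algebra.TensorProduct.includeRight : S →ₐ[R₀] R' ⊗[R₀] S)) = q k :=
    fun k => Ideal.comap_fiberIsoOfBijectiveResidueField_symm Hbij (Qk k)
  have hP''prime : ∀ k, (P'' k).1.IsPrime := fun k => (P'' k).2.1
  have hP''over : ∀ k, (P'' k).1.LiesOver P := fun k => (P'' k).2.2
  have hP''inj : Function.Injective (fun k => (P'' k).1) := by
    intro k l hkl
    apply hqinj
    rw [← hP''comap k, ← hP''comap l]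
    exact congrArg _ hkl
  -- Step 3: index of the idempotent attached to each prime
  have hidx : ∀ k, ∃ i : Fin n, e i.castSucc ∉ (P'' k).1 := by
    intro k
    by_contra hcon
    push Not at hcon
    have h1 : (1 : R' ⊗[R₀] S) ∈ (P'' k).1 := by
      rw [← he.complete, Fin.sum_univ_castSucc]
      refine Ideal.add_mem _ (Ideal.sum_mem _ (fun i _ => hcon i)) ?_
      exact (H (P'' k).1 (hP''prime k) (hP''over k)).1
    exact (hP''prime k).ne_top ((Ideal.eq_top_iff_one _).mpr h1)
  choose ι hι using hidx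
  have hιinj : Function.Injective ι := by
    intro k l hkl
    apply hP''inj
    change (P'' k).1 = (P'' l).1
    rw [(H (P'' k).1 (hP''prime k) (hP''over k)).2 (ι k) (hι k),
      (H (P'' l).1 (hP''prime l) (hP''over l)).2 (ι l) (hι l), hkl]
  -- Step 4: the key lemma
  letI algS : Algebra S (R' ⊗[R₀] S) := Algebra.TensorProduct.rightAlgebra
  haveI : IsScalarTower R₀ S (R' ⊗[R₀] S) := by
    refine IsScalarTower.of_algebraMap_eq (fun r => ?_)
    rw [Algebra.TensorProduct.algebraMap_eq_includeRight]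
    simp only [Algebra.algebraMap_eq_smul_one]
    rw [Algebra.TensorProduct.one_def]
    change r • ((1 : R') ⊗ₜ[R₀] (1 : S)) = (1 : R') ⊗ₜ[R₀] (r • (1 : S))
    rw [TensorProduct.tmul_smul]
  haveI : Module.Flat S (R' ⊗[R₀] S) := Groth.Agent.Lib.Helper22.EtNbKey.flat_right R₀ R' S
  refine Groth.Agent.Lib.Helper22.BrCountKey.keyN (S := S) (T := R' ⊗[R₀] S) p P
    (le_of_eq (Ideal.LiesOver.over (p := p) (P := P)).symm)
    (hS R₀ p A D hminD S) ?_ (fun k => e (ι k).castSucc) ?_ (fun k => (P'' k).1) hP''prime ?_ hι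
  · intro x
    obtain ⟨d, hd, y, hy⟩ := hgen R₀ p D S (hfrac R₀ p A D hfracD) x
    exact ⟨d, hd, y, by rw [hy, Algebra.TensorProduct.algebraMap_apply]; simp⟩
  · intro k l hkl
    refine he.ortho ?_
    intro h
    exact hkl (hιinj (Fin.castSucc_injective _ h))
  · intro k
    exact (Ideal.LiesOver.over (p := P) (P := (P'' k).1)).symm

end Groth.Agent.Lib.Helper22.BrCountNb
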