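import Mathlib

/-!
# Irreducible components through a point versus minimal primes of the local ring
-/

set_option autoImplicit false
set_option linter.style.haveILetI false
set_option linter.unusedSectionVars false

namespace Groth.Agent.Lib.Helper22.EtNbTop

open AlgebraicGeometry CategoryTheory

universe u

/-- If the nilradical of the stalk at `u` is prime, exactly one irreducible component passes
through `u`. -/
theorem encard_eq_one_of_prime_nil (U : Scheme.{u}) (u : U)
    (h : ∀ a b : U.presheaf.stalk u, IsNilpotent (a * b) → IsNilpotent a ∨ IsNilpotent b) :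
    {Z : Set U | Z ∈ irreducibleComponents U ∧ u ∈ Z}.encard = 1 := by
  have hprime : (nilradical (U.presheaf.stalk u)).IsPrime := by
    refine ⟨?_, ?_⟩
    · intro htop
      have h1 : (1 : U.presheaf.stalk u) ∈ nilradical (U.presheaf.stalk u) := by
        rw [htop]; exact Submodule.mem_top
      exact not_isNilpotent_one (mem_nilradical.mp h1)
    · intro a b hab
      exact (h a b (mem_nilradical.mp hab)).imp mem_nilradical.mpr mem_nilradical.mpr
  set η : U := U.fromSpecStalk u ⟨nilradical (U.presheaf.stalk u), hprime⟩ with hη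
  have hηu : η ⤳ u := by
    have : η ∈ Set.range (U.fromSpecStalk u) := ⟨_, rfl⟩
    rw [Scheme.range_fromSpecStalk] at this
    exact this
  have hgen : ∀ ξ : U, ξ ⤳ u → η ⤳ ξ := by
    intro ξ hξ
    obtain ⟨P, hP⟩ : ξ ∈ Set.range (U.fromSpecStalk u) := by
      rw [Scheme.range_fromSpecStalk]
      exact hξ
    have h0 : (⟨nilradical (U.presheaf.stalk u), hprime⟩ : PrimeSpectrum (U.presheaf.stalk u)) ⤳ P :=
      (PrimeSpectrum.le_iff_specializes _ _).mp
        ((PrimeSpectrum.asIdeal_le_asIdeal _ _).mp (nilradical_le_prime P.asIdeal))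
    rw [← hP]
    exact Specializes.map h0 (U.fromSpecStalk u).continuous
  have hZ₀irr : IsIrreducible (closure ({η} : Set U)) := isIrreducible_singleton.closure
  have key : ∀ Z : Set U, Z ∈ irreducibleComponents U → u ∈ Z → Z = closure {η} := by
    intro Z hZ huZ
    have hZcl : IsClosed Z := isClosed_of_mem_irreducibleComponents Z hZ
    have hZirr : IsIrreducible Z := hZ.1
    have hgp := hZirr.isGenericPoint_genericPoint hZcl
    have h1 : hZirr.genericPoint ⤳ u := by
      rw [specializes_iff_mem_closure, hgp.def]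
      exact huZ
    have h2 := hgen _ h1
    have h3 : Z ⊆ closure {η} := by
      rw [← hgp.def]
      exact closure_minimal (Set.singleton_subset_iff.mpr (specializes_iff_mem_closure.mp h2))
        isClosed_closure
    exact le_antisymm h3 (hZ.2 hZ₀irr h3)
  have hmem : closure ({η} : Set U) ∈ irreducibleComponents U := by
    have := key (irreducibleComponent u) (irreducibleComponent_mem_irreducibleComponents u)
      mem_irreducibleComponent
    rw [← this]
    exact irreducibleComponent_mem_irreducibleComponents u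
  have hset : {Z : Set U | Z ∈ irreducibleComponents U ∧ u ∈ Z} = {closure {η}} := by
    ext Z
    constructor
    · rintro ⟨h1, h2⟩
      exact key Z h1 h2
    · intro hZ
      rw [Set.mem_singleton_iff] at hZ
      rw [hZ]
      exact ⟨hmem, specializes_iff_mem_closure.mp hηu⟩
  rw [hset, Set.encard_singleton]

/-- Two distinct minimal primes inside `P` give two irreducible components through `P`. -/
theorem encard_ne_one_of_minimalPrimes {R' : Type*} [CommRing R'] (P : PrimeSpectrum R')
    (r₀ r₁ : Ideal R') (h₀ : r₀ ∈ minimalPrimes R') (h₁ : r₁ ∈ minimalPrimes R')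
    (hle₀ : r₀ ≤ P.asIdeal) (hle₁ : r₁ ≤ P.asIdeal) (hne : r₀ ≠ r₁) :
    {Z : Set (PrimeSpectrum R') | Z ∈ irreducibleComponents (PrimeSpectrum R') ∧ P ∈ Z}.encard
      ≠ 1 := by
  intro hcard
  obtain ⟨Z, hZ⟩ := Set.encard_eq_one.mp hcard
  have hin : ∀ r : Ideal R', r ∈ minimalPrimes R' → r ≤ P.asIdeal →
      PrimeSpectrum.zeroLocus (r : Set R') = Z := by
    intro r hr hle
    have h1 : PrimeSpectrum.zeroLocus (r : Set R') ∈
        {Z : Set (PrimeSpectrum R') | Z ∈ irreducibleComponents (PrimeSpectrum R') ∧ P ∈ Z} := by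
      refine ⟨?_, ?_⟩
      · rw [← PrimeSpectrum.zeroLocus_minimalPrimes]
        exact ⟨r, hr, rfl⟩
      · rw [PrimeSpectrum.mem_zeroLocus]
        exact hle
    rw [hZ] at h1
    exact h1
  have h2 : PrimeSpectrum.zeroLocus (r₀ : Set R') = PrimeSpectrum.zeroLocus (r₁ : Set R') :=
    (hin r₀ h₀ hle₀).trans (hin r₁ h₁ hle₁).symm
  haveI : r₀.IsPrime := h₀.1.1
  haveI : r₁.IsPrime := h₁.1.1
  have h3 := congrArg PrimeSpectrum.vanishingIdeal h2
  rw [PrimeSpectrum.vanishingIdeal_zeroLocus_eq_radical,
    PrimeSpectrum.vanishingIdeal_zeroLocus_eq_radical, Ideal.IsPrime.radical ‹_›,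
    Ideal.IsPrime.radical ‹_›] at h3
  exact hne h3

end Groth.Agent.Lib.Helper22.EtNbTop
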