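import Mathlib
import Groth.Prelude.Def_CAlg2
import Groth.Prelude.Def_Hens2
import Groth.Agent.Lib.helper19.QFL3
import Groth.Agent.Lib.Helper22.EtNbTop
import Groth.Agent.Lib.Helper22.EtNbUni

/-!
# From étale neighbourhoods of a scheme point to étale algebras over an affine chart
-/

set_option autoImplicit false
set_option linter.style.haveILetI false
set_option linter.unusedSectionVars false

namespace Groth.Agent.Lib.Helper22.EtNbSch

open AlgebraicGeometry CategoryTheory TensorProduct IsLocalRing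
  Groth.Agent.Lib.Helper22.RadPtAlg

universe u

section chart

variable (X : Scheme.{u}) (x : X) (V : X.Opens) (hV : IsAffineOpen V) (hxV : x ∈ V)
  (R' : Type u) [CommRing R'] [Algebra Γ(X, V) R'] [Algebra.Etale Γ(X, V) R']
  (P : Ideal R') [P.IsPrime] [P.LiesOver (hV.primeIdealOf ⟨x, hxV⟩).asIdeal]

/-- the étale neighbourhood attached to an étale algebra over a chart -/
noncomputable def nb : Spec (CommRingCat.of R') ⟶ X :=
  Spec.map (CommRingCat.ofHom (algebraMap Γ(X, V) R')) ≫ hV.fromSpec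

theorem etale_nb : Etale (nb X V hV R') := by
  haveI : Etale (Spec.map (CommRingCat.ofHom (algebraMap Γ(X, V) R'))) := by
    rw [HasRingHomProperty.Spec_iff (P := @Etale)]
    exact RingHom.etale_algebraMap.mpr inferInstance
  unfold nb
  infer_instance

include hxV in
theorem nb_apply : nb X V hV R' (⟨P, inferInstance⟩ : Spec (CommRingCat.of R')) = x := by
  unfold nb
  rw [Scheme.Hom.comp_apply]
  have h1 : (Spec.map (CommRingCat.ofHom (algebraMap Γ(X, V) R')))
      (⟨P, inferInstance⟩ : Spec (CommRingCat.of R')) = hV.primeIdealOf ⟨x, hxV⟩ := by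
    apply PrimeSpectrum.ext
    exact (Ideal.LiesOver.over (p := (hV.primeIdealOf ⟨x, hxV⟩).asIdeal) (P := P)).symm
  rw [h1]
  exact hV.fromSpec_primeIdealOf ⟨x, hxV⟩

theorem bij_nb (Hbij : Function.Bijective (Ideal.ResidueField.mapₐ
      (hV.primeIdealOf ⟨x, hxV⟩).asIdeal P (Algebra.ofId _ _)
      (P.over_def (hV.primeIdealOf ⟨x, hxV⟩).asIdeal))) :
    Function.Bijective ((nb X V hV R').residueFieldMap
      (⟨P, inferInstance⟩ : Spec (CommRingCat.of R'))) := by
  have h1 := Groth.Agent.Lib.Helper19.QFL.isIso_residueFieldMap_of_bijective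
    (hV.primeIdealOf ⟨x, hxV⟩).asIdeal P Hbij
  have h2 := Groth.Agent.Lib.Helper19.QFL.isIso_residueFieldMap_comp_fromSpec hV
    (Spec.map (CommRingCat.ofHom (algebraMap Γ(X, V) R')))
    (⟨P, inferInstance⟩ : Spec (CommRingCat.of R')) h1
  exact (ConcreteCategory.isIso_iff_bijective _).mp h2

end chart

section main

variable (X : Scheme.{u}) (x : X)

/-- the algebra-level statement extracted from the scheme-level hypothesis (elementary étale
neighbourhoods) -/
theorem halg_elem (V : X.Opens) (hV : IsAffineOpen V) (hxV : x ∈ V)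
    (Hs : ∀ (U : Scheme.{u}) (g : U ⟶ X) (u : U), Hens2.IsEtaleNbhd g u x →
      {Z : Set ↑U | Z ∈ irreducibleComponents ↑U ∧ u ∈ Z}.encard = 1)
    (R' : Type u) [CommRing R'] [Algebra Γ(X, V) R'] [Algebra.Etale Γ(X, V) R']
    (P : Ideal R') [P.IsPrime] [P.LiesOver (hV.primeIdealOf ⟨x, hxV⟩).asIdeal]
    (Hbij : Function.Bijective (Ideal.ResidueField.mapₐ
      (hV.primeIdealOf ⟨x, hxV⟩).asIdeal P (Algebra.ofId _ _)
      (P.over_def (hV.primeIdealOf ⟨x, hxV⟩).asIdeal)))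
    (r₀ r₁ : Ideal R') (h₀ : r₀ ∈ minimalPrimes R') (h₁ : r₁ ∈ minimalPrimes R')
    (hle₀ : r₀ ≤ P) (hle₁ : r₁ ≤ P) : r₀ = r₁ := by
  by_contra hne
  have hnb : Hens2.IsEtaleNbhd (nb X V hV R') (⟨P, inferInstance⟩ : Spec (CommRingCat.of R')) x :=
    ⟨etale_nb X V hV R', nb_apply X x V hV hxV R' P, bij_nb X x V hV hxV R' P Hbij⟩
  exact Groth.Agent.Lib.Helper22.EtNbTop.encard_ne_one_of_minimalPrimes
    (⟨P, inferInstance⟩ : PrimeSpectrum R') r₀ r₁ h₀ h₁ hle₀ hle₁ hne (Hs _ _ _ hnb)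

/-- the algebra-level statement extracted from the scheme-level hypothesis (all étale
neighbourhoods) -/
theorem halg_all (V : X.Opens) (hV : IsAffineOpen V) (hxV : x ∈ V)
    (Hs : ∀ (U : Scheme.{u}) (g : U ⟶ X) (u : U), Etale g → g u = x →
      {Z : Set ↑U | Z ∈ irreducibleComponents ↑U ∧ u ∈ Z}.encard = 1)
    (R' : Type u) [CommRing R'] [Algebra Γ(X, V) R'] [Algebra.Etale Γ(X, V) R']
    (P : Ideal R') [P.IsPrime] [P.LiesOver (hV.primeIdealOf ⟨x, hxV⟩).asIdeal]
    (r₀ r₁ : Ideal R') (h₀ : r₀ ∈ minimalPrimes R') (h₁ : r₁ ∈ minimalPrimes R')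
    (hle₀ : r₀ ≤ P) (hle₁ : r₁ ≤ P) : r₀ = r₁ := by
  by_contra hne
  exact Groth.Agent.Lib.Helper22.EtNbTop.encard_ne_one_of_minimalPrimes
    (⟨P, inferInstance⟩ : PrimeSpectrum R') r₀ r₁ h₀ h₁ hle₀ hle₁ hne
    (Hs _ (nb X V hV R') (⟨P, inferInstance⟩ : Spec (CommRingCat.of R')) (etale_nb X V hV R')
      (nb_apply X x V hV hxV R' P))

set_option backward.defeqAttrib.useBackward true in
set_option backward.isDefEq.respectTransparency false in
/-- `(⇐)` of the unibranch criterion. -/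
theorem unibranch_of_nbhds
    (Hs : ∀ (U : Scheme.{u}) (g : U ⟶ X) (u : U), Hens2.IsEtaleNbhd g u x →
      {Z : Set ↑U | Z ∈ irreducibleComponents ↑U ∧ u ∈ Z}.encard = 1) :
    CAlg2.IsUnibranch (X.presheaf.stalk x) := by
  obtain ⟨_, ⟨V, hV, rfl⟩, hxV, -⟩ :=
    X.isBasis_affineOpens.exists_subset_of_mem_open (Set.mem_univ x) isOpen_univ
  letI algA := X.presheaf.algebra_section_stalk ⟨x, hxV⟩
  haveI hloc := hV.isLocalization_stalk ⟨x, hxV⟩
  have hdom : IsDomain (CAlg2.red (X.presheaf.stalk x)) := by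
    by_contra hnd
    obtain ⟨r₀, r₁, h₀, h₁, hle₀, hle₁, hne⟩ :=
      Groth.Agent.Lib.Helper22.EtNbUni.exists_of_not_domain Γ(X, V)
        (hV.primeIdealOf ⟨x, hxV⟩).asIdeal (X.presheaf.stalk x) hnd
    haveI : (hV.primeIdealOf ⟨x, hxV⟩).asIdeal.LiesOver (hV.primeIdealOf ⟨x, hxV⟩).asIdeal :=
      ⟨rfl⟩
    refine hne (halg_elem X x V hV hxV Hs Γ(X, V) (hV.primeIdealOf ⟨x, hxV⟩).asIdeal ?_
      r₀ r₁ h₀ h₁ hle₀ hle₁)
    rw! [Algebra.ofId_self, Ideal.ResidueField.mapₐ_id]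
    exact Function.bijective_id
  haveI := hdom
  refine ⟨hdom, ?_⟩
  by_contra hnl
  letI algD : Algebra (X.presheaf.stalk x) (CAlg2.normRed (X.presheaf.stalk x)) :=
    algNormRed (X.presheaf.stalk x)
  letI algRD : Algebra Γ(X, V) (CAlg2.normRed (X.presheaf.stalk x)) :=
    ((algebraMap (X.presheaf.stalk x) (CAlg2.normRed (X.presheaf.stalk x))).comp
      (algebraMap Γ(X, V) (X.presheaf.stalk x))).toAlgebra
  haveI : IsScalarTower Γ(X, V) (X.presheaf.stalk x) (CAlg2.normRed (X.presheaf.stalk x)) :=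
    IsScalarTower.of_algebraMap_eq (fun _ => rfl)
  obtain ⟨R', _, _, _, P, _, _, Hbij, r₀, r₁, h₀, h₁, hle₀, hle₁, hne⟩ :=
    Groth.Agent.Lib.Helper22.EtNbUni.exists_of_not_local Γ(X, V)
      (hV.primeIdealOf ⟨x, hxV⟩).asIdeal (X.presheaf.stalk x)
      (CAlg2.normRed (X.presheaf.stalk x)) (normn_normRed (X.presheaf.stalk x)) hnl
  exact hne (halg_elem X x V hV hxV Hs R' P Hbij r₀ r₁ h₀ h₁ hle₀ hle₁)

end main

end Groth.Agent.Lib.Helper22.EtNbSch
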