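import Mathlib
import Groth.Prelude.Def_CAlg2
import Groth.Prelude.Def_Hens2
import Groth.Prelude.Def_Brnch
import Groth.Agent.Lib.Helper22.BrCountTop
import Groth.Agent.Lib.Helper22.BrCountNb
import Groth.Agent.Lib.Helper22.BrCountEss
import Groth.Agent.Lib.Helper22.BrCountLe
import Groth.Agent.Lib.Helper22.EtNbSch

/-!
# Branch count via elementary étale neighbourhoods: scheme level
-/

set_option autoImplicit false
set_option linter.style.haveILetI false
set_option linter.unusedSectionVars false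

namespace Groth.Agent.Lib.Helper22.BrCountSch

open AlgebraicGeometry CategoryTheory TensorProduct IsLocalRing Groth.Agent.Lib.Helper12

universe u

set_option backward.defeqAttrib.useBackward true in
set_option backward.isDefEq.respectTransparency false in
theorem isEssentiallyEtale_stalk {U X : Scheme.{u}} (g : U ⟶ X) [Etale g] (u : U) :
    letI := (g.stalkMap u).hom.toAlgebra
    EGA4loc.IsEssentiallyEtale (X.presheaf.stalk (g u)) (U.presheaf.stalk u) := by
  letI algRS := (g.stalkMap u).hom.toAlgebra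
  obtain ⟨_, ⟨V₀, hV₀, rfl⟩, hxV₀, -⟩ :=
    X.isBasis_affineOpens.exists_subset_of_mem_open (Set.mem_univ (g u)) isOpen_univ
  obtain ⟨_, ⟨W, hW, rfl⟩, huW, hWV⟩ :=
    U.isBasis_affineOpens.exists_subset_of_mem_open hxV₀ (V₀.2.preimage g.continuous)
  have het := HasRingHomProperty.appLE (P := @Etale) g inferInstance ⟨V₀, hV₀⟩ ⟨W, hW⟩ hWV
  algebraize [(g.appLE V₀ W hWV).hom]
  haveI : Algebra.Etale Γ(X, V₀) Γ(U, W) := RingHom.etale_algebraMap.mp het
  let algR := X.presheaf.algebra_section_stalk ⟨g u, hWV huW⟩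
  have hlocR := hV₀.isLocalization_stalk ⟨g u, hWV huW⟩
  let algS := U.presheaf.algebra_section_stalk ⟨u, huW⟩
  have hlocS := hW.isLocalization_stalk ⟨u, huW⟩
  letI algA₀S : Algebra Γ(X, V₀) (U.presheaf.stalk u) :=
    ((algebraMap Γ(U, W) (U.presheaf.stalk u)).comp (algebraMap Γ(X, V₀) Γ(U, W))).toAlgebra
  haveI : IsScalarTower Γ(X, V₀) Γ(U, W) (U.presheaf.stalk u) :=
    IsScalarTower.of_algebraMap_eq (fun _ => rfl)
  have hnat : ∀ y : Γ(X, V₀), g.stalkMap u (algebraMap Γ(X, V₀) (X.presheaf.stalk (g u)) y) =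
      algebraMap Γ(U, W) (U.presheaf.stalk u) (algebraMap Γ(X, V₀) Γ(U, W) y) := by
    intro y
    change g.stalkMap u (X.presheaf.germ V₀ (g u) (hWV huW) y) =
      U.presheaf.germ W u huW ((g.appLE V₀ W hWV) y)
    rw [Scheme.Hom.germ_stalkMap_apply, Scheme.Hom.appLE, CommRingCat.comp_apply,
      TopCat.Presheaf.germ_res_apply]
  haveI : IsScalarTower Γ(X, V₀) (X.presheaf.stalk (g u)) (U.presheaf.stalk u) :=
    IsScalarTower.of_algebraMap_eq (fun y => (hnat y).symm)
  exact Groth.Agent.Lib.Helper22.BrCountEss.isEssentiallyEtale_of_chart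
    (A₀ := Γ(X, V₀)) (C := Γ(U, W))
    (hV₀.primeIdealOf ⟨g u, hWV huW⟩).asIdeal (X.presheaf.stalk (g u))
    (hW.primeIdealOf ⟨u, huW⟩).asIdeal
    congr($(IsAffineOpen.comap_primeIdealOf_appLE V₀ hV₀ W hW hWV huW).1)
    (U.presheaf.stalk u)

/-- the local ring of an elementary étale neighbourhood has at most `numBranches` minimal
primes -/
theorem encard_le_of_nbhd {U X : Scheme.{u}} (g : U ⟶ X) [Etale g] (u : U)
    (hbij : Function.Bijective (g.residueFieldMap u)) :
    {Z : Set ↑U | Z ∈ irreducibleComponents ↑U ∧ u ∈ Z}.encard ≤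
      Brnch.numBranchesAt X (g u) := by
  rw [Groth.Agent.Lib.Helper22.BrCountTop.encard_components_eq]
  letI algRS := (g.stalkMap u).hom.toAlgebra
  haveI : IsLocalHom (algebraMap (X.presheaf.stalk (g u)) (U.presheaf.stalk u)) :=
    inferInstanceAs (IsLocalHom (g.stalkMap u).hom)
  exact Groth.Agent.Lib.Helper22.BrCountLe.encard_minimalPrimes_le_numBranches
    (X.presheaf.stalk (g u)) (U.presheaf.stalk u) ⟨isEssentiallyEtale_stalk g u, hbij⟩

end Groth.Agent.Lib.Helper22.BrCountSch
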