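import Mathlib
import Groth.Prelude.Def_EssEt
import Groth.Prelude.Def_Brnch
import Groth.Agent.Lib.Helper12.BrnchH
import Groth.Agent.Lib.Helper12.EssEtaleStrict
import Groth.Agent.Lib.Helper22.BrCountLe
import Groth.Agent.Lib.Helper22.BrCountSch

/-!
# The local ring of an étale neighbourhood has at most `numGeomBranches` minimal primes
-/

set_option autoImplicit false
set_option linter.style.haveILetI false
set_option linter.unusedSectionVars false

namespace Groth.Agent.Lib.Helper22.BrCountGeoLe

open TensorProduct IsLocalRing Groth.Agent.Lib.Helper12 AlgebraicGeometry CategoryTheory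

universe u

theorem encard_minimalPrimes_le_numGeomBranches (A B : Type u) [CommRing A] [IsLocalRing A]
    [CommRing B] [IsLocalRing B] [Algebra A B] [IsLocalHom (algebraMap A B)]
    (h : EGA4loc.IsEssentiallyEtale A B) :
    (minimalPrimes B).encard ≤ Brnch.numGeomBranches A := by
  obtain ⟨ψ, hψ⟩ := StrictStruct.exists_local_algHom A (StrictHenselization A) B h
  letI algBS : Algebra B (StrictHenselization A) := ψ.toRingHom.toAlgebra
  haveI : IsScalarTower A B (StrictHenselization A) :=
    IsScalarTower.of_algebraMap_eq (fun a => (ψ.commutes a).symm)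
  haveI : IsLocalHom (algebraMap B (StrictHenselization A)) := ⟨hψ⟩
  haveI := StrictStruct.isStrictHenselization_of_isEssentiallyEtale A (StrictHenselization A) B h
  haveI : Module.Flat B (StrictHenselization A) :=
    StrictStruct.flat_of_isStrictHenselization B (StrictHenselization A)
  haveI : Module.FaithfullyFlat B (StrictHenselization A) :=
    Module.FaithfullyFlat.of_flat_of_isLocalHom
  have h2 : (minimalPrimes B).encard ≤ (minimalPrimes (StrictHenselization A)).encard :=
    Groth.Agent.Lib.Helper22.BrCountLe.encard_minimalPrimes_le_of_faithfullyFlat B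
      (StrictHenselization A)
  have h3 : ENat.card (minimalPrimes (StrictHenselization A)) = Brnch.numGeomBranches A :=
    BrnchHens.card_minimalPrimes_strictHenselization_eq_numGeomBranches A (StrictHenselization A)
  exact h2.trans (le_of_eq h3)

/-- the local ring of an étale neighbourhood has at most `numGeomBranches` minimal primes -/
theorem encard_le_of_nbhd {U X : Scheme.{u}} (g : U ⟶ X) [Etale g] (u : U) :
    {Z : Set ↑U | Z ∈ irreducibleComponents ↑U ∧ u ∈ Z}.encard ≤
      Brnch.numGeomBranchesAt X (g u) := by
  rw [Groth.Agent.Lib.Helper22.BrCountTop.encard_components_eq]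
  letI algRS := (g.stalkMap u).hom.toAlgebra
  haveI : IsLocalHom (algebraMap (X.presheaf.stalk (g u)) (U.presheaf.stalk u)) :=
    inferInstanceAs (IsLocalHom (g.stalkMap u).hom)
  exact encard_minimalPrimes_le_numGeomBranches
    (X.presheaf.stalk (g u)) (U.presheaf.stalk u)
    (Groth.Agent.Lib.Helper22.BrCountSch.isEssentiallyEtale_stalk g u)

end Groth.Agent.Lib.Helper22.BrCountGeoLe
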