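import Mathlib
import Groth.Agent.Lib.Helper22.BrCountSch

/-!
# Branch count via elementary étale neighbourhoods: the lower bound
-/

set_option autoImplicit false
set_option linter.style.haveILetI false
set_option linter.unusedSectionVars false

namespace Groth.Agent.Lib.Helper22.BrCountMain

open AlgebraicGeometry CategoryTheory TensorProduct IsLocalRing Groth.Agent.Lib.Helper12
  Groth.Agent.Lib.Helper22.EtNbSch

universe u

/-- every element of `normRed A` has a denominator outside all minimal primes -/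
theorem hfracD (A : Type u) [CommRing A] (s : CAlg2.normRed A) :
    ∃ t a : A, (∀ 𝔞 ∈ minimalPrimes A, t ∉ 𝔞) ∧ t • s = algebraMap A (CAlg2.normRed A) a := by
  obtain ⟨⟨b, d⟩, hbd⟩ := IsLocalization.surj (nonZeroDivisors (CAlg2.red A))
    (s : FractionRing (CAlg2.red A))
  obtain ⟨t, ht⟩ := Ideal.Quotient.mk_surjective (d : CAlg2.red A)
  obtain ⟨a, ha⟩ := Ideal.Quotient.mk_surjective b
  refine ⟨t, a, ?_, ?_⟩
  · intro 𝔞 h𝔞 htmem
    obtain ⟨pbar, hpbar, rfl⟩ := NormRedMin.exists_minimalPrimes_red A h𝔞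
    rw [Ideal.mem_comap, ht] at htmem
    exact notMem_nonZeroDivisors_of_mem_mem_minimalPrimes htmem hpbar d.2
  · rw [Algebra.smul_def]
    apply Subtype.ext
    rw [Subalgebra.coe_mul, NormRedMin.algebraMap_normRed_apply,
      NormRedMin.algebraMap_normRed_apply, ht, ha, mul_comm]
    exact hbd

/-- choose `N` distinct elements of a type of cardinality at least `N` -/
theorem exists_injective_of_le_card {α : Type*} (N : ℕ) (h : (N : ℕ∞) ≤ ENat.card α) :
    ∃ f : Fin N → α, Function.Injective f := by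
  classical
  rw [← Set.encard_univ] at h
  obtain ⟨t, -, ht⟩ := Set.exists_subset_encard_eq h
  have htfin : t.Finite := Set.finite_of_encard_eq_coe ht
  have hcard : htfin.toFinset.card = N := by
    have := htfin.encard_eq_coe_toFinset_card
    rw [ht] at this
    exact_mod_cast this.symm
  let e := (Finset.equivFinOfCardEq hcard).symm
  exact ⟨fun i => (e i).1, fun i j hij => e.injective (Subtype.ext hij)⟩

/-- distinct minimal primes inside `P` give distinct components through `P` -/
theorem le_encard_of_minimalPrimes {R' : Type*} [CommRing R'] (P : PrimeSpectrum R') (N : ℕ)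
    (r : Fin N → Ideal R') (hr : Function.Injective r)
    (hmin : ∀ i, r i ∈ minimalPrimes R' ∧ r i ≤ P.asIdeal) :
    (N : ℕ∞) ≤
      {Z : Set (PrimeSpectrum R') | Z ∈ irreducibleComponents (PrimeSpectrum R') ∧ P ∈ Z}.encard := by
  let f : Fin N → Set (PrimeSpectrum R') := fun i => PrimeSpectrum.zeroLocus (r i : Set R')
  have hf : Function.Injective f := by
    intro i j hij
    apply hr
    haveI : (r i).IsPrime := (hmin i).1.1.1
    haveI : (r j).IsPrime := (hmin j).1.1.1
    have h3 := congrArg PrimeSpectrum.vanishingIdeal hij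
    simp only [f] at h3
    rwa [PrimeSpectrum.vanishingIdeal_zeroLocus_eq_radical,
      PrimeSpectrum.vanishingIdeal_zeroLocus_eq_radical, Ideal.IsPrime.radical ‹_›,
      Ideal.IsPrime.radical ‹_›] at h3
  have h1 : ENat.card (Fin N) ≤ (Set.range f).encard := hf.encard_range
  have h2 : ENat.card (Fin N) = N := by simp
  rw [h2] at h1
  refine h1.trans (Set.encard_le_encard ?_)
  rintro _ ⟨i, rfl⟩
  refine ⟨?_, ?_⟩
  · rw [← PrimeSpectrum.zeroLocus_minimalPrimes]
    exact ⟨r i, (hmin i).1, rfl⟩
  · rw [PrimeSpectrum.mem_zeroLocus]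
    exact (hmin i).2

set_option backward.defeqAttrib.useBackward true in
set_option backward.isDefEq.respectTransparency false in
theorem exists_nbhd_of_le (X : Scheme.{u}) (x : X) (N : ℕ)
    (hN : (N : ℕ∞) ≤ Brnch.numBranchesAt X x) :
    ∃ (U : Scheme.{u}) (g : U ⟶ X) (u : U), Hens2.IsEtaleNbhd g u x ∧
      (N : ℕ∞) ≤ {Z : Set ↑U | Z ∈ irreducibleComponents ↑U ∧ u ∈ Z}.encard := by
  classical
  by_cases hfin : (minimalPrimes (X.presheaf.stalk x)).Finite
  · have hnb : Brnch.numBranchesAt X x =
        ENat.card (MaximalSpectrum (CAlg2.normRed (X.presheaf.stalk x))) := by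
      unfold Brnch.numBranchesAt Brnch.numBranches
      exact if_pos hfin
    rw [hnb] at hN
    obtain ⟨m₀, hm₀⟩ := exists_injective_of_le_card N hN
    obtain ⟨_, ⟨V, hV, rfl⟩, hxV, -⟩ :=
      X.isBasis_affineOpens.exists_subset_of_mem_open (Set.mem_univ x) isOpen_univ
    letI algA := X.presheaf.algebra_section_stalk ⟨x, hxV⟩
    haveI hloc := hV.isLocalization_stalk ⟨x, hxV⟩
    letI algRD : Algebra Γ(X, V) (CAlg2.normRed (X.presheaf.stalk x)) :=
      ((algebraMap (X.presheaf.stalk x) (CAlg2.normRed (X.presheaf.stalk x))).comp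
        (algebraMap Γ(X, V) (X.presheaf.stalk x))).toAlgebra
    haveI : IsScalarTower Γ(X, V) (X.presheaf.stalk x) (CAlg2.normRed (X.presheaf.stalk x)) :=
      IsScalarTower.of_algebraMap_eq (fun _ => rfl)
    obtain ⟨R', _, _, _, P, _, _, Hbij, r, hr, hmin⟩ :=
      Groth.Agent.Lib.Helper22.BrCountNb.exists_nbhd Γ(X, V)
        (hV.primeIdealOf ⟨x, hxV⟩).asIdeal (X.presheaf.stalk x)
        (CAlg2.normRed (X.presheaf.stalk x))
        (fun 𝔇 h𝔇 => NormRedMin.comap_mem_minimalPrimes (X.presheaf.stalk x) hfin h𝔇)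
        (hfracD (X.presheaf.stalk x)) N (fun i => (m₀ i).asIdeal) (fun i => (m₀ i).isMaximal)
        (fun i j hij => hm₀ (MaximalSpectrum.ext hij))
    refine ⟨Spec (CommRingCat.of R'), nb X V hV R', ⟨P, inferInstance⟩,
      ⟨etale_nb X V hV R', nb_apply X x V hV hxV R' P, bij_nb X x V hV hxV R' P Hbij⟩, ?_⟩
    exact le_encard_of_minimalPrimes (⟨P, inferInstance⟩ : PrimeSpectrum R') N r hr hmin
  · refine ⟨X, 𝟙 X, x, ⟨inferInstance, rfl, ?_⟩, ?_⟩
    · rw [Scheme.residueFieldMap_id]
      exact Function.bijective_id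
    · rw [Groth.Agent.Lib.Helper22.BrCountTop.encard_components_eq]
      have : (minimalPrimes (X.presheaf.stalk x)).Infinite := hfin
      rw [this.encard_eq]
      exact le_top

end Groth.Agent.Lib.Helper22.BrCountMain
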