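import Mathlib
import Groth.Agent.Lib.Helper22.BrCountMain
import Groth.Agent.Lib.Helper22.BrCountGeoAlg
import Groth.Agent.Lib.Helper22.BrCountGeoLe

/-!
# Geometric branch count via étale neighbourhoods: the lower bound
-/

set_option autoImplicit false
set_option linter.style.haveILetI false
set_option linter.unusedSectionVars false

namespace Groth.Agent.Lib.Helper22.BrCountGeoMain

open AlgebraicGeometry CategoryTheory TensorProduct IsLocalRing Groth.Agent.Lib.Helper12
  Groth.Agent.Lib.Helper22.EtNbSch Groth.Agent.Lib.Helper22.BrCountMain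

universe u

section alg

variable (A : Type u) [CommRing A] [IsLocalRing A]

/-- the ring hom attached to a pair (maximal ideal, embedding) -/
noncomputable def Φ (x : Σ m' : MaximalSpectrum (CAlg2.normRed A), Brnch.Emb A m') :
    CAlg2.normRed A →+* AlgebraicClosure (ResidueField A) :=
  x.2.1.comp (Ideal.Quotient.mk x.1.asIdeal)

theorem Φ_comp (x : Σ m' : MaximalSpectrum (CAlg2.normRed A), Brnch.Emb A m') (a : A) :
    Φ A x (algebraMap A (CAlg2.normRed A) a) = Brnch.toClosure A a :=
  RingHom.congr_fun x.2.2 a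

theorem Φ_injective : Function.Injective (Φ A) := by
  rintro ⟨⟨n, hn⟩, σ, h⟩ ⟨⟨n', hn'⟩, σ', h'⟩ hxy
  have h1 : σ.comp (Ideal.Quotient.mk n) = σ'.comp (Ideal.Quotient.mk n') := hxy
  have hk : ∀ (n : Ideal (CAlg2.normRed A)) (_ : n.IsMaximal)
      (σ : CAlg2.normRed A ⧸ n →+* AlgebraicClosure (ResidueField A)),
      RingHom.ker (σ.comp (Ideal.Quotient.mk n)) = n := by
    intro n hn σ
    letI : Field (CAlg2.normRed A ⧸ n) := Ideal.Quotient.field n
    rw [RingHom.ker_comp_of_injective _ σ.injective, Ideal.mk_ker]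
  have h2 : n = n' := by
    rw [← hk n hn σ, h1, hk n' hn' σ']
  subst h2
  have h3 : σ = σ' := Ideal.Quotient.ringHom_ext h1
  subst h3
  rfl

end alg

set_option backward.defeqAttrib.useBackward true in
set_option backward.isDefEq.respectTransparency false in
theorem exists_nbhd_of_le_geo (X : Scheme.{u}) (x : X) (N : ℕ)
    (hN : (N : ℕ∞) ≤ Brnch.numGeomBranchesAt X x) :
    ∃ (U : Scheme.{u}) (g : U ⟶ X) (u : U), (Etale g ∧ g u = x) ∧
      (N : ℕ∞) ≤ {Z : Set ↑U | Z ∈ irreducibleComponents ↑U ∧ u ∈ Z}.encard := by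
  classical
  by_cases hfin : (minimalPrimes (X.presheaf.stalk x)).Finite
  · have hnb : Brnch.numGeomBranchesAt X x =
        ENat.card (Σ m' : MaximalSpectrum (CAlg2.normRed (X.presheaf.stalk x)),
          Brnch.Emb (X.presheaf.stalk x) m') := by
      unfold Brnch.numGeomBranchesAt Brnch.numGeomBranches
      exact if_pos hfin
    rw [hnb] at hN
    obtain ⟨f₀, hf₀⟩ := exists_injective_of_le_card N hN
    obtain ⟨_, ⟨V, hV, rfl⟩, hxV, -⟩ :=
      X.isBasis_affineOpens.exists_subset_of_mem_open (Set.mem_univ x) isOpen_univ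
    letI algA := X.presheaf.algebra_section_stalk ⟨x, hxV⟩
    haveI hloc := hV.isLocalization_stalk ⟨x, hxV⟩
    letI algRD : Algebra Γ(X, V) (CAlg2.normRed (X.presheaf.stalk x)) :=
      ((algebraMap (X.presheaf.stalk x) (CAlg2.normRed (X.presheaf.stalk x))).comp
        (algebraMap Γ(X, V) (X.presheaf.stalk x))).toAlgebra
    haveI : IsScalarTower Γ(X, V) (X.presheaf.stalk x) (CAlg2.normRed (X.presheaf.stalk x)) :=
      IsScalarTower.of_algebraMap_eq (fun _ => rfl)
    let φ : Fin N → CAlg2.normRed (X.presheaf.stalk x) →ₐ[X.presheaf.stalk x]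
        AlgebraicClosure (ResidueField (X.presheaf.stalk x)) := fun k =>
      { Φ (X.presheaf.stalk x) (f₀ k) with
        commutes' := fun a => Φ_comp (X.presheaf.stalk x) (f₀ k) a }
    have hφ : Function.Injective φ := by
      intro k l hkl
      apply hf₀
      apply Φ_injective (X.presheaf.stalk x)
      ext d
      exact congrArg (fun ψ => ψ d) hkl
    obtain ⟨R', _, _, _, P, _, _, r, hr, hmin⟩ :=
      Groth.Agent.Lib.Helper22.BrCountGeoAlg.exists_nbhd_geo Γ(X, V)
        (hV.primeIdealOf ⟨x, hxV⟩).asIdeal (X.presheaf.stalk x)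
        (CAlg2.normRed (X.presheaf.stalk x))
        (AlgebraicClosure (ResidueField (X.presheaf.stalk x)))
        (fun 𝔇 h𝔇 => NormRedMin.comap_mem_minimalPrimes (X.presheaf.stalk x) hfin h𝔇)
        (hfracD (X.presheaf.stalk x)) N φ hφ
    refine ⟨Spec (CommRingCat.of R'), nb X V hV R', ⟨P, inferInstance⟩,
      ⟨etale_nb X V hV R', nb_apply X x V hV hxV R' P⟩, ?_⟩
    exact le_encard_of_minimalPrimes (⟨P, inferInstance⟩ : PrimeSpectrum R') N r hr hmin
  · refine ⟨X, 𝟙 X, x, ⟨inferInstance, rfl⟩, ?_⟩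
    rw [Groth.Agent.Lib.Helper22.BrCountTop.encard_components_eq]
    have : (minimalPrimes (X.presheaf.stalk x)).Infinite := hfin
    rw [this.encard_eq]
    exact le_top

end Groth.Agent.Lib.Helper22.BrCountGeoMain
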