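import Mathlib
import Groth.Prelude.Def_MoreMor
import Groth.Agent.Lib.Helper22.BrCountTop
import Groth.Agent.Lib.Helper22.BrCountLe
import Groth.Agent.Lib.Helper25.FibLocus

/-!
# Branch counts on fibres: auxiliary lemmas (helper22)
-/

set_option autoImplicit false
set_option linter.style.haveILetI false
set_option linter.unusedSectionVars false
universe u
open AlgebraicGeometry CategoryTheory CategoryTheory.Limits

namespace Groth.Agent.Lib.Helper22.BrFibre

/-- the number of irreducible components through a point does not grow along an open immersion -/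
theorem encard_components_le_of_openImmersion {F V : Scheme.{u}} (j : F ⟶ V) [IsOpenImmersion j]
    (z : F) :
    {Z : Set V | Z ∈ irreducibleComponents V ∧ j z ∈ Z}.encard ≤
      {Z : Set F | Z ∈ irreducibleComponents F ∧ z ∈ Z}.encard := by
  rw [BrCountTop.encard_components_eq, BrCountTop.encard_components_eq]
  exact BrCountLe.encard_minimalPrimes_le_of_ringEquiv
    (asIso (j.stalkMap z)).commRingCatIsoToRingEquiv

/-- the map of fibres induced by an etale morphism is etale -/
theorem etale_fiberMap {U X S : Scheme.{u}} (g : U ⟶ X) (f : X ⟶ S) [Etale g] (s : S) :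
    Etale (MoreMor.fiberMap g f s) := by
  have sq : IsPullback ((g ≫ f).fiberι s) (MoreMor.fiberMap g f s) g (f.fiberι s) :=
    Groth.Agent.Lib.Helper25.FibLocus.isPullback_bcMap g f (S.fromSpecResidueField s)
  exact MorphismProperty.of_isPullback (P := @Etale) sq inferInstance

theorem fiberMap_fiberι {U X S : Scheme.{u}} (g : U ⟶ X) (f : X ⟶ S) (s : S) :
    MoreMor.fiberMap g f s ≫ f.fiberι s = (g ≫ f).fiberι s ≫ g :=
  pullback.lift_fst _ _ _

/-- a point of the total space over `x` has a unique point of the fibre above it, and it maps to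
the canonical point of the fibre of `f` -/
theorem exists_fibre_point {U X S : Scheme.{u}} (g : U ⟶ X) (f : X ⟶ S) (x : X) (u : U)
    (hgu : g u = x) :
    ∃ u' : (g ≫ f).fiber (f x), (g ≫ f).fiberι (f x) u' = u ∧
      MoreMor.fiberMap g f (f x) u' = f.asFiber x ∧
      ∀ u'' : (g ≫ f).fiber (f x), (g ≫ f).fiberι (f x) u'' = u → u'' = u' := by
  have hmem : u ∈ Set.range ((g ≫ f).fiberι (f x)) := by
    rw [Scheme.Hom.range_fiberι]
    show (g ≫ f) u = f x
    rw [Scheme.Hom.comp_apply, hgu]
  obtain ⟨u', hu'⟩ := hmem
  refine ⟨u', hu', ?_, ?_⟩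
  · apply (f.fiberι (f x)).isEmbedding.injective
    have := congr($(fiberMap_fiberι g f (f x)) u')
    rw [Scheme.Hom.comp_apply, Scheme.Hom.comp_apply] at this
    rw [this, hu', hgu, f.fiberι_asFiber]
  · intro u'' hu''
    exact ((g ≫ f).fiberι (f x)).isEmbedding.injective (hu''.trans hu'.symm)

end Groth.Agent.Lib.Helper22.BrFibre
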