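import Mathlib
import Groth.Prelude.Def_MoreMor
import Groth.Prelude.Def_Hens2
import Groth.Agent.Lib.Helper22.BrFibre
import Groth.Agent.Lib.Helper25.FibLocus

/-!
# Residue fields of points of fibres and elementary etale neighbourhoods (helper22)
-/

set_option autoImplicit false
set_option linter.style.haveILetI false
set_option linter.unusedSectionVars false
universe u
open AlgebraicGeometry CategoryTheory CategoryTheory.Limits

namespace Groth.Agent.Lib.Helper22.BrFibreRes

open Groth.Agent.Lib.Helper25.FibLocus (isIso_residueFieldMap)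

/-- in a commutative square `a ≫ b = c ≫ d` of schemes, if `a`, `b` (at the relevant points) and
`c` induce isomorphisms of residue fields then so does `d` -/
theorem isIso_residueFieldMap_of_square {P Q Q' R : Scheme.{u}} (a : P ⟶ Q) (b : Q ⟶ R)
    (c : P ⟶ Q') (d : Q' ⟶ R) (e : a ≫ b = c ≫ d) (z : P)
    (ha : IsIso (a.residueFieldMap z)) (hb : IsIso (b.residueFieldMap (a z)))
    (hc : IsIso (c.residueFieldMap z)) : IsIso (d.residueFieldMap (c z)) := by
  have h1 : IsIso ((a ≫ b).residueFieldMap z) := by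
    rw [Scheme.residueFieldMap_comp]; exact IsIso.comp_isIso' hb ha
  have h2 : IsIso ((c ≫ d).residueFieldMap z) := e ▸ h1
  rw [Scheme.residueFieldMap_comp] at h2
  exact @IsIso.of_isIso_comp_right _ _ _ _ _ (d.residueFieldMap (c z)) (c.residueFieldMap z) hc h2

/-- in a commutative square `a ≫ b = c ≫ d` of schemes, if `b`, `c`, `d` (at the relevant points)
induce isomorphisms of residue fields then so does `a` -/
theorem isIso_residueFieldMap_of_square' {P Q Q' R : Scheme.{u}} (a : P ⟶ Q) (b : Q ⟶ R)
    (c : P ⟶ Q') (d : Q' ⟶ R) (e : a ≫ b = c ≫ d) (z : P)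
    (hb : IsIso (b.residueFieldMap (a z)))
    (hc : IsIso (c.residueFieldMap z)) (hd : IsIso (d.residueFieldMap (c z))) :
    IsIso (a.residueFieldMap z) := by
  have h1 : IsIso ((c ≫ d).residueFieldMap z) := by
    rw [Scheme.residueFieldMap_comp]; exact IsIso.comp_isIso' hd hc
  have h2 : IsIso ((a ≫ b).residueFieldMap z) := e.symm ▸ h1
  rw [Scheme.residueFieldMap_comp] at h2
  exact @IsIso.of_isIso_comp_left _ _ _ _ _ (b.residueFieldMap (a z)) _ hb h2

/-- lifting an elementary etale neighbourhood: the data of `S9727` for an elementary etale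
neighbourhood of the fibre is an elementary etale neighbourhood of the total space -/
theorem isEtaleNbhd_of_lift {X S V U : Scheme.{u}} (f : X ⟶ S) (x : X)
    (h : V ⟶ f.fiber (f x)) (v : V) (hnb : Hens2.IsEtaleNbhd h v (f.asFiber x))
    (p : U ⟶ X) [Etale p] (u : U) (m : (p ≫ f).fiber (f x) ⟶ V) [IsOpenImmersion m]
    (u' : ↑((p ≫ f).fiber (f x))) (hpu : p u = x)
    (hmh : m ≫ h = MoreMor.fiberMap p f (f x))
    (hu' : (p ≫ f).fiberι (f x) u' = u) (hmu' : m u' = v) : Hens2.IsEtaleNbhd p u x := by
  subst hu' hmu'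
  refine ⟨inferInstance, hpu, ?_⟩
  have i1 : IsIso (h.residueFieldMap (m u')) :=
    (ConcreteCategory.isIso_iff_bijective _).mpr hnb.residue_bijective
  have i3 := isIso_residueFieldMap ((p ≫ f).fiberι (f x)) u'
  have e : (m ≫ h) ≫ f.fiberι (f x) = (p ≫ f).fiberι (f x) ≫ p := by
    rw [hmh]; exact BrFibre.fiberMap_fiberι p f (f x)
  have i4 : IsIso ((m ≫ h).residueFieldMap u') := by
    rw [Scheme.residueFieldMap_comp]; exact IsIso.comp_isIso' i1 inferInstance
  have i5 : IsIso ((f.fiberι (f x)).residueFieldMap ((m ≫ h) u')) :=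
    isIso_residueFieldMap (f.fiberι (f x)) _
  have := isIso_residueFieldMap_of_square (m ≫ h) (f.fiberι (f x)) ((p ≫ f).fiberι (f x)) p e u'
    i4 i5 i3
  exact (ConcreteCategory.isIso_iff_bijective _).mp this

/-- the map of fibres of an elementary etale neighbourhood induces an isomorphism of residue
fields at the point over `u` -/
theorem bijective_residueFieldMap_fiberMap {X S U : Scheme.{u}} (f : X ⟶ S) (x : X)
    (g : U ⟶ X) (u : U) (hnb : Hens2.IsEtaleNbhd g u x)
    (u' : ↑((g ≫ f).fiber (f x))) (hu' : (g ≫ f).fiberι (f x) u' = u) :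
    Function.Bijective ((MoreMor.fiberMap g f (f x)).residueFieldMap u') := by
  subst hu'
  have i1 : IsIso (g.residueFieldMap ((g ≫ f).fiberι (f x) u')) :=
    (ConcreteCategory.isIso_iff_bijective _).mpr hnb.residue_bijective
  have i2 := isIso_residueFieldMap (f.fiberι (f x)) (MoreMor.fiberMap g f (f x) u')
  have i3 := isIso_residueFieldMap ((g ≫ f).fiberι (f x)) u'
  have := isIso_residueFieldMap_of_square' (MoreMor.fiberMap g f (f x)) (f.fiberι (f x))
    ((g ≫ f).fiberι (f x)) g (BrFibre.fiberMap_fiberι g f (f x)) u' i2 i3 i1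
  exact (ConcreteCategory.isIso_iff_bijective _).mp this

end Groth.Agent.Lib.Helper22.BrFibreRes
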