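import Mathlib

/-!
# Minimal primes along a "conductor" extension

If `f : R → S` is injective, `t ∈ R` is a nonzerodivisor in `R` and in `S` and `t S ⊆ f(R)`, then
contraction is a bijection between the minimal primes of `S` and those of `R`.
-/

namespace Groth.Agent.Lib.Helper22.BranchCount

open scoped nonZeroDivisors

section Conductor

variable {R S : Type*} [CommRing R] [CommRing S] (f : R →+* S) (hf : Function.Injective f)
  (t : R) (hcond : ∀ s : S, ∃ r : R, f r = f t * s)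

include hf hcond in
/-- the prime of `S` attached to a prime `p ∌ t` of `R` -/
theorem exists_prime_comap_eq (p : Ideal R) [hp : p.IsPrime] (htp : t ∉ p) :
    ∃ P : Ideal S, P.IsPrime ∧ P.comap f = p ∧ ∀ s : S, s ∈ P ↔ ∃ r ∈ p, f r = f t * s := by
  have key : ∀ (s : S) (r : R), f r = f t * s → (∃ r' ∈ p, f r' = f t * s) → r ∈ p := by
    rintro s r hr ⟨r', hr'p, hr'⟩
    rw [hf (hr.trans hr'.symm)]
    exact hr'p
  let P : Ideal S :=
    { carrier := {s | ∃ r ∈ p, f r = f t * s}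
      zero_mem' := ⟨0, p.zero_mem, by simp⟩
      add_mem' := by
        rintro a b ⟨r1, h1, e1⟩ ⟨r2, h2, e2⟩
        exact ⟨r1 + r2, p.add_mem h1 h2, by rw [map_add, e1, e2, mul_add]⟩
      smul_mem' := by
        rintro c s ⟨r, hr, e⟩
        obtain ⟨rc, hrc⟩ := hcond c
        obtain ⟨r'', hr''⟩ := hcond (c * s)
        refine ⟨r'', ?_, hr''⟩
        have h1 : t * r'' = rc * r := by
          apply hf
          rw [map_mul, map_mul, hr'', hrc, e]
          ring
        have h2 : t * r'' ∈ p := h1 ▸ p.mul_mem_left _ hr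
        exact (hp.mem_or_mem h2).resolve_left htp }
  have hmem : ∀ s : S, s ∈ P ↔ ∃ r ∈ p, f r = f t * s := fun s => Iff.rfl
  refine ⟨P, ⟨?_, ?_⟩, ?_, hmem⟩
  · intro h
    have h1 : (1 : S) ∈ P := h ▸ Submodule.mem_top
    obtain ⟨r, hr, e⟩ := (hmem 1).mp h1
    rw [mul_one] at e
    exact htp (hf e ▸ hr)
  · intro s1 s2 h12
    obtain ⟨r, hr, e⟩ := (hmem _).mp h12
    obtain ⟨r1, e1⟩ := hcond s1
    obtain ⟨r2, e2⟩ := hcond s2
    have h1 : r1 * r2 = t * r := by
      apply hf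
      rw [map_mul, map_mul, e1, e2, e]
      ring
    have h2 : r1 * r2 ∈ p := h1 ▸ p.mul_mem_left _ hr
    rcases hp.mem_or_mem h2 with h | h
    · exact Or.inl ((hmem _).mpr ⟨r1, h, e1⟩)
    · exact Or.inr ((hmem _).mpr ⟨r2, h, e2⟩)
  · ext a
    rw [Ideal.mem_comap, hmem]
    constructor
    · rintro ⟨r, hr, e⟩
      have h1 : r = t * a := hf (by rw [e, map_mul])
      exact (hp.mem_or_mem (h1 ▸ hr)).resolve_left htp
    · intro ha
      exact ⟨t * a, p.mul_mem_left _ ha, by rw [map_mul]⟩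

include hf hcond in
theorem bijOn_comap_minimalPrimes (htR : t ∈ R⁰) (htS : f t ∈ S⁰) :
    Set.BijOn (Ideal.comap f) (minimalPrimes S) (minimalPrimes R) := by
  have hnotS : ∀ P ∈ minimalPrimes S, f t ∉ P := fun P hP h =>
    Set.disjoint_left.mp (Ideal.disjoint_nonZeroDivisors_of_mem_minimalPrimes hP) h htS
  have hnotR : ∀ p ∈ minimalPrimes R, t ∉ p := fun p hp h =>
    Set.disjoint_left.mp (Ideal.disjoint_nonZeroDivisors_of_mem_minimalPrimes hp) h htR
  refine ⟨?_, ?_, ?_⟩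
  · intro P hP
    haveI : P.IsPrime := hP.1.1
    refine ⟨⟨inferInstance, bot_le⟩, ?_⟩
    rintro p' ⟨hp', -⟩ hle
    haveI := hp'
    have htp' : t ∉ p' := fun h => hnotS P hP (hle h)
    obtain ⟨P', hP'prime, hP'comap, hP'mem⟩ := exists_prime_comap_eq f hf t hcond p' htp'
    have hP'le : P' ≤ P := by
      intro s hs
      obtain ⟨r, hr, e⟩ := (hP'mem s).mp hs
      have h1 : f t * s ∈ P := e ▸ hle hr
      exact (Ideal.IsPrime.mem_or_mem inferInstance h1).resolve_left (hnotS P hP)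
    have hPle : P ≤ P' := hP.2 ⟨hP'prime, bot_le⟩ hP'le
    calc P.comap f ≤ P'.comap f := Ideal.comap_mono hPle
      _ = p' := hP'comap
  · intro P1 hP1 P2 hP2 h12
    have hP1prime : P1.IsPrime := hP1.1.1
    have hP2prime : P2.IsPrime := hP2.1.1
    have aux : ∀ (Q1 Q2 : Ideal S), Q2.IsPrime → f t ∉ Q2 → Q1.comap f = Q2.comap f → Q1 ≤ Q2 := by
      intro Q1 Q2 hQ2 hQ2t hQ s hs
      obtain ⟨r, e⟩ := hcond s
      have h1 : r ∈ Q1.comap f := by
        rw [Ideal.mem_comap, e]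
        exact Q1.mul_mem_left _ hs
      rw [hQ, Ideal.mem_comap, e] at h1
      exact (hQ2.mem_or_mem h1).resolve_left hQ2t
    exact le_antisymm (aux P1 P2 hP2prime (hnotS P2 hP2) h12)
      (aux P2 P1 hP1prime (hnotS P1 hP1) h12.symm)
  · intro p hp
    haveI : p.IsPrime := hp.1.1
    obtain ⟨P', hP'prime, hP'comap, -⟩ := exists_prime_comap_eq f hf t hcond p (hnotR p hp)
    haveI := hP'prime
    obtain ⟨P, hP, hPle⟩ := Ideal.exists_minimalPrimes_le (I := (⊥ : Ideal S)) (J := P') bot_le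
    haveI : P.IsPrime := hP.1.1
    refine ⟨P, hP, ?_⟩
    have h1 : P.comap f ≤ p := hP'comap ▸ Ideal.comap_mono hPle
    exact le_antisymm h1 (hp.2 ⟨inferInstance, bot_le⟩ h1)

end Conductor

end Groth.Agent.Lib.Helper22.BranchCount
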