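import Mathlib
import Groth.Agent.Lib.Helper12.HenselIntegralDomain
import Groth.Agent.Lib.Helper5.RegCompletion
import Groth.Agent.Lib.helper19.RegularLocal

/-!
# Counting maximal ideals and minimal primes of `B = T ⊗ C` (abstract form)

`A` local, `T` a henselian local `A`-algebra (think: the completion), `C` an integral `A`-algebra
(think: the normalization), `B` a ring which is finite over `T`, faithfully flat over `C` and
generated by `C` modulo `𝔪_A B` (think: `T ⊗[A] C`).
-/

set_option autoImplicit false
set_option linter.style.haveILetI false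
set_option linter.unusedSectionVars false
universe u

namespace Groth.Agent.Lib.Helper22.BranchCount

open IsLocalRing

section Abstract

variable {A : Type u} [CommRing A] [IsLocalRing A]
  {T : Type u} [CommRing T] [HenselianLocalRing T] [Algebra A T] [IsLocalHom (algebraMap A T)]
  {C : Type u} [CommRing C] [Algebra A C] [Algebra.IsIntegral A C]
  {B : Type u} [CommRing B] [Algebra A B] [Algebra T B] [Algebra C B] [IsScalarTower A T B]
  [IsScalarTower A C B] [Module.Finite T B] [Module.FaithfullyFlat C B]

omit [Algebra.IsIntegral A C] [Algebra C B] [IsScalarTower A C B] [Module.FaithfullyFlat C B] in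
theorem map_maximalIdeal_le_of_isMaximal (T : Type u) [CommRing T] [HenselianLocalRing T]
    [Algebra A T] [IsLocalHom (algebraMap A T)] [Algebra T B] [IsScalarTower A T B]
    [Module.Finite T B] (n : Ideal B) [n.IsMaximal] :
    (maximalIdeal A).map (algebraMap A B) ≤ n := by
  rw [Ideal.map_le_iff_le_comap]
  intro a ha
  rw [Ideal.mem_comap, IsScalarTower.algebraMap_apply A T B]
  have hmax : (n.comap (algebraMap T B)).IsMaximal :=
    Ideal.isMaximal_comap_of_isIntegral_of_isMaximal n
  have h1 : n.comap (algebraMap T B) = maximalIdeal T := IsLocalRing.eq_maximalIdeal hmax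
  have h2 : algebraMap A T a ∈ maximalIdeal T := by
    rw [IsLocalRing.mem_maximalIdeal, mem_nonunits_iff]
    intro hu
    exact ha (isUnit_of_map_unit (algebraMap A T) a hu)
  rw [← h1] at h2
  exact h2

omit [IsLocalRing A] in
theorem map_maximalIdeal_le_of_isMaximal' [IsLocalRing A] (m' : Ideal C) [m'.IsMaximal] :
    (maximalIdeal A).map (algebraMap A C) ≤ m' := by
  rw [Ideal.map_le_iff_le_comap]
  have hmax : (m'.comap (algebraMap A C)).IsMaximal :=
    Ideal.isMaximal_comap_of_isIntegral_of_isMaximal m'
  rw [IsLocalRing.eq_maximalIdeal hmax]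

variable (hgen : ∀ b : B, ∃ c : C, b - algebraMap C B c ∈ (maximalIdeal A).map (algebraMap A B))

include hgen in
omit [Algebra.IsIntegral A C] [Module.FaithfullyFlat C B] in
theorem isMaximal_comap (T : Type u) [CommRing T] [HenselianLocalRing T]
    [Algebra A T] [IsLocalHom (algebraMap A T)] [Algebra T B] [IsScalarTower A T B]
    [Module.Finite T B] (n : Ideal B) [hn : n.IsMaximal] :
    (n.comap (algebraMap C B)).IsMaximal := by
  have hmn := map_maximalIdeal_le_of_isMaximal (A := A) T n
  haveI : (n.comap (algebraMap C B)).IsPrime := Ideal.comap_isPrime _ _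
  rw [Ideal.isMaximal_iff]
  refine ⟨fun h => hn.ne_top ((Ideal.eq_top_iff_one _).mpr (by simpa using h)), ?_⟩
  intro J x hJ hx hxJ
  have hx' : algebraMap C B x ∉ n := hx
  obtain ⟨b, i, hi, hb⟩ := hn.exists_inv hx'
  obtain ⟨c, hc⟩ := hgen b
  have h1 : algebraMap C B (c * x) - 1 ∈ n := by
    have e : algebraMap C B (c * x) - 1 =
        -(b - algebraMap C B c) * algebraMap C B x - i := by
      rw [map_mul, ← hb]; ring
    rw [e]
    exact n.sub_mem (n.mul_mem_right _ (n.neg_mem (hmn hc))) hi
  have h2 : c * x - 1 ∈ n.comap (algebraMap C B) := by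
    rw [Ideal.mem_comap, map_sub, map_one]; exact h1
  have h3 : c * x - 1 ∈ J := hJ h2
  have h4 : c * x ∈ J := J.mul_mem_left _ hxJ
  have := J.sub_mem h4 h3
  rwa [sub_sub_cancel] at this

include hgen in
omit [Module.FaithfullyFlat C B] in
theorem map_comap_eq (T : Type u) [CommRing T] [HenselianLocalRing T]
    [Algebra A T] [IsLocalHom (algebraMap A T)] [Algebra T B] [IsScalarTower A T B]
    [Module.Finite T B] (n : Ideal B) [hn : n.IsMaximal] :
    (n.comap (algebraMap C B)).map (algebraMap C B) = n := by
  apply le_antisymm Ideal.map_comap_le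
  intro b hb
  have hmn := map_maximalIdeal_le_of_isMaximal (A := A) T n
  haveI := isMaximal_comap hgen T n
  obtain ⟨c, hc⟩ := hgen b
  have h1 : algebraMap C B c ∈ n := by
    have := n.sub_mem hb (hmn hc)
    rwa [sub_sub_cancel] at this
  have h2 : (maximalIdeal A).map (algebraMap A B) ≤
      (n.comap (algebraMap C B)).map (algebraMap C B) := by
    rw [IsScalarTower.algebraMap_eq A C B, ← Ideal.map_map]
    exact Ideal.map_mono (map_maximalIdeal_le_of_isMaximal' _)
  have h3 : b = (b - algebraMap C B c) + algebraMap C B c := by ring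
  rw [h3]
  exact Ideal.add_mem _ (h2 hc) (Ideal.mem_map_of_mem _ h1)

include hgen in
/-- contraction is a bijection from the maximal ideals of `B` to those of `C` -/
theorem bijOn_comap_maximal (T : Type u) [CommRing T] [HenselianLocalRing T]
    [Algebra A T] [IsLocalHom (algebraMap A T)] [Algebra T B] [IsScalarTower A T B]
    [Module.Finite T B] :
    Set.BijOn (Ideal.comap (algebraMap C B)) {n : Ideal B | n.IsMaximal}
      {m' : Ideal C | m'.IsMaximal} := by
  refine ⟨?_, ?_, ?_⟩
  · intro n hn
    haveI : n.IsMaximal := hn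
    exact isMaximal_comap hgen T n
  · intro n1 hn1 n2 hn2 h12
    haveI : n1.IsMaximal := hn1
    haveI : n2.IsMaximal := hn2
    have h12' : n1.comap (algebraMap C B) = n2.comap (algebraMap C B) := h12
    rw [← map_comap_eq hgen T n1, ← map_comap_eq hgen T n2, h12']
  · intro m' hm'
    haveI : m'.IsMaximal := hm'
    have hcm : (m'.map (algebraMap C B)).comap (algebraMap C B) = m' :=
      Ideal.comap_map_eq_self_of_faithfullyFlat m'
    have hne : m'.map (algebraMap C B) ≠ ⊤ := by
      intro h
      rw [h, Ideal.comap_top] at hcm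
      exact hm'.ne_top hcm.symm
    obtain ⟨n, hn, hle⟩ := Ideal.exists_le_maximal _ hne
    refine ⟨n, hn, ?_⟩
    have h1 : m' ≤ n.comap (algebraMap C B) := Ideal.map_le_iff_le_comap.mp hle
    haveI : (n.comap (algebraMap C B)).IsPrime := Ideal.comap_isPrime _ _
    exact (hm'.eq_of_le (Ideal.IsPrime.ne_top inferInstance) h1).symm

end Abstract

section MinMax

variable (T : Type u) [CommRing T] [HenselianLocalRing T]
  {B : Type u} [CommRing B] [Algebra T B] [Module.Finite T B]

include T in
/-- a prime of a finite algebra over a henselian local ring lies in a unique maximal ideal -/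
theorem maximal_unique_of_le (P : Ideal B) [P.IsPrime] (n1 n2 : Ideal B) [h1 : n1.IsMaximal]
    [h2 : n2.IsMaximal] (hP1 : P ≤ n1) (hP2 : P ≤ n2) : n1 = n2 := by
  haveI : IsLocalRing (B ⧸ P) :=
    Groth.Agent.Lib.Helper12.isLocalRing_of_finite_of_isDomain T (B ⧸ P)
  have hsurj : Function.Surjective (Ideal.Quotient.mk P) := Ideal.Quotient.mk_surjective
  have aux : ∀ (n : Ideal B) [n.IsMaximal], P ≤ n →
      n = (maximalIdeal (B ⧸ P)).comap (Ideal.Quotient.mk P) := by
    intro n hn hPn
    have hker : RingHom.ker (Ideal.Quotient.mk P) ≤ n := by rwa [Ideal.mk_ker]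
    have hmax : (n.map (Ideal.Quotient.mk P)).IsMaximal :=
      Ideal.IsMaximal.map_of_surjective_of_ker_le hsurj hker
    rw [← IsLocalRing.eq_maximalIdeal hmax, Ideal.comap_map_of_surjective _ hsurj,
      ← RingHom.ker_eq_comap_bot, sup_eq_left.mpr hker]
  rw [aux n1 hP1, aux n2 hP2]

omit [Algebra T B] [Module.Finite T B] in
omit T in
/-- if `B_n` is a domain, `n` contains a unique minimal prime -/
theorem minimal_unique_of_le (n : Ideal B) [n.IsPrime] [IsDomain (Localization.AtPrime n)]
    (P1 P2 : Ideal B) (h1 : P1 ∈ minimalPrimes B) (h2 : P2 ∈ minimalPrimes B)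
    (hP1 : P1 ≤ n) (hP2 : P2 ≤ n) : P1 = P2 := by
  let P0 : Ideal B := RingHom.ker (algebraMap B (Localization.AtPrime n))
  haveI : P0.IsPrime := RingHom.ker_isPrime _
  have aux : ∀ P ∈ minimalPrimes B, P ≤ n → P = P0 := by
    intro P hP hPn
    haveI : P.IsPrime := hP.1.1
    have hle : P0 ≤ P := by
      intro b hb
      rw [RingHom.mem_ker, IsLocalization.map_eq_zero_iff n.primeCompl] at hb
      obtain ⟨s, hs⟩ := hb
      have hsP : (s : B) ∉ P := fun h => s.2 (hPn h)
      have : (s : B) * b ∈ P := hs ▸ P.zero_mem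
      exact (Ideal.IsPrime.mem_or_mem inferInstance this).resolve_left hsP
    exact le_antisymm (hP.2 ⟨inferInstance, bot_le⟩ hle) hle
  rw [aux P1 h1 hP1, aux P2 h2 hP2]

include T in
/-- if all localizations of `B` at maximal ideals are domains, minimal primes and maximal
ideals are in bijection -/
theorem exists_bijOn_minimalPrimes_maximal
    (hdom : ∀ (n : Ideal B) [n.IsMaximal], IsDomain (Localization.AtPrime n)) :
    ∃ φ : Ideal B → Ideal B, Set.BijOn φ (minimalPrimes B) {n : Ideal B | n.IsMaximal} := by
  classical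
  have hex : ∀ P : Ideal B, ∃ n : Ideal B, P ∈ minimalPrimes B → n.IsMaximal ∧ P ≤ n := by
    intro P
    by_cases hP : P ∈ minimalPrimes B
    · obtain ⟨n, hn, hle⟩ := Ideal.exists_le_maximal P hP.1.1.ne_top
      exact ⟨n, fun _ => ⟨hn, hle⟩⟩
    · exact ⟨⊤, fun h => absurd h hP⟩
  choose φ hφ using hex
  refine ⟨φ, ?_, ?_, ?_⟩
  · intro P hP
    exact (hφ P hP).1
  · intro P1 hP1 P2 hP2 h12
    haveI : (φ P1).IsMaximal := (hφ P1 hP1).1
    haveI := hdom (φ P1)
    exact minimal_unique_of_le (φ P1) P1 P2 hP1 hP2 (hφ P1 hP1).2 (h12 ▸ (hφ P2 hP2).2)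
  · intro n hn
    haveI : n.IsMaximal := hn
    obtain ⟨P, hP, hPn⟩ := Ideal.exists_minimalPrimes_le (I := (⊥ : Ideal B)) (J := n) bot_le
    haveI : P.IsPrime := hP.1.1
    haveI : (φ P).IsMaximal := (hφ P hP).1
    exact ⟨P, hP, maximal_unique_of_le T P (φ P) n (hφ P hP).2 hPn⟩

end MinMax

section Regular

variable {C B : Type u} [CommRing C] [CommRing B] [Algebra C B] [Module.Flat C B]
  [IsNoetherianRing B]

open Groth.Agent.Lib.Helper5.RegCompletion in
/-- regularity ascends along a flat map with `m' B = n` -/
theorem isDomain_localization_of_regular (n : Ideal B) [n.IsPrime] (m' : Ideal C) [m'.IsPrime]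
    (hcomap : n.comap (algebraMap C B) = m')
    (hreg : IsRegularLocalRing (Localization.AtPrime m'))
    (hmap : m'.map (algebraMap C B) = n) : IsDomain (Localization.AtPrime n) := by
  have hover : n.LiesOver m' := ⟨hcomap.symm⟩
  let _ := Localization.AtPrime.algebraOfLiesOver m' n
  have hloc : IsLocalHom (algebraMap (Localization.AtPrime m') (Localization.AtPrime n)) := by
    rw [RingHom.algebraMap_toAlgebra]
    exact Localization.isLocalHom_localRingHom m' n (algebraMap C B) Ideal.LiesOver.over
  have hflat : Module.Flat (Localization.AtPrime m') (Localization.AtPrime n) := inferInstance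
  have : IsRegularLocalRing (Localization.AtPrime n) := by
    apply regular_of_flat_map_eq (A := Localization.AtPrime m')
    rw [← Localization.AtPrime.map_eq_maximalIdeal, ← Localization.AtPrime.map_eq_maximalIdeal,
      Ideal.map_map, ← IsScalarTower.algebraMap_eq,
      IsScalarTower.algebraMap_eq C B (Localization.AtPrime n), ← Ideal.map_map, hmap]
  exact Groth.Agent.Lib.helper19.isDomain_of_isRegularLocalRing _

end Regular

end Groth.Agent.Lib.Helper22.BranchCount
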