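import Mathlib
import Groth.Agent.Lib.Helper13.ReducedNormal
import Groth.Agent.Lib.Helper12.SerreNormalC
import Groth.Agent.Lib.Helper3.IntegralDim

/-!
# The normalization of a reduced Noetherian ring of dimension `≤ 1` is regular
-/

set_option autoImplicit false
set_option linter.style.haveILetI false
set_option linter.unusedSectionVars false
universe u

namespace Groth.Agent.Lib.Helper22.BranchCount

open scoped nonZeroDivisors

section Normalization

variable (A : Type u) [CommRing A] (Q : Type u) [CommRing Q] [Algebra A Q] [IsLocalization A⁰ Q]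

/-- the image of a nonzerodivisor of `A` in an intermediate ring is a nonzerodivisor -/
theorem algebraMap_mem_nonZeroDivisors_subalgebra (S : Subalgebra A Q) (s : A) (hs : s ∈ A⁰) :
    algebraMap A S s ∈ (S : Type u)⁰ := by
  rw [mem_nonZeroDivisors_iff_right]
  intro w hw
  have hu : IsUnit (algebraMap A Q s) := IsLocalization.map_units Q (⟨s, hs⟩ : A⁰)
  have h1 : (w : Q) * algebraMap A Q s = 0 := congrArg (fun z : S => (z : Q)) hw
  exact Subtype.ext (hu.mul_left_eq_zero.mp h1)

/-- `Q` is also the total ring of fractions of any intermediate ring -/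
theorem isLocalization_subalgebra (S : Subalgebra A Q) : IsLocalization (S : Type u)⁰ Q := by
  have hinj : Function.Injective (algebraMap A Q) := IsLocalization.injective Q le_rfl
  refine ⟨?_, ?_, ?_⟩
  · rintro ⟨y, hy⟩
    change IsUnit (y : Q)
    obtain ⟨a, s, h⟩ := IsLocalization.exists_mk'_eq A⁰ (y : Q)
    have ha : a ∈ A⁰ := by
      rw [mem_nonZeroDivisors_iff_right]
      intro b hb
      have h1 : (algebraMap A S b) * y = 0 := by
        apply Subtype.ext
        change algebraMap A Q b * (y : Q) = 0
        rw [← h, ← IsLocalization.mk'_one (M := A⁰) Q b, ← IsLocalization.mk'_mul, hb,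
          IsLocalization.mk'_zero]
      have h2 : algebraMap A S b = 0 := (mem_nonZeroDivisors_iff_right.mp hy) _ h1
      have h3 : algebraMap A Q b = 0 := congrArg (fun z : S => (z : Q)) h2
      exact hinj (h3.trans (map_zero _).symm)
    have hspec : (y : Q) * algebraMap A Q s = algebraMap A Q a := by
      rw [← h, IsLocalization.mk'_spec]
    have hu : IsUnit (algebraMap A Q a) := IsLocalization.map_units Q (⟨a, ha⟩ : A⁰)
    rw [← hspec] at hu
    exact isUnit_of_mul_isUnit_left hu
  · intro z
    obtain ⟨a, s, h⟩ := IsLocalization.exists_mk'_eq A⁰ z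
    refine ⟨(algebraMap A S a, ⟨algebraMap A S s,
      algebraMap_mem_nonZeroDivisors_subalgebra A Q S s s.2⟩), ?_⟩
    change z * algebraMap A Q s = algebraMap A Q a
    rw [← h, IsLocalization.mk'_spec]
  · intro x y hxy
    exact ⟨1, by rw [Subtype.ext hxy]⟩

/-- a reduced Noetherian ring of dimension `≤ 1`, integrally closed in its total ring of
fractions, is regular -/
theorem isRegularLocalRing_of_integrallyClosed_total {C : Type u} [CommRing C]
    [IsNoetherianRing C] [IsReduced C] (Q : Type u) [CommRing Q] [Algebra C Q]
    [IsLocalization C⁰ Q] (hd : ∀ b : Q, IsIntegral C b → ∃ a : C, algebraMap C Q a = b)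
    (hdim : ringKrullDim C ≤ 1) (p : Ideal C) [p.IsPrime] :
    IsRegularLocalRing (Localization.AtPrime p) := by
  have hd' : ∀ b : Q, IsIntegral C b → ∃ a : C, algebraMap C Q a = algebraMap C Q 1 * b := by
    intro b hb
    obtain ⟨a, ha⟩ := hd b hb
    exact ⟨a, by rw [map_one, one_mul, ha]⟩
  have h1 : (1 : C) ∉ p := fun h =>
    Ideal.IsPrime.ne_top inferInstance ((Ideal.eq_top_iff_one _).mpr h)
  haveI hdom : IsDomain (Localization.AtPrime p) :=
    Groth.Agent.Lib.Helper13.ReducedNormal.isDomain_atPrime Q (1 : C) hd' p h1
      (Localization.AtPrime p)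
  haveI hic : IsIntegrallyClosed (Localization.AtPrime p) :=
    Groth.Agent.Lib.Helper13.ReducedNormal.isIntegrallyClosed_atPrime Q
      (1 : C) hd' p h1 (Localization.AtPrime p) (FractionRing (Localization.AtPrime p))
  have hdimle : ringKrullDim (Localization.AtPrime p) ≤ 1 := by
    rw [IsLocalization.AtPrime.ringKrullDim_eq_height p (Localization.AtPrime p)]
    calc ((p.height : ℕ∞) : WithBot ℕ∞) ≤ ringKrullDim C :=
          Ideal.height_le_ringKrullDim_of_ne_top (Ideal.IsPrime.ne_top inferInstance)
      _ ≤ 1 := hdim
  exact Groth.Agent.Lib.Helper12.SerreNormal.isRegularLocalRing_of_normal_of_dim_le_one _ hdimle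

variable [IsNoetherianRing A] [IsReduced A]

theorem isRegularLocalRing_localization_integralClosure (hdim : ringKrullDim A ≤ 1)
    (hfin : Module.Finite A (integralClosure A Q)) (m' : Ideal (integralClosure A Q))
    [m'.IsPrime] : IsRegularLocalRing (Localization.AtPrime m') := by
  haveI : IsNoetherianRing (integralClosure A Q) := IsNoetherianRing.of_finite A _
  haveI : IsReduced Q := isReduced_localizationPreserves A⁰ Q inferInstance
  haveI : IsReduced (integralClosure A Q) :=
    isReduced_of_injective (algebraMap (integralClosure A Q) Q) Subtype.val_injective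
  haveI : IsLocalization (integralClosure A Q : Type u)⁰ Q :=
    isLocalization_subalgebra A Q (integralClosure A Q)
  have hd : ∀ b : Q, IsIntegral (integralClosure A Q) b →
      ∃ a : integralClosure A Q, algebraMap (integralClosure A Q) Q a = b := by
    intro b hb
    have hb' : IsIntegral A b := isIntegral_trans b hb
    exact ⟨⟨b, hb'⟩, rfl⟩
  have hdim' : ringKrullDim (integralClosure A Q) ≤ 1 :=
    (Groth.Agent.Lib.Helper3.ringKrullDim_le_of_isIntegral A _).trans hdim
  exact isRegularLocalRing_of_integrallyClosed_total Q hd hdim' m'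

end Normalization

end Groth.Agent.Lib.Helper22.BranchCount
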