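import Mathlib
import Groth.Agent.Lib.Helper22.BranchCountA
import Groth.Agent.Lib.Helper22.BranchCountB
import Groth.Agent.Lib.Helper22.BranchCountC
import Groth.Agent.Lib.Helper12.AUnA
import Groth.Agent.Lib.Helper12.HenselizationNoeth2

/-!
# Number of branches of a one-dimensional reduced local ring with finite normalization
-/

set_option autoImplicit false
set_option linter.style.haveILetI false
set_option linter.unusedSectionVars false
universe u

namespace Groth.Agent.Lib.Helper22.BranchCount

open TensorProduct IsLocalRing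
open scoped nonZeroDivisors

attribute [local instance] Algebra.TensorProduct.rightAlgebra

section Tensor

variable (A T C : Type u) [CommRing A] [CommRing T] [CommRing C] [Algebra A T] [Algebra A C]

/-- the swap, as a `C`-linear equivalence for the right algebra structure -/
noncomputable def commRight : C ⊗[A] T ≃ₗ[C] T ⊗[A] C :=
  { (Algebra.TensorProduct.comm A C T).toLinearEquiv with
    map_smul' := by
      intro c x
      change Algebra.TensorProduct.comm A C T (c • x) = c • Algebra.TensorProduct.comm A C T x
      rw [Algebra.smul_def, Algebra.smul_def, map_mul]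
      congr 1 }

theorem faithfullyFlat_right [Module.FaithfullyFlat A T] :
    Module.FaithfullyFlat C (T ⊗[A] C) :=
  Module.FaithfullyFlat.of_linearEquiv C (C ⊗[A] T) (commRight A T C).symm

end Tensor

open Groth.Agent.Lib.Helper12 in
/-- abstract core: `T` formal-like henselian, `C` finite over `A` with conductor element `d`
and regular localizations. -/
theorem core (A : Type u) [CommRing A] [IsNoetherianRing A] [IsLocalRing A]
    (T : Type u) [CommRing T] [HenselianLocalRing T] [Algebra A T] (hT : AUn.FormalLike A T)
    (C : Type u) [CommRing C] [Algebra A C] [Module.Finite A C]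
    (hinj : Function.Injective (algebraMap A C))
    (d : A) (hd : d ∈ A⁰) (hdC : algebraMap A C d ∈ C⁰)
    (hcond : ∀ c : C, ∃ a : A, algebraMap A C a = d • c)
    (hreg : ∀ (m' : Ideal C) [m'.IsMaximal], IsRegularLocalRing (Localization.AtPrime m')) :
    {P : Ideal C | P.IsMaximal}.ncard = (minimalPrimes T).ncard := by
  haveI : Module.Flat A T := hT.flat
  haveI : IsNoetherianRing T := hT.noeth
  haveI : IsLocalHom (algebraMap A T) := ⟨fun a ha => by
    by_contra hna
    have h1 : algebraMap A T a ∈ maximalIdeal T := by
      rw [← hT.map_max]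
      exact Ideal.mem_map_of_mem _ ((mem_maximalIdeal a).mpr hna)
    exact (mem_maximalIdeal _).mp h1 ha⟩
  haveI : Module.FaithfullyFlat A T := Module.FaithfullyFlat.of_flat_of_isLocalHom
  haveI : Module.FaithfullyFlat C (T ⊗[A] C) := faithfullyFlat_right A T C
  haveI : IsNoetherianRing (T ⊗[A] C) := IsNoetherianRing.of_finite T _
  haveI : Algebra.IsIntegral A C := inferInstance
  -- generation modulo the maximal ideal
  have hmapB : ((maximalIdeal A).map (algebraMap A T)).map (algebraMap T (T ⊗[A] C)) =
      (maximalIdeal A).map (algebraMap A (T ⊗[A] C)) := by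
    rw [Ideal.map_map, ← IsScalarTower.algebraMap_eq]
  have hgen : ∀ b : T ⊗[A] C, ∃ c : C, b - algebraMap C (T ⊗[A] C) c ∈
      (maximalIdeal A).map (algebraMap A (T ⊗[A] C)) := by
    intro b
    induction b using TensorProduct.induction_on with
    | zero => exact ⟨0, by simp⟩
    | tmul y c =>
      obtain ⟨r, hr⟩ := hT.res_surj y
      rw [← hT.map_max] at hr
      refine ⟨r • c, ?_⟩
      have e : y ⊗ₜ[A] c - algebraMap C (T ⊗[A] C) (r • c) =
          algebraMap T (T ⊗[A] C) (y - algebraMap A T r) * ((1 : T) ⊗ₜ[A] c) := by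
        rw [Algebra.TensorProduct.right_algebraMap_apply, Algebra.TensorProduct.algebraMap_apply,
          Algebra.TensorProduct.tmul_mul_tmul, Algebra.algebraMap_self_apply, mul_one, one_mul,
          TensorProduct.sub_tmul, ← TensorProduct.smul_tmul, Algebra.smul_def, mul_one]
      rw [e, ← hmapB]
      exact Ideal.mul_mem_right _ _ (Ideal.mem_map_of_mem _ hr)
    | add x y hx hy =>
      obtain ⟨c1, h1⟩ := hx
      obtain ⟨c2, h2⟩ := hy
      refine ⟨c1 + c2, ?_⟩
      have e : x + y - algebraMap C (T ⊗[A] C) (c1 + c2) =
          (x - algebraMap C (T ⊗[A] C) c1) + (y - algebraMap C (T ⊗[A] C) c2) := by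
        rw [map_add]; ring
      rw [e]
      exact Ideal.add_mem _ h1 h2
  -- step 1
  have bij1 := bijOn_comap_maximal (A := A) (C := C) (B := T ⊗[A] C) hgen T
  -- step 2
  have hdom : ∀ (n : Ideal (T ⊗[A] C)) [n.IsMaximal], IsDomain (Localization.AtPrime n) := by
    intro n hn
    haveI := isMaximal_comap (A := A) (C := C) (B := T ⊗[A] C) hgen T n
    exact isDomain_localization_of_regular n (n.comap (algebraMap C (T ⊗[A] C))) rfl
      (hreg _) (map_comap_eq (A := A) (C := C) (B := T ⊗[A] C) hgen T n)
  obtain ⟨φ, bij2⟩ := exists_bijOn_minimalPrimes_maximal T (B := T ⊗[A] C) hdom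
  -- step 3
  have hf : Function.Injective (algebraMap T (T ⊗[A] C)) :=
    Algebra.TensorProduct.includeLeft_injective (S := A) hinj
  have htR : algebraMap A T d ∈ T⁰ := by
    have hreg' : IsSMulRegular T d := Module.Flat.isSMulRegular_of_nonZeroDivisors hd
    rw [mem_nonZeroDivisors_iff_right]
    intro x hx
    apply hreg'
    change d • x = d • (0 : T)
    rw [smul_zero, Algebra.smul_def, mul_comm, hx]
  have htS : algebraMap T (T ⊗[A] C) (algebraMap A T d) ∈ (T ⊗[A] C)⁰ := by
    have hreg' : IsSMulRegular (T ⊗[A] C) (algebraMap A C d) :=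
      Module.Flat.isSMulRegular_of_nonZeroDivisors hdC
    rw [mem_nonZeroDivisors_iff_right]
    intro x hx
    apply hreg'
    change algebraMap A C d • x = algebraMap A C d • (0 : T ⊗[A] C)
    rw [smul_zero, Algebra.smul_def, ← IsScalarTower.algebraMap_apply,
      IsScalarTower.algebraMap_apply A T (T ⊗[A] C), mul_comm, hx]
  have hcondB : ∀ b : T ⊗[A] C, ∃ x : T,
      algebraMap T (T ⊗[A] C) x = algebraMap T (T ⊗[A] C) (algebraMap A T d) * b := by
    intro b
    induction b using TensorProduct.induction_on with
    | zero => exact ⟨0, by simp⟩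
    | tmul y c =>
      obtain ⟨a, ha⟩ := hcond c
      refine ⟨a • y, ?_⟩
      have e1 : a • (1 : C) = d • c := by rw [← ha, Algebra.algebraMap_eq_smul_one]
      rw [Algebra.TensorProduct.algebraMap_apply, Algebra.TensorProduct.algebraMap_apply,
        Algebra.TensorProduct.tmul_mul_tmul, Algebra.algebraMap_self_apply,
        Algebra.algebraMap_self_apply, one_mul, ← Algebra.smul_def, TensorProduct.smul_tmul, e1,
        TensorProduct.smul_tmul]
    | add x y hx hy =>
      obtain ⟨x1, h1⟩ := hx
      obtain ⟨x2, h2⟩ := hy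
      exact ⟨x1 + x2, by rw [map_add, h1, h2, mul_add]⟩
  have bij3 := bijOn_comap_minimalPrimes (algebraMap T (T ⊗[A] C)) hf (algebraMap A T d) hcondB
    htR htS
  -- count
  calc {P : Ideal C | P.IsMaximal}.ncard
      = (Ideal.comap (algebraMap C (T ⊗[A] C)) '' {n : Ideal (T ⊗[A] C) | n.IsMaximal}).ncard := by
        rw [bij1.image_eq]
    _ = {n : Ideal (T ⊗[A] C) | n.IsMaximal}.ncard := Set.ncard_image_of_injOn bij1.injOn
    _ = (φ '' minimalPrimes (T ⊗[A] C)).ncard := by rw [bij2.image_eq]
    _ = (minimalPrimes (T ⊗[A] C)).ncard := Set.ncard_image_of_injOn bij2.injOn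
    _ = (Ideal.comap (algebraMap T (T ⊗[A] C)) '' minimalPrimes (T ⊗[A] C)).ncard :=
        (Set.ncard_image_of_injOn bij3.injOn).symm
    _ = (minimalPrimes T).ncard := by rw [bij3.image_eq]

/-- version for an arbitrary total ring of fractions `Q` -/
theorem main' (A : Type u) [CommRing A] [IsNoetherianRing A] [IsLocalRing A] [IsReduced A]
    (Q : Type u) [CommRing Q] [Algebra A Q] [IsLocalization A⁰ Q]
    (hdim : ringKrullDim A = 1) (hfin : Module.Finite A (integralClosure A Q)) :
    {P : Ideal (integralClosure A Q) | P.IsMaximal}.ncard =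
      (minimalPrimes (AdicCompletion (IsLocalRing.maximalIdeal A) A)).ncard := by
  have hinjQ : Function.Injective (algebraMap A Q) := IsLocalization.injective Q le_rfl
  have hinj : Function.Injective (algebraMap A (integralClosure A Q)) := fun x y h =>
    hinjQ (congrArg (fun z : integralClosure A Q => (z : Q)) h)
  obtain ⟨d, hd0, hd⟩ :=
    Groth.Agent.Lib.Helper13.ReducedNormal.exists_common_denominator Q hfin
  have hdC := algebraMap_mem_nonZeroDivisors_subalgebra A Q (integralClosure A Q) d hd0
  have hcond : ∀ c : integralClosure A Q, ∃ a : A,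
      algebraMap A (integralClosure A Q) a = d • c := by
    intro c
    obtain ⟨a, ha⟩ := hd (c : Q) c.2
    refine ⟨a, Subtype.ext ?_⟩
    change algebraMap A Q a = d • (c : Q)
    rw [ha, Algebra.smul_def]
  exact core A (AdicCompletion (IsLocalRing.maximalIdeal A) A)
    (Groth.Agent.Lib.Helper12.AUn.FormalLike.cpl A) (integralClosure A Q) hinj d hd0 hdC hcond
    (fun m' _ => isRegularLocalRing_localization_integralClosure A Q hdim.le hfin m')

theorem main (A : Type u) [CommRing A] [IsNoetherianRing A] [IsLocalRing A] [IsReduced A]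
    (hdim : ringKrullDim A = 1)
    (hfin : Module.Finite A (integralClosure A (FractionRing A))) :
    {P : Ideal (integralClosure A (FractionRing A)) | P.IsMaximal}.ncard =
      (minimalPrimes (AdicCompletion (IsLocalRing.maximalIdeal A) A)).ncard :=
  main' A (FractionRing A) hdim hfin

end Groth.Agent.Lib.Helper22.BranchCount
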