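import Mathlib
import Groth.Prelude.Def_EGA4b
import Groth.Agent.Lib.Helper22.CplTransfer
import Groth.Agent.Lib.Helper24.Loc.EssFTCatenary

/-!
# Localizations of excellent rings (helper22)
-/

set_option autoImplicit false
set_option linter.style.haveILetI false
universe u
open TensorProduct IsLocalRing

namespace Groth.Agent.Lib.Helper22.ExcLoc

/-- a localization of a G-ring is a G-ring -/
theorem isGRing_of_isLocalization (A : Type u) [CommRing A] (hG : CAlg.IsGRing A) (S : Submonoid A)
    (B : Type u) [CommRing B] [Algebra A B] [IsLocalization S B] : CAlg.IsGRing B := by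
  haveI := hG.1
  haveI hN : IsNoetherianRing B := IsLocalization.isNoetherianRing S B inferInstance
  refine ⟨hN, ?_⟩
  intro q hq
  haveI : IsLocalization.AtPrime (Localization.AtPrime q) (q.comap (algebraMap A B)) :=
    IsLocalization.isLocalization_isLocalization_atPrime_isLocalization S _ q
  let e : Localization.AtPrime (q.comap (algebraMap A B)) ≃ₐ[A] Localization.AtPrime q :=
    IsLocalization.algEquiv (q.comap (algebraMap A B)).primeCompl _ _
  exact Groth.Agent.Lib.Helper22.CplTransfer.isRegularHom_cpl_of_ringEquiv
    e.toRingEquiv (hG.2 (q.comap (algebraMap A B)))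

/-- the regular locus of a localization is the preimage of the regular locus -/
theorem regLocus_of_isLocalization (D₀ : Type u) [CommRing D₀] (M : Submonoid D₀)
    (D : Type u) [CommRing D] [Algebra D₀ D] [IsLocalization M D] :
    EGA4.regLocus D = PrimeSpectrum.comap (algebraMap D₀ D) ⁻¹' EGA4.regLocus D₀ := by
  ext q
  simp only [EGA4.regLocus, Set.mem_setOf_eq, Set.mem_preimage]
  haveI : IsLocalization.AtPrime (Localization.AtPrime q.asIdeal)
      (q.asIdeal.comap (algebraMap D₀ D)) :=
    IsLocalization.isLocalization_isLocalization_atPrime_isLocalization M _ q.asIdeal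
  let e : Localization.AtPrime (q.asIdeal.comap (algebraMap D₀ D)) ≃ₐ[D₀]
      Localization.AtPrime q.asIdeal :=
    IsLocalization.algEquiv (q.asIdeal.comap (algebraMap D₀ D)).primeCompl _ _
  constructor
  · intro h
    haveI := h
    exact IsRegularLocalRing.of_ringEquiv (R := Localization.AtPrime q.asIdeal) e.symm.toRingEquiv
  · intro h
    haveI : IsRegularLocalRing (Localization.AtPrime (q.asIdeal.comap (algebraMap D₀ D))) := h
    exact IsRegularLocalRing.of_ringEquiv
      (R := Localization.AtPrime (q.asIdeal.comap (algebraMap D₀ D))) e.toRingEquiv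

/-- an essentially finite type algebra over a J-2 ring is J-2 -/
theorem isJ2_of_essFiniteType (A : Type u) [CommRing A] (hJ : EGA4.IsJ2 A)
    (B : Type u) [CommRing B] [Algebra A B] [Algebra.EssFiniteType A B] : EGA4.IsJ2 B := by
  intro D _ _ hD
  letI : Algebra A D := ((algebraMap B D).comp (algebraMap A B)).toAlgebra
  haveI : IsScalarTower A B D := IsScalarTower.of_algebraMap_eq' rfl
  haveI : Algebra.FiniteType B D := hD
  haveI : Algebra.EssFiniteType A D := Algebra.EssFiniteType.comp A B D
  have hopen : IsOpen (EGA4.regLocus (Algebra.EssFiniteType.subalgebra A D)) :=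
    hJ _ inferInstance
  rw [regLocus_of_isLocalization (Algebra.EssFiniteType.subalgebra A D)
    (Algebra.EssFiniteType.submonoid A D) D]
  exact hopen.preimage (PrimeSpectrum.continuous_comap _)

/-- a localization of an excellent ring is excellent -/
theorem isExcellent_of_isLocalization (A : Type u) [CommRing A] (hA : EGA4.IsExcellent A)
    (S : Submonoid A) (B : Type u) [CommRing B] [Algebra A B] [IsLocalization S B] :
    EGA4.IsExcellent B := by
  haveI := hA.1
  haveI : Algebra.EssFiniteType A B := Algebra.EssFiniteType.of_isLocalization B S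
  haveI hN : IsNoetherianRing B := IsLocalization.isNoetherianRing S B inferInstance
  exact ⟨hN, Groth.Agent.Lib.Helper24.EssFTCat.main A B hA.2.1,
    isGRing_of_isLocalization A hA.2.2.1 S B, isJ2_of_essFiniteType A hA.2.2.2 B⟩

end Groth.Agent.Lib.Helper22.ExcLoc
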