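import Mathlib
import Groth.Agent.Lib.helper19.RegularLocal
import Groth.Agent.Lib.Helper5.CotSmooth

/-!
# Regularity of `A[z]/(z^p - f)` when a derivation makes `D f` a unit (helper22)
-/

set_option autoImplicit false
set_option linter.style.haveILetI false
set_option linter.unusedSectionVars false
universe u

namespace Groth.Agent.Lib.Helper22.RegRoot

open IsLocalRing Polynomial

theorem derivation_mem_of_mem_sq {P : Type*} [CommRing P] (D : Derivation ℤ P P) (Q : Ideal P)
    {x : P} (hx : x ∈ Q ^ 2) : D x ∈ Q := by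
  rw [pow_two] at hx
  refine Submodule.mul_induction_on hx (fun a ha b hb => ?_) (fun x y hx hy => ?_)
  · rw [Derivation.leibniz]
    exact Q.add_mem (Q.mul_mem_right _ ha) (Q.mul_mem_right _ hb)
  · rw [map_add]
    exact Q.add_mem hx hy

theorem isRegularRing_quotient_of_derivation {P : Type u} [CommRing P] [IsRegularRing P] (g : P)
    (D : Derivation ℤ P P) (hD : IsUnit (D g)) : IsRegularRing (P ⧸ Ideal.span ({g} : Set P)) := by
  set I : Ideal P := Ideal.span ({g} : Set P) with hI
  rw [isRegularRing_iff]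
  intro qb hqb
  set Q : Ideal P := qb.comap (Ideal.Quotient.mk I) with hQ
  haveI : Q.IsPrime := Ideal.comap_isPrime _ _
  have hIQ : I ≤ Q := by
    intro x hx
    rw [hQ, Ideal.mem_comap, Ideal.Quotient.eq_zero_iff_mem.mpr hx]
    exact qb.zero_mem
  have hgQ : g ∈ Q := hIQ (Ideal.subset_span rfl)
  have hmap : Q.map (Ideal.Quotient.mk I) = qb :=
    Ideal.map_comap_of_surjective _ Ideal.Quotient.mk_surjective qb
  let Pn := Localization.AtPrime Q
  have hsub : Algebra.algebraMapSubmonoid (P ⧸ I) Q.primeCompl = qb.primeCompl := by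
    ext x
    constructor
    · rintro ⟨y, hy, rfl⟩
      intro hmem
      exact hy hmem
    · intro hx
      obtain ⟨y, rfl⟩ := Ideal.Quotient.mk_surjective x
      exact ⟨y, fun hy => hx hy, rfl⟩
  have hloc : IsLocalization (Algebra.algebraMapSubmonoid (P ⧸ I) Q.primeCompl)
      (Pn ⧸ I.map (algebraMap P Pn)) := inferInstance
  rw [hsub] at hloc
  let e : Localization.AtPrime qb ≃ₐ[P ⧸ I] (Pn ⧸ I.map (algebraMap P Pn)) :=
    IsLocalization.algEquiv qb.primeCompl _ _
  suffices h : IsRegularLocalRing (Pn ⧸ I.map (algebraMap P Pn)) from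
    IsRegularLocalRing.of_ringEquiv e.symm.toRingEquiv
  have hmapI : I.map (algebraMap P Pn) = Ideal.span ({algebraMap P Pn g} : Set Pn) := by
    rw [hI, Ideal.map_span, Set.image_singleton]
  rw [hmapI]
  have hgm : algebraMap P Pn g ∈ maximalIdeal Pn := by
    rw [← Localization.AtPrime.map_eq_maximalIdeal]
    exact Ideal.mem_map_of_mem _ hgQ
  refine (Groth.Agent.Lib.helper19.isRegularLocalRing_quotient_span_singleton hgm ?_).1
  intro hsq
  rw [← Localization.AtPrime.map_eq_maximalIdeal, ← Ideal.map_pow] at hsq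
  obtain ⟨⟨a, s⟩, has⟩ := (IsLocalization.mem_map_algebraMap_iff Q.primeCompl Pn).mp hsq
  rw [← map_mul] at has
  obtain ⟨s', hs'⟩ := (IsLocalization.eq_iff_exists Q.primeCompl Pn).mp has
  -- `u * g ∈ Q^2` with `u ∉ Q`
  have hu : (s' : P) * (s : P) ∉ Q := fun h =>
    (‹Q.IsPrime›.mem_or_mem h).elim s'.2 s.2
  have hug : (s' : P) * (s : P) * g ∈ Q ^ 2 := by
    have : (s' : P) * (s : P) * g = s' * (a : P) := by
      rw [mul_assoc, mul_comm (s : P) g, hs']
    rw [this]
    exact Ideal.mul_mem_left _ _ a.2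
  have h1 := derivation_mem_of_mem_sq D Q hug
  rw [Derivation.leibniz, smul_eq_mul, smul_eq_mul] at h1
  have h2 : (s' : P) * (s : P) * D g ∈ Q := by
    have h3 : g * D ((s' : P) * (s : P)) ∈ Q := Q.mul_mem_right _ hgQ
    have := Q.sub_mem h1 h3
    rwa [add_sub_cancel_right] at this
  rcases ‹Q.IsPrime›.mem_or_mem h2 with h | h
  · exact hu h
  · exact ‹Q.IsPrime›.ne_top (Ideal.eq_top_of_isUnit_mem _ h hD)

theorem isRegularRing_adjoinRoot_of_derivation (A : Type u) [CommRing A] [IsRegularRing A]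
    (p : ℕ) [Fact p.Prime] [CharP A p] (f : A) (D : Derivation ℤ A A) (hD : IsUnit (D f)) :
    IsRegularRing (AdjoinRoot (X ^ p - C f : A[X])) := by
  letI : Differential A := ⟨D⟩
  have h1 : (Differential.mapCoeffs (X ^ p - C f : A[X])) = - C (D f) := by
    rw [map_sub, Derivation.leibniz_pow, Differential.mapCoeffs_X, smul_zero, smul_zero,
      Differential.mapCoeffs_C, zero_sub]
    rfl
  have h2 : IsUnit (Differential.mapCoeffs (X ^ p - C f : A[X])) := by
    rw [h1]
    exact (hD.map (C : A →+* A[X])).neg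
  exact isRegularRing_quotient_of_derivation (X ^ p - C f : A[X]) Differential.mapCoeffs h2

end Groth.Agent.Lib.Helper22.RegRoot
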