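import Mathlib
import Groth.Agent.Lib.Helper22.BddDerTensor
import Groth.Agent.Lib.Helper22.RegRoot

/-!
# The derivation `d/dX` on `R[X] ⊗[R] L` and the kernel of the contraction to `L` (helper22)
-/

set_option autoImplicit false
set_option linter.style.haveILetI false
set_option linter.unusedSectionVars false
universe u

namespace Groth.Agent.Lib.Helper22.GRing

open Polynomial TensorProduct IsLocalRing

/-- transport of the derivation `d/dX` along a ring isomorphism -/
theorem exists_derivation_of_ringEquiv_polynomial {T : Type*} [CommRing T] {L : Type*} [Field L]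
    (e : T ≃+* L[X]) :
    ∃ D : Derivation ℤ T T, ∀ t : T, D t = e.symm (Polynomial.derivative (e t)) := by
  refine ⟨Derivation.mk'
    (AddMonoidHom.toIntLinearMap
      { toFun := fun x => e.symm (Polynomial.derivative (e x))
        map_zero' := by rw [map_zero, map_zero, map_zero]
        map_add' := fun x y => by rw [map_add, map_add, map_add] })
    (fun a b => ?_), fun t => rfl⟩
  change e.symm (Polynomial.derivative (e (a * b))) =
    a • e.symm (Polynomial.derivative (e b)) + b • e.symm (Polynomial.derivative (e a))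
  rw [map_mul, Polynomial.derivative_mul, map_add, map_mul, map_mul,
    RingEquiv.symm_apply_apply, RingEquiv.symm_apply_apply, smul_eq_mul, smul_eq_mul]
  ring

/-- **abstract derivation trick** -/
theorem isRegularRing_tensor_of_derivation (𝔸 : Type u) [CommRing 𝔸]
    (C : Type u) [CommRing C] [Algebra 𝔸 C]
    [IsLocalRing C] [IsNoetherianRing C] [IsAdicComplete (maximalIdeal C) C]
    (hfs : CAlgX.IsAdicFormallySmooth 𝔸 C (maximalIdeal C))
    (T₀ : Type u) [CommRing T₀] [Algebra 𝔸 T₀] (L : Type u) [CommRing L] [Algebra 𝔸 L]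
    (μ : T₀ →ₐ[𝔸] L) (hμsurj : Function.Surjective μ) (g₀ : T₀)
    (hkerμ : RingHom.ker μ = Ideal.span {g₀})
    (D : Derivation ℤ T₀ T₀) (hDg : D g₀ = 1)
    (hbdd : ∀ a : 𝔸, ∃ c : Unit → 𝔸, D (algebraMap 𝔸 T₀ a) =
      ∑ j, algebraMap 𝔸 T₀ (c j) * (fun _ : Unit => (1 : T₀)) j)
    (hreg : IsRegularRing (C ⊗[𝔸] T₀)) : IsRegularRing (C ⊗[𝔸] L) := by
  classical
  obtain ⟨DT, hDT⟩ := Groth.Agent.Lib.Helper22.BddDerTensor.exists_derivation_tensor_of_bounded
    𝔸 C T₀ hfs D Unit (fun _ => 1) hbdd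
  set g : C ⊗[𝔸] T₀ := (1 : C) ⊗ₜ[𝔸] g₀ with hg
  have hker : RingHom.ker (Algebra.TensorProduct.map (AlgHom.id 𝔸 C) μ) = Ideal.span {g} := by
    rw [Algebra.TensorProduct.lTensor_ker μ hμsurj, hkerμ, Ideal.map_span, Set.image_singleton]
    rfl
  have hunit : IsUnit (DT g) := by
    rw [hg, hDT, hDg]
    exact isUnit_one
  have hquot := Groth.Agent.Lib.Helper22.RegRoot.isRegularRing_quotient_of_derivation g DT hunit
  have hsurj : Function.Surjective (Algebra.TensorProduct.map (AlgHom.id 𝔸 C) μ) :=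
    Algebra.TensorProduct.map_surjective _ _ Function.surjective_id hμsurj
  let e₃ : (C ⊗[𝔸] T₀) ⧸ Ideal.span {g} ≃+* C ⊗[𝔸] L :=
    (Ideal.quotEquivOfEq hker.symm).trans
      (RingHom.quotientKerEquivOfSurjective
        (f := (Algebra.TensorProduct.map (AlgHom.id 𝔸 C) μ).toRingHom) hsurj)
  exact IsRegularRing.of_ringEquiv e₃

section NoAlg

variable (R : Type u) [CommRing R] (L : Type u) [Field L] [Algebra R L]

attribute [local instance] Polynomial.algebra

/-- `R[X] ⊗[R] L ≃ L[X]` -/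
noncomputable def eP : R[X] ⊗[R] L ≃ₐ[R[X]] L[X] := Algebra.IsPushout.equiv R R[X] L L[X]

theorem eP_tmul (a : R[X]) (l : L) :
    eP R L (a ⊗ₜ[R] l) = a.map (algebraMap R L) * Polynomial.C l :=
  Algebra.IsPushout.equiv_tmul R R[X] L L[X] a l

theorem eP_symm_map_mul_C (a : R[X]) (l : L) :
    (eP R L).symm (a.map (algebraMap R L) * Polynomial.C l) = a ⊗ₜ[R] l := by
  rw [AlgEquiv.symm_apply_eq, eP_tmul]

/-- `R[X] ⊗[R] L ≃ L[X]` as a ring isomorphism -/
noncomputable def ePring : R[X] ⊗[R] L ≃+* L[X] := (eP R L).toRingEquiv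

theorem ePring_derivative_tmul (a : R[X]) (l : L) :
    (ePring R L).symm (Polynomial.derivative (ePring R L (a ⊗ₜ[R] l))) =
      Polynomial.derivative a ⊗ₜ[R] l := by
  change (eP R L).symm (Polynomial.derivative (eP R L (a ⊗ₜ[R] l))) = _
  rw [eP_tmul, Polynomial.derivative_mul, Polynomial.derivative_C, mul_zero, add_zero,
    Polynomial.derivative_map, eP_symm_map_mul_C]

theorem ker_productMap_aeval (τ : L) :
    RingHom.ker (Algebra.TensorProduct.productMap (Polynomial.aeval τ : R[X] →ₐ[R] L)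
      (AlgHom.id R L)) =
      Ideal.span {(X : R[X]) ⊗ₜ[R] (1 : L) - (1 : R[X]) ⊗ₜ[R] τ} := by
  set μ := Algebra.TensorProduct.productMap (Polynomial.aeval τ : R[X] →ₐ[R] L) (AlgHom.id R L)
    with hμ
  have hμt : ∀ (a : R[X]) (l : L), μ (a ⊗ₜ[R] l) = Polynomial.aeval τ a * l := fun a l => by
    rw [hμ, Algebra.TensorProduct.productMap_apply_tmul]
    rfl
  have h1 : (μ.toRingHom.comp ((eP R L).symm : L[X] →+* R[X] ⊗[R] L)) =
      Polynomial.evalRingHom τ := by
    apply Polynomial.ringHom_ext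
    · intro l
      have h2 : (Polynomial.C l : L[X]) = (1 : R[X]).map (algebraMap R L) * Polynomial.C l := by
        rw [Polynomial.map_one, one_mul]
      simp only [RingHom.comp_apply, RingHom.coe_coe, AlgHom.toRingHom_eq_coe]
      rw [h2, eP_symm_map_mul_C, hμt, map_one, one_mul, Polynomial.coe_evalRingHom,
        Polynomial.eval_mul, Polynomial.eval_C, Polynomial.eval_map, Polynomial.eval₂_one, one_mul]
    · have h2 : (X : L[X]) = (X : R[X]).map (algebraMap R L) * Polynomial.C 1 := by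
        rw [Polynomial.map_X, Polynomial.C_1, mul_one]
      simp only [RingHom.comp_apply, RingHom.coe_coe, AlgHom.toRingHom_eq_coe]
      rw [h2, eP_symm_map_mul_C, hμt, Polynomial.aeval_X, mul_one, ← h2,
        Polynomial.coe_evalRingHom, Polynomial.eval_X]
  have h3 : ∀ x, μ x = Polynomial.eval τ (eP R L x) := by
    intro x
    have := RingHom.congr_fun h1 (eP R L x)
    simp only [RingHom.comp_apply, RingHom.coe_coe, AlgHom.toRingHom_eq_coe,
      AlgEquiv.symm_apply_apply] at this
    exact this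
  have hg : (eP R L).symm (X - Polynomial.C τ : L[X]) =
      (X : R[X]) ⊗ₜ[R] (1 : L) - (1 : R[X]) ⊗ₜ[R] τ := by
    rw [AlgEquiv.symm_apply_eq, map_sub, eP_tmul, eP_tmul, Polynomial.map_X, Polynomial.C_1,
      mul_one, Polynomial.map_one, one_mul]
  ext x
  rw [RingHom.mem_ker, h3, ← Polynomial.coe_evalRingHom, ← RingHom.mem_ker,
    Polynomial.ker_evalRingHom, ← hg, Ideal.mem_span_singleton, Ideal.mem_span_singleton]
  constructor
  · rintro ⟨y, hy⟩
    refine ⟨(eP R L).symm y, ?_⟩
    rw [← map_mul, ← hy, AlgEquiv.symm_apply_apply]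
  · rintro ⟨y, hy⟩
    refine ⟨eP R L y, ?_⟩
    rw [hy, map_mul, AlgEquiv.apply_symm_apply]

end NoAlg

end Groth.Agent.Lib.Helper22.GRing
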