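import Mathlib
import Groth.Agent.Lib.Helper22.GPolyD

/-!
# The derivation trick: from `C ⊗[R] L` regular to `C ⊗[R[X]] L` regular (helper22)
-/

set_option autoImplicit false
set_option linter.style.haveILetI false
set_option linter.unusedSectionVars false
universe u

namespace Groth.Agent.Lib.Helper22.GRing

open Polynomial TensorProduct IsLocalRing

/-- **Derivation trick.** Let `C` be a complete Noetherian local `R[X]`-algebra, adically formally
smooth over `R[X]`, and `L` a field which is an `R[X]`-algebra. If `C ⊗[R] L` is regular then so is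
`C ⊗[R[X]] L`. -/
theorem isRegularRing_tensor_polynomial_of_tensor (R : Type u) [CommRing R]
    (C : Type u) [CommRing C] [Algebra R[X] C] [Algebra R C] [IsScalarTower R R[X] C]
    [IsLocalRing C] [IsNoetherianRing C] [IsAdicComplete (maximalIdeal C) C]
    (hfs : CAlgX.IsAdicFormallySmooth R[X] C (maximalIdeal C))
    (L : Type u) [Field L] [Algebra R[X] L] [Algebra R L] [IsScalarTower R R[X] L]
    (hreg : IsRegularRing (C ⊗[R] L)) : IsRegularRing (C ⊗[R[X]] L) := by
  classical
  obtain ⟨D, hD⟩ := exists_derivation_of_ringEquiv_polynomial (ePring R L)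
  have hD' : ∀ (a : R[X]) (l : L), D (a ⊗ₜ[R] l) = Polynomial.derivative a ⊗ₜ[R] l := by
    intro a l
    rw [hD]
    exact ePring_derivative_tmul R L a l
  have h1 : ∀ b : R[X], algebraMap R[X] (R[X] ⊗[R] L) b = b ⊗ₜ[R] (1 : L) := fun b => rfl
  have hbdd : ∀ a : R[X], ∃ c : Unit → R[X], D (algebraMap R[X] (R[X] ⊗[R] L) a) =
      ∑ j, algebraMap R[X] (R[X] ⊗[R] L) (c j) * (fun _ : Unit => (1 : R[X] ⊗[R] L)) j := by
    intro a
    refine ⟨fun _ => Polynomial.derivative a, ?_⟩
    rw [h1, hD']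
    simp [h1]
  let e₂ : C ⊗[R[X]] (R[X] ⊗[R] L) ≃ₐ[C] C ⊗[R] L :=
    Algebra.TensorProduct.cancelBaseChange R R[X] C C L
  have hregP : IsRegularRing (C ⊗[R[X]] (R[X] ⊗[R] L)) :=
    IsRegularRing.of_ringEquiv e₂.toRingEquiv.symm
  set τ : L := algebraMap R[X] L X with hτ
  let μ : R[X] ⊗[R] L →ₐ[R[X]] L :=
    Algebra.TensorProduct.lift (Algebra.ofId R[X] L) (AlgHom.id R L) (fun _ _ => Commute.all _ _)
  have hμt : ∀ (a : R[X]) (l : L), μ (a ⊗ₜ[R] l) = algebraMap R[X] L a * l := fun a l => by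
    simp [μ, Algebra.ofId_apply]
  have haev : ∀ a : R[X], Polynomial.aeval τ a = algebraMap R[X] L a := by
    have h1 : ((Polynomial.aeval τ : R[X] →ₐ[R] L) : R[X] →+* L) = algebraMap R[X] L := by
      apply Polynomial.ringHom_ext
      · intro r
        simp only [RingHom.coe_coe, Polynomial.aeval_C]
        rw [IsScalarTower.algebraMap_apply R R[X] L]
        rfl
      · simp only [RingHom.coe_coe, Polynomial.aeval_X]
        exact hτ
    intro a
    exact RingHom.congr_fun h1 a
  have hμeq : ∀ x, μ x = Algebra.TensorProduct.productMap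
      (Polynomial.aeval τ : R[X] →ₐ[R] L) (AlgHom.id R L) x := by
    intro x
    induction x using TensorProduct.induction_on with
    | zero => rw [map_zero, map_zero]
    | tmul a l =>
      rw [hμt, Algebra.TensorProduct.productMap_apply_tmul, haev]
      rfl
    | add x y hx hy => rw [map_add, map_add, hx, hy]
  have hkerμ : RingHom.ker μ =
      Ideal.span {(X : R[X]) ⊗ₜ[R] (1 : L) - (1 : R[X]) ⊗ₜ[R] τ} := by
    rw [← ker_productMap_aeval R L τ]
    ext x
    rw [RingHom.mem_ker, RingHom.mem_ker, hμeq]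
  have hμsurj : Function.Surjective μ := fun l => ⟨(1 : R[X]) ⊗ₜ[R] l, by
    rw [hμt, map_one, one_mul]⟩
  have hDg : D ((X : R[X]) ⊗ₜ[R] (1 : L) - (1 : R[X]) ⊗ₜ[R] τ) = 1 := by
    rw [map_sub, hD', hD', Polynomial.derivative_X, Polynomial.derivative_one,
      TensorProduct.zero_tmul, sub_zero]
    rfl
  exact isRegularRing_tensor_of_derivation R[X] C hfs (R[X] ⊗[R] L) L μ hμsurj _ hkerμ D hDg
    hbdd hregP

end Groth.Agent.Lib.Helper22.GRing
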