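import Mathlib
import Groth.Prelude.Def_EGA4b
import Groth.Agent.Lib.Helper22.NagataCrit
import Groth.Agent.Lib.Helper22.FinDom2

set_option autoImplicit false
set_option linter.style.haveILetI false
universe u
open IsLocalRing

namespace Groth.Agent.Lib.Helper22.J0

/-- J-0: the regular locus contains a nonempty open subset -/
def IsJ0 (R : Type u) [CommRing R] : Prop :=
  ∃ U : Set (PrimeSpectrum R), IsOpen U ∧ U.Nonempty ∧ U ⊆ EGA4.regLocus R

theorem mem_regLocus_of_ringEquiv {R R' : Type u} [CommRing R] [CommRing R'] (e : R ≃+* R')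
    (q' : PrimeSpectrum R') (h : PrimeSpectrum.comap e.toRingHom q' ∈ EGA4.regLocus R) :
    q' ∈ EGA4.regLocus R' := by
  set P := (PrimeSpectrum.comap e.toRingHom q').asIdeal with hP
  have H : Submonoid.map (e : R →* R') P.primeCompl = q'.asIdeal.primeCompl := by
    ext x'
    constructor
    · rintro ⟨x, hx, rfl⟩
      exact hx
    · intro hx'
      refine ⟨e.symm x', ?_, by simp⟩
      change ¬ (e.toRingHom (e.symm x') ∈ q'.asIdeal)
      simpa using hx'
  haveI : IsRegularLocalRing (Localization.AtPrime P) := h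
  exact IsRegularLocalRing.of_ringEquiv (R := Localization.AtPrime P)
    (IsLocalization.ringEquivOfRingEquiv (Localization.AtPrime P)
      (Localization.AtPrime q'.asIdeal) e H)

theorem IsJ0.of_ringEquiv {R R' : Type u} [CommRing R] [CommRing R'] (e : R ≃+* R')
    (h : IsJ0 R) : IsJ0 R' := by
  obtain ⟨U, hUo, ⟨u, hu⟩, hU⟩ := h
  refine ⟨PrimeSpectrum.comap e.toRingHom ⁻¹' U, hUo.preimage (PrimeSpectrum.continuous_comap _),
    ⟨PrimeSpectrum.comap e.symm.toRingHom u, ?_⟩, ?_⟩
  · rw [Set.mem_preimage]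
    convert hu
    ext x
    simp [PrimeSpectrum.comap_asIdeal]
  · intro q' hq'
    exact mem_regLocus_of_ringEquiv e q' (hU hq')

/-- the generic point of a domain is a regular point -/
theorem bot_mem_regLocus (D : Type u) [CommRing D] [IsDomain D] :
    (⟨⊥, Ideal.isPrime_bot⟩ : PrimeSpectrum D) ∈ EGA4.regLocus D :=
  Groth.Agent.Lib.Helper22.FinDom.isRegularLocalRing_atPrime_of_eq_bot _ rfl

theorem isJ0_of_isOpen (D : Type u) [CommRing D] [IsDomain D] (h : IsOpen (EGA4.regLocus D)) :
    IsJ0 D :=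
  ⟨_, h, ⟨_, bot_mem_regLocus D⟩, subset_rfl⟩

/-- S4701 -/
theorem isOpen_quotients_iff (A : Type u) [CommRing A] [IsNoetherianRing A] :
    (∀ I : Ideal A, IsOpen (EGA4.regLocus (A ⧸ I))) ↔
      ∀ (p : Ideal A) [p.IsPrime], IsJ0 (A ⧸ p) := by
  constructor
  · intro h p _
    exact isJ0_of_isOpen _ (h p)
  · intro h I
    apply Groth.Agent.Lib.Helper22.NagataCrit.isOpen_regLocus
    intro P _
    let p : Ideal A := P.asIdeal.comap (Ideal.Quotient.mk I)
    haveI : p.IsPrime := Ideal.comap_isPrime _ _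
    have hIp : I ≤ p := by
      intro x hx
      change Ideal.Quotient.mk I x ∈ P.asIdeal
      rw [Ideal.Quotient.eq_zero_iff_mem.mpr hx]
      exact Ideal.zero_mem _
    have hP : p.map (Ideal.Quotient.mk I) = P.asIdeal :=
      Ideal.map_comap_of_surjective _ Ideal.Quotient.mk_surjective _
    let e : (A ⧸ p) ≃+* ((A ⧸ I) ⧸ P.asIdeal) :=
      (DoubleQuot.quotQuotEquivQuotOfLE hIp).symm.trans (Ideal.quotEquivOfEq hP)
    exact (h p).of_ringEquiv e

end Groth.Agent.Lib.Helper22.J0
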