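import Mathlib
import Groth.Prelude.Def_EGA4b
import Groth.Agent.Lib.Helper22.J0
import Groth.Agent.Lib.Helper5.SerreFlat
import Groth.Agent.S0389

/-!
# Flat descent of J-0 (helper22)
-/

set_option autoImplicit false
set_option linter.style.haveILetI false
universe u
open IsLocalRing TensorProduct

namespace Groth.Agent.Lib.Helper22.J0

/-- flat descent of regularity at a point -/
theorem mem_regLocus_of_flat (R S : Type u) [CommRing R] [CommRing S] [IsNoetherianRing R]
    [Algebra R S] (q : PrimeSpectrum S)
    (hflat : Module.Flat R (Localization.AtPrime q.asIdeal)) (hreg : q ∈ EGA4.regLocus S) :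
    PrimeSpectrum.comap (algebraMap R S) q ∈ EGA4.regLocus R := by
  set p : Ideal R := (PrimeSpectrum.comap (algebraMap R S) q).asIdeal with hp
  haveI : p.IsPrime := (PrimeSpectrum.comap (algebraMap R S) q).isPrime
  haveI : q.asIdeal.LiesOver p := ⟨rfl⟩
  letI := Localization.AtPrime.algebraOfLiesOver p q.asIdeal
  haveI : IsLocalHom (algebraMap (Localization.AtPrime p) (Localization.AtPrime q.asIdeal)) := by
    rw [RingHom.algebraMap_toAlgebra]
    exact Localization.isLocalHom_localRingHom p q.asIdeal (algebraMap R S) Ideal.LiesOver.over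
  haveI : Module.Flat (Localization.AtPrime p) (Localization.AtPrime q.asIdeal) :=
    (Module.flat_iff_of_isLocalization (Localization.AtPrime p) p.primeCompl _).mpr hflat
  haveI : IsRegularLocalRing (Localization.AtPrime q.asIdeal) := hreg
  exact Groth.Agent.Lib.Helper5.SerreLoc.regular_of_flat (Localization.AtPrime p)
    (Localization.AtPrime q.asIdeal)

/-- going down at a flat point -/
theorem exists_le_of_flat (R S : Type u) [CommRing R] [CommRing S]
    [Algebra R S] (q : PrimeSpectrum S)
    (hflat : Module.Flat R (Localization.AtPrime q.asIdeal)) (p' : PrimeSpectrum R)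
    (hle : p' ≤ PrimeSpectrum.comap (algebraMap R S) q) :
    ∃ q' : PrimeSpectrum S, q' ≤ q ∧ PrimeSpectrum.comap (algebraMap R S) q' = p' := by
  set Sq := Localization.AtPrime q.asIdeal
  set p : Ideal R := (PrimeSpectrum.comap (algebraMap R S) q).asIdeal with hp
  haveI : p.IsPrime := (PrimeSpectrum.comap (algebraMap R S) q).isPrime
  haveI : (maximalIdeal Sq).LiesOver p := by
    constructor
    rw [Ideal.under_def, IsScalarTower.algebraMap_eq R S Sq, ← Ideal.comap_comap]
    have : (maximalIdeal Sq).comap (algebraMap S Sq) = q.asIdeal :=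
      Localization.AtPrime.under_maximalIdeal
    rw [this]
    rfl
  obtain ⟨Q, hQle, hQ, hQo⟩ := Ideal.exists_ideal_le_liesOver_of_le (maximalIdeal Sq)
    (p := p'.asIdeal) (q := p) hle
  refine ⟨⟨Q.comap (algebraMap S Sq), Ideal.comap_isPrime _ _⟩, ?_, ?_⟩
  · change Q.comap (algebraMap S Sq) ≤ q.asIdeal
    have : (maximalIdeal Sq).comap (algebraMap S Sq) = q.asIdeal :=
      Localization.AtPrime.under_maximalIdeal
    exact (Ideal.comap_mono hQle).trans this.le
  · ext1
    change (Q.comap (algebraMap S Sq)).comap (algebraMap R S) = p'.asIdeal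
    rw [Ideal.comap_comap, ← IsScalarTower.algebraMap_eq]
    exact (hQo.over).symm

/-- **Flat descent of J-0.** -/
theorem isOpen_image_of_flat (R S : Type u) [CommRing R] [CommRing S] [IsNoetherianRing R]
    [Algebra R S] [Algebra.FiniteType R S] (U : Set (PrimeSpectrum S)) (hU : IsOpen U)
    (hflat : ∀ q ∈ U, Module.Flat R (Localization.AtPrime q.asIdeal))
    (hreg : U ⊆ EGA4.regLocus S) :
    IsOpen (PrimeSpectrum.comap (algebraMap R S) '' U) ∧
      PrimeSpectrum.comap (algebraMap R S) '' U ⊆ EGA4.regLocus R := by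
  haveI : IsNoetherianRing S := Algebra.FiniteType.isNoetherianRing R S
  haveI : Algebra.FinitePresentation R S := Algebra.FinitePresentation.of_finiteType.mp inferInstance
  constructor
  · apply PrimeSpectrum.isOpen_of_stableUnderGeneralization_of_isConstructible
    · rintro p p' hsp ⟨q, hqU, rfl⟩
      obtain ⟨q', hq'q, hq'⟩ := exists_le_of_flat R S q (hflat q hqU) p'
        ((PrimeSpectrum.le_iff_specializes _ _).mpr hsp)
      exact ⟨q', hU.stableUnderGeneralization ((PrimeSpectrum.le_iff_specializes _ _).mp hq'q) hqU,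
        hq'⟩
    · apply PrimeSpectrum.isConstructible_comap_image
        (RingHom.finitePresentation_algebraMap.mpr inferInstance)
      exact IsRetrocompact.isConstructible hU (fun V _ _ => TopologicalSpace.NoetherianSpace.isCompact _)
  · rintro _ ⟨q, hqU, rfl⟩
    exact mem_regLocus_of_flat R S q (hflat q hqU) (hreg hqU)

theorem flat_atPrime_of_flat_tensor (R S : Type u) [CommRing R] [CommRing S] [Algebra R S] (f : R)
    (hfl : Module.Flat R (S ⊗[R] Localization.Away f)) (q : Ideal S) [q.IsPrime]
    (hfq : algebraMap R S f ∉ q) : Module.Flat R (Localization.AtPrime q) := by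
  set T := S ⊗[R] Localization.Away f
  set Sq := Localization.AtPrime q
  set M₁ : Submonoid S := Algebra.algebraMapSubmonoid S (Submonoid.powers f) with hM₁
  haveI hT : IsLocalization M₁ T := IsLocalization.tensor (Localization.Away f) (Submonoid.powers f)
  have hle : M₁ ≤ q.primeCompl := by
    rintro _ ⟨x, ⟨n, rfl⟩, rfl⟩
    rw [map_pow]
    exact fun h => hfq (Ideal.IsPrime.mem_of_pow_mem ‹_› n h)
  have hunits : ∀ m : M₁, IsUnit (algebraMap S Sq m) := fun m =>
    IsLocalization.map_units Sq (⟨m.1, hle m.2⟩ : q.primeCompl)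
  letI : Algebra T Sq := (IsLocalization.lift (M := M₁) (g := algebraMap S Sq) hunits).toAlgebra
  have hcomp : ∀ x : S, algebraMap T Sq (algebraMap S T x) = algebraMap S Sq x := fun x =>
    IsLocalization.lift_eq (M := M₁) (g := algebraMap S Sq) hunits x
  haveI : IsScalarTower S T Sq := by
    refine ⟨fun x y z => ?_⟩
    rw [Algebra.smul_def x y, Algebra.smul_def (algebraMap S T x * y) z, map_mul, hcomp,
      Algebra.smul_def y z, Algebra.smul_def x (algebraMap T Sq y * z), mul_assoc]
  haveI : IsLocalization (q.primeCompl.map (algebraMap S T)) Sq :=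
    IsLocalization.isLocalization_of_submonoid_le T Sq M₁ q.primeCompl hle
  haveI : Module.Flat T Sq := IsLocalization.flat Sq (q.primeCompl.map (algebraMap S T))
  haveI : IsScalarTower R T Sq := IsScalarTower.of_algebraMap_eq (R := R) (S := T) (A := Sq) (fun x => by
    rw [IsScalarTower.algebraMap_apply R S Sq, IsScalarTower.algebraMap_apply R S T, hcomp])
  exact Module.Flat.trans R T Sq

/-- generic flatness at points -/
theorem exists_flat_atPrime (R S : Type u) [CommRing R] [IsDomain R] [CommRing S] [Algebra R S]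
    [Algebra.FiniteType R S] :
    ∃ f : R, f ≠ 0 ∧ ∀ (q : Ideal S) [q.IsPrime], algebraMap R S f ∉ q →
      Module.Flat R (Localization.AtPrime q) := by
  obtain ⟨f, hf, -, hfree, -, -⟩ := Groth.Agent.S0389.result (R := R) (S := S) (M := S)
  refine ⟨f, hf, fun q _ hfq => ?_⟩
  haveI := hfree
  haveI : Module.Flat R (Localization.Away f) := IsLocalization.flat _ (Submonoid.powers f)
  haveI : Module.Flat (Localization.Away f) (Localization.Away f ⊗[R] S) := Module.Flat.of_free
  haveI : Module.Flat R (Localization.Away f ⊗[R] S) :=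
    Module.Flat.trans R (Localization.Away f) _
  have hfl : Module.Flat R (S ⊗[R] Localization.Away f) :=
    Module.Flat.of_linearEquiv (TensorProduct.comm R S (Localization.Away f))
  exact flat_atPrime_of_flat_tensor R S f hfl q hfq

/-- the generic point of a domain lies in every nonempty open set -/
theorem bot_mem_of_isOpen (D : Type u) [CommRing D] [IsDomain D]
    (W : Set (PrimeSpectrum D)) (hWo : IsOpen W) (hWn : W.Nonempty) :
    (⟨⊥, Ideal.isPrime_bot⟩ : PrimeSpectrum D) ∈ W := by
  obtain ⟨w, hw⟩ := hWn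
  have hsp : (⟨⊥, Ideal.isPrime_bot⟩ : PrimeSpectrum D) ⤳ w :=
    (PrimeSpectrum.le_iff_specializes _ w).mp bot_le
  exact hWo.stableUnderGeneralization hsp hw

/-- **J-0 descends** along injective finite type maps of domains (S9255). -/
theorem IsJ0.descend (R S : Type u) [CommRing R] [IsDomain R] [IsNoetherianRing R]
    [CommRing S] [IsDomain S] [Algebra R S] [Algebra.FiniteType R S]
    (hinj : Function.Injective (algebraMap R S)) (hS : IsJ0 S) : IsJ0 R := by
  obtain ⟨U, hUo, hUn, hU⟩ := hS
  obtain ⟨f, hf, hflat⟩ := exists_flat_atPrime R S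
  set U' : Set (PrimeSpectrum S) := U ∩ (PrimeSpectrum.basicOpen (algebraMap R S f) : Set _)
    with hU'
  have hU'o : IsOpen U' := hUo.inter (PrimeSpectrum.basicOpen _).isOpen
  have hη : (⟨⊥, Ideal.isPrime_bot⟩ : PrimeSpectrum S) ∈ U' := by
    refine ⟨bot_mem_of_isOpen S U hUo hUn, ?_⟩
    change algebraMap R S f ∉ (⊥ : Ideal S)
    rw [Ideal.mem_bot]
    exact fun h => hf (hinj (by rw [h, map_zero]))
  obtain ⟨h1, h2⟩ := isOpen_image_of_flat R S U' hU'o
    (fun q hq => hflat q.asIdeal hq.2) (Set.inter_subset_left.trans hU)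
  exact ⟨_, h1, ⟨_, Set.mem_image_of_mem _ hη⟩, h2⟩

end Groth.Agent.Lib.Helper22.J0
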