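import Mathlib
import Groth.Prelude.Def_EGA4b
import Groth.Agent.Lib.Helper22.J0Descent
import Groth.Agent.Lib.Helper22.ExcLoc
import Groth.Agent.Lib.Helper22.SmoothGeomRed
import Groth.Agent.Lib.Helper5.RegSmooth

/-!
# Ascent of J-0 along generically smooth finite type extensions (helper22)
-/

set_option autoImplicit false
set_option linter.style.haveILetI false
universe u
open IsLocalRing TensorProduct

namespace Groth.Agent.Lib.Helper22.J0

theorem isLocalization_congr {R : Type*} [CommSemiring R] {M N : Submonoid R} (h : M = N)
    (S : Type*) [CommSemiring S] [Algebra R S] [IsLocalization M S] : IsLocalization N S := by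
  subst h; infer_instance

/-- a localization all of whose primes lie over regular points is a regular ring -/
theorem isRegularRing_away (A : Type u) [CommRing A] [IsNoetherianRing A] (a : A)
    (h : ∀ q : PrimeSpectrum A, a ∉ q.asIdeal → q ∈ EGA4.regLocus A) :
    IsRegularRing (Localization.Away a) := by
  haveI : IsNoetherianRing (Localization.Away a) :=
    IsLocalization.isNoetherianRing (Submonoid.powers a) _ inferInstance
  rw [isRegularRing_iff]
  intro P hP
  have h1 := Groth.Agent.Lib.Helper22.ExcLoc.regLocus_of_isLocalization A (Submonoid.powers a)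
    (Localization.Away a)
  have h2 : (⟨P, hP⟩ : PrimeSpectrum (Localization.Away a)) ∈ EGA4.regLocus (Localization.Away a) := by
    rw [h1, Set.mem_preimage]
    apply h
    intro ha
    have hu : IsUnit (algebraMap A (Localization.Away a) a) :=
      IsLocalization.map_units _ (⟨a, Submonoid.mem_powers a⟩ : Submonoid.powers a)
    exact hP.ne_top (Ideal.eq_top_of_isUnit_mem _ ha hu)
  exact h2

theorem IsJ0.ascend_core (A A' : Type u) [CommRing A] [CommRing A'] [IsDomain A] [IsDomain A']
    [IsNoetherianRing A] [Algebra A A'] [Algebra.FiniteType A A']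
    (hinj : Function.Injective (algebraMap A A'))
    (hsm : Algebra.FormallySmooth A (FractionRing A')) (hA : IsJ0 A) : IsJ0 A' := by
  haveI : IsNoetherianRing A' := Algebra.FiniteType.isNoetherianRing A A'
  haveI : Algebra.FinitePresentation A A' := Algebra.FinitePresentation.of_finiteType.mp inferInstance
  -- the generic point is smooth
  have hη : (⟨⊥, Ideal.isPrime_bot⟩ : PrimeSpectrum A') ∈ Algebra.smoothLocus A A' := by
    change Algebra.FormallySmooth A (Localization.AtPrime (⊥ : Ideal A'))
    haveI : IsLocalization (nonZeroDivisors A') (Localization.AtPrime (⊥ : Ideal A')) :=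
      isLocalization_congr Ideal.primeCompl_bot (Localization.AtPrime (⊥ : Ideal A'))
    let e : FractionRing A' ≃ₐ[A'] Localization.AtPrime (⊥ : Ideal A') :=
      IsLocalization.algEquiv (nonZeroDivisors A') _ _
    exact (Algebra.FormallySmooth.iff_of_equiv (e.restrictScalars A)).mp hsm
  obtain ⟨g, hg, hgsm⟩ := Groth.Agent.Lib.Helper22.NagataCrit.exists_basicOpen_subset A'
    (Algebra.smoothLocus A A') Algebra.isOpen_smoothLocus ⟨_, hη⟩
  obtain ⟨U₀, hU₀o, hU₀n, hU₀⟩ := hA
  obtain ⟨a, ha, haU⟩ := Groth.Agent.Lib.Helper22.NagataCrit.exists_basicOpen_subset A U₀ hU₀o hU₀n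
  set a' : A' := algebraMap A A' a with ha'
  have ha'0 : a' ≠ 0 := fun h => ha (hinj (by rw [← ha', h, map_zero]))
  set f : A' := g * a' with hf
  have hf0 : f ≠ 0 := mul_ne_zero hg ha'0
  -- B = A'_f is smooth over A
  set B := Localization.Away f
  have hBsm : Algebra.Smooth A B := by
    rw [← Algebra.basicOpen_subset_smoothLocus_iff_smooth]
    intro q hq
    apply hgsm
    intro hgq
    exact hq (Ideal.mul_mem_right _ _ hgq)
  -- B is an algebra over A_a
  set Aa := Localization.Away a
  have hunit : ∀ m : Submonoid.powers a, IsUnit (algebraMap A B m) := by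
    rintro ⟨_, n, rfl⟩
    rw [map_pow]
    apply IsUnit.pow
    have hu : IsUnit (algebraMap A' B f) :=
      IsLocalization.map_units _ (⟨f, Submonoid.mem_powers f⟩ : Submonoid.powers f)
    have hu' : IsUnit (algebraMap A' B g * algebraMap A' B a') := by
      rw [← map_mul]; exact hu
    rw [IsScalarTower.algebraMap_apply A A' B]
    exact isUnit_of_mul_isUnit_right hu'
  letI : Algebra Aa B := (IsLocalization.lift (M := Submonoid.powers a) (g := algebraMap A B)
    hunit).toAlgebra
  haveI : IsScalarTower A Aa B := IsScalarTower.of_algebraMap_eq (R := A) (S := Aa) (A := B)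
    (fun x => (IsLocalization.lift_eq (M := Submonoid.powers a) (g := algebraMap A B) hunit x).symm)
  haveI := hBsm.1
  haveI := hBsm.2
  haveI : Algebra.FormallySmooth Aa B := Algebra.FormallySmooth.localization_base (Submonoid.powers a)
  haveI : Algebra.FiniteType A Aa := IsLocalization.finiteType_of_monoid_fg (Submonoid.powers a) Aa
  haveI : Algebra.FinitePresentation Aa B :=
    Algebra.FinitePresentation.of_restrict_scalars_finitePresentation A Aa B
  haveI : Algebra.Smooth Aa B := ⟨inferInstance, inferInstance⟩
  haveI : IsRegularRing Aa := isRegularRing_away A a (fun q hq => hU₀ (haU q hq))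
  have hBreg : IsRegularRing B := Groth.Agent.Lib.Helper5.RegSmooth.isRegularRing_of_smooth Aa B
  -- conclude
  refine ⟨(PrimeSpectrum.basicOpen f : Set _), (PrimeSpectrum.basicOpen f).isOpen,
    ⟨⟨⊥, Ideal.isPrime_bot⟩, ?_⟩, ?_⟩
  · change f ∉ (⊥ : Ideal A')
    rwa [Ideal.mem_bot]
  · intro q hq
    have hrange := PrimeSpectrum.localization_away_comap_range B f
    have hq' : q ∈ Set.range (PrimeSpectrum.comap (algebraMap A' B)) := by
      rw [hrange]; exact hq
    obtain ⟨Q, rfl⟩ := hq'
    have h1 := Groth.Agent.Lib.Helper22.ExcLoc.regLocus_of_isLocalization A' (Submonoid.powers f) B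
    have h2 : Q ∈ EGA4.regLocus B := hBreg.isRegularLocalRing_localization Q.asIdeal
    rw [h1] at h2
    exact h2

/-- S2688 -/
theorem IsJ0.ascend (A A' : Type u) [CommRing A] [CommRing A'] [IsDomain A] [IsDomain A']
    [IsNoetherianRing A] [Algebra A A']
    [FaithfulSMul A A'] [Algebra.FiniteType A A'] [Algebra (FractionRing A) (FractionRing A')]
    [IsScalarTower A (FractionRing A) (FractionRing A')]
    [Algebra.IsGeometricallyReduced (FractionRing A) (FractionRing A')]
    (h : IsJ0 A) : IsJ0 A' := by
  haveI : Algebra.EssFiniteType A' (FractionRing A') :=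
    Algebra.EssFiniteType.of_isLocalization _ (nonZeroDivisors A')
  haveI : Algebra.EssFiniteType A (FractionRing A') := Algebra.EssFiniteType.comp A A' _
  haveI : Algebra.EssFiniteType (FractionRing A) (FractionRing A') :=
    Algebra.EssFiniteType.of_comp A (FractionRing A) (FractionRing A')
  haveI : Algebra.FormallySmooth (FractionRing A) (FractionRing A') :=
    Groth.Agent.Lib.Helper22.SmoothGeomRed.formallySmooth_of_isGeometricallyReduced _ _
  haveI : Algebra.FormallySmooth A (FractionRing A) :=
    Algebra.FormallySmooth.of_isLocalization (nonZeroDivisors A)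
  have hsm : Algebra.FormallySmooth A (FractionRing A') :=
    Algebra.FormallySmooth.comp A (FractionRing A) (FractionRing A')
  exact IsJ0.ascend_core A A' (FaithfulSMul.algebraMap_injective A A') hsm h

end Groth.Agent.Lib.Helper22.J0
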