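import Mathlib
import Groth.Agent.Lib.Helper22.RegRoot
import Groth.Agent.Lib.Helper22.J0Ascent

/-!
# Tools for the J-0 induction over complete local rings (helper22)

* derivations extend along formally étale maps;
* injectivity of `AdjoinRoot (X^p - f) → L`.
-/

set_option autoImplicit false
set_option linter.style.haveILetI false
set_option linter.unusedSectionVars false
universe u

namespace Groth.Agent.Lib.Helper22.J0Root

open Polynomial

/-- derivations extend along formally étale maps -/
theorem exists_derivation_of_formallyEtale (S T : Type*) [CommRing S] [CommRing T] [Algebra S T]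
    [Algebra.FormallyEtale S T] (D : Derivation ℤ S S) :
    ∃ D' : Derivation ℤ T T, ∀ s, D' (algebraMap S T s) = algebraMap S T (D s) := by
  let l : Ω[S⁄ℤ] →ₗ[S] S := D.liftKaehlerDifferential
  let l' : Ω[S⁄ℤ] →ₗ[S] T := (Algebra.linearMap S T).comp l
  have hb := KaehlerDifferential.isBaseChange_of_formallyEtale ℤ S T
  let Lm : Ω[T⁄ℤ] →ₗ[T] T := hb.lift l'
  refine ⟨Lm.compDer (KaehlerDifferential.D ℤ T), fun s => ?_⟩
  change Lm (KaehlerDifferential.D ℤ T (algebraMap S T s)) = _
  rw [← KaehlerDifferential.map_D ℤ ℤ S T s]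
  change hb.lift l' (KaehlerDifferential.map ℤ ℤ S T (KaehlerDifferential.D ℤ S s)) = _
  rw [hb.lift_eq]
  change algebraMap S T (D.liftKaehlerDifferential (KaehlerDifferential.D ℤ S s)) = _
  rw [Derivation.liftKaehlerDifferential_comp_D]

/-- `AdjoinRoot (X^p - f) → L` is injective when the root is not in the fraction field. -/
theorem adjoinRoot_lift_injective {E L : Type*} [CommRing E] [IsDomain E] [Field L] [Algebra E L]
    (hinj : Function.Injective (algebraMap E L)) (p : ℕ) [hp : Fact p.Prime] [CharP L p]
    (f : E) (θ : L) (hθ : θ ^ p = algebraMap E L f)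
    (hnot : ∀ a b : E, b ≠ 0 → algebraMap E L b * θ ≠ algebraMap E L a)
    (h0 : (X ^ p - C f : E[X]).eval₂ (algebraMap E L) θ = 0) :
    Function.Injective (AdjoinRoot.lift (algebraMap E L) θ h0) := by
  classical
  set g : E[X] := X ^ p - C f with hg
  have hmonic : g.Monic := monic_X_pow_sub_C f hp.out.ne_zero
  let K := FractionRing E
  letI algKL : Algebra K L := (IsFractionRing.lift (K := K) hinj).toAlgebra
  haveI : IsScalarTower E K L :=
    IsScalarTower.of_algebraMap_eq (fun x => (IsFractionRing.lift_algebraMap hinj x).symm)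
  haveI : CharP K p := (algebraMap K L).charP (algebraMap K L).injective p
  -- irreducibility over K
  have hirr : Irreducible (X ^ p - C (algebraMap E K f) : K[X]) := by
    apply X_pow_sub_C_irreducible_of_prime hp.out
    intro b hb
    have h1 : (algebraMap K L b) ^ p = θ ^ p := by
      rw [← map_pow, hb, ← IsScalarTower.algebraMap_apply, hθ]
    have h2 : algebraMap K L b = θ := by
      have := frobenius_inj L p
      exact this h1
    obtain ⟨a, c, hc, rfl⟩ := IsFractionRing.div_surjective (A := E) b
    have hc0 : c ≠ 0 := nonZeroDivisors.ne_zero hc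
    apply hnot a c hc0
    rw [← h2, map_div₀, ← IsScalarTower.algebraMap_apply, ← IsScalarTower.algebraMap_apply,
      mul_div_cancel₀]
    exact fun h => hc0 (hinj (h.trans (map_zero _).symm))
  have hmin : minpoly K θ = X ^ p - C (algebraMap E K f) := by
    symm
    apply minpoly.eq_of_irreducible_of_monic hirr
    · rw [map_sub, map_pow, aeval_X, aeval_C, hθ, ← IsScalarTower.algebraMap_apply, sub_self]
    · exact monic_X_pow_sub_C _ hp.out.ne_zero
  have hint : IsIntegral K θ := by
    refine ⟨X ^ p - C (algebraMap E K f), monic_X_pow_sub_C _ hp.out.ne_zero, ?_⟩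
    rw [eval₂_sub, eval₂_pow, eval₂_X, eval₂_C, hθ, ← IsScalarTower.algebraMap_apply, sub_self]
  rw [injective_iff_map_eq_zero]
  intro x hx
  obtain ⟨q, rfl⟩ := AdjoinRoot.mk_surjective x
  rw [AdjoinRoot.lift_mk] at hx
  rw [AdjoinRoot.mk_eq_zero]
  rw [← Polynomial.modByMonic_eq_zero_iff_dvd hmonic]
  set r := q %ₘ g with hr
  have hqr : q = r + g * (q /ₘ g) := (Polynomial.modByMonic_add_div q g).symm
  have hr0 : r.eval₂ (algebraMap E L) θ = 0 := by
    have := hx
    rw [hqr, eval₂_add, eval₂_mul, h0, zero_mul, add_zero] at this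
    exact this
  have hdeg : r.degree < g.degree := Polynomial.degree_modByMonic_lt q hmonic
  have hgdeg : g.degree = p := by
    rw [hg]
    exact degree_X_pow_sub_C hp.out.pos f
  -- map to K
  have hrK : aeval θ (r.map (algebraMap E K)) = 0 := by
    rw [aeval_def, eval₂_map, ← IsScalarTower.algebraMap_eq]
    exact hr0
  have hzero : r.map (algebraMap E K) = 0 := by
    by_contra hne
    have h1 := minpoly.degree_le_of_ne_zero K θ hne hrK
    rw [hmin, degree_X_pow_sub_C hp.out.pos] at h1
    have h2 : (r.map (algebraMap E K)).degree ≤ r.degree := degree_map_le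
    have := lt_of_le_of_lt (h1.trans h2) hdeg
    rw [hgdeg] at this
    exact lt_irrefl _ this
  exact (Polynomial.map_eq_zero_iff (IsFractionRing.injective E K)).mp hzero

end Groth.Agent.Lib.Helper22.J0Root
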