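import Mathlib
import Groth.Agent.Lib.Helper22.J0RootA
import Groth.Agent.Lib.Helper22.J0Descent
import Groth.Agent.Lib.Helper22.NagataCrit

/-!
# The predicate `QJ`: a field is the fraction field of a J-0 domain of finite type (helper22)
-/

set_option autoImplicit false
set_option linter.style.haveILetI false
set_option linter.unusedSectionVars false
universe u

namespace Groth.Agent.Lib.Helper22.J0Root

open Polynomial Groth.Agent.Lib.Helper22.J0

/-- `QJ A₀ L`: `L` is the fraction field of a J-0 domain of finite type over `A₀`. -/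
def QJ (A₀ : Type u) [CommRing A₀] (L : Type u) [Field L] [Algebra A₀ L] : Prop :=
  ∃ (S : Type u) (_ : CommRing S) (_ : Algebra A₀ S) (φ : S →ₐ[A₀] L),
    Algebra.FiniteType A₀ S ∧ IsJ0 S ∧ Function.Injective φ ∧ ∀ z : L, ∃ x y : S, z = φ x / φ y

/-- a regular nontrivial ring is J-0 -/
theorem isJ0_of_isRegularRing (S : Type u) [CommRing S] [Nontrivial S] [IsRegularRing S] :
    IsJ0 S := by
  refine ⟨Set.univ, isOpen_univ, Set.univ_nonempty, fun q _ => ?_⟩
  haveI := q.isPrime
  exact isRegularRing_iff.mp ‹IsRegularRing S› q.asIdeal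

variable {A₀ : Type u} [CommRing A₀] [IsNoetherianRing A₀] {L : Type u} [Field L] [Algebra A₀ L]

theorem QJ.exists_regular (h : QJ A₀ L) (t : Finset L) :
    ∃ (S : Type u) (_ : CommRing S) (_ : Algebra A₀ S) (φ : S →ₐ[A₀] L),
      Algebra.FiniteType A₀ S ∧ IsRegularRing S ∧ Function.Injective φ ∧
        (↑t ⊆ Set.range φ) ∧ ∀ z : L, ∃ x y : S, z = φ x / φ y := by
  classical
  obtain ⟨S₀, _, _, φ₀, hft, hJ, hinj, hfrac⟩ := h
  haveI : IsDomain S₀ := hinj.isDomain φ₀.toRingHom
  haveI : IsNoetherianRing S₀ := Algebra.FiniteType.isNoetherianRing A₀ S₀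
  letI algSL : Algebra S₀ L := φ₀.toRingHom.toAlgebra
  haveI : IsScalarTower A₀ S₀ L := IsScalarTower.of_algebraMap_eq (fun x => (φ₀.commutes x).symm)
  haveI : FaithfulSMul S₀ L := (faithfulSMul_iff_algebraMap_injective S₀ L).mpr hinj
  haveI : IsFractionRing S₀ L := IsFractionRing.of_field S₀ L hfrac
  obtain ⟨U, hUo, hUn, hU⟩ := hJ
  obtain ⟨c, hc0, hc⟩ := Groth.Agent.Lib.Helper22.NagataCrit.exists_basicOpen_subset S₀ U hUo hUn
  obtain ⟨b, hb⟩ := IsLocalization.exist_integer_multiples_of_finset (nonZeroDivisors S₀) t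
  have hb0 : (b : S₀) ≠ 0 := nonZeroDivisors.ne_zero b.2
  set s : S₀ := (b : S₀) * c with hs
  have hs0 : s ≠ 0 := mul_ne_zero hb0 hc0
  haveI hreg : IsRegularRing (Localization.Away s) := by
    apply Groth.Agent.Lib.Helper22.J0.isRegularRing_away S₀ s
    intro q hq
    apply hU
    apply hc
    intro hcq
    exact hq (q.asIdeal.mul_mem_left _ hcq)
  have hunit : ∀ y : Submonoid.powers s, IsUnit (φ₀ y) := by
    rintro ⟨_, n, rfl⟩
    rw [map_pow]
    apply IsUnit.pow
    rw [isUnit_iff_ne_zero]
    exact fun h => hs0 (hinj (h.trans (map_zero _).symm))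
  let ψ : Localization.Away s →ₐ[A₀] L := IsLocalization.liftAlgHom (M := Submonoid.powers s)
    (f := φ₀) hunit
  have hψalg : ∀ x : S₀, ψ (algebraMap S₀ (Localization.Away s) x) = φ₀ x := by
    intro x
    change IsLocalization.lift hunit (algebraMap S₀ (Localization.Away s) x) = φ₀ x
    rw [IsLocalization.lift_eq]
    rfl
  have hψinj : Function.Injective ψ := by
    change Function.Injective (IsLocalization.lift hunit)
    rw [IsLocalization.lift_injective_iff]
    intro x y
    have h1 : Function.Injective (algebraMap S₀ (Localization.Away s)) :=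
      IsLocalization.injective _ (powers_le_nonZeroDivisors_of_noZeroDivisors hs0)
    constructor
    · intro h
      rw [h1 h]
    · intro h
      have : x = y := hinj h
      rw [this]
  refine ⟨Localization.Away s, inferInstance, inferInstance, ψ, ?_, hreg, hψinj, ?_, ?_⟩
  · haveI : Algebra.FinitePresentation S₀ (Localization.Away s) :=
      IsLocalization.Away.finitePresentation s
    haveI : Algebra.FiniteType S₀ (Localization.Away s) := inferInstance
    exact Algebra.FiniteType.trans hft inferInstance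
  · intro x hx
    obtain ⟨a, ha⟩ := hb x hx
    -- b is a unit in the localization
    have hsu : IsUnit (algebraMap S₀ (Localization.Away s) s) :=
      IsLocalization.Away.algebraMap_isUnit s
    have hbu : IsUnit (algebraMap S₀ (Localization.Away s) (b : S₀)) := by
      rw [hs, map_mul] at hsu
      exact isUnit_of_mul_isUnit_left hsu
    obtain ⟨ub, hub⟩ := hbu
    refine ⟨algebraMap S₀ (Localization.Away s) a * ((ub⁻¹ : (Localization.Away s)ˣ) :
      Localization.Away s), ?_⟩
    have h2 : ψ (algebraMap S₀ (Localization.Away s) (b : S₀)) *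
        ψ (((ub⁻¹ : (Localization.Away s)ˣ) : Localization.Away s)) = 1 := by
      rw [← map_mul, ← hub, Units.mul_inv, map_one]
    have h3 : φ₀ (b : S₀) * x = φ₀ a := by
      have : (b : S₀) • x = algebraMap S₀ L a := ha.symm
      rw [Algebra.smul_def] at this
      exact this
    have hb1 : φ₀ (b : S₀) ≠ 0 := fun h => hb0 (hinj (h.trans (map_zero _).symm))
    rw [map_mul, hψalg, ← h3]
    rw [hψalg] at h2
    calc φ₀ (b : S₀) * x * ψ (((ub⁻¹ : (Localization.Away s)ˣ) : Localization.Away s))
        = x * (φ₀ (b : S₀) * ψ (((ub⁻¹ : (Localization.Away s)ˣ) : Localization.Away s))) := by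
          ring
      _ = x := by rw [h2, mul_one]
  · intro z
    obtain ⟨x, y, hxy⟩ := hfrac z
    exact ⟨algebraMap S₀ _ x, algebraMap S₀ _ y, by rw [hψalg, hψalg]; exact hxy⟩

/-- J-0 for finite type domains embedded in `L` -/
theorem QJ.isJ0_of_embedding (h : QJ A₀ L) (B : Type u) [CommRing B] [Algebra A₀ B]
    [Algebra.FiniteType A₀ B] (ι : B →ₐ[A₀] L) (hι : Function.Injective ι) : IsJ0 B := by
  classical
  haveI : IsDomain B := hι.isDomain ι.toRingHom
  haveI : IsNoetherianRing B := Algebra.FiniteType.isNoetherianRing A₀ B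
  obtain ⟨s, hs⟩ := (Algebra.FiniteType.out : (⊤ : Subalgebra A₀ B).FG)
  obtain ⟨S, _, _, ψ, hft, hreg, hψ, hsub, -⟩ := h.exists_regular (s.image ι)
  haveI : IsDomain S := hψ.isDomain ψ.toRingHom
  have hrange : ∀ b : B, ι b ∈ ψ.range := by
    intro b
    have hb : b ∈ Algebra.adjoin A₀ (s : Set B) := by rw [hs]; trivial
    induction hb using Algebra.adjoin_induction with
    | mem x hx =>
      obtain ⟨y, hy⟩ := hsub (Finset.mem_coe.2 (Finset.mem_image_of_mem ι hx))
      exact ⟨y, hy⟩
    | algebraMap r =>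
      rw [AlgHom.commutes]
      exact Subalgebra.algebraMap_mem _ r
    | add x y _ _ hx hy => rw [map_add]; exact Subalgebra.add_mem _ hx hy
    | mul x y _ _ hx hy => rw [map_mul]; exact Subalgebra.mul_mem _ hx hy
  let e : S ≃ₐ[A₀] ψ.range := AlgEquiv.ofInjective ψ hψ
  let χ : B →ₐ[A₀] S := (e.symm : ψ.range →ₐ[A₀] S).comp (ι.codRestrict ψ.range hrange)
  have hχ : Function.Injective χ := by
    intro x y hxy
    have h1 : ι.codRestrict ψ.range hrange x = ι.codRestrict ψ.range hrange y :=
      e.symm.injective hxy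
    have h2 := congrArg (fun z : ψ.range => (z : L)) h1
    exact hι h2
  letI algBS : Algebra B S := χ.toRingHom.toAlgebra
  haveI : IsScalarTower A₀ B S := IsScalarTower.of_algebraMap_eq (fun x => (χ.commutes x).symm)
  haveI : Algebra.FiniteType B S := Algebra.FiniteType.of_restrictScalars_finiteType A₀ B S
  exact IsJ0.descend B S hχ (isJ0_of_isRegularRing S)

end Groth.Agent.Lib.Helper22.J0Root
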