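import Mathlib
import Groth.Agent.Lib.Helper22.J0RootB

/-!
# The `p`-th root step for `QJ` (helper22)
-/

set_option autoImplicit false
set_option linter.style.haveILetI false
set_option linter.unusedSectionVars false
universe u

namespace Groth.Agent.Lib.Helper22.J0Root

open Polynomial Groth.Agent.Lib.Helper22.J0

/-- lifting an injective map from a domain to a field to a localization away from an element -/
theorem exists_away_lift {A₀ S M : Type u} [CommRing A₀] [CommRing S] [IsDomain S] [Field M]
    [Algebra A₀ S] [Algebra A₀ M] (φ : S →ₐ[A₀] M) (hφ : Function.Injective φ) (s : S)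
    (hs : s ≠ 0) :
    ∃ ψ : Localization.Away s →ₐ[A₀] M, Function.Injective ψ ∧
      ∀ x : S, ψ (algebraMap S (Localization.Away s) x) = φ x := by
  have hunit : ∀ y : Submonoid.powers s, IsUnit (φ y) := by
    rintro ⟨_, n, rfl⟩
    rw [map_pow]
    apply IsUnit.pow
    rw [isUnit_iff_ne_zero]
    exact fun h => hs (hφ (h.trans (map_zero _).symm))
  let ψ : Localization.Away s →ₐ[A₀] M := IsLocalization.liftAlgHom (M := Submonoid.powers s)
    (f := φ) hunit
  have hψalg : ∀ x : S, ψ (algebraMap S (Localization.Away s) x) = φ x := by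
    intro x
    change IsLocalization.lift hunit (algebraMap S (Localization.Away s) x) = φ x
    rw [IsLocalization.lift_eq]
    rfl
  refine ⟨ψ, ?_, hψalg⟩
  change Function.Injective (IsLocalization.lift hunit)
  rw [IsLocalization.lift_injective_iff]
  intro x y
  have h1 : Function.Injective (algebraMap S (Localization.Away s)) :=
    IsLocalization.injective _ (powers_le_nonZeroDivisors_of_noZeroDivisors hs)
  constructor
  · intro h
    rw [h1 h]
  · intro h
    have : x = y := hφ h
    rw [this]

variable {A₀ : Type u} [CommRing A₀] [IsNoetherianRing A₀]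

theorem QJ.of_root (p : ℕ) [hp : Fact p.Prime] (M L : Type u) [Field M] [Field L] [Algebra A₀ M]
    [Algebra A₀ L] [Algebra M L] [IsScalarTower A₀ M L] [CharP L p]
    (hA₀ : Function.Injective (algebraMap A₀ L))
    (Hder : ∀ (E : Type u) [CommRing E] [IsDomain E] [Algebra A₀ E] [Algebra.FiniteType A₀ E],
      Function.Injective (algebraMap A₀ E) → ∀ f : E,
      (∀ x : FractionRing E, x ^ p ≠ algebraMap E (FractionRing E) f) →
      ∃ D : Derivation ℤ E E, D f ≠ 0)
    (θ : L) (hθM : θ ∉ (algebraMap M L).range) (hθp : θ ^ p ∈ (algebraMap M L).range)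
    (htop : Algebra.adjoin M {θ} = ⊤) (h : QJ A₀ M) : QJ A₀ L := by
  classical
  obtain ⟨fM, hfM⟩ := hθp
  obtain ⟨S, _, _, φ, hft, hreg, hinj, hsub, hfrac⟩ := h.exists_regular {fM}
  obtain ⟨f, hf⟩ := hsub (Finset.mem_coe.2 (Finset.mem_singleton_self fM))
  haveI : IsDomain S := hinj.isDomain φ.toRingHom
  haveI : IsNoetherianRing S := Algebra.FiniteType.isNoetherianRing A₀ S
  haveI := hft
  letI algSM : Algebra S M := φ.toRingHom.toAlgebra
  haveI : IsScalarTower A₀ S M := IsScalarTower.of_algebraMap_eq (fun x => (φ.commutes x).symm)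
  letI algSL : Algebra S L := ((algebraMap M L).comp (algebraMap S M)).toAlgebra
  haveI : IsScalarTower S M L := IsScalarTower.of_algebraMap_eq (fun x => rfl)
  haveI : IsScalarTower A₀ S L := by
    apply IsScalarTower.of_algebraMap_eq
    intro x
    rw [IsScalarTower.algebraMap_apply A₀ M L, IsScalarTower.algebraMap_apply A₀ S M,
      ← IsScalarTower.algebraMap_apply S M L]
  have hSM : Function.Injective (algebraMap S M) := hinj
  have hSL : Function.Injective (algebraMap S L) := by
    rw [IsScalarTower.algebraMap_eq S M L]
    exact (algebraMap M L).injective.comp hinj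
  haveI : CharP S p := (algebraMap S L).charP hSL p
  have hA₀S : Function.Injective (algebraMap A₀ S) := by
    intro x y hxy
    apply hA₀
    rw [IsScalarTower.algebraMap_apply A₀ S L, IsScalarTower.algebraMap_apply A₀ S L, hxy]
  have hfL : algebraMap S L f = θ ^ p := by
    rw [IsScalarTower.algebraMap_apply S M L, ← hfM]
    congr 1
  -- f is not a p-th power in Frac S
  have hfnot : ∀ x : FractionRing S, x ^ p ≠ algebraMap S (FractionRing S) f := by
    intro x hx
    obtain ⟨a, b, hb, rfl⟩ := IsFractionRing.div_surjective (A := S) x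
    have hb0 : b ≠ 0 := nonZeroDivisors.ne_zero hb
    have hbM : algebraMap S M b ≠ 0 := fun h => hb0 (hSM (h.trans (map_zero _).symm))
    have hbF : algebraMap S (FractionRing S) b ≠ 0 := fun h =>
      hb0 (IsFractionRing.injective S (FractionRing S) (h.trans (map_zero _).symm))
    -- a^p = f b^p in S
    have h1 : a ^ p = f * b ^ p := by
      apply IsFractionRing.injective S (FractionRing S)
      rw [map_pow, map_mul, map_pow, ← hx, div_pow, div_mul_cancel₀]
      exact pow_ne_zero _ hbF
    have h2 : (algebraMap M L (algebraMap S M a / algebraMap S M b)) ^ p = θ ^ p := by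
      rw [← hfL, IsScalarTower.algebraMap_apply S M L, ← map_pow, div_pow, ← map_pow, ← map_pow,
        h1, map_mul, mul_div_assoc, div_self, mul_one]
      rw [map_pow]
      exact pow_ne_zero _ hbM
    have h3 := frobenius_inj L p h2
    exact hθM ⟨_, h3⟩
  obtain ⟨D, hD⟩ := Hder S hA₀S f hfnot
  set a : S := D f with ha
  -- the localization
  haveI hregE₁ : IsRegularRing (Localization.Away a) := by
    apply Groth.Agent.Lib.Helper22.J0.isRegularRing_away S a
    intro q _
    haveI := q.isPrime
    exact isRegularRing_iff.mp hreg q.asIdeal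
  haveI : Algebra.FormallyEtale S (Localization.Away a) :=
    Algebra.FormallyEtale.of_isLocalization (Submonoid.powers a)
  obtain ⟨D₁, hD₁⟩ := exists_derivation_of_formallyEtale S (Localization.Away a) D
  set f₁ : Localization.Away a := algebraMap S (Localization.Away a) f with hf₁
  have hunit : IsUnit (D₁ f₁) := by
    rw [hf₁, hD₁]
    exact IsLocalization.Away.algebraMap_isUnit a
  have hE₁inj : Function.Injective (algebraMap S (Localization.Away a)) :=
    IsLocalization.injective _ (powers_le_nonZeroDivisors_of_noZeroDivisors hD)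
  haveI : CharP (Localization.Away a) p := charP_of_injective_algebraMap hE₁inj p
  haveI hregE' : IsRegularRing (AdjoinRoot (X ^ p - C f₁ : (Localization.Away a)[X])) :=
    Groth.Agent.Lib.Helper22.RegRoot.isRegularRing_adjoinRoot_of_derivation _ p f₁ D₁ hunit
  obtain ⟨ψM, hψMinj, hψM⟩ := exists_away_lift φ hinj a hD
  haveI : IsDomain (Localization.Away a) := hψMinj.isDomain ψM.toRingHom
  letI algE₁M : Algebra (Localization.Away a) M := ψM.toRingHom.toAlgebra
  letI algE₁L : Algebra (Localization.Away a) L :=
    ((algebraMap M L).comp (algebraMap (Localization.Away a) M)).toAlgebra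
  haveI : IsScalarTower (Localization.Away a) M L := IsScalarTower.of_algebraMap_eq (fun x => rfl)
  haveI : IsScalarTower A₀ (Localization.Away a) M :=
    IsScalarTower.of_algebraMap_eq (fun x => (ψM.commutes x).symm)
  haveI : IsScalarTower A₀ (Localization.Away a) L := by
    apply IsScalarTower.of_algebraMap_eq
    intro x
    rw [IsScalarTower.algebraMap_apply A₀ M L,
      IsScalarTower.algebraMap_apply A₀ (Localization.Away a) M,
      ← IsScalarTower.algebraMap_apply (Localization.Away a) M L]
  have hE₁M : Function.Injective (algebraMap (Localization.Away a) M) := hψMinj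
  have hE₁L : Function.Injective (algebraMap (Localization.Away a) L) := by
    rw [IsScalarTower.algebraMap_eq (Localization.Away a) M L]
    exact (algebraMap M L).injective.comp hE₁M
  have hf₁L : algebraMap (Localization.Away a) L f₁ = θ ^ p := by
    rw [IsScalarTower.algebraMap_apply (Localization.Away a) M L, ← hfM]
    congr 1
    change ψM (algebraMap S (Localization.Away a) f) = fM
    rw [hψM, hf]
  have h0 : (X ^ p - C f₁ : (Localization.Away a)[X]).eval₂
      (algebraMap (Localization.Away a) L) θ = 0 := by
    rw [eval₂_sub, eval₂_pow, eval₂_X, eval₂_C, hf₁L, sub_self]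
  have hnot : ∀ x y : Localization.Away a, y ≠ 0 →
      algebraMap (Localization.Away a) L y * θ ≠ algebraMap (Localization.Away a) L x := by
    intro x y hy hxy
    have hyM : algebraMap (Localization.Away a) M y ≠ 0 := fun h =>
      hy (hE₁M (h.trans (map_zero _).symm))
    apply hθM
    refine ⟨algebraMap (Localization.Away a) M x / algebraMap (Localization.Away a) M y, ?_⟩
    rw [map_div₀, ← IsScalarTower.algebraMap_apply, ← IsScalarTower.algebraMap_apply, ← hxy,
      mul_div_cancel_left₀]
    exact fun h => hy (hE₁L (h.trans (map_zero _).symm))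
  have hlinj := adjoinRoot_lift_injective hE₁L p f₁ θ hf₁L.symm hnot h0
  let φ' : AdjoinRoot (X ^ p - C f₁ : (Localization.Away a)[X]) →ₐ[A₀] L :=
    AdjoinRoot.liftAlgHom (X ^ p - C f₁ : (Localization.Away a)[X])
      (IsScalarTower.toAlgHom A₀ (Localization.Away a) L) θ h0
  have hφ'inj : Function.Injective φ' := hlinj
  have hφ'of : ∀ x : Localization.Away a, φ' (AdjoinRoot.of _ x) = algebraMap _ L x := by
    intro x
    exact AdjoinRoot.lift_of h0
  have hφ'root : φ' (AdjoinRoot.root _) = θ := AdjoinRoot.lift_root h0
  haveI : IsDomain (AdjoinRoot (X ^ p - C f₁ : (Localization.Away a)[X])) :=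
    hφ'inj.isDomain φ'.toRingHom
  haveI : Algebra.FinitePresentation S (Localization.Away a) :=
    IsLocalization.Away.finitePresentation a
  haveI : Algebra.FiniteType S (Localization.Away a) := inferInstance
  haveI : Algebra.FiniteType A₀ (Localization.Away a) := Algebra.FiniteType.trans hft inferInstance
  refine ⟨AdjoinRoot (X ^ p - C f₁ : (Localization.Away a)[X]), inferInstance, inferInstance, φ',
    inferInstance, isJ0_of_isRegularRing _, hφ'inj, ?_⟩
  -- fractions
  have key : ∀ z : L, ∃ x y : AdjoinRoot (X ^ p - C f₁ : (Localization.Away a)[X]),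
      φ' y ≠ 0 ∧ z = φ' x / φ' y := by
    intro z
    have hz : z ∈ Algebra.adjoin M {θ} := by rw [htop]; trivial
    induction hz using Algebra.adjoin_induction with
    | mem x hx =>
      rw [Set.mem_singleton_iff] at hx
      refine ⟨AdjoinRoot.root _, 1, ?_, ?_⟩
      · rw [map_one]; exact one_ne_zero
      · rw [hφ'root, map_one, div_one, hx]
    | algebraMap m =>
      obtain ⟨x, y, hxy⟩ := hfrac m
      by_cases hy : φ y = 0
      · refine ⟨0, 1, ?_, ?_⟩
        · rw [map_one]; exact one_ne_zero
        · rw [hxy, hy, div_zero, map_zero, map_zero, zero_div]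
      · refine ⟨AdjoinRoot.of _ (algebraMap S _ x), AdjoinRoot.of _ (algebraMap S _ y), ?_, ?_⟩
        · rw [hφ'of, IsScalarTower.algebraMap_apply (Localization.Away a) M L]
          change algebraMap M L (ψM (algebraMap S (Localization.Away a) y)) ≠ 0
          rw [hψM]
          exact fun h => hy ((algebraMap M L).injective (h.trans (map_zero _).symm))
        · rw [hφ'of, hφ'of, IsScalarTower.algebraMap_apply (Localization.Away a) M L,
            IsScalarTower.algebraMap_apply (Localization.Away a) M L]
          change _ = algebraMap M L (ψM _) / algebraMap M L (ψM _)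
          rw [hψM, hψM, ← map_div₀, ← hxy]
    | add z w _ _ hz hw =>
      obtain ⟨x, y, hy, rfl⟩ := hz
      obtain ⟨x', y', hy', rfl⟩ := hw
      refine ⟨x * y' + x' * y, y * y', ?_, ?_⟩
      · rw [map_mul]; exact mul_ne_zero hy hy'
      · rw [map_add, map_mul, map_mul, map_mul]
        field_simp
    | mul z w _ _ hz hw =>
      obtain ⟨x, y, hy, rfl⟩ := hz
      obtain ⟨x', y', hy', rfl⟩ := hw
      refine ⟨x * x', y * y', ?_, ?_⟩
      · rw [map_mul]; exact mul_ne_zero hy hy'
      · rw [map_mul, map_mul]
        field_simp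
  intro z
  obtain ⟨x, y, -, hxy⟩ := key z
  exact ⟨x, y, hxy⟩

end Groth.Agent.Lib.Helper22.J0Root
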