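import Mathlib
import Groth.Agent.Lib.Helper22.J0RootD
import Groth.Agent.Lib.Helper5.RegSmooth

/-!
# The predicate `QG`: a tower-friendly form of "the generic formal fibre is regular" (helper22)
-/

set_option autoImplicit false
set_option linter.style.haveILetI false
set_option linter.unusedSectionVars false
universe u

namespace Groth.Agent.Lib.Helper22.GRing

open Polynomial TensorProduct Groth.Agent.Lib.Helper22.J0 Groth.Agent.Lib.Helper22.J0Root

/-- `QG A₀ C₀ L`: `L` is the fraction field of a domain `S` of finite type over `A₀` such that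
`C₀ ⊗[A₀] S` is a regular ring. -/
def QG (A₀ C₀ : Type u) [CommRing A₀] [CommRing C₀] [Algebra A₀ C₀] (L : Type u) [Field L]
    [Algebra A₀ L] : Prop :=
  ∃ (S : Type u) (_ : CommRing S) (_ : Algebra A₀ S) (φ : S →ₐ[A₀] L),
    Algebra.FiniteType A₀ S ∧ Function.Injective φ ∧ (∀ z : L, ∃ x y : S, z = φ x / φ y) ∧
      IsRegularRing (C₀ ⊗[A₀] S)

variable {A₀ C₀ : Type u} [CommRing A₀] [CommRing C₀] [Algebra A₀ C₀] [IsNoetherianRing C₀]
  {L : Type u} [Field L] [Algebra A₀ L]

/-- passing to a localization away from a nonzero element -/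
theorem away_data (S : Type u) [CommRing S] [Algebra A₀ S] (φ : S →ₐ[A₀] L)
    (hft : Algebra.FiniteType A₀ S) (hinj : Function.Injective φ)
    (hfrac : ∀ z : L, ∃ x y : S, z = φ x / φ y) (hreg : IsRegularRing (C₀ ⊗[A₀] S))
    (s : S) (hs : s ≠ 0) :
    ∃ ψ : Localization.Away s →ₐ[A₀] L, Algebra.FiniteType A₀ (Localization.Away s) ∧
      Function.Injective ψ ∧ (∀ x : S, ψ (algebraMap S (Localization.Away s) x) = φ x) ∧
      (∀ z : L, ∃ x y : Localization.Away s, z = ψ x / ψ y) ∧
      IsRegularRing (C₀ ⊗[A₀] Localization.Away s) := by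
  haveI : IsDomain S := hinj.isDomain φ.toRingHom
  haveI := hft
  obtain ⟨ψ, hψinj, hψ⟩ := exists_away_lift φ hinj s hs
  haveI : Algebra.FinitePresentation S (Localization.Away s) :=
    IsLocalization.Away.finitePresentation s
  haveI : Algebra.FiniteType S (Localization.Away s) := inferInstance
  refine ⟨ψ, Algebra.FiniteType.trans hft inferInstance, hψinj, hψ, ?_, ?_⟩
  · intro z
    obtain ⟨x, y, hxy⟩ := hfrac z
    exact ⟨algebraMap S _ x, algebraMap S _ y, by rw [hψ, hψ]; exact hxy⟩
  · haveI : IsNoetherianRing (C₀ ⊗[A₀] S) := Algebra.FiniteType.isNoetherianRing C₀ _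
    haveI h1 : IsRegularRing (Localization.Away ((1 : C₀) ⊗ₜ[A₀] s)) := by
      apply Groth.Agent.Lib.Helper22.J0.isRegularRing_away (C₀ ⊗[A₀] S) ((1 : C₀) ⊗ₜ[A₀] s)
      intro q _
      haveI := q.isPrime
      exact isRegularRing_iff.mp hreg q.asIdeal
    let e := IsLocalization.Away.tensorProductEquivTMulRight A₀ C₀ s (Localization.Away s)
    exact IsRegularRing.of_ringEquiv e.symm.toRingEquiv

/-- enlarging the model to contain a given finite set -/
theorem QG.exists_mem (h : QG A₀ C₀ L) (t : Finset L) :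
    ∃ (S : Type u) (_ : CommRing S) (_ : Algebra A₀ S) (φ : S →ₐ[A₀] L),
      Algebra.FiniteType A₀ S ∧ Function.Injective φ ∧ (∀ z : L, ∃ x y : S, z = φ x / φ y) ∧
        IsRegularRing (C₀ ⊗[A₀] S) ∧ (↑t ⊆ Set.range φ) := by
  classical
  obtain ⟨S, _, _, φ, hft, hinj, hfrac, hreg⟩ := h
  haveI : IsDomain S := hinj.isDomain φ.toRingHom
  letI algSL : Algebra S L := φ.toRingHom.toAlgebra
  haveI : FaithfulSMul S L := (faithfulSMul_iff_algebraMap_injective S L).mpr hinj
  haveI : IsFractionRing S L := IsFractionRing.of_field S L hfrac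
  obtain ⟨b, hb⟩ := IsLocalization.exist_integer_multiples_of_finset (nonZeroDivisors S) t
  have hb0 : (b : S) ≠ 0 := nonZeroDivisors.ne_zero b.2
  obtain ⟨ψ, hft', hψinj, hψ, hfrac', hreg'⟩ := away_data S φ hft hinj hfrac hreg (b : S) hb0
  refine ⟨Localization.Away (b : S), inferInstance, inferInstance, ψ, hft', hψinj, hfrac', hreg', ?_⟩
  intro x hx
  obtain ⟨a, ha⟩ := hb x hx
  have hbu : IsUnit (algebraMap S (Localization.Away (b : S)) (b : S)) :=
    IsLocalization.Away.algebraMap_isUnit (b : S)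
  obtain ⟨ub, hub⟩ := hbu
  refine ⟨algebraMap S (Localization.Away (b : S)) a *
    ((ub⁻¹ : (Localization.Away (b : S))ˣ) : Localization.Away (b : S)), ?_⟩
  have h2 : ψ (algebraMap S (Localization.Away (b : S)) (b : S)) *
      ψ (((ub⁻¹ : (Localization.Away (b : S))ˣ) : Localization.Away (b : S))) = 1 := by
    rw [← map_mul, ← hub, Units.mul_inv, map_one]
  have h3 : φ (b : S) * x = φ a := by
    have : (b : S) • x = algebraMap S L a := ha.symm
    rw [Algebra.smul_def] at this
    exact this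
  rw [map_mul, hψ, ← h3]
  rw [hψ] at h2
  calc φ (b : S) * x * ψ (((ub⁻¹ : (Localization.Away (b : S))ˣ) : Localization.Away (b : S)))
      = x * (φ (b : S) * ψ (((ub⁻¹ : (Localization.Away (b : S))ˣ) :
          Localization.Away (b : S)))) := by ring
    _ = x := by rw [h2, mul_one]

/-- the base case -/
theorem QG.base (A₀ C₀ : Type u) [CommRing A₀] [IsDomain A₀] [CommRing C₀] [Algebra A₀ C₀]
    [IsRegularRing C₀] : QG A₀ C₀ (FractionRing A₀) := by
  refine ⟨A₀, inferInstance, inferInstance, Algebra.ofId A₀ (FractionRing A₀), inferInstance,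
    IsFractionRing.injective A₀ (FractionRing A₀), ?_, ?_⟩
  · intro z
    obtain ⟨a, b, -, rfl⟩ := IsFractionRing.div_surjective (A := A₀) z
    exact ⟨a, b, rfl⟩
  · exact IsRegularRing.of_ringEquiv (Algebra.TensorProduct.rid A₀ C₀ C₀).symm.toRingEquiv

end Groth.Agent.Lib.Helper22.GRing
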