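import Mathlib
import Groth.Agent.Lib.Helper22.GRingA
import Groth.Agent.Lib.Helper22.BddDerTensor

/-!
# The `p`-th root step for `QG` (helper22)
-/

set_option autoImplicit false
set_option linter.style.haveILetI false
set_option linter.unusedSectionVars false
universe u

namespace Groth.Agent.Lib.Helper22.GRing

open Polynomial TensorProduct IsLocalRing Groth.Agent.Lib.Helper22.J0 Groth.Agent.Lib.Helper22.J0Root

/-- `A[z]/(z^n - f)` is regular when `A` is regular and a derivation makes `D f` a unit -/
theorem isRegularRing_adjoinRoot_of_derivation' (A : Type u) [CommRing A] [IsRegularRing A]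
    (n : ℕ) (f : A) (D : Derivation ℤ A A) (hD : IsUnit (D f)) :
    IsRegularRing (AdjoinRoot (X ^ n - C f : A[X])) := by
  letI : Differential A := ⟨D⟩
  have h1 : (Differential.mapCoeffs (X ^ n - C f : A[X])) = - C (D f) := by
    rw [map_sub, Derivation.leibniz_pow, Differential.mapCoeffs_X, smul_zero, smul_zero,
      Differential.mapCoeffs_C, zero_sub]
    rfl
  have h2 : IsUnit (Differential.mapCoeffs (X ^ n - C f : A[X])) := by
    rw [h1]
    exact (hD.map (C : A →+* A[X])).neg
  exact Groth.Agent.Lib.Helper22.RegRoot.isRegularRing_quotient_of_derivation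
    (X ^ n - C f : A[X]) Differential.mapCoeffs h2

variable {A₀ C₀ : Type u} [CommRing A₀] [IsNoetherianRing A₀] [CommRing C₀] [Algebra A₀ C₀]
  [IsNoetherianRing C₀] [IsLocalRing C₀] [IsAdicComplete (maximalIdeal C₀) C₀]

theorem QG.of_root (hfs : CAlgX.IsAdicFormallySmooth A₀ C₀ (maximalIdeal C₀))
    (p : ℕ) [hp : Fact p.Prime] (M L : Type u) [Field M] [Field L] [Algebra A₀ M]
    [Algebra A₀ L] [Algebra M L] [IsScalarTower A₀ M L] [CharP L p]
    (hA₀ : Function.Injective (algebraMap A₀ L))
    (Hder : ∀ (E : Type u) [CommRing E] [IsDomain E] [Algebra A₀ E] [Algebra.FiniteType A₀ E],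
      Function.Injective (algebraMap A₀ E) → ∀ f : E,
      (∀ x : FractionRing E, x ^ p ≠ algebraMap E (FractionRing E) f) →
      ∃ (D : Derivation ℤ E E) (J : Type) (_ : Fintype J) (ν : J → E), D f ≠ 0 ∧
        ∀ a : A₀, ∃ c : J → A₀, D (algebraMap A₀ E a) = ∑ j, algebraMap A₀ E (c j) * ν j)
    (θ : L) (hθM : θ ∉ (algebraMap M L).range) (hθp : θ ^ p ∈ (algebraMap M L).range)
    (htop : Algebra.adjoin M {θ} = ⊤) (h : QG A₀ C₀ M) : QG A₀ C₀ L := by
  classical
  obtain ⟨fM, hfM⟩ := hθp
  obtain ⟨S, _, _, φ, hft, hinj, hfrac, hreg, hsub⟩ := h.exists_mem {fM}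
  obtain ⟨f, hf⟩ := hsub (Finset.mem_coe.2 (Finset.mem_singleton_self fM))
  haveI : IsDomain S := hinj.isDomain φ.toRingHom
  haveI : IsNoetherianRing S := Algebra.FiniteType.isNoetherianRing A₀ S
  haveI := hft
  letI algSM : Algebra S M := φ.toRingHom.toAlgebra
  haveI : IsScalarTower A₀ S M := IsScalarTower.of_algebraMap_eq (fun x => (φ.commutes x).symm)
  letI algSL : Algebra S L := ((algebraMap M L).comp (algebraMap S M)).toAlgebra
  haveI : IsScalarTower S M L := IsScalarTower.of_algebraMap_eq (fun x => rfl)
  haveI : IsScalarTower A₀ S L := by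
    apply IsScalarTower.of_algebraMap_eq
    intro x
    rw [IsScalarTower.algebraMap_apply A₀ M L, IsScalarTower.algebraMap_apply A₀ S M,
      ← IsScalarTower.algebraMap_apply S M L]
  have hSM : Function.Injective (algebraMap S M) := hinj
  have hSL : Function.Injective (algebraMap S L) := by
    rw [IsScalarTower.algebraMap_eq S M L]
    exact (algebraMap M L).injective.comp hinj
  haveI : CharP S p := (algebraMap S L).charP hSL p
  have hA₀S : Function.Injective (algebraMap A₀ S) := by
    intro x y hxy
    apply hA₀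
    rw [IsScalarTower.algebraMap_apply A₀ S L, IsScalarTower.algebraMap_apply A₀ S L, hxy]
  have hfL : algebraMap S L f = θ ^ p := by
    rw [IsScalarTower.algebraMap_apply S M L, ← hfM]
    congr 1
  -- f is not a p-th power in Frac S
  have hfnot : ∀ x : FractionRing S, x ^ p ≠ algebraMap S (FractionRing S) f := by
    intro x hx
    obtain ⟨a, b, hb, rfl⟩ := IsFractionRing.div_surjective (A := S) x
    have hb0 : b ≠ 0 := nonZeroDivisors.ne_zero hb
    have hbM : algebraMap S M b ≠ 0 := fun h => hb0 (hSM (h.trans (map_zero _).symm))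
    have hbF : algebraMap S (FractionRing S) b ≠ 0 := fun h =>
      hb0 (IsFractionRing.injective S (FractionRing S) (h.trans (map_zero _).symm))
    -- a^p = f b^p in S
    have h1 : a ^ p = f * b ^ p := by
      apply IsFractionRing.injective S (FractionRing S)
      rw [map_pow, map_mul, map_pow, ← hx, div_pow, div_mul_cancel₀]
      exact pow_ne_zero _ hbF
    have h2 : (algebraMap M L (algebraMap S M a / algebraMap S M b)) ^ p = θ ^ p := by
      rw [← hfL, IsScalarTower.algebraMap_apply S M L, ← map_pow, div_pow, ← map_pow, ← map_pow,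
        h1, map_mul, mul_div_assoc, div_self, mul_one]
      rw [map_pow]
      exact pow_ne_zero _ hbM
    have h3 := frobenius_inj L p h2
    exact hθM ⟨_, h3⟩
  obtain ⟨D, J, _, ν, hD, hbdd⟩ := Hder S hA₀S f hfnot
  set a : S := D f with ha
  -- the localization
  obtain ⟨ψM, hftS₁, hψMinj, hψM, hfrac₁, hreg₁⟩ := away_data (C₀ := C₀) S φ hft hinj hfrac hreg a hD
  haveI : Algebra.FormallyEtale S (Localization.Away a) :=
    Algebra.FormallyEtale.of_isLocalization (Submonoid.powers a)
  obtain ⟨D₁, hD₁⟩ := exists_derivation_of_formallyEtale S (Localization.Away a) D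
  set f₁ : Localization.Away a := algebraMap S (Localization.Away a) f with hf₁
  have hunit : IsUnit (D₁ f₁) := by
    rw [hf₁, hD₁]
    exact IsLocalization.Away.algebraMap_isUnit a
  have hE₁inj : Function.Injective (algebraMap S (Localization.Away a)) :=
    IsLocalization.injective _ (powers_le_nonZeroDivisors_of_noZeroDivisors hD)
  -- the derivation of the tensor product
  have hbdd₁ : ∀ x : A₀, ∃ c : J → A₀, D₁ (algebraMap A₀ (Localization.Away a) x) =
      ∑ j, algebraMap A₀ (Localization.Away a) (c j) * algebraMap S (Localization.Away a) (ν j) := by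
    intro x
    obtain ⟨c, hc⟩ := hbdd x
    refine ⟨c, ?_⟩
    rw [IsScalarTower.algebraMap_apply A₀ S (Localization.Away a), hD₁, hc, map_sum]
    apply Finset.sum_congr rfl
    intro j _
    rw [map_mul, ← IsScalarTower.algebraMap_apply A₀ S (Localization.Away a)]
  obtain ⟨DT, hDT⟩ :=
    Groth.Agent.Lib.Helper22.BddDerTensor.exists_derivation_tensor_of_bounded A₀ C₀
      (Localization.Away a) hfs D₁ J (fun j => algebraMap S (Localization.Away a) (ν j)) hbdd₁
  have hunitT : IsUnit (DT ((1 : C₀) ⊗ₜ[A₀] f₁)) := by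
    rw [hDT]
    exact hunit.map (Algebra.TensorProduct.includeRight : Localization.Away a →ₐ[A₀]
      C₀ ⊗[A₀] Localization.Away a)
  haveI := hreg₁
  have hregT : IsRegularRing (AdjoinRoot (X ^ p - C ((1 : C₀) ⊗ₜ[A₀] f₁) :
      (C₀ ⊗[A₀] Localization.Away a)[X])) :=
    isRegularRing_adjoinRoot_of_derivation' _ p _ DT hunitT
  have hregT' : IsRegularRing (C₀ ⊗[A₀] AdjoinRoot (X ^ p - C f₁ : (Localization.Away a)[X])) := by
    have hmap : (X ^ p - C f₁ : (Localization.Away a)[X]).map
        (Algebra.TensorProduct.includeRight : Localization.Away a →ₐ[A₀]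
          C₀ ⊗[A₀] Localization.Away a).toRingHom =
        (X ^ p - C ((1 : C₀) ⊗ₜ[A₀] f₁) : (C₀ ⊗[A₀] Localization.Away a)[X]) := by
      rw [Polynomial.map_sub, Polynomial.map_pow, Polynomial.map_X, Polynomial.map_C]
      rfl
    let e := AdjoinRoot.tensorAlgEquiv (R := A₀) (T := C₀)
      (X ^ p - C f₁ : (Localization.Away a)[X]) _ hmap
    exact IsRegularRing.of_ringEquiv e.symm.toRingEquiv
  haveI : IsDomain (Localization.Away a) := hψMinj.isDomain ψM.toRingHom
  letI algE₁M : Algebra (Localization.Away a) M := ψM.toRingHom.toAlgebra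
  letI algE₁L : Algebra (Localization.Away a) L :=
    ((algebraMap M L).comp (algebraMap (Localization.Away a) M)).toAlgebra
  haveI : IsScalarTower (Localization.Away a) M L := IsScalarTower.of_algebraMap_eq (fun x => rfl)
  haveI : IsScalarTower A₀ (Localization.Away a) M :=
    IsScalarTower.of_algebraMap_eq (fun x => (ψM.commutes x).symm)
  haveI : IsScalarTower A₀ (Localization.Away a) L := by
    apply IsScalarTower.of_algebraMap_eq
    intro x
    rw [IsScalarTower.algebraMap_apply A₀ M L,
      IsScalarTower.algebraMap_apply A₀ (Localization.Away a) M,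
      ← IsScalarTower.algebraMap_apply (Localization.Away a) M L]
  have hE₁M : Function.Injective (algebraMap (Localization.Away a) M) := hψMinj
  have hE₁L : Function.Injective (algebraMap (Localization.Away a) L) := by
    rw [IsScalarTower.algebraMap_eq (Localization.Away a) M L]
    exact (algebraMap M L).injective.comp hE₁M
  have hf₁L : algebraMap (Localization.Away a) L f₁ = θ ^ p := by
    rw [IsScalarTower.algebraMap_apply (Localization.Away a) M L, ← hfM]
    congr 1
    change ψM (algebraMap S (Localization.Away a) f) = fM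
    rw [hψM, hf]
  have h0 : (X ^ p - C f₁ : (Localization.Away a)[X]).eval₂
      (algebraMap (Localization.Away a) L) θ = 0 := by
    rw [eval₂_sub, eval₂_pow, eval₂_X, eval₂_C, hf₁L, sub_self]
  have hnot : ∀ x y : Localization.Away a, y ≠ 0 →
      algebraMap (Localization.Away a) L y * θ ≠ algebraMap (Localization.Away a) L x := by
    intro x y hy hxy
    have hyM : algebraMap (Localization.Away a) M y ≠ 0 := fun h =>
      hy (hE₁M (h.trans (map_zero _).symm))
    apply hθM
    refine ⟨algebraMap (Localization.Away a) M x / algebraMap (Localization.Away a) M y, ?_⟩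
    rw [map_div₀, ← IsScalarTower.algebraMap_apply, ← IsScalarTower.algebraMap_apply, ← hxy,
      mul_div_cancel_left₀]
    exact fun h => hy (hE₁L (h.trans (map_zero _).symm))
  have hlinj := adjoinRoot_lift_injective hE₁L p f₁ θ hf₁L.symm hnot h0
  let φ' : AdjoinRoot (X ^ p - C f₁ : (Localization.Away a)[X]) →ₐ[A₀] L :=
    AdjoinRoot.liftAlgHom (X ^ p - C f₁ : (Localization.Away a)[X])
      (IsScalarTower.toAlgHom A₀ (Localization.Away a) L) θ h0
  have hφ'inj : Function.Injective φ' := hlinj
  have hφ'of : ∀ x : Localization.Away a, φ' (AdjoinRoot.of _ x) = algebraMap _ L x := by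
    intro x
    exact AdjoinRoot.lift_of h0
  have hφ'root : φ' (AdjoinRoot.root _) = θ := AdjoinRoot.lift_root h0
  haveI : IsDomain (AdjoinRoot (X ^ p - C f₁ : (Localization.Away a)[X])) :=
    hφ'inj.isDomain φ'.toRingHom
  haveI : Algebra.FinitePresentation S (Localization.Away a) :=
    IsLocalization.Away.finitePresentation a
  haveI : Algebra.FiniteType S (Localization.Away a) := inferInstance
  haveI : Algebra.FiniteType A₀ (Localization.Away a) := Algebra.FiniteType.trans hft inferInstance
  refine ⟨AdjoinRoot (X ^ p - C f₁ : (Localization.Away a)[X]), inferInstance, inferInstance, φ',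
    inferInstance, hφ'inj, ?_, hregT'⟩
  -- fractions
  have key : ∀ z : L, ∃ x y : AdjoinRoot (X ^ p - C f₁ : (Localization.Away a)[X]),
      φ' y ≠ 0 ∧ z = φ' x / φ' y := by
    intro z
    have hz : z ∈ Algebra.adjoin M {θ} := by rw [htop]; trivial
    induction hz using Algebra.adjoin_induction with
    | mem x hx =>
      rw [Set.mem_singleton_iff] at hx
      refine ⟨AdjoinRoot.root _, 1, ?_, ?_⟩
      · rw [map_one]; exact one_ne_zero
      · rw [hφ'root, map_one, div_one, hx]
    | algebraMap m =>
      obtain ⟨x, y, hxy⟩ := hfrac m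
      by_cases hy : φ y = 0
      · refine ⟨0, 1, ?_, ?_⟩
        · rw [map_one]; exact one_ne_zero
        · rw [hxy, hy, div_zero, map_zero, map_zero, zero_div]
      · refine ⟨AdjoinRoot.of _ (algebraMap S _ x), AdjoinRoot.of _ (algebraMap S _ y), ?_, ?_⟩
        · rw [hφ'of, IsScalarTower.algebraMap_apply (Localization.Away a) M L]
          change algebraMap M L (ψM (algebraMap S (Localization.Away a) y)) ≠ 0
          rw [hψM]
          exact fun h => hy ((algebraMap M L).injective (h.trans (map_zero _).symm))
        · rw [hφ'of, hφ'of, IsScalarTower.algebraMap_apply (Localization.Away a) M L,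
            IsScalarTower.algebraMap_apply (Localization.Away a) M L]
          change _ = algebraMap M L (ψM _) / algebraMap M L (ψM _)
          rw [hψM, hψM, ← map_div₀, ← hxy]
    | add z w _ _ hz hw =>
      obtain ⟨x, y, hy, rfl⟩ := hz
      obtain ⟨x', y', hy', rfl⟩ := hw
      refine ⟨x * y' + x' * y, y * y', ?_, ?_⟩
      · rw [map_mul]; exact mul_ne_zero hy hy'
      · rw [map_add, map_mul, map_mul, map_mul]
        field_simp
    | mul z w _ _ hz hw =>
      obtain ⟨x, y, hy, rfl⟩ := hz
      obtain ⟨x', y', hy', rfl⟩ := hw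
      refine ⟨x * x', y * y', ?_, ?_⟩
      · rw [map_mul]; exact mul_ne_zero hy hy'
      · rw [map_mul, map_mul]
        field_simp
  intro z
  obtain ⟨x, y, -, hxy⟩ := key z
  exact ⟨x, y, hxy⟩


end Groth.Agent.Lib.Helper22.GRing
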