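import Mathlib
import Groth.Agent.Lib.Helper5.RegSmooth
import Groth.Agent.Lib.Helper5.SerreLoc

/-!
# Generic étaleness in characteristic zero and regularity of étale base changes (helper22)
-/

set_option autoImplicit false
set_option linter.style.haveILetI false
set_option linter.unusedSectionVars false
universe u

namespace Groth.Agent.Lib.Helper22.GenFib

open IsLocalRing TensorProduct

/-- In characteristic zero the generic point is étale. -/
theorem isEtaleAt_bot {R S : Type*} [CommRing R] [CommRing S] [Algebra R S] [IsDomain R]
    [IsDomain S] [Module.IsTorsionFree R S] [CharZero R] [Algebra.IsIntegral R S] :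
    Algebra.IsEtaleAt R (⊥ : Ideal S) := by
  have : IsFractionRing S (Localization.AtPrime (⊥ : Ideal S)) := by
    simpa [Ideal.primeCompl_bot] using Localization.isLocalization (M := (⊥ : Ideal S).primeCompl)
  let : Field (Localization.AtPrime (⊥ : Ideal S)) := IsFractionRing.toField S
  have : FaithfulSMul R (Localization.AtPrime (⊥ : Ideal S)) := by
    rw [faithfulSMul_iff_algebraMap_injective,
      IsScalarTower.algebraMap_eq R S (Localization.AtPrime ⊥)]
    exact (IsFractionRing.injective S _).comp (FaithfulSMul.algebraMap_injective R S)
  let := FractionRing.liftAlgebra R (Localization.AtPrime (⊥ : Ideal S))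
  have : Algebra.IsAlgebraic (FractionRing R) (Localization.AtPrime ⊥) :=
    isAlgebraic_of_isFractionRing R S (FractionRing R)
      (Localization.AtPrime (⊥ : Ideal S))
  have : Algebra.FormallyEtale (FractionRing R) (Localization.AtPrime (⊥ : Ideal S)) :=
    Algebra.FormallyEtale.of_isSeparable _ _
  haveI : Algebra.FormallyEtale R (FractionRing R) :=
    Algebra.FormallyEtale.of_isLocalization (nonZeroDivisors R)
  exact Algebra.FormallyEtale.comp R (FractionRing R) (Localization.AtPrime ⊥)

/-- generic étaleness of a finite extension of domains in characteristic zero -/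
theorem exists_etale_away (A B : Type*) [CommRing A] [CommRing B] [Algebra A B] [IsDomain A]
    [IsNoetherianRing A] [CharZero A] [IsDomain B] [Module.Finite A B]
    (hinj : Function.Injective (algebraMap A B)) :
    ∃ g : B, g ≠ 0 ∧ Algebra.Etale A (Localization.Away g) := by
  haveI : FaithfulSMul A B := (faithfulSMul_iff_algebraMap_injective A B).mpr hinj
  haveI : Module.IsTorsionFree A B := inferInstance
  haveI : Algebra.FinitePresentation A B := Algebra.FinitePresentation.of_finiteType.mp inferInstance
  haveI := isEtaleAt_bot (R := A) (S := B)
  obtain ⟨g, hg, hét⟩ := Algebra.exists_etale_of_isEtaleAt (R := A) (⊥ : Ideal B)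
  exact ⟨g, fun h => hg (h ▸ Ideal.zero_mem _), hét⟩

/-- if `T[1/t]` is regular then `T` is regular at primes not containing `t` -/
theorem isRegularLocalRing_atPrime_of_away {T : Type u} [CommRing T] (t : T)
    [IsRegularRing (Localization.Away t)] (P : Ideal T) [P.IsPrime] (ht : t ∉ P) :
    IsRegularLocalRing (Localization.AtPrime P) := by
  have hdisj : Disjoint (Submonoid.powers t : Set T) (P : Set T) :=
    (Ideal.disjoint_powers_iff_notMem_of_isPrime _).mpr ht
  set P' : Ideal (Localization.Away t) := P.map (algebraMap T (Localization.Away t)) with hP'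
  haveI hP'prime : P'.IsPrime :=
    IsLocalization.isPrime_of_isPrime_disjoint (Submonoid.powers t) _ P inferInstance hdisj
  have hcomap : P'.comap (algebraMap T (Localization.Away t)) = P :=
    IsLocalization.under_map_of_isPrime_disjoint (Submonoid.powers t) _ inferInstance hdisj
  have hreg : IsRegularLocalRing (Localization.AtPrime P') :=
    IsRegularRing.isRegularLocalRing_localization P'
  haveI hloc : IsLocalization.AtPrime (Localization.AtPrime P') P := by
    have := IsLocalization.isLocalization_isLocalization_atPrime_isLocalization
      (Submonoid.powers t) (Localization.AtPrime P') P'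
    have heq : (P'.comap (algebraMap T (Localization.Away t))).primeCompl = P.primeCompl := by
      ext x
      simp only [Ideal.mem_primeCompl_iff]
      rw [hcomap]
    change IsLocalization P.primeCompl _
    rw [← heq]
    exact this
  let e : Localization.AtPrime P' ≃ₐ[T] Localization.AtPrime P :=
    IsLocalization.algEquiv P.primeCompl _ _
  exact IsRegularLocalRing.of_ringEquiv e.toRingEquiv

/-- base change of a generically étale algebra to a regular ring is regular away from `g` -/
theorem isRegularLocalRing_tensor_of_etale_away (R Rh B : Type u) [CommRing R] [CommRing Rh]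
    [CommRing B] [Algebra R Rh] [Algebra R B] [IsRegularRing Rh] (g : B)
    [Algebra.Etale R (Localization.Away g)] (P : Ideal (Rh ⊗[R] B)) [P.IsPrime]
    (hg : (1 : Rh) ⊗ₜ[R] g ∉ P) : IsRegularLocalRing (Localization.AtPrime P) := by
  have h1 : IsRegularRing (Rh ⊗[R] Localization.Away g) :=
    Groth.Agent.Lib.Helper5.RegSmooth.isRegularRing_of_etale Rh _
  let E := IsLocalization.Away.tensorProductEquivTMulRight R Rh g (Localization.Away g)
  haveI : IsRegularRing (Localization.Away ((1 : Rh) ⊗ₜ[R] g)) :=
    IsRegularRing.of_ringEquiv E.toRingEquiv
  exact isRegularLocalRing_atPrime_of_away _ P hg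

theorem isRegularRing_of_isRegularLocalRing (R : Type u) [CommRing R] [IsRegularLocalRing R] :
    IsRegularRing R :=
  ⟨fun p _ => Groth.Agent.Lib.Helper5.SerreLoc.localization_regular R p⟩

end Groth.Agent.Lib.Helper22.GenFib
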