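import Mathlib
import Groth.Agent.Lib.Helper22.J0RootB

/-!
# The separable step for `QJ` (helper22)
-/

set_option autoImplicit false
set_option linter.style.haveILetI false
set_option linter.unusedSectionVars false
universe u

namespace Groth.Agent.Lib.Helper22.J0Root

open Polynomial Groth.Agent.Lib.Helper22.J0

variable {A₀ : Type u} [CommRing A₀] [IsNoetherianRing A₀]

theorem QJ.of_separable (M L : Type u) [Field M] [Field L] [Algebra A₀ M] [Algebra A₀ L]
    [Algebra M L] [IsScalarTower A₀ M L] [FiniteDimensional M L] [Algebra.IsSeparable M L]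
    (h : QJ A₀ M) : QJ A₀ L := by
  classical
  obtain ⟨S, _, _, φ, hft, hJ, hinj, hfrac⟩ := h
  haveI : IsDomain S := hinj.isDomain φ.toRingHom
  haveI : IsNoetherianRing S := Algebra.FiniteType.isNoetherianRing A₀ S
  letI algSM : Algebra S M := φ.toRingHom.toAlgebra
  haveI : IsScalarTower A₀ S M := IsScalarTower.of_algebraMap_eq (fun x => (φ.commutes x).symm)
  haveI : FaithfulSMul S M := (faithfulSMul_iff_algebraMap_injective S M).mpr hinj
  haveI : IsFractionRing S M := IsFractionRing.of_field S M hfrac
  letI algSL : Algebra S L := ((algebraMap M L).comp (algebraMap S M)).toAlgebra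
  haveI : IsScalarTower S M L := IsScalarTower.of_algebraMap_eq (fun x => rfl)
  haveI : IsScalarTower A₀ S L := by
    apply IsScalarTower.of_algebraMap_eq
    intro x
    rw [IsScalarTower.algebraMap_apply A₀ M L, IsScalarTower.algebraMap_apply A₀ S M,
      ← IsScalarTower.algebraMap_apply S M L]
  have hSL : Function.Injective (algebraMap S L) := by
    rw [IsScalarTower.algebraMap_eq S M L]
    exact (algebraMap M L).injective.comp hinj
  let b := Module.finBasis M L
  let s : Finset L := Finset.univ.image b
  let S₀ : Subalgebra S L := Algebra.adjoin S (s : Set L)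
  haveI hftS₀ : Algebra.FiniteType S S₀ :=
    (Subalgebra.fg_iff_finiteType _).mp (Subalgebra.fg_adjoin_finset s)
  haveI : Algebra.FiniteType A₀ S₀ := Algebra.FiniteType.trans hft hftS₀
  have hb_mem : ∀ i, b i ∈ S₀ := fun i =>
    Algebra.subset_adjoin (Finset.mem_coe.2 (Finset.mem_image_of_mem b (Finset.mem_univ i)))
  -- fractions
  have hfracL : ∀ z : L, ∃ x y : S₀, z = algebraMap S₀ L x / algebraMap S₀ L y := by
    intro z
    obtain ⟨d, hd⟩ := IsLocalization.exist_integer_multiples_of_finset (nonZeroDivisors S)
      (Finset.univ.image (fun i => b.repr z i))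
    have hd0 : (d : S) ≠ 0 := nonZeroDivisors.ne_zero d.2
    have hmem : (d : S) • z ∈ S₀ := by
      have hz : (d : S) • z = (d : S) • ∑ i, b.repr z i • b i := by rw [b.sum_repr z]
      rw [hz, Finset.smul_sum]
      apply Subalgebra.sum_mem
      intro i _
      obtain ⟨a, ha⟩ := hd (b.repr z i) (Finset.mem_image_of_mem _ (Finset.mem_univ i))
      have : (d : S) • (b.repr z i • b i) = a • b i := by
        rw [← smul_assoc, ← ha, algebraMap_smul]
      rw [this]
      exact Subalgebra.smul_mem _ (hb_mem i) a
    refine ⟨⟨(d : S) • z, hmem⟩, algebraMap S S₀ d, ?_⟩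
    have h1 : algebraMap S₀ L (algebraMap S S₀ d) = algebraMap S L d := rfl
    have h2 : algebraMap S₀ L ⟨(d : S) • z, hmem⟩ = (d : S) • z := rfl
    rw [h1, h2, Algebra.smul_def, mul_div_assoc, mul_comm, div_mul_cancel₀]
    · exact fun h => hd0 (hSL (h.trans (map_zero _).symm))
  haveI : IsFractionRing S₀ L := IsFractionRing.of_field S₀ L hfracL
  have hinjS₀ : Function.Injective (algebraMap S S₀) := by
    intro x y hxy
    apply hSL
    exact congrArg (fun z : S₀ => (z : L)) hxy
  -- formal smoothness
  haveI : Algebra.FormallySmooth S M := Algebra.FormallySmooth.of_isLocalization (nonZeroDivisors S)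
  haveI : Algebra.FormallyEtale M L := Algebra.FormallyEtale.of_isSeparable M L
  haveI : Algebra.FormallySmooth S L := Algebra.FormallySmooth.comp S M L
  let e : L ≃ₐ[S] FractionRing S₀ := ((FractionRing.algEquiv S₀ L).symm).restrictScalars S
  have hsm : Algebra.FormallySmooth S (FractionRing S₀) := Algebra.FormallySmooth.of_equiv e
  have hJ₀ : IsJ0 S₀ := IsJ0.ascend_core S S₀ hinjS₀ hsm hJ
  refine ⟨S₀, inferInstance, inferInstance, (S₀.val).restrictScalars A₀, inferInstance, hJ₀,
    Subtype.val_injective, hfracL⟩

end Groth.Agent.Lib.Helper22.J0Root
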