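import Mathlib
import Groth.Agent.Lib.Helper22.J0RootC
import Groth.Agent.Lib.Helper22.J0RootD
import Groth.Agent.Lib.Helper5.CartierFinite

/-!
# The induction: `QJ` passes to finite extensions (helper22)
-/

set_option autoImplicit false
set_option linter.style.haveILetI false
set_option linter.unusedSectionVars false
universe u

namespace Groth.Agent.Lib.Helper22.J0Root

open Polynomial Groth.Agent.Lib.Helper22.J0 Module IntermediateField

variable {A₀ : Type u} [CommRing A₀] [IsNoetherianRing A₀]

theorem QJ.of_finite_aux (p : ℕ) [hp : Fact p.Prime]
    (Hder : ∀ (E : Type u) [CommRing E] [IsDomain E] [Algebra A₀ E] [Algebra.FiniteType A₀ E],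
      Function.Injective (algebraMap A₀ E) → ∀ f : E,
      (∀ x : FractionRing E, x ^ p ≠ algebraMap E (FractionRing E) f) →
      ∃ D : Derivation ℤ E E, D f ≠ 0) :
    ∀ (n : ℕ) (M L : Type u) [Field M] [Field L] [Algebra A₀ M] [Algebra A₀ L] [Algebra M L]
      [IsScalarTower A₀ M L] [CharP L p] [FiniteDimensional M L],
      Function.Injective (algebraMap A₀ L) → finrank M L ≤ n → QJ A₀ M → QJ A₀ L := by
  intro n
  induction n with
  | zero =>
    intro M L _ _ _ _ _ _ _ _ _ h _
    have := Module.finrank_pos (R := M) (M := L)
    omega
  | succ n ih =>
    intro M L _ _ _ _ _ _ _ _ hA₀ hn hM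
    by_cases hsep : Algebra.IsSeparable M L
    · exact QJ.of_separable M L hM
    · haveI : CharP M p := (algebraMap M L).charP (algebraMap M L).injective p
      haveI : IsPurelyInseparable (separableClosure M L) L :=
        separableClosure.isPurelyInseparable M L
      have hS_ne : separableClosure M L ≠ ⊤ := fun h => hsep ((separableClosure.eq_top_iff M L).1 h)
      have hnsurj : ¬ Function.Surjective (algebraMap (separableClosure M L) L) := by
        intro hs
        apply hS_ne
        rw [eq_top_iff]
        intro y _
        obtain ⟨a, rfl⟩ := hs y
        exact a.2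
      haveI : CharP (separableClosure M L) p :=
        (algebraMap (separableClosure M L) L).charP (algebraMap (separableClosure M L) L).injective p
      haveI : ExpChar (separableClosure M L) p := ExpChar.prime hp.out
      obtain ⟨x, hx, hxq⟩ :=
        Groth.Agent.Lib.Helper5.Cartier.exists_root_step (separableClosure M L) L p hnsurj
      have h1 : QJ A₀ (separableClosure M L) := QJ.of_separable M (separableClosure M L) hM
      haveI : IsScalarTower A₀ (separableClosure M L) L :=
        IsScalarTower.of_algebraMap_eq (fun x => rfl)
      haveI : IsScalarTower A₀ (separableClosure M L)⟮x⟯ L :=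
        IsScalarTower.of_algebraMap_eq (fun x => rfl)
      haveI : CharP (separableClosure M L)⟮x⟯ p :=
        (algebraMap (separableClosure M L)⟮x⟯ L).charP
          (algebraMap (separableClosure M L)⟮x⟯ L).injective p
      have hA₀' : Function.Injective (algebraMap A₀ (separableClosure M L)⟮x⟯) := by
        intro a b hab
        apply hA₀
        rw [IsScalarTower.algebraMap_apply A₀ (separableClosure M L)⟮x⟯ L,
          IsScalarTower.algebraMap_apply A₀ (separableClosure M L)⟮x⟯ L, hab]
      obtain ⟨c, hc⟩ := hxq
      have hc' : algebraMap (separableClosure M L) (separableClosure M L)⟮x⟯ c =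
          (AdjoinSimple.gen (separableClosure M L) x) ^ p := by
        apply Subtype.ext
        change algebraMap (separableClosure M L) L c = _
        rw [hc]
        simp
      have hx' : AdjoinSimple.gen (separableClosure M L) x ∉
          (algebraMap (separableClosure M L) (separableClosure M L)⟮x⟯).range := by
        rintro ⟨a, ha⟩
        apply hx
        refine ⟨a, ?_⟩
        have := congrArg (fun z : (separableClosure M L)⟮x⟯ => (z : L)) ha
        simpa using this
      have hint : IsIntegral (separableClosure M L) x := by
        refine ⟨Polynomial.X ^ p - Polynomial.C c,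
          Polynomial.monic_X_pow_sub_C c hp.out.ne_zero, ?_⟩
        simp [hc]
      have htop : Algebra.adjoin (separableClosure M L)
          {AdjoinSimple.gen (separableClosure M L) x} = ⊤ := by
        have := (adjoin.powerBasis hint).adjoin_gen_eq_top
        rwa [adjoin.powerBasis_gen] at this
      have h2 : QJ A₀ (separableClosure M L)⟮x⟯ :=
        QJ.of_root p (separableClosure M L) (separableClosure M L)⟮x⟯ hA₀' Hder
          (AdjoinSimple.gen (separableClosure M L) x) hx' ⟨c, hc'⟩ htop h1
      have hlt : finrank (separableClosure M L)⟮x⟯ L ≤ n := by
        have e1 := Module.finrank_mul_finrank M (separableClosure M L) L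
        have e2 := Module.finrank_mul_finrank (separableClosure M L)
          (separableClosure M L)⟮x⟯ L
        have p1 := Module.finrank_pos (R := M) (M := separableClosure M L)
        have p2 := Module.finrank_pos (R := separableClosure M L)
          (M := (separableClosure M L)⟮x⟯)
        have p3 := Module.finrank_pos (R := (separableClosure M L)⟮x⟯) (M := L)
        have hne1 : finrank (separableClosure M L) (separableClosure M L)⟮x⟯ ≠ 1 := by
          intro h1'
          rw [finrank_adjoin_simple_eq_one_iff, IntermediateField.mem_bot] at h1'
          exact hx h1'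
        have hb : 2 ≤ finrank (separableClosure M L) (separableClosure M L)⟮x⟯ := by omega
        have h2c : 2 * finrank (separableClosure M L)⟮x⟯ L ≤ finrank M L := by
          rw [← e1, ← e2]
          calc 2 * finrank (separableClosure M L)⟮x⟯ L
              ≤ finrank (separableClosure M L) (separableClosure M L)⟮x⟯ *
                  finrank (separableClosure M L)⟮x⟯ L := Nat.mul_le_mul_right _ hb
            _ ≤ finrank M (separableClosure M L) *
                  (finrank (separableClosure M L) (separableClosure M L)⟮x⟯ *
                    finrank (separableClosure M L)⟮x⟯ L) := Nat.le_mul_of_pos_left _ p1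
        omega
      exact ih (separableClosure M L)⟮x⟯ L hA₀ hlt h2

/-- `QJ` passes to finite extensions, in characteristic `p`, given enough derivations -/
theorem QJ.of_finite (p : ℕ) [hp : Fact p.Prime]
    (Hder : ∀ (E : Type u) [CommRing E] [IsDomain E] [Algebra A₀ E] [Algebra.FiniteType A₀ E],
      Function.Injective (algebraMap A₀ E) → ∀ f : E,
      (∀ x : FractionRing E, x ^ p ≠ algebraMap E (FractionRing E) f) →
      ∃ D : Derivation ℤ E E, D f ≠ 0)
    (M L : Type u) [Field M] [Field L] [Algebra A₀ M] [Algebra A₀ L] [Algebra M L]
    [IsScalarTower A₀ M L] [CharP L p] [FiniteDimensional M L]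
    (hA₀ : Function.Injective (algebraMap A₀ L)) (hM : QJ A₀ M) : QJ A₀ L :=
  QJ.of_finite_aux p Hder (finrank M L) M L hA₀ le_rfl hM

end Groth.Agent.Lib.Helper22.J0Root
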