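import Mathlib

set_option autoImplicit false
set_option linter.style.haveILetI false
universe u
open TensorProduct

namespace Groth.Agent.Lib.Helper22.GeomRedLoc

theorem isReduced_of_isLocalization {R : Type*} [CommRing R] (M : Submonoid R) (S : Type*)
    [CommRing S] [Algebra R S] [IsLocalization M S] [IsReduced R] : IsReduced S := by
  let e : S ≃ₐ[R] Localization M := IsLocalization.algEquiv M S (Localization M)
  exact isReduced_of_injective e e.injective

/-- a localization of a geometrically reduced algebra over a field is geometrically reduced -/
theorem geomReduced_of_isLocalization (k : Type u) [Field k] (A : Type u) [CommRing A] [Algebra k A]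
    (M : Submonoid A) (B : Type u) [CommRing B] [Algebra k B] [Algebra A B] [IsScalarTower k A B]
    [IsLocalization M B] [Algebra.IsGeometricallyReduced k A] :
    Algebra.IsGeometricallyReduced k B := by
  rw [Algebra.isGeometricallyReduced_field_iff]
  set Ω := AlgebraicClosure k
  let T := A ⊗[k] Ω
  let T' := B ⊗[k] Ω
  let i : T →ₐ[A] T' :=
    Algebra.TensorProduct.map (IsScalarTower.toAlgHom A A B) (AlgHom.id k Ω)
  letI : Algebra T T' := i.toRingHom.toAlgebra
  haveI : IsScalarTower A T T' := .of_algebraMap_eq (fun x => (i.commutes x).symm)
  have H : (algebraMap T T').comp Algebra.TensorProduct.includeRight.toRingHom =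
      Algebra.TensorProduct.includeRight.toRingHom := by
    ext x
    simp [RingHom.algebraMap_toAlgebra, i, T, T']
  haveI : IsLocalization (Algebra.algebraMapSubmonoid T M) T' :=
    IsLocalization.tensorProduct_tensorProduct k Ω M B H
  haveI : IsReduced (Ω ⊗[k] A) := inferInstance
  haveI : IsReduced T :=
    isReduced_of_injective (Algebra.TensorProduct.comm k A Ω) (Algebra.TensorProduct.comm k A Ω).injective
  haveI : IsReduced T' := isReduced_of_isLocalization (Algebra.algebraMapSubmonoid T M) T'
  exact isReduced_of_injective (Algebra.TensorProduct.comm k Ω B)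
    (Algebra.TensorProduct.comm k Ω B).injective

end Groth.Agent.Lib.Helper22.GeomRedLoc
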