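import Mathlib
import Groth.Prelude.Def_EGA4b
import Groth.Agent.Lib.Helper22.J0Ascent
import Groth.Agent.Lib.Helper22.GeomRed3
import Groth.Agent.Lib.Helper22.GeomRedLoc

/-!
# Domains of finite type over a field are J-0; openness of the regular locus (helper22)
-/

set_option autoImplicit false
set_option linter.style.haveILetI false
universe u
open IsLocalRing TensorProduct

namespace Groth.Agent.Lib.Helper22.J0

theorem isJ0_field (k : Type u) [Field k] : IsJ0 k := by
  refine ⟨Set.univ, isOpen_univ, ⟨⟨⊥, Ideal.isPrime_bot⟩, trivial⟩, ?_⟩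
  intro q _
  haveI := q.isPrime
  have hq : q.asIdeal = ⊥ := (Ideal.eq_bot_or_top q.asIdeal).resolve_right q.isPrime.ne_top
  exact Groth.Agent.Lib.Helper22.FinDom.isRegularLocalRing_atPrime_of_eq_bot q.asIdeal hq

/-- a domain of finite type over a field is J-0 -/
theorem isJ0_of_finiteType_field (k D : Type u) [Field k] [CommRing D] [IsDomain D] [Algebra k D]
    [Algebra.FiniteType k D] : IsJ0 D := by
  obtain ⟨P, hPF, hPA, hPpi, hPperf⟩ :=
    Groth.Agent.Lib.Helper22.GeomRed2.exists_perfect_purelyInseparable k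
  letI := hPF
  letI := hPA
  haveI := hPpi
  haveI := hPperf
  haveI : IsNoetherianRing (P ⊗[k] D) := Algebra.FiniteType.isNoetherianRing P _
  obtain ⟨k', hF, hA, hfin, hpi, hgr⟩ :=
    Groth.Agent.Lib.Helper22.GeomRed3.exists_finite_geomReduced (k := k) D P
      (IsNoetherian.noetherian (nilradical (P ⊗[k] D)))
  letI := hF
  letI := hA
  haveI := hfin
  haveI := hpi
  haveI : IsNoetherianRing D := Algebra.FiniteType.isNoetherianRing k D
  -- irreducibility
  have hirr : IrreducibleSpace (PrimeSpectrum (k' ⊗[k] D)) := by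
    have h1 := PrimeSpectrum.isHomeomorph_comap_of_isPurelyInseparable k k' D
    haveI : IrreducibleSpace (PrimeSpectrum (D ⊗[k] k')) :=
      (h1.homeomorph).irreducibleSpace_iff.mpr inferInstance
    have h2 := PrimeSpectrum.isHomeomorph_comap_of_bijective
      (f := (Algebra.TensorProduct.comm k k' D : k' ⊗[k] D →+* D ⊗[k] k'))
      (Algebra.TensorProduct.comm k k' D).bijective
    exact (h2.homeomorph).irreducibleSpace_iff.mp inferInstance
  haveI hNprime : (nilradical (k' ⊗[k] D)).IsPrime :=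
    PrimeSpectrum.irreducibleSpace_iff_isPrime_nilradical.mp hirr
  haveI : IsDomain ((k' ⊗[k] D) ⧸ nilradical (k' ⊗[k] D)) := Ideal.Quotient.isDomain _
  -- the algebra structure over D
  letI algD : Algebra D ((k' ⊗[k] D) ⧸ nilradical (k' ⊗[k] D)) :=
    ((Ideal.Quotient.mk (nilradical (k' ⊗[k] D))).comp
      (Algebra.TensorProduct.includeRight : D →ₐ[k] k' ⊗[k] D).toRingHom).toAlgebra
  haveI : IsScalarTower k D ((k' ⊗[k] D) ⧸ nilradical (k' ⊗[k] D)) :=
    IsScalarTower.of_algebraMap_eq (R := k) (S := D) (fun c => by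
      rw [RingHom.algebraMap_toAlgebra, RingHom.comp_apply]
      change _ = Ideal.Quotient.mk _ ((Algebra.TensorProduct.includeRight : D →ₐ[k] k' ⊗[k] D)
        (algebraMap k D c))
      rw [AlgHom.commutes]
      rfl)
  haveI : Algebra.FiniteType k k' := Module.Finite.finiteType k'
  haveI : Algebra.FiniteType k (k' ⊗[k] D) :=
    Algebra.FiniteType.trans (R := k) (S := k') (A := k' ⊗[k] D) inferInstance inferInstance
  haveI : Algebra.FiniteType k ((k' ⊗[k] D) ⧸ nilradical (k' ⊗[k] D)) :=
    Algebra.FiniteType.of_surjective (Ideal.Quotient.mkₐ k (nilradical (k' ⊗[k] D)))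
      (Ideal.Quotient.mkₐ_surjective k _)
  haveI : Algebra.FiniteType D ((k' ⊗[k] D) ⧸ nilradical (k' ⊗[k] D)) :=
    Algebra.FiniteType.of_restrictScalars_finiteType k D _
  have hinj : Function.Injective (algebraMap D ((k' ⊗[k] D) ⧸ nilradical (k' ⊗[k] D))) := by
    rw [injective_iff_map_eq_zero]
    intro x hx
    rw [RingHom.algebraMap_toAlgebra, RingHom.comp_apply, Ideal.Quotient.eq_zero_iff_mem,
      mem_nilradical] at hx
    obtain ⟨n, hn⟩ := hx
    rw [← map_pow] at hn
    have hinj' : Function.Injective (Algebra.TensorProduct.includeRight : D →ₐ[k] k' ⊗[k] D) :=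
      Algebra.TensorProduct.includeRight_injective (RingHom.injective _)
    have : x ^ n = 0 := hinj' (by rw [map_zero]; exact hn)
    exact pow_eq_zero_iff (n := n) (fun h0 => by
      subst h0
      simp at this) |>.mp this
  -- D' is J-0
  have hJ : IsJ0 ((k' ⊗[k] D) ⧸ nilradical (k' ⊗[k] D)) := by
    haveI : Algebra.IsGeometricallyReduced k' ((k' ⊗[k] D) ⧸ nilradical (k' ⊗[k] D)) := hgr
    haveI : Algebra.IsGeometricallyReduced k'
        (FractionRing ((k' ⊗[k] D) ⧸ nilradical (k' ⊗[k] D))) :=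
      Groth.Agent.Lib.Helper22.GeomRedLoc.geomReduced_of_isLocalization k' _
        (nonZeroDivisors ((k' ⊗[k] D) ⧸ nilradical (k' ⊗[k] D))) _
    haveI : Algebra.FiniteType k' ((k' ⊗[k] D) ⧸ nilradical (k' ⊗[k] D)) :=
      Algebra.FiniteType.of_surjective (Ideal.Quotient.mkₐ k' (nilradical (k' ⊗[k] D)))
        (Ideal.Quotient.mkₐ_surjective k' _)
    haveI : Algebra.EssFiniteType ((k' ⊗[k] D) ⧸ nilradical (k' ⊗[k] D))
        (FractionRing ((k' ⊗[k] D) ⧸ nilradical (k' ⊗[k] D))) :=
      Algebra.EssFiniteType.of_isLocalization _ (nonZeroDivisors _)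
    haveI : Algebra.EssFiniteType k' (FractionRing ((k' ⊗[k] D) ⧸ nilradical (k' ⊗[k] D))) :=
      Algebra.EssFiniteType.comp k' ((k' ⊗[k] D) ⧸ nilradical (k' ⊗[k] D)) _
    have hsm : Algebra.FormallySmooth k' (FractionRing ((k' ⊗[k] D) ⧸ nilradical (k' ⊗[k] D))) :=
      Groth.Agent.Lib.Helper22.SmoothGeomRed.formallySmooth_of_isGeometricallyReduced _ _
    exact IsJ0.ascend_core k' _ (RingHom.injective _) hsm (isJ0_field k')
  exact IsJ0.descend D _ hinj hJ

/-- the regular locus of a finite type algebra over a field is open (S2618) -/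
theorem isOpen_regLocus_of_finiteType_field (k S : Type u) [Field k] [CommRing S] [Algebra k S]
    [Algebra.FiniteType k S] : IsOpen (EGA4.regLocus S) := by
  haveI : IsNoetherianRing S := Algebra.FiniteType.isNoetherianRing k S
  apply Groth.Agent.Lib.Helper22.NagataCrit.isOpen_regLocus
  intro p _
  haveI := p.isPrime
  exact isJ0_of_finiteType_field k (S ⧸ p.asIdeal)

end Groth.Agent.Lib.Helper22.J0
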