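import Mathlib
import Groth.Prelude.Def_EGA4b
import Groth.Agent.Lib.Helper22.J0Field

/-!
# Noetherian rings with finitely many primes are J-2 (helper22)
-/

set_option autoImplicit false
set_option linter.style.haveILetI false
universe u
open IsLocalRing TensorProduct

namespace Groth.Agent.Lib.Helper22.J0

/-- J-0 passes from a localization away from an element to the ring -/
theorem IsJ0.of_away (D : Type u) [CommRing D] (g : D) (Dg : Type u) [CommRing Dg] [Algebra D Dg]
    [IsLocalization.Away g Dg] (h : IsJ0 Dg) : IsJ0 D := by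
  obtain ⟨U, hUo, ⟨u, hu⟩, hU⟩ := h
  refine ⟨PrimeSpectrum.comap (algebraMap D Dg) '' U,
    (PrimeSpectrum.localization_away_isOpenEmbedding Dg g).isOpenMap _ hUo,
    ⟨_, Set.mem_image_of_mem _ hu⟩, ?_⟩
  rintro _ ⟨Q, hQ, rfl⟩
  have h1 := Groth.Agent.Lib.Helper22.ExcLoc.regLocus_of_isLocalization D (Submonoid.powers g) Dg
  have h2 := hU hQ
  rw [h1] at h2
  exact h2

/-- a domain with finitely many primes becomes a field after inverting one nonzero element -/
theorem exists_away_isField (R : Type u) [CommRing R] [IsDomain R] [Finite (PrimeSpectrum R)] :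
    ∃ f : R, f ≠ 0 ∧ IsField (Localization.Away f) := by
  classical
  cases nonempty_fintype (PrimeSpectrum R)
  have hex : ∀ P : PrimeSpectrum R, ∃ x : R, x ≠ 0 ∧ (P.asIdeal ≠ ⊥ → x ∈ P.asIdeal) := by
    intro P
    by_cases hP : P.asIdeal = ⊥
    · exact ⟨1, one_ne_zero, fun h => absurd hP h⟩
    · obtain ⟨x, hx, hx0⟩ := Submodule.exists_mem_ne_zero_of_ne_bot hP
      exact ⟨x, hx0, fun _ => hx⟩
  choose x hx0 hxP using hex
  refine ⟨∏ P, x P, Finset.prod_ne_zero_iff.mpr (fun P _ => hx0 P), ?_⟩
  set f := ∏ P, x P with hf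
  have hfP : ∀ P : PrimeSpectrum R, P.asIdeal ≠ ⊥ → f ∈ P.asIdeal := by
    intro P hP
    rw [hf]
    exact Ideal.prod_mem _ (Finset.mem_univ P) (hxP P hP)
  haveI : IsDomain (Localization.Away f) :=
    IsLocalization.isDomain_of_le_nonZeroDivisors (M := Submonoid.powers f) (Localization.Away f)
      (powers_le_nonZeroDivisors_of_noZeroDivisors (Finset.prod_ne_zero_iff.mpr (fun P _ => hx0 P)))
  by_contra hnot
  obtain ⟨Q, hQ0, hQ⟩ := Ring.not_isField_iff_exists_prime.mp hnot
  let P : PrimeSpectrum R := ⟨Q.comap (algebraMap R (Localization.Away f)), Ideal.comap_isPrime _ _⟩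
  have hPne : P.asIdeal ≠ ⊥ := by
    intro h
    apply hQ0
    rw [← IsLocalization.map_under (Submonoid.powers f) (Localization.Away f) Q]
    change Ideal.map _ P.asIdeal = ⊥
    rw [h, Ideal.map_bot]
  have hfQ : algebraMap R (Localization.Away f) f ∈ Q := hfP P hPne
  have hu : IsUnit (algebraMap R (Localization.Away f) f) :=
    IsLocalization.map_units _ (⟨f, Submonoid.mem_powers f⟩ : Submonoid.powers f)
  exact hQ.ne_top (Ideal.eq_top_of_isUnit_mem _ hfQ hu)

/-- a domain of finite type over a domain with finitely many primes is J-0 -/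
theorem isJ0_of_finite_primeSpectrum (R D : Type u) [CommRing R] [IsDomain R]
    [Finite (PrimeSpectrum R)] [CommRing D] [IsDomain D] [Algebra R D] [Algebra.FiniteType R D]
    (hinj : Function.Injective (algebraMap R D)) : IsJ0 D := by
  obtain ⟨f, hf, hF⟩ := exists_away_isField R
  letI : Field (Localization.Away f) := hF.toField
  have hg : algebraMap R D f ≠ 0 := fun h => hf (hinj (by rw [h, map_zero]))
  have hsub : Algebra.algebraMapSubmonoid D (Submonoid.powers f) =
      Submonoid.powers (algebraMap R D f) := by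
    unfold Algebra.algebraMapSubmonoid
    rw [Submonoid.map_powers]
  haveI : IsLocalization.Away (algebraMap R D f)
      (Localization (Algebra.algebraMapSubmonoid D (Submonoid.powers f))) :=
    isLocalization_congr hsub _
  haveI : IsDomain (Localization (Algebra.algebraMapSubmonoid D (Submonoid.powers f))) :=
    IsLocalization.isDomain_of_le_nonZeroDivisors (M := Submonoid.powers (algebraMap R D f)) _
      (powers_le_nonZeroDivisors_of_noZeroDivisors hg)
  haveI : Algebra.FiniteType D (Localization (Algebra.algebraMapSubmonoid D (Submonoid.powers f))) :=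
    IsLocalization.finiteType_of_monoid_fg (Submonoid.powers (algebraMap R D f)) _
  haveI : Algebra.FiniteType R (Localization (Algebra.algebraMapSubmonoid D (Submonoid.powers f))) :=
    Algebra.FiniteType.trans (S := D) inferInstance inferInstance
  haveI : Algebra.FiniteType (Localization.Away f)
      (Localization (Algebra.algebraMapSubmonoid D (Submonoid.powers f))) :=
    Algebra.FiniteType.of_restrictScalars_finiteType R _ _
  have h := isJ0_of_finiteType_field (Localization.Away f)
    (Localization (Algebra.algebraMapSubmonoid D (Submonoid.powers f)))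
  exact IsJ0.of_away D (algebraMap R D f) _ h

/-- a Noetherian semilocal ring of dimension at most one has finitely many primes -/
theorem finite_primeSpectrum_of_semilocal (A : Type u) [CommRing A] [IsNoetherianRing A]
    (hsl : {I : Ideal A | I.IsMaximal}.Finite) (hdim : ringKrullDim A ≤ 1) :
    Finite (PrimeSpectrum A) := by
  have hmin : (minimalPrimes A).Finite := minimalPrimes.finite_of_isNoetherianRing A
  have hsub : {p : Ideal A | p.IsPrime} ⊆ minimalPrimes A ∪ {I : Ideal A | I.IsMaximal} := by
    intro p hp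
    haveI : p.IsPrime := hp
    by_contra hnot
    rw [Set.mem_union, not_or] at hnot
    obtain ⟨hnmin, hnmax⟩ := hnot
    obtain ⟨m, hm, hpm⟩ := Ideal.exists_le_maximal p hp.ne_top
    have hpm' : p < m := lt_of_le_of_ne hpm (fun h => hnmax (h ▸ hm))
    obtain ⟨p₀, hp₀, hp₀p⟩ := Ideal.exists_minimalPrimes_le (bot_le : (⊥ : Ideal A) ≤ p)
    haveI : p₀.IsPrime := hp₀.1.1
    have hp₀p' : p₀ < p := lt_of_le_of_ne hp₀p (fun h => hnmin (h ▸ hp₀))
    haveI := hm.isPrime
    have h1 := Ideal.height_add_one_le_of_lt_of_isPrime hp₀p'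
    have h2 := Ideal.height_add_one_le_of_lt_of_isPrime hpm'
    have h3 : (m.height : WithBot ℕ∞) ≤ 1 := (Ideal.height_le_ringKrullDim_of_isPrime).trans hdim
    have h4 : m.height ≤ 1 := by exact_mod_cast h3
    have h5 : (2 : ℕ∞) ≤ m.height := by
      calc (2 : ℕ∞) = 0 + 1 + 1 := by norm_num
        _ ≤ p₀.height + 1 + 1 := by gcongr; exact zero_le
        _ ≤ p.height + 1 := by gcongr
        _ ≤ m.height := h2
    have : (2 : ℕ∞) ≤ 1 := h5.trans h4
    norm_num at this
  have hfin : {p : Ideal A | p.IsPrime}.Finite := (hmin.union hsl).subset hsub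
  haveI : Finite {p : Ideal A | p.IsPrime} := hfin.to_subtype
  exact Finite.of_injective (fun P : PrimeSpectrum A => (⟨P.asIdeal, P.isPrime⟩ : {p : Ideal A | p.IsPrime}))
    (fun P Q h => PrimeSpectrum.ext (congrArg Subtype.val h))

/-- S2620 -/
theorem isJ2_of_finite_primeSpectrum (A : Type u) [CommRing A] [IsNoetherianRing A]
    [Finite (PrimeSpectrum A)] : EGA4.IsJ2 A := by
  intro B _ _ hB
  haveI : Algebra.FiniteType A B := hB
  haveI : IsNoetherianRing B := Algebra.FiniteType.isNoetherianRing A B
  apply Groth.Agent.Lib.Helper22.NagataCrit.isOpen_regLocus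
  intro q _
  haveI := q.isPrime
  haveI : (q.asIdeal.comap (algebraMap A B)).IsPrime := Ideal.comap_isPrime _ _
  haveI : Finite (PrimeSpectrum (A ⧸ q.asIdeal.comap (algebraMap A B))) :=
    Finite.of_injective _ (PrimeSpectrum.comap_injective_of_surjective
      (Ideal.Quotient.mk (q.asIdeal.comap (algebraMap A B))) Ideal.Quotient.mk_surjective)
  haveI : Algebra.FiniteType A (B ⧸ q.asIdeal) := inferInstance
  haveI : Algebra.FiniteType (A ⧸ q.asIdeal.comap (algebraMap A B)) (B ⧸ q.asIdeal) :=
    Algebra.FiniteType.of_restrictScalars_finiteType A _ _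
  exact isJ0_of_finite_primeSpectrum (A ⧸ q.asIdeal.comap (algebraMap A B)) (B ⧸ q.asIdeal)
    Ideal.algebraMap_quotient_injective

end Groth.Agent.Lib.Helper22.J0
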