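import Groth.Agent.Lib.Helper22.J0Field
import Groth.Agent.Lib.Helper22.FinDom
import Groth.Agent.Lib.Helper22.J2Semilocal

/-!
# J-2 criterion: finite domains J-0 implies J-2 (EGA IV 6.12.4 / Matsumura 32.A)
-/

set_option autoImplicit false
set_option linter.style.haveILetI false
set_option linter.unusedSectionVars false
universe u
open IsLocalRing TensorProduct

namespace Groth.Agent.Lib.Helper22.J0

/-- Lemma A -/
theorem exists_pi_geomReduced (K L : Type u) [Field K] [Field L] [Algebra K L]
    [Algebra.EssFiniteType K L] :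
    ∃ (K' : Type u) (_ : Field K') (_ : Algebra K K'), Module.Finite K K' ∧
      IsPurelyInseparable K K' ∧ (nilradical (K' ⊗[K] L)).IsPrime ∧
      Algebra.IsGeometricallyReduced K' ((K' ⊗[K] L) ⧸ nilradical (K' ⊗[K] L)) := by
  obtain ⟨P, hPF, hPA, hPpi, hPperf⟩ :=
    Groth.Agent.Lib.Helper22.GeomRed2.exists_perfect_purelyInseparable K
  letI := hPF
  letI := hPA
  haveI := hPpi
  haveI := hPperf
  haveI : Algebra.EssFiniteType P (P ⊗[K] L) := inferInstance
  haveI : IsNoetherianRing (P ⊗[K] L) := Algebra.EssFiniteType.isNoetherianRing P _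
  obtain ⟨K', hF, hA, hfin, hpi, hgr⟩ :=
    Groth.Agent.Lib.Helper22.GeomRed3.exists_finite_geomReduced (k := K) L P
      (IsNoetherian.noetherian (nilradical (P ⊗[K] L)))
  letI := hF
  letI := hA
  haveI := hfin
  haveI := hpi
  refine ⟨K', hF, hA, hfin, hpi, ?_, hgr⟩
  have hirr : IrreducibleSpace (PrimeSpectrum (K' ⊗[K] L)) := by
    have h1 := PrimeSpectrum.isHomeomorph_comap_of_isPurelyInseparable K K' L
    haveI : IrreducibleSpace (PrimeSpectrum (L ⊗[K] K')) :=
      (h1.homeomorph).irreducibleSpace_iff.mpr inferInstance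
    have h2 := PrimeSpectrum.isHomeomorph_comap_of_bijective
      (f := (Algebra.TensorProduct.comm K K' L : K' ⊗[K] L →+* L ⊗[K] K'))
      (Algebra.TensorProduct.comm K K' L).bijective
    exact (h2.homeomorph).irreducibleSpace_iff.mp inferInstance
  exact PrimeSpectrum.irreducibleSpace_iff_isPrime_nilradical.mp hirr

/-- core step for J-0 of finite type domains -/
theorem isJ0_core (R D K' E : Type u) [CommRing R] [IsDomain R] [IsNoetherianRing R]
    [CommRing D] [IsDomain D] [Algebra R D] [Algebra.FiniteType R D]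
    [Field K'] [Field E] [Algebra R K'] [Algebra K' E] [Algebra R E] [IsScalarTower R K' E]
    (R' : Subalgebra R K') [Module.Finite R R'] [IsFractionRing R' K']
    (φ : D →ₐ[R] E) (hφinj : Function.Injective φ) (hsmE : Algebra.FormallySmooth K' E)
    (hgen : ∀ e : E, e ∈ Subfield.closure (Set.range (algebraMap K' E) ∪ Set.range φ))
    (hJR' : IsJ0 R') : IsJ0 D := by
  haveI : Algebra.FormallySmooth R' K' := Algebra.FormallySmooth.of_isLocalization (nonZeroDivisors R')
  have hsmR'E : Algebra.FormallySmooth R' E := Algebra.FormallySmooth.comp R' K' E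
  -- the ring D'
  obtain ⟨ψ, hψ⟩ : ∃ ψ : R' ⊗[R] D →ₐ[R'] E, ∀ d : D, ψ ((1 : R') ⊗ₜ[R] d) = φ d :=
    ⟨Algebra.TensorProduct.lift (Algebra.ofId R' E) φ (fun _ _ => Commute.all _ _), fun d => by simp⟩
  let D' : Subalgebra R' E := ψ.range
  haveI : Algebra.FiniteType R' D' :=
    Algebra.FiniteType.of_surjective ψ.rangeRestrict ψ.rangeRestrict_surjective
  let ι : D →+* D' := ψ.rangeRestrict.toRingHom.comp
    (Algebra.TensorProduct.includeRight : D →ₐ[R] R' ⊗[R] D).toRingHom
  letI algDD' : Algebra D D' := ι.toAlgebra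
  have hι : ∀ d : D, ((algebraMap D D' d : D') : E) = φ d := fun d => hψ d
  have hφD' : ∀ d : D, φ d ∈ D' := fun d => hι d ▸ (algebraMap D D' d).2
  haveI : IsScalarTower R D D' := IsScalarTower.of_algebraMap_eq (R := R) (S := D) (A := D')
    (fun r => by
      apply Subtype.ext
      rw [hι, AlgHom.commutes, Subalgebra.coe_algebraMap])
  haveI : Algebra.FiniteType R R' := Module.Finite.finiteType R'
  haveI : Algebra.FiniteType R D' :=
    Algebra.FiniteType.trans (R := R) (S := R') (A := D') inferInstance inferInstance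
  haveI : Algebra.FiniteType D D' := Algebra.FiniteType.of_restrictScalars_finiteType R D D'
  have hinjDD' : Function.Injective (algebraMap D D') := by
    intro a b hab
    apply hφinj
    rw [← hι, ← hι, hab]
  -- the fraction field of D' is E
  have hFtop : ∀ e : E, e ∈ Subfield.closure ((D' : Subalgebra R' E) : Set E) := by
    intro e
    have hle : Subfield.closure (Set.range (algebraMap K' E) ∪ Set.range φ) ≤
        Subfield.closure ((D' : Subalgebra R' E) : Set E) := by
      rw [Subfield.closure_le]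
      rintro _ (⟨k', rfl⟩ | ⟨d, rfl⟩)
      · obtain ⟨a, s, hs, rfl⟩ := IsFractionRing.div_surjective (A := R') k'
        rw [map_div₀, ← IsScalarTower.algebraMap_apply R' K' E,
          ← IsScalarTower.algebraMap_apply R' K' E]
        exact (Subfield.closure _).div_mem (Subfield.subset_closure (D'.algebraMap_mem a))
          (Subfield.subset_closure (D'.algebraMap_mem s))
      · exact Subfield.subset_closure (hφD' d)
    exact hle (hgen e)
  haveI : IsFractionRing D' E := by
    refine IsFractionRing.of_field D' E (fun z => ?_)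
    obtain ⟨y, hy, w, hw, hyw⟩ := Subfield.mem_closure_iff.mp (hFtop z)
    have hcl : Subring.closure ((D' : Subalgebra R' E) : Set E) = D'.toSubring :=
      Subring.closure_eq D'.toSubring
    rw [hcl] at hy hw
    exact ⟨⟨y, hy⟩, ⟨w, hw⟩, hyw.symm⟩
  have hsm : Algebra.FormallySmooth R' (FractionRing D') :=
    (Algebra.FormallySmooth.iff_of_equiv
      ((FractionRing.algEquiv D' E).restrictScalars R')).mpr hsmR'E
  have hinjR'D' : Function.Injective (algebraMap R' D') := by
    intro a b hab
    have h1 : algebraMap R' E a = algebraMap R' E b := congrArg Subtype.val hab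
    rw [IsScalarTower.algebraMap_apply R' K' E, IsScalarTower.algebraMap_apply R' K' E] at h1
    exact Subtype.val_injective ((algebraMap K' E).injective h1)
  haveI : IsNoetherianRing R' := IsNoetherianRing.of_finite R R'
  haveI : IsNoetherianRing D := Algebra.FiniteType.isNoetherianRing R D
  have hJD' : IsJ0 D' := IsJ0.ascend_core R' D' hinjR'D' hsm hJR'
  exact IsJ0.descend D D' hinjDD' hJD'

section
variable (R D K L K' : Type u) [CommRing R] [CommRing D] [IsDomain D] [Field K] [Field L] [Field K']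
  [Algebra R D] [Algebra D L] [IsFractionRing D L] [Algebra R K] [Algebra K L] [Algebra R L]
  [IsScalarTower R D L] [IsScalarTower R K L] [Algebra K K'] [Algebra R K'] [IsScalarTower R K K']

local notation "T" => K' ⊗[K] L
local notation "L'" => (K' ⊗[K] L) ⧸ nilradical (K' ⊗[K] L)
local notation "E'" => FractionRing ((K' ⊗[K] L) ⧸ nilradical (K' ⊗[K] L))

theorem exists_phi [hprime : (nilradical (K' ⊗[K] L)).IsPrime] :
    ∃ φ : D →ₐ[R] E', Function.Injective φ ∧
      ∀ e : E', e ∈ Subfield.closure (Set.range (algebraMap K' E') ∪ Set.range φ) := by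
  obtain ⟨ρ, hρ'⟩ : ∃ ρ : L →ₐ[R] E', ∀ l : L, ρ l =
      algebraMap L' E' (Ideal.Quotient.mk _ ((1 : K') ⊗ₜ[K] l)) :=
    ⟨(IsScalarTower.toAlgHom R L' E').comp
      ((Ideal.Quotient.mkₐ R (nilradical (K' ⊗[K] L))).comp
        ((Algebra.TensorProduct.includeRight : L →ₐ[K] K' ⊗[K] L).restrictScalars R)), fun l => by
      simp only [AlgHom.comp_apply, IsScalarTower.coe_toAlgHom', AlgHom.restrictScalars_apply,
        Ideal.Quotient.mkₐ_eq_mk, Algebra.TensorProduct.includeRight_apply]⟩
  obtain ⟨φ, hρ⟩ : ∃ φ : D →ₐ[R] E', ∀ d : D, ρ (algebraMap D L d) = φ d :=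
    ⟨ρ.comp (IsScalarTower.toAlgHom R D L), fun d => rfl⟩
  have hφ : ∀ d : D, φ d =
      algebraMap L' E' (Ideal.Quotient.mk _ ((1 : K') ⊗ₜ[K] algebraMap D L d)) :=
    fun d => by rw [← hρ, hρ']
  have hφinj : Function.Injective φ := by
    rw [injective_iff_map_eq_zero]
    intro d hd
    rw [hφ, map_eq_zero_iff _ (IsFractionRing.injective L' E'), Ideal.Quotient.eq_zero_iff_mem,
      mem_nilradical] at hd
    obtain ⟨n, hn⟩ := hd
    rw [Algebra.TensorProduct.tmul_pow, one_pow] at hn
    have hinj' : Function.Injective (Algebra.TensorProduct.includeRight : L →ₐ[K] K' ⊗[K] L) :=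
      Algebra.TensorProduct.includeRight_injective (RingHom.injective _)
    have h0 : (algebraMap D L d) ^ n = 0 := hinj' (by rw [map_zero]; exact hn)
    have h1 : algebraMap D L d = 0 := by
      by_contra hne
      exact pow_ne_zero n hne h0
    exact (map_eq_zero_iff _ (IsFractionRing.injective D L)).mp h1
  refine ⟨φ, hφinj, ?_⟩
  set F := Subfield.closure (Set.range (algebraMap K' E') ∪ Set.range φ) with hFdef
  have h1 : ∀ k' : K', algebraMap K' E' k' ∈ F := fun k' =>
    Subfield.subset_closure (Or.inl ⟨k', rfl⟩)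
  have h2 : ∀ l : L, ρ l ∈ F := by
    intro l
    obtain ⟨d, s, hs, rfl⟩ := IsFractionRing.div_surjective (A := D) l
    rw [map_div₀, hρ, hρ]
    exact F.div_mem (Subfield.subset_closure (Or.inr ⟨d, rfl⟩))
      (Subfield.subset_closure (Or.inr ⟨s, rfl⟩))
  have h3 : ∀ t : K' ⊗[K] L, algebraMap L' E' (Ideal.Quotient.mk _ t) ∈ F := by
    intro t
    induction t using TensorProduct.induction_on with
    | zero => rw [map_zero, map_zero]; exact F.zero_mem
    | tmul k' l =>
      have : k' ⊗ₜ[K] l = algebraMap K' (K' ⊗[K] L) k' *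
          (Algebra.TensorProduct.includeRight : L →ₐ[K] K' ⊗[K] L) l := by
        rw [Algebra.TensorProduct.algebraMap_apply, Algebra.TensorProduct.includeRight_apply,
          Algebra.TensorProduct.tmul_mul_tmul, mul_one, one_mul, Algebra.algebraMap_self,
          RingHom.id_apply]
      rw [this, map_mul, map_mul, Algebra.TensorProduct.includeRight_apply, ← hρ']
      refine F.mul_mem ?_ (h2 l)
      have : algebraMap L' E' (Ideal.Quotient.mk _ (algebraMap K' (K' ⊗[K] L) k')) =
          algebraMap K' E' k' := by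
        rw [IsScalarTower.algebraMap_apply K' L' E']
        rfl
      rw [this]
      exact h1 k'
    | add x y hx hy =>
      rw [map_add, map_add]
      exact F.add_mem hx hy
  intro e
  obtain ⟨a, b, hb, rfl⟩ := IsFractionRing.div_surjective (A := L') e
  obtain ⟨a, rfl⟩ := Ideal.Quotient.mk_surjective a
  obtain ⟨b, rfl⟩ := Ideal.Quotient.mk_surjective b
  exact F.div_mem (h3 a) (h3 b)

end

theorem isJ0_of_finiteType_aux (R D L : Type u) [CommRing R] [IsDomain R] [IsNoetherianRing R]
    [CommRing D] [IsDomain D] [Algebra R D] [Algebra.FiniteType R D] [Field L]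
    [Algebra D L] [IsFractionRing D L] [Algebra R L] [IsScalarTower R D L]
    [Algebra (⊥ : Ideal R).ResidueField L] [IsScalarTower R (⊥ : Ideal R).ResidueField L]
    (H : ∀ (R' : Type u) [CommRing R'] [IsDomain R'] [Algebra R R'], Module.Finite R R' → IsJ0 R') :
    IsJ0 D := by
  haveI : Algebra.EssFiniteType D L := Algebra.EssFiniteType.of_isLocalization _ (nonZeroDivisors D)
  haveI : Algebra.EssFiniteType R L := Algebra.EssFiniteType.comp R D L
  haveI : Algebra.EssFiniteType (⊥ : Ideal R).ResidueField L :=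
    Algebra.EssFiniteType.of_comp R (⊥ : Ideal R).ResidueField L
  obtain ⟨K', hF, hA, hfin, hpi, hprime, hgr⟩ := exists_pi_geomReduced (⊥ : Ideal R).ResidueField L
  letI := hF
  letI := hA
  haveI := hfin
  haveI := hprime
  haveI := hgr
  haveI : IsDomain ((K' ⊗[(⊥ : Ideal R).ResidueField] L) ⧸ nilradical (K' ⊗[(⊥ : Ideal R).ResidueField] L)) :=
    Ideal.Quotient.isDomain _
  haveI : Algebra.IsGeometricallyReduced K' (FractionRing ((K' ⊗[(⊥ : Ideal R).ResidueField] L) ⧸ nilradical (K' ⊗[(⊥ : Ideal R).ResidueField] L))) :=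
    Groth.Agent.Lib.Helper22.GeomRedLoc.geomReduced_of_isLocalization K' ((K' ⊗[(⊥ : Ideal R).ResidueField] L) ⧸ nilradical (K' ⊗[(⊥ : Ideal R).ResidueField] L)) (nonZeroDivisors _) _
  haveI : Algebra.EssFiniteType K' (K' ⊗[(⊥ : Ideal R).ResidueField] L) := inferInstance
  haveI : Algebra.EssFiniteType K' ((K' ⊗[(⊥ : Ideal R).ResidueField] L) ⧸ nilradical (K' ⊗[(⊥ : Ideal R).ResidueField] L)) := inferInstance
  haveI : Algebra.EssFiniteType ((K' ⊗[(⊥ : Ideal R).ResidueField] L) ⧸ nilradical (K' ⊗[(⊥ : Ideal R).ResidueField] L)) (FractionRing ((K' ⊗[(⊥ : Ideal R).ResidueField] L) ⧸ nilradical (K' ⊗[(⊥ : Ideal R).ResidueField] L))) :=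
    Algebra.EssFiniteType.of_isLocalization _ (nonZeroDivisors _)
  haveI : Algebra.EssFiniteType K' (FractionRing ((K' ⊗[(⊥ : Ideal R).ResidueField] L) ⧸ nilradical (K' ⊗[(⊥ : Ideal R).ResidueField] L))) :=
    Algebra.EssFiniteType.comp K' ((K' ⊗[(⊥ : Ideal R).ResidueField] L) ⧸ nilradical (K' ⊗[(⊥ : Ideal R).ResidueField] L)) _
  have hsmE : Algebra.FormallySmooth K' (FractionRing ((K' ⊗[(⊥ : Ideal R).ResidueField] L) ⧸ nilradical (K' ⊗[(⊥ : Ideal R).ResidueField] L))) :=
    Groth.Agent.Lib.Helper22.SmoothGeomRed.formallySmooth_of_isGeometricallyReduced K' _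
  letI algRK' : Algebra R K' := ((algebraMap (⊥ : Ideal R).ResidueField K').comp (algebraMap R (⊥ : Ideal R).ResidueField)).toAlgebra
  haveI hRKK' : IsScalarTower R (⊥ : Ideal R).ResidueField K' := IsScalarTower.of_algebraMap_eq' rfl
  obtain ⟨φ, hφinj, hgen⟩ := exists_phi R D (⊥ : Ideal R).ResidueField L K'
  obtain ⟨R', hR'fin, hR'frac⟩ := Groth.Agent.Lib.Helper22.FinDom.exists_finite_subalgebra R (⊥ : Ideal R) K'
  haveI := hR'fin
  haveI := hR'frac
  exact isJ0_core R D K' _ R' φ hφinj hsmE hgen (H R' hR'fin)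

theorem isJ0_of_finiteType (R D : Type u) [CommRing R] [IsDomain R] [IsNoetherianRing R]
    [CommRing D] [IsDomain D] [Algebra R D] [Algebra.FiniteType R D]
    (hinj : Function.Injective (algebraMap R D))
    (H : ∀ (R' : Type u) [CommRing R'] [IsDomain R'] [Algebra R R'], Module.Finite R R' → IsJ0 R') :
    IsJ0 D := by
  have hinjL : Function.Injective (algebraMap R (FractionRing D)) := by
    rw [IsScalarTower.algebraMap_eq R D (FractionRing D)]
    exact (IsFractionRing.injective D (FractionRing D)).comp hinj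
  letI algKL : Algebra (⊥ : Ideal R).ResidueField (FractionRing D) :=
    (IsFractionRing.lift (K := (⊥ : Ideal R).ResidueField) hinjL).toAlgebra
  haveI : IsScalarTower R (⊥ : Ideal R).ResidueField (FractionRing D) :=
    IsScalarTower.of_algebraMap_eq (R := R) (S := (⊥ : Ideal R).ResidueField) (A := FractionRing D)
    (fun x => (IsFractionRing.lift_algebraMap hinjL x).symm)
  exact isJ0_of_finiteType_aux R D (FractionRing D) H

/-- If every finite `A`-algebra which is a domain is J-0, then `A` is J-2. -/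
theorem isJ2_of_finite_domains_J0 (A : Type u) [CommRing A] [IsNoetherianRing A]
    (H : ∀ (A' : Type u) [CommRing A'] [IsDomain A'] [Algebra A A'], Module.Finite A A' →
      IsJ0 A') : EGA4.IsJ2 A := by
  intro B _ _ hB
  haveI : Algebra.FiniteType A B := hB
  haveI : IsNoetherianRing B := Algebra.FiniteType.isNoetherianRing A B
  apply Groth.Agent.Lib.Helper22.NagataCrit.isOpen_regLocus
  intro q _
  haveI := q.isPrime
  haveI : (q.asIdeal.comap (algebraMap A B)).IsPrime := Ideal.comap_isPrime _ _
  haveI : Algebra.FiniteType A (B ⧸ q.asIdeal) := inferInstance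
  haveI : Algebra.FiniteType (A ⧸ q.asIdeal.comap (algebraMap A B)) (B ⧸ q.asIdeal) :=
    Algebra.FiniteType.of_restrictScalars_finiteType A _ _
  refine isJ0_of_finiteType (A ⧸ q.asIdeal.comap (algebraMap A B)) (B ⧸ q.asIdeal)
    Ideal.algebraMap_quotient_injective ?_
  intro R' _ _ _ hfin
  letI : Algebra A R' := ((algebraMap (A ⧸ q.asIdeal.comap (algebraMap A B)) R').comp
    (algebraMap A (A ⧸ q.asIdeal.comap (algebraMap A B)))).toAlgebra
  haveI : IsScalarTower A (A ⧸ q.asIdeal.comap (algebraMap A B)) R' :=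
    IsScalarTower.of_algebraMap_eq' rfl
  haveI := hfin
  haveI : Module.Finite A (A ⧸ q.asIdeal.comap (algebraMap A B)) :=
    Module.Finite.of_surjective (Algebra.linearMap A _) Ideal.Quotient.mk_surjective
  exact H R' (Module.Finite.trans (A ⧸ q.asIdeal.comap (algebraMap A B)) R')

/-- EGA IV 6.12.4-type criterion. -/
theorem isJ2_iff_finite_domains_J0 (A : Type u) [CommRing A] [IsNoetherianRing A] :
    EGA4.IsJ2 A ↔
      ∀ (A' : Type u) [CommRing A'] [IsDomain A'] [Algebra A A'], Module.Finite A A' →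
        ∃ U : Set (PrimeSpectrum A'), IsOpen U ∧ U.Nonempty ∧ U ⊆ EGA4.regLocus A' := by
  constructor
  · intro h A' _ _ _ hfin
    haveI := hfin
    exact isJ0_of_isOpen A' (h A' (Module.Finite.finiteType A'))
  · intro H
    exact isJ2_of_finite_domains_J0 A H

end Groth.Agent.Lib.Helper22.J0
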