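import Mathlib

set_option autoImplicit false
set_option linter.style.haveILetI false
set_option linter.unusedSectionVars false

namespace Groth.Agent.Lib.Helper22.UnramPS

open IsLocalRing TensorProduct KaehlerDifferential

universe u

/-- Elements of `I` outside `p` generating an ideal of large height. -/
theorem sop_avoid {R : Type*} [CommRing R] [IsNoetherianRing R] (I p : Ideal R) [p.IsPrime]
    (hIp : ¬ I ≤ p) (r : ℕ) (hr : (r : ℕ∞) ≤ I.height) :
    ∃ x : Fin r → R, (∀ j, x j ∈ I ∧ x j ∉ p) ∧
      (r : ℕ∞) ≤ (Ideal.span (Set.range x)).height := by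
  classical
  induction r with
  | zero => exact ⟨Fin.elim0, fun j => j.elim0, by simp⟩
  | succ r ih =>
    obtain ⟨x, hx, h₃⟩ := ih ((WithTop.coe_le_coe.mpr r.le_succ).trans hr)
    set J := Ideal.span (Set.range x) with hJ
    let S := { K | K ∈ J.minimalPrimes ∧ Ideal.height K = r }
    have hS : Set.Finite S := Set.Finite.subset J.finite_minimalPrimes_of_isNoetherianRing
      (fun _ h => h.1)
    have : ¬(I : Set R) ⊆ ⋃ K ∈ insert p hS.toFinset, (K : Set R) := by
      refine (Ideal.subset_union_prime ⊥ ⊥ ?_).not.mpr ?_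
      · rintro K hK - -
        rw [Finset.mem_insert, Set.Finite.mem_toFinset] at hK
        rcases hK with rfl | hK
        · infer_instance
        · exact hK.1.isPrime
      · push Not
        intro K hK e
        rw [Finset.mem_insert, Set.Finite.mem_toFinset] at hK
        rcases hK with rfl | hK
        · exact hIp e
        · have := hr.trans (Ideal.height_mono e)
          rw [hK.2, ← not_lt] at this
          norm_cast at this
          exact this r.lt_succ_self
    simp_rw [Set.not_subset, Set.mem_iUnion, not_exists, Finset.mem_insert,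
      Set.Finite.mem_toFinset] at this
    obtain ⟨y, hy₁, hy₂⟩ := this
    refine ⟨Fin.cons y x, ?_, ?_⟩
    · intro j
      refine Fin.cases ?_ (fun i => ?_) j
      · rw [Fin.cons_zero]
        exact ⟨hy₁, fun h => hy₂ p (Or.inl rfl) h⟩
      · rw [Fin.cons_succ]
        exact hx i
    · rw [Fin.range_cons, Ideal.span_insert, Ideal.height_eq_inf_minimalPrimes]
      refine le_iInf₂ (fun P hP ↦ ?_)
      have := hP.isPrime
      by_cases h : Ideal.height P = ⊤
      · exact le_of_le_of_eq le_top h.symm
      have : P.FiniteHeight := ⟨Or.inr h⟩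
      have hJP : J ≤ P := le_sup_right.trans hP.1.2
      have := Ideal.height_mono hJP
      suffices h : (r : ℕ∞) ≠ P.height by
        exact Order.add_one_le_of_lt (lt_of_le_of_ne (h₃.trans this) h)
      intro e
      apply hy₂ P
      · right
        exact ⟨Ideal.mem_minimalPrimes_of_height_le hJP (e.symm.trans_le h₃), e.symm⟩
      · exact hP.1.2 (Ideal.mem_sup_left (Ideal.mem_span_singleton_self y))

/-- A system of parameters avoiding a non-maximal prime, padded to length `m`. -/
theorem exists_sop_avoid (R : Type*) [CommRing R] [IsLocalRing R] [IsNoetherianRing R]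
    (p : Ideal R) [p.IsPrime] (hp : p ≠ maximalIdeal R) (d m : ℕ) (hd : ringKrullDim R = d)
    (hdm : d ≤ m) :
    ∃ x : Fin m → R, (∀ j, x j ∈ maximalIdeal R ∧ x j ∉ p) ∧
      IsArtinianRing (R ⧸ Ideal.span (Set.range x)) := by
  classical
  have hIp : ¬ maximalIdeal R ≤ p := fun h => hp (le_antisymm (le_maximalIdeal ‹p.IsPrime›.ne_top) h)
  have hht : (d : ℕ∞) ≤ (maximalIdeal R).height := by
    rw [← IsLocalRing.maximalIdeal_height_eq_ringKrullDim] at hd
    exact_mod_cast hd.ge
  obtain ⟨x, hx, hxh⟩ := sop_avoid (maximalIdeal R) p hIp d hht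
  obtain ⟨t, ht, htp⟩ := SetLike.not_le_iff_exists.mp hIp
  let x' : Fin m → R := fun j => if h : (j : ℕ) < d then x ⟨j, h⟩ else t
  have hle : Ideal.span (Set.range x) ≤ Ideal.span (Set.range x') := by
    rw [Ideal.span_le]
    rintro _ ⟨i, rfl⟩
    refine Ideal.subset_span ⟨⟨i, lt_of_lt_of_le i.2 hdm⟩, ?_⟩
    simp only [x', dif_pos i.2]
  refine ⟨x', fun j => ?_, ?_⟩
  · simp only [x']
    split_ifs with h
    · exact hx _
    · exact ⟨ht, htp⟩
  · have hle' : Ideal.span (Set.range x) ≤ maximalIdeal R := by
      rw [Ideal.span_le]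
      rintro _ ⟨i, rfl⟩
      exact (hx i).1
    have hmem : maximalIdeal R ∈ (Ideal.span (Set.range x)).minimalPrimes := by
      refine Ideal.mem_minimalPrimes_of_height_le hle' ?_
      rw [← IsLocalRing.maximalIdeal_height_eq_ringKrullDim] at hd
      have : (maximalIdeal R).height = d := by exact_mod_cast hd
      rw [this]
      exact hxh
    haveI : IsArtinianRing (R ⧸ Ideal.span (Set.range x)) :=
      IsLocalRing.quotient_artinian_of_mem_minimalPrimes_of_isLocalRing _ hmem
    exact (Ideal.Quotient.factor_surjective hle).isArtinianRing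

end Groth.Agent.Lib.Helper22.UnramPS
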