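import Mathlib
import Groth.Agent.Lib.Helper22.ComplKaehlerGen

set_option autoImplicit false
set_option linter.style.haveILetI false
set_option linter.unusedSectionVars false

namespace Groth.Agent.Lib.Helper22.ComplKaehlerFibre

open IsLocalRing TensorProduct KaehlerDifferential
open Groth.Agent.Lib.Helper22.ComplKaehlerGen

universe u

variable (k A : Type u) [Field k] [CommRing A] [Algebra k A] [IsLocalRing A] [IsNoetherianRing A]
  [Module.Finite A (AdicCompletion (maximalIdeal A) (Ω[A⁄k]))] (p : Ideal A) [p.IsPrime]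

local notation "Ŵ" => AdicCompletion (maximalIdeal A) (Ω[A⁄k])
local notation "Rp" => Localization.AtPrime p
local notation "Np" => LocalizedModule p.primeCompl (AdicCompletion (maximalIdeal A) (Ω[A⁄k]))
local notation "Kp" => ResidueField (Localization.AtPrime p)

/-- The class of `d̂a` in `(Ω̂)_p`. -/
noncomputable def dhat (a : A) : Np :=
  LocalizedModule.mkLinearMap p.primeCompl Ŵ (AdicCompletion.of (maximalIdeal A) (Ω[A⁄k]) (D k A a))

/-- The class of `d̂a` in the fibre `κ(p) ⊗ (Ω̂)_p`. -/
noncomputable def τ (a : A) : Kp ⊗[Rp] Np := (1 : Kp) ⊗ₜ[Rp] dhat k A p a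

/-- The image of `a` in `κ(p)`. -/
noncomputable def ι (a : A) : Kp := residue Rp (algebraMap A Rp a)

theorem dhat_add (a b : A) : dhat k A p (a + b) = dhat k A p a + dhat k A p b := by
  simp only [dhat, map_add]

theorem dhat_one : dhat k A p 1 = 0 := by
  simp only [dhat, Derivation.map_one_eq_zero, map_zero]

theorem dhat_mul (a b : A) : dhat k A p (a * b) =
    algebraMap A Rp a • dhat k A p b + algebraMap A Rp b • dhat k A p a := by
  simp only [dhat, Derivation.leibniz, map_add, map_smul, algebraMap_smul]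

theorem τ_add (a b : A) : τ k A p (a + b) = τ k A p a + τ k A p b := by
  simp only [τ, dhat_add, TensorProduct.tmul_add]

theorem τ_one : τ k A p 1 = 0 := by
  simp only [τ, dhat_one, TensorProduct.tmul_zero]

theorem τ_smul (r : Rp) (n : Np) : (1 : Kp) ⊗ₜ[Rp] (r • n) = residue Rp r • ((1 : Kp) ⊗ₜ[Rp] n) := by
  rw [TensorProduct.tmul_smul, ← algebraMap_smul Kp r ((1 : Kp) ⊗ₜ[Rp] n)]
  rfl

theorem τ_mul (a b : A) : τ k A p (a * b) = ι A p a • τ k A p b + ι A p b • τ k A p a := by
  simp only [τ, ι, dhat_mul, TensorProduct.tmul_add, τ_smul]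

theorem ι_ne_zero {a : A} (ha : a ∉ p) : ι A p a ≠ 0 := by
  rw [ι, Ne, residue_eq_zero_iff, IsLocalization.AtPrime.to_map_mem_maximal_iff Rp p]
  exact ha

theorem span_dhat : Submodule.span Rp (Set.range (dhat k A p)) = ⊤ := by
  have h := span_eq_top_of_isLocalizedModule Rp p.primeCompl
    (LocalizedModule.mkLinearMap p.primeCompl Ŵ) (span_of_D_eq_top (k := k) (A := A))
  rw [← Set.range_comp] at h
  exact h

theorem span_τ : Submodule.span Kp (Set.range (τ k A p)) = ⊤ := by
  have h1 : (Submodule.span Rp (Set.range (dhat k A p))).map (TensorProduct.mk Rp Kp Np 1) = ⊤ :=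
    (map_tensorProduct_mk_eq_top).mpr (span_dhat k A p)
  rw [Submodule.map_span, ← Set.range_comp] at h1
  have h2 := Submodule.span_le_restrictScalars Rp Kp
    (Set.range (⇑(TensorProduct.mk Rp Kp Np 1) ∘ dhat k A p))
  rw [h1, top_le_iff] at h2
  exact (Submodule.restrictScalars_eq_top_iff Rp Kp _).mp h2

theorem span_units_mul (x : A) (hx : x ∉ p) :
    Submodule.span Kp {v | ∃ u : Aˣ, v = τ k A p ((u : A) * x)} = ⊤ := by
  set V' := Submodule.span Kp {v | ∃ u : Aˣ, v = τ k A p ((u : A) * x)} with hV'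
  have hx' : τ k A p x ∈ V' := Submodule.subset_span ⟨1, by simp⟩
  have hu : ∀ u : Aˣ, τ k A p (u : A) ∈ V' := by
    intro u
    have h1 : τ k A p ((u : A) * x) ∈ V' := Submodule.subset_span ⟨u, rfl⟩
    rw [τ_mul] at h1
    have h2 : ι A p x • τ k A p (u : A) ∈ V' := by
      have := V'.sub_mem h1 (V'.smul_mem (ι A p (u : A)) hx')
      rwa [add_sub_cancel_left] at this
    have h3 := V'.smul_mem (ι A p x)⁻¹ h2
    rwa [smul_smul, inv_mul_cancel₀ (ι_ne_zero A p hx), one_smul] at h3
  have ha : ∀ a : A, τ k A p a ∈ V' := by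
    intro a
    rcases IsLocalRing.isUnit_or_isUnit_one_sub_self a with h | h
    · exact hu h.unit
    · have h1 := hu h.unit
      have h2 : τ k A p a = - τ k A p (1 - a) := by
        have := τ_add k A p (1 - a) a
        rw [sub_add_cancel, τ_one] at this
        exact eq_neg_of_add_eq_zero_right this.symm
      rw [h2]
      exact V'.neg_mem h1
  rw [eq_top_iff, ← span_τ k A p]
  exact Submodule.span_le.mpr (by rintro _ ⟨a, rfl⟩; exact ha a)

theorem finrank_fibre (M : ℕ)
    (hgen : ∃ s : Fin M → Np, Submodule.span Rp (Set.range s) = ⊤)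
    (hmin : ∀ (s : Finset Np), Submodule.span Rp (↑s : Set Np) = ⊤ → M ≤ s.card) :
    Module.finrank Kp (Kp ⊗[Rp] Np) = M := by
  classical
  apply le_antisymm
  · obtain ⟨s, hs⟩ := hgen
    have h1 : (Submodule.span Rp (Set.range s)).map (TensorProduct.mk Rp Kp Np 1) = ⊤ :=
      (map_tensorProduct_mk_eq_top).mpr hs
    rw [Submodule.map_span, ← Set.range_comp] at h1
    have h2 : Submodule.span Kp (Set.range ((TensorProduct.mk Rp Kp Np 1) ∘ s)) = ⊤ := by
      have h2 := Submodule.span_le_restrictScalars Rp Kp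
        (Set.range (⇑(TensorProduct.mk Rp Kp Np 1) ∘ s))
      rw [h1, top_le_iff] at h2
      exact (Submodule.restrictScalars_eq_top_iff Rp Kp _).mp h2
    have h3 := finrank_range_le_card (R := Kp) ((TensorProduct.mk Rp Kp Np 1) ∘ s)
    rw [Set.finrank, h2, finrank_top, Fintype.card_fin] at h3
    exact h3
  · let b := Module.finBasis Kp (Kp ⊗[Rp] Np)
    have hsurj : Function.Surjective (TensorProduct.mk Rp Kp Np 1) :=
      TensorProduct.mk_surjective Rp Np Kp Ideal.Quotient.mk_surjective
    choose f hf using fun i => hsurj (b i)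
    have hspan := span_eq_top_of_tmul_eq_basis f b hf
    have h1 := hmin (Finset.univ.image f) (by
      rw [Finset.coe_image, Finset.coe_univ, Set.image_univ]; exact hspan)
    calc M ≤ (Finset.univ.image f).card := h1
      _ ≤ Finset.univ.card := Finset.card_image_le
      _ = Module.finrank Kp (Kp ⊗[Rp] Np) := by rw [Finset.card_univ, Fintype.card_fin]

theorem exists_units (M : ℕ)
    (hgen : ∃ s : Fin M → Np, Submodule.span Rp (Set.range s) = ⊤)
    (hmin : ∀ (s : Finset Np), Submodule.span Rp (↑s : Set Np) = ⊤ → M ≤ s.card)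
    (x : Fin M → A) (hx : ∀ i, x i ∉ p) :
    ∃ u : Fin M → Aˣ, Submodule.span Rp
      (Set.range (fun i => dhat k A p ((u i : A) * x i))) = ⊤ := by
  classical
  have hdim := finrank_fibre k A p M hgen hmin
  obtain ⟨v, hv, hli⟩ := exists_linearIndependent_of_span_eq_top M hdim
    (fun i => {v | ∃ u : Aˣ, v = τ k A p ((u : A) * x i)})
    (fun i => span_units_mul k A p (x i) (hx i))
  choose u hu using hv
  refine ⟨u, ?_⟩
  have hcard : Fintype.card (Fin M) = Module.finrank Kp (Kp ⊗[Rp] Np) := by
    rw [Fintype.card_fin, hdim]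
  let b := basisOfLinearIndependentOfCardEqFinrank' v hli hcard
  refine span_eq_top_of_tmul_eq_basis (fun i => dhat k A p ((u i : A) * x i)) b (fun i => ?_)
  rw [coe_basisOfLinearIndependentOfCardEqFinrank', hu i]
  rfl

end Groth.Agent.Lib.Helper22.ComplKaehlerFibre
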