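import Mathlib
import Groth.Agent.Lib.Helper22.ComplKaehlerFibre

set_option autoImplicit false
set_option linter.style.haveILetI false
set_option linter.unusedSectionVars false

namespace Groth.Agent.Lib.Helper22.UnramPS

open IsLocalRing TensorProduct KaehlerDifferential
open Groth.Agent.Lib.Helper22.ComplKaehlerFibre Groth.Agent.Lib.Helper22.ComplKaehlerGen

universe u

section Loc

variable {A : Type*} [CommRing A] (S : Submonoid A) {M : Type*} [AddCommGroup M] [Module A M]

theorem exists_smul_mem_span_of_mem_span {ι : Type*} (y : ι → M) (x : M)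
    (h : LocalizedModule.mkLinearMap S M x ∈ Submodule.span (Localization S)
      (Set.range (fun i => LocalizedModule.mkLinearMap S M (y i)))) :
    ∃ s ∈ S, s • x ∈ Submodule.span A (Set.range y) := by
  have hr : Set.range (fun i => LocalizedModule.mkLinearMap S M (y i)) =
      (LocalizedModule.mkLinearMap S M) '' (Set.range y) := by
    rw [← Set.range_comp]; rfl
  rw [hr, ← Submodule.localized'_span (Localization S) S (LocalizedModule.mkLinearMap S M),
    Submodule.mem_localized'] at h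
  obtain ⟨m, hm, s, hs⟩ := h
  rw [IsLocalizedModule.mk'_eq_iff, Submonoid.smul_def, ← LinearMap.map_smul,
    IsLocalizedModule.eq_iff_exists S (LocalizedModule.mkLinearMap S M)] at hs
  obtain ⟨c, hc⟩ := hs
  refine ⟨(c : A) * (s : A), (c * s).2, ?_⟩
  have : ((c : A) * (s : A)) • x = (c : A) • m := by
    rw [mul_smul]
    exact hc.symm
  rw [this]
  exact Submodule.smul_mem _ _ hm

theorem span_eq_top_of_forall_exists_smul_mem {ι : Type*} (y : ι → M)
    (h : ∀ x : M, ∃ s ∈ S, s • x ∈ Submodule.span A (Set.range y)) :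
    Submodule.span (Localization S)
      (Set.range (fun i => LocalizedModule.mkLinearMap S M (y i))) = ⊤ := by
  have hr : Set.range (fun i => LocalizedModule.mkLinearMap S M (y i)) =
      (LocalizedModule.mkLinearMap S M) '' (Set.range y) := by
    rw [← Set.range_comp]; rfl
  rw [hr, ← Submodule.localized'_span (Localization S) S (LocalizedModule.mkLinearMap S M),
    eq_top_iff]
  rintro z -
  obtain ⟨⟨x, t⟩, rfl⟩ := IsLocalizedModule.mk'_surjective S (LocalizedModule.mkLinearMap S M) z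
  obtain ⟨s, hs, hsx⟩ := h x
  rw [Submodule.mem_localized']
  refine ⟨s • x, hsx, ⟨s, hs⟩ * t, ?_⟩
  exact IsLocalizedModule.mk'_cancel_left (f := LocalizedModule.mkLinearMap S M) x ⟨s, hs⟩ t

end Loc

theorem isUnramifiedAt_iff {R A : Type*} [CommRing R] [CommRing A] [Algebra R A] (p : Ideal A)
    [p.IsPrime] : Algebra.IsUnramifiedAt R p ↔ ∀ ω : Ω[A⁄R], ∃ s ∉ p, s • ω = 0 := by
  have h : (⟨p, inferInstance⟩ : PrimeSpectrum A) ∈ Algebra.unramifiedLocus R A ↔
      Algebra.IsUnramifiedAt R p := Iff.rfl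
  rw [← h, Algebra.unramifiedLocus_eq_compl_support, Set.mem_compl_iff,
    Module.notMem_support_iff']

section Fibre

variable (k A : Type u) [Field k] [CommRing A] [Algebra k A] [IsLocalRing A] [IsNoetherianRing A]
  [Module.Finite A (AdicCompletion (maximalIdeal A) (Ω[A⁄k]))] (p : Ideal A) [p.IsPrime]

local notation "Ŵ" => AdicCompletion (maximalIdeal A) (Ω[A⁄k])
local notation "Rp" => Localization.AtPrime p
local notation "Np" => LocalizedModule p.primeCompl (AdicCompletion (maximalIdeal A) (Ω[A⁄k]))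
local notation "Kp" => ResidueField (Localization.AtPrime p)

theorem finrank_fibre_le (m : ℕ)
    (hgen : ∃ s : Fin m → Np, Submodule.span Rp (Set.range s) = ⊤) :
    Module.finrank Kp (Kp ⊗[Rp] Np) ≤ m := by
  classical
  obtain ⟨s, hs⟩ := hgen
  have h1 : (Submodule.span Rp (Set.range s)).map (TensorProduct.mk Rp Kp Np 1) = ⊤ :=
    (map_tensorProduct_mk_eq_top).mpr hs
  rw [Submodule.map_span, ← Set.range_comp] at h1
  have h2 : Submodule.span Kp (Set.range ((TensorProduct.mk Rp Kp Np 1) ∘ s)) = ⊤ := by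
    have h2 := Submodule.span_le_restrictScalars Rp Kp
      (Set.range (⇑(TensorProduct.mk Rp Kp Np 1) ∘ s))
    rw [h1, top_le_iff] at h2
    exact (Submodule.restrictScalars_eq_top_iff Rp Kp _).mp h2
  have h3 := finrank_range_le_card (R := Kp) ((TensorProduct.mk Rp Kp Np 1) ∘ s)
  rw [Set.finrank, h2, finrank_top, Fintype.card_fin] at h3
  exact h3

theorem finrank_fibre_eq :
    Module.finrank Kp (Kp ⊗[A] Ŵ) = Module.finrank Kp (Kp ⊗[Rp] Np) := by
  let e1 : Np ≃ₗ[Rp] Rp ⊗[A] Ŵ := LocalizedModule.equivTensorProduct p.primeCompl Ŵ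
  let e2 : Kp ⊗[Rp] (Rp ⊗[A] Ŵ) ≃ₗ[Kp] Kp ⊗[A] Ŵ :=
    AlgebraTensorModule.cancelBaseChange A Rp Kp Kp Ŵ
  let e3 : Kp ⊗[Rp] Np ≃ₗ[Kp] Kp ⊗[Rp] (Rp ⊗[A] Ŵ) :=
    AlgebraTensorModule.congr (LinearEquiv.refl Kp Kp) e1
  exact (e3.trans e2).finrank_eq.symm

theorem exists_units_of_finrank (M : ℕ) (hdim : Module.finrank Kp (Kp ⊗[Rp] Np) = M)
    (x : Fin M → A) (hx : ∀ i, x i ∉ p) :
    ∃ u : Fin M → Aˣ, Submodule.span Rp
      (Set.range (fun i => dhat k A p ((u i : A) * x i))) = ⊤ := by
  classical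
  obtain ⟨v, hv, hli⟩ := exists_linearIndependent_of_span_eq_top M hdim
    (fun i => {v | ∃ u : Aˣ, v = τ k A p ((u : A) * x i)})
    (fun i => span_units_mul k A p (x i) (hx i))
  choose u hu using hv
  refine ⟨u, ?_⟩
  have hcard : Fintype.card (Fin M) = Module.finrank Kp (Kp ⊗[Rp] Np) := by
    rw [Fintype.card_fin, hdim]
  let b := basisOfLinearIndependentOfCardEqFinrank' v hli hcard
  refine span_eq_top_of_tmul_eq_basis (fun i => dhat k A p ((u i : A) * x i)) b (fun i => ?_)
  rw [coe_basisOfLinearIndependentOfCardEqFinrank', hu i]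
  rfl

end Fibre

end Groth.Agent.Lib.Helper22.UnramPS
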