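import Mathlib
import Groth.Agent.Lib.Helper22.UnramPSA
import Groth.Agent.Lib.Helper22.UnramPSB
import Groth.Agent.Lib.Helper22.BoundedDerE
import Groth.Agent.Lib.Helper22.SepPowSerD
import Groth.Agent.Lib.Helper12.CohenFinD
import Groth.Agent.S5991

set_option autoImplicit false
set_option linter.style.haveILetI false
set_option linter.unusedSectionVars false

namespace Groth.Agent.Lib.Helper22.UnramPS

open IsLocalRing TensorProduct KaehlerDifferential
open Groth.Agent.Lib.Helper22.ComplKaehlerFibre Groth.Agent.Lib.Helper22.ComplKaehlerGen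
open Groth.Agent.Lib.Helper22.SepPowSer Groth.Agent.Lib.Helper12.CohenFin

universe u

variable (k A : Type u) [Field k] [CommRing A] [IsLocalRing A] [IsNoetherianRing A] [Algebra k A]
  [IsAdicComplete (maximalIdeal A) A] [Module.Finite k (ResidueField A)]
  (p : Ideal A) [p.IsPrime] (m : ℕ)

local notation "Ŵ" => AdicCompletion (maximalIdeal A) (Ω[A⁄k])
local notation "Rp" => Localization.AtPrime p
local notation "Np" => LocalizedModule p.primeCompl (AdicCompletion (maximalIdeal A) (Ω[A⁄k]))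
local notation "Kp" => ResidueField (Localization.AtPrime p)
local notation "𝔄" => MvPowerSeries (Fin m) k

theorem of_unramified [Algebra 𝔄 A] [IsScalarTower k 𝔄 A] [Module.Finite 𝔄 A]
    (hun : Algebra.IsUnramifiedAt 𝔄 p) :
    ∃ s : Fin m → Np, Submodule.span Rp (Set.range s) = ⊤ := by
  classical
  have hfk : Module.Finite (ResidueField A) (Ω[ResidueField A⁄k]) := by
    have h1 : Algebra.FiniteType k (ResidueField A) := inferInstance
    infer_instance
  obtain ⟨-, -, hker⟩ := Groth.Agent.S5991.result k 𝔄 A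
  refine ⟨fun j => LocalizedModule.mkLinearMap p.primeCompl Ŵ (gen k m A j), ?_⟩
  apply span_eq_top_of_forall_exists_smul_mem
  intro x
  have hfinΩ : Module.Finite A Ω[A⁄𝔄] := inferInstance
  obtain ⟨ω, hω⟩ := (Groth.Agent.S9405.of_bijective_of_finite (maximalIdeal A) Ω[A⁄𝔄]).2
    (AdicCompletion.map (maximalIdeal A) (KaehlerDifferential.map k 𝔄 A A) x)
  obtain ⟨s, hs, hsω⟩ := (isUnramifiedAt_iff p).mp hun ω
  refine ⟨s, hs, ?_⟩
  have hmem : s • x ∈ LinearMap.ker
      (AdicCompletion.map (maximalIdeal A) (KaehlerDifferential.map k 𝔄 A A)) := by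
    rw [LinearMap.mem_ker]
    have h1 : AdicCompletion.map (maximalIdeal A) (KaehlerDifferential.map k 𝔄 A A) (s • x) =
        s • AdicCompletion.map (maximalIdeal A) (KaehlerDifferential.map k 𝔄 A A) x :=
      ((AdicCompletion.map (maximalIdeal A)
        (KaehlerDifferential.map k 𝔄 A A)).restrictScalars A).map_smul s x
    rw [h1, ← hω, ← map_smul, hsω, map_zero]
  rw [← hker] at hmem
  obtain ⟨y, hy⟩ := hmem
  rw [← hy]
  exact map_mapBaseChange_mem k m A y

theorem exists_algebra (hp : p ≠ maximalIdeal A) (q : Ideal A) [q.IsPrime] (hqp : q ≤ p)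
    (hdim : ringKrullDim (A ⧸ q) = ringKrullDim A)
    (hgen : ∃ s : Fin m → Np, Submodule.span Rp (Set.range s) = ⊤) :
    ∃ (_ : Algebra 𝔄 A) (_ : IsScalarTower k 𝔄 A),
      IsLocalHom (algebraMap 𝔄 A) ∧ Module.Finite 𝔄 A ∧ Algebra.IsUnramifiedAt 𝔄 p := by
  classical
  have hfk : Module.Finite (A ⧸ maximalIdeal A) (Ω[A ⧸ maximalIdeal A⁄k]) := by
    have h1 : Algebra.FiniteType k (ResidueField A) := inferInstance
    exact inferInstanceAs (Module.Finite (ResidueField A) (Ω[ResidueField A⁄k]))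
  have hcot : Module.Finite (A ⧸ maximalIdeal A) (maximalIdeal A).Cotangent :=
    inferInstanceAs (Module.Finite (ResidueField A) (CotangentSpace A))
  have hW : Module.Finite A Ŵ :=
    Groth.Agent.Lib.Helper5.ComplKaehler.finite_completedKaehler (A := k) (maximalIdeal A)
  set M₀ := Module.finrank Kp (Kp ⊗[Rp] Np) with hM₀
  have hM₀m : M₀ ≤ m := finrank_fibre_le k A p m hgen
  obtain ⟨d, -, hd, -, -⟩ := exists_sop A
  have hdM₀ : d ≤ M₀ := by
    have h1 := Groth.Agent.Lib.Helper22.BoundedDer.main k A p q hqp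
    rw [hdim, hd, ← Module.finrank_eq_rank, Cardinal.toENat_nat] at h1
    have h2 : d ≤ Module.finrank Kp (Kp ⊗[A] Ŵ) := by exact_mod_cast h1
    rwa [finrank_fibre_eq k A p] at h2
  obtain ⟨x, hx, hart⟩ := exists_sop_avoid A p hp d m hd (hdM₀.trans hM₀m)
  obtain ⟨u, hu⟩ := exists_units_of_finrank k A p M₀ rfl (fun i => x (Fin.castLE hM₀m i))
    (fun i => (hx _).2)
  let T : Fin m → A := fun j => if h : (j : ℕ) < M₀ then (u ⟨j, h⟩ : A) * x j else x j
  have hTm : ∀ j, T j ∈ maximalIdeal A := by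
    intro j
    simp only [T]
    split_ifs with h
    · exact Ideal.mul_mem_left _ _ (hx j).1
    · exact (hx j).1
  have hspanT : Ideal.span (Set.range T) = Ideal.span (Set.range x) := by
    apply le_antisymm
    · rw [Ideal.span_le]
      rintro _ ⟨j, rfl⟩
      simp only [T]
      split_ifs with h
      · exact Ideal.mul_mem_left _ _ (Ideal.subset_span ⟨j, rfl⟩)
      · exact Ideal.subset_span ⟨j, rfl⟩
    · rw [Ideal.span_le]
      rintro _ ⟨j, rfl⟩
      by_cases h : (j : ℕ) < M₀
      · have h1 : T j ∈ Ideal.span (Set.range T) := Ideal.subset_span ⟨j, rfl⟩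
        have h2 : x j = ((u ⟨j, h⟩)⁻¹ : Aˣ) * T j := by
          simp only [T, dif_pos h]
          rw [← mul_assoc, Units.inv_mul, one_mul]
        rw [SetLike.mem_coe, h2]
        exact Ideal.mul_mem_left _ _ h1
      · have h1 : T j ∈ Ideal.span (Set.range T) := Ideal.subset_span ⟨j, rfl⟩
        simp only [T, dif_neg h] at h1
        exact h1
  have hTgen : Submodule.span Rp (Set.range (fun j => dhat k A p (T j))) = ⊤ := by
    rw [eq_top_iff, ← hu]
    apply Submodule.span_mono
    rintro _ ⟨i, rfl⟩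
    refine ⟨Fin.castLE hM₀m i, ?_⟩
    have : T (Fin.castLE hM₀m i) = (u i : A) * x (Fin.castLE hM₀m i) := by
      have hi : ((Fin.castLE hM₀m i : Fin m) : ℕ) < M₀ := by simp
      simp only [T, dif_pos hi]
      rfl
    simp only [this]
  obtain ⟨Φ, hC, hX⟩ := exists_eval A (algebraMap k A) T hTm
  have hm0 : maximalIdeal k = ⊥ := IsLocalRing.maximalIdeal_eq_bot
  haveI : IsPrecomplete (maximalIdeal k) k := by
    rw [hm0]
    infer_instance
  have hv : (maximalIdeal k).map (algebraMap k A) ≤ maximalIdeal A := by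
    rw [hm0, Ideal.map_bot]
    exact bot_le
  have hart' : IsArtinianRing (A ⧸ ((maximalIdeal k).map (algebraMap k A) ⊔
      Ideal.span (Set.range T))) := by
    have : (maximalIdeal k).map (algebraMap k A) ⊔ Ideal.span (Set.range T) =
        Ideal.span (Set.range x) := by rw [hm0, Ideal.map_bot, bot_sup_eq, hspanT]
    rw [this]
    exact hart
  have hfin : Φ.Finite := finite_eval Φ T hC hX hv hTm hart'
  have hloc : IsLocalHom Φ := isLocalHom_eval Φ (algebraMap k A) T hC hX hv hTm
  letI : Algebra 𝔄 A := Φ.toAlgebra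
  have htower : IsScalarTower k 𝔄 A := IsScalarTower.of_algebraMap_eq (fun c => by
    change algebraMap k A c = Φ (algebraMap k 𝔄 c)
    rw [MvPowerSeries.algebraMap_apply, Algebra.algebraMap_self_apply, hC])
  have hfinΦ : Module.Finite 𝔄 A := hfin
  refine ⟨inferInstance, htower, hloc, hfinΦ, ?_⟩
  rw [isUnramifiedAt_iff]
  intro ω
  obtain ⟨η, rfl⟩ := KaehlerDifferential.map_surjective k 𝔄 A ω
  have hfinΩ : Module.Finite A Ω[A⁄𝔄] := inferInstance
  obtain ⟨Λ, hΛ⟩ := exists_extend_adicCompletion (maximalIdeal A)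
    (KaehlerDifferential.map k 𝔄 A A) ⊤ Module.Finite.fg_top le_top
  have hΛT : ∀ j, Λ (AdicCompletion.of (maximalIdeal A) Ω[A⁄k] (D k A (T j))) = 0 := by
    intro j
    rw [hΛ, KaehlerDifferential.map_D, ← hX j]
    exact (D 𝔄 A).map_algebraMap (MvPowerSeries.X j)
  have hmem : LocalizedModule.mkLinearMap p.primeCompl Ŵ
      (AdicCompletion.of (maximalIdeal A) Ω[A⁄k] η) ∈ Submodule.span Rp
        (Set.range (fun j => LocalizedModule.mkLinearMap p.primeCompl Ŵ
          (AdicCompletion.of (maximalIdeal A) Ω[A⁄k] (D k A (T j))))) := by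
    have := hTgen
    simp only [dhat] at this
    rw [this]
    trivial
  obtain ⟨s, hs, hsη⟩ := exists_smul_mem_span_of_mem_span p.primeCompl
    (fun j => AdicCompletion.of (maximalIdeal A) Ω[A⁄k] (D k A (T j)))
    (AdicCompletion.of (maximalIdeal A) Ω[A⁄k] η) hmem
  refine ⟨s, hs, ?_⟩
  have hle : Submodule.span A (Set.range fun j =>
      AdicCompletion.of (maximalIdeal A) Ω[A⁄k] (D k A (T j))) ≤ LinearMap.ker Λ := by
    rw [Submodule.span_le]
    rintro _ ⟨j, rfl⟩
    exact hΛT j
  have h0 : Λ (s • AdicCompletion.of (maximalIdeal A) Ω[A⁄k] η) = 0 := hle hsη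
  rw [map_smul, hΛ] at h0
  exact h0

end Groth.Agent.Lib.Helper22.UnramPS
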