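import Mathlib
import Groth.Agent.Lib.Helper22.UnramPSB
import Groth.Agent.Lib.Helper22.BoundedDerD

set_option autoImplicit false
set_option linter.style.haveILetI false
set_option linter.unusedSectionVars false

namespace Groth.Agent.Lib.Helper22.UnramPS

open IsLocalRing TensorProduct KaehlerDifferential
open Groth.Agent.Lib.Helper22.SepPowSer Groth.Agent.Lib.Helper22.BoundedDer

universe u

/-- The functionals on the completed differentials induced by bounded derivations of a quotient
domain, and their linear independence. -/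
theorem exists_functionals {k A : Type u} [Field k] [CommRing A] [Algebra k A]
    [IsNoetherianRing A] (I : Ideal A) [IsAdicComplete I A]
    (B : Type u) [CommRing B] [IsDomain B] [Algebra A B] [Algebra k B] [IsScalarTower k A B]
    (hsurj : Function.Surjective (algebraMap A B))
    (d : ℕ) (Δ : Fin d → Derivation k B (FractionRing B))
    (hΔ : LinearIndependent (FractionRing B) Δ)
    (hΦ : ∀ i, ∃ Φ : Submodule B (FractionRing B), Φ.FG ∧ ∀ b, Δ i b ∈ Φ) :
    ∃ Λ : Fin d → (AdicCompletion I Ω[A⁄k] →ₗ[A] FractionRing B),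
      ∀ c : Fin d → FractionRing B, (∀ x, ∑ i, c i * Λ i x = 0) → ∀ i, c i = 0 := by
  classical
  set E := FractionRing B
  set W := AdicCompletion I Ω[A⁄k]
  choose Φ hΦfg hΦmem using hΦ
  let δ : Fin d → Derivation k A E := fun i => (Δ i).compAlgebraMap A
  let l : Fin d → Ω[A⁄k] →ₗ[A] E := fun i => (δ i).liftKaehlerDifferential
  have hlD : ∀ i a, l i (D k A a) = Δ i (algebraMap A B a) := by
    intro i a
    exact Derivation.liftKaehlerDifferential_comp_D (δ i) a
  have hfinAB : Module.Finite A B := Module.Finite.of_surjective (Algebra.linearMap A B) hsurj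
  have hrange : ∀ i, LinearMap.range (l i) ≤ (Φ i).restrictScalars A := by
    intro i
    rw [LinearMap.range_eq_map, ← KaehlerDifferential.span_range_derivation, Submodule.map_span,
      Submodule.span_le]
    rintro _ ⟨_, ⟨a, rfl⟩, rfl⟩
    rw [hlD]
    exact hΦmem i _
  have hΛ : ∀ i, ∃ Λ : W →ₗ[A] E, ∀ x, Λ (AdicCompletion.of I Ω[A⁄k] x) = l i x := fun i =>
    exists_extend_adicCompletion I (l i) ((Φ i).restrictScalars A)
      (Submodule.FG.restrictScalars (hΦfg i)) (hrange i)
  choose Λ hΛof using hΛ
  refine ⟨Λ, fun c hc => ?_⟩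
  have hsum : ∑ i, c i • Δ i = 0 := by
    ext b
    obtain ⟨a, rfl⟩ := hsurj b
    rw [derivation_sum_apply]
    have := hc (AdicCompletion.of I Ω[A⁄k] (D k A a))
    simp only [hΛof, hlD] at this
    simpa using this
  exact Fintype.linearIndependent_iff.mp hΔ c hsum

/-- Linear independence of a generating family of the localization, given enough functionals into
a field in which the localization embeds. -/
theorem linearIndependent_of_functionals {A : Type u} [CommRing A] (p : Ideal A) [p.IsPrime]
    {W : Type u} [AddCommGroup W] [Module A W] {E : Type u} [Field E] [Algebra A E]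
    (hker : ∀ a : A, algebraMap A E a = 0 → algebraMap A (Localization.AtPrime p) a = 0)
    (hkerp : ∀ a : A, algebraMap A E a = 0 → a ∈ p)
    (d : ℕ) (Λ : Fin d → (W →ₗ[A] E))
    (hΛ : ∀ c : Fin d → E, (∀ x, ∑ i, c i * Λ i x = 0) → ∀ i, c i = 0)
    (y : Fin d → W)
    (hy : Submodule.span (Localization.AtPrime p)
      (Set.range (fun j => LocalizedModule.mkLinearMap p.primeCompl W (y j))) = ⊤) :
    LinearIndependent (Localization.AtPrime p)
      (fun j => LocalizedModule.mkLinearMap p.primeCompl W (y j)) := by
  classical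
  have hspan : ∀ x : W, ∃ t ∈ p.primeCompl, t • x ∈ Submodule.span A (Set.range y) := by
    intro x
    apply exists_smul_mem_span_of_mem_span
    rw [hy]
    trivial
  have hne : ∀ t ∈ p.primeCompl, algebraMap A E t ≠ 0 := fun t ht h => ht (hkerp t h)
  let Mx : Matrix (Fin d) (Fin d) E := fun i j => Λ i (y j)
  have hleft : Function.Injective Mx.vecMul := by
    rw [← Matrix.coe_vecMulLinear, injective_iff_map_eq_zero]
    intro c hc
    have hcj : ∀ j, ∑ i, c i * Λ i (y j) = 0 := by
      intro j
      have h0 : (Matrix.vecMul c Mx) j = 0 := congrFun hc j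
      exact h0
    let Ψ : W →ₗ[A] E := ∑ i, (LinearMap.mulLeft A (c i)) ∘ₗ Λ i
    have hΨ : ∀ x, Ψ x = ∑ i, c i * Λ i x := fun x => by
      simp only [Ψ, LinearMap.sum_apply, LinearMap.comp_apply, LinearMap.mulLeft_apply]
    have hΨspan : Submodule.span A (Set.range y) ≤ LinearMap.ker Ψ := by
      rw [Submodule.span_le]
      rintro _ ⟨j, rfl⟩
      exact (hΨ _).trans (hcj j)
    have hΨ0 : ∀ x, Ψ x = 0 := by
      intro x
      obtain ⟨t, ht, htx⟩ := hspan x
      have h1 : Ψ (t • x) = 0 := hΨspan htx
      rw [map_smul, Algebra.smul_def, mul_eq_zero] at h1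
      exact h1.resolve_left (hne t ht)
    funext i
    exact hΛ c (fun x => (hΨ x).symm.trans (hΨ0 x)) i
  have hunit : IsUnit Mx := Matrix.vecMul_injective_iff_isUnit.mp hleft
  have hright : Function.Injective Mx.mulVec := Matrix.mulVec_injective_iff_isUnit.mpr hunit
  rw [Fintype.linearIndependent_iff]
  intro g hg
  obtain ⟨t, ht⟩ := IsLocalization.exist_integer_multiples p.primeCompl Finset.univ g
  choose a ha using fun j => ht j (Finset.mem_univ j)
  have hz : LocalizedModule.mkLinearMap p.primeCompl W (∑ j, a j • y j) = 0 := by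
    rw [map_sum]
    have : ∀ j, LocalizedModule.mkLinearMap p.primeCompl W (a j • y j) =
        (t : A) • (g j • LocalizedModule.mkLinearMap p.primeCompl W (y j)) := by
      intro j
      rw [map_smul, ← algebraMap_smul (Localization.AtPrime p) (a j), ha j, smul_assoc]
    simp_rw [this]
    rw [← Finset.smul_sum, hg, smul_zero]
  rw [IsLocalizedModule.eq_zero_iff p.primeCompl] at hz
  obtain ⟨t', ht'⟩ := hz
  have hmul : Mx.mulVec (fun j => algebraMap A E (a j)) = 0 := by
    funext i
    have h1 : Λ i ((t' : A) • ∑ j, a j • y j) = 0 := by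
      rw [← Submonoid.smul_def, ht', map_zero]
    rw [map_smul, map_sum, Algebra.smul_def, mul_eq_zero] at h1
    have h2 := h1.resolve_left (hne t' t'.2)
    simp only [map_smul, Algebra.smul_def] at h2
    simpa [Matrix.mulVec, dotProduct, Mx, mul_comm] using h2
  have hzero : (fun j => algebraMap A E (a j)) = 0 :=
    hright (by rw [hmul, Matrix.mulVec_zero])
  intro j
  have h1 : algebraMap A E (a j) = 0 := congrFun hzero j
  have h2 := hker _ h1
  rw [ha j, Algebra.smul_def] at h2
  exact (IsUnit.mul_right_eq_zero (IsLocalization.map_units (Localization.AtPrime p) t)).mp h2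

end Groth.Agent.Lib.Helper22.UnramPS
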