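import Mathlib
import Groth.Agent.Lib.Helper22.UnramPSC
import Groth.Agent.Lib.Helper22.UnramPSD
import Groth.Agent.Lib.Helper17.UnibranchEtaleFP
import Groth.Agent.Lib.Helper17.GeomUnibranch
import Groth.Agent.Lib.Helper17.EtaleNormal
import Groth.Agent.Lib.helper11.RegularUFD
import Groth.Agent.Lib.Helper1.RegPS
import Groth.Agent.Lib.Helper12.CohenFinB

set_option autoImplicit false
set_option linter.style.haveILetI false
set_option linter.unusedSectionVars false

namespace Groth.Agent.Lib.Helper22.UnramPS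

open IsLocalRing TensorProduct KaehlerDifferential
open Groth.Agent.Lib.Helper22.ComplKaehlerFibre Groth.Agent.Lib.Helper22.ComplKaehlerGen
open Groth.Agent.Lib.Helper22.SepPowSer Groth.Agent.Lib.Helper12.CohenFin

universe u

theorem isIntegrallyClosed_ps (k : Type u) [Field k] (n : ℕ) :
    IsIntegrallyClosed (MvPowerSeries (Fin n) k) := by
  haveI : IsDomain (MvPowerSeries (Fin n) k) := NoZeroDivisors.to_isDomain _
  haveI : UniqueFactorizationMonoid (MvPowerSeries (Fin n) k) :=
    Groth.Agent.Lib.helper11.RegularUFD.ufd _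
  infer_instance

theorem isGeomUnibranch_of_isIntegrallyClosed (D : Type u) [CommRing D] [IsDomain D]
    [IsLocalRing D] [IsIntegrallyClosed D] : CAlg2.IsGeomUnibranch D := by
  refine Groth.Agent.Lib.Helper17.GeomUnibranch.isGeomUnibranch_of_normalization D
    (fun _ _ h => h) (fun y => ⟨1, one_ne_zero, y, by simp⟩) 1 (Or.inl rfl) (fun y => ⟨0, y, ?_⟩)
  simp

variable (k A : Type u) [Field k] [CommRing A] [IsLocalRing A] [IsNoetherianRing A] [Algebra k A]
  [IsAdicComplete (maximalIdeal A) A] [Module.Finite k (ResidueField A)]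
  (p : Ideal A) [p.IsPrime] (n : ℕ)

local notation "Ŵ" => AdicCompletion (maximalIdeal A) (Ω[A⁄k])
local notation "Rp" => Localization.AtPrime p
local notation "Np" => LocalizedModule p.primeCompl (AdicCompletion (maximalIdeal A) (Ω[A⁄k]))
local notation "𝔄" => MvPowerSeries (Fin n) k

theorem injective_quotient [Algebra 𝔄 A] [Module.Finite 𝔄 A] (q : Ideal A) [q.IsPrime]
    (hdim : ringKrullDim (A ⧸ q) = n) :
    Function.Injective ((Ideal.Quotient.mk q).comp (algebraMap 𝔄 A)) := by
  haveI : IsDomain 𝔄 := NoZeroDivisors.to_isDomain _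
  refine injective_of_finite_of_dim_le _ ?_ n (Groth.Agent.Lib.Helper1.RegPS.ringKrullDim_ps n).le
    hdim
  refine RingHom.Finite.comp (RingHom.Finite.of_surjective _ Ideal.Quotient.mk_surjective) ?_
  exact (RingHom.finite_algebraMap).mpr inferInstance

theorem isEtaleAt_of_unramified [Algebra 𝔄 A] [IsScalarTower k 𝔄 A] [Module.Finite 𝔄 A]
    (hun : Algebra.IsUnramifiedAt 𝔄 p) (q : Ideal A) [q.IsPrime] (hqp : q ≤ p)
    (hdim : ringKrullDim (A ⧸ q) = n) : Algebra.IsEtaleAt 𝔄 p := by
  haveI : IsDomain 𝔄 := NoZeroDivisors.to_isDomain _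
  haveI : IsIntegrallyClosed 𝔄 := isIntegrallyClosed_ps k n
  have hinjq := injective_quotient k A n q hdim
  set r : Ideal 𝔄 := p.under 𝔄 with hr
  haveI : p.LiesOver r := ⟨rfl⟩
  haveI : IsDomain (Localization.AtPrime r) :=
    IsLocalization.isDomain_of_atPrime (Localization.AtPrime r) r
  haveI : IsIntegrallyClosed (Localization.AtPrime r) :=
    isIntegrallyClosed_of_isLocalization (Localization.AtPrime r) r.primeCompl
      r.primeCompl_le_nonZeroDivisors
  have hR : CAlg2.IsGeomUnibranch (Localization.AtPrime r) :=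
    isGeomUnibranch_of_isIntegrallyClosed _
  let ι : Localization.AtPrime r →+* Localization.AtPrime p :=
    Localization.localRingHom r p (algebraMap 𝔄 A) rfl
  have hι : ∀ a, ι (algebraMap 𝔄 (Localization.AtPrime r) a) =
      algebraMap 𝔄 (Localization.AtPrime p) a := by
    intro a
    rw [Localization.localRingHom_to_map, ← IsScalarTower.algebraMap_apply]
  have hinj : Function.Injective ι := by
    rw [injective_iff_map_eq_zero]
    intro x hx
    obtain ⟨⟨a, s⟩, rfl⟩ := IsLocalization.mk'_surjective r.primeCompl x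
    change ι (IsLocalization.mk' (Localization.AtPrime r) a s) = 0 at hx
    rw [Localization.localRingHom_mk', IsLocalization.mk'_eq_zero_iff] at hx
    obtain ⟨t, ht⟩ := hx
    have h1 : (Ideal.Quotient.mk q) ((t : A) * algebraMap 𝔄 A a) = 0 := by rw [ht, map_zero]
    rw [map_mul, mul_eq_zero] at h1
    have h2 : (Ideal.Quotient.mk q) (t : A) ≠ 0 := by
      rw [Ne, Ideal.Quotient.eq_zero_iff_mem]
      exact fun h => t.2 (hqp h)
    have h3 : a = 0 := by
      apply hinjq
      rw [map_zero]
      exact h1.resolve_left h2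
    subst h3
    exact IsLocalization.mk'_zero s
  haveI : Algebra.FinitePresentation 𝔄 A :=
    Algebra.FinitePresentation.of_finiteType.mp inferInstance
  haveI := hun
  obtain ⟨g, hg, hét⟩ := Groth.Agent.Lib.Helper17.UnibranchEtaleFP.exists_etale_away
    (A := 𝔄) (B := A) p r (Localization.AtPrime r) hR ι hι hinj
  have hsub := Algebra.basicOpen_subset_etaleLocus_iff_etale.mpr hét
  exact hsub (show (⟨p, inferInstance⟩ : PrimeSpectrum A) ∈ PrimeSpectrum.basicOpen g from hg)

end Groth.Agent.Lib.Helper22.UnramPS
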