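import Mathlib
import Groth.Agent.Lib.Helper22.UnramPSE

/-!
# The subrings `k'[[x^p]]` of a power series ring in characteristic `p` (helper22)
-/

set_option autoImplicit false
set_option linter.style.haveILetI false
set_option linter.unusedSectionVars false
universe u

namespace Groth.Agent.Lib.Helper22.PthDer

open MvPowerSeries

section Psi

variable {k : Type u} [Field k] (p : ℕ) [hpF : Fact p.Prime] [hchar : CharP k p] (n : ℕ)
  (k' : Subfield k)

/-- the embedding `k'[[X]] → k[[x]]`, `X ↦ x^p` -/
noncomputable def psi : MvPowerSeries (Fin n) k' →+* MvPowerSeries (Fin n) k :=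
  ((expand (σ := Fin n) (R := k) p hpF.out.ne_zero).toRingHom).comp
    (MvPowerSeries.map k'.subtype)

/-- a power series from its coefficient function -/
def ofFun {R : Type*} (f : (Fin n →₀ ℕ) → R) : MvPowerSeries (Fin n) R := f

omit hpF hchar in
theorem coeff_ofFun {R : Type*} [Semiring R] (f : (Fin n →₀ ℕ) → R) (e : Fin n →₀ ℕ) :
    coeff e (ofFun n f) = f e := rfl

theorem psi_apply (t : MvPowerSeries (Fin n) k') :
    psi p n k' t = expand p hpF.out.ne_zero (MvPowerSeries.map k'.subtype t) := rfl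

theorem coeff_psi_smul (t : MvPowerSeries (Fin n) k') (e : Fin n →₀ ℕ) :
    coeff (p • e) (psi p n k' t) = ((coeff e t : k') : k) := by
  rw [psi_apply, coeff_expand_smul, coeff_map]
  rfl

theorem coeff_psi_of_not_dvd (t : MvPowerSeries (Fin n) k') {m : Fin n →₀ ℕ} {i : Fin n}
    (h : ¬ p ∣ m i) : coeff m (psi p n k' t) = 0 :=
  coeff_expand_of_not_dvd p hpF.out.ne_zero _ h

omit hpF hchar in
theorem exists_smul_eq (m : Fin n →₀ ℕ) (h : ∀ i, p ∣ m i) : ∃ e : Fin n →₀ ℕ, p • e = m :=
  ⟨m.mapRange (fun a => a / p) (by simp), by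
    ext i
    simp [Nat.mul_div_cancel' (h i)]⟩

theorem psi_injective : Function.Injective (psi p n k') := by
  intro t t' h
  ext e
  have h1 := congrArg (coeff (p • e)) h
  rw [coeff_psi_smul, coeff_psi_smul] at h1
  exact h1

theorem mem_range_psi (g : MvPowerSeries (Fin n) k) (h1 : ∀ e, coeff (p • e) g ∈ k')
    (h2 : ∀ (m : Fin n →₀ ℕ) (i : Fin n), ¬ p ∣ m i → coeff m g = 0) :
    g ∈ (psi p n k').range := by
  refine ⟨ofFun n (fun e => ⟨coeff (p • e) g, h1 e⟩), ?_⟩
  ext m
  by_cases h : ∀ i, p ∣ m i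
  · obtain ⟨e, rfl⟩ := exists_smul_eq p n m h
    rw [coeff_psi_smul, coeff_ofFun]
  · push Not at h
    obtain ⟨i, hi⟩ := h
    rw [coeff_psi_of_not_dvd p n k' _ hi, h2 m i hi]

theorem pow_mem_range_psi (hk' : ∀ c : k, c ^ p ∈ k') (a : MvPowerSeries (Fin n) k) :
    a ^ p ∈ (psi p n k').range := by
  haveI : ExpChar k p := ExpChar.prime hpF.out
  rw [← map_frobenius_expand p hpF.out.ne_zero]
  apply mem_range_psi
  · intro e
    rw [coeff_map, coeff_expand_smul, frobenius_def]
    exact hk' _
  · intro m i hi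
    rw [coeff_map, coeff_expand_of_not_dvd p _ _ hi, map_zero]

/-- `k'[[x^p]]` is "closed under division" inside `k[[x]]` -/
theorem mem_range_psi_of_mul_eq (hk' : ∀ c : k, c ^ p ∈ k') (a' : MvPowerSeries (Fin n) k)
    (t w : MvPowerSeries (Fin n) k') (ht : t ≠ 0) (h : psi p n k' t * a' = psi p n k' w) :
    a' ∈ (psi p n k').range := by
  obtain ⟨v, hv⟩ := pow_mem_range_psi p n k' hk' a'
  haveI : IsDomain (MvPowerSeries (Fin n) k') := NoZeroDivisors.to_isDomain _
  haveI : IsDomain (MvPowerSeries (Fin n) k) := NoZeroDivisors.to_isDomain _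
  haveI : IsIntegrallyClosed (MvPowerSeries (Fin n) k') :=
    Groth.Agent.Lib.Helper22.UnramPS.isIntegrallyClosed_ps k' n
  have h1 : t ^ p * v = w ^ p := by
    apply psi_injective p n k'
    rw [map_mul, map_pow, map_pow, hv, ← mul_pow, h]
  let F := FractionRing (MvPowerSeries (Fin n) k')
  have ht' : algebraMap (MvPowerSeries (Fin n) k') F t ≠ 0 := by
    intro h0
    exact ht ((IsFractionRing.injective _ F) (h0.trans (map_zero _).symm))
  set z : F := algebraMap _ F w / algebraMap _ F t with hz
  have hzp : z ^ p = algebraMap _ F v := by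
    rw [hz, div_pow, ← map_pow, ← map_pow, ← h1, map_mul, map_pow, mul_comm,
      mul_div_assoc, div_self (pow_ne_zero _ ht'), mul_one]
  have hint : IsIntegral (MvPowerSeries (Fin n) k') z := by
    refine ⟨Polynomial.X ^ p - Polynomial.C v, Polynomial.monic_X_pow_sub_C v hpF.out.ne_zero, ?_⟩
    rw [Polynomial.eval₂_sub, Polynomial.eval₂_pow, Polynomial.eval₂_X, Polynomial.eval₂_C, hzp,
      sub_self]
  obtain ⟨u, hu⟩ := IsIntegrallyClosed.isIntegral_iff.mp hint
  have h2 : u * t = w := by
    apply IsFractionRing.injective (MvPowerSeries (Fin n) k') F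
    rw [map_mul, hu, hz, div_mul_cancel₀ _ ht']
  refine ⟨u, ?_⟩
  have hpt : psi p n k' t ≠ 0 := fun h0 =>
    ht (psi_injective p n k' (h0.trans (map_zero _).symm))
  apply mul_left_cancel₀ hpt
  rw [h, ← h2, map_mul, mul_comm]

end Psi

section Decomp

variable {k : Type u} [Field k] (p : ℕ) [hpF : Fact p.Prime] [hchar : CharP k p] (n : ℕ)
  (k' : Subfield k)

/-- exponent vector attached to a residue vector -/
noncomputable def rhat (r : Fin n → Fin p) : Fin n →₀ ℕ :=
  Finsupp.equivFunOnFinite.symm (fun j => (r j : ℕ))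

omit hpF in
theorem rhat_apply (r : Fin n → Fin p) (j : Fin n) : rhat p n r j = (r j : ℕ) := rfl

omit hchar in
theorem decomp_expand (g : MvPowerSeries (Fin n) k) :
    g = ∑ r : Fin n → Fin p, monomial (rhat p n r) (1 : k) *
      expand p hpF.out.ne_zero (ofFun n (fun e => coeff (p • e + rhat p n r) g)) := by
  classical
  ext m
  rw [map_sum]
  have hp0 : 0 < p := hpF.out.pos
  let r₀ : Fin n → Fin p := fun j => ⟨m j % p, Nat.mod_lt _ hp0⟩
  rw [Finset.sum_eq_single r₀]
  · have hle : rhat p n r₀ ≤ m := by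
      intro j
      rw [rhat_apply]
      exact Nat.mod_le _ _
    rw [coeff_monomial_mul, if_pos hle, one_mul]
    have hm : m - rhat p n r₀ = p • (m.mapRange (fun a => a / p) (by simp)) := by
      ext j
      rw [Finsupp.tsub_apply, rhat_apply, Finsupp.smul_apply, Finsupp.mapRange_apply, smul_eq_mul]
      change m j - m j % p = p * (m j / p)
      have := Nat.div_add_mod (m j) p
      omega
    have hm2 : p • (m.mapRange (fun a => a / p) (by simp)) + rhat p n r₀ = m := by
      ext j
      rw [Finsupp.add_apply, Finsupp.smul_apply, Finsupp.mapRange_apply, smul_eq_mul, rhat_apply]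
      exact Nat.div_add_mod (m j) p
    rw [hm, coeff_expand_smul, coeff_ofFun, hm2]
  · intro r _ hr
    rw [coeff_monomial_mul]
    split_ifs with hle
    · rw [one_mul]
      obtain ⟨j, hj⟩ : ∃ j, r j ≠ r₀ j := Function.ne_iff.mp hr
      apply coeff_expand_of_not_dvd p hpF.out.ne_zero _ (i := j)
      intro hdvd
      apply hj
      apply Fin.ext
      have h1 : (r j : ℕ) ≤ m j := by
        have := hle j
        rwa [rhat_apply] at this
      rw [Finsupp.tsub_apply, rhat_apply] at hdvd
      change (r j : ℕ) = m j % p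
      obtain ⟨c, hc⟩ := hdvd
      have h2 : m j = p * c + r j := by omega
      rw [h2, Nat.mul_add_mod, Nat.mod_eq_of_lt (r j).2]
    · rfl
  · intro h
    exact absurd (Finset.mem_univ _) h

omit hpF hchar in
theorem decomp_basis [Module.Finite k' k] (u : MvPowerSeries (Fin n) k) :
    u = ∑ i, C (Module.finBasis k' k i) * MvPowerSeries.map k'.subtype
      (ofFun n (fun e => (Module.finBasis k' k).repr (coeff e u) i)) := by
  ext e
  rw [map_sum]
  simp only [coeff_C_mul, coeff_map, coeff_ofFun]
  conv_lhs => rw [← (Module.finBasis k' k).sum_repr (coeff e u)]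
  apply Finset.sum_congr rfl
  intro i _
  rw [Subfield.smul_def, mul_comm]
  rfl

theorem exists_decomp [Module.Finite k' k] :
    ∃ (ι : Type) (_ : Fintype ι) (b : ι → MvPowerSeries (Fin n) k),
      ∀ g : MvPowerSeries (Fin n) k, ∃ c : ι → MvPowerSeries (Fin n) k',
        g = ∑ i, b i * psi p n k' (c i) := by
  classical
  refine ⟨(Fin n → Fin p) × Fin (Module.finrank k' k), inferInstance,
    fun x => monomial (rhat p n x.1) (1 : k) * C (Module.finBasis k' k x.2), fun g => ?_⟩
  refine ⟨fun x => ofFun n (fun e => (Module.finBasis k' k).repr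
    (coeff (p • e + rhat p n x.1) g) x.2), ?_⟩
  rw [Fintype.sum_prod_type]
  conv_lhs => rw [decomp_expand p n g]
  apply Finset.sum_congr rfl
  intro r _
  conv_lhs => rw [decomp_basis n k' (ofFun n (fun e => coeff (p • e + rhat p n r) g))]
  rw [map_sum, Finset.mul_sum]
  apply Finset.sum_congr rfl
  intro i _
  rw [map_mul, expand_C, psi_apply, mul_assoc]
  rfl

end Decomp

end Groth.Agent.Lib.Helper22.PthDer
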