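import Mathlib
import Groth.Agent.Lib.Helper5.PBasisInter

/-!
# A directed family of cofinite subfields with intersection `k₀(k^p)` (helper22)
-/

set_option autoImplicit false
set_option linter.style.haveILetI false
set_option linter.unusedSectionVars false
universe u

namespace Groth.Agent.Lib.Helper22.PthDer

open IntermediateField

section Family

variable (k₀ k : Type u) [Field k₀] [Field k] [Algebra k₀ k] (p : ℕ) [hpF : Fact p.Prime]
  [hchar : CharP k p]

omit hpF hchar in
/-- the differential of an element of `k₀(S)` lies in the span of the differentials of `S` -/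
theorem D_mem_span_of_mem_adjoin (S : Set k) {u : k} (hu : u ∈ adjoin k₀ S) :
    KaehlerDifferential.D k₀ k u ∈
      Submodule.span k ((fun s => KaehlerDifferential.D k₀ k s) '' S) := by
  induction hu using IntermediateField.adjoin_induction with
  | mem z hz => exact Submodule.subset_span ⟨z, hz, rfl⟩
  | algebraMap r =>
    rw [Derivation.map_algebraMap]
    exact Submodule.zero_mem _
  | add x y _ _ hx hy =>
    rw [map_add]
    exact Submodule.add_mem _ hx hy
  | inv x _ hx =>
    rw [Derivation.leibniz_inv]
    exact Submodule.smul_mem _ _ hx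
  | mul x y _ _ hx hy =>
    rw [Derivation.leibniz]
    exact Submodule.add_mem _ (Submodule.smul_mem _ _ hy) (Submodule.smul_mem _ _ hx)

theorem exists_cofinite_family :
    ∃ (ι : Type u) (_ : Preorder ι) (_ : IsDirected ι (· ≤ ·)) (_ : Nonempty ι)
      (F : ι → IntermediateField k₀ k),
      Antitone F ∧ (∀ i, ∀ c : k, c ^ p ∈ F i) ∧ (∀ i, Module.Finite (F i) k) ∧
      (⨅ i, F i) = IntermediateField.adjoin k₀ (Set.range fun y : k => y ^ p) := by
  classical
  obtain ⟨b, hb1, hb2, hb3⟩ :=
    exists_linearIndependent k (Set.range (KaehlerDifferential.D k₀ k))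
  rw [KaehlerDifferential.span_range_derivation] at hb2
  have hch : ∀ i : b, ∃ y : k, KaehlerDifferential.D k₀ k y = i.1 := fun i => hb1 i.2
  choose x hx using hch
  have hli : LinearIndependent k (fun i : b => KaehlerDifferential.D k₀ k (x i)) := by
    have : (fun i : b => KaehlerDifferential.D k₀ k (x i)) = fun i : b => (i : Ω[k⁄k₀]) :=
      funext hx
    rw [this]
    exact hb3
  have hspan : Submodule.span k (Set.range fun i : b => KaehlerDifferential.D k₀ k (x i)) = ⊤ := by
    have : (fun i : b => KaehlerDifferential.D k₀ k (x i)) = fun i : b => (i : Ω[k⁄k₀]) :=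
      funext hx
    rw [this, Subtype.range_coe, hb2]
  set P : Set k := Set.range fun y : k => y ^ p with hP
  let F : Finset b → IntermediateField k₀ k := fun T => adjoin k₀ (P ∪ x '' {i | i ∉ T})
  have hDP : ∀ z ∈ P, KaehlerDifferential.D k₀ k z = 0 := by
    rintro _ ⟨y, rfl⟩
    rw [Derivation.leibniz_pow, ← Nat.cast_smul_eq_nsmul k, CharP.cast_eq_zero k p, zero_smul]
  -- all of `k` is generated
  have htop : adjoin k₀ (P ∪ Set.range x) = ⊤ := by
    rw [eq_top_iff]
    intro u _
    set E' : IntermediateField k₀ k := adjoin k₀ (P ∪ Set.range x) with hE'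
    have hker : (⊤ : Submodule k (Ω[k⁄k₀])) ≤
        LinearMap.ker (KaehlerDifferential.map k₀ E' k k) := by
      rw [← hspan, Submodule.span_le]
      rintro _ ⟨i, rfl⟩
      rw [SetLike.mem_coe, LinearMap.mem_ker, KaehlerDifferential.map_D, Algebra.algebraMap_self,
        RingHom.id_apply]
      have hxi : x i ∈ E' := subset_adjoin k₀ _ (Or.inr ⟨i, rfl⟩)
      have : x i = algebraMap E' k ⟨x i, hxi⟩ := rfl
      rw [this, Derivation.map_algebraMap]
    have hDu : KaehlerDifferential.D E' k u = 0 := by
      have h1 : KaehlerDifferential.map k₀ E' k k (KaehlerDifferential.D k₀ k u) = 0 :=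
        hker Submodule.mem_top
      rwa [KaehlerDifferential.map_D, Algebra.algebraMap_self, RingHom.id_apply] at h1
    have h2 := Groth.Agent.Lib.Helper5.PBasis.mem_pPower_of_D_eq_zero p hDu
    have hle : EGA41.pPowerSubalgebra p E' k ≤ ⊥ := by
      apply Algebra.adjoin_le
      rintro _ ⟨y, rfl⟩
      rw [SetLike.mem_coe, Algebra.mem_bot]
      exact ⟨⟨y ^ p, subset_adjoin k₀ _ (Or.inl ⟨y, rfl⟩)⟩, rfl⟩
    obtain ⟨e, he⟩ := Algebra.mem_bot.mp (hle h2)
    rw [← he]
    exact e.2
  refine ⟨Finset b, inferInstance, inferInstance, inferInstance, F, ?_, ?_, ?_, ?_⟩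
  · intro T T' hTT'
    apply adjoin.mono
    apply Set.union_subset_union_right
    apply Set.image_mono
    intro i hi hmem
    exact hi (hTT' hmem)
  · intro T c
    exact subset_adjoin k₀ _ (Or.inl ⟨c, rfl⟩)
  · intro T
    have h1 : (adjoin (F T) (x '' (T : Set b))).restrictScalars k₀ =
        adjoin k₀ ((P ∪ x '' {i | i ∉ T}) ∪ x '' (T : Set b)) := adjoin_adjoin_left k₀ _ _
    have hset : (P ∪ x '' {i | i ∉ T}) ∪ x '' (T : Set b) = P ∪ Set.range x := by
      rw [Set.union_assoc, ← Set.image_union]
      congr 1
      rw [← Set.image_univ]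
      congr 1
      ext i
      simp only [Set.mem_union, Set.mem_ofPred_eq, Finset.mem_coe, Set.mem_univ, iff_true]
      tauto
    rw [hset, htop] at h1
    have h2 : adjoin (F T) (x '' (T : Set b)) = ⊤ :=
      (IntermediateField.restrictScalars_eq_top_iff).mp h1
    haveI : Finite (x '' (T : Set b)) := (Set.Finite.image x T.finite_toSet).to_subtype
    have hfin : FiniteDimensional (F T) (adjoin (F T) (x '' (T : Set b))) := by
      apply IntermediateField.finiteDimensional_adjoin
      rintro _ ⟨i, -, rfl⟩
      apply IsIntegral.of_pow hpF.out.pos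
      have hmem : x i ^ p ∈ F T := subset_adjoin k₀ _ (Or.inl ⟨x i, rfl⟩)
      have : x i ^ p = algebraMap (F T) k ⟨x i ^ p, hmem⟩ := rfl
      rw [this]
      exact isIntegral_algebraMap
    rw [h2] at hfin
    exact Module.Finite.equiv (IntermediateField.topEquiv (F := F T) (E := k)).toLinearEquiv
  · apply le_antisymm
    · intro u hu
      rw [← Groth.Agent.Lib.Helper5.PBasis.mem_pPower_iff_mem_adjoin p]
      apply Groth.Agent.Lib.Helper5.PBasis.mem_pPower_of_D_eq_zero p
      set v : b → Ω[k⁄k₀] := fun i => KaehlerDifferential.D k₀ k (x i) with hv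
      have hω : KaehlerDifferential.D k₀ k u ∈ Submodule.span k (Set.range v) := by
        rw [hspan]
        exact Submodule.mem_top
      obtain ⟨c, hc⟩ := Finsupp.mem_span_range_iff_exists_finsupp.mp hω
      have h1 : KaehlerDifferential.D k₀ k u ∈ Submodule.span k (v '' (c.support : Set b)) := by
        rw [← hc]
        apply Submodule.sum_mem
        intro i hi
        exact Submodule.smul_mem _ _ (Submodule.subset_span ⟨i, hi, rfl⟩)
      have huF : u ∈ F c.support := by
        have hu' : u ∈ ((⨅ T, F T : IntermediateField k₀ k) : Set k) := hu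
        rw [IntermediateField.coe_iInf] at hu'
        exact Set.mem_iInter.1 hu' c.support
      have h2 : KaehlerDifferential.D k₀ k u ∈
          Submodule.span k (v '' {i | i ∉ c.support}) := by
        have h3 := D_mem_span_of_mem_adjoin k₀ k _ huF
        refine (Submodule.span_le.2 ?_) h3
        rintro _ ⟨s, hs | ⟨i, hi, rfl⟩, rfl⟩
        · change KaehlerDifferential.D k₀ k s ∈ _
          rw [hDP s hs]
          exact Submodule.zero_mem _
        · exact Submodule.subset_span ⟨i, hi, rfl⟩
      have hdisj : Disjoint (c.support : Set b) {i | i ∉ c.support} := by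
        rw [Set.disjoint_left]
        intro i hi hni
        exact hni hi
      exact Submodule.disjoint_def.1 (hli.disjoint_span_image hdisj) _ h1 h2
    · exact le_iInf fun T => adjoin.mono _ _ _ Set.subset_union_left

end Family

end Groth.Agent.Lib.Helper22.PthDer
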