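import Mathlib
import Groth.Agent.Lib.Helper22.PthA
import Groth.Agent.Lib.Helper22.PthB

/-!
# The subfields `Frac(k'[[x^p]])` of `Frac(k[[x]])` and their intersection (helper22)
-/

set_option autoImplicit false
set_option linter.style.haveILetI false
set_option linter.unusedSectionVars false
universe u

namespace Groth.Agent.Lib.Helper22.PthDer

open MvPowerSeries IntermediateField

/-- elements of `k₀(L^p)` are `p`-th powers when those of `k₀` are -/
theorem exists_pow_eq_of_mem_adjoin {k₀ L : Type*} [Field k₀] [Field L] [Algebra k₀ L] (p : ℕ)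
    [hpF : Fact p.Prime] [CharP L p] (hk₀ : ∀ c : k₀, ∃ y : L, y ^ p = algebraMap k₀ L c) {u : L}
    (hu : u ∈ adjoin k₀ (Set.range fun y : L => y ^ p)) : ∃ y : L, y ^ p = u := by
  induction hu using IntermediateField.adjoin_induction with
  | mem z hz =>
    obtain ⟨y, rfl⟩ := hz
    exact ⟨y, rfl⟩
  | algebraMap r => exact hk₀ r
  | add x y _ _ hx hy =>
    obtain ⟨a, rfl⟩ := hx
    obtain ⟨b, rfl⟩ := hy
    exact ⟨a + b, add_pow_char a b p⟩
  | inv x _ hx =>
    obtain ⟨a, rfl⟩ := hx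
    exact ⟨a⁻¹, inv_pow a p⟩
  | mul x y _ _ hx hy =>
    obtain ⟨a, rfl⟩ := hx
    obtain ⟨b, rfl⟩ := hy
    exact ⟨a * b, mul_pow a b p⟩

section KF

variable {k₀ k : Type u} [Field k₀] [Field k] [Algebra k₀ k] (p : ℕ) [hpF : Fact p.Prime]
  [hchar : CharP k p] (n : ℕ)
  (K₀ : Type u) [Field K₀] [Algebra (MvPowerSeries (Fin n) k) K₀]
  [IsFractionRing (MvPowerSeries (Fin n) k) K₀]
  [Algebra k₀ K₀] [IsScalarTower k₀ (MvPowerSeries (Fin n) k) K₀]

local notation "A₀" => MvPowerSeries (Fin n) k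

/-- image of `F[[x^p]]` in `K₀` -/
noncomputable def imgRing (F : IntermediateField k₀ k) : Subring K₀ :=
  (psi p n F.toSubfield).range.map (algebraMap A₀ K₀)

/-- the fraction field of `F[[x^p]]` inside `K₀` -/
noncomputable def KF (F : IntermediateField k₀ k) : IntermediateField k₀ K₀ :=
  adjoin k₀ (imgRing p n K₀ F : Set K₀)

theorem algebraMap_mem_imgRing (F : IntermediateField k₀ k) (c : k₀) :
    algebraMap k₀ K₀ c ∈ imgRing p n K₀ F := by
  refine ⟨_, ⟨(C (⟨algebraMap k₀ k c, F.algebraMap_mem c⟩ : F.toSubfield) :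
    MvPowerSeries (Fin n) F.toSubfield), rfl⟩, ?_⟩
  rw [IsScalarTower.algebraMap_apply k₀ A₀ K₀, MvPowerSeries.algebraMap_apply]
  congr 1
  rw [psi_apply, MvPowerSeries.map_C, expand_C]
  rfl

theorem adjoin_le_imgRing (F : IntermediateField k₀ k) {r : K₀}
    (hr : r ∈ Algebra.adjoin k₀ (imgRing p n K₀ F : Set K₀)) : r ∈ imgRing p n K₀ F := by
  induction hr using Algebra.adjoin_induction with
  | mem z hz => exact hz
  | algebraMap c => exact algebraMap_mem_imgRing p n K₀ F c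
  | add x y _ _ hx hy => exact Subring.add_mem _ hx hy
  | mul x y _ _ hx hy => exact Subring.mul_mem _ hx hy

theorem exists_of_mem_KF (F : IntermediateField k₀ k) {u : K₀} (hu : u ∈ KF p n K₀ F) :
    ∃ t w : MvPowerSeries (Fin n) F.toSubfield, t ≠ 0 ∧
      u * algebraMap A₀ K₀ (psi p n F.toSubfield t) = algebraMap A₀ K₀ (psi p n F.toSubfield w) := by
  obtain ⟨r, hr, s, hs, rfl⟩ := mem_adjoin_iff_div.mp hu
  obtain ⟨_, ⟨w, rfl⟩, rfl⟩ := adjoin_le_imgRing p n K₀ F hr
  obtain ⟨_, ⟨t, rfl⟩, rfl⟩ := adjoin_le_imgRing p n K₀ F hs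
  by_cases ht : t = 0
  · refine ⟨1, 0, one_ne_zero, ?_⟩
    rw [ht, map_zero, map_zero, div_zero, zero_mul]
  · refine ⟨t, w, ht, ?_⟩
    have h0 : algebraMap A₀ K₀ (psi p n F.toSubfield t) ≠ 0 := by
      intro h
      apply ht
      apply psi_injective p n F.toSubfield
      apply IsFractionRing.injective A₀ K₀
      rw [h, map_zero, map_zero]
    exact div_mul_cancel₀ _ h0

theorem pow_mem_KF (F : IntermediateField k₀ k) (hF : ∀ c : k, c ^ p ∈ F) (z : K₀) :
    z ^ p ∈ KF p n K₀ F := by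
  obtain ⟨a, s, -, rfl⟩ := IsFractionRing.div_surjective (A := A₀) z
  rw [div_pow, ← map_pow, ← map_pow]
  apply div_mem
  · exact subset_adjoin k₀ _ ⟨_, pow_mem_range_psi p n F.toSubfield hF a, rfl⟩
  · exact subset_adjoin k₀ _ ⟨_, pow_mem_range_psi p n F.toSubfield hF s, rfl⟩

theorem KF_mono {F F' : IntermediateField k₀ k} (h : F ≤ F') : KF p n K₀ F ≤ KF p n K₀ F' := by
  apply adjoin.mono
  rintro _ ⟨_, ⟨t, rfl⟩, rfl⟩
  refine ⟨_, ?_, rfl⟩
  apply mem_range_psi
  · intro e
    rw [coeff_psi_smul]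
    exact h (coeff e t).2
  · intro m i hi
    exact coeff_psi_of_not_dvd p n F.toSubfield t hi

theorem iInf_KF_eq {ι : Type u} [Nonempty ι] (F : ι → IntermediateField k₀ k)
    (hF : ∀ i, ∀ c : k, c ^ p ∈ F i)
    (hinf : (⨅ i, F i) = adjoin k₀ (Set.range fun y : k => y ^ p))
    (hk₀ : ∀ c : k₀, ∃ y : k, y ^ p = algebraMap k₀ k c) :
    (⨅ i, KF p n K₀ (F i) ⊔ adjoin k₀ (Set.range fun y : K₀ => y ^ p)) =
      adjoin k₀ (Set.range fun y : K₀ => y ^ p) := by
  haveI : IsDomain A₀ := NoZeroDivisors.to_isDomain _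
  apply le_antisymm
  · intro y hy
    have hy' : y ∈ ((⨅ i, KF p n K₀ (F i) ⊔ adjoin k₀ (Set.range fun y : K₀ => y ^ p) :
        IntermediateField k₀ K₀) : Set K₀) := hy
    rw [IntermediateField.coe_iInf] at hy'
    have hyi : ∀ i, y ∈ KF p n K₀ (F i) := by
      intro i
      have h1 := Set.mem_iInter.1 hy' i
      have hle : adjoin k₀ (Set.range fun y : K₀ => y ^ p) ≤ KF p n K₀ (F i) := by
        rw [adjoin_le_iff]
        rintro _ ⟨z, rfl⟩
        exact pow_mem_KF p n K₀ (F i) (hF i) z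
      rwa [sup_eq_left.2 hle] at h1
    obtain ⟨a, s, hs, rfl⟩ := IsFractionRing.div_surjective (A := A₀) y
    have hs0 : s ≠ 0 := nonZeroDivisors.ne_zero hs
    have hs0' : algebraMap A₀ K₀ s ≠ 0 := by
      intro h
      exact hs0 (IsFractionRing.injective A₀ K₀ (h.trans (map_zero _).symm))
    have hp0 : 0 < p := hpF.out.pos
    set a' : A₀ := a * s ^ (p - 1) with ha'
    have h3 : algebraMap A₀ K₀ a / algebraMap A₀ K₀ s * algebraMap A₀ K₀ (s ^ p) =
        algebraMap A₀ K₀ a' := by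
      have hsp : s ^ p = s * s ^ (p - 1) := by rw [← pow_succ', Nat.sub_add_cancel hp0]
      rw [ha', hsp, map_mul, map_mul, ← mul_assoc, div_mul_cancel₀ _ hs0']
    have h4 : ∀ i, a' ∈ (psi p n (F i).toSubfield).range := by
      intro i
      obtain ⟨t, w, ht, htw⟩ := exists_of_mem_KF p n K₀ (F i) (hyi i)
      obtain ⟨σ, hσ⟩ := pow_mem_range_psi p n (F i).toSubfield (hF i) s
      apply mem_range_psi_of_mul_eq p n (F i).toSubfield (hF i) a' t (w * σ) ht
      apply IsFractionRing.injective A₀ K₀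
      rw [map_mul, ← h3, map_mul, map_mul, hσ, ← htw]
      ring
    have h5 : ∀ e, ∃ c : k, c ^ p = coeff (p • e) a' := by
      intro e
      apply exists_pow_eq_of_mem_adjoin p hk₀
      rw [← hinf]
      have : coeff (p • e) a' ∈ ((⨅ i, F i : IntermediateField k₀ k) : Set k) := by
        rw [IntermediateField.coe_iInf]
        apply Set.mem_iInter.2
        intro i
        obtain ⟨u, hu⟩ := h4 i
        rw [← hu, coeff_psi_smul]
        exact (coeff e u).2
      exact this
    choose c hc using h5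
    have h6 : ∀ (m : Fin n →₀ ℕ) (j : Fin n), ¬ p ∣ m j → coeff m a' = 0 := by
      intro m j hj
      obtain ⟨i⟩ := ‹Nonempty ι›
      obtain ⟨u, hu⟩ := h4 i
      rw [← hu]
      exact coeff_psi_of_not_dvd p n _ u hj
    have h7 : (ofFun n c : A₀) ^ p = a' := by
      haveI : ExpChar k p := ExpChar.prime hpF.out
      rw [← map_frobenius_expand p hpF.out.ne_zero]
      ext m
      by_cases h : ∀ j, p ∣ m j
      · obtain ⟨e, rfl⟩ := exists_smul_eq p n m h
        rw [coeff_map, coeff_expand_smul, coeff_ofFun, frobenius_def, hc]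
      · push Not at h
        obtain ⟨j, hj⟩ := h
        rw [coeff_map, coeff_expand_of_not_dvd p _ _ hj, map_zero, h6 m j hj]
    have h8 : algebraMap A₀ K₀ a / algebraMap A₀ K₀ s =
        (algebraMap A₀ K₀ (ofFun n c) / algebraMap A₀ K₀ s) ^ p := by
      rw [div_pow, ← map_pow, ← map_pow, h7, ← h3, mul_div_assoc,
        div_self (by rw [map_pow]; exact pow_ne_zero _ hs0'), mul_one]
    rw [h8]
    exact subset_adjoin k₀ _ ⟨_, rfl⟩
  · exact le_iInf fun i => le_sup_right

end KF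

end Groth.Agent.Lib.Helper22.PthDer
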