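import Mathlib
import Groth.Agent.Lib.Helper22.PthD
import Groth.Agent.Lib.Helper12.CompleteNagata

/-!
# Derivations detecting non-`p`-th powers in algebras of finite type over complete local rings
(helper22)
-/

set_option autoImplicit false
set_option linter.style.haveILetI false
set_option linter.unusedSectionVars false
universe u

namespace Groth.Agent.Lib.Helper22.PthDer

open MvPowerSeries IsLocalRing

theorem exists_derivation_ne_zero {R B : Type u} [CommRing R] [IsLocalRing R]
    [IsNoetherianRing R] [IsAdicComplete (IsLocalRing.maximalIdeal R) R] [CommRing B] [IsDomain B]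
    [Algebra R B] [Algebra.FiniteType R B] (p : ℕ) [hpF : Fact p.Prime] [CharP B p] (f : B)
    (hf : ∀ x : FractionRing B, x ^ p ≠ algebraMap B (FractionRing B) f) :
    ∃ D : Derivation ℤ B B, D f ≠ 0 := by
  classical
  set I : Ideal R := RingHom.ker (algebraMap R B) with hI
  haveI : I.IsPrime := RingHom.ker_isPrime _
  haveI : IsLocalRing (R ⧸ I) :=
    IsLocalRing.of_surjective' (Ideal.Quotient.mk I) Ideal.Quotient.mk_surjective
  haveI : IsAdicComplete (maximalIdeal (R ⧸ I)) (R ⧸ I) :=
    Groth.Agent.Lib.Helper5.FlatCohen.isAdicComplete_quotient I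
  let ψ : R ⧸ I →+* B := RingHom.kerLift (algebraMap R B)
  have hψ : Function.Injective ψ := RingHom.kerLift_injective _
  obtain ⟨Λ, _, n, g, hΛ, ginj, gfin, -⟩ :=
    Groth.Agent.Lib.Helper12.CohenFin.exists_finite_injective_mvPowerSeries (R ⧸ I)
  have hpB : ((p : ℕ) : B) = 0 := CharP.cast_eq_zero B p
  have hfield : IsField Λ := by
    rcases hΛ with h | h
    · exact h
    · exfalso
      obtain ⟨_, _, hchar0⟩ := Groth.Agent.Lib.Helper12.CompleteNagata.charZero_of_isCohenRing Λ h
      have h1 : ψ (g (C ((p : ℕ) : Λ))) = 0 := by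
        rw [map_natCast, map_natCast, map_natCast, hpB]
      have h2 : ((p : ℕ) : Λ) = 0 := by
        apply MvPowerSeries.C_injective (σ := Fin n)
        apply ginj
        apply hψ
        rw [h1, map_zero, map_zero, map_zero]
      exact hpF.out.ne_zero (Nat.cast_injective (R := Λ) (h2.trans Nat.cast_zero.symm))
  letI := hfield.toField
  let φ : MvPowerSeries (Fin n) Λ →+* B := ψ.comp g
  have hφ : Function.Injective φ := hψ.comp ginj
  haveI : CharP Λ p :=
    RingHom.charP (φ.comp (C : Λ →+* MvPowerSeries (Fin n) Λ))
      (hφ.comp MvPowerSeries.C_injective) p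
  obtain ⟨s, hs⟩ := (Algebra.FiniteType.out : (⊤ : Subalgebra R B).FG)
  letI algg : Algebra (MvPowerSeries (Fin n) Λ) (R ⧸ I) := g.toAlgebra
  haveI : Module.Finite (MvPowerSeries (Fin n) Λ) (R ⧸ I) := gfin
  obtain ⟨t, ht⟩ := (Module.Finite.fg_top : (⊤ : Submodule (MvPowerSeries (Fin n) Λ) (R ⧸ I)).FG)
  let G : Finset B := s ∪ t.image ψ
  have hG : Subring.closure (Set.range φ ∪ (G : Set B)) = ⊤ := by
    set Cl := Subring.closure (Set.range φ ∪ (G : Set B)) with hCl
    have ha : ∀ r : R ⧸ I, ψ r ∈ Cl := by
      intro r
      have hr : r ∈ Submodule.span (MvPowerSeries (Fin n) Λ) (t : Set (R ⧸ I)) := by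
        rw [ht]; trivial
      induction hr using Submodule.span_induction with
      | mem x hx =>
        apply Subring.subset_closure
        right
        exact Finset.mem_coe.2 (Finset.mem_union_right _ (Finset.mem_image_of_mem _ hx))
      | zero => rw [map_zero]; exact Subring.zero_mem _
      | add x y _ _ hx hy => rw [map_add]; exact Subring.add_mem _ hx hy
      | smul a x _ hx =>
        have : a • x = g a * x := rfl
        rw [this, map_mul]
        exact Subring.mul_mem _ (Subring.subset_closure (Or.inl ⟨a, rfl⟩)) hx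
    rw [eq_top_iff]
    intro b _
    have hb : b ∈ Algebra.adjoin R (s : Set B) := by rw [hs]; trivial
    induction hb using Algebra.adjoin_induction with
    | mem x hx =>
      apply Subring.subset_closure
      right
      exact Finset.mem_coe.2 (Finset.mem_union_left _ hx)
    | algebraMap r =>
      have : algebraMap R B r = ψ (Ideal.Quotient.mk I r) := (RingHom.kerLift_mk _ r).symm
      rw [this]
      exact ha _
    | add x y _ _ hx hy => exact Subring.add_mem _ (hx trivial) (hy trivial)
    | mul x y _ _ hx hy => exact Subring.mul_mem _ (hx trivial) (hy trivial)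
  exact exists_derivation_core p n φ hφ G hG f hf

end Groth.Agent.Lib.Helper22.PthDer
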