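import Mathlib
import Groth.Agent.Lib.Helper22.J0RootE
import Groth.Agent.Lib.Helper22.PthE
import Groth.Agent.Lib.Helper22.J2Crit
import Groth.Agent.Lib.Helper12.FEquiC
import Groth.Agent.Lib.Helper5.SerreLoc

/-!
# Complete Noetherian local rings are J-2 (helper22)
-/

set_option autoImplicit false
set_option linter.style.haveILetI false
set_option linter.unusedSectionVars false
universe u

namespace Groth.Agent.Lib.Helper22.J0Root

open Polynomial Groth.Agent.Lib.Helper22.J0 Module IsLocalRing
open scoped nonZeroDivisors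

attribute [local instance] FractionRing.liftAlgebra FractionRing.isScalarTower_liftAlgebra

/-- power series rings over a field or a Cohen ring are regular local -/
theorem isRegularLocalRing_mvPowerSeries (Λ : Type u) [CommRing Λ]
    (hΛ : IsField Λ ∨ CAlg.IsCohenRing Λ) (n : ℕ) :
    IsRegularLocalRing (MvPowerSeries (Fin n) Λ) := by
  rcases hΛ with hfield | hcohen
  · letI := hfield.toField
    have hm0 : maximalIdeal Λ = ⊥ := IsLocalRing.maximalIdeal_eq_bot
    have hπ : maximalIdeal Λ = Ideal.span (Set.range (fun j : Fin 0 => (j.elim0 : Λ))) := by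
      rw [hm0, Set.range_eq_empty, Ideal.span_empty]
    exact Groth.Agent.Lib.Helper12.CohenSq.isRegularLocalRing_ps (n := n)
      (fun j : Fin 0 => (j.elim0 : Λ)) hπ
      (by rw [Nat.cast_zero]; exact ringKrullDim_nonneg_of_nontrivial)
  · obtain ⟨hdom, hdvr, -, p, hp, hmp⟩ := hcohen
    have hπ : maximalIdeal Λ = Ideal.span (Set.range (fun _ : Fin 1 => ((p : ℕ) : Λ))) := by
      rw [hmp]
      congr 1
      ext y
      simp
    have hdim : ((1 : ℕ) : WithBot ℕ∞) ≤ ringKrullDim Λ := by
      rw [IsPrincipalIdealRing.ringKrullDim_eq_one Λ (IsDiscreteValuationRing.not_isField Λ)]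
      rfl
    exact Groth.Agent.Lib.Helper12.CohenSq.isRegularLocalRing_ps (n := n) _ hπ hdim

theorem isDomain_of_field_or_cohen (Λ : Type u) [CommRing Λ]
    (hΛ : IsField Λ ∨ CAlg.IsCohenRing Λ) : IsDomain Λ := by
  rcases hΛ with hfield | hcohen
  · letI := hfield.toField
    infer_instance
  · exact hcohen.1

/-- the base case: `QJ` for the fraction field of a regular domain -/
theorem QJ.base (A₀ : Type u) [CommRing A₀] [IsDomain A₀] [IsRegularRing A₀] :
    QJ A₀ (FractionRing A₀) := by
  refine ⟨A₀, inferInstance, inferInstance, Algebra.ofId A₀ (FractionRing A₀), inferInstance,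
    isJ0_of_isRegularRing A₀, IsFractionRing.injective A₀ (FractionRing A₀), ?_⟩
  intro z
  obtain ⟨a, b, -, rfl⟩ := IsFractionRing.div_surjective (A := A₀) z
  exact ⟨a, b, rfl⟩

theorem isJ0_of_finite_mvPowerSeries (Λ : Type u) [CommRing Λ]
    (hΛ : IsField Λ ∨ CAlg.IsCohenRing Λ) (n : ℕ) (A' : Type u) [CommRing A'] [IsDomain A']
    [Algebra (MvPowerSeries (Fin n) Λ) A'] [Module.Finite (MvPowerSeries (Fin n) Λ) A']
    (hinj : Function.Injective (algebraMap (MvPowerSeries (Fin n) Λ) A')) : IsJ0 A' := by
  classical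
  haveI := isDomain_of_field_or_cohen Λ hΛ
  haveI hdomA₀ : IsDomain (MvPowerSeries (Fin n) Λ) :=
    Groth.Agent.Lib.Helper12.PSN2.isDomain_mvPowerSeries Λ _
  haveI hrl : IsRegularLocalRing (MvPowerSeries (Fin n) Λ) := isRegularLocalRing_mvPowerSeries Λ hΛ n
  haveI hreg : IsRegularRing (MvPowerSeries (Fin n) Λ) :=
    isRegularRing_iff.mpr (fun q _ =>
      Groth.Agent.Lib.Helper5.SerreLoc.localization_regular (MvPowerSeries (Fin n) Λ) q)
  haveI : IsNoetherianRing (MvPowerSeries (Fin n) Λ) := inferInstance
  have hbase := QJ.base (MvPowerSeries (Fin n) Λ)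
  have hA'L : Function.Injective (algebraMap A' (FractionRing A')) :=
    IsFractionRing.injective A' (FractionRing A')
  have hA₀L : Function.Injective (algebraMap (MvPowerSeries (Fin n) Λ) (FractionRing A')) := by
    rw [IsScalarTower.algebraMap_eq (MvPowerSeries (Fin n) Λ) A' (FractionRing A')]
    exact hA'L.comp hinj
  haveI : FaithfulSMul (MvPowerSeries (Fin n) Λ) A' :=
    (faithfulSMul_iff_algebraMap_injective _ _).mpr hinj
  haveI : FaithfulSMul (MvPowerSeries (Fin n) Λ) (FractionRing A') :=
    (faithfulSMul_iff_algebraMap_injective _ _).mpr hA₀L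
  haveI : Algebra.IsIntegral (MvPowerSeries (Fin n) Λ) A' := Algebra.IsIntegral.of_finite _ _
  haveI : IsLocalization (Algebra.algebraMapSubmonoid A' (MvPowerSeries (Fin n) Λ)⁰)
      (FractionRing A') := inferInstance
  haveI : Module.Finite (FractionRing (MvPowerSeries (Fin n) Λ)) (FractionRing A') :=
    Module.Finite.of_isLocalization (MvPowerSeries (Fin n) Λ) A' (MvPowerSeries (Fin n) Λ)⁰
  have hL : QJ (MvPowerSeries (Fin n) Λ) (FractionRing A') := by
    obtain ⟨p, hp⟩ := CharP.exists (FractionRing A')
    rcases CharP.char_is_prime_or_zero (FractionRing A') p with hpp | rfl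
    · haveI : Fact p.Prime := ⟨hpp⟩
      -- Λ is a field
      have hfield : IsField Λ := by
        rcases hΛ with h | h
        · exact h
        · exfalso
          obtain ⟨_, _, hchar0⟩ :=
            Groth.Agent.Lib.Helper12.CompleteNagata.charZero_of_isCohenRing Λ h
          have h1 : algebraMap (MvPowerSeries (Fin n) Λ) (FractionRing A')
              (MvPowerSeries.C ((p : ℕ) : Λ)) = 0 := by
            rw [map_natCast, map_natCast]
            exact CharP.cast_eq_zero _ p
          have h2 : ((p : ℕ) : Λ) = 0 := by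
            apply MvPowerSeries.C_injective (σ := Fin n)
            apply hA₀L
            rw [h1, map_zero, map_zero]
          exact hpp.ne_zero (Nat.cast_injective (R := Λ) (h2.trans Nat.cast_zero.symm))
      letI := hfield.toField
      haveI : CharP Λ p :=
        RingHom.charP ((algebraMap (MvPowerSeries (Fin n) Λ) (FractionRing A')).comp
          (MvPowerSeries.C : Λ →+* MvPowerSeries (Fin n) Λ))
          (hA₀L.comp MvPowerSeries.C_injective) p
      refine QJ.of_finite p ?_ (FractionRing (MvPowerSeries (Fin n) Λ)) (FractionRing A') hA₀L hbase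
      intro E _ _ _ _ hE f hf
      obtain ⟨s, hs⟩ := (Algebra.FiniteType.out : (⊤ : Subalgebra (MvPowerSeries (Fin n) Λ) E).FG)
      have hG : Subring.closure (Set.range (algebraMap (MvPowerSeries (Fin n) Λ) E) ∪
          (s : Set E)) = ⊤ := by
        rw [← Algebra.adjoin_eq_ring_closure, hs]
        rfl
      exact Groth.Agent.Lib.Helper22.PthDer.exists_derivation_core p n
        (algebraMap (MvPowerSeries (Fin n) Λ) E) hE s hG f hf
    · haveI : CharZero (FractionRing A') := CharP.charP_to_charZero _
      haveI : CharZero (FractionRing (MvPowerSeries (Fin n) Λ)) :=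
        (algebraMap (FractionRing (MvPowerSeries (Fin n) Λ)) (FractionRing A')).charZero
      haveI : Algebra.IsSeparable (FractionRing (MvPowerSeries (Fin n) Λ)) (FractionRing A') :=
        inferInstance
      exact QJ.of_separable (FractionRing (MvPowerSeries (Fin n) Λ)) (FractionRing A') hbase
  haveI : Algebra.FiniteType (MvPowerSeries (Fin n) Λ) A' := inferInstance
  exact hL.isJ0_of_embedding A' (IsScalarTower.toAlgHom (MvPowerSeries (Fin n) Λ) A' (FractionRing A'))
    hA'L

/-- a domain finite over a complete Noetherian local ring is J-0 -/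
theorem isJ0_of_finite_complete_local (A A' : Type u) [CommRing A] [IsNoetherianRing A]
    [IsLocalRing A] [IsAdicComplete (maximalIdeal A) A] [CommRing A'] [IsDomain A'] [Algebra A A']
    [Module.Finite A A'] : IsJ0 A' := by
  set I : Ideal A := RingHom.ker (algebraMap A A') with hI
  haveI : I.IsPrime := RingHom.ker_isPrime _
  haveI : IsLocalRing (A ⧸ I) :=
    IsLocalRing.of_surjective' (Ideal.Quotient.mk I) Ideal.Quotient.mk_surjective
  haveI : IsAdicComplete (maximalIdeal (A ⧸ I)) (A ⧸ I) :=
    Groth.Agent.Lib.Helper5.FlatCohen.isAdicComplete_quotient I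
  let ψ : A ⧸ I →+* A' := RingHom.kerLift (algebraMap A A')
  have hψ : Function.Injective ψ := RingHom.kerLift_injective _
  obtain ⟨Λ, _, n, g, hΛ, ginj, gfin, -⟩ :=
    Groth.Agent.Lib.Helper12.CohenFin.exists_finite_injective_mvPowerSeries (A ⧸ I)
  letI algg : Algebra (MvPowerSeries (Fin n) Λ) (A ⧸ I) := g.toAlgebra
  haveI : Module.Finite (MvPowerSeries (Fin n) Λ) (A ⧸ I) := gfin
  letI algψ : Algebra (A ⧸ I) A' := ψ.toAlgebra
  haveI : IsScalarTower A (A ⧸ I) A' := IsScalarTower.of_algebraMap_eq (fun x => by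
    change algebraMap A A' x = ψ (Ideal.Quotient.mk I x)
    exact (RingHom.kerLift_mk _ x).symm)
  haveI : Module.Finite (A ⧸ I) A' := Module.Finite.of_restrictScalars_finite A (A ⧸ I) A'
  letI algA₀ : Algebra (MvPowerSeries (Fin n) Λ) A' := (ψ.comp g).toAlgebra
  haveI : IsScalarTower (MvPowerSeries (Fin n) Λ) (A ⧸ I) A' :=
    IsScalarTower.of_algebraMap_eq (fun x => rfl)
  haveI : Module.Finite (MvPowerSeries (Fin n) Λ) A' := Module.Finite.trans (A ⧸ I) A'
  exact isJ0_of_finite_mvPowerSeries Λ hΛ n A' (hψ.comp ginj)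

/-- **A complete Noetherian local ring is J-2.** -/
theorem isJ2_of_complete_local (A : Type u) [CommRing A] [IsNoetherianRing A]
    [IsLocalRing A] [IsAdicComplete (maximalIdeal A) A] : EGA4.IsJ2 A := by
  apply Groth.Agent.Lib.Helper22.J0.isJ2_of_finite_domains_J0 A
  intro A' _ _ _ hfin
  haveI := hfin
  exact isJ0_of_finite_complete_local A A'

end Groth.Agent.Lib.Helper22.J0Root
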