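import Mathlib
import Groth.Agent.Lib.Helper22.PthD

/-!
# Bounded derivations detecting non-`p`-th powers (helper22)

Same construction as `PthD`, but recording that the derivation maps the power series ring into a
finitely generated submodule.
-/

set_option autoImplicit false
set_option linter.style.haveILetI false
set_option linter.unusedSectionVars false
universe u

namespace Groth.Agent.Lib.Helper22.PthDer

open MvPowerSeries IntermediateField

section Core

variable {k₀ k B : Type u} [Field k₀] [Field k] [Algebra k₀ k] [CommRing B] [IsDomain B] (p : ℕ)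
  [hpF : Fact p.Prime] [hchar : CharP k p] (n : ℕ)

local notation "A₀" => MvPowerSeries (Fin n) k

theorem exists_bounded_derivation_core_aux
    (K₀ : Type u) [Field K₀] [Algebra (MvPowerSeries (Fin n) k) K₀]
    [IsFractionRing (MvPowerSeries (Fin n) k) K₀]
    [Algebra k₀ K₀] [IsScalarTower k₀ (MvPowerSeries (Fin n) k) K₀]
    (Lf : Type u) [Field Lf] [Algebra B Lf] [IsFractionRing B Lf]
    (hk₀ : ∀ c : k₀, ∃ y : k, y ^ p = algebraMap k₀ k c)
    (φ : MvPowerSeries (Fin n) k →+* B) (hφ : Function.Injective φ)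
    (G : Finset B) (hG : Subring.closure (Set.range φ ∪ (G : Set B)) = ⊤)
    (f : B) (hf : ∀ x : Lf, x ^ p ≠ algebraMap B Lf f) :
    ∃ (D : Derivation ℤ B B) (J : Type) (_ : Fintype J) (ν : J → B), D f ≠ 0 ∧
      ∀ a : MvPowerSeries (Fin n) k, ∃ c : J → MvPowerSeries (Fin n) k,
        D (φ a) = ∑ j, φ (c j) * ν j := by
  classical
  haveI : IsDomain A₀ := NoZeroDivisors.to_isDomain _
  let ψL : A₀ →+* Lf := (algebraMap B Lf).comp φ
  have hψL : Function.Injective ψL := (IsFractionRing.injective B Lf).comp hφ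
  letI algA₀L : Algebra A₀ Lf := ψL.toAlgebra
  let ι : K₀ →+* Lf := IsFractionRing.lift (g := ψL) hψL
  letI algK₀L : Algebra K₀ Lf := ι.toAlgebra
  haveI : IsScalarTower A₀ K₀ Lf :=
    IsScalarTower.of_algebraMap_eq (fun a => (IsFractionRing.lift_algebraMap hψL a).symm)
  letI algk₀L : Algebra k₀ Lf := ((algebraMap K₀ Lf).comp (algebraMap k₀ K₀)).toAlgebra
  haveI : IsScalarTower k₀ K₀ Lf := IsScalarTower.of_algebraMap_eq (fun _ => rfl)
  have hAL : ∀ a : A₀, algebraMap K₀ Lf (algebraMap A₀ K₀ a) = algebraMap B Lf (φ a) := fun a =>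
    (IsScalarTower.algebraMap_apply A₀ K₀ Lf a).symm
  haveI : CharP K₀ p :=
    charP_of_injective_ringHom (f := (algebraMap A₀ K₀).comp (C : k →+* A₀))
      ((IsFractionRing.injective A₀ K₀).comp (MvPowerSeries.C_injective)) p
  haveI : CharP Lf p := charP_of_injective_ringHom (algebraMap K₀ Lf).injective p
  -- `Lf` is a finitely generated field extension of `K₀`
  have htop : IntermediateField.adjoin K₀ (algebraMap B Lf '' (G : Set B)) = ⊤ := by
    set E := IntermediateField.adjoin K₀ (algebraMap B Lf '' (G : Set B)) with hE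
    have hB : ∀ b : B, algebraMap B Lf b ∈ E := by
      intro b
      have hb : b ∈ Subring.closure (Set.range φ ∪ (G : Set B)) := by rw [hG]; trivial
      induction hb using Subring.closure_induction with
      | mem x hx =>
        rcases hx with ⟨a, rfl⟩ | hx
        · rw [← hAL]
          exact E.algebraMap_mem _
        · exact subset_adjoin K₀ _ ⟨x, hx, rfl⟩
      | zero => rw [map_zero]; exact E.zero_mem
      | one => rw [map_one]; exact E.one_mem
      | add x y _ _ hx hy => rw [map_add]; exact E.add_mem hx hy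
      | neg x _ hx => rw [map_neg]; exact E.neg_mem hx
      | mul x y _ _ hx hy => rw [map_mul]; exact E.mul_mem hx hy
    rw [eq_top_iff]
    intro z _
    obtain ⟨x, y, -, rfl⟩ := IsFractionRing.div_surjective (A := B) z
    exact E.div_mem (hB x) (hB y)
  haveI : Algebra.EssFiniteType K₀ Lf := by
    apply IntermediateField.fg_top_iff.mp
    refine ⟨G.image (algebraMap B Lf), ?_⟩
    rw [Finset.coe_image]
    exact htop
  haveI hfinimp : Module.Finite Lf (EGA41.imperfection k₀ K₀ Lf) := by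
    haveI : Module.Finite Lf (EGA41.imperfection ℤ K₀ Lf) :=
      (Groth.Agent.Lib.Helper5.Cartier.cdata_of_essFiniteType K₀ Lf).finKer
    exact Groth.Agent.Lib.Helper5.Cartier.finite_imperfection_rel k₀ K₀ Lf
  obtain ⟨ι', _, _, _, F, hFanti, hFp, hFfin, hFinf⟩ := exists_cofinite_family k₀ k p
  have heq := iInf_KF_eq p n K₀ F hFp hFinf hk₀
  have hk : Antitone (fun i => KF p n K₀ (F i)) := fun i j hij => KF_mono p n K₀ (hFanti hij)
  have hL := Groth.Agent.Lib.Helper5.Imperf218.iInf_map_eq p (L := Lf)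
    (fun i => KF p n K₀ (F i)) hk heq
  have hk₀L : ∀ c : k₀, ∃ y : Lf, y ^ p = algebraMap k₀ Lf c := fun c => by
    obtain ⟨y, hy⟩ := hk₀ c
    refine ⟨algebraMap B Lf (φ (C y)), ?_⟩
    rw [← map_pow, ← map_pow, ← map_pow, hy, ← hAL]
    change _ = algebraMap K₀ Lf (algebraMap k₀ K₀ c)
    rw [IsScalarTower.algebraMap_apply k₀ A₀ K₀, MvPowerSeries.algebraMap_apply]
  have hfL : algebraMap B Lf f ∉ adjoin k₀ (Set.range fun y : Lf => y ^ p) := fun h => by
    obtain ⟨y, hy⟩ := exists_pow_eq_of_mem_adjoin p hk₀L h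
    exact hf y hy
  rw [← hL] at hfL
  obtain ⟨i, hi⟩ : ∃ i, algebraMap B Lf f ∉
      (KF p n K₀ (F i)).map (IsScalarTower.toAlgHom k₀ K₀ Lf) ⊔
        adjoin k₀ (Set.range fun y : Lf => y ^ p) := by
    by_contra hcon
    push Not at hcon
    apply hfL
    have : algebraMap B Lf f ∈ ((⨅ i, (KF p n K₀ (F i)).map (IsScalarTower.toAlgHom k₀ K₀ Lf) ⊔
        adjoin k₀ (Set.range fun y : Lf => y ^ p) : IntermediateField k₀ Lf) : Set Lf) := by
      rw [IntermediateField.coe_iInf]
      exact Set.mem_iInter.2 hcon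
    exact this
  set M : IntermediateField k₀ Lf := (KF p n K₀ (F i)).map (IsScalarTower.toAlgHom k₀ K₀ Lf) ⊔
    adjoin k₀ (Set.range fun y : Lf => y ^ p) with hM
  obtain ⟨D, hD1, hD0⟩ := Groth.Agent.Lib.Helper5.PBasis.exists_derivation_separating p
    M.toSubalgebra (fun y => (le_sup_right : _ ≤ M) (subset_adjoin k₀ _ ⟨y, rfl⟩)) _ hi
  have hDψ : ∀ t : MvPowerSeries (Fin n) (F i).toSubfield,
      D (algebraMap B Lf (φ (psi p n _ t))) = 0 := fun t => by
    apply hD0
    apply (le_sup_left : _ ≤ M)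
    refine ⟨algebraMap A₀ K₀ (psi p n _ t), subset_adjoin k₀ _ ⟨_, ⟨t, rfl⟩, rfl⟩, ?_⟩
    exact hAL _
  haveI : Module.Finite (F i).toSubfield k := hFfin i
  obtain ⟨J, _, bJ, hdec⟩ := exists_decomp p n (F i).toSubfield
  let G' : Finset B := G ∪ Finset.univ.image (fun j => φ (bJ j))
  obtain ⟨⟨h, hh⟩, hint⟩ := IsLocalization.exist_integer_multiples_of_finset (nonZeroDivisors B)
    (G'.image (fun g => D (algebraMap B Lf g)))
  have hh0 : algebraMap B Lf h ≠ 0 := by
    intro h0
    exact nonZeroDivisors.ne_zero hh (IsFractionRing.injective B Lf (h0.trans (map_zero _).symm))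
  have hG' : ∀ g ∈ G', ∃ b' : B, algebraMap B Lf h * D (algebraMap B Lf g) = algebraMap B Lf b' := by
    intro g hg
    obtain ⟨b', hb'⟩ := hint _ (Finset.mem_image_of_mem _ hg)
    refine ⟨b', ?_⟩
    rw [hb', Algebra.smul_def]
  let D' : Derivation k₀ Lf Lf := (algebraMap B Lf h) • D
  have hD' : ∀ z, D' z = algebraMap B Lf h * D z := fun z => rfl
  let B₁ : Subring B :=
    { carrier := {b | ∃ b' : B, D' (algebraMap B Lf b) = algebraMap B Lf b'}
      zero_mem' := ⟨0, by rw [map_zero, map_zero]⟩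
      one_mem' := ⟨0, by rw [map_one, Derivation.map_one_eq_zero, map_zero]⟩
      add_mem' := by
        rintro a b ⟨a', ha⟩ ⟨b', hb⟩
        exact ⟨a' + b', by rw [map_add, map_add, ha, hb, map_add]⟩
      neg_mem' := by
        rintro a ⟨a', ha⟩
        exact ⟨-a', by rw [map_neg, map_neg, ha, map_neg]⟩
      mul_mem' := by
        rintro a b ⟨a', ha⟩ ⟨b', hb⟩
        refine ⟨a * b' + b * a', ?_⟩
        rw [map_mul, Derivation.leibniz, ha, hb, smul_eq_mul, smul_eq_mul, map_add, map_mul,
          map_mul] }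
  have hB₁ : B₁ = ⊤ := by
    rw [eq_top_iff, ← hG, Subring.closure_le]
    rintro x (⟨a, rfl⟩ | hx)
    · obtain ⟨c, hc⟩ := hdec a
      rw [hc, map_sum]
      apply Subring.sum_mem
      intro j _
      rw [map_mul]
      apply Subring.mul_mem
      · obtain ⟨b', hb'⟩ := hG' (φ (bJ j))
          (Finset.mem_union_right _ (Finset.mem_image_of_mem _ (Finset.mem_univ j)))
        exact ⟨b', by rw [hD', hb']⟩
      · exact ⟨0, by rw [hD', hDψ, mul_zero, map_zero]⟩
    · obtain ⟨b', hb'⟩ := hG' x (Finset.mem_union_left _ hx)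
      exact ⟨b', by rw [hD', hb']⟩
  obtain ⟨DB, hDB⟩ := exists_derivation_restrict (IsFractionRing.injective B Lf) D'
    (fun b => (by rw [hB₁]; trivial : b ∈ B₁))
  refine ⟨DB, J, inferInstance, fun j => DB (φ (bJ j)), fun h0 => ?_, fun a => ?_⟩
  · have h1 := hDB f
    rw [h0, map_zero, hD', hD1, mul_one] at h1
    exact hh0 h1.symm
  · obtain ⟨c, hc⟩ := hdec a
    refine ⟨fun j => psi p n _ (c j), ?_⟩
    have hDBψ : ∀ t : MvPowerSeries (Fin n) (F i).toSubfield, DB (φ (psi p n _ t)) = 0 := by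
      intro t
      apply IsFractionRing.injective B Lf
      rw [hDB, hD', hDψ, mul_zero, map_zero]
    rw [hc, map_sum, map_sum]
    apply Finset.sum_congr rfl
    intro j _
    rw [map_mul, Derivation.leibniz, hDBψ, smul_zero, zero_add, smul_eq_mul]

omit [Algebra k₀ k] in
theorem exists_bounded_derivation_core
    (φ : MvPowerSeries (Fin n) k →+* B) (hφ : Function.Injective φ)
    (G : Finset B) (hG : Subring.closure (Set.range φ ∪ (G : Set B)) = ⊤)
    (f : B) (hf : ∀ x : FractionRing B, x ^ p ≠ algebraMap B (FractionRing B) f) :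
    ∃ (D : Derivation ℤ B B) (J : Type) (_ : Fintype J) (ν : J → B), D f ≠ 0 ∧
      ∀ a : MvPowerSeries (Fin n) k, ∃ c : J → MvPowerSeries (Fin n) k,
        D (φ a) = ∑ j, φ (c j) * ν j := by
  refine exists_bounded_derivation_core_aux (k₀ := ((frobenius k p).fieldRange : Subfield k)) p n
    (FractionRing (MvPowerSeries (Fin n) k)) (FractionRing B) (fun c => ?_) φ hφ G hG f hf
  obtain ⟨y, hy⟩ := c.2
  exact ⟨y, hy⟩

end Core

end Groth.Agent.Lib.Helper22.PthDer
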