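import Mathlib
import Groth.Agent.Lib.Helper22.GRingD
import Groth.Agent.Lib.Helper22.PthD2
import Groth.Agent.Lib.Helper22.J0RootF
import Groth.Agent.Lib.Helper22.GenFibB
import Groth.Agent.Lib.Helper5.ProjSpreadD
import Groth.Agent.Lib.helper19.CompletionLocal
import Groth.Agent.Lib.helper19.CompletionNoetherian
import Groth.Agent.S9318

/-!
# The generic formal fibres of localizations of power series rings are geometrically regular,
in the tower-friendly form `QG` (helper22)
-/

set_option autoImplicit false
set_option linter.style.haveILetI false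
set_option linter.unusedSectionVars false
universe u

namespace Groth.Agent.Lib.Helper22.GRing

open Polynomial TensorProduct IsLocalRing Module
open scoped nonZeroDivisors

/-- the completion of a localization is adically formally smooth over the ring -/
theorem adicSmooth_cpl_localization (A : Type u) [CommRing A] [IsNoetherianRing A] (p : Ideal A)
    [p.IsPrime] :
    CAlgX.IsAdicFormallySmooth A (EGA4.Cpl (Localization.AtPrime p))
      (maximalIdeal (EGA4.Cpl (Localization.AtPrime p))) := by
  haveI : IsNoetherianRing (Localization.AtPrime p) :=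
    IsLocalization.isNoetherianRing p.primeCompl _ inferInstance
  haveI : Algebra.FormallySmooth A (Localization.AtPrime p) :=
    Algebra.FormallySmooth.of_isLocalization p.primeCompl
  have h0 : CAlgX.IsAdicFormallySmooth A (Localization.AtPrime p)
      (maximalIdeal (Localization.AtPrime p)) :=
    Groth.Agent.Lib.Helper5.ProjSpread.adicSmooth_of_formallySmooth' _
  have h1 := (Groth.Agent.S9318.result (R := A) (maximalIdeal (Localization.AtPrime p))
    (IsNoetherian.noetherian _)).1 h0
  rwa [← AdicCompletion.maximalIdeal_eq_map] at h1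

theorem qg_mvPowerSeries (Λ : Type u) [CommRing Λ]
    (hΛ : IsField Λ ∨ CAlg.IsCohenRing Λ) (n : ℕ) (𝔭 : Ideal (MvPowerSeries (Fin n) Λ))
    [𝔭.IsPrime] (L : Type u) [Field L] [Algebra (MvPowerSeries (Fin n) Λ) L]
    (hA₀L : Function.Injective (algebraMap (MvPowerSeries (Fin n) Λ) L))
    [Algebra (FractionRing (MvPowerSeries (Fin n) Λ)) L]
    [IsScalarTower (MvPowerSeries (Fin n) Λ) (FractionRing (MvPowerSeries (Fin n) Λ)) L]
    [Module.Finite (FractionRing (MvPowerSeries (Fin n) Λ)) L] :
    QG (MvPowerSeries (Fin n) Λ) (EGA4.Cpl (Localization.AtPrime 𝔭)) L := by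
  classical
  haveI := J0Root.isDomain_of_field_or_cohen Λ hΛ
  haveI hdomA₀ : IsDomain (MvPowerSeries (Fin n) Λ) :=
    Groth.Agent.Lib.Helper12.PSN2.isDomain_mvPowerSeries Λ _
  haveI hrl : IsRegularLocalRing (MvPowerSeries (Fin n) Λ) :=
    J0Root.isRegularLocalRing_mvPowerSeries Λ hΛ n
  haveI : IsNoetherianRing (MvPowerSeries (Fin n) Λ) := inferInstance
  haveI hrl𝔭 : IsRegularLocalRing (Localization.AtPrime 𝔭) :=
    Groth.Agent.Lib.Helper5.SerreLoc.localization_regular (MvPowerSeries (Fin n) Λ) 𝔭
  haveI : IsNoetherianRing (Localization.AtPrime 𝔭) := inferInstance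
  haveI : IsNoetherianRing (EGA4.Cpl (Localization.AtPrime 𝔭)) :=
    Groth.Agent.Lib.helper19.isNoetherianRing_adicCompletion _ _
  haveI : IsRegularLocalRing (EGA4.Cpl (Localization.AtPrime 𝔭)) :=
    (Groth.Agent.Lib.helper19.isRegularLocalRing_adicCompletion_iff_of_isNoetherianRing
      (Localization.AtPrime 𝔭)).1 inferInstance
  haveI : IsRegularRing (EGA4.Cpl (Localization.AtPrime 𝔭)) :=
    Groth.Agent.Lib.Helper22.GenFib.isRegularRing_of_isRegularLocalRing _
  have hbase := QG.base (MvPowerSeries (Fin n) Λ) (EGA4.Cpl (Localization.AtPrime 𝔭))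
  have hfs := adicSmooth_cpl_localization (MvPowerSeries (Fin n) Λ) 𝔭
  obtain ⟨p, hp⟩ := CharP.exists L
  rcases CharP.char_is_prime_or_zero L p with hpp | rfl
  · haveI : Fact p.Prime := ⟨hpp⟩
    have hfield : IsField Λ := by
      rcases hΛ with h | h
      · exact h
      · exfalso
        obtain ⟨_, _, hchar0⟩ :=
          Groth.Agent.Lib.Helper12.CompleteNagata.charZero_of_isCohenRing Λ h
        have h1 : algebraMap (MvPowerSeries (Fin n) Λ) L
            (MvPowerSeries.C ((p : ℕ) : Λ)) = 0 := by
          rw [map_natCast, map_natCast]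
          exact CharP.cast_eq_zero _ p
        have h2 : ((p : ℕ) : Λ) = 0 := by
          apply MvPowerSeries.C_injective (σ := Fin n)
          apply hA₀L
          rw [h1, map_zero, map_zero]
        exact hpp.ne_zero (Nat.cast_injective (R := Λ) (h2.trans Nat.cast_zero.symm))
    letI := hfield.toField
    haveI : CharP Λ p :=
      RingHom.charP ((algebraMap (MvPowerSeries (Fin n) Λ) L).comp
        (MvPowerSeries.C : Λ →+* MvPowerSeries (Fin n) Λ))
        (hA₀L.comp MvPowerSeries.C_injective) p
    refine QG.of_finite hfs p ?_ (FractionRing (MvPowerSeries (Fin n) Λ)) L hA₀L hbase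
    intro E _ _ _ _ hE f hf
    obtain ⟨s, hs⟩ := (Algebra.FiniteType.out : (⊤ : Subalgebra (MvPowerSeries (Fin n) Λ) E).FG)
    have hG : Subring.closure (Set.range (algebraMap (MvPowerSeries (Fin n) Λ) E) ∪
        (s : Set E)) = ⊤ := by
      rw [← Algebra.adjoin_eq_ring_closure, hs]
      rfl
    exact Groth.Agent.Lib.Helper22.PthDer.exists_bounded_derivation_core p n
      (algebraMap (MvPowerSeries (Fin n) Λ) E) hE s hG f hf
  · haveI : CharZero L := CharP.charP_to_charZero _
    haveI : CharZero (FractionRing (MvPowerSeries (Fin n) Λ)) :=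
      (algebraMap (FractionRing (MvPowerSeries (Fin n) Λ)) L).charZero
    haveI : Algebra.IsSeparable (FractionRing (MvPowerSeries (Fin n) Λ)) L := inferInstance
    exact QG.of_separable (FractionRing (MvPowerSeries (Fin n) Λ)) L hbase

end Groth.Agent.Lib.Helper22.GRing
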