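import Mathlib
import Groth.Agent.Lib.Helper22.FormalFibQuot
import Groth.Agent.Lib.Helper22.CplLocGlob

/-!
# The completion of a local quotient `E` of `C` (given by a surjective algebra map) is
`E ⊗[C] Ĉ` (helper22)
-/

set_option autoImplicit false
set_option linter.style.haveILetI false
set_option linter.unusedSectionVars false
universe u

namespace Groth.Agent.Lib.Helper22.GRing

open TensorProduct IsLocalRing

theorem nonempty_tensor_cpl_algEquiv_of_surjective (C E : Type u) [CommRing C] [CommRing E]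
    [IsNoetherianRing C] [IsLocalRing C] [IsLocalRing E] [Algebra C E]
    (hsurj : Function.Surjective (algebraMap C E)) :
    Nonempty ((E ⊗[C] EGA4.Cpl C) ≃ₐ[E] EGA4.Cpl E) := by
  have hsurj' : Function.Surjective (Algebra.ofId C E) := hsurj
  set J : Ideal C := RingHom.ker (Algebra.ofId C E) with hJ
  let ι : (C ⧸ J) ≃ₐ[C] E := Ideal.quotientKerAlgEquivOfSurjective hsurj'
  haveI : Nontrivial (C ⧸ J) := ι.surjective.nontrivial
  haveI : IsNoetherianRing E := isNoetherianRing_of_surjective C E (algebraMap C E) hsurj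
  obtain ⟨e₁⟩ := Groth.Agent.Lib.Helper22.FormalFibQuot.nonempty_tensor_cpl_algEquiv C J
  letI algQE : Algebra (C ⧸ J) E := (ι : (C ⧸ J) →+* E).toAlgebra
  haveI : IsScalarTower C (C ⧸ J) E := IsScalarTower.of_algebraMap_eq (fun c => by
    change _ = ι (Ideal.Quotient.mk J c)
    exact (ι.commutes c).symm)
  haveI : IsLocalHom (algebraMap (C ⧸ J) E) :=
    ⟨fun a ha => by
      have := ha.map (ι.symm : E →+* (C ⧸ J))
      simpa [RingHom.algebraMap_toAlgebra] using this⟩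
  haveI : Module.Flat (C ⧸ J) E :=
    RingHom.flat_algebraMap_iff.mp (RingHom.Flat.of_bijective ι.toRingEquiv.bijective)
  have hm : Ideal.map (algebraMap (C ⧸ J) E) (maximalIdeal (C ⧸ J)) = maximalIdeal E :=
    IsLocalRing.map_ringEquiv_maximalIdeal ι.toRingEquiv
  have hk : Function.Surjective (IsLocalRing.ResidueField.map (algebraMap (C ⧸ J) E)) := by
    intro z
    obtain ⟨r', rfl⟩ := IsLocalRing.residue_surjective z
    obtain ⟨r, rfl⟩ := ι.surjective r'
    exact ⟨IsLocalRing.residue (C ⧸ J) r, rfl⟩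
  obtain ⟨e₂⟩ := Groth.Agent.Lib.Helper22.CplLocGlob.nonempty_cpl_algEquiv (C ⧸ J) E hm hk
  -- assemble
  let e₀ : E ⊗[C] EGA4.Cpl C ≃ₐ[C] (C ⧸ J) ⊗[C] EGA4.Cpl C :=
    Algebra.TensorProduct.congr ι.symm (AlgEquiv.refl (R := C) (A₁ := EGA4.Cpl C))
  refine ⟨AlgEquiv.ofRingEquiv
    (f := (e₀.toRingEquiv.trans e₁.toRingEquiv).trans e₂.toRingEquiv) ?_⟩
  intro x
  change e₂ (e₁ (e₀ (x ⊗ₜ[C] (1 : EGA4.Cpl C)))) = _
  have h0 : e₀ (x ⊗ₜ[C] (1 : EGA4.Cpl C)) = (ι.symm x) ⊗ₜ[C] (1 : EGA4.Cpl C) := by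
    simp [e₀]
  rw [h0]
  have h1 : (ι.symm x) ⊗ₜ[C] (1 : EGA4.Cpl C) =
      algebraMap (C ⧸ J) ((C ⧸ J) ⊗[C] EGA4.Cpl C) (ι.symm x) := rfl
  rw [h1, e₁.commutes, e₂.commutes]
  have h2 : algebraMap (C ⧸ J) (EGA4.Cpl E) (ι.symm x) =
      algebraMap E (EGA4.Cpl E) (algebraMap (C ⧸ J) E (ι.symm x)) := rfl
  rw [h2]
  congr 1
  exact ι.apply_symm_apply x

end Groth.Agent.Lib.Helper22.GRing
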