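import Mathlib
import Groth.Agent.Lib.Helper22.GRingL
import Groth.Agent.Lib.Helper5.RegHomBC
import Groth.Agent.Lib.Helper5.GeomRegFG3

/-!
# The fibre of `R_p → (R_p)^` at `r` versus the generic formal fibre of `(R/q)_P` (helper22)
-/

set_option autoImplicit false
set_option linter.style.haveILetI false
set_option linter.unusedSectionVars false
universe u

namespace Groth.Agent.Lib.Helper22.GRing

open TensorProduct IsLocalRing

/-- the converse of `Helper5.RegHom.fiber_baseChange`. -/
theorem fiber_of_baseChange (R Λ R' : Type u) [CommRing R] [CommRing Λ] [CommRing R']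
    [Algebra R Λ] [Algebra R R'] (p : Ideal R) [p.IsPrime]
    (p' : Ideal R') [p'.IsPrime] [p'.LiesOver p]
    (h : CAlg.IsGeometricallyRegular p'.ResidueField (p'.Fiber (R' ⊗[R] Λ))) :
    CAlg.IsGeometricallyRegular p.ResidueField (p.Fiber Λ) := by
  let _ := Localization.AtPrime.algebraOfLiesOver p p'
  have hst : IsScalarTower R p.ResidueField p'.ResidueField := inferInstance
  let e1 : p'.ResidueField ⊗[p.ResidueField] (p.ResidueField ⊗[R] Λ) ≃ₐ[p'.ResidueField]
      p'.ResidueField ⊗[R] Λ :=
    Algebra.TensorProduct.cancelBaseChange R p.ResidueField p'.ResidueField p'.ResidueField Λ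
  let e2 : p'.ResidueField ⊗[R'] (R' ⊗[R] Λ) ≃ₐ[p'.ResidueField] p'.ResidueField ⊗[R] Λ :=
    Algebra.TensorProduct.cancelBaseChange R R' p'.ResidueField p'.ResidueField Λ
  have h1 := Groth.Agent.Lib.Helper5.RegHom.geomRegular_of_algEquiv _ _ _ (e2.trans e1.symm) h
  exact Groth.Agent.Lib.Helper5.GeomRegFG.geomRegular_of_baseChange p.ResidueField (p.Fiber Λ)
    p'.ResidueField h1

/-- abstract form: for a surjective map `C → E` of Noetherian local rings with kernel the prime
`r`, the fibre of `C → Ĉ` at `r` is geometrically regular iff the generic formal fibre of the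
domain `E` is. -/
theorem geomRegular_fiber_iff_of_surjective (C E : Type u) [CommRing C] [CommRing E]
    [IsNoetherianRing C] [IsLocalRing C] [IsLocalRing E] [IsDomain E] [Algebra C E]
    (hsurj : Function.Surjective (algebraMap C E)) (r : Ideal C) [r.IsPrime]
    (hker : (⊥ : Ideal E).comap (algebraMap C E) = r) :
    CAlg.IsGeometricallyRegular r.ResidueField (r.Fiber (EGA4.Cpl C)) ↔
      CAlg.IsGeometricallyRegular (⊥ : Ideal E).ResidueField
        (EGA4.formalFibre E (⊥ : Ideal E)) := by
  haveI : (⊥ : Ideal E).LiesOver r := ⟨hker.symm⟩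
  obtain ⟨e⟩ := nonempty_tensor_cpl_algEquiv_of_surjective C E hsurj
  let e' : (⊥ : Ideal E).Fiber (E ⊗[C] EGA4.Cpl C) ≃ₐ[(⊥ : Ideal E).ResidueField]
      (⊥ : Ideal E).Fiber (EGA4.Cpl E) :=
    Algebra.TensorProduct.congr (AlgEquiv.refl) e
  haveI : Algebra.FiniteType C E :=
    Algebra.FiniteType.of_surjective (Algebra.ofId _ _) hsurj
  constructor
  · intro h
    have h1 := Groth.Agent.Lib.Helper5.RegHom.fiber_baseChange C (EGA4.Cpl C) E r ⊥ h
    exact Groth.Agent.Lib.Helper5.RegHom.geomRegular_of_algEquiv
      (⊥ : Ideal E).ResidueField ((⊥ : Ideal E).Fiber (E ⊗[C] EGA4.Cpl C))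
      ((⊥ : Ideal E).Fiber (EGA4.Cpl E)) e' h1
  · intro h
    have h1 := Groth.Agent.Lib.Helper5.RegHom.geomRegular_of_algEquiv
      (⊥ : Ideal E).ResidueField ((⊥ : Ideal E).Fiber (EGA4.Cpl E))
      ((⊥ : Ideal E).Fiber (E ⊗[C] EGA4.Cpl C)) e'.symm h
    exact fiber_of_baseChange C (EGA4.Cpl C) E r ⊥ h1

section

variable (R : Type u) [CommRing R] [IsNoetherianRing R] (p : Ideal R) [p.IsPrime]
  (q : Ideal R) [q.IsPrime] (P : Ideal (R ⧸ q)) [P.IsPrime] [P.LiesOver p]

theorem surjective_algebraMap_localization :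
    letI := Localization.AtPrime.algebraOfLiesOver p P
    Function.Surjective (algebraMap (Localization.AtPrime p) (Localization.AtPrime P)) := by
  letI := Localization.AtPrime.algebraOfLiesOver p P
  intro x
  obtain ⟨ab, sb, rfl⟩ := IsLocalization.exists_mk'_eq P.primeCompl x
  obtain ⟨a, rfl⟩ := Ideal.Quotient.mk_surjective ab
  obtain ⟨s, hs⟩ := Ideal.Quotient.mk_surjective (sb : R ⧸ q)
  have hsp : s ∈ p.primeCompl := by
    intro hsp
    apply sb.2
    rw [← hs]
    have h1 : p = P.comap (algebraMap R (R ⧸ q)) := Ideal.LiesOver.over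
    rw [h1] at hsp
    exact hsp
  refine ⟨IsLocalization.mk' _ a (⟨s, hsp⟩ : p.primeCompl), ?_⟩
  change Localization.localRingHom p P (algebraMap R (R ⧸ q)) Ideal.LiesOver.over _ = _
  rw [Localization.localRingHom_mk']
  congr 1
  exact Subtype.ext hs

theorem comap_bot_algebraMap_localization (r : Ideal (Localization.AtPrime p)) [r.IsPrime]
    (hr : r.comap (algebraMap R (Localization.AtPrime p)) = q) :
    letI := Localization.AtPrime.algebraOfLiesOver p P
    (⊥ : Ideal (Localization.AtPrime P)).comap
      (algebraMap (Localization.AtPrime p) (Localization.AtPrime P)) = r := by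
  letI := Localization.AtPrime.algebraOfLiesOver p P
  ext x
  obtain ⟨a, s, rfl⟩ := IsLocalization.exists_mk'_eq p.primeCompl x
  rw [Ideal.mem_comap, Ideal.mem_bot]
  have h1 : algebraMap (Localization.AtPrime p) (Localization.AtPrime P)
      (IsLocalization.mk' _ a s) =
      IsLocalization.mk' _ (algebraMap R (R ⧸ q) a)
        (⟨algebraMap R (R ⧸ q) s, by
          have h1 : p = P.comap (algebraMap R (R ⧸ q)) := Ideal.LiesOver.over
          intro hmem
          apply s.2
          have h2 : (s : R) ∈ P.comap (algebraMap R (R ⧸ q)) := hmem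
          rw [← h1] at h2
          exact h2⟩ : P.primeCompl) := by
    change Localization.localRingHom p P (algebraMap R (R ⧸ q)) Ideal.LiesOver.over _ = _
    rw [Localization.localRingHom_mk']
  rw [h1, IsLocalization.mk'_eq_zero_iff]
  have h2 : IsLocalization.mk' (Localization.AtPrime p) a s ∈ r ↔ a ∈ q := by
    rw [IsLocalization.mk'_mem_iff, ← hr, Ideal.mem_comap]
  rw [h2]
  constructor
  · rintro ⟨m, hm⟩
    have hm0 : (m : R ⧸ q) ≠ 0 := fun h0 => m.2 (by rw [h0]; exact zero_mem _)
    have h3 : algebraMap R (R ⧸ q) a = 0 := by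
      rcases mul_eq_zero.mp hm with h | h
      · exact absurd h hm0
      · exact h
    exact Ideal.Quotient.eq_zero_iff_mem.mp h3
  · intro ha
    exact ⟨1, by rw [show algebraMap R (R ⧸ q) a = 0 from Ideal.Quotient.eq_zero_iff_mem.mpr ha,
      mul_zero]⟩

/-- the fibre of `R_p → (R_p)^` at `r` is geometrically regular iff the generic formal fibre of
`(R/q)_P` is, where `q = r ∩ R` and `P = p/q`. -/
theorem geomRegular_fiber_iff (r : Ideal (Localization.AtPrime p)) [r.IsPrime]
    (hr : r.comap (algebraMap R (Localization.AtPrime p)) = q) :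
    CAlg.IsGeometricallyRegular r.ResidueField (r.Fiber (EGA4.Cpl (Localization.AtPrime p))) ↔
      CAlg.IsGeometricallyRegular (⊥ : Ideal (Localization.AtPrime P)).ResidueField
        (EGA4.formalFibre (Localization.AtPrime P) (⊥ : Ideal (Localization.AtPrime P))) := by
  letI := Localization.AtPrime.algebraOfLiesOver p P
  haveI : IsNoetherianRing (Localization.AtPrime p) :=
    IsLocalization.isNoetherianRing p.primeCompl _ inferInstance
  have hsurj := surjective_algebraMap_localization R p q P
  have hker := comap_bot_algebraMap_localization R p q P r hr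
  exact geomRegular_fiber_iff_of_surjective (Localization.AtPrime p) (Localization.AtPrime P)
    hsurj r hker

end

end Groth.Agent.Lib.Helper22.GRing
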