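import Mathlib
import Groth.Agent.Lib.Helper22.CplLocGlob

/-!
# Comparison of completions of localizations along a flat map with trivial fibre (helper22)
-/

set_option autoImplicit false
set_option linter.style.haveILetI false
set_option linter.unusedSectionVars false
universe u

namespace Groth.Agent.Lib.Helper22.GenFib

open IsLocalRing

section CMP

variable {C₀ T₀ : Type u} [CommRing C₀] [CommRing T₀] [IsNoetherianRing C₀] [IsNoetherianRing T₀]
  [Algebra C₀ T₀] [Module.Flat C₀ T₀]
  (n : Ideal C₀) [hn : n.IsMaximal] (𝔑 : Ideal T₀) [h𝔑 : 𝔑.IsMaximal]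

theorem liesOver_of_map_eq (hmap : n.map (algebraMap C₀ T₀) = 𝔑) : 𝔑.LiesOver n := by
  constructor
  have h1 : n ≤ 𝔑.comap (algebraMap C₀ T₀) := by
    rw [← Ideal.map_le_iff_le_comap, hmap]
  exact hn.eq_of_le (Ideal.comap_ne_top _ h𝔑.ne_top) h1

/-- the comparison of completions -/
theorem nonempty_cpl_algEquiv_localization [𝔑.LiesOver n]
    (hmap : n.map (algebraMap C₀ T₀) = 𝔑)
    (hdense : ∀ t : T₀, ∃ c : C₀, t - algebraMap C₀ T₀ c ∈ 𝔑) :
    letI := Localization.AtPrime.algebraOfLiesOver n 𝔑
    Nonempty (EGA4.Cpl (Localization.AtPrime n) ≃ₐ[Localization.AtPrime n]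
      EGA4.Cpl (Localization.AtPrime 𝔑)) := by
  letI := Localization.AtPrime.algebraOfLiesOver n 𝔑
  set C := Localization.AtPrime n
  set D := Localization.AtPrime 𝔑
  haveI : IsNoetherianRing C := IsLocalization.isNoetherianRing n.primeCompl C inferInstance
  haveI : IsNoetherianRing D := IsLocalization.isNoetherianRing 𝔑.primeCompl D inferInstance
  have halg : algebraMap C D =
      Localization.localRingHom n 𝔑 (algebraMap C₀ T₀) Ideal.LiesOver.over := rfl
  haveI : IsLocalHom (algebraMap C D) := by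
    rw [halg]
    exact Localization.isLocalHom_localRingHom n 𝔑 (algebraMap C₀ T₀) Ideal.LiesOver.over
  haveI : Module.Flat C D := by
    have h1 : (algebraMap C₀ T₀).Flat := RingHom.flat_algebraMap_iff.mpr inferInstance
    have h2 := RingHom.Flat.localRingHom h1 𝔑 n Ideal.LiesOver.over
    rw [← halg] at h2
    exact RingHom.flat_algebraMap_iff.mp h2
  have hcomm : ∀ c : C₀, algebraMap C D (algebraMap C₀ C c) =
      algebraMap T₀ D (algebraMap C₀ T₀ c) := by
    intro c
    rw [halg, Localization.localRingHom_to_map]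
  have hm : Ideal.map (algebraMap C D) (maximalIdeal C) = maximalIdeal D := by
    rw [← Localization.AtPrime.map_eq_maximalIdeal, ← Localization.AtPrime.map_eq_maximalIdeal,
      Ideal.map_map]
    have h1 : Ideal.map (algebraMap T₀ D) 𝔑 =
        Ideal.map ((algebraMap T₀ D).comp (algebraMap C₀ T₀)) n := by
      rw [← Ideal.map_map, hmap]
    rw [h1]
    congr 1
    ext c
    exact hcomm c
  have hk : Function.Surjective (IsLocalRing.ResidueField.map (algebraMap C D)) := by
    intro y
    obtain ⟨d, rfl⟩ := IsLocalRing.residue_surjective y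
    -- use the equivalence T₀ ⧸ 𝔑 ≃ D ⧸ 𝔪
    obtain ⟨tb, htb⟩ := (IsLocalization.AtPrime.equivQuotMaximalIdeal 𝔑 D).surjective
      (Ideal.Quotient.mk _ d)
    obtain ⟨t, rfl⟩ := Ideal.Quotient.mk_surjective tb
    rw [IsLocalization.AtPrime.equivQuotMaximalIdeal_apply_mk] at htb
    obtain ⟨c, hc⟩ := hdense t
    refine ⟨IsLocalRing.residue C (algebraMap C₀ C c), ?_⟩
    rw [IsLocalRing.ResidueField.map_residue, hcomm]
    have h1 : IsLocalRing.residue D (algebraMap T₀ D t) = IsLocalRing.residue D d := htb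
    rw [← h1, ← sub_eq_zero, ← map_sub, ← map_sub, IsLocalRing.residue_eq_zero_iff,
      ← Localization.AtPrime.map_eq_maximalIdeal]
    apply Ideal.mem_map_of_mem
    have := 𝔑.neg_mem hc
    rwa [neg_sub] at this
  exact CplLocGlob.nonempty_cpl_algEquiv C D hm hk

end CMP

end Groth.Agent.Lib.Helper22.GenFib
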