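import Mathlib
import Groth.Agent.Lib.Helper22.GRingE
import Groth.Agent.Lib.Helper22.GenFibA
import Groth.Agent.Lib.Helper5.RegularProd

/-!
# Clean tensor form of `QG`, and the comparison of completions for a prime below a maximal ideal
(helper22)
-/

set_option autoImplicit false
set_option linter.style.haveILetI false
set_option linter.unusedSectionVars false
universe u

namespace Groth.Agent.Lib.Helper22.GRing

open TensorProduct IsLocalRing

/-- the clean form of `QG`: the base change to the field itself is regular. -/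
theorem QG.isRegularRing_tensor {A₀ C₀ : Type u} [CommRing A₀] [CommRing C₀] [Algebra A₀ C₀]
    {L : Type u} [Field L] [Algebra A₀ L] (h : QG A₀ C₀ L) : IsRegularRing (C₀ ⊗[A₀] L) := by
  obtain ⟨S, _, _, φ, hft, hinj, hfrac, hreg⟩ := h
  haveI : IsDomain S := hinj.isDomain φ.toRingHom
  letI algSL : Algebra S L := φ.toRingHom.toAlgebra
  haveI : IsScalarTower A₀ S L := .of_algebraMap_eq (fun a => (φ.commutes a).symm)
  haveI : FaithfulSMul S L := (faithfulSMul_iff_algebraMap_injective S L).mpr hinj
  haveI : IsFractionRing S L := IsFractionRing.of_field S L hfrac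
  let M' : Submonoid (C₀ ⊗[A₀] S) :=
    (nonZeroDivisors S).map (Algebra.TensorProduct.includeRight (R := A₀) (A := C₀))
  haveI : IsRegularRing (Localization M') :=
    Groth.Agent.Lib.Helper5.RegularProd.isRegularRing_of_isLocalization M' _
  let e := IsLocalization.tensorProductEquivOfMapIncludeRight A₀ C₀ (nonZeroDivisors S) L
    (Localization M')
  exact IsRegularRing.of_ringEquiv e.symm.toRingEquiv

end Groth.Agent.Lib.Helper22.GRing

namespace Groth.Agent.Lib.Helper22.GenFib

open IsLocalRing

section CMP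

variable {C₀ T₀ : Type u} [CommRing C₀] [CommRing T₀] [IsNoetherianRing C₀] [IsNoetherianRing T₀]
  [Algebra C₀ T₀] [Module.Flat C₀ T₀]
  (n : Ideal C₀) [hn : n.IsPrime] (𝔑 : Ideal T₀) [h𝔑 : 𝔑.IsMaximal]

/-- the comparison of completions, for a prime `n` below a maximal ideal `𝔑` -/
theorem nonempty_cpl_algEquiv_localization' [𝔑.LiesOver n]
    (hmap : n.map (algebraMap C₀ T₀) = 𝔑)
    (hdense : ∀ t : T₀, ∃ c s : C₀, s ∉ n ∧
      algebraMap C₀ T₀ s * t - algebraMap C₀ T₀ c ∈ 𝔑) :
    letI := Localization.AtPrime.algebraOfLiesOver n 𝔑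
    Nonempty (EGA4.Cpl (Localization.AtPrime n) ≃ₐ[Localization.AtPrime n]
      EGA4.Cpl (Localization.AtPrime 𝔑)) := by
  letI := Localization.AtPrime.algebraOfLiesOver n 𝔑
  set C := Localization.AtPrime n
  set D := Localization.AtPrime 𝔑
  haveI : IsNoetherianRing C := IsLocalization.isNoetherianRing n.primeCompl C inferInstance
  haveI : IsNoetherianRing D := IsLocalization.isNoetherianRing 𝔑.primeCompl D inferInstance
  have halg : algebraMap C D =
      Localization.localRingHom n 𝔑 (algebraMap C₀ T₀) Ideal.LiesOver.over := rfl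
  haveI : IsLocalHom (algebraMap C D) := by
    rw [halg]
    exact Localization.isLocalHom_localRingHom n 𝔑 (algebraMap C₀ T₀) Ideal.LiesOver.over
  haveI : Module.Flat C D := by
    have h1 : (algebraMap C₀ T₀).Flat := RingHom.flat_algebraMap_iff.mpr inferInstance
    have h2 := RingHom.Flat.localRingHom h1 𝔑 n Ideal.LiesOver.over
    rw [← halg] at h2
    exact RingHom.flat_algebraMap_iff.mp h2
  have hcomm : ∀ c : C₀, algebraMap C D (algebraMap C₀ C c) =
      algebraMap T₀ D (algebraMap C₀ T₀ c) := by
    intro c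
    rw [halg, Localization.localRingHom_to_map]
  have hm : Ideal.map (algebraMap C D) (maximalIdeal C) = maximalIdeal D := by
    rw [← Localization.AtPrime.map_eq_maximalIdeal, ← Localization.AtPrime.map_eq_maximalIdeal,
      Ideal.map_map]
    have h1 : Ideal.map (algebraMap T₀ D) 𝔑 =
        Ideal.map ((algebraMap T₀ D).comp (algebraMap C₀ T₀)) n := by
      rw [← Ideal.map_map, hmap]
    rw [h1]
    congr 1
    ext c
    exact hcomm c
  have hk : Function.Surjective (IsLocalRing.ResidueField.map (algebraMap C D)) := by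
    intro y
    obtain ⟨d, rfl⟩ := IsLocalRing.residue_surjective y
    obtain ⟨tb, htb⟩ := (IsLocalization.AtPrime.equivQuotMaximalIdeal 𝔑 D).surjective
      (Ideal.Quotient.mk _ d)
    obtain ⟨t, rfl⟩ := Ideal.Quotient.mk_surjective tb
    rw [IsLocalization.AtPrime.equivQuotMaximalIdeal_apply_mk] at htb
    obtain ⟨c, s, hs, hc⟩ := hdense t
    refine ⟨IsLocalRing.residue C (IsLocalization.mk' C c (⟨s, hs⟩ : n.primeCompl)), ?_⟩
    rw [IsLocalRing.ResidueField.map_residue]
    have h1 : IsLocalRing.residue D (algebraMap T₀ D t) = IsLocalRing.residue D d := htb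
    rw [← h1]
    -- both sides, multiplied by the unit `s`, are the residue of `c`
    have hsu : IsLocalRing.residue D (algebraMap T₀ D (algebraMap C₀ T₀ s)) ≠ 0 := by
      intro h0
      rw [IsLocalRing.residue_eq_zero_iff, ← hcomm] at h0
      have h2 : algebraMap C₀ C s ∈ maximalIdeal C := by
        by_contra hnm
        have hu : IsUnit (algebraMap C₀ C s) := by
          by_contra hnu
          exact hnm ((mem_maximalIdeal _).mpr hnu)
        exact (mem_maximalIdeal _).mp h0 (hu.map (algebraMap C D))
      have h3 : s ∈ n := by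
        have := (IsLocalization.AtPrime.to_map_mem_maximal_iff C n s).mp h2
        exact this
      exact hs h3
    apply mul_right_cancel₀ hsu
    have e1 : IsLocalRing.residue D (algebraMap C D (IsLocalization.mk' C c (⟨s, hs⟩ : n.primeCompl))) *
        IsLocalRing.residue D (algebraMap T₀ D (algebraMap C₀ T₀ s)) =
        IsLocalRing.residue D (algebraMap T₀ D (algebraMap C₀ T₀ c)) := by
      rw [← hcomm s, ← map_mul, ← map_mul, IsLocalization.mk'_spec, hcomm]
    have e2 : IsLocalRing.residue D (algebraMap T₀ D t) *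
        IsLocalRing.residue D (algebraMap T₀ D (algebraMap C₀ T₀ s)) =
        IsLocalRing.residue D (algebraMap T₀ D (algebraMap C₀ T₀ c)) := by
      rw [← map_mul, ← map_mul, ← sub_eq_zero, ← map_sub, ← map_sub,
        IsLocalRing.residue_eq_zero_iff, ← Localization.AtPrime.map_eq_maximalIdeal]
      apply Ideal.mem_map_of_mem
      rwa [mul_comm]
    rw [e1, e2]
  exact CplLocGlob.nonempty_cpl_algEquiv C D hm hk

/-- the comparison of completions when the target localization is already complete -/
theorem nonempty_cpl_algEquiv_localization_complete [𝔑.LiesOver n]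
    (hmap : n.map (algebraMap C₀ T₀) = 𝔑)
    (hdense : ∀ t : T₀, ∃ c s : C₀, s ∉ n ∧
      algebraMap C₀ T₀ s * t - algebraMap C₀ T₀ c ∈ 𝔑)
    [IsAdicComplete (maximalIdeal (Localization.AtPrime 𝔑)) (Localization.AtPrime 𝔑)] :
    Nonempty (EGA4.Cpl (Localization.AtPrime n) ≃ₐ[C₀] Localization.AtPrime 𝔑) := by
  letI := Localization.AtPrime.algebraOfLiesOver n 𝔑
  obtain ⟨e⟩ := nonempty_cpl_algEquiv_localization' n 𝔑 hmap hdense
  let e₂ : Localization.AtPrime 𝔑 ≃ₐ[Localization.AtPrime 𝔑] EGA4.Cpl (Localization.AtPrime 𝔑) :=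
    AdicCompletion.ofAlgEquiv (maximalIdeal (Localization.AtPrime 𝔑))
  refine ⟨AlgEquiv.ofRingEquiv (f := e.toRingEquiv.trans e₂.symm.toRingEquiv) ?_⟩
  intro a
  change e₂.symm (e (algebraMap C₀ (EGA4.Cpl (Localization.AtPrime n)) a)) = _
  have h1 : algebraMap C₀ (EGA4.Cpl (Localization.AtPrime n)) a =
      algebraMap (Localization.AtPrime n) (EGA4.Cpl (Localization.AtPrime n))
        (algebraMap C₀ (Localization.AtPrime n) a) := rfl
  rw [h1, e.commutes]
  have h2 : algebraMap (Localization.AtPrime n) (EGA4.Cpl (Localization.AtPrime 𝔑))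
      (algebraMap C₀ (Localization.AtPrime n) a) =
      e₂ (algebraMap C₀ (Localization.AtPrime 𝔑) a) := by
    have h3 : e₂ (algebraMap C₀ (Localization.AtPrime 𝔑) a) =
        algebraMap (Localization.AtPrime 𝔑) (EGA4.Cpl (Localization.AtPrime 𝔑))
          (algebraMap C₀ (Localization.AtPrime 𝔑) a) := by
      rw [AdicCompletion.ofAlgEquiv_apply]
      rfl
    rw [h3]
    change algebraMap (Localization.AtPrime 𝔑) (EGA4.Cpl (Localization.AtPrime 𝔑))
      (algebraMap (Localization.AtPrime n) (Localization.AtPrime 𝔑)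
        (algebraMap C₀ (Localization.AtPrime n) a)) = _
    congr 1
    rw [IsScalarTower.algebraMap_apply C₀ T₀ (Localization.AtPrime 𝔑)]
    exact Localization.localRingHom_to_map n 𝔑 _ Ideal.LiesOver.over a
  rw [h2, AlgEquiv.symm_apply_apply]

end CMP

end Groth.Agent.Lib.Helper22.GenFib
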