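import Mathlib
import Groth.Agent.Lib.Helper12.HenselFinite
import Groth.Agent.Lib.Helper12.NoetherianAux
import Groth.Agent.Lib.Helper12.PSStructA
import Groth.Agent.S3866

/-!
# A finite algebra over a complete local ring with "ordinary" closed fibre is a product of power
series rings
-/

set_option autoImplicit false
set_option linter.style.haveILetI false
set_option linter.unusedSectionVars false
universe u

namespace Groth.Agent.Lib.Helper22.Multicross

open IsLocalRing
open scoped nonZeroDivisors

section Idem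

variable {B : Type u} [CommRing B] {ι : Type u} [Fintype ι] (e : ι → B)

/-- the index set of a decomposition into local rings is the maximal spectrum -/
theorem nonempty_equiv_maximalSpectrum (he : CompleteOrthogonalIdempotents e)
    (hloc : ∀ i, IsLocalRing (B ⧸ Ideal.span {1 - e i})) :
    Nonempty (ι ≃ MaximalSpectrum B) := by
  classical
  have hmk1 : ∀ i, Ideal.Quotient.mk (Ideal.span {1 - e i}) (e i) = 1 := by
    intro i
    have : Ideal.Quotient.mk (Ideal.span {1 - e i}) (1 - e i) = 0 :=
      Ideal.Quotient.eq_zero_iff_mem.mpr (Ideal.subset_span rfl)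
    rw [map_sub, map_one, sub_eq_zero] at this
    exact this.symm
  have hmk0 : ∀ i j, i ≠ j → Ideal.Quotient.mk (Ideal.span {1 - e j}) (e i) = 0 := by
    intro i j hij
    have h1 : e i = e i * (1 - e j) := by
      rw [mul_sub, mul_one, he.ortho hij, sub_zero]
    rw [h1, map_mul]
    have : Ideal.Quotient.mk (Ideal.span {1 - e j}) (1 - e j) = 0 :=
      Ideal.Quotient.eq_zero_iff_mem.mpr (Ideal.subset_span rfl)
    rw [this, mul_zero]
  let F : ι → MaximalSpectrum B := fun i =>
    haveI := hloc i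
    ⟨(maximalIdeal (B ⧸ Ideal.span {1 - e i})).comap (Ideal.Quotient.mk _),
      Ideal.comap_isMaximal_of_surjective _ Ideal.Quotient.mk_surjective⟩
  have hFmem : ∀ i (b : B), b ∈ (F i).asIdeal ↔
      ¬ IsUnit (Ideal.Quotient.mk (Ideal.span {1 - e i}) b) := by
    intro i b
    haveI := hloc i
    change Ideal.Quotient.mk (Ideal.span {1 - e i}) b ∈ maximalIdeal _ ↔ _
    rw [mem_maximalIdeal, mem_nonunits_iff]
  refine ⟨Equiv.ofBijective F ⟨?_, ?_⟩⟩
  · intro i j hij
    by_contra hne
    have h1 : e i ∈ (F j).asIdeal := by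
      haveI := hloc j
      rw [hFmem, hmk0 i j hne]
      exact not_isUnit_zero
    have h2 : e i ∉ (F i).asIdeal := by
      rw [hFmem, hmk1 i, not_not]
      exact isUnit_one
    rw [hij] at h2
    exact h2 h1
  · rintro ⟨n, hn⟩
    have hex : ∃ i, e i ∉ n := by
      by_contra hcon
      push Not at hcon
      have : (1 : B) ∈ n := by
        rw [← he.complete]
        exact Ideal.sum_mem _ (fun i _ => hcon i)
      exact hn.ne_top ((Ideal.eq_top_iff_one n).mpr this)
    obtain ⟨i, hi⟩ := hex
    have h1 : 1 - e i ∈ n := by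
      have h0 : e i * (1 - e i) = 0 := by
        rw [mul_sub, mul_one, (he.idem i).eq, sub_self]
      have : e i * (1 - e i) ∈ n := by rw [h0]; exact n.zero_mem
      exact (hn.isPrime.mem_or_mem this).resolve_left hi
    refine ⟨i, MaximalSpectrum.ext ?_⟩
    symm
    apply hn.eq_of_le (F i).isMaximal.ne_top
    intro b hb
    rw [hFmem]
    intro hu
    obtain ⟨c, hc⟩ := hu.exists_right_inv
    obtain ⟨c, rfl⟩ := Ideal.Quotient.mk_surjective c
    rw [← map_mul, ← map_one (Ideal.Quotient.mk (Ideal.span {1 - e i})), Ideal.Quotient.eq,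
      Ideal.mem_span_singleton'] at hc
    obtain ⟨d, hd⟩ := hc
    have h2 : b * c - 1 ∈ n := by rw [← hd]; exact n.mul_mem_left _ h1
    have h3 : (1 : B) ∈ n := by
      have := n.sub_mem (n.mul_mem_right c hb) h2
      rwa [sub_sub_cancel] at this
    exact hn.ne_top ((Ideal.eq_top_iff_one n).mpr h3)

end Idem

section Local

/-- a complete local ring with principal maximal ideal and coefficient field is a power series
ring -/
theorem exists_algEquiv_powerSeries {k R : Type u} [Field k] [CommRing R] [IsLocalRing R]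
    [Algebra k R] (x : R) (hx : x ∈ R⁰) [IsAdicComplete (Ideal.span {x}) R]
    (hmax : maximalIdeal R = Ideal.span {x})
    (hres : ∀ r : R, ∃ c : k, r - algebraMap k R c ∈ maximalIdeal R) :
    ∃ Θ : R ≃ₐ[k] PowerSeries k,
      ∀ r, PowerSeries.constantCoeff (Θ r) = 0 ↔ r ∈ Ideal.span {x} := by
  haveI : Nontrivial (R ⧸ Ideal.span {x}) := by
    rw [← hmax]
    exact Ideal.Quotient.nontrivial_iff.mpr (maximalIdeal.isMaximal R).ne_top
  have hbij : Function.Bijective (Algebra.ofId k (R ⧸ Ideal.span {x})) := by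
    refine ⟨(Algebra.ofId k (R ⧸ Ideal.span {x})).toRingHom.injective, ?_⟩
    intro y
    obtain ⟨r, rfl⟩ := Ideal.Quotient.mk_surjective y
    obtain ⟨c, hc⟩ := hres r
    refine ⟨c, ?_⟩
    rw [hmax] at hc
    exact (Ideal.Quotient.eq.mpr hc).symm
  let σ : k ≃ₐ[k] (R ⧸ Ideal.span {x}) := AlgEquiv.ofBijective _ hbij
  let s : (R ⧸ Ideal.span {x}) →ₐ[k] R := (Algebra.ofId k R).comp σ.symm.toAlgHom
  have hs : ∀ b, Ideal.Quotient.mk (Ideal.span {x}) (s b) = b := by
    intro b
    obtain ⟨c, rfl⟩ := σ.surjective b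
    change Ideal.Quotient.mk (Ideal.span {x}) (algebraMap k R (σ.symm (σ c))) = σ c
    rw [σ.symm_apply_apply]
    rfl
  obtain ⟨e, -, he⟩ :=
    Groth.Agent.Lib.Helper12.PSStruct.exists_algEquiv_powerSeries_of_section x hx s hs
  let μ : PowerSeries (R ⧸ Ideal.span {x}) ≃ₐ[k] PowerSeries k :=
    AlgEquiv.ofBijective (PowerSeries.mapAlgHom σ.symm.toAlgHom)
      ⟨by
        intro u v huv
        rw [PowerSeries.mapAlgHom_apply, PowerSeries.mapAlgHom_apply] at huv
        exact PowerSeries.map_injective _ σ.symm.injective huv, by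
        intro g
        obtain ⟨f, hf⟩ := PowerSeries.map_surjective
          ((σ.symm.toAlgHom : (R ⧸ Ideal.span {x}) →ₐ[k] k) : (R ⧸ Ideal.span {x}) →+* k)
          σ.symm.surjective g
        exact ⟨f, by rw [PowerSeries.mapAlgHom_apply]; exact hf⟩⟩
  refine ⟨e.symm.trans μ, fun r => ?_⟩
  have h1 : PowerSeries.constantCoeff ((e.symm.trans μ) r) =
      σ.symm (PowerSeries.constantCoeff (e.symm r)) := by
    change PowerSeries.constantCoeff (PowerSeries.mapAlgHom σ.symm.toAlgHom (e.symm r)) = _
    rw [PowerSeries.mapAlgHom_apply, ← PowerSeries.coeff_zero_eq_constantCoeff_apply,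
      PowerSeries.coeff_map, PowerSeries.coeff_zero_eq_constantCoeff_apply]
    rfl
  rw [h1, ← he (e.symm r), e.apply_symm_apply, map_eq_zero_iff _ σ.symm.injective,
    Ideal.Quotient.eq_zero_iff_mem]

end Local

section Main

variable (k : Type u) [Field k] (T : Type u) [CommRing T] [IsLocalRing T] [IsNoetherianRing T]
  [IsAdicComplete (maximalIdeal T) T]
  (B : Type u) [CommRing B] [Algebra T B] [Module.Finite T B] [Algebra k B]

/-- the structure theorem -/
theorem exists_algEquiv_pi_powerSeries (x : B) (hx : x ∈ B⁰)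
    (hmT : (maximalIdeal T).map (algebraMap T B) = Ideal.span {x})
    (hV : ∀ b : B, ∃ z : B, b - b * b * z ∈ Ideal.span {x})
    (hres : ∀ (n : Ideal B) [n.IsMaximal] (b : B), ∃ c : k, b - algebraMap k B c ∈ n) :
    ∃ (ι : Type u) (_ : Fintype ι) (Θ : B ≃ₐ[k] (ι → PowerSeries k)),
      (∀ b : B, (∀ i, PowerSeries.constantCoeff (Θ b i) = 0) ↔ b ∈ Ideal.span {x}) ∧
      Nonempty (ι ≃ MaximalSpectrum B) := by
  classical
  haveI : HenselianLocalRing T := Groth.Agent.Lib.Helper12.henselianLocalRing_of_henselianRing T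
  obtain ⟨ι, _, e, he, hloc⟩ :=
    Groth.Agent.Lib.Helper12.exists_completeOrthogonalIdempotents_isLocalRing T B
  refine ⟨ι, inferInstance, ?_⟩
  -- the local factors
  have key : ∀ i, ∃ Θ : (B ⧸ Ideal.span {1 - e i}) ≃ₐ[k] PowerSeries k,
      ∀ r, PowerSeries.constantCoeff (Θ r) = 0 ↔
        r ∈ Ideal.span {Ideal.Quotient.mk (Ideal.span {1 - e i}) x} := by
    intro i
    haveI := hloc i
    set I := Ideal.span {1 - e i} with hI
    -- `x` stays a nonzerodivisor
    have hxi : Ideal.Quotient.mk I x ∈ (B ⧸ I)⁰ := by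
      rw [mem_nonZeroDivisors_iff_right]
      intro y hy
      obtain ⟨b, rfl⟩ := Ideal.Quotient.mk_surjective y
      rw [← map_mul, Ideal.Quotient.eq_zero_iff_mem, hI, Ideal.mem_span_singleton'] at hy
      obtain ⟨d, hd⟩ := hy
      have h0 : (1 - e i) * e i = 0 := by
        rw [sub_mul, one_mul, (he.idem i).eq, sub_self]
      have h1 : (e i * b) * x = 0 := by
        calc (e i * b) * x = e i * (b * x) := by ring
          _ = e i * (d * (1 - e i)) := by rw [hd]
          _ = d * ((1 - e i) * e i) := by ring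
          _ = 0 := by rw [h0, mul_zero]
      have h2 : e i * b = 0 := (mem_nonZeroDivisors_iff_right.mp hx) _ h1
      rw [Ideal.Quotient.eq_zero_iff_mem, hI, Ideal.mem_span_singleton']
      refine ⟨b, ?_⟩
      rw [mul_sub, mul_one, mul_comm b (e i), h2, sub_zero]
    -- the ideal `𝔪_T (B/I)`
    have hmap : (maximalIdeal T).map (algebraMap T (B ⧸ I)) =
        Ideal.span {Ideal.Quotient.mk I x} := by
      rw [IsScalarTower.algebraMap_eq T B (B ⧸ I), ← Ideal.map_map, hmT, Ideal.map_span,
        Set.image_singleton]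
      rfl
    -- completeness
    haveI hcompl : IsAdicComplete (Ideal.span {Ideal.Quotient.mk I x}) (B ⧸ I) := by
      have h1 : IsAdicComplete (maximalIdeal T) (B ⧸ I) :=
        Groth.Agent.S3866.result T (maximalIdeal T) (B ⧸ I)
      rw [← hmap]
      exact (IsAdicComplete.map_algebraMap_iff _ _).mpr h1
    -- the maximal ideal
    have hle : Ideal.span {Ideal.Quotient.mk I x} ≤ maximalIdeal (B ⧸ I) := by
      rw [← hmap, Ideal.map_le_iff_le_comap]
      haveI : Algebra.IsIntegral T (B ⧸ I) := inferInstance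
      haveI hmx : ((maximalIdeal (B ⧸ I)).comap (algebraMap T (B ⧸ I))).IsMaximal :=
        Ideal.isMaximal_comap_of_isIntegral_of_isMaximal _
      rw [eq_maximalIdeal hmx]
    have hmax : maximalIdeal (B ⧸ I) = Ideal.span {Ideal.Quotient.mk I x} := by
      apply le_antisymm _ hle
      intro y hy
      obtain ⟨b, rfl⟩ := Ideal.Quotient.mk_surjective y
      obtain ⟨z, hz⟩ := hV b
      have h1 : Ideal.Quotient.mk I (b - b * b * z) ∈ Ideal.span {Ideal.Quotient.mk I x} := by
        have := Ideal.mem_map_of_mem (Ideal.Quotient.mk I) hz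
        rwa [Ideal.map_span, Set.image_singleton] at this
      have e1 : Ideal.Quotient.mk I (b - b * b * z) =
          (1 - Ideal.Quotient.mk I b * Ideal.Quotient.mk I z) * Ideal.Quotient.mk I b := by
        rw [map_sub, map_mul, map_mul]; ring
      have hu : IsUnit (1 - Ideal.Quotient.mk I b * Ideal.Quotient.mk I z) := by
        apply isUnit_one_sub_self_of_mem_nonunits
        rw [← mem_maximalIdeal]
        exact Ideal.mul_mem_right _ _ hy
      rw [e1] at h1
      exact (Ideal.unit_mul_mem_iff_mem _ hu).mp h1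
    -- the residue field
    have hres' : ∀ r : B ⧸ I, ∃ c : k, r - algebraMap k (B ⧸ I) c ∈ maximalIdeal (B ⧸ I) := by
      intro r
      obtain ⟨b, rfl⟩ := Ideal.Quotient.mk_surjective r
      haveI : ((maximalIdeal (B ⧸ I)).comap (Ideal.Quotient.mk I)).IsMaximal :=
        Ideal.comap_isMaximal_of_surjective _ Ideal.Quotient.mk_surjective
      obtain ⟨c, hc⟩ := hres ((maximalIdeal (B ⧸ I)).comap (Ideal.Quotient.mk I)) b
      refine ⟨c, ?_⟩
      rw [Ideal.mem_comap, map_sub] at hc
      exact hc
    exact exists_algEquiv_powerSeries (Ideal.Quotient.mk I x) hxi hmax hres'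
  choose Θ hΘ using key
  -- the product decomposition
  let ψ₀ : B →ₐ[k] (∀ i, B ⧸ Ideal.span {1 - e i}) :=
    { RingHom.pi (fun i => Ideal.Quotient.mk (Ideal.span {1 - e i})) with
      commutes' := fun c => rfl }
  have hψ₀ : Function.Bijective ψ₀ := he.bijective_pi
  let ψ : B ≃ₐ[k] (∀ i, B ⧸ Ideal.span {1 - e i}) := AlgEquiv.ofBijective ψ₀ hψ₀
  have hψ_apply : ∀ b i, ψ b i = Ideal.Quotient.mk (Ideal.span {1 - e i}) b := fun b i => rfl
  refine ⟨ψ.trans (AlgEquiv.piCongrRight Θ), ?_, nonempty_equiv_maximalSpectrum e he hloc⟩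
  intro b
  have h1 : ∀ i, (ψ.trans (AlgEquiv.piCongrRight Θ)) b i =
      Θ i (Ideal.Quotient.mk (Ideal.span {1 - e i}) b) := fun i => rfl
  simp only [h1, hΘ]
  constructor
  · intro h
    have h2 : ∀ i, ∃ r : B, Ideal.Quotient.mk (Ideal.span {1 - e i}) b =
        Ideal.Quotient.mk (Ideal.span {1 - e i}) (x * r) := by
      intro i
      obtain ⟨r, hr⟩ := Ideal.mem_span_singleton'.mp (h i)
      obtain ⟨r, rfl⟩ := Ideal.Quotient.mk_surjective r
      exact ⟨r, by rw [← hr, map_mul, mul_comm]⟩
    choose r hr using h2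
    obtain ⟨r', hr'⟩ := hψ₀.2 (fun i => Ideal.Quotient.mk (Ideal.span {1 - e i}) (r i))
    have h3 : b = x * r' := by
      apply hψ₀.1
      funext i
      have h4 : ψ₀ r' i = Ideal.Quotient.mk (Ideal.span {1 - e i}) (r i) := congrFun hr' i
      change Ideal.Quotient.mk (Ideal.span {1 - e i}) b =
        Ideal.Quotient.mk (Ideal.span {1 - e i}) (x * r')
      rw [hr i, map_mul, map_mul]
      congr 1
      exact h4.symm
    rw [h3]
    exact Ideal.mul_mem_right _ _ (Ideal.subset_span rfl)
  · intro h i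
    have := Ideal.mem_map_of_mem (Ideal.Quotient.mk (Ideal.span {1 - e i})) h
    rwa [Ideal.map_span, Set.image_singleton] at this

end Main

end Groth.Agent.Lib.Helper22.Multicross
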