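import Mathlib
import Groth.Agent.Lib.Helper22.MulticrossC
import Groth.Agent.Lib.Helper22.BranchCountD

/-!
# The completion of an ordinary multiple point (abstract form)
-/

set_option autoImplicit false
set_option linter.style.haveILetI false
set_option linter.unusedSectionVars false
universe u

namespace Groth.Agent.Lib.Helper22.Multicross

open TensorProduct IsLocalRing
open scoped nonZeroDivisors
open Groth.Agent.Lib.Helper12

attribute [local instance] Algebra.TensorProduct.rightAlgebra

section Gen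

variable (A : Type u) [CommRing A] [IsLocalRing A] (T : Type u) [CommRing T] [IsLocalRing T]
  [Algebra A T] (C : Type u) [CommRing C] [Algebra A C]

/-- `T ⊗ C` is generated by `C` modulo `𝔪_A` -/
theorem hgen_of_formalLike (hT : AUn.FormalLike A T) (b : T ⊗[A] C) :
    ∃ c : C, b - algebraMap C (T ⊗[A] C) c ∈ (maximalIdeal A).map (algebraMap A (T ⊗[A] C)) := by
  have hmapB : ((maximalIdeal A).map (algebraMap A T)).map (algebraMap T (T ⊗[A] C)) =
      (maximalIdeal A).map (algebraMap A (T ⊗[A] C)) := by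
    rw [Ideal.map_map, ← IsScalarTower.algebraMap_eq]
  induction b using TensorProduct.induction_on with
  | zero => exact ⟨0, by simp⟩
  | tmul y c =>
    obtain ⟨r, hr⟩ := hT.res_surj y
    rw [← hT.map_max] at hr
    refine ⟨r • c, ?_⟩
    have e : y ⊗ₜ[A] c - algebraMap C (T ⊗[A] C) (r • c) =
        algebraMap T (T ⊗[A] C) (y - algebraMap A T r) * ((1 : T) ⊗ₜ[A] c) := by
      rw [Algebra.TensorProduct.right_algebraMap_apply, Algebra.TensorProduct.algebraMap_apply,
        Algebra.TensorProduct.tmul_mul_tmul, Algebra.algebraMap_self_apply, mul_one, one_mul,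
        TensorProduct.sub_tmul, ← TensorProduct.smul_tmul, Algebra.smul_def, mul_one]
    rw [e, ← hmapB]
    exact Ideal.mul_mem_right _ _ (Ideal.mem_map_of_mem _ hr)
  | add x y hx hy =>
    obtain ⟨c1, h1⟩ := hx
    obtain ⟨c2, h2⟩ := hy
    refine ⟨c1 + c2, ?_⟩
    have e : x + y - algebraMap C (T ⊗[A] C) (c1 + c2) =
        (x - algebraMap C (T ⊗[A] C) c1) + (y - algebraMap C (T ⊗[A] C) c2) := by
      rw [map_add]; ring
    rw [e]
    exact Ideal.add_mem _ h1 h2

end Gen

section Main

variable (k : Type u) [Field k] (A : Type u) [CommRing A] [IsLocalRing A] [IsNoetherianRing A]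
  [Algebra k A]
  (T : Type u) [CommRing T] [IsLocalRing T] [IsNoetherianRing T]
  [IsAdicComplete (maximalIdeal T) T] [Algebra A T]
  (C : Type u) [CommRing C] [Algebra A C] [Module.Finite A C]

theorem main_abstract (hT : AUn.FormalLike A T)
    (hinjC : Function.Injective (algebraMap A C))
    (hresk : ∀ a : A, ∃ c : k, a - algebraMap k A c ∈ maximalIdeal A)
    (n : ℕ) (m' : Fin n → Ideal C) (hmax : ∀ i, (m' i).IsMaximal)
    (hinj : Function.Injective m') (hall : ∀ P : Ideal C, P.IsMaximal → ∃ i, m' i = P)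
    (hsurj : ∀ i, Function.Surjective ((Ideal.Quotient.mk (m' i)).comp (algebraMap A C)))
    (hJ : ∀ j : C, (∀ i, j ∈ m' i) → ∃ a : A, algebraMap A C a = j)
    (π : C) (hπ0 : π ∈ C⁰) (hπm : ∀ i, π ∈ m' i)
    (hπJ : ∀ j : C, (∀ i, j ∈ m' i) → j ∈ Ideal.span {π}) :
    ∃ φ : T →+* (Fin n → PowerSeries k),
      Function.Injective φ ∧
      (∀ c : k, φ (algebraMap A T (algebraMap k A c)) = fun _ => algebraMap k (PowerSeries k) c) ∧
      Set.range φ = {f : Fin n → PowerSeries k | ∀ i j : Fin n,
        PowerSeries.constantCoeff (f i) = PowerSeries.constantCoeff (f j)} := by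
  classical
  haveI : Module.Flat A T := hT.flat
  haveI : IsLocalHom (algebraMap A T) := ⟨fun a ha => by
    by_contra hna
    have h1 : algebraMap A T a ∈ maximalIdeal T := by
      rw [← hT.map_max]
      exact Ideal.mem_map_of_mem _ ((mem_maximalIdeal a).mpr hna)
    exact (mem_maximalIdeal _).mp h1 ha⟩
  haveI : Module.FaithfullyFlat A T := Module.FaithfullyFlat.of_flat_of_isLocalHom
  haveI : Module.FaithfullyFlat C (T ⊗[A] C) := BranchCount.faithfullyFlat_right A T C
  haveI : HenselianLocalRing T := henselianLocalRing_of_henselianRing T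
  haveI : Algebra.IsIntegral A C := inferInstance
  letI algk : Algebra k (T ⊗[A] C) :=
    ((algebraMap T (T ⊗[A] C)).comp ((algebraMap A T).comp (algebraMap k A))).toAlgebra
  have halgk : ∀ c : k, algebraMap k (T ⊗[A] C) c =
      algebraMap T (T ⊗[A] C) (algebraMap A T (algebraMap k A c)) := fun c => rfl
  have hgen := hgen_of_formalLike A T C hT
  have hf : Function.Injective (algebraMap T (T ⊗[A] C)) :=
    Algebra.TensorProduct.includeLeft_injective (S := A) hinjC
  -- the maximal ideals of `C` lie over `𝔪_A`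
  have hover : ∀ i, ∀ a ∈ maximalIdeal A, algebraMap A C a ∈ m' i := by
    intro i a ha
    haveI := hmax i
    have h1 := BranchCount.map_maximalIdeal_le_of_isMaximal' (A := A) (m' i)
    exact h1 (Ideal.mem_map_of_mem _ ha)
  -- `n ≥ 1`
  haveI : Nontrivial C := hinjC.nontrivial
  obtain ⟨P0, hP0⟩ := Ideal.exists_maximal C
  obtain ⟨i0, -⟩ := hall P0 hP0
  -- `𝔪_A C = (π)`
  have hmC : (maximalIdeal A).map (algebraMap A C) = Ideal.span {π} := by
    apply le_antisymm
    · rw [Ideal.map_le_iff_le_comap]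
      intro a ha
      exact hπJ _ (fun i => hover i a ha)
    · rw [Ideal.span_singleton_le_iff_mem]
      obtain ⟨a, ha⟩ := hJ π hπm
      rw [← ha]
      apply Ideal.mem_map_of_mem
      rw [mem_maximalIdeal, mem_nonunits_iff]
      intro hu
      have h1 : IsUnit (algebraMap A C a) := hu.map _
      rw [ha] at h1
      exact (hmax i0).ne_top (Ideal.eq_top_of_isUnit_mem _ (hπm i0) h1)
  set x : T ⊗[A] C := algebraMap C (T ⊗[A] C) π with hxdef
  have hmB : (maximalIdeal A).map (algebraMap A (T ⊗[A] C)) = Ideal.span {x} := by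
    rw [IsScalarTower.algebraMap_eq A C (T ⊗[A] C), ← Ideal.map_map, hmC, Ideal.map_span,
      Set.image_singleton]
  have hmT : (maximalIdeal T).map (algebraMap T (T ⊗[A] C)) = Ideal.span {x} := by
    rw [← hT.map_max, Ideal.map_map, ← IsScalarTower.algebraMap_eq, hmB]
  have hx : x ∈ (T ⊗[A] C)⁰ := by
    have hreg' : IsSMulRegular (T ⊗[A] C) π := Module.Flat.isSMulRegular_of_nonZeroDivisors hπ0
    rw [mem_nonZeroDivisors_iff_right]
    intro y hy
    apply hreg'
    change π • y = π • (0 : T ⊗[A] C)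
    rw [smul_zero, Algebra.smul_def, mul_comm]
    exact hy
  -- von Neumann regularity modulo the radical
  have hVC : ∀ c : C, ∃ c' : C, ∀ i, c - c * c * c' ∈ m' i := by
    intro c
    have hinv : ∀ i, ∃ c' : C, c - c * c * c' ∈ m' i := by
      intro i
      by_cases hcm : c ∈ m' i
      · exact ⟨0, by simpa using hcm⟩
      · obtain ⟨y, z, hz, hyz⟩ := Ideal.IsMaximal.exists_inv (hmax i) hcm
        refine ⟨y, ?_⟩
        have e : c - c * c * y = c * z := by linear_combination (-c) * hyz
        rw [e]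
        exact Ideal.mul_mem_left _ _ hz
    choose c' hc' using hinv
    have hcop : Pairwise (Function.onFun IsCoprime m') := by
      intro i j hij
      exact Ideal.isCoprime_iff_sup_eq.mpr
        (Ideal.IsMaximal.coprime_of_ne (hmax i) (hmax j) (fun h => hij (hinj h)))
    obtain ⟨d, hd⟩ := Ideal.pi_quotient_surjective hcop
      (fun i => Ideal.Quotient.mk (m' i) (c' i))
    refine ⟨d, fun i => ?_⟩
    have h1 : d - c' i ∈ m' i := Ideal.Quotient.eq.mp (hd i)
    have e : c - c * c * d = (c - c * c * c' i) - c * c * (d - c' i) := by ring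
    rw [e]
    exact Ideal.sub_mem _ (hc' i) (Ideal.mul_mem_left _ _ h1)
  have hV : ∀ b : T ⊗[A] C, ∃ z : T ⊗[A] C, b - b * b * z ∈ Ideal.span {x} := by
    intro b
    obtain ⟨c, hc⟩ := hgen b
    obtain ⟨c', hc'⟩ := hVC c
    refine ⟨algebraMap C (T ⊗[A] C) c', ?_⟩
    rw [hmB] at hc
    have h2 : algebraMap C (T ⊗[A] C) (c - c * c * c') ∈ Ideal.span {x} := by
      have := Ideal.mem_map_of_mem (algebraMap C (T ⊗[A] C)) (hπJ _ hc')
      rwa [Ideal.map_span, Set.image_singleton] at this
    rw [← Ideal.Quotient.eq_zero_iff_mem] at hc h2 ⊢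
    rw [map_sub, sub_eq_zero] at hc
    rw [map_sub, map_mul, map_mul, hc, ← map_mul, ← map_mul, ← map_sub, ← map_mul, ← map_mul,
      ← map_sub]
    exact h2
  -- residue fields
  have hres : ∀ (N : Ideal (T ⊗[A] C)) [N.IsMaximal] (b : T ⊗[A] C),
      ∃ c : k, b - algebraMap k (T ⊗[A] C) c ∈ N := by
    intro N hN b
    have hmN := BranchCount.map_maximalIdeal_le_of_isMaximal (A := A) T N
    haveI hcm := BranchCount.isMaximal_comap (A := A) (C := C) (B := T ⊗[A] C) hgen T N
    obtain ⟨i, hi⟩ := hall _ hcm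
    obtain ⟨c, hc⟩ := hgen b
    obtain ⟨a, ha⟩ := hsurj i (Ideal.Quotient.mk (m' i) c)
    obtain ⟨c₀, hc₀⟩ := hresk a
    refine ⟨c₀, ?_⟩
    have h1 : algebraMap A C a - c ∈ m' i := Ideal.Quotient.eq.mp ha
    have h2 : algebraMap C (T ⊗[A] C) (algebraMap A C a - c) ∈ N := by
      rw [hi] at h1
      exact h1
    have h3 : algebraMap A (T ⊗[A] C) (a - algebraMap k A c₀) ∈ N :=
      hmN (Ideal.mem_map_of_mem _ hc₀)
    have e : b - algebraMap k (T ⊗[A] C) c₀ =
        (b - algebraMap C (T ⊗[A] C) c) - algebraMap C (T ⊗[A] C) (algebraMap A C a - c) +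
          algebraMap A (T ⊗[A] C) (a - algebraMap k A c₀) := by
      rw [halgk, map_sub, map_sub, ← IsScalarTower.algebraMap_apply A C (T ⊗[A] C),
        ← IsScalarTower.algebraMap_apply A T (T ⊗[A] C)]
      ring
    rw [e]
    exact N.add_mem (N.sub_mem (hmN hc) h2) h3
  -- the structure theorem
  obtain ⟨ι, _, Θ, hΘ, ⟨eqv⟩⟩ := exists_algEquiv_pi_powerSeries k T (T ⊗[A] C) x hx hmT hV hres
  -- counting
  have hcard : Fintype.card ι = n := by
    have bij1 := BranchCount.bijOn_comap_maximal (A := A) (C := C) (B := T ⊗[A] C) hgen T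
    have h1 : Nat.card ι = Nat.card {N : Ideal (T ⊗[A] C) | N.IsMaximal} :=
      Nat.card_congr (eqv.trans ⟨fun M => ⟨M.asIdeal, M.isMaximal⟩, fun M => ⟨M.1, M.2⟩,
        fun _ => rfl, fun _ => rfl⟩)
    have h2 : {P : Ideal C | P.IsMaximal} = Set.range m' := by
      ext P
      constructor
      · intro hP
        obtain ⟨i, hi⟩ := hall P hP
        exact ⟨i, hi⟩
      · rintro ⟨i, rfl⟩
        exact hmax i
    have h3 : Set.ncard {N : Ideal (T ⊗[A] C) | N.IsMaximal} = n := by
      rw [← Set.ncard_image_of_injOn bij1.injOn, bij1.image_eq, h2,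
        Set.ncard_range_of_injective hinj, Nat.card_fin]
    rw [← Nat.card_eq_fintype_card, h1, ← h3]
    rfl
  let r : ι ≃ Fin n := Fintype.equivFinOfCardEq hcard
  -- the map
  let φ : T →+* (Fin n → PowerSeries k) :=
    Pi.ringHom (fun j => (Pi.evalRingHom (fun _ : ι => PowerSeries k) (r.symm j)).comp
      ((Θ : (T ⊗[A] C) →+* (ι → PowerSeries k)).comp (algebraMap T (T ⊗[A] C))))
  have hφ : ∀ t j, φ t j = Θ (algebraMap T (T ⊗[A] C) t) (r.symm j) := fun t j => rfl
  have hΘk : ∀ (c : k) (i : ι), Θ (algebraMap k (T ⊗[A] C) c) i = algebraMap k (PowerSeries k) c := by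
    intro c i
    rw [Θ.commutes]
    rfl
  -- `(x)` lies in the image of `T`
  have hxT : ∀ b : T ⊗[A] C, ∃ t : T, algebraMap T (T ⊗[A] C) t = x * b := by
    intro b
    induction b using TensorProduct.induction_on with
    | zero => exact ⟨0, by simp⟩
    | tmul y c =>
      obtain ⟨a, ha⟩ := hJ (π * c) (fun i => Ideal.mul_mem_right _ _ (hπm i))
      refine ⟨a • y, ?_⟩
      have e1 : a • (1 : C) = π * c := by rw [← ha, Algebra.algebraMap_eq_smul_one]
      rw [hxdef, Algebra.TensorProduct.right_algebraMap_apply,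
        Algebra.TensorProduct.algebraMap_apply, Algebra.TensorProduct.tmul_mul_tmul,
        Algebra.algebraMap_self_apply, one_mul, ← e1, TensorProduct.smul_tmul]
    | add b1 b2 h1 h2 =>
      obtain ⟨t1, h1⟩ := h1
      obtain ⟨t2, h2⟩ := h2
      exact ⟨t1 + t2, by rw [map_add, h1, h2, mul_add]⟩
  refine ⟨φ, ?_, ?_, ?_⟩
  · -- injectivity
    rw [injective_iff_map_eq_zero]
    intro t ht
    apply hf
    rw [map_zero]
    apply Θ.injective
    rw [map_zero]
    funext i
    have := congrFun ht (r i)
    rw [hφ, r.symm_apply_apply] at this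
    exact this
  · intro c
    funext j
    rw [hφ, ← halgk, hΘk]
  · ext f
    simp only [Set.mem_range, Set.mem_setOf_eq]
    constructor
    · rintro ⟨t, rfl⟩
      obtain ⟨a, ha⟩ := hT.res_surj t
      obtain ⟨c₀, hc₀⟩ := hresk a
      have h1 : t - algebraMap A T (algebraMap k A c₀) ∈ maximalIdeal T := by
        have h2 : algebraMap A T (a - algebraMap k A c₀) ∈ maximalIdeal T := by
          rw [← hT.map_max]
          exact Ideal.mem_map_of_mem _ hc₀
        have e : t - algebraMap A T (algebraMap k A c₀) =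
            (t - algebraMap A T a) + algebraMap A T (a - algebraMap k A c₀) := by
          rw [map_sub]; ring
        rw [e]
        exact Ideal.add_mem _ ha h2
      have h3 : algebraMap T (T ⊗[A] C) (t - algebraMap A T (algebraMap k A c₀)) ∈
          Ideal.span {x} := by
        rw [← hmT]
        exact Ideal.mem_map_of_mem _ h1
      have h4 := (hΘ _).mpr h3
      have key : ∀ j, PowerSeries.constantCoeff (φ t j) = c₀ := by
        intro j
        have h5 := h4 (r.symm j)
        rw [map_sub, ← halgk, map_sub, Pi.sub_apply, hΘk, map_sub, sub_eq_zero] at h5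
        rw [hφ, h5]
        change PowerSeries.constantCoeff (PowerSeries.C c₀) = c₀
        exact PowerSeries.constantCoeff_C c₀
      intro i j
      rw [key i, key j]
    · intro hcommon
      set c₀ := PowerSeries.constantCoeff (f i0) with hc₀
      set b := Θ.symm (fun i => f (r i)) with hb
      have h1 : b - algebraMap k (T ⊗[A] C) c₀ ∈ Ideal.span {x} := by
        rw [← hΘ]
        intro i
        rw [map_sub, Pi.sub_apply, hΘk, hb, Θ.apply_symm_apply, map_sub]
        change PowerSeries.constantCoeff (f (r i)) -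
          PowerSeries.constantCoeff (PowerSeries.C c₀) = 0
        rw [PowerSeries.constantCoeff_C, hc₀, sub_eq_zero]
        exact hcommon _ _
      obtain ⟨b', hb'⟩ := Ideal.mem_span_singleton'.mp h1
      obtain ⟨t, ht⟩ := hxT b'
      refine ⟨t + algebraMap A T (algebraMap k A c₀), ?_⟩
      funext j
      rw [hφ, map_add, ← halgk, ht, mul_comm, hb', sub_add_cancel, hb, Θ.apply_symm_apply,
        r.apply_symm_apply]

end Main

end Groth.Agent.Lib.Helper22.Multicross
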