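import Mathlib
import Groth.Agent.Lib.Helper22.GenFibA
import Groth.Agent.Lib.Helper22.GenFibB
import Groth.Agent.Lib.Helper22.MulticrossD
import Groth.Agent.Lib.Helper12.QFRegB
import Groth.Agent.Lib.helper19.QFLocFin
import Groth.Agent.Lib.helper19.CompletionLocal

/-!
# Generic formal fibres of finite extensions of regular local rings of characteristic zero:
the case of a maximal ideal (helper22)
-/

set_option autoImplicit false
set_option linter.style.haveILetI false
set_option linter.unusedSectionVars false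
universe u

namespace Groth.Agent.Lib.Helper22.GenFib

open IsLocalRing TensorProduct
open Groth.Agent.Lib.Helper12

attribute [local instance] Algebra.TensorProduct.rightAlgebra

/-- transport of a localization along a ring isomorphism -/
theorem isRegularLocalRing_localization_of_ringEquiv {D E : Type u} [CommRing D] [CommRing E]
    (ψ : D ≃+* E) (q : Ideal E) [q.IsPrime]
    (h : IsRegularLocalRing (Localization.AtPrime (q.comap (ψ : D →+* E)))) :
    IsRegularLocalRing (Localization.AtPrime q) := by
  have H : (q.comap (ψ : D →+* E)).primeCompl.map ψ.toMonoidHom = q.primeCompl := by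
    ext x
    constructor
    · rintro ⟨y, hy, rfl⟩
      exact hy
    · intro hx
      refine ⟨ψ.symm x, ?_, ψ.apply_symm_apply x⟩
      change ψ.symm x ∉ q.comap (ψ : D →+* E)
      rw [Ideal.mem_comap]
      change ψ (ψ.symm x) ∉ q
      rw [ψ.apply_symm_apply]
      exact hx
  exact IsRegularLocalRing.of_ringEquiv
    (IsLocalization.ringEquivOfRingEquiv (Localization.AtPrime (q.comap (ψ : D →+* E)))
      (Localization.AtPrime q) ψ H)

/-- regularity of a localization of a localization -/
theorem isRegularLocalRing_localization_localization {T : Type u} [CommRing T] (M : Submonoid T)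
    (qD : Ideal (Localization M)) [qD.IsPrime]
    (h : IsRegularLocalRing (Localization.AtPrime (qD.comap (algebraMap T (Localization M))))) :
    IsRegularLocalRing (Localization.AtPrime qD) :=
  IsRegularLocalRing.of_ringEquiv
    (IsLocalization.localizationLocalizationAtPrimeIsoLocalization M qD).toRingEquiv

/-- abstract transport: if `Ĉ ≅ D̂` over `C` and `D` is complete, regularity of the generic
localizations of `D` gives that of `Ĉ`. -/
theorem isRegularLocalRing_of_cpl_algEquiv (C D : Type u) [CommRing C] [CommRing D]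
    [IsLocalRing C] [IsLocalRing D] [Algebra C D]
    (e : EGA4.Cpl C ≃ₐ[C] EGA4.Cpl D) [IsAdicComplete (maximalIdeal D) D]
    (h : ∀ (qD : Ideal D) [qD.IsPrime], qD.comap (algebraMap C D) = ⊥ →
      IsRegularLocalRing (Localization.AtPrime qD))
    (q : Ideal (EGA4.Cpl C)) [q.IsPrime]
    (hq : q.comap (algebraMap C (EGA4.Cpl C)) = ⊥) :
    IsRegularLocalRing (Localization.AtPrime q) := by
  let e₂ : D ≃ₐ[D] EGA4.Cpl D := AdicCompletion.ofAlgEquiv (maximalIdeal D)
  let ψ : D ≃+* EGA4.Cpl C := e₂.toRingEquiv.trans e.symm.toRingEquiv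
  have hψ : ∀ x : C, ψ (algebraMap C D x) = algebraMap C (EGA4.Cpl C) x := by
    intro x
    change e.symm (e₂ (algebraMap C D x)) = _
    have h1 : e₂ (algebraMap C D x) = algebraMap C (EGA4.Cpl D) x := by
      rw [AdicCompletion.ofAlgEquiv_apply]
      rfl
    rw [h1, e.symm.commutes]
  apply isRegularLocalRing_localization_of_ringEquiv ψ q
  apply h
  rw [← hq]
  ext x
  rw [Ideal.mem_comap, Ideal.mem_comap, Ideal.mem_comap]
  change ψ (algebraMap C D x) ∈ q ↔ _
  rw [hψ]

variable (R : Type u) [CommRing R] [IsRegularLocalRing R] [CharZero R]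
  (B : Type u) [CommRing B] [IsDomain B] [Algebra R B] [Module.Finite R B]

local notation "Rh" => AdicCompletion (maximalIdeal R) R

theorem isRegularLocalRing_localization_cpl_maximal
    (hinj : Function.Injective (algebraMap R B)) (n : Ideal B) [hn : n.IsMaximal]
    (q : Ideal (EGA4.Cpl (Localization.AtPrime n))) [q.IsPrime]
    (hq : q.comap (algebraMap (Localization.AtPrime n) (EGA4.Cpl (Localization.AtPrime n))) = ⊥) :
    IsRegularLocalRing (Localization.AtPrime q) := by
  classical
  haveI : IsDomain R := (hinj.isDomain (algebraMap R B))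
  have hFL : AUn.FormalLike R Rh := AUn.FormalLike.cpl R
  haveI : IsNoetherianRing Rh := hFL.noeth
  haveI : Module.Flat R Rh := hFL.flat
  haveI : IsLocalHom (algebraMap R Rh) := ⟨fun a ha => by
    by_contra hna
    have h1 : algebraMap R Rh a ∈ maximalIdeal Rh := by
      rw [← hFL.map_max]
      exact Ideal.mem_map_of_mem _ ((mem_maximalIdeal a).mpr hna)
    exact (mem_maximalIdeal _).mp h1 ha⟩
  haveI : Module.FaithfullyFlat R Rh := Module.FaithfullyFlat.of_flat_of_isLocalHom
  haveI : Module.FaithfullyFlat B (Rh ⊗[R] B) :=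
    Groth.Agent.Lib.Helper22.BranchCount.faithfullyFlat_right R Rh B
  haveI : IsNoetherianRing (Rh ⊗[R] B) := IsNoetherianRing.of_finite Rh _
  haveI : IsNoetherianRing B := IsNoetherianRing.of_finite R B
  haveI : Algebra.IsIntegral R B := inferInstance
  haveI : IsRegularLocalRing Rh :=
    (Groth.Agent.Lib.helper19.isRegularLocalRing_adicCompletion_iff_of_isNoetherianRing R).1
      inferInstance
  haveI : IsRegularRing Rh := isRegularRing_of_isRegularLocalRing Rh
  have hgen : ∀ b : Rh ⊗[R] B, ∃ c : B, b - algebraMap B (Rh ⊗[R] B) c ∈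
      (maximalIdeal R).map (algebraMap R (Rh ⊗[R] B)) :=
    Groth.Agent.Lib.Helper22.Multicross.hgen_of_formalLike R Rh B hFL
  -- the maximal ideal above `n`
  obtain ⟨𝔑, h𝔑max, h𝔑n⟩ :=
    (Groth.Agent.Lib.Helper22.BranchCount.bijOn_comap_maximal (A := R) (C := B)
      (B := Rh ⊗[R] B) hgen Rh).surjOn (show n ∈ {m' : Ideal B | m'.IsMaximal} from hn)
  haveI : 𝔑.IsMaximal := h𝔑max
  have h𝔑n' : 𝔑.comap (algebraMap B (Rh ⊗[R] B)) = n := h𝔑n
  have hmap : n.map (algebraMap B (Rh ⊗[R] B)) = 𝔑 := by
    rw [← h𝔑n']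
    exact Groth.Agent.Lib.Helper22.BranchCount.map_comap_eq (A := R) hgen Rh 𝔑
  haveI : 𝔑.LiesOver n := ⟨h𝔑n'.symm⟩
  have hdense : ∀ t : Rh ⊗[R] B, ∃ c : B, t - algebraMap B (Rh ⊗[R] B) c ∈ 𝔑 := fun t => by
    obtain ⟨c, hc⟩ := hgen t
    exact ⟨c, Groth.Agent.Lib.Helper22.BranchCount.map_maximalIdeal_le_of_isMaximal
      (A := R) Rh 𝔑 hc⟩
  letI := Localization.AtPrime.algebraOfLiesOver n 𝔑
  obtain ⟨e⟩ := nonempty_cpl_algEquiv_localization n 𝔑 hmap hdense
  haveI : IsNoetherianRing (Localization.AtPrime 𝔑) := IsLocalization.isNoetherianRing 𝔑.primeCompl (Localization.AtPrime 𝔑) inferInstance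
  -- `(Localization.AtPrime 𝔑)` is finite over `Rh`, hence complete
  haveI : 𝔑.LiesOver (maximalIdeal Rh) := ⟨by
    have hmax : (𝔑.comap (algebraMap Rh (Rh ⊗[R] B))).IsMaximal :=
      Ideal.isMaximal_comap_of_isIntegral_of_isMaximal 𝔑
    exact (IsLocalRing.eq_maximalIdeal hmax).symm⟩
  haveI : Module.Finite Rh (Localization.AtPrime 𝔑) :=
    Groth.Agent.Lib.Helper19.QFLocFin.finite_localization Rh (Rh ⊗[R] B) 𝔑
  haveI hcomplD := ComplIntClosure.isAdicComplete_of_finite_local Rh (Localization.AtPrime 𝔑)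
  refine isRegularLocalRing_of_cpl_algEquiv (Localization.AtPrime n) (Localization.AtPrime 𝔑) e
    ?_ q hq
  intro qD _ hqDC
  -- the prime of `Rh ⊗ B`
  apply isRegularLocalRing_localization_localization 𝔑.primeCompl qD
  obtain ⟨g, hg0, hét⟩ := exists_etale_away R B hinj
  haveI := hét
  refine isRegularLocalRing_tensor_of_etale_away R Rh B g _ ?_
  intro hmem
  rw [Ideal.mem_comap] at hmem
  have h1 : algebraMap (Rh ⊗[R] B) (Localization.AtPrime 𝔑) ((1 : Rh) ⊗ₜ[R] g) =
      algebraMap (Localization.AtPrime n) (Localization.AtPrime 𝔑)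
        (algebraMap B (Localization.AtPrime n) g) := by
    have h0 : (1 : Rh) ⊗ₜ[R] g = algebraMap B (Rh ⊗[R] B) g :=
      (Algebra.TensorProduct.right_algebraMap_apply g).symm
    rw [h0]
    exact (Localization.localRingHom_to_map n 𝔑 (algebraMap B (Rh ⊗[R] B))
      Ideal.LiesOver.over g).symm
  have h2 : algebraMap B (Localization.AtPrime n) g ∈
      qD.comap (algebraMap (Localization.AtPrime n) (Localization.AtPrime 𝔑)) := by
    rw [Ideal.mem_comap, ← h1]
    exact hmem
  rw [hqDC, Ideal.mem_bot] at h2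
  have hinjC : Function.Injective (algebraMap B (Localization.AtPrime n)) :=
    IsLocalization.injective (Localization.AtPrime n) n.primeCompl_le_nonZeroDivisors
  exact hg0 (hinjC (h2.trans (map_zero _).symm))

end Groth.Agent.Lib.Helper22.GenFib
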