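import Mathlib
import Groth.Agent.Lib.Helper22.GRingF
import Groth.Agent.Lib.Helper22.GenFibC

/-!
# The completion of a localization of a finite algebra, as a localization of the base change of
the completion of the base (helper22)
-/

set_option autoImplicit false
set_option linter.style.haveILetI false
set_option linter.unusedSectionVars false
universe u

namespace Groth.Agent.Lib.Helper22.GRing

open TensorProduct IsLocalRing
open Groth.Agent.Lib.Helper12

attribute [local instance] Algebra.TensorProduct.rightAlgebra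

section Local

variable (R : Type u) [CommRing R] [IsLocalRing R] [IsNoetherianRing R]
  (B : Type u) [CommRing B] [Algebra R B] [Module.Finite R B]

local notation "Rh" => AdicCompletion (maximalIdeal R) R

/-- the maximal ideal of `R̂ ⊗ B` above a maximal ideal of the finite `R`-algebra `B`, with the
properties needed for the comparison of completions. -/
theorem exists_maximal_over (n : Ideal B) [hn : n.IsMaximal] :
    ∃ (𝔑 : Ideal (Rh ⊗[R] B)) (_ : 𝔑.IsMaximal),
      𝔑.comap (algebraMap B (Rh ⊗[R] B)) = n ∧ n.map (algebraMap B (Rh ⊗[R] B)) = 𝔑 ∧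
      (∀ t : Rh ⊗[R] B, ∃ c : B, t - algebraMap B (Rh ⊗[R] B) c ∈ 𝔑) ∧
      IsNoetherianRing (Rh ⊗[R] B) ∧ Module.Flat B (Rh ⊗[R] B) ∧
      @IsAdicComplete (Localization.AtPrime 𝔑) _ (maximalIdeal (Localization.AtPrime 𝔑))
        (Localization.AtPrime 𝔑) _ _ := by
  classical
  have hFL : AUn.FormalLike R Rh := AUn.FormalLike.cpl R
  haveI : IsNoetherianRing Rh := hFL.noeth
  haveI : Module.Flat R Rh := hFL.flat
  haveI : IsLocalHom (algebraMap R Rh) := ⟨fun a ha => by
    by_contra hna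
    have h1 : algebraMap R Rh a ∈ maximalIdeal Rh := by
      rw [← hFL.map_max]
      exact Ideal.mem_map_of_mem _ ((mem_maximalIdeal a).mpr hna)
    exact (mem_maximalIdeal _).mp h1 ha⟩
  haveI : Module.FaithfullyFlat R Rh := Module.FaithfullyFlat.of_flat_of_isLocalHom
  haveI : Module.FaithfullyFlat B (Rh ⊗[R] B) :=
    Groth.Agent.Lib.Helper22.BranchCount.faithfullyFlat_right R Rh B
  haveI : IsNoetherianRing (Rh ⊗[R] B) := IsNoetherianRing.of_finite Rh _
  haveI : IsNoetherianRing B := IsNoetherianRing.of_finite R B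
  haveI : Algebra.IsIntegral R B := inferInstance
  have hgen : ∀ b : Rh ⊗[R] B, ∃ c : B, b - algebraMap B (Rh ⊗[R] B) c ∈
      (maximalIdeal R).map (algebraMap R (Rh ⊗[R] B)) :=
    Groth.Agent.Lib.Helper22.Multicross.hgen_of_formalLike R Rh B hFL
  obtain ⟨𝔑, h𝔑max, h𝔑n⟩ :=
    (Groth.Agent.Lib.Helper22.BranchCount.bijOn_comap_maximal (A := R) (C := B)
      (B := Rh ⊗[R] B) hgen Rh).surjOn (show n ∈ {m' : Ideal B | m'.IsMaximal} from hn)
  haveI : 𝔑.IsMaximal := h𝔑max
  have h𝔑n' : 𝔑.comap (algebraMap B (Rh ⊗[R] B)) = n := h𝔑n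
  have hmap : n.map (algebraMap B (Rh ⊗[R] B)) = 𝔑 := by
    rw [← h𝔑n']
    exact Groth.Agent.Lib.Helper22.BranchCount.map_comap_eq (A := R) hgen Rh 𝔑
  have hdense : ∀ t : Rh ⊗[R] B, ∃ c : B, t - algebraMap B (Rh ⊗[R] B) c ∈ 𝔑 := fun t => by
    obtain ⟨c, hc⟩ := hgen t
    exact ⟨c, Groth.Agent.Lib.Helper22.BranchCount.map_maximalIdeal_le_of_isMaximal
      (A := R) Rh 𝔑 hc⟩
  haveI : IsNoetherianRing (Localization.AtPrime 𝔑) :=
    IsLocalization.isNoetherianRing 𝔑.primeCompl (Localization.AtPrime 𝔑) inferInstance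
  haveI : 𝔑.LiesOver (maximalIdeal Rh) := ⟨by
    have hmax : (𝔑.comap (algebraMap Rh (Rh ⊗[R] B))).IsMaximal :=
      Ideal.isMaximal_comap_of_isIntegral_of_isMaximal 𝔑
    exact (IsLocalRing.eq_maximalIdeal hmax).symm⟩
  haveI : Module.Finite Rh (Localization.AtPrime 𝔑) :=
    Groth.Agent.Lib.Helper19.QFLocFin.finite_localization Rh (Rh ⊗[R] B) 𝔑
  have hcomplD := ComplIntClosure.isAdicComplete_of_finite_local Rh (Localization.AtPrime 𝔑)
  exact ⟨𝔑, h𝔑max, h𝔑n', hmap, hdense, inferInstance, inferInstance, hcomplD⟩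

end Local

end Groth.Agent.Lib.Helper22.GRing
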