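import Mathlib
import Groth.Agent.Lib.Helper22.GRingG

/-!
# The completion of `A_P` as a localization of `R̂' ⊗[R'] B'` (helper22)

`B'` is a localization of `A` which is finite over the local ring `R'`, and `P B'` is maximal.
-/

set_option autoImplicit false
set_option linter.style.haveILetI false
set_option linter.unusedSectionVars false
universe u

namespace Groth.Agent.Lib.Helper22.GRing

open TensorProduct IsLocalRing

attribute [local instance] Algebra.TensorProduct.rightAlgebra

section Model

variable (A : Type u) [CommRing A] [IsNoetherianRing A]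
  (R' : Type u) [CommRing R'] [IsLocalRing R'] [IsNoetherianRing R']
  (B' : Type u) [CommRing B'] [Algebra R' B'] [Module.Finite R' B'] [Algebra A B']

/-- the `A`-algebra structure on `R̂' ⊗[R'] B'` -/
@[reducible] noncomputable def algT : Algebra A (AdicCompletion (maximalIdeal R') R' ⊗[R'] B') :=
  ((algebraMap B' (AdicCompletion (maximalIdeal R') R' ⊗[R'] B')).comp (algebraMap A B')).toAlgebra

theorem exists_model (S : Submonoid A) [IsLocalization S B'] (P : Ideal A) [P.IsPrime]
    (hdisj : Disjoint (S : Set A) (P : Set A)) (hmax : (P.map (algebraMap A B')).IsMaximal) :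
    letI := algT A R' B'
    ∃ (𝔑 : Ideal (AdicCompletion (maximalIdeal R') R' ⊗[R'] B')) (_ : 𝔑.IsMaximal),
      Nonempty (EGA4.Cpl (Localization.AtPrime P) ≃ₐ[A] Localization.AtPrime 𝔑) := by
  classical
  letI := algT A R' B'
  have hcomap : (P.map (algebraMap A B')).comap (algebraMap A B') = P :=
    IsLocalization.under_map_of_isPrime_disjoint S _ inferInstance hdisj
  haveI := hmax
  obtain ⟨𝔑, h𝔑max, h𝔑n, hmap, hdense, hNT, hflatT, hcomplD⟩ :=
    exists_maximal_over R' B' (P.map (algebraMap A B'))
  haveI := h𝔑max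
  haveI := hNT
  haveI := hflatT
  haveI := hcomplD
  haveI : IsScalarTower A B' (AdicCompletion (maximalIdeal R') R' ⊗[R'] B') :=
    IsScalarTower.of_algebraMap_eq' rfl
  haveI : Module.Flat A B' := IsLocalization.flat B' S
  haveI : Module.Flat A (AdicCompletion (maximalIdeal R') R' ⊗[R'] B') :=
    Module.Flat.trans A B' _
  have h𝔑P : 𝔑.comap (algebraMap A (AdicCompletion (maximalIdeal R') R' ⊗[R'] B')) = P := by
    rw [IsScalarTower.algebraMap_eq A B' (AdicCompletion (maximalIdeal R') R' ⊗[R'] B'),
      ← Ideal.comap_comap, h𝔑n, hcomap]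
  haveI : 𝔑.LiesOver P := ⟨h𝔑P.symm⟩
  have hmapP : P.map (algebraMap A (AdicCompletion (maximalIdeal R') R' ⊗[R'] B')) = 𝔑 := by
    rw [IsScalarTower.algebraMap_eq A B' (AdicCompletion (maximalIdeal R') R' ⊗[R'] B'),
      ← Ideal.map_map, hmap]
  have hdenseP : ∀ t : AdicCompletion (maximalIdeal R') R' ⊗[R'] B', ∃ c s : A, s ∉ P ∧
      algebraMap A _ s * t - algebraMap A _ c ∈ 𝔑 := by
    intro t
    obtain ⟨b, hb⟩ := hdense t
    obtain ⟨a, s, rfl⟩ := IsLocalization.exists_mk'_eq S b
    refine ⟨a, s, fun hs => Set.disjoint_left.mp hdisj s.2 hs, ?_⟩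
    have h1 : algebraMap A (AdicCompletion (maximalIdeal R') R' ⊗[R'] B') s * t -
        algebraMap A _ a = algebraMap A _ s *
          (t - algebraMap B' (AdicCompletion (maximalIdeal R') R' ⊗[R'] B')
            (IsLocalization.mk' B' a s)) := by
      rw [mul_sub, IsScalarTower.algebraMap_apply A B' (AdicCompletion (maximalIdeal R') R' ⊗[R'] B'),
        IsScalarTower.algebraMap_apply A B' (AdicCompletion (maximalIdeal R') R' ⊗[R'] B'),
        ← map_mul, mul_comm (algebraMap A B' s), IsLocalization.mk'_spec]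
    rw [h1]
    exact 𝔑.mul_mem_left _ hb
  exact ⟨𝔑, h𝔑max,
    Groth.Agent.Lib.Helper22.GenFib.nonempty_cpl_algEquiv_localization_complete P 𝔑 hmapP hdenseP⟩

end Model

end Groth.Agent.Lib.Helper22.GRing
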