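import Mathlib
import Groth.Agent.Lib.Helper22.GRingH

/-!
# Regularity of `L ⊗[A] (A_P)^`: assembling (helper22)
-/

set_option autoImplicit false
set_option linter.style.haveILetI false
set_option linter.unusedSectionVars false
universe u

namespace Groth.Agent.Lib.Helper22.GRing

open TensorProduct IsLocalRing

attribute [local instance] Algebra.TensorProduct.rightAlgebra

/-- abstract assembling: if the completion of `A_P` is a localization of an `A`-algebra `T₀` and
`L ⊗[A] T₀` is regular, then `L ⊗[A] (A_P)^` is regular. -/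
theorem isRegularRing_tensor_of_model (A : Type u) [CommRing A] (P : Ideal A) [P.IsPrime]
    (T₀ : Type u) [CommRing T₀] [Algebra A T₀] (𝔑 : Ideal T₀) [𝔑.IsPrime]
    (e : EGA4.Cpl (Localization.AtPrime P) ≃ₐ[A] Localization.AtPrime 𝔑)
    (L : Type u) [CommRing L] [Algebra A L] (hreg : IsRegularRing (L ⊗[A] T₀)) :
    IsRegularRing (L ⊗[A] EGA4.Cpl (Localization.AtPrime P)) := by
  let M' : Submonoid (L ⊗[A] T₀) :=
    𝔑.primeCompl.map (Algebra.TensorProduct.includeRight (R := A) (A := L))
  haveI : IsRegularRing (Localization M') :=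
    Groth.Agent.Lib.Helper5.RegularProd.isRegularRing_of_isLocalization M' _
  let e₁ := IsLocalization.tensorProductEquivOfMapIncludeRight A L 𝔑.primeCompl
    (Localization.AtPrime 𝔑) (Localization M')
  let e₂ : L ⊗[A] EGA4.Cpl (Localization.AtPrime P) ≃ₐ[A] L ⊗[A] Localization.AtPrime 𝔑 :=
    Algebra.TensorProduct.congr (AlgEquiv.refl (R := A) (A₁ := L)) e
  exact IsRegularRing.of_ringEquiv (e₂.toRingEquiv.trans e₁.toRingEquiv).symm

section Model

variable (A : Type u) [CommRing A]
  (R' : Type u) [CommRing R'] [IsLocalRing R']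
  (B' : Type u) [CommRing B'] [Algebra R' B'] [Algebra A B']

/-- the base change of the model to a field over `B'` -/
theorem nonempty_tensor_model_equiv (S : Submonoid A) [IsLocalization S B']
    (L : Type u) [CommRing L] [Algebra A L] [Algebra B' L] [IsScalarTower A B' L]
    [Algebra R' L] [IsScalarTower R' B' L] :
    letI := algT A R' B'
    Nonempty (L ⊗[A] (AdicCompletion (maximalIdeal R') R' ⊗[R'] B') ≃+*
      L ⊗[R'] AdicCompletion (maximalIdeal R') R') := by
  letI := algT A R' B'
  haveI : IsScalarTower A B' (AdicCompletion (maximalIdeal R') R' ⊗[R'] B') :=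
    IsScalarTower.of_algebraMap_eq' rfl
  let e₁ : L ⊗[B'] (AdicCompletion (maximalIdeal R') R' ⊗[R'] B') ≃ₐ[B']
      L ⊗[A] (AdicCompletion (maximalIdeal R') R' ⊗[R'] B') :=
    IsLocalization.algebraTensorEquiv S B' L _
  let e₂ : B' ⊗[R'] AdicCompletion (maximalIdeal R') R' ≃ₐ[B']
      AdicCompletion (maximalIdeal R') R' ⊗[R'] B' :=
    Algebra.TensorProduct.commRight R' B' (AdicCompletion (maximalIdeal R') R')
  let e₃ : L ⊗[B'] (B' ⊗[R'] AdicCompletion (maximalIdeal R') R') ≃ₐ[B']
      L ⊗[B'] (AdicCompletion (maximalIdeal R') R' ⊗[R'] B') :=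
    Algebra.TensorProduct.congr (AlgEquiv.refl (R := B') (A₁ := L)) e₂
  let e₄ : L ⊗[B'] (B' ⊗[R'] AdicCompletion (maximalIdeal R') R') ≃ₐ[L]
      L ⊗[R'] AdicCompletion (maximalIdeal R') R' :=
    Algebra.TensorProduct.cancelBaseChange R' B' L L (AdicCompletion (maximalIdeal R') R')
  exact ⟨(e₁.symm.toRingEquiv.trans e₃.symm.toRingEquiv).trans e₄.toRingEquiv⟩

end Model

end Groth.Agent.Lib.Helper22.GRing
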