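import Mathlib
import Groth.Agent.Lib.Helper22.GRingI

/-!
# Regularity of `L ⊗[A] (A_P)^` from regularity of `(A₀_p)^ ⊗[A₀] L`, for `A` finite over `A₀`
(helper22)
-/

set_option autoImplicit false
set_option linter.style.haveILetI false
set_option linter.unusedSectionVars false
universe u

namespace Groth.Agent.Lib.Helper22.GRing

open TensorProduct IsLocalRing

attribute [local instance] Algebra.TensorProduct.rightAlgebra

variable (A₀ : Type u) [CommRing A₀] [IsNoetherianRing A₀]
  (A : Type u) [CommRing A] [Algebra A₀ A] [Module.Finite A₀ A] (P : Ideal A) [P.IsPrime]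

local notation "𝔭" => Ideal.comap (algebraMap A₀ A) P
local notation "R'" => Localization.AtPrime (Ideal.comap (algebraMap A₀ A) P)
local notation "SS" => Algebra.algebraMapSubmonoid A (Ideal.primeCompl (Ideal.comap (algebraMap A₀ A) P))
local notation "B'" =>
  Localization (Algebra.algebraMapSubmonoid A (Ideal.primeCompl (Ideal.comap (algebraMap A₀ A) P)))

theorem isMaximal_map_localization :
    (P.map (algebraMap A B')).IsMaximal := by
  have hdisj : Disjoint (SS : Set A) (P : Set A) := by
    rw [Set.disjoint_left]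
    rintro _ ⟨a, ha, rfl⟩ hmem
    exact ha hmem
  haveI hn'prime : (P.map (algebraMap A B')).IsPrime :=
    IsLocalization.isPrime_of_isPrime_disjoint SS _ P inferInstance hdisj
  have hcomap : (P.map (algebraMap A B')).comap (algebraMap A B') = P :=
    IsLocalization.under_map_of_isPrime_disjoint SS _ inferInstance hdisj
  apply Ideal.isMaximal_of_isIntegral_of_isMaximal_comap (R := R') (P.map (algebraMap A B'))
  have hle : maximalIdeal R' ≤ (P.map (algebraMap A B')).comap (algebraMap R' B') := by
    intro x hx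
    obtain ⟨a, s, rfl⟩ := IsLocalization.exists_mk'_eq (Ideal.primeCompl 𝔭) x
    rw [IsLocalization.AtPrime.mk'_mem_maximal_iff R' 𝔭] at hx
    rw [Ideal.mem_comap]
    have h1 : algebraMap R' B' (IsLocalization.mk' R' a s) *
        algebraMap R' B' (algebraMap A₀ R' s) = algebraMap A B' (algebraMap A₀ A a) := by
      rw [← map_mul, IsLocalization.mk'_spec, ← IsScalarTower.algebraMap_apply,
        IsScalarTower.algebraMap_apply A₀ A]
    have h2 : algebraMap A B' (algebraMap A₀ A a) ∈ P.map (algebraMap A B') :=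
      Ideal.mem_map_of_mem _ hx
    rw [← h1] at h2
    rcases hn'prime.mem_or_mem h2 with h3 | h3
    · exact h3
    · exfalso
      rw [← IsScalarTower.algebraMap_apply, IsScalarTower.algebraMap_apply A₀ A] at h3
      have h4 : algebraMap A₀ A s ∈ (P.map (algebraMap A B')).comap (algebraMap A B') := h3
      rw [hcomap] at h4
      exact s.2 h4
  have hne : (P.map (algebraMap A B')).comap (algebraMap R' B') ≠ ⊤ :=
    (Ideal.comap_isPrime _ _).ne_top
  rw [← (IsLocalRing.maximalIdeal.isMaximal _).eq_of_le hne hle]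
  infer_instance

/-- the comparison theorem in tensor form -/
theorem isRegularRing_tensor_cpl
    (L : Type u) [Field L] [Algebra A L] [Algebra A₀ L] [IsScalarTower A₀ A L]
    (hL : ∀ s ∈ (P.comap (algebraMap A₀ A)).primeCompl, algebraMap A₀ L s ≠ 0)
    (hreg : IsRegularRing
      (EGA4.Cpl (Localization.AtPrime (P.comap (algebraMap A₀ A))) ⊗[A₀] L)) :
    IsRegularRing (L ⊗[A] EGA4.Cpl (Localization.AtPrime P)) := by
  classical
  haveI : IsNoetherianRing A := IsNoetherianRing.of_finite A₀ A
  haveI : IsNoetherianRing R' := IsLocalization.isNoetherianRing (Ideal.primeCompl 𝔭) R' inferInstance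
  have hdisj : Disjoint (SS : Set A) (P : Set A) := by
    rw [Set.disjoint_left]
    rintro _ ⟨a, ha, rfl⟩ hmem
    exact ha hmem
  have hmax := isMaximal_map_localization A₀ A P
  letI := algT A R' B'
  obtain ⟨𝔑, h𝔑max, ⟨e⟩⟩ := exists_model A R' B' SS P hdisj hmax
  haveI := h𝔑max
  -- the algebra structures on `L`
  have hS : ∀ y : SS, IsUnit (algebraMap A L y) := by
    rintro ⟨_, s, hs, rfl⟩
    rw [← IsScalarTower.algebraMap_apply]
    exact (hL s hs).isUnit
  letI algB'L : Algebra B' L := (IsLocalization.lift (M := SS) (g := algebraMap A L) hS).toAlgebra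
  haveI : IsScalarTower A B' L := IsScalarTower.of_algebraMap_eq (fun a => by
    rw [RingHom.algebraMap_toAlgebra, IsLocalization.lift_eq])
  letI algR'L : Algebra R' L := ((algebraMap B' L).comp (algebraMap R' B')).toAlgebra
  haveI : IsScalarTower R' B' L := IsScalarTower.of_algebraMap_eq' rfl
  haveI : IsScalarTower A₀ R' L := IsScalarTower.of_algebraMap_eq (fun a => by
    change _ = algebraMap B' L (algebraMap R' B' (algebraMap A₀ R' a))
    rw [← IsScalarTower.algebraMap_apply A₀ R' B', IsScalarTower.algebraMap_apply A₀ A B',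
      ← IsScalarTower.algebraMap_apply A B' L, ← IsScalarTower.algebraMap_apply A₀ A L])
  obtain ⟨ε⟩ := nonempty_tensor_model_equiv A R' B' SS L
  let e₅ : L ⊗[R'] EGA4.Cpl R' ≃ₐ[R'] L ⊗[A₀] EGA4.Cpl R' :=
    IsLocalization.algebraTensorEquiv (Ideal.primeCompl 𝔭) R' L (EGA4.Cpl R')
  let e₆ : L ⊗[A₀] EGA4.Cpl R' ≃ₐ[A₀] EGA4.Cpl R' ⊗[A₀] L :=
    Algebra.TensorProduct.comm A₀ L (EGA4.Cpl R')
  exact isRegularRing_tensor_of_model A P _ 𝔑 e L
    (IsRegularRing.of_ringEquiv ((ε.trans e₅.toRingEquiv).trans e₆.toRingEquiv).symm)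

end Groth.Agent.Lib.Helper22.GRing
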