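import Mathlib
import Groth.Agent.Lib.Helper22.GRingJ
import Groth.Agent.Lib.Helper12.CohenFinE

/-!
# Complete local domains: the base changes `L ⊗[A] (A_P)^` to finite extensions `L` of the
fraction field are regular (helper22)
-/

set_option autoImplicit false
set_option linter.style.haveILetI false
set_option linter.unusedSectionVars false
universe u

namespace Groth.Agent.Lib.Helper22.GRing

open TensorProduct IsLocalRing

/-- finiteness over the fraction field of a finite extension -/
theorem finite_fractionRing_of_finite (A₀ A L : Type u) [CommRing A₀] [IsDomain A₀] [CommRing A]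
    [IsDomain A] [Algebra A₀ A] [Module.Finite A₀ A] [FaithfulSMul A₀ A]
    [Field L] [Algebra A L] [Algebra A₀ L] [IsScalarTower A₀ A L]
    [Algebra (FractionRing A) L] [IsScalarTower A (FractionRing A) L]
    [Module.Finite (FractionRing A) L]
    [Algebra (FractionRing A₀) L] [IsScalarTower A₀ (FractionRing A₀) L] :
    Module.Finite (FractionRing A₀) L := by
  letI : Algebra (FractionRing A₀) (FractionRing A) := FractionRing.liftAlgebra A₀ (FractionRing A)
  haveI : IsScalarTower A₀ (FractionRing A₀) (FractionRing A) :=
    FractionRing.isScalarTower_liftAlgebra A₀ _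
  haveI : Module.IsTorsionFree A₀ A := inferInstance
  haveI : FiniteDimensional (FractionRing A₀) (FractionRing A) := inferInstance
  haveI : IsScalarTower (FractionRing A₀) (FractionRing A) L := by
    apply IsScalarTower.of_algebraMap_eq'
    apply IsLocalization.ringHom_ext (nonZeroDivisors A₀)
    ext a
    simp only [RingHom.comp_apply]
    rw [← IsScalarTower.algebraMap_apply A₀ (FractionRing A₀) L,
      ← IsScalarTower.algebraMap_apply A₀ (FractionRing A₀) (FractionRing A),
      IsScalarTower.algebraMap_apply A₀ A (FractionRing A),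
      ← IsScalarTower.algebraMap_apply A (FractionRing A) L,
      ← IsScalarTower.algebraMap_apply A₀ A L]
  exact Module.Finite.trans (FractionRing A) L

/-- **Generic formal fibres of the local rings of a complete local domain are geometrically
regular** (tensor form). -/
theorem isRegularRing_tensor_cpl_of_complete (A : Type u) [CommRing A] [IsDomain A]
    [IsLocalRing A] [IsNoetherianRing A] [IsAdicComplete (maximalIdeal A) A]
    (P : Ideal A) [P.IsPrime] (L : Type u) [Field L] [Algebra A L]
    (hinj : Function.Injective (algebraMap A L))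
    [Algebra (FractionRing A) L] [IsScalarTower A (FractionRing A) L]
    [Module.Finite (FractionRing A) L] :
    IsRegularRing (L ⊗[A] EGA4.Cpl (Localization.AtPrime P)) := by
  obtain ⟨Λ, _, n, f, hΛ, hfinj, hffin, -⟩ :=
    Groth.Agent.Lib.Helper12.CohenFin.exists_finite_injective_mvPowerSeries A
  letI algA₀A : Algebra (MvPowerSeries (Fin n) Λ) A := f.toAlgebra
  haveI : Module.Finite (MvPowerSeries (Fin n) Λ) A := hffin
  haveI : IsDomain (MvPowerSeries (Fin n) Λ) := hfinj.isDomain f
  haveI : FaithfulSMul (MvPowerSeries (Fin n) Λ) A :=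
    (faithfulSMul_iff_algebraMap_injective _ _).mpr hfinj
  letI algA₀L : Algebra (MvPowerSeries (Fin n) Λ) L := ((algebraMap A L).comp f).toAlgebra
  haveI : IsScalarTower (MvPowerSeries (Fin n) Λ) A L := IsScalarTower.of_algebraMap_eq' rfl
  have hA₀L : Function.Injective (algebraMap (MvPowerSeries (Fin n) Λ) L) :=
    hinj.comp hfinj
  haveI : FaithfulSMul (MvPowerSeries (Fin n) Λ) L :=
    (faithfulSMul_iff_algebraMap_injective _ _).mpr hA₀L
  letI : Algebra (FractionRing (MvPowerSeries (Fin n) Λ)) L :=
    FractionRing.liftAlgebra (MvPowerSeries (Fin n) Λ) L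
  haveI : IsScalarTower (MvPowerSeries (Fin n) Λ) (FractionRing (MvPowerSeries (Fin n) Λ)) L :=
    FractionRing.isScalarTower_liftAlgebra _ _
  haveI : Module.Finite (FractionRing (MvPowerSeries (Fin n) Λ)) L :=
    finite_fractionRing_of_finite (MvPowerSeries (Fin n) Λ) A L
  haveI hrl : IsRegularLocalRing (MvPowerSeries (Fin n) Λ) :=
    J0Root.isRegularLocalRing_mvPowerSeries Λ hΛ n
  haveI : IsNoetherianRing (MvPowerSeries (Fin n) Λ) := inferInstance
  have hQG := qg_mvPowerSeries Λ hΛ n (P.comap (algebraMap (MvPowerSeries (Fin n) Λ) A)) L hA₀L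
  have hreg := hQG.isRegularRing_tensor
  refine isRegularRing_tensor_cpl (MvPowerSeries (Fin n) Λ) A P L ?_ hreg
  intro s hs h0
  apply hs
  have : s = 0 := hA₀L (h0.trans (map_zero _).symm)
  rw [this]
  exact zero_mem _

end Groth.Agent.Lib.Helper22.GRing
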