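import Mathlib
import Groth.Agent.Lib.Helper5.AdicIso
import Groth.Agent.Lib.Helper12.ComplIntClosure

/-!
# Base change of a complete local algebra along a finite local homomorphism (helper22)
-/

set_option autoImplicit false
set_option linter.style.haveILetI false
set_option linter.unusedSectionVars false
universe u

namespace Groth.Agent.Lib.Helper22.GRing

open TensorProduct IsLocalRing
open Groth.Agent.Lib.Helper5 Groth.Agent.Lib.Helper12

/-- adic formal smoothness transfers along a bijective change of base ring -/
theorem adicSmooth_of_bijective (R R' S : Type u) [CommRing R] [CommRing R'] [CommRing S]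
    [Algebra R R'] [Algebra R S] [Algebra R' S] [IsScalarTower R R' S]
    (hbij : Function.Bijective (algebraMap R R')) (𝔫 : Ideal S)
    (h : CAlgX.IsAdicFormallySmooth R' S 𝔫) : CAlgX.IsAdicFormallySmooth R S 𝔫 := by
  rw [AdicIso.isAdicFormallySmooth_iff_liftProp] at h ⊢
  intro E _ J hJ g ψ hcomm hk
  let e := RingEquiv.ofBijective (algebraMap R R') hbij
  have he : ∀ r, e.symm (algebraMap R R' r) = r := fun r => e.symm_apply_apply r
  obtain ⟨χ, hχ1, hχ2⟩ := h E J hJ (g.comp e.symm.toRingHom) ψ (by
    ext r'
    obtain ⟨r, rfl⟩ := hbij.2 r'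
    have := RingHom.congr_fun hcomm r
    simp only [RingHom.comp_apply] at this ⊢
    rw [← IsScalarTower.algebraMap_apply R R' S, this]
    congr 1
    exact (congrArg g (he r)).symm) hk
  refine ⟨χ, ?_, hχ2⟩
  ext r
  have := RingHom.congr_fun hχ1 (algebraMap R R' r)
  simp only [RingHom.comp_apply] at this ⊢
  rw [IsScalarTower.algebraMap_apply R R' S, this]
  exact congrArg g (he r)

/-- a ring mapping onto a local ring with kernel in every maximal ideal is local -/
theorem isLocalRing_of_surjective_of_ker_le {R F : Type*} [CommRing R] [CommRing F]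
    [IsLocalRing F] (π : R →+* F) (hπ : Function.Surjective π)
    (hker : ∀ M : Ideal R, M.IsMaximal → RingHom.ker π ≤ M) : IsLocalRing R := by
  apply IsLocalRing.of_unique_max_ideal
  refine ⟨(maximalIdeal F).comap π, Ideal.comap_isMaximal_of_surjective π hπ, ?_⟩
  intro M hM
  have h1 : (M.map π).comap π = M := by
    rw [Ideal.comap_map_of_surjective π hπ]
    apply le_antisymm
    · apply sup_le le_rfl
      rw [← RingHom.ker_eq_comap_bot]
      exact hker M hM
    · exact le_sup_left
  rcases Ideal.map_eq_top_or_isMaximal_of_surjective π hπ hM with h | h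
  · exfalso
    rw [h, Ideal.comap_top] at h1
    exact hM.ne_top h1.symm
  · rw [← h1, IsLocalRing.eq_maximalIdeal h]

attribute [local instance] Algebra.TensorProduct.rightAlgebra

theorem finite_right (R S T : Type*) [CommRing R] [CommRing S] [CommRing T] [Algebra R S]
    [Algebra R T] [Module.Finite R S] : Module.Finite T (S ⊗[R] T) :=
  Module.Finite.of_equiv_equiv (RingEquiv.refl T) (Algebra.TensorProduct.comm R T S).toRingEquiv
    (by ext; simp; rfl)

end Groth.Agent.Lib.Helper22.GRing
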