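import Mathlib
import Groth.Agent.Lib.Helper22.GRingR

/-!
# `A ⊗[A₁] C` for a finite local `A₁ → A` with trivial residue extension and `C` complete local
(helper22)
-/

set_option autoImplicit false
set_option linter.style.haveILetI false
set_option linter.unusedSectionVars false
universe u

namespace Groth.Agent.Lib.Helper22.GRing

open TensorProduct IsLocalRing
open Groth.Agent.Lib.Helper5 Groth.Agent.Lib.Helper12

attribute [local instance] Algebra.TensorProduct.rightAlgebra

section BaseChange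

variable (A₁ A C : Type u) [CommRing A₁] [IsLocalRing A₁]
  [CommRing A] [IsLocalRing A] [Algebra A₁ A] [Module.Finite A₁ A] [IsLocalHom (algebraMap A₁ A)]
  [CommRing C] [IsLocalRing C] [IsNoetherianRing C] [IsAdicComplete (maximalIdeal C) C]
  [Algebra A₁ C] [IsLocalHom (algebraMap A₁ C)]

theorem map_maximalIdeal_le_of_isMaximal_tensor (M : Ideal (A ⊗[A₁] C)) [hM : M.IsMaximal] :
    (maximalIdeal A).map (algebraMap A (A ⊗[A₁] C)) ≤ M := by
  haveI : Module.Finite C (A ⊗[A₁] C) := finite_right A₁ A C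
  haveI : Algebra.IsIntegral C (A ⊗[A₁] C) := inferInstance
  have h1 : (M.comap (algebraMap C (A ⊗[A₁] C))).IsMaximal :=
    Ideal.isMaximal_comap_of_isIntegral_of_isMaximal M
  have h2 : M.comap (algebraMap C (A ⊗[A₁] C)) = maximalIdeal C := IsLocalRing.eq_maximalIdeal h1
  have h3 : (maximalIdeal C).comap (algebraMap A₁ C) = maximalIdeal A₁ :=
    ((local_hom_TFAE (algebraMap A₁ C)).out 0 4).mp ‹_›
  have h4 : (M.comap (algebraMap A (A ⊗[A₁] C))).comap (algebraMap A₁ A) = maximalIdeal A₁ := by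
    rw [Ideal.comap_comap, ← IsScalarTower.algebraMap_eq,
      IsScalarTower.algebraMap_eq A₁ C (A ⊗[A₁] C), ← Ideal.comap_comap, h2, h3]
  haveI : (M.comap (algebraMap A (A ⊗[A₁] C))).IsPrime := Ideal.comap_isPrime _ _
  have h5 : (M.comap (algebraMap A (A ⊗[A₁] C))).IsMaximal :=
    Ideal.isMaximal_of_isIntegral_of_isMaximal_comap _ (by rw [h4]; infer_instance)
  rw [Ideal.map_le_iff_le_comap, ← IsLocalRing.eq_maximalIdeal h5]

variable (hres : Function.Surjective (algebraMap A₁ (A ⧸ maximalIdeal A))) [Module.Flat A₁ C]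

include hres in
theorem isLocalRing_residue_tensor : IsLocalRing ((A ⧸ maximalIdeal A) ⊗[A₁] C) := by
  haveI : Module.FaithfullyFlat A₁ C := Module.FaithfullyFlat.of_flat_of_isLocalHom
  haveI : Nontrivial ((A ⧸ maximalIdeal A) ⊗[A₁] C) := inferInstance
  exact IsLocalRing.of_surjective' (Algebra.TensorProduct.includeRight :
      C →ₐ[A₁] (A ⧸ maximalIdeal A) ⊗[A₁] C).toRingHom
    (Algebra.TensorProduct.includeRight_surjective C hres)

include hres in
theorem isLocalRing_tensor : IsLocalRing (A ⊗[A₁] C) := by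
  haveI := isLocalRing_residue_tensor A₁ A C hres
  let π : A ⊗[A₁] C →ₐ[A] (A ⧸ maximalIdeal A) ⊗[A₁] C :=
    Algebra.TensorProduct.map (Ideal.Quotient.mkₐ A (maximalIdeal A)) (AlgHom.id A₁ C)
  have hπ : Function.Surjective π :=
    Algebra.TensorProduct.map_surjective _ _ (Ideal.Quotient.mkₐ_surjective A _)
      Function.surjective_id
  have hkerπ : RingHom.ker π = (maximalIdeal A).map (algebraMap A (A ⊗[A₁] C)) := by
    have := Algebra.TensorProduct.rTensor_ker (R := A₁) (C := C)
      (Ideal.Quotient.mkₐ A (maximalIdeal A)) (Ideal.Quotient.mkₐ_surjective A _)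
    have hk : RingHom.ker (Ideal.Quotient.mkₐ A (maximalIdeal A)) = maximalIdeal A :=
      Ideal.Quotient.mkₐ_ker A _
    rw [hk] at this
    exact this
  refine isLocalRing_of_surjective_of_ker_le π.toRingHom hπ ?_
  intro M hM
  change RingHom.ker π ≤ M
  rw [hkerπ]
  exact map_maximalIdeal_le_of_isMaximal_tensor A₁ A C M

include hres in
theorem tensor_facts [IsLocalRing (A ⊗[A₁] C)] :
    IsNoetherianRing (A ⊗[A₁] C) ∧ IsLocalHom (algebraMap A (A ⊗[A₁] C)) ∧
      IsAdicComplete (maximalIdeal (A ⊗[A₁] C)) (A ⊗[A₁] C) := by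
  haveI : Module.Finite C (A ⊗[A₁] C) := finite_right A₁ A C
  refine ⟨IsNoetherianRing.of_finite C _, ?_,
    ComplIntClosure.isAdicComplete_of_finite_local C (A ⊗[A₁] C)⟩
  exact ((local_hom_TFAE (algebraMap A (A ⊗[A₁] C))).out 0 2).mpr
    (map_maximalIdeal_le_of_isMaximal_tensor A₁ A C _)

end BaseChange

end Groth.Agent.Lib.Helper22.GRing
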