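import Mathlib
import Groth.Agent.Lib.Helper22.GRingS
import Groth.Agent.S2040

/-!
# Lifting a formally smooth complete local algebra over "a" residue field (helper22)
-/

set_option autoImplicit false
set_option linter.style.haveILetI false
set_option linter.unusedSectionVars false
universe u

namespace Groth.Agent.Lib.Helper22.GRing

open TensorProduct IsLocalRing
open Groth.Agent.Lib.Helper5 Groth.Agent.Lib.Helper12

/-- two quotient algebras with the same kernel are isomorphic -/
noncomputable def algEquivOfSurjectiveOfKer (R K K' : Type*) [CommRing R] [CommRing K] [CommRing K']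
    [Algebra R K] [Algebra R K'] (hK : Function.Surjective (algebraMap R K))
    (hK' : Function.Surjective (algebraMap R K'))
    (hker : RingHom.ker (algebraMap R K) = RingHom.ker (algebraMap R K')) : K ≃ₐ[R] K' :=
  (Ideal.quotientKerAlgEquivOfSurjective (f := Algebra.ofId R K) hK).symm.trans
    ((Ideal.quotientEquivAlgOfEq R hker).trans
      (Ideal.quotientKerAlgEquivOfSurjective (f := Algebra.ofId R K') hK'))

theorem exists_lift_of_residue (A₁ : Type u) [CommRing A₁] [IsLocalRing A₁] [IsNoetherianRing A₁]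
    [IsAdicComplete (maximalIdeal A₁) A₁] (K : Type u) [CommRing K] [Algebra A₁ K]
    (hK : Function.Surjective (algebraMap A₁ K))
    (hker : RingHom.ker (algebraMap A₁ K) = maximalIdeal A₁)
    (B₀ : Type u) [CommRing B₀] [IsLocalRing B₀] [IsNoetherianRing B₀]
    [IsAdicComplete (maximalIdeal B₀) B₀] [Algebra K B₀] [Algebra A₁ B₀] [IsScalarTower A₁ K B₀]
    (hfs₀ : CAlgX.IsAdicFormallySmooth K B₀ (maximalIdeal B₀)) :
    ∃ (C : Type u) (_ : CommRing C) (_ : IsLocalRing C) (_ : Algebra A₁ C),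
      IsNoetherianRing C ∧ IsAdicComplete (maximalIdeal C) C ∧ IsLocalHom (algebraMap A₁ C) ∧
        CAlgX.IsAdicFormallySmooth A₁ C (maximalIdeal C) ∧
        Nonempty (K ⊗[A₁] C ≃ₐ[K] B₀) := by
  let φ : (maximalIdeal A₁).ResidueField ≃ₐ[A₁] K :=
    algEquivOfSurjectiveOfKer A₁ _ K (Ideal.algebraMap_residueField_surjective _) hK
      ((Ideal.ker_algebraMap_residueField _).trans hker.symm)
  letI algκK : Algebra (maximalIdeal A₁).ResidueField K := φ.toAlgHom.toRingHom.toAlgebra
  letI algκB : Algebra (maximalIdeal A₁).ResidueField B₀ :=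
    ((algebraMap K B₀).comp φ.toAlgHom.toRingHom).toAlgebra
  haveI : IsScalarTower (maximalIdeal A₁).ResidueField K B₀ := IsScalarTower.of_algebraMap_eq' rfl
  have hbij : Function.Bijective (algebraMap (maximalIdeal A₁).ResidueField K) := φ.bijective
  have hfs₁ := adicSmooth_of_bijective (maximalIdeal A₁).ResidueField K B₀ hbij _ hfs₀
  obtain ⟨C, i1, i2, i3, hN, hC, hloc, hfsC, ⟨e⟩⟩ := Groth.Agent.S2040.result (A := A₁) hfs₁
  refine ⟨C, i1, i2, i3, hN, hC, hloc, hfsC, ?_⟩
  haveI : IsScalarTower A₁ (maximalIdeal A₁).ResidueField B₀ := by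
    apply IsScalarTower.of_algebraMap_eq
    intro a
    rw [IsScalarTower.algebraMap_apply A₁ K B₀]
    change _ = algebraMap K B₀ (φ (algebraMap A₁ _ a))
    rw [φ.commutes]
  let e₁ : (maximalIdeal A₁).ResidueField ⊗[A₁] C ≃ₐ[A₁] B₀ := e.restrictScalars A₁
  let e₂ : K ⊗[A₁] C ≃ₐ[A₁] (maximalIdeal A₁).ResidueField ⊗[A₁] C :=
    Algebra.TensorProduct.congr φ.symm AlgEquiv.refl
  exact ⟨AlgEquiv.extendScalarsOfSurjective hK (e₂.trans e₁)⟩

end Groth.Agent.Lib.Helper22.GRing
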