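import Mathlib
import Groth.Agent.Lib.Helper22.GRingT
import Groth.Agent.Lib.Helper5.AdicQuot
import Groth.Agent.Lib.Helper5.FlatCohenD
import Groth.Agent.Lib.Helper5.FlatSmoothD
import Groth.Agent.S2487
import Groth.Agent.S4537

/-!
# Descent of a formally smooth complete local algebra along a finite local homomorphism with
trivial residue field extension (helper22)
-/

set_option autoImplicit false
set_option linter.style.haveILetI false
set_option linter.unusedSectionVars false
universe u

namespace Groth.Agent.Lib.Helper22.GRing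

open TensorProduct IsLocalRing
open Groth.Agent.Lib.Helper5 Groth.Agent.Lib.Helper12

theorem exists_descent (A₁ A B : Type u) [CommRing A₁] [IsLocalRing A₁] [IsNoetherianRing A₁]
    [IsAdicComplete (maximalIdeal A₁) A₁]
    [CommRing A] [IsLocalRing A] [IsNoetherianRing A] [Algebra A₁ A] [Module.Finite A₁ A]
    [IsLocalHom (algebraMap A₁ A)]
    (hres : Function.Surjective (algebraMap A₁ (A ⧸ maximalIdeal A)))
    [CommRing B] [IsLocalRing B] [IsNoetherianRing B] [IsAdicComplete (maximalIdeal B) B]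
    [Algebra A B] [IsLocalHom (algebraMap A B)] [Algebra A₁ B] [IsScalarTower A₁ A B]
    (hfs : CAlgX.IsAdicFormallySmooth A B (maximalIdeal B)) :
    ∃ (C : Type u) (_ : CommRing C) (_ : IsLocalRing C) (_ : Algebra A₁ C),
      IsNoetherianRing C ∧ IsAdicComplete (maximalIdeal C) C ∧ IsLocalHom (algebraMap A₁ C) ∧
        CAlgX.IsAdicFormallySmooth A₁ C (maximalIdeal C) ∧
        Nonempty (B ≃ₐ[A] A ⊗[A₁] C) := by
  classical
  have hIle : (maximalIdeal A).map (algebraMap A B) ≤ maximalIdeal B :=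
    ((local_hom_TFAE (algebraMap A B)).out 0 2).mp ‹_›
  haveI : Nontrivial (B ⧸ (maximalIdeal A).map (algebraMap A B)) :=
    Ideal.Quotient.nontrivial_iff.mpr (fun h =>
      (maximalIdeal.isMaximal B).ne_top (top_le_iff.mp (h ▸ hIle)))
  haveI : IsLocalRing (B ⧸ (maximalIdeal A).map (algebraMap A B)) := inferInstance
  haveI : IsAdicComplete (maximalIdeal (B ⧸ (maximalIdeal A).map (algebraMap A B)))
      (B ⧸ (maximalIdeal A).map (algebraMap A B)) := FlatCohen.isAdicComplete_quotient _
  -- formal smoothness of the closed fibre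
  have hfs₀' := AdicQuot.adicSmooth_quotient (maximalIdeal A) (maximalIdeal B)
    (A ⧸ maximalIdeal A) Ideal.Quotient.mk_surjective
    (fun a ha => Ideal.Quotient.eq_zero_iff_mem.mpr ha)
    (B ⧸ (maximalIdeal A).map (algebraMap A B)) Ideal.mk_ker Ideal.Quotient.mk_surjective hfs
  have hmax : (maximalIdeal B).map (algebraMap B (B ⧸ (maximalIdeal A).map (algebraMap A B))) =
      maximalIdeal (B ⧸ (maximalIdeal A).map (algebraMap A B)) :=
    AdicBase.map_maximalIdeal_of_surjective _ Ideal.Quotient.mk_surjective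
  rw [hmax] at hfs₀'
  have hkerk : RingHom.ker (algebraMap A₁ (A ⧸ maximalIdeal A)) = maximalIdeal A₁ := by
    ext a
    rw [RingHom.mem_ker, IsScalarTower.algebraMap_apply A₁ A (A ⧸ maximalIdeal A),
      Ideal.Quotient.algebraMap_eq, Ideal.Quotient.eq_zero_iff_mem, mem_maximalIdeal,
      mem_maximalIdeal, mem_nonunits_iff, mem_nonunits_iff, not_iff_not]
    exact ⟨fun h => isUnit_of_map_unit (algebraMap A₁ A) a h, fun h => h.map _⟩
  haveI : IsScalarTower A₁ (A ⧸ maximalIdeal A) (B ⧸ (maximalIdeal A).map (algebraMap A B)) := by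
    apply IsScalarTower.of_algebraMap_eq
    intro a
    rw [IsScalarTower.algebraMap_apply A₁ A (A ⧸ maximalIdeal A),
      ← IsScalarTower.algebraMap_apply A (A ⧸ maximalIdeal A),
      IsScalarTower.algebraMap_apply A B (B ⧸ (maximalIdeal A).map (algebraMap A B)),
      ← IsScalarTower.algebraMap_apply A₁ A B,
      ← IsScalarTower.algebraMap_apply A₁ B]
  obtain ⟨C, i1, i2, i3, hN, hC, hloc, hfsC, ⟨e⟩⟩ :=
    exists_lift_of_residue A₁ (A ⧸ maximalIdeal A) hres hkerk
      (B ⧸ (maximalIdeal A).map (algebraMap A B)) hfs₀'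
  refine ⟨C, i1, i2, i3, hN, hC, hloc, hfsC, ?_⟩
  haveI : Module.Flat A₁ C := FlatCohen.flat_of_adicSmooth hfsC
  haveI hlocB' : IsLocalRing (A ⊗[A₁] C) := isLocalRing_tensor A₁ A C hres
  obtain ⟨hNB', hlochomB', hcomplB'⟩ := tensor_facts A₁ A C hres
  haveI : Module.Flat A B := FlatCohen.flat_of_adicSmooth hfs
  have hfsE : EGA41.IsFormallySmoothAdic (A ⧸ maximalIdeal A) (maximalIdeal (A ⧸ maximalIdeal A))
      (B ⧸ (maximalIdeal A).map (algebraMap A B))
      (maximalIdeal (B ⧸ (maximalIdeal A).map (algebraMap A B))) := by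
    have h1 := (Groth.Agent.S4537.result _).1 hfs₀'
    intro T _ _ J hJ _ u hu
    exact h1 T J hJ ⟨1, by rw [pow_one, Ideal.map_bot]⟩ u hu
  haveI : IsLocalHom (algebraMap (A ⧸ maximalIdeal A)
      (B ⧸ (maximalIdeal A).map (algebraMap A B))) := by
    letI := Ideal.Quotient.field (maximalIdeal A)
    exact isLocalHom_of_exists_map_ne_one ⟨0, by simp⟩
  have huniq := (Groth.Agent.S2487.result (A := A) (maximalIdeal A) le_rfl
    (B ⧸ (maximalIdeal A).map (algebraMap A B)) hfsE).2
  obtain ⟨v, -⟩ := huniq B (A ⊗[A₁] C) inferInstance inferInstance hcomplB' inferInstance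
    (Algebra.TensorProduct.quotIdealMapEquivQuotTensor B (maximalIdeal A)).symm
    ((Algebra.TensorProduct.cancelBaseChange A₁ A (A ⧸ maximalIdeal A) (A ⧸ maximalIdeal A)
      C).trans e)
  exact ⟨v⟩

end Groth.Agent.Lib.Helper22.GRing
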