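import Mathlib
import Groth.Agent.Lib.Helper22.GRingU
import Groth.Agent.Lib.Helper22.GRingQ
import Groth.Agent.Lib.Helper22.GRingK
import Groth.Agent.Lib.Helper5.RegFlatFiber
import Groth.Agent.Lib.Helper5.AdicRegE
import Groth.Agent.Lib.Helper5.PowSer
import Groth.Agent.Lib.Helper1.PSDecomp

/-!
# Generic fibres of formally smooth local homomorphisms of complete local rings (helper22)
-/

set_option autoImplicit false
set_option linter.style.haveILetI false
set_option linter.unusedSectionVars false
universe u

namespace Groth.Agent.Lib.Helper22.GRing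

open TensorProduct IsLocalRing
open Groth.Agent.Lib.Helper5 Groth.Agent.Lib.Helper12

/-- a Noetherian local ring formally smooth over a regular local ring is regular -/
theorem isRegularLocalRing_of_adicSmooth_of_regular (A C : Type u) [CommRing A] [IsLocalRing A]
    [IsNoetherianRing A] [IsRegularLocalRing A] [CommRing C] [IsLocalRing C] [IsNoetherianRing C]
    [Algebra A C] [IsLocalHom (algebraMap A C)]
    (hfs : CAlgX.IsAdicFormallySmooth A C (maximalIdeal C)) : IsRegularLocalRing C := by
  have hIle : (maximalIdeal A).map (algebraMap A C) ≤ maximalIdeal C :=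
    ((local_hom_TFAE (algebraMap A C)).out 0 2).mp ‹_›
  haveI : Nontrivial (C ⧸ (maximalIdeal A).map (algebraMap A C)) :=
    Ideal.Quotient.nontrivial_iff.mpr (fun h =>
      (maximalIdeal.isMaximal C).ne_top (top_le_iff.mp (h ▸ hIle)))
  haveI : IsLocalRing (C ⧸ (maximalIdeal A).map (algebraMap A C)) := inferInstance
  have hfs₀' := AdicQuot.adicSmooth_quotient (maximalIdeal A) (maximalIdeal C)
    (A ⧸ maximalIdeal A) Ideal.Quotient.mk_surjective
    (fun a ha => Ideal.Quotient.eq_zero_iff_mem.mpr ha)
    (C ⧸ (maximalIdeal A).map (algebraMap A C)) Ideal.mk_ker Ideal.Quotient.mk_surjective hfs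
  have hmax : (maximalIdeal C).map (algebraMap C (C ⧸ (maximalIdeal A).map (algebraMap A C))) =
      maximalIdeal (C ⧸ (maximalIdeal A).map (algebraMap A C)) :=
    AdicBase.map_maximalIdeal_of_surjective _ Ideal.Quotient.mk_surjective
  rw [hmax] at hfs₀'
  letI := Ideal.Quotient.field (maximalIdeal A)
  have hfib : IsRegularLocalRing (C ⧸ (maximalIdeal A).map (algebraMap A C)) :=
    AdicReg.isRegularLocalRing_of_adicSmooth hfs₀'
  haveI : Module.Flat A C := FlatCohen.flat_of_adicSmooth hfs
  exact RegFlatFiber.regular_of_flat_of_regular_fiber A C hfib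

theorem isAdicComplete_mvPowerSeries (Λ : Type u) [CommRing Λ]
    (hΛ : IsField Λ ∨ CAlg.IsCohenRing Λ) (n : ℕ) [IsLocalRing (MvPowerSeries (Fin n) Λ)] :
    IsAdicComplete (maximalIdeal (MvPowerSeries (Fin n) Λ)) (MvPowerSeries (Fin n) Λ) := by
  rcases hΛ with hfield | hcohen
  · letI := hfield.toField
    exact PowSer.isAdicComplete_maximalIdeal
  · obtain ⟨hdom, hdvr, hcompl, -⟩ := hcohen
    haveI : IsNoetherianRing (MvPowerSeries (Fin n) Λ) := inferInstance
    exact { toIsHausdorff := inferInstance
            toIsPrecomplete := Helper1.PSDecomp.isPrecomplete }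

end Groth.Agent.Lib.Helper22.GRing
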