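import Mathlib
import Groth.Agent.Lib.Helper22.GRingV

/-!
# Generic fibres of formally smooth local homomorphisms of complete local rings (helper22)
-/

set_option autoImplicit false
set_option linter.style.haveILetI false
set_option linter.unusedSectionVars false
universe u

namespace Groth.Agent.Lib.Helper22.GRing

open TensorProduct IsLocalRing
open Groth.Agent.Lib.Helper5 Groth.Agent.Lib.Helper12

/-- **Lemma G'**: for a formally smooth local homomorphism `A → B` of complete Noetherian local
rings with `A` a domain, the base change of `B` to a finite extension of the fraction field of `A`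
is regular. -/
theorem isRegularRing_tensor_of_adicSmooth (A : Type u) [CommRing A] [IsDomain A]
    [IsLocalRing A] [IsNoetherianRing A] [IsAdicComplete (maximalIdeal A) A]
    (B : Type u) [CommRing B] [IsLocalRing B] [IsNoetherianRing B]
    [IsAdicComplete (maximalIdeal B) B] [Algebra A B] [IsLocalHom (algebraMap A B)]
    (hfs : CAlgX.IsAdicFormallySmooth A B (maximalIdeal B))
    (L : Type u) [Field L] [Algebra A L]
    (hinj : Function.Injective (algebraMap A L))
    [Algebra (FractionRing A) L] [IsScalarTower A (FractionRing A) L]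
    [Module.Finite (FractionRing A) L] :
    IsRegularRing (L ⊗[A] B) := by
  obtain ⟨Λ, _, n, f, hΛ, hfinj, hffin, hfres⟩ :=
    Groth.Agent.Lib.Helper12.CohenFin.exists_finite_injective_mvPowerSeries A
  letI algA₀A : Algebra (MvPowerSeries (Fin n) Λ) A := f.toAlgebra
  haveI : Module.Finite (MvPowerSeries (Fin n) Λ) A := hffin
  haveI : IsDomain (MvPowerSeries (Fin n) Λ) := hfinj.isDomain f
  haveI : FaithfulSMul (MvPowerSeries (Fin n) Λ) A :=
    (faithfulSMul_iff_algebraMap_injective _ _).mpr hfinj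
  letI algA₀L : Algebra (MvPowerSeries (Fin n) Λ) L := ((algebraMap A L).comp f).toAlgebra
  haveI : IsScalarTower (MvPowerSeries (Fin n) Λ) A L := IsScalarTower.of_algebraMap_eq' rfl
  have hA₀L : Function.Injective (algebraMap (MvPowerSeries (Fin n) Λ) L) :=
    hinj.comp hfinj
  haveI : FaithfulSMul (MvPowerSeries (Fin n) Λ) L :=
    (faithfulSMul_iff_algebraMap_injective _ _).mpr hA₀L
  letI : Algebra (FractionRing (MvPowerSeries (Fin n) Λ)) L :=
    FractionRing.liftAlgebra (MvPowerSeries (Fin n) Λ) L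
  haveI : IsScalarTower (MvPowerSeries (Fin n) Λ) (FractionRing (MvPowerSeries (Fin n) Λ)) L :=
    FractionRing.isScalarTower_liftAlgebra _ _
  haveI : Module.Finite (FractionRing (MvPowerSeries (Fin n) Λ)) L :=
    finite_fractionRing_of_finite (MvPowerSeries (Fin n) Λ) A L
  haveI hrl : IsRegularLocalRing (MvPowerSeries (Fin n) Λ) :=
    J0Root.isRegularLocalRing_mvPowerSeries Λ hΛ n
  haveI : IsNoetherianRing (MvPowerSeries (Fin n) Λ) := inferInstance
  haveI : IsAdicComplete (maximalIdeal (MvPowerSeries (Fin n) Λ)) (MvPowerSeries (Fin n) Λ) :=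
    isAdicComplete_mvPowerSeries Λ hΛ n
  haveI : Algebra.IsIntegral (MvPowerSeries (Fin n) Λ) A := inferInstance
  haveI : IsLocalHom (algebraMap (MvPowerSeries (Fin n) Λ) A) := inferInstance
  letI algA₀B : Algebra (MvPowerSeries (Fin n) Λ) B := ((algebraMap A B).comp f).toAlgebra
  haveI : IsScalarTower (MvPowerSeries (Fin n) Λ) A B := IsScalarTower.of_algebraMap_eq' rfl
  have hres : Function.Surjective (algebraMap (MvPowerSeries (Fin n) Λ) (A ⧸ maximalIdeal A)) :=
    hfres
  obtain ⟨C, i1, i2, i3, hN, hC, hloc, hfsC, ⟨v⟩⟩ :=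
    exists_descent (MvPowerSeries (Fin n) Λ) A B hres hfs
  haveI : IsRegularLocalRing C :=
    isRegularLocalRing_of_adicSmooth_of_regular (MvPowerSeries (Fin n) Λ) C hfsC
  haveI : IsRegularRing C :=
    isRegularRing_iff.mpr (fun q _ =>
      Groth.Agent.Lib.Helper5.SerreLoc.localization_regular C q)
  have hQG := qg_mvPowerSeries_of_adicSmooth Λ hΛ n C hfsC L hA₀L
  have hreg : IsRegularRing (C ⊗[MvPowerSeries (Fin n) Λ] L) := hQG.isRegularRing_tensor
  let e1 : L ⊗[A] B ≃ₐ[L] L ⊗[A] (A ⊗[MvPowerSeries (Fin n) Λ] C) :=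
    Algebra.TensorProduct.congr AlgEquiv.refl v
  let e2 : L ⊗[A] (A ⊗[MvPowerSeries (Fin n) Λ] C) ≃ₐ[L] L ⊗[MvPowerSeries (Fin n) Λ] C :=
    Algebra.TensorProduct.cancelBaseChange (MvPowerSeries (Fin n) Λ) A L L C
  let e3 : L ⊗[MvPowerSeries (Fin n) Λ] C ≃ₐ[MvPowerSeries (Fin n) Λ]
      C ⊗[MvPowerSeries (Fin n) Λ] L := Algebra.TensorProduct.comm _ L C
  exact IsRegularRing.of_ringEquiv
    ((e1.trans e2).toRingEquiv.trans e3.toRingEquiv).symm

end Groth.Agent.Lib.Helper22.GRing
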