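import Mathlib
import Groth.Agent.Lib.Helper22.GRingW
import Groth.Agent.Lib.Helper22.GRingM
import Groth.Agent.Lib.Helper21.FlatLocal11

/-!
# Formally smooth local homomorphisms of complete local rings are regular (helper22)
-/

set_option autoImplicit false
set_option linter.style.haveILetI false
set_option linter.unusedSectionVars false
universe u

namespace Groth.Agent.Lib.Helper22.GRing

open TensorProduct IsLocalRing
open Groth.Agent.Lib.Helper5 Groth.Agent.Lib.Helper12

/-- the residue field at `⊥` of a domain is the fraction field -/
theorem surjective_fractionRing_residueField_bot (A : Type u) [CommRing A] [IsDomain A]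
    [Algebra (FractionRing A) (⊥ : Ideal A).ResidueField]
    [IsScalarTower A (FractionRing A) (⊥ : Ideal A).ResidueField] :
    Function.Surjective (algebraMap (FractionRing A) (⊥ : Ideal A).ResidueField) := by
  intro z
  obtain ⟨x, rfl⟩ := IsLocalRing.residue_surjective (R := Localization.AtPrime (⊥ : Ideal A)) z
  obtain ⟨a, s, rfl⟩ := IsLocalization.exists_mk'_eq (⊥ : Ideal A).primeCompl x
  have hs0 : (s : A) ≠ 0 := fun h => s.2 (by rw [h]; exact zero_mem _)
  have hs0' : algebraMap A (FractionRing A) s ≠ 0 := by
    intro h
    exact hs0 (IsFractionRing.injective A (FractionRing A) (h.trans (map_zero _).symm))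
  refine ⟨algebraMap A (FractionRing A) a / algebraMap A (FractionRing A) s, ?_⟩
  have hs1 : algebraMap (FractionRing A) (⊥ : Ideal A).ResidueField
      (algebraMap A (FractionRing A) s) ≠ 0 := by
    intro h
    exact hs0' ((algebraMap (FractionRing A) (⊥ : Ideal A).ResidueField).injective
      (h.trans (map_zero _).symm))
  rw [map_div₀, div_eq_iff hs1, ← IsScalarTower.algebraMap_apply A (FractionRing A),
    ← IsScalarTower.algebraMap_apply A (FractionRing A),
    IsScalarTower.algebraMap_apply A (Localization.AtPrime (⊥ : Ideal A))
      (⊥ : Ideal A).ResidueField (s : A),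
    IsScalarTower.algebraMap_apply A (Localization.AtPrime (⊥ : Ideal A))
      (⊥ : Ideal A).ResidueField a]
  change _ = IsLocalRing.residue _ _ * IsLocalRing.residue _ _
  rw [← map_mul, IsLocalization.mk'_spec]
  rfl

/-- the generic fibre of a formally smooth local homomorphism of complete local rings (the base
being a domain) is geometrically regular -/
theorem geomRegular_generic_fibre_of_adicSmooth (A : Type u) [CommRing A] [IsDomain A]
    [IsLocalRing A] [IsNoetherianRing A] [IsAdicComplete (maximalIdeal A) A]
    (B : Type u) [CommRing B] [IsLocalRing B] [IsNoetherianRing B]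
    [IsAdicComplete (maximalIdeal B) B] [Algebra A B] [IsLocalHom (algebraMap A B)]
    (hfs : CAlgX.IsAdicFormallySmooth A B (maximalIdeal B)) :
    CAlg.IsGeometricallyRegular (⊥ : Ideal A).ResidueField ((⊥ : Ideal A).Fiber B) := by
  intro k' _ _ hfin
  haveI := hfin
  letI algAk' : Algebra A k' :=
    ((algebraMap (⊥ : Ideal A).ResidueField k').comp (algebraMap A _)).toAlgebra
  haveI : IsScalarTower A (⊥ : Ideal A).ResidueField k' := IsScalarTower.of_algebraMap_eq' rfl
  have hinjκ : Function.Injective (algebraMap A (⊥ : Ideal A).ResidueField) := by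
    rw [injective_iff_map_eq_zero]
    intro a ha
    have : a ∈ RingHom.ker (algebraMap A (⊥ : Ideal A).ResidueField) := ha
    rw [Ideal.ker_algebraMap_residueField] at this
    exact this
  have hinj : Function.Injective (algebraMap A k') := by
    rw [IsScalarTower.algebraMap_eq A (⊥ : Ideal A).ResidueField k']
    exact (algebraMap _ k').injective.comp hinjκ
  haveI : FaithfulSMul A k' := (faithfulSMul_iff_algebraMap_injective A k').mpr hinj
  haveI : FaithfulSMul A (⊥ : Ideal A).ResidueField :=
    (faithfulSMul_iff_algebraMap_injective A _).mpr hinjκ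
  letI : Algebra (FractionRing A) k' := FractionRing.liftAlgebra A k'
  haveI : IsScalarTower A (FractionRing A) k' := FractionRing.isScalarTower_liftAlgebra A k'
  letI : Algebra (FractionRing A) (⊥ : Ideal A).ResidueField := FractionRing.liftAlgebra A _
  haveI : IsScalarTower A (FractionRing A) (⊥ : Ideal A).ResidueField :=
    FractionRing.isScalarTower_liftAlgebra A _
  have hsurj := surjective_fractionRing_residueField_bot A
  haveI : Module.Finite (FractionRing A) (⊥ : Ideal A).ResidueField :=
    Module.Finite.of_surjective (Algebra.linearMap (FractionRing A) _) hsurj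
  haveI : IsScalarTower (FractionRing A) (⊥ : Ideal A).ResidueField k' := by
    apply IsScalarTower.of_algebraMap_eq'
    apply IsLocalization.ringHom_ext (nonZeroDivisors A)
    ext a
    simp only [RingHom.comp_apply]
    rw [← IsScalarTower.algebraMap_apply A (FractionRing A) k',
      ← IsScalarTower.algebraMap_apply A (FractionRing A) (⊥ : Ideal A).ResidueField,
      ← IsScalarTower.algebraMap_apply A (⊥ : Ideal A).ResidueField k']
  haveI : Module.Finite (FractionRing A) k' :=
    Module.Finite.trans (⊥ : Ideal A).ResidueField k'
  have hreg : IsRegularRing (k' ⊗[A] B) := isRegularRing_tensor_of_adicSmooth A B hfs k' hinj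
  let e₁ := Algebra.TensorProduct.cancelBaseChange A (⊥ : Ideal A).ResidueField k' k' B
  exact IsRegularRing.of_ringEquiv (R := k' ⊗[A] B) e₁.toRingEquiv.symm

end Groth.Agent.Lib.Helper22.GRing
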