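import Mathlib
import Groth.Agent.Lib.Helper22.GRingX

/-!
# Formally smooth local homomorphisms of complete local rings are regular (helper22)
-/

set_option autoImplicit false
set_option linter.style.haveILetI false
set_option linter.unusedSectionVars false
universe u

namespace Groth.Agent.Lib.Helper22.GRing

open TensorProduct IsLocalRing
open Groth.Agent.Lib.Helper5 Groth.Agent.Lib.Helper12

/-- **EGA 0_IV 22.5.8 (complete case)**: a formally smooth local homomorphism of complete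
Noetherian local rings is regular. -/
theorem isRegularHom_of_adicSmooth (A B : Type u) [CommRing A] [IsLocalRing A]
    [IsNoetherianRing A] [IsAdicComplete (maximalIdeal A) A]
    [CommRing B] [IsLocalRing B] [IsNoetherianRing B]
    [IsAdicComplete (maximalIdeal B) B] [Algebra A B] [IsLocalHom (algebraMap A B)]
    (hfs : CAlgX.IsAdicFormallySmooth A B (maximalIdeal B)) : CAlg.IsRegularHom A B := by
  refine ⟨FlatCohen.flat_of_adicSmooth hfs, fun 𝔭 h𝔭 => ⟨?_, ?_⟩⟩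
  · exact Groth.Agent.Lib.Helper21.FlatLocal.isNoetherianRing_fiber 𝔭
  · have h𝔭le : 𝔭 ≤ maximalIdeal A := le_maximalIdeal h𝔭.ne_top
    have hIle : (maximalIdeal A).map (algebraMap A B) ≤ maximalIdeal B :=
      ((local_hom_TFAE (algebraMap A B)).out 0 2).mp ‹_›
    have h𝔭B : 𝔭.map (algebraMap A B) ≤ maximalIdeal B := (Ideal.map_mono h𝔭le).trans hIle
    haveI : Nontrivial (B ⧸ 𝔭.map (algebraMap A B)) :=
      Ideal.Quotient.nontrivial_iff.mpr (fun h =>
        (maximalIdeal.isMaximal B).ne_top (top_le_iff.mp (h ▸ h𝔭B)))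
    haveI : IsLocalRing (B ⧸ 𝔭.map (algebraMap A B)) := inferInstance
    haveI : IsAdicComplete (maximalIdeal (B ⧸ 𝔭.map (algebraMap A B)))
        (B ⧸ 𝔭.map (algebraMap A B)) := FlatCohen.isAdicComplete_quotient _
    haveI : IsDomain (A ⧸ 𝔭) := Ideal.Quotient.isDomain 𝔭
    haveI : IsLocalRing (A ⧸ 𝔭) := inferInstance
    haveI : IsAdicComplete (maximalIdeal (A ⧸ 𝔭)) (A ⧸ 𝔭) := FlatCohen.isAdicComplete_quotient _
    have hfs' := AdicQuot.adicSmooth_quotient 𝔭 (maximalIdeal B)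
      (A ⧸ 𝔭) Ideal.Quotient.mk_surjective
      (fun a ha => Ideal.Quotient.eq_zero_iff_mem.mpr ha)
      (B ⧸ 𝔭.map (algebraMap A B)) Ideal.mk_ker Ideal.Quotient.mk_surjective hfs
    have hmaxB : (maximalIdeal B).map (algebraMap B (B ⧸ 𝔭.map (algebraMap A B))) =
        maximalIdeal (B ⧸ 𝔭.map (algebraMap A B)) :=
      AdicBase.map_maximalIdeal_of_surjective _ Ideal.Quotient.mk_surjective
    have hmaxA : (maximalIdeal A).map (algebraMap A (A ⧸ 𝔭)) = maximalIdeal (A ⧸ 𝔭) :=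
      AdicBase.map_maximalIdeal_of_surjective _ Ideal.Quotient.mk_surjective
    rw [hmaxB] at hfs'
    haveI : IsLocalHom (algebraMap (A ⧸ 𝔭) (B ⧸ 𝔭.map (algebraMap A B))) := by
      refine ((local_hom_TFAE (algebraMap (A ⧸ 𝔭) (B ⧸ 𝔭.map (algebraMap A B)))).out 0 2).mpr ?_
      rw [← hmaxA, Ideal.map_map, ← IsScalarTower.algebraMap_eq,
        IsScalarTower.algebraMap_eq A B (B ⧸ 𝔭.map (algebraMap A B)), ← Ideal.map_map, ← hmaxB]
      exact Ideal.map_mono hIle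
    have hgen := geomRegular_generic_fibre_of_adicSmooth (A ⧸ 𝔭) (B ⧸ 𝔭.map (algebraMap A B)) hfs'
    haveI : (⊥ : Ideal (A ⧸ 𝔭)).LiesOver 𝔭 := ⟨by
      rw [Ideal.under_def, ← RingHom.ker_eq_comap_bot, Ideal.Quotient.algebraMap_eq, Ideal.mk_ker]⟩
    let e : (⊥ : Ideal (A ⧸ 𝔭)).Fiber (B ⧸ 𝔭.map (algebraMap A B))
        ≃ₐ[(⊥ : Ideal (A ⧸ 𝔭)).ResidueField] (⊥ : Ideal (A ⧸ 𝔭)).Fiber ((A ⧸ 𝔭) ⊗[A] B) :=
      Algebra.TensorProduct.congr AlgEquiv.refl
        (Algebra.TensorProduct.quotIdealMapEquivQuotTensor B 𝔭)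
    exact fiber_of_baseChange A B (A ⧸ 𝔭) 𝔭 ⊥
      (RegHom.geomRegular_of_algEquiv _ _ _ e hgen)

end Groth.Agent.Lib.Helper22.GRing
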