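import Mathlib
import Groth.Agent.Lib.Helper22.GRingY
import Groth.Agent.Lib.Helper5.FlatCohenE
import Groth.Agent.Lib.Helper5.RegHomComp
import Groth.Agent.Lib.Helper5.RegHomDescent
import Groth.Agent.Lib.Helper12.AnUnramD

/-!
# Formally smooth local homomorphisms over a local ring with regular completion map are regular
(helper22)
-/

set_option autoImplicit false
set_option linter.style.haveILetI false
set_option linter.unusedSectionVars false
universe u

namespace Groth.Agent.Lib.Helper22.GRing

open TensorProduct IsLocalRing
open Groth.Agent.Lib.Helper5 Groth.Agent.Lib.Helper12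

/-- if `A → Â` is regular and `A → B̂` is formally smooth, then `A → B` is regular. -/
theorem isRegularHom_of_adicSmooth_cpl (A B : Type u) [CommRing A] [CommRing B] [IsLocalRing A]
    [IsLocalRing B] [IsNoetherianRing A] [IsNoetherianRing B] [Algebra A B]
    [IsLocalHom (algebraMap A B)]
    (hA : CAlg.IsRegularHom A (AdicCompletion (maximalIdeal A) A))
    (h1 : CAlgX.IsAdicFormallySmooth A (AdicCompletion (maximalIdeal B) B)
      (maximalIdeal (AdicCompletion (maximalIdeal B) B))) :
    CAlg.IsRegularHom A B := by
  haveI hNA : IsNoetherianRing (AdicCompletion (maximalIdeal A) A) :=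
    Groth.Agent.Lib.helper19.isNoetherianRing_adicCompletion A _
  haveI hNB : IsNoetherianRing (AdicCompletion (maximalIdeal B) B) :=
    Groth.Agent.Lib.helper19.isNoetherianRing_adicCompletion B _
  have hψ := Groth.Agent.Lib.Helper19.ComplMap.complMap_comp A B
  letI : Algebra (AdicCompletion (maximalIdeal A) A) (AdicCompletion (maximalIdeal B) B) :=
    (Groth.Agent.Lib.Helper19.ComplMap.complMap A B).toAlgebra
  have halg : algebraMap (AdicCompletion (maximalIdeal A) A) (AdicCompletion (maximalIdeal B) B) =
      Groth.Agent.Lib.Helper19.ComplMap.complMap A B := RingHom.algebraMap_toAlgebra _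
  haveI htower : IsScalarTower A (AdicCompletion (maximalIdeal A) A)
      (AdicCompletion (maximalIdeal B) B) := by
    refine IsScalarTower.of_algebraMap_eq (fun a => ?_)
    rw [halg]
    have := congrArg (fun f : A →+* AdicCompletion (maximalIdeal B) B => f a) hψ
    simp only [RingHom.comp_apply] at this
    rw [this]
    rfl
  have hmapB : (maximalIdeal A).map (algebraMap A (AdicCompletion (maximalIdeal B) B)) ≤
      maximalIdeal (AdicCompletion (maximalIdeal B) B) := by
    rw [Ideal.map_le_iff_le_comap]
    intro a ha
    rw [Ideal.mem_comap]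
    have h1 : algebraMap A (AdicCompletion (maximalIdeal B) B) a =
        algebraMap B (AdicCompletion (maximalIdeal B) B) (algebraMap A B a) := rfl
    rw [h1, AdicCompletion.maximalIdeal_eq_map]
    apply Ideal.mem_map_of_mem
    exact map_nonunit (algebraMap A B) a ha
  haveI hloc : IsLocalHom (algebraMap (AdicCompletion (maximalIdeal A) A)
      (AdicCompletion (maximalIdeal B) B)) := by
    refine ((local_hom_TFAE _).out 0 2).2 ?_
    rw [AdicCompletion.maximalIdeal_eq_map (R := A), Ideal.map_map,
      ← IsScalarTower.algebraMap_eq]
    exact hmapB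
  have h2 : CAlgX.IsAdicFormallySmooth (AdicCompletion (maximalIdeal A) A)
      (AdicCompletion (maximalIdeal B) B) (maximalIdeal (AdicCompletion (maximalIdeal B) B)) :=
    ComplBase.adicSmooth_completion_of (maximalIdeal A) _ (IsNoetherian.noetherian _)
      ⟨1, by rw [pow_one]; exact hmapB⟩ h1
  haveI : IsAdicComplete (maximalIdeal (AdicCompletion (maximalIdeal A) A))
      (AdicCompletion (maximalIdeal A) A) := inferInstance
  haveI : IsAdicComplete (maximalIdeal (AdicCompletion (maximalIdeal B) B))
      (AdicCompletion (maximalIdeal B) B) := inferInstance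
  have h3 : CAlg.IsRegularHom (AdicCompletion (maximalIdeal A) A)
      (AdicCompletion (maximalIdeal B) B) := isRegularHom_of_adicSmooth _ _ h2
  have h4 : CAlg.IsRegularHom A (AdicCompletion (maximalIdeal B) B) :=
    RegHom.isRegularHom_comp A (AdicCompletion (maximalIdeal A) A)
      (AdicCompletion (maximalIdeal B) B) hA h3
      (fun p _ => Groth.Agent.Lib.Helper21.FlatLocal.isNoetherianRing_fiber p)
  haveI : Module.FaithfullyFlat B (AdicCompletion (maximalIdeal B) B) :=
    Groth.Agent.Lib.Helper12.AnUnram.faithfullyFlat_cpl B
  haveI : IsScalarTower A B (AdicCompletion (maximalIdeal B) B) :=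
    IsScalarTower.of_algebraMap_eq (fun _ => rfl)
  exact RegHom.isRegularHom_of_comp_faithfullyFlat A B (AdicCompletion (maximalIdeal B) B) h4

end Groth.Agent.Lib.Helper22.GRing
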