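import Mathlib
import Groth.Agent.Lib.Helper22.GPolyE
import Groth.Agent.Lib.Helper22.GRingE
import Groth.Agent.Lib.Helper5.AdicRegA
import Groth.Agent.Lib.Helper5.RegHomBC
import Groth.Agent.Lib.Helper5.RegHomBasic
import Groth.Agent.Lib.Helper12.AnUnramD
import Groth.Agent.Lib.Helper21.FlatLocal11
import Groth.Agent.S9314

/-!
# Polynomial rings over G-rings are G-rings (helper22)
-/

set_option autoImplicit false
set_option linter.style.haveILetI false
set_option linter.unusedSectionVars false
universe u

namespace Groth.Agent.Lib.Helper22.GRing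

open Polynomial TensorProduct IsLocalRing
open Groth.Agent.Lib.Helper5

/-- adic formal smoothness over `R` gives adic formal smoothness over a localization of `R` -/
theorem adicSmooth_of_isLocalization_base {R : Type u} [CommRing R] (M : Submonoid R)
    (Rₘ : Type u) [CommRing Rₘ] [Algebra R Rₘ] [IsLocalization M Rₘ]
    (C : Type u) [CommRing C] [Algebra R C] [Algebra Rₘ C] [IsScalarTower R Rₘ C] (I : Ideal C)
    (h : CAlgX.IsAdicFormallySmooth R C I) : CAlgX.IsAdicFormallySmooth Rₘ C I := by
  intro T _ _ J hJ ψ hψ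
  letI : Algebra R T := ((algebraMap Rₘ T).comp (algebraMap R Rₘ)).toAlgebra
  haveI : IsScalarTower R Rₘ T := IsScalarTower.of_algebraMap_eq' rfl
  obtain ⟨χ, hχ⟩ := h T J hJ (ψ.restrictScalars R) hψ
  have hcomm : ∀ x : Rₘ, χ (algebraMap Rₘ C x) = algebraMap Rₘ T x := by
    have : (χ.toRingHom.comp (algebraMap Rₘ C)) = algebraMap Rₘ T := by
      apply IsLocalization.ringHom_ext M
      ext r
      simp only [RingHom.comp_apply]
      rw [← IsScalarTower.algebraMap_apply R Rₘ C, ← IsScalarTower.algebraMap_apply R Rₘ T]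
      exact χ.commutes r
    exact fun x => RingHom.congr_fun this x
  refine ⟨{ χ.toRingHom with commutes' := hcomm }, ?_⟩
  ext c
  exact AlgHom.congr_fun hχ c

end Groth.Agent.Lib.Helper22.GRing
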