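import Mathlib
import Groth.Agent.Lib.Helper22.GPolyF

/-!
# Polynomial rings over G-rings are G-rings: the local statement (helper22)
-/

set_option autoImplicit false
set_option linter.style.haveILetI false
set_option linter.unusedSectionVars false
universe u

namespace Groth.Agent.Lib.Helper22.GRing

open Polynomial TensorProduct IsLocalRing
open Groth.Agent.Lib.Helper5

/-- the completion map of a local ring of `R[X]` is regular when `R` is a G-ring -/
theorem isRegularHom_cpl_polynomial (R : Type u) [CommRing R] (hR : CAlg.IsGRing R)
    (P : Ideal R[X]) [P.IsPrime] :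
    CAlg.IsRegularHom (Localization.AtPrime P) (EGA4.Cpl (Localization.AtPrime P)) := by
  haveI := hR.1
  haveI : IsNoetherianRing R[X] := inferInstance
  haveI hND : IsNoetherianRing (Localization.AtPrime P) :=
    IsLocalization.isNoetherianRing P.primeCompl _ inferInstance
  haveI hNC : IsNoetherianRing (EGA4.Cpl (Localization.AtPrime P)) :=
    Groth.Agent.Lib.helper19.isNoetherianRing_adicCompletion _ _
  haveI hp : (P.comap (algebraMap R R[X])).IsPrime := Ideal.comap_isPrime _ _
  haveI hNRp : IsNoetherianRing (Localization.AtPrime (P.comap (algebraMap R R[X]))) :=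
    IsLocalization.isNoetherianRing (P.comap (algebraMap R R[X])).primeCompl _ inferInstance
  letI algRpD : Algebra (Localization.AtPrime (P.comap (algebraMap R R[X])))
      (Localization.AtPrime P) :=
    (Localization.localRingHom (P.comap (algebraMap R R[X])) P (algebraMap R R[X]) rfl).toAlgebra
  haveI : IsLocalHom (algebraMap (Localization.AtPrime (P.comap (algebraMap R R[X])))
      (Localization.AtPrime P)) := Localization.isLocalHom_localRingHom _ _ _ rfl
  haveI : IsScalarTower R (Localization.AtPrime (P.comap (algebraMap R R[X])))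
      (Localization.AtPrime P) := IsScalarTower.of_algebraMap_eq (fun r => by
    change _ = Localization.localRingHom (P.comap (algebraMap R R[X])) P (algebraMap R R[X]) rfl
      (algebraMap R _ r)
    rw [Localization.localRingHom_to_map,
      ← IsScalarTower.algebraMap_apply R R[X] (Localization.AtPrime P)])
  haveI : IsScalarTower (Localization.AtPrime (P.comap (algebraMap R R[X])))
      (Localization.AtPrime P) (EGA4.Cpl (Localization.AtPrime P)) := inferInstance
  haveI : IsScalarTower R (Localization.AtPrime P) (EGA4.Cpl (Localization.AtPrime P)) :=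
    inferInstance
  haveI : IsScalarTower R[X] (Localization.AtPrime P) (EGA4.Cpl (Localization.AtPrime P)) :=
    inferInstance
  haveI : IsScalarTower R R[X] (EGA4.Cpl (Localization.AtPrime P)) :=
    inferInstance
  haveI : IsScalarTower R (Localization.AtPrime (P.comap (algebraMap R R[X])))
      (EGA4.Cpl (Localization.AtPrime P)) := IsScalarTower.of_algebraMap_eq (fun r => by
    rw [IsScalarTower.algebraMap_apply R (Localization.AtPrime P)
      (EGA4.Cpl (Localization.AtPrime P)),
      IsScalarTower.algebraMap_apply R (Localization.AtPrime (P.comap (algebraMap R R[X])))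
        (Localization.AtPrime P),
      ← IsScalarTower.algebraMap_apply (Localization.AtPrime (P.comap (algebraMap R R[X])))
        (Localization.AtPrime P) (EGA4.Cpl (Localization.AtPrime P))])
  haveI : IsLocalHom (algebraMap (Localization.AtPrime (P.comap (algebraMap R R[X])))
      (EGA4.Cpl (Localization.AtPrime P))) := by
    rw [IsScalarTower.algebraMap_eq (Localization.AtPrime (P.comap (algebraMap R R[X])))
      (Localization.AtPrime P) (EGA4.Cpl (Localization.AtPrime P))]
    infer_instance
  -- formal smoothness
  have hfs𝔸 := adicSmooth_cpl_localization R[X] P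
  have hfsR : CAlgX.IsAdicFormallySmooth R (EGA4.Cpl (Localization.AtPrime P))
      (maximalIdeal (EGA4.Cpl (Localization.AtPrime P))) :=
    AdicReg.adicSmooth_comp (R := R) (S := R[X]) _ hfs𝔸
  have hfsRp := adicSmooth_of_isLocalization_base (P.comap (algebraMap R R[X])).primeCompl
    (Localization.AtPrime (P.comap (algebraMap R R[X]))) (EGA4.Cpl (Localization.AtPrime P)) _ hfsR
  have hreg : CAlg.IsRegularHom (Localization.AtPrime (P.comap (algebraMap R R[X])))
      (EGA4.Cpl (Localization.AtPrime P)) :=
    Groth.Agent.S9314.result (hR.2 (P.comap (algebraMap R R[X]))) hfsRp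
  haveI : Module.FaithfullyFlat (Localization.AtPrime P) (EGA4.Cpl (Localization.AtPrime P)) :=
    Groth.Agent.Lib.Helper12.AnUnram.faithfullyFlat_cpl _
  refine ⟨inferInstance, fun 𝔮 h𝔮 =>
    ⟨Groth.Agent.Lib.Helper21.FlatLocal.isNoetherianRing_fiber 𝔮, ?_⟩⟩
  intro k' _ _ hfin
  haveI := hfin
  letI algDk' : Algebra (Localization.AtPrime P) k' :=
    ((algebraMap 𝔮.ResidueField k').comp (algebraMap (Localization.AtPrime P) _)).toAlgebra
  haveI : IsScalarTower (Localization.AtPrime P) 𝔮.ResidueField k' :=
    IsScalarTower.of_algebraMap_eq' rfl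
  letI algAk' : Algebra R[X] k' :=
    ((algebraMap (Localization.AtPrime P) k').comp
      (algebraMap R[X] (Localization.AtPrime P))).toAlgebra
  haveI : IsScalarTower R[X] (Localization.AtPrime P) k' := IsScalarTower.of_algebraMap_eq' rfl
  letI algRpk' : Algebra (Localization.AtPrime (P.comap (algebraMap R R[X]))) k' :=
    ((algebraMap (Localization.AtPrime P) k').comp
      (algebraMap (Localization.AtPrime (P.comap (algebraMap R R[X])))
        (Localization.AtPrime P))).toAlgebra
  haveI : IsScalarTower (Localization.AtPrime (P.comap (algebraMap R R[X])))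
      (Localization.AtPrime P) k' := IsScalarTower.of_algebraMap_eq' rfl
  letI algRk' : Algebra R k' := ((algebraMap R[X] k').comp (algebraMap R R[X])).toAlgebra
  haveI : IsScalarTower R R[X] k' := IsScalarTower.of_algebraMap_eq' rfl
  haveI : IsScalarTower R (Localization.AtPrime P) k' := IsScalarTower.of_algebraMap_eq (fun r => by
    rw [IsScalarTower.algebraMap_apply R R[X] k',
      IsScalarTower.algebraMap_apply R[X] (Localization.AtPrime P) k',
      ← IsScalarTower.algebraMap_apply R R[X] (Localization.AtPrime P)])
  haveI : IsScalarTower R (Localization.AtPrime (P.comap (algebraMap R R[X]))) k' :=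
    IsScalarTower.of_algebraMap_eq (fun r => by
      rw [IsScalarTower.algebraMap_apply R (Localization.AtPrime P) k',
        IsScalarTower.algebraMap_apply R (Localization.AtPrime (P.comap (algebraMap R R[X])))
          (Localization.AtPrime P),
        ← IsScalarTower.algebraMap_apply (Localization.AtPrime (P.comap (algebraMap R R[X])))
          (Localization.AtPrime P) k'])
  -- essential finiteness
  haveI : Algebra.EssFiniteType R[X] (Localization.AtPrime P) :=
    Algebra.EssFiniteType.of_isLocalization _ P.primeCompl
  haveI : Algebra.EssFiniteType R (Localization.AtPrime P) :=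
    Algebra.EssFiniteType.comp R R[X] _
  haveI : Algebra.EssFiniteType (Localization.AtPrime (P.comap (algebraMap R R[X])))
      (Localization.AtPrime P) := Algebra.EssFiniteType.of_comp R _ _
  haveI : Algebra.EssFiniteType (Localization.AtPrime P) k' :=
    Algebra.EssFiniteType.comp _ 𝔮.ResidueField k'
  haveI : Algebra.EssFiniteType (Localization.AtPrime (P.comap (algebraMap R R[X]))) k' :=
    Algebra.EssFiniteType.comp _ (Localization.AtPrime P) k'
  -- `k' ⊗[R_p] Ĉ` is regular
  have h1 : CAlg.IsRegularHom k' (k' ⊗[Localization.AtPrime (P.comap (algebraMap R R[X]))]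
      EGA4.Cpl (Localization.AtPrime P)) :=
    RegHom.isRegularHom_baseChange _ _ k' hreg
  haveI : IsNoetherianRing (EGA4.Cpl (Localization.AtPrime P)
      ⊗[Localization.AtPrime (P.comap (algebraMap R R[X]))] k') :=
    Algebra.EssFiniteType.isNoetherianRing (EGA4.Cpl (Localization.AtPrime P))
      (EGA4.Cpl (Localization.AtPrime P)
        ⊗[Localization.AtPrime (P.comap (algebraMap R R[X]))] k')
  haveI : IsNoetherianRing (k' ⊗[Localization.AtPrime (P.comap (algebraMap R R[X]))]
      EGA4.Cpl (Localization.AtPrime P)) :=
    isNoetherianRing_of_ringEquiv _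
      (Algebra.TensorProduct.comm (Localization.AtPrime (P.comap (algebraMap R R[X])))
        (EGA4.Cpl (Localization.AtPrime P)) k').toRingEquiv
  have h2 : IsRegularRing (k' ⊗[Localization.AtPrime (P.comap (algebraMap R R[X]))]
      EGA4.Cpl (Localization.AtPrime P)) :=
    RegHom.isRegularRing_of_isRegularHom k' _ h1
  -- pass to `R`
  let e₃ : k' ⊗[Localization.AtPrime (P.comap (algebraMap R R[X]))]
      EGA4.Cpl (Localization.AtPrime P) ≃ₐ[Localization.AtPrime (P.comap (algebraMap R R[X]))]
      k' ⊗[R] EGA4.Cpl (Localization.AtPrime P) :=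
    IsLocalization.algebraTensorEquiv (P.comap (algebraMap R R[X])).primeCompl
      (Localization.AtPrime (P.comap (algebraMap R R[X]))) k' (EGA4.Cpl (Localization.AtPrime P))
  have h3 : IsRegularRing (EGA4.Cpl (Localization.AtPrime P) ⊗[R] k') :=
    IsRegularRing.of_ringEquiv (R := k' ⊗[Localization.AtPrime (P.comap (algebraMap R R[X]))]
      EGA4.Cpl (Localization.AtPrime P))
      (e₃.toRingEquiv.trans (Algebra.TensorProduct.comm R k' _).toRingEquiv)
  -- the derivation trick
  have h4 : IsRegularRing (EGA4.Cpl (Localization.AtPrime P) ⊗[R[X]] k') :=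
    isRegularRing_tensor_polynomial_of_tensor R (EGA4.Cpl (Localization.AtPrime P)) hfs𝔸 k' h3
  -- back to the fibre
  let e₁ := Algebra.TensorProduct.cancelBaseChange (Localization.AtPrime P) 𝔮.ResidueField k' k'
    (EGA4.Cpl (Localization.AtPrime P))
  let e₂ := IsLocalization.algebraTensorEquiv P.primeCompl (Localization.AtPrime P) k'
    (EGA4.Cpl (Localization.AtPrime P))
  exact IsRegularRing.of_ringEquiv (R := EGA4.Cpl (Localization.AtPrime P) ⊗[R[X]] k')
    ((e₁.toRingEquiv.trans e₂.toRingEquiv).trans
      (Algebra.TensorProduct.comm R[X] k' _).toRingEquiv).symm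

end Groth.Agent.Lib.Helper22.GRing
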