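import Mathlib
import Groth.Agent.Lib.Helper22.GPolyG
import Groth.Agent.Lib.Helper22.GRingL
import Groth.Agent.Lib.Helper22.ExcLoc
import Groth.Agent.Lib.Helper5.RegHomIso

/-!
# Finite type algebras over G-rings are G-rings (helper22)
-/

set_option autoImplicit false
set_option linter.style.haveILetI false
set_option linter.unusedSectionVars false
universe u

namespace Groth.Agent.Lib.Helper22.GRing

open Polynomial TensorProduct IsLocalRing
open Groth.Agent.Lib.Helper5

/-- a polynomial ring over a G-ring is a G-ring -/
theorem isGRing_polynomial (R : Type u) [CommRing R] (hR : CAlg.IsGRing R) : CAlg.IsGRing R[X] := by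
  haveI := hR.1
  exact ⟨inferInstance, fun P _ => isRegularHom_cpl_polynomial R hR P⟩

/-- regularity of the completion map passes to local quotients -/
theorem isRegularHom_cpl_of_surjective (C E : Type u) [CommRing C] [CommRing E]
    [IsNoetherianRing C] [IsLocalRing C] [IsLocalRing E] [Algebra C E]
    (hsurj : Function.Surjective (algebraMap C E))
    (h : CAlg.IsRegularHom C (EGA4.Cpl C)) : CAlg.IsRegularHom E (EGA4.Cpl E) := by
  obtain ⟨e⟩ := nonempty_tensor_cpl_algEquiv_of_surjective C E hsurj
  haveI : Algebra.FiniteType C E := Algebra.FiniteType.of_surjective (Algebra.ofId C E) hsurj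
  have h1 := RegHom.isRegularHom_baseChange C (EGA4.Cpl C) E h
  exact RegHom.isRegularHom_of_algEquiv E _ _ e h1

/-- a quotient of a G-ring is a G-ring -/
theorem isGRing_quotient (R : Type u) [CommRing R] (hR : CAlg.IsGRing R) (I : Ideal R) :
    CAlg.IsGRing (R ⧸ I) := by
  haveI := hR.1
  refine ⟨inferInstance, fun P hP => ?_⟩
  haveI hp : (P.comap (algebraMap R (R ⧸ I))).IsPrime := Ideal.comap_isPrime _ _
  haveI : IsNoetherianRing (Localization.AtPrime (P.comap (algebraMap R (R ⧸ I)))) :=
    IsLocalization.isNoetherianRing (P.comap (algebraMap R (R ⧸ I))).primeCompl _ inferInstance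
  letI : Algebra (Localization.AtPrime (P.comap (algebraMap R (R ⧸ I)))) (Localization.AtPrime P) :=
    (Localization.localRingHom (P.comap (algebraMap R (R ⧸ I))) P (algebraMap R (R ⧸ I))
      rfl).toAlgebra
  have hsurj : Function.Surjective (algebraMap
      (Localization.AtPrime (P.comap (algebraMap R (R ⧸ I)))) (Localization.AtPrime P)) := by
    intro x
    obtain ⟨ab, sb, rfl⟩ := IsLocalization.exists_mk'_eq P.primeCompl x
    obtain ⟨a, rfl⟩ := Ideal.Quotient.mk_surjective ab
    obtain ⟨s, hs⟩ := Ideal.Quotient.mk_surjective (sb : R ⧸ I)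
    have hsp : s ∈ (P.comap (algebraMap R (R ⧸ I))).primeCompl := by
      intro hsp
      apply sb.2
      rw [← hs]
      exact hsp
    refine ⟨IsLocalization.mk' _ a
      (⟨s, hsp⟩ : (P.comap (algebraMap R (R ⧸ I))).primeCompl), ?_⟩
    change Localization.localRingHom (P.comap (algebraMap R (R ⧸ I))) P
      (algebraMap R (R ⧸ I)) rfl _ = _
    rw [Localization.localRingHom_mk']
    congr 1
    exact Subtype.ext hs
  exact isRegularHom_cpl_of_surjective _ _ hsurj (hR.2 (P.comap (algebraMap R (R ⧸ I))))

/-- the G-ring property is invariant under ring isomorphisms -/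
theorem isGRing_of_ringEquiv {R S : Type u} [CommRing R] [CommRing S] (e : R ≃+* S)
    (hR : CAlg.IsGRing R) : CAlg.IsGRing S := by
  letI : Algebra R S := e.toRingHom.toAlgebra
  haveI h0 : IsLocalization (⊥ : Submonoid R) R :=
    IsLocalization.self (fun x hx => by
      rw [Submonoid.mem_bot] at hx
      rw [hx]
      exact isUnit_one)
  haveI : IsLocalization (⊥ : Submonoid R) S :=
    IsLocalization.isLocalization_of_algEquiv (⊥ : Submonoid R)
      ({ e with commutes' := fun r => rfl } : R ≃ₐ[R] S)
  exact Groth.Agent.Lib.Helper22.ExcLoc.isGRing_of_isLocalization R hR ⊥ S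

/-- polynomial rings in finitely many variables over a G-ring are G-rings -/
theorem isGRing_mvPolynomial (R : Type u) [CommRing R] (hR : CAlg.IsGRing R) (n : ℕ) :
    CAlg.IsGRing (MvPolynomial (Fin n) R) := by
  induction n with
  | zero => exact isGRing_of_ringEquiv (MvPolynomial.isEmptyRingEquiv R (Fin 0)).symm hR
  | succ n ih =>
    exact isGRing_of_ringEquiv (MvPolynomial.finSuccEquiv R n).toRingEquiv.symm
      (isGRing_polynomial _ ih)

/-- **finite type algebras over G-rings are G-rings** -/
theorem isGRing_of_finiteType (R : Type u) [CommRing R] (hR : CAlg.IsGRing R) (S : Type u)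
    [CommRing S] [Algebra R S] [Algebra.FiniteType R S] : CAlg.IsGRing S := by
  obtain ⟨n, f, hf⟩ := Algebra.FiniteType.iff_quotient_mvPolynomial''.mp
    (inferInstance : Algebra.FiniteType R S)
  have h1 := isGRing_quotient _ (isGRing_mvPolynomial R hR n) (RingHom.ker f.toRingHom)
  exact isGRing_of_ringEquiv (RingHom.quotientKerEquivOfSurjective (f := f.toRingHom) hf) h1

end Groth.Agent.Lib.Helper22.GRing
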