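import Mathlib
import Groth.Agent.Lib.Helper22.GRingK

/-!
# Generic formal fibres of the local rings of a complete local domain (helper22)
-/

set_option autoImplicit false
set_option linter.style.haveILetI false
set_option linter.unusedSectionVars false
universe u

namespace Groth.Agent.Lib.Helper22.GRing

open TensorProduct IsLocalRing

/-- the generic formal fibre of a local ring of a complete local domain is geometrically regular -/
theorem geomRegular_generic_formalFibre (A : Type u) [CommRing A] [IsDomain A]
    [IsLocalRing A] [IsNoetherianRing A] [IsAdicComplete (maximalIdeal A) A]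
    (P : Ideal A) [P.IsPrime] :
    CAlg.IsGeometricallyRegular (⊥ : Ideal (Localization.AtPrime P)).ResidueField
      (EGA4.formalFibre (Localization.AtPrime P) (⊥ : Ideal (Localization.AtPrime P))) := by
  intro k' _ _ hfin
  haveI := hfin
  letI algAPk' : Algebra (Localization.AtPrime P) k' :=
    ((algebraMap (⊥ : Ideal (Localization.AtPrime P)).ResidueField k').comp
      (algebraMap (Localization.AtPrime P) _)).toAlgebra
  haveI : IsScalarTower (Localization.AtPrime P) (⊥ : Ideal (Localization.AtPrime P)).ResidueField
      k' := IsScalarTower.of_algebraMap_eq' rfl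
  letI algAk' : Algebra A k' :=
    ((algebraMap (Localization.AtPrime P) k').comp (algebraMap A (Localization.AtPrime P))).toAlgebra
  haveI : IsScalarTower A (Localization.AtPrime P) k' := IsScalarTower.of_algebraMap_eq' rfl
  haveI : IsScalarTower A (⊥ : Ideal (Localization.AtPrime P)).ResidueField k' :=
    IsScalarTower.of_algebraMap_eq (fun a => by
      change algebraMap _ k' (algebraMap (Localization.AtPrime P) _ (algebraMap A _ a)) = _
      rw [← IsScalarTower.algebraMap_apply A (Localization.AtPrime P)
        (⊥ : Ideal (Localization.AtPrime P)).ResidueField])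
  have hinjAP : Function.Injective (algebraMap A (Localization.AtPrime P)) :=
    IsLocalization.injective _ P.primeCompl_le_nonZeroDivisors
  have hinjκ : Function.Injective (algebraMap A (⊥ : Ideal (Localization.AtPrime P)).ResidueField) := by
    rw [IsScalarTower.algebraMap_eq A (Localization.AtPrime P)
      (⊥ : Ideal (Localization.AtPrime P)).ResidueField]
    exact (IsFractionRing.injective (Localization.AtPrime P) _).comp hinjAP
  have hinj : Function.Injective (algebraMap A k') := by
    rw [IsScalarTower.algebraMap_eq A (⊥ : Ideal (Localization.AtPrime P)).ResidueField k']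
    exact (algebraMap _ k').injective.comp hinjκ
  haveI : FaithfulSMul A k' := (faithfulSMul_iff_algebraMap_injective A k').mpr hinj
  haveI : FaithfulSMul A (⊥ : Ideal (Localization.AtPrime P)).ResidueField :=
    (faithfulSMul_iff_algebraMap_injective A _).mpr hinjκ
  letI : Algebra (FractionRing A) k' := FractionRing.liftAlgebra A k'
  haveI : IsScalarTower A (FractionRing A) k' := FractionRing.isScalarTower_liftAlgebra A k'
  letI : Algebra (FractionRing A) (⊥ : Ideal (Localization.AtPrime P)).ResidueField :=
    FractionRing.liftAlgebra A _
  haveI : IsScalarTower A (FractionRing A) (⊥ : Ideal (Localization.AtPrime P)).ResidueField :=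
    FractionRing.isScalarTower_liftAlgebra A _
  have hsurj : Function.Surjective
      (algebraMap (FractionRing A) (⊥ : Ideal (Localization.AtPrime P)).ResidueField) := by
    let F : Subfield (⊥ : Ideal (Localization.AtPrime P)).ResidueField :=
      (algebraMap (FractionRing A) (⊥ : Ideal (Localization.AtPrime P)).ResidueField).fieldRange
    have hA : ∀ a : A, algebraMap A (⊥ : Ideal (Localization.AtPrime P)).ResidueField a ∈ F :=
      fun a => ⟨algebraMap A (FractionRing A) a,
        (IsScalarTower.algebraMap_apply A (FractionRing A) _ a).symm⟩
    have hAP : ∀ x : Localization.AtPrime P,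
        algebraMap (Localization.AtPrime P) (⊥ : Ideal (Localization.AtPrime P)).ResidueField x ∈ F := by
      intro x
      obtain ⟨a, s, rfl⟩ := IsLocalization.exists_mk'_eq P.primeCompl x
      have hs0 : algebraMap A (⊥ : Ideal (Localization.AtPrime P)).ResidueField s ≠ 0 := by
        intro h0
        have : (s : A) = 0 := hinjκ (h0.trans (map_zero _).symm)
        exact s.2 (by rw [this]; exact zero_mem _)
      have h1 : algebraMap (Localization.AtPrime P) (⊥ : Ideal (Localization.AtPrime P)).ResidueField
          (IsLocalization.mk' _ a s) =
          algebraMap A (⊥ : Ideal (Localization.AtPrime P)).ResidueField a /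
            algebraMap A (⊥ : Ideal (Localization.AtPrime P)).ResidueField s := by
        rw [eq_div_iff hs0, IsScalarTower.algebraMap_apply A (Localization.AtPrime P)
          (⊥ : Ideal (Localization.AtPrime P)).ResidueField,
          IsScalarTower.algebraMap_apply A (Localization.AtPrime P)
          (⊥ : Ideal (Localization.AtPrime P)).ResidueField, ← map_mul, IsLocalization.mk'_spec]
      rw [h1]
      exact div_mem (hA a) (hA s)
    intro z
    obtain ⟨x, y, -, rfl⟩ := IsFractionRing.div_surjective (A := Localization.AtPrime P) z
    exact div_mem (hAP x) (hAP y)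
  haveI : Module.Finite (FractionRing A) (⊥ : Ideal (Localization.AtPrime P)).ResidueField :=
    Module.Finite.of_surjective (Algebra.linearMap (FractionRing A) _) hsurj
  haveI : IsScalarTower (FractionRing A) (⊥ : Ideal (Localization.AtPrime P)).ResidueField k' := by
    apply IsScalarTower.of_algebraMap_eq'
    apply IsLocalization.ringHom_ext (nonZeroDivisors A)
    ext a
    simp only [RingHom.comp_apply]
    rw [← IsScalarTower.algebraMap_apply A (FractionRing A) k',
      ← IsScalarTower.algebraMap_apply A (FractionRing A)
        (⊥ : Ideal (Localization.AtPrime P)).ResidueField,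
      ← IsScalarTower.algebraMap_apply A (⊥ : Ideal (Localization.AtPrime P)).ResidueField k']
  haveI : Module.Finite (FractionRing A) k' :=
    Module.Finite.trans (⊥ : Ideal (Localization.AtPrime P)).ResidueField k'
  have hreg : IsRegularRing (k' ⊗[A] EGA4.Cpl (Localization.AtPrime P)) :=
    isRegularRing_tensor_cpl_of_complete A P k' hinj
  haveI : IsScalarTower A (Localization.AtPrime P) (EGA4.Cpl (Localization.AtPrime P)) :=
    IsScalarTower.of_algebraMap_eq (fun _ => rfl)
  let e₁ :=
    Algebra.TensorProduct.cancelBaseChange (Localization.AtPrime P)
      (⊥ : Ideal (Localization.AtPrime P)).ResidueField k' k' (EGA4.Cpl (Localization.AtPrime P))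
  let e₂ : k' ⊗[Localization.AtPrime P] EGA4.Cpl (Localization.AtPrime P) ≃ₐ[Localization.AtPrime P]
      k' ⊗[A] EGA4.Cpl (Localization.AtPrime P) :=
    IsLocalization.algebraTensorEquiv P.primeCompl (Localization.AtPrime P) k'
      (EGA4.Cpl (Localization.AtPrime P))
  exact IsRegularRing.of_ringEquiv (R := k' ⊗[A] EGA4.Cpl (Localization.AtPrime P))
    (e₁.toRingEquiv.trans e₂.toRingEquiv).symm

end Groth.Agent.Lib.Helper22.GRing
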