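import Mathlib
import Groth.Agent.Lib.Helper12.CohenFinA
import Groth.Agent.Lib.Helper5.ComplKaehler
import Groth.Agent.Lib.Helper7.NoetherNormInt

/-!
# A dimension bound used for the Cohen–Macaulay version of EGA IV 7.5.1

If `A` is a complete Noetherian local domain, `A → B` a local homomorphism to a Noetherian local
ring with finite residue field extension, and `r` a prime of `B` over `0` such that the only prime
strictly above `r` is the maximal ideal, then `dim A ≤ 1`.
-/

set_option autoImplicit false
set_option linter.unusedSectionVars false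
set_option linter.style.haveILetI false
universe u

namespace Groth.Agent.Lib.Helper22.CMFib

open IsLocalRing

variable (A B : Type u) [CommRing A] [CommRing B] [IsDomain A] [IsNoetherianRing A] [IsLocalRing A]
  [IsAdicComplete (maximalIdeal A) A] [IsNoetherianRing B] [IsLocalRing B] [Algebra A B]
  [IsLocalHom (algebraMap A B)] [Module.Finite A (ResidueField B)]

set_option maxHeartbeats 800000 in
theorem ringKrullDim_le_one_of_forall_eq_maximalIdeal (hA : ¬ IsField A)
    (r : Ideal B) [hr : r.IsPrime] (hr0 : r.comap (algebraMap A B) = ⊥)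
    (h : ∀ r₁ : Ideal B, r₁.IsPrime → r < r₁ → r₁ = maximalIdeal B) :
    ringKrullDim A ≤ 1 := by
  -- the quotient domain
  let D := B ⧸ r
  haveI : IsDomain D := Ideal.Quotient.isDomain r
  haveI : IsLocalRing D :=
    IsLocalRing.of_surjective' (Ideal.Quotient.mk r) Ideal.Quotient.mk_surjective
  have hinj : Function.Injective (algebraMap A D) := by
    rw [injective_iff_map_eq_zero]
    intro a ha
    have h1 : algebraMap A D a = Ideal.Quotient.mk r (algebraMap A B a) := rfl
    rw [h1, Ideal.Quotient.eq_zero_iff_mem] at ha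
    have : a ∈ r.comap (algebraMap A B) := ha
    rwa [hr0, Ideal.mem_bot] at this
  -- `D` has dimension at most one
  have hmax : ∀ I : Ideal D, I ≠ ⊥ → I.IsPrime → I.IsMaximal := by
    intro I hI hIp
    have hsurj : Function.Surjective (Ideal.Quotient.mk r) := Ideal.Quotient.mk_surjective
    haveI : (I.comap (Ideal.Quotient.mk r)).IsPrime := Ideal.comap_isPrime _ _
    have hle : r ≤ I.comap (Ideal.Quotient.mk r) := by
      intro x hx
      rw [Ideal.mem_comap, Ideal.Quotient.eq_zero_iff_mem.mpr hx]
      exact I.zero_mem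
    have hne : r ≠ I.comap (Ideal.Quotient.mk r) := by
      intro heq
      apply hI
      rw [← Ideal.map_comap_of_surjective _ hsurj I, ← heq, Ideal.map_quotient_self]
    have h1 := h _ inferInstance (lt_of_le_of_ne hle hne)
    have h2 : I = (maximalIdeal B).map (Ideal.Quotient.mk r) := by
      rw [← h1, Ideal.map_comap_of_surjective _ hsurj]
    rw [h2]
    refine (Ideal.map_eq_top_or_isMaximal_of_surjective _ hsurj
      (maximalIdeal.isMaximal B)).resolve_left ?_
    rw [← h2]
    exact hIp.ne_top
  haveI hD1 : Ring.KrullDimLE 1 D := Ring.krullDimLE_one_iff_of_noZeroDivisors.mpr hmax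
  -- a nonzero element of the maximal ideal of `A`
  obtain ⟨t, htm, ht0⟩ : ∃ t ∈ maximalIdeal A, t ≠ 0 := by
    by_contra hcon
    push_neg at hcon
    apply hA
    rw [IsLocalRing.isField_iff_maximalIdeal_eq, eq_bot_iff]
    intro x hx
    exact (Ideal.mem_bot).mpr (hcon x hx)
  -- the closed fibre of `D` is Artinian
  set 𝔞 : Ideal D := (maximalIdeal A).map (algebraMap A D) with h𝔞
  haveI : IsLocalHom (algebraMap A D) := by
    constructor
    intro a ha
    have h1 : algebraMap A D a = Ideal.Quotient.mk r (algebraMap A B a) := rfl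
    rw [h1] at ha
    have h2 : IsUnit (algebraMap A B a) := by
      by_contra hnu
      have h3 : algebraMap A B a ∈ maximalIdeal B := hnu
      have h4 : Ideal.Quotient.mk r (algebraMap A B a) ∈ (maximalIdeal B).map (Ideal.Quotient.mk r) :=
        Ideal.mem_map_of_mem _ h3
      have h5 : (maximalIdeal B).map (Ideal.Quotient.mk r) ≠ ⊤ := by
        intro htop
        have h6 := Ideal.comap_map_of_surjective (Ideal.Quotient.mk r) Ideal.Quotient.mk_surjective
          (maximalIdeal B)
        rw [htop, Ideal.comap_top, ← RingHom.ker_eq_comap_bot, Ideal.mk_ker,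
          sup_eq_left.mpr (IsLocalRing.le_maximalIdeal hr.ne_top)] at h6
        exact (maximalIdeal.isMaximal B).ne_top h6.symm
      exact h5 (Ideal.eq_top_of_isUnit_mem _ h4 ha)
    exact IsLocalHom.map_nonunit a h2
  have h𝔞le : 𝔞 ≤ maximalIdeal D := by
    rw [h𝔞, Ideal.map_le_iff_le_comap]
    intro a ha
    exact (IsLocalRing.mem_maximalIdeal _).mpr
      (fun hu => ha (IsLocalHom.map_nonunit a hu))
  have hmin : maximalIdeal D ∈ 𝔞.minimalPrimes := by
    refine ⟨⟨inferInstance, h𝔞le⟩, fun P hP _ => ?_⟩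
    haveI := hP.1
    have hPne : P ≠ ⊥ := by
      intro hb
      have h1 : algebraMap A D t ∈ P := hP.2 (Ideal.mem_map_of_mem _ htm)
      rw [hb, Ideal.mem_bot] at h1
      exact ht0 (hinj (h1.trans (map_zero _).symm))
    have := hmax P hPne hP.1
    exact (IsLocalRing.eq_maximalIdeal this).ge
  haveI hArt : IsArtinianRing (D ⧸ 𝔞) :=
    IsLocalRing.quotient_artinian_of_mem_minimalPrimes_of_isLocalRing 𝔞 hmin
  -- finiteness of the closed fibre over `A`
  have hsurjBD : Function.Surjective (algebraMap B (D ⧸ 𝔞)) := by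
    intro z
    obtain ⟨d, rfl⟩ := Ideal.Quotient.mk_surjective z
    obtain ⟨b, rfl⟩ := Ideal.Quotient.mk_surjective d
    exact ⟨b, rfl⟩
  haveI : IsArtinian B (D ⧸ 𝔞) :=
    isArtinian_of_surjective_algebraMap (R := D ⧸ 𝔞) (S := B) (M := D ⧸ 𝔞) hsurjBD
  haveI : IsNoetherian B (D ⧸ 𝔞) :=
    isNoetherian_of_surjective (Algebra.linearMap B (D ⧸ 𝔞)) (LinearMap.range_eq_top.mpr hsurjBD)
  have hfl : IsFiniteLength B (D ⧸ 𝔞) :=
    isFiniteLength_iff_isNoetherian_isArtinian.mpr ⟨inferInstance, inferInstance⟩
  have hfinq : Module.Finite A (D ⧸ 𝔞) :=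
    Groth.Agent.Lib.Helper12.CohenFin.finite_of_isFiniteLength (Λ := A) (R := B) (D ⧸ 𝔞) hfl
  -- complete Nakayama
  have hle : ∀ n : ℕ, ((maximalIdeal A) ^ n • (⊤ : Submodule A D)) ≤
      ((maximalIdeal D) ^ n).restrictScalars A := by
    intro n
    rw [Submodule.smul_le]
    intro a ha b _
    change a • b ∈ (maximalIdeal D) ^ n
    rw [Algebra.smul_def]
    refine Ideal.mul_mem_right _ _ ?_
    have h1 : algebraMap A D a ∈ (Ideal.map (algebraMap A D) (maximalIdeal A)) ^ n := by
      rw [← Ideal.map_pow]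
      exact Ideal.mem_map_of_mem _ ha
    exact Ideal.pow_right_mono h𝔞le n h1
  haveI : IsHausdorff (maximalIdeal A) D := by
    refine ⟨fun x hx => ?_⟩
    have : x ∈ (⨅ n : ℕ, (maximalIdeal D) ^ n : Ideal D) := by
      rw [Ideal.mem_iInf]
      intro n
      have := hx n
      rw [SModEq.zero] at this
      exact hle n this
    rw [Ideal.iInf_pow_eq_bot_of_isLocalRing _ (maximalIdeal.isMaximal D).ne_top] at this
    simpa using this
  have hfin : Module.Finite A D := by
    refine Groth.Agent.Lib.Helper5.ComplKaehler.finite_of_finite_quotient (maximalIdeal A) (N := D) ?_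
    have h1 : (maximalIdeal A) • (⊤ : Submodule A D) = 𝔞.restrictScalars A :=
      Ideal.smul_top_eq_map _
    have e1 : (D ⧸ ((maximalIdeal A) • (⊤ : Submodule A D))) ≃ₗ[A] (D ⧸ 𝔞.restrictScalars A) :=
      Submodule.quotEquivOfEq _ _ h1
    have e2 : (D ⧸ 𝔞.restrictScalars A) ≃ₗ[A] (D ⧸ 𝔞) :=
      Submodule.Quotient.restrictScalarsEquiv A 𝔞
    exact Module.Finite.equiv (e1.trans e2).symm
  -- dimensions
  haveI : Algebra.IsIntegral A D := Algebra.IsIntegral.of_finite A D
  have hdim : ringKrullDim D = ringKrullDim A :=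
    Groth.Agent.Lib.Helper7.NNInt.ringKrullDim_eq_of_injective_isIntegral (algebraMap A D) hinj
      (algebraMap_isIntegral_iff.mpr inferInstance)
  rw [← hdim]
  exact Ring.krullDimLE_iff.mp hD1

end Groth.Agent.Lib.Helper22.CMFib
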