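import Mathlib
import Groth.Agent.Lib.Helper22.CMFibA
import Groth.Agent.Lib.helper19.CMClosed
import Groth.Agent.Lib.Helper7.CMLocusFF
import Groth.Agent.Lib.helper11.CanonFrac
import Groth.Agent.Lib.Helper12.CMCatD

/-!
# Cohen–Macaulay localizations: generization, and generic Cohen–Macaulayness of complete domains
-/

set_option autoImplicit false
set_option linter.unusedSectionVars false
set_option linter.style.haveILetI false
universe u

namespace Groth.Agent.Lib.Helper22.CMFib

open IsLocalRing

/-- The Cohen–Macaulay locus is stable under generization. -/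
theorem isCM_localization_of_le (B : Type u) [CommRing B] (r r₁ : Ideal B) [hr : r.IsPrime]
    [hr₁ : r₁.IsPrime] (hle : r ≤ r₁)
    [LocCoh.IsCohenMacaulayLocalRing (Localization.AtPrime r₁)] :
    LocCoh.IsCohenMacaulayLocalRing (Localization.AtPrime r) := by
  have hdisj : Disjoint (r₁.primeCompl : Set B) (r : Set B) := by
    rw [Set.disjoint_left]
    intro x hx hxr
    exact hx (hle hxr)
  set p' : Ideal (Localization.AtPrime r₁) := r.map (algebraMap B (Localization.AtPrime r₁))
    with hp'
  haveI : p'.IsPrime :=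
    IsLocalization.isPrime_of_isPrime_disjoint r₁.primeCompl (Localization.AtPrime r₁) _ hr hdisj
  have hcomap : p'.comap (algebraMap B (Localization.AtPrime r₁)) = r :=
    IsLocalization.comap_map_of_isPrime_disjoint r₁.primeCompl (Localization.AtPrime r₁) hr hdisj
  haveI := Groth.Agent.Lib.Helper19.CMClosed.isCM_localization (Localization.AtPrime r₁) p'
  let e := IsLocalization.localizationLocalizationAtPrimeIsoLocalization r₁.primeCompl p'
  haveI : LocCoh.IsCohenMacaulayLocalRing
      (Localization.AtPrime (p'.comap (algebraMap B (Localization r₁.primeCompl)))) :=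
    Groth.Agent.Lib.Helper7.FibreCM.isCM_of_ringEquiv e.symm.toRingEquiv
  exact (Groth.Agent.Lib.Helper7.CMLocusFF.isCM_localization_congr hcomap).mp inferInstance

/-- The generic point of a domain is a Cohen–Macaulay point. -/
theorem isCM_localization_bot (A : Type u) [CommRing A] [IsDomain A] [IsNoetherianRing A] :
    LocCoh.IsCohenMacaulayLocalRing (Localization.AtPrime (⊥ : Ideal A)) := by
  haveI : (⊥ : Ideal A).IsPrime := Ideal.isPrime_bot
  have hF : maximalIdeal (Localization.AtPrime (⊥ : Ideal A)) = ⊥ := by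
    rw [← Localization.AtPrime.map_eq_maximalIdeal, Ideal.map_bot]
  exact { supportDim_eq_depth :=
    Groth.Agent.Lib.Helper12.CMCat.isCM_of_maximalIdeal_eq_bot _ hF _ }

/-- In a complete Noetherian local domain the Cohen–Macaulay locus contains a nonempty basic
open set. -/
theorem exists_ne_zero_forall_isCM (A : Type u) [CommRing A] [IsDomain A] [IsNoetherianRing A]
    [IsLocalRing A] [IsAdicComplete (maximalIdeal A) A] :
    ∃ j : A, j ≠ 0 ∧ ∀ (P : Ideal A) [P.IsPrime], j ∉ P →
      LocCoh.IsCohenMacaulayLocalRing (Localization.AtPrime P) := by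
  have hopen := Groth.Agent.Lib.Helper7.CMLocusFF.isOpen_CM_locus_of_complete A
  have hbot : (⟨⊥, Ideal.isPrime_bot⟩ : PrimeSpectrum A) ∈ {q : PrimeSpectrum A |
      LocCoh.IsCohenMacaulayLocalRing (Localization.AtPrime q.asIdeal)} :=
    isCM_localization_bot A
  obtain ⟨v, ⟨j, rfl⟩, hjv, hjU⟩ :=
    PrimeSpectrum.isTopologicalBasis_basic_opens.exists_subset_of_mem_open hbot hopen
  refine ⟨j, ?_, fun P hP hjP => ?_⟩
  · intro h0
    apply hjv
    change j ∈ (⊥ : Ideal A)
    rw [h0]
    exact Ideal.zero_mem _
  · exact hjU (show (⟨P, hP⟩ : PrimeSpectrum A) ∈ (PrimeSpectrum.basicOpen j : Set _) from hjP)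

end Groth.Agent.Lib.Helper22.CMFib
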