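import Mathlib

/-!
# Noetherian domains with an open generic point have dimension at most one
-/

set_option autoImplicit false
set_option linter.style.haveILetI false
set_option linter.unusedSectionVars false
universe u

namespace Groth.Agent.Lib.Helper22.ClosedPt

/-- In a Noetherian domain, if a nonzero element `f` lies in every nonzero prime, then every
nonzero prime is minimal over `(f)`. -/
theorem mem_minimalPrimes_of_forall_mem {D : Type*} [CommRing D] [IsDomain D] [IsNoetherianRing D]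
    (f : D) (hf : f ≠ 0) (h : ∀ q : Ideal D, q.IsPrime → q ≠ ⊥ → f ∈ q)
    (q : Ideal D) [hq : q.IsPrime] (hq0 : q ≠ ⊥) : q ∈ (Ideal.span {f}).minimalPrimes := by
  classical
  by_contra hqM
  set M := (Ideal.span {f}).minimalPrimes with hM
  have hfin : M.Finite := Ideal.finite_minimalPrimes_of_isNoetherianRing D _
  have hfq : Ideal.span {f} ≤ q := (Ideal.span_singleton_le_iff_mem _).mpr (h q hq hq0)
  -- `q` is not contained in any member of `M`
  have hnot : ∀ P ∈ M, ¬ q ≤ P := by
    intro P hP hqP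
    have : P ≤ q := hP.2 ⟨hq, hfq⟩ hqP
    exact hqM ((le_antisymm hqP this) ▸ hP)
  -- prime avoidance
  have havoid : ¬ ((q : Set D) ⊆ ⋃ P ∈ M, (P : Set D)) := by
    intro hsub
    obtain ⟨P0, hP0, -⟩ := Ideal.exists_minimalPrimes_le hfq
    have := (Ideal.subset_union_prime_finite hfin (f := fun P : Ideal D => P) P0 P0
      (fun P hP _ _ => hP.1.1) (I := q)).mp hsub
    obtain ⟨P, hP, hqP⟩ := this
    exact hnot P hP hqP
  obtain ⟨g, hgq, hgM⟩ := Set.not_subset.mp havoid
  have hgM' : ∀ P ∈ M, g ∉ P := by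
    intro P hP hg
    exact hgM (Set.mem_iUnion₂.mpr ⟨P, hP, hg⟩)
  have hgq' : Ideal.span {g} ≤ q := (Ideal.span_singleton_le_iff_mem _).mpr hgq
  obtain ⟨q', hq', hq'q⟩ := Ideal.exists_minimalPrimes_le hgq'
  haveI hq'p : q'.IsPrime := hq'.1.1
  have hgq'' : g ∈ q' := hq'.1.2 (Ideal.mem_span_singleton_self g)
  have hht : q'.height ≤ 1 :=
    Ideal.height_le_one_of_isPrincipal_of_mem_minimalPrimes (Ideal.span {g}) q' hq'
  have hg0 : g ≠ 0 := by
    rintro rfl
    obtain ⟨P0, hP0, -⟩ := Ideal.exists_minimalPrimes_le hfq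
    exact hgM' P0 hP0 (zero_mem _)
  have hq'0 : q' ≠ ⊥ := by
    intro hb
    rw [hb, Ideal.mem_bot] at hgq''
    exact hg0 hgq''
  have hfq' : Ideal.span {f} ≤ q' := (Ideal.span_singleton_le_iff_mem _).mpr (h q' hq'p hq'0)
  obtain ⟨P, hP, hPq'⟩ := Ideal.exists_minimalPrimes_le hfq'
  haveI hPp : P.IsPrime := hP.1.1
  have hP0 : P ≠ ⊥ := by
    intro hb
    have : f ∈ P := hP.1.2 (Ideal.mem_span_singleton_self f)
    rw [hb, Ideal.mem_bot] at this
    exact hf this
  have hPeq : P = q' := by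
    by_contra hne
    have hlt : P < q' := lt_of_le_of_ne hPq' hne
    have h1 := Ideal.height_add_one_le_of_lt_of_isPrime hlt
    have h2 : P.height + 1 ≤ 1 := h1.trans hht
    have h3 : P.height = 0 := by
      have hnt : P.height ≠ ⊤ := Ideal.height_ne_top_of_isPrime
      have := (ENat.add_one_le_iff hnt).mp h2
      exact ENat.lt_one_iff_eq_zero.mp this
    exact hP0 (Ideal.height_eq_zero_iff_eq_bot.mp h3)
  exact hgM' P hP (hPeq ▸ hgq'')

/-- In a Noetherian domain, if a nonzero element `f` lies in every nonzero prime, then every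
nonzero prime is maximal. -/
theorem isMaximal_of_forall_mem {D : Type*} [CommRing D] [IsDomain D] [IsNoetherianRing D]
    (f : D) (hf : f ≠ 0) (h : ∀ q : Ideal D, q.IsPrime → q ≠ ⊥ → f ∈ q)
    (q : Ideal D) [hq : q.IsPrime] (hq0 : q ≠ ⊥) : q.IsMaximal := by
  obtain ⟨m, hm, hqm⟩ := Ideal.exists_le_maximal q hq.ne_top
  haveI := hm.isPrime
  have hm0 : m ≠ ⊥ := fun hb => hq0 (le_bot_iff.mp (hb ▸ hqm))
  have hmM := mem_minimalPrimes_of_forall_mem f hf h m hm0
  have hfq : Ideal.span {f} ≤ q := (Ideal.span_singleton_le_iff_mem _).mpr (h q hq hq0)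
  have : m ≤ q := hmM.2 ⟨hq, hfq⟩ hqm
  exact (le_antisymm hqm this) ▸ hm

/-- In the spectrum of a Noetherian ring, if a point `a` is open in its closure, then every
proper specialization of `a` is a closed point. -/
theorem isMaximal_of_specializes {R : Type*} [CommRing R] [IsNoetherianRing R]
    (a : PrimeSpectrum R) (O : Set (PrimeSpectrum R)) (hO : IsOpen O) (haO : a ∈ O)
    (hO' : ∀ d ∈ O, a ⤳ d → d = a) (b : PrimeSpectrum R) (hab : a ⤳ b) (hne : b ≠ a) :
    b.asIdeal.IsMaximal := by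
  obtain ⟨v, ⟨f, rfl⟩, haf, hfO⟩ :=
    PrimeSpectrum.isTopologicalBasis_basic_opens.exists_subset_of_mem_open haO hO
  have hfa : f ∉ a.asIdeal := haf
  have hsurj : Function.Surjective (Ideal.Quotient.mk a.asIdeal) := Ideal.Quotient.mk_surjective
  have hf0 : Ideal.Quotient.mk a.asIdeal f ≠ 0 := by
    rwa [Ne, Ideal.Quotient.eq_zero_iff_mem]
  have hall : ∀ q : Ideal (R ⧸ a.asIdeal), q.IsPrime → q ≠ ⊥ →
      Ideal.Quotient.mk a.asIdeal f ∈ q := by
    intro q hq hq0
    let d : PrimeSpectrum R := ⟨q.comap (Ideal.Quotient.mk a.asIdeal), inferInstance⟩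
    have had : a ⤳ d := by
      rw [← PrimeSpectrum.le_iff_specializes]
      change a.asIdeal ≤ q.comap (Ideal.Quotient.mk a.asIdeal)
      intro x hx
      rw [Ideal.mem_comap, Ideal.Quotient.eq_zero_iff_mem.mpr hx]
      exact zero_mem _
    have hda : d ≠ a := by
      intro hda
      apply hq0
      have h1 : q.comap (Ideal.Quotient.mk a.asIdeal) = a.asIdeal :=
        congrArg PrimeSpectrum.asIdeal hda
      rw [← Ideal.map_comap_of_surjective _ hsurj q, h1, Ideal.map_quotient_self]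
    have hdO : d ∉ O := fun hd => hda (hO' d hd had)
    have hdf : d ∉ (PrimeSpectrum.basicOpen f : Set (PrimeSpectrum R)) := fun hd => hdO (hfO hd)
    have : f ∈ d.asIdeal := by
      by_contra hfd
      exact hdf hfd
    exact this
  have hle : a.asIdeal ≤ b.asIdeal := (PrimeSpectrum.le_iff_specializes a b).mpr hab
  have hker : RingHom.ker (Ideal.Quotient.mk a.asIdeal) ≤ b.asIdeal := by
    rw [Ideal.mk_ker]; exact hle
  haveI hbp : (b.asIdeal.map (Ideal.Quotient.mk a.asIdeal)).IsPrime :=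
    Ideal.map_isPrime_of_surjective hsurj hker
  have hcm : (b.asIdeal.map (Ideal.Quotient.mk a.asIdeal)).comap (Ideal.Quotient.mk a.asIdeal) =
      b.asIdeal := by
    rw [Ideal.comap_map_of_surjective _ hsurj, ← RingHom.ker_eq_comap_bot]
    exact sup_eq_left.mpr hker
  have hb0 : b.asIdeal.map (Ideal.Quotient.mk a.asIdeal) ≠ ⊥ := by
    intro hb
    apply hne
    apply PrimeSpectrum.ext
    rw [← hcm, hb, ← RingHom.ker_eq_comap_bot, Ideal.mk_ker]
  haveI := isMaximal_of_forall_mem _ hf0 hall (b.asIdeal.map (Ideal.Quotient.mk a.asIdeal)) hb0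
  rw [← hcm]
  exact Ideal.comap_isMaximal_of_surjective _ hsurj

end Groth.Agent.Lib.Helper22.ClosedPt
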