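import Mathlib
import Groth.Agent.Lib.Helper22.CMFibB
import Groth.Agent.Lib.Helper22.ClosedPtA
import Groth.Agent.Lib.Helper21.FlatLocal11

/-!
# The generic fibre step for the Cohen–Macaulay version of EGA IV 7.5.1
-/

set_option autoImplicit false
set_option linter.unusedSectionVars false
set_option linter.style.haveILetI false
universe u

namespace Groth.Agent.Lib.Helper22.CMFib

open IsLocalRing TensorProduct

variable (A B : Type u) [CommRing A] [CommRing B] [IsDomain A] [IsNoetherianRing A] [IsLocalRing A]
  [IsAdicComplete (maximalIdeal A) A] [IsNoetherianRing B] [IsLocalRing B] [Algebra A B]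
  [IsLocalHom (algebraMap A B)] [Module.Flat A B]
  [Module.Finite A (ResidueField B)]

set_option maxHeartbeats 800000 in
/-- If all fibres of `A → B` over nonzero primes are Cohen–Macaulay, then the local rings of `B` at
the points of the generic fibre are Cohen–Macaulay. -/
theorem isCM_localization_of_comap_eq_bot (hA : ¬ IsField A)
    (hfib : ∀ (P : Ideal A) [P.IsPrime], P ≠ ⊥ → LocCoh.IsCohenMacaulayRing (P.Fiber B))
    (r : Ideal B) [hr : r.IsPrime] (hr0 : r.comap (algebraMap A B) = ⊥) :
    LocCoh.IsCohenMacaulayLocalRing (Localization.AtPrime r) := by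
  obtain ⟨j, hj0, hj⟩ := exists_ne_zero_forall_isCM A
  have key : ∀ r : Ideal B, ∀ hrp : r.IsPrime, r.comap (algebraMap A B) = ⊥ →
      LocCoh.IsCohenMacaulayLocalRing (Localization.AtPrime r) := by
    intro r
    induction r using WellFoundedGT.induction with
    | ind r ih =>
      intro hrp hr0
      haveI := hrp
      suffices h : ∃ r₁ : Ideal B, ∃ _ : r₁.IsPrime, r ≤ r₁ ∧
          LocCoh.IsCohenMacaulayLocalRing (Localization.AtPrime r₁) by
        obtain ⟨r₁, hr₁, hle, hcm⟩ := h
        exact isCM_localization_of_le B r r₁ hle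
      have step : ∀ (r₁ : Ideal B) (hr₁ : r₁.IsPrime), r < r₁ →
          (∀ hP : (r₁.comap (algebraMap A B)).IsPrime, LocCoh.IsCohenMacaulayLocalRing
            (Localization.AtPrime (r₁.comap (algebraMap A B)))) →
          LocCoh.IsCohenMacaulayLocalRing (Localization.AtPrime r₁) := by
        intro r₁ hr₁ hlt hcmA
        by_cases hP : r₁.comap (algebraMap A B) = ⊥
        · exact ih r₁ hlt hr₁ hP
        · haveI hPp : (r₁.comap (algebraMap A B)).IsPrime := Ideal.comap_isPrime _ _
          have hF := hfib (r₁.comap (algebraMap A B)) hP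
          obtain ⟨Q, hQ, hQr⟩ := Groth.Agent.Lib.Helper21.FlatLocal.exists_fiber_prime
            (r₁.comap (algebraMap A B)) r₁ rfl
          have key := Groth.Agent.Lib.Helper7.CMLocusFF.isCM_localization_iff_of_fibre_CM
            (A := A) (B := B) (r₁.comap (algebraMap A B)) hF Q
          have h1 := key.mpr (hcmA hPp)
          exact (Groth.Agent.Lib.Helper7.CMLocusFF.isCM_localization_congr hQr.symm).mp h1
      have hjr : algebraMap A B j ∉ r := by
        intro hmem
        have : j ∈ r.comap (algebraMap A B) := hmem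
        rw [hr0, Ideal.mem_bot] at this
        exact hj0 this
      by_cases hb : ∃ r₁ : Ideal B, r₁.IsPrime ∧ r < r₁ ∧ algebraMap A B j ∉ r₁
      · obtain ⟨r₁, hr₁, hlt, hjr₁⟩ := hb
        exact ⟨r₁, hr₁, hlt.le, step r₁ hr₁ hlt (fun hP => hj _ (fun hjm => hjr₁ hjm))⟩
      · push_neg at hb
        have hmaxall : ∀ r₁ : Ideal B, r₁.IsPrime → r < r₁ → r₁ = maximalIdeal B := by
          intro r₁ hr₁ hlt
          have hmax := Groth.Agent.Lib.Helper22.ClosedPt.isMaximal_of_specializes
            (⟨r, hrp⟩ : PrimeSpectrum B) (PrimeSpectrum.basicOpen (algebraMap A B j) : Set _)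
            (PrimeSpectrum.basicOpen (algebraMap A B j)).isOpen hjr
            (fun d hd hsp => by
              by_contra hne
              have hle : r ≤ d.asIdeal := (PrimeSpectrum.le_iff_specializes ⟨r, hrp⟩ d).mpr hsp
              have hlt' : r < d.asIdeal := lt_of_le_of_ne hle (fun h => hne (PrimeSpectrum.ext h.symm))
              exact hd (hb d.asIdeal d.2 hlt'))
            ⟨r₁, hr₁⟩ ((PrimeSpectrum.le_iff_specializes ⟨r, hrp⟩ ⟨r₁, hr₁⟩).mp hlt.le)
            (fun h => hlt.ne (congrArg PrimeSpectrum.asIdeal h).symm)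
          exact IsLocalRing.eq_maximalIdeal hmax
        have hdim := ringKrullDim_le_one_of_forall_eq_maximalIdeal A B hA r hr0 hmaxall
        have hdim1 : ringKrullDim A = 1 := by
          have : ¬ ringKrullDim A ≤ 0 := fun h => by
            have : Ring.KrullDimLE 0 A := Ring.krullDimLE_iff.mpr h
            exact hA Ring.KrullDimLE.isField_of_isDomain
          exact le_antisymm hdim (Order.succ_le_of_lt (lt_of_not_ge this))
        haveI hAcm : LocCoh.IsCohenMacaulayLocalRing A :=
          Groth.Agent.Lib.helper11.CanonFrac.isCohenMacaulayLocalRing_of_dim_one hdim1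
        have hlt : r < maximalIdeal B := by
          refine lt_of_le_of_ne (IsLocalRing.le_maximalIdeal hrp.ne_top) (fun h => hA ?_)
          rw [IsLocalRing.isField_iff_maximalIdeal_eq, ← hr0, h]
          have h4 : (maximalIdeal B).comap (algebraMap A B) = maximalIdeal A :=
            ((IsLocalRing.local_hom_TFAE (algebraMap A B)).out 0 4).mp
              ‹IsLocalHom (algebraMap A B)›
          exact h4.symm
        exact ⟨maximalIdeal B, inferInstance, hlt.le, step _ inferInstance hlt
          (fun hP => Groth.Agent.Lib.Helper19.CMClosed.isCM_localization A _)⟩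
  exact key r hr hr0

end Groth.Agent.Lib.Helper22.CMFib
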