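import Mathlib
import Groth.Agent.Lib.Helper22.CMFibC

/-!
# The generic fibre of `A → B` is Cohen–Macaulay (complete local domain `A`)
-/

set_option autoImplicit false
set_option linter.unusedSectionVars false
set_option linter.style.haveILetI false
universe u

namespace Groth.Agent.Lib.Helper22.CMFib

open IsLocalRing TensorProduct

variable (A B : Type u) [CommRing A] [CommRing B] [IsDomain A] [IsNoetherianRing A] [IsLocalRing A]
  [IsAdicComplete (maximalIdeal A) A] [IsNoetherianRing B] [IsLocalRing B] [Algebra A B]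
  [IsLocalHom (algebraMap A B)] [Module.Flat A B]
  [Module.Finite A (ResidueField B)]

theorem isCM_fiber_bot (hA : ¬ IsField A)
    (hfib : ∀ (P : Ideal A) [P.IsPrime], P ≠ ⊥ → LocCoh.IsCohenMacaulayRing (P.Fiber B))
    [(⊥ : Ideal A).IsPrime] :
    LocCoh.IsCohenMacaulayRing ((⊥ : Ideal A).Fiber B) := by
  haveI := Groth.Agent.Lib.Helper21.FlatLocal.isNoetherianRing_fiber (S := B) (⊥ : Ideal A)
  refine ⟨fun Q hQ => ?_⟩
  set r : Ideal B := Q.comap (Algebra.TensorProduct.includeRight : B →ₐ[A] (⊥ : Ideal A).Fiber B)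
    with hr
  haveI : r.IsPrime := Ideal.comap_isPrime _ _
  have hr0 : r.comap (algebraMap A B) = ⊥ := by
    haveI := Groth.Agent.Lib.Helper21.FlatLocal.comap_includeRight_liesOver (⊥ : Ideal A) Q
    exact (Ideal.over_def r (⊥ : Ideal A)).symm
  haveI := isCM_localization_of_comap_eq_bot A B hA hfib r hr0
  let e := Ideal.Fiber.algEquivAux₂ (⊥ : Ideal A) Q
  have hbot : ((⊥ : Ideal A).map (algebraMap A B)).map
      (algebraMap B (Localization.AtPrime r)) = ⊥ := by
    rw [Ideal.map_bot, Ideal.map_bot]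
  let e2 := (Ideal.quotEquivOfEq hbot).trans (RingEquiv.quotientBot (Localization.AtPrime r))
  exact Groth.Agent.Lib.Helper7.FibreCM.isCM_of_ringEquiv (e.toRingEquiv.trans e2).symm

end Groth.Agent.Lib.Helper22.CMFib
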