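import Mathlib
import Groth.Agent.Lib.Helper22.CMFibD
import Groth.Agent.Lib.Helper21.CMKit
import Groth.Agent.Lib.Helper5.FlatCohenD

/-!
# Cohen–Macaulay fibres of a flat local homomorphism from a complete local ring (EGA IV 7.5.1)
-/

set_option autoImplicit false
set_option linter.unusedSectionVars false
set_option linter.style.haveILetI false
universe u

namespace Groth.Agent.Lib.Helper22.CMFib

open IsLocalRing TensorProduct

section Transfer

variable (A B : Type u) [CommRing A] [CommRing B] [Algebra A B]

/-- Fibres of `A/p → (A/p) ⊗_A B` are fibres of `A → B`. -/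
theorem nonempty_fiber_ringEquiv (p : Ideal A) (P1 : Ideal (A ⧸ p)) [P1.IsPrime]
    (q : Ideal A) [q.IsPrime] (hq : q = P1.comap (Ideal.Quotient.mk p)) :
    Nonempty (q.Fiber B ≃+* P1.Fiber ((A ⧸ p) ⊗[A] B)) := by
  subst hq
  let f : (P1.comap (Ideal.Quotient.mk p)).ResidueField →ₐ[A] P1.ResidueField :=
    Ideal.ResidueField.mapₐ (P1.comap (Ideal.Quotient.mk p)) P1 (Ideal.Quotient.mkₐ A p) rfl
  have hf : Function.Bijective f :=
    RingHom.SurjectiveOnStalks.residueFieldMap_bijective
      (RingHom.surjectiveOnStalks_of_surjective Ideal.Quotient.mk_surjective)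
      (P1.comap (Ideal.Quotient.mk p)) P1 rfl
  let ef : (P1.comap (Ideal.Quotient.mk p)).ResidueField ≃ₐ[A] P1.ResidueField :=
    AlgEquiv.ofBijective f hf
  let e2 : P1.ResidueField ⊗[A ⧸ p] ((A ⧸ p) ⊗[A] B) ≃ₐ[P1.ResidueField]
      P1.ResidueField ⊗[A] B :=
    Algebra.TensorProduct.cancelBaseChange A (A ⧸ p) P1.ResidueField P1.ResidueField B
  let e3 : (P1.comap (Ideal.Quotient.mk p)).ResidueField ⊗[A] B ≃ₐ[A] P1.ResidueField ⊗[A] B :=
    Algebra.TensorProduct.congr ef AlgEquiv.refl
  exact ⟨e3.toRingEquiv.trans e2.symm.toRingEquiv⟩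

end Transfer

section Main

variable (A B : Type u) [CommRing A] [CommRing B] [IsNoetherianRing A] [IsLocalRing A]
  [IsAdicComplete (maximalIdeal A) A] [IsNoetherianRing B] [IsLocalRing B] [Algebra A B]
  [IsLocalHom (algebraMap A B)] [Module.Flat A B] [Module.Finite A (ResidueField B)]

set_option maxHeartbeats 1600000 in
/-- The induction step. -/
theorem isCM_fiber_step (p : Ideal A) [hp : p.IsPrime] (hpm : p ≠ maximalIdeal A)
    (ih : ∀ (q : Ideal A) [q.IsPrime], p < q → LocCoh.IsCohenMacaulayRing (q.Fiber B)) :
    LocCoh.IsCohenMacaulayRing (p.Fiber B) := by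
  let A1 := A ⧸ p
  let B1 := A1 ⊗[A] B
  haveI : IsDomain A1 := Ideal.Quotient.isDomain p
  haveI : IsLocalRing A1 :=
    IsLocalRing.of_surjective' (Ideal.Quotient.mk p) Ideal.Quotient.mk_surjective
  haveI : IsAdicComplete (maximalIdeal A1) A1 :=
    Groth.Agent.Lib.Helper5.FlatCohen.isAdicComplete_quotient p
  -- `B1` is a quotient of `B`
  let ι : B →ₐ[A] B1 := Algebra.TensorProduct.includeRight
  have hsurj : Function.Surjective ι :=
    TensorProduct.mk_surjective A B A1 Ideal.Quotient.mk_surjective
  haveI : IsNoetherianRing B1 := isNoetherianRing_of_surjective B B1 ι.toRingHom hsurj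
  -- nontriviality
  have hpm' : p ≤ maximalIdeal A := IsLocalRing.le_maximalIdeal hp.ne_top
  let g1 : A1 →ₐ[A] ResidueField B :=
    Ideal.Quotient.liftₐ p (Algebra.ofId A (ResidueField B)) (fun a ha => by
      change algebraMap A (ResidueField B) a = 0
      rw [IsScalarTower.algebraMap_apply A B (ResidueField B)]
      refine (IsLocalRing.residue_eq_zero_iff _).mpr ?_
      exact (IsLocalRing.mem_maximalIdeal _).mpr (fun hu =>
        (IsLocalRing.mem_maximalIdeal a).mp (hpm' ha) (isUnit_of_map_unit (algebraMap A B) a hu)))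
  let g : B1 →ₐ[A] ResidueField B :=
    Algebra.TensorProduct.lift g1 (IsScalarTower.toAlgHom A B (ResidueField B))
      (fun _ _ => Commute.all _ _)
  haveI : Nontrivial B1 := g.toRingHom.domain_nontrivial
  haveI : IsLocalRing B1 := IsLocalRing.of_surjective' ι.toRingHom hsurj
  haveI hιloc : IsLocalHom ι.toRingHom := IsLocalHom.of_surjective ι.toRingHom hsurj
  haveI : IsLocalHom (algebraMap A1 B1) := by
    constructor
    intro a1 ha1
    obtain ⟨a, rfl⟩ := Ideal.Quotient.mk_surjective a1
    have h1 : algebraMap A1 B1 (Ideal.Quotient.mk p a) = ι.toRingHom (algebraMap A B a) := by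
      change algebraMap A1 B1 (algebraMap A A1 a) = ι (algebraMap A B a)
      rw [← IsScalarTower.algebraMap_apply A A1 B1, AlgHom.commutes]
    rw [h1] at ha1
    have h2 : IsUnit (algebraMap A B a) := isUnit_of_map_unit ι.toRingHom _ ha1
    exact (isUnit_of_map_unit (algebraMap A B) a h2).map _
  -- residue field
  haveI : Module.Finite A1 (ResidueField B1) := by
    haveI : Module.Finite A (ResidueField B1) := by
      let φ : ResidueField B →ₐ[A] ResidueField B1 :=
        { IsLocalRing.ResidueField.map ι.toRingHom with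
          commutes' := fun a => by
            change IsLocalRing.ResidueField.map ι.toRingHom
              (IsLocalRing.residue B (algebraMap A B a)) = _
            rw [IsLocalRing.ResidueField.map_residue]
            change IsLocalRing.residue B1 (ι (algebraMap A B a)) = _
            rw [AlgHom.commutes]
            rfl }
      have hφ : Function.Surjective φ := by
        intro z
        obtain ⟨b1, rfl⟩ := IsLocalRing.residue_surjective z
        obtain ⟨b, rfl⟩ := hsurj b1
        exact ⟨IsLocalRing.residue B b, IsLocalRing.ResidueField.map_residue ι.toRingHom b⟩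
      exact Module.Finite.of_surjective φ.toLinearMap hφ
    exact Module.Finite.of_restrictScalars_finite A A1 (ResidueField B1)
  -- not a field
  have hA1 : ¬ IsField A1 := by
    intro hF
    have := Ideal.Quotient.maximal_of_isField p hF
    exact hpm (IsLocalRing.eq_maximalIdeal this)
  -- the fibres over nonzero primes
  have hfib : ∀ (P1 : Ideal A1) [P1.IsPrime], P1 ≠ ⊥ → LocCoh.IsCohenMacaulayRing (P1.Fiber B1) := by
    intro P1 _ hP1
    set q : Ideal A := P1.comap (Ideal.Quotient.mk p) with hq
    haveI : q.IsPrime := Ideal.comap_isPrime _ _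
    have hpq : p < q := by
      refine lt_of_le_of_ne ?_ ?_
      · intro a ha
        show Ideal.Quotient.mk p a ∈ P1
        rw [Ideal.Quotient.eq_zero_iff_mem.2 ha]
        exact zero_mem _
      · intro heq
        apply hP1
        rw [eq_bot_iff]
        intro a1 ha1
        obtain ⟨a, rfl⟩ := Ideal.Quotient.mk_surjective a1
        have : a ∈ q := ha1
        rw [← heq] at this
        exact Ideal.Quotient.eq_zero_iff_mem.2 this
    obtain ⟨E⟩ := nonempty_fiber_ringEquiv A B p P1 q rfl
    haveI := Groth.Agent.Lib.Helper21.FlatLocal.isNoetherianRing_fiber (R := A) (S := B) q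
    haveI := Groth.Agent.Lib.Helper21.FlatLocal.isNoetherianRing_fiber (R := A1) (S := B1) P1
    exact Groth.Agent.Lib.Helper21.CMKit.isCM_of_ringEquiv E (ih q hpq)
  haveI : (⊥ : Ideal A1).IsPrime := Ideal.isPrime_bot
  have hbot := isCM_fiber_bot A1 B1 hA1 hfib
  have hpeq : p = (⊥ : Ideal A1).comap (Ideal.Quotient.mk p) := by
    rw [← RingHom.ker_eq_comap_bot, Ideal.mk_ker]
  obtain ⟨E⟩ := nonempty_fiber_ringEquiv A B p (⊥ : Ideal A1) p hpeq
  haveI := Groth.Agent.Lib.Helper21.FlatLocal.isNoetherianRing_fiber (R := A) (S := B) p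
  haveI := Groth.Agent.Lib.Helper21.FlatLocal.isNoetherianRing_fiber (R := A1) (S := B1)
    (⊥ : Ideal A1)
  exact Groth.Agent.Lib.Helper21.CMKit.isCM_of_ringEquiv E.symm hbot

/-- **EGA IV 7.5.1 for the property Cohen–Macaulay** (complete base): if the closed fibre of a flat
local homomorphism `A → B` of Noetherian local rings, with `A` complete and finite residue field
extension, is Cohen–Macaulay, then all fibres are Cohen–Macaulay. -/
theorem isCM_fiber_of_closed
    (h : LocCoh.IsCohenMacaulayRing ((maximalIdeal A).Fiber B)) (p : Ideal A) [hp : p.IsPrime] :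
    LocCoh.IsCohenMacaulayRing (p.Fiber B) := by
  have key : ∀ q : Ideal A, ∀ hq : q.IsPrime, LocCoh.IsCohenMacaulayRing (q.Fiber B) := by
    intro q
    induction q using WellFoundedGT.induction with
    | ind q ih =>
      intro hq
      by_cases hqm : q = maximalIdeal A
      · subst hqm
        exact h
      · exact isCM_fiber_step A B q hqm (fun q' hq' hlt => ih q' hlt hq')
  exact key p hp

end Main

end Groth.Agent.Lib.Helper22.CMFib
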