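import Mathlib
import Groth.Prelude.Def_EGA4b
import Groth.Agent.S9231
import Groth.Agent.S2717
import Groth.Agent.Lib.Helper22.CMFibE
import Groth.Agent.Lib.Helper22.CplDescent
import Groth.Agent.Lib.Helper22.NormDimOne
import Groth.Agent.Lib.Helper21.CMDescent
import Groth.Agent.Lib.Helper12.AnUnramF

/-!
# Cohen–Macaulay fibres of a flat local homomorphism (EGA IV 7.5.3, CM version)
-/

set_option autoImplicit false
set_option linter.unusedSectionVars false
set_option linter.style.haveILetI false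
universe u

namespace Groth.Agent.Lib.Helper22.CMFib

open IsLocalRing TensorProduct

variable (A B : Type u) [CommRing A] [CommRing B] [IsNoetherianRing A] [IsNoetherianRing B]
  [IsLocalRing A] [IsLocalRing B] [Algebra A B] [IsLocalHom (algebraMap A B)]

/-- the package: an algebra structure `Â → B̂` compatible with `A → B`, flat and local. -/
theorem exists_cpl_algebra' [Module.Flat A B] :
    ∃ (_ : Algebra (EGA4.Cpl A) (EGA4.Cpl B)),
      IsScalarTower A (EGA4.Cpl A) (EGA4.Cpl B) ∧ Module.Flat (EGA4.Cpl A) (EGA4.Cpl B) ∧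
      IsLocalHom (algebraMap (EGA4.Cpl A) (EGA4.Cpl B)) := by
  let ψ := Groth.Agent.Lib.Helper19.ComplMap.complMap A B
  have hψ := Groth.Agent.Lib.Helper19.ComplMap.complMap_comp A B
  letI alg : Algebra (EGA4.Cpl A) (EGA4.Cpl B) := ψ.toAlgebra
  refine ⟨alg, ?_, ?_, ?_⟩
  · exact .of_algebraMap_eq (fun a => (RingHom.congr_fun hψ a).symm)
  · exact (Groth.Agent.S9231.result A B ψ hψ).mpr (RingHom.flat_algebraMap_iff.mpr inferInstance)
  · exact Groth.Agent.Lib.Helper19.ComplUnram.isLocalHom_of_compat ψ hψ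

/-- closed fibre of `Â → B̂` is the closed fibre of `A → B̂` -/
theorem nonempty_closedFiber_ringEquiv [Algebra (EGA4.Cpl A) (EGA4.Cpl B)]
    [IsScalarTower A (EGA4.Cpl A) (EGA4.Cpl B)]
    [IsLocalHom (algebraMap (EGA4.Cpl A) (EGA4.Cpl B))] :
    Nonempty ((maximalIdeal A).Fiber (EGA4.Cpl B) ≃+*
      (maximalIdeal (EGA4.Cpl A)).Fiber (EGA4.Cpl B)) := by
  haveI : IsNoetherianRing (EGA4.Cpl B) := Groth.Agent.Lib.Helper12.AnUnram.isNoetherianRing_cpl B
  haveI : IsScalarTower A B (EGA4.Cpl B) := .of_algebraMap_eq (fun _ => rfl)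
  haveI : IsLocalHom (algebraMap A (EGA4.Cpl B)) := by
    rw [IsScalarTower.algebraMap_eq A B (EGA4.Cpl B)]
    exact RingHom.isLocalHom_comp _ _
  have e1 := Groth.Agent.Lib.Helper22.NormDimOne.fiberEquivQuotient A (EGA4.Cpl B)
  have e2 := Groth.Agent.Lib.Helper22.NormDimOne.fiberEquivQuotient (EGA4.Cpl A) (EGA4.Cpl B)
  have heq : (maximalIdeal A).map (algebraMap A (EGA4.Cpl B)) =
      (maximalIdeal (EGA4.Cpl A)).map (algebraMap (EGA4.Cpl A) (EGA4.Cpl B)) := by
    rw [show maximalIdeal (EGA4.Cpl A) = (maximalIdeal A).map (algebraMap A (EGA4.Cpl A)) from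
      AdicCompletion.maximalIdeal_eq_map, Ideal.map_map,
      ← IsScalarTower.algebraMap_eq A (EGA4.Cpl A) (EGA4.Cpl B)]
  exact ⟨e1.trans ((Ideal.quotEquivOfEq heq).trans e2.symm)⟩

/-- **EGA IV 7.5.3 for the property Cohen–Macaulay**, fibres only. -/
theorem isCM_fiber_of_cpl [Module.Flat A B]
    [Module.Finite (ResidueField A) (ResidueField B)]
    (hA : EGA4.HasCMFormalFibres A)
    (h : LocCoh.IsCohenMacaulayRing ((maximalIdeal A).Fiber (EGA4.Cpl B)))
    (p : Ideal A) [p.IsPrime] : LocCoh.IsCohenMacaulayRing (p.Fiber B) := by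
  obtain ⟨alg, htower, hflat, hloc⟩ := exists_cpl_algebra' A B
  letI := alg
  haveI := htower
  haveI := hflat
  haveI := hloc
  haveI hNA : IsNoetherianRing (EGA4.Cpl A) :=
    Groth.Agent.Lib.Helper12.AnUnram.isNoetherianRing_cpl A
  haveI hNB : IsNoetherianRing (EGA4.Cpl B) :=
    Groth.Agent.Lib.Helper12.AnUnram.isNoetherianRing_cpl B
  haveI : IsAdicComplete (maximalIdeal (EGA4.Cpl A)) (EGA4.Cpl A) :=
    inferInstanceAs (IsAdicComplete (maximalIdeal (AdicCompletion (maximalIdeal A) A))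
      (AdicCompletion (maximalIdeal A) A))
  haveI : IsScalarTower A B (EGA4.Cpl B) := .of_algebraMap_eq (fun _ => rfl)
  haveI hffB := Groth.Agent.Lib.Helper12.AnUnram.faithfullyFlat_cpl B
  haveI hffA := Groth.Agent.Lib.Helper12.AnUnram.faithfullyFlat_cpl A
  -- residue field finiteness
  haveI hfin1 : Module.Finite A (ResidueField B) :=
    Module.Finite.trans (ResidueField A) (ResidueField B)
  haveI hfin2 : Module.Finite A (ResidueField (EGA4.Cpl B)) := by
    haveI : IsLocalHom (IsScalarTower.toAlgHom A B (EGA4.Cpl B)) :=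
      ⟨fun b hb => isUnit_of_map_unit (algebraMap B (EGA4.Cpl B)) b hb⟩
    let f : ResidueField B →ₐ[A] ResidueField (EGA4.Cpl B) :=
      IsLocalRing.ResidueField.mapAlgHom (IsScalarTower.toAlgHom A B (EGA4.Cpl B))
    have hf : Function.Surjective f := by
      intro x
      obtain ⟨y, hy⟩ := (AdicCompletion.residueField_map_bijective B).2 x
      exact ⟨y, hy⟩
    exact Module.Finite.of_surjective f.toLinearMap hf
  haveI hfin3 : Module.Finite (EGA4.Cpl A) (ResidueField (EGA4.Cpl B)) :=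
    Module.Finite.of_restrictScalars_finite A (EGA4.Cpl A) _
  -- closed fibre
  obtain ⟨E⟩ := nonempty_closedFiber_ringEquiv A B
  haveI := Groth.Agent.Lib.Helper21.FlatLocal.isNoetherianRing_fiber (R := A)
    (S := EGA4.Cpl B) (maximalIdeal A)
  haveI := Groth.Agent.Lib.Helper21.FlatLocal.isNoetherianRing_fiber (R := EGA4.Cpl A)
    (S := EGA4.Cpl B) (maximalIdeal (EGA4.Cpl A))
  have hcl : LocCoh.IsCohenMacaulayRing ((maximalIdeal (EGA4.Cpl A)).Fiber (EGA4.Cpl B)) :=
    Groth.Agent.Lib.Helper21.CMKit.isCM_of_ringEquiv E h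
  have hall := isCM_fiber_of_closed (EGA4.Cpl A) (EGA4.Cpl B) hcl
  have h2 := Groth.Agent.S2717.result A (EGA4.Cpl A) (EGA4.Cpl B) (fun q _ => hA q)
    (fun q _ => hall q)
  haveI := h2.1
  exact (Groth.Agent.Lib.Helper21.CMDescent.CM_fibres_descent A B (EGA4.Cpl B) h2.2).2 p

/-- finite field extensions preserve CM -/
theorem isCM_tensor_of_finite (k : Type u) [Field k] (F : Type u) [CommRing F] [Algebra k F]
    [IsNoetherianRing F] (K : Type u) [Field K] [Algebra k K] [Module.Finite k K]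
    (h : LocCoh.IsCohenMacaulayRing F) : LocCoh.IsCohenMacaulayRing (K ⊗[k] F) := by
  haveI : IsNoetherianRing (F ⊗[k] K) := IsNoetherianRing.of_finite F _
  haveI : IsNoetherianRing (K ⊗[k] F) :=
    isNoetherianRing_of_ringEquiv _ (Algebra.TensorProduct.comm k F K).toRingEquiv
  have h1 : LocCoh.IsCohenMacaulayRing (F ⊗[k] K) :=
    Groth.Agent.Lib.Helper21.CMKit.isCM_of_flat_of_isIntegral (A := F) h
  exact Groth.Agent.Lib.Helper21.CMKit.isCM_of_ringEquiv
    (Algebra.TensorProduct.comm k F K).toRingEquiv h1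

end Groth.Agent.Lib.Helper22.CMFib
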