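import Mathlib

/-!
# Characteristic polynomial over a decomposition into stable subspaces (helper22)
-/

set_option autoImplicit false
set_option linter.unusedSectionVars false

noncomputable section

namespace Groth.Agent.Lib.Helper22.CharpolySum

open Polynomial

variable {K : Type*} [Field K] {V : Type*} [AddCommGroup V] [Module K V] [Module.Finite K V]

/-- The characteristic polynomial of `f` on a stable subspace (and `1` on a non-stable one). -/
def cp (f : V →ₗ[K] V) (A : Submodule K V) : K[X] := by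
  classical
  exact if h : ∀ x ∈ A, f x ∈ A then (f.restrict h).charpoly else 1

theorem cp_eq (f : V →ₗ[K] V) (A : Submodule K V) (h : ∀ x ∈ A, f x ∈ A) :
    cp f A = (f.restrict h).charpoly := by
  unfold cp
  rw [dif_pos h]

theorem cp_monic (f : V →ₗ[K] V) (A : Submodule K V) : (cp f A).Monic := by
  unfold cp
  split_ifs with h
  · exact LinearMap.charpoly_monic _
  · exact monic_one

theorem cp_natDegree (f : V →ₗ[K] V) (A : Submodule K V) (h : ∀ x ∈ A, f x ∈ A) :
    (cp f A).natDegree = Module.finrank K A := by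
  rw [cp_eq f A h, LinearMap.charpoly_natDegree]

theorem cp_top (f : V →ₗ[K] V) : cp f ⊤ = f.charpoly := by
  have h : ∀ x ∈ (⊤ : Submodule K V), f x ∈ (⊤ : Submodule K V) := fun _ _ => trivial
  rw [cp_eq f ⊤ h]
  have : (Submodule.topEquiv (R := K) (M := V)).conj (f.restrict h) = f := by
    ext x
    simp [LinearEquiv.conj_apply]
  calc (f.restrict h).charpoly
      = ((Submodule.topEquiv (R := K) (M := V)).conj (f.restrict h)).charpoly :=
        (LinearEquiv.charpoly_conj _ _).symm
    _ = f.charpoly := by rw [this]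

theorem cp_bot (f : V →ₗ[K] V) : cp f ⊥ = 1 := by
  have h : ∀ x ∈ (⊥ : Submodule K V), f x ∈ (⊥ : Submodule K V) := by
    intro x hx
    rw [Submodule.mem_bot] at hx ⊢
    rw [hx, map_zero]
  apply Polynomial.eq_one_of_monic_natDegree_zero (cp_monic f ⊥)
  rw [cp_natDegree f ⊥ h, finrank_bot]

/-- The sum of two disjoint subspaces is their product. -/
def supEquiv (A B : Submodule K V) (hAB : Disjoint A B) : (A × B) ≃ₗ[K] ↥(A ⊔ B) :=
  LinearEquiv.ofBijective
    ((Submodule.inclusion (le_sup_left : A ≤ A ⊔ B)).coprod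
      (Submodule.inclusion (le_sup_right : B ≤ A ⊔ B)))
    (by
      constructor
      · rw [← LinearMap.ker_eq_bot, LinearMap.ker_eq_bot']
        rintro ⟨a, b⟩ hab
        have h0 : (a : V) + (b : V) = 0 := by
          have := congrArg Subtype.val hab
          simpa using this
        have ha : (a : V) ∈ A ⊓ B := by
          refine ⟨a.2, ?_⟩
          have : (a : V) = -(b : V) := eq_neg_of_add_eq_zero_left h0
          rw [this]
          exact B.neg_mem b.2
        rw [hAB.eq_bot, Submodule.mem_bot] at ha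
        have hb : (b : V) = 0 := by rw [ha, zero_add] at h0; exact h0
        ext
        · exact ha
        · exact hb
      · rintro ⟨x, hx⟩
        obtain ⟨a, ha, b, hb, rfl⟩ := Submodule.mem_sup.mp hx
        exact ⟨(⟨a, ha⟩, ⟨b, hb⟩), by ext; simp⟩)

theorem supEquiv_apply (A B : Submodule K V) (hAB : Disjoint A B) (x : A × B) :
    ((supEquiv A B hAB x : ↥(A ⊔ B)) : V) = (x.1 : V) + (x.2 : V) := by
  simp [supEquiv]

theorem cp_sup (f : V →ₗ[K] V) (A B : Submodule K V) (hA : ∀ x ∈ A, f x ∈ A)
    (hB : ∀ x ∈ B, f x ∈ B) (hAB : Disjoint A B) : cp f (A ⊔ B) = cp f A * cp f B := by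
  have hS : ∀ x ∈ A ⊔ B, f x ∈ A ⊔ B := by
    intro x hx
    obtain ⟨a, ha, b, hb, rfl⟩ := Submodule.mem_sup.mp hx
    rw [map_add]
    exact Submodule.add_mem _ (Submodule.mem_sup_left (hA a ha)) (Submodule.mem_sup_right (hB b hb))
  rw [cp_eq f _ hS, cp_eq f A hA, cp_eq f B hB, ← LinearMap.charpoly_prodMap]
  have : (supEquiv A B hAB).conj ((f.restrict hA).prodMap (f.restrict hB)) = f.restrict hS := by
    apply LinearMap.ext
    intro y
    obtain ⟨x, rfl⟩ := (supEquiv A B hAB).surjective y
    rw [LinearEquiv.conj_apply_apply, LinearEquiv.symm_apply_apply]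
    apply Subtype.ext
    rw [supEquiv_apply]
    simp [supEquiv_apply]
  rw [← this, LinearEquiv.charpoly_conj]

theorem stable_finset_sup {ι : Type*} (f : V →ₗ[K] V) (S : Finset ι) (A : ι → Submodule K V)
    (hA : ∀ i ∈ S, ∀ x ∈ A i, f x ∈ A i) : ∀ x ∈ S.sup A, f x ∈ S.sup A := by
  have : S.sup A ≤ Submodule.comap f (S.sup A) := by
    apply Finset.sup_le
    intro i hi x hx
    exact (Finset.le_sup (f := A) hi) (hA i hi x hx)
  exact fun x hx => this hx

theorem cp_finset_sup {ι : Type*} [DecidableEq ι] (f : V →ₗ[K] V) (S : Finset ι)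
    (A : ι → Submodule K V) (hA : ∀ i ∈ S, ∀ x ∈ A i, f x ∈ A i) (hind : S.SupIndep A) :
    cp f (S.sup A) = ∏ i ∈ S, cp f (A i) := by
  induction S using Finset.induction_on with
  | empty => rw [Finset.sup_empty, Finset.prod_empty, cp_bot]
  | insert i S hi ih =>
    rw [Finset.sup_insert, Finset.prod_insert hi]
    have hdisj : Disjoint (A i) (S.sup A) :=
      hind (Finset.subset_insert i S) (Finset.mem_insert_self i S) hi
    rw [cp_sup f (A i) (S.sup A) (hA i (Finset.mem_insert_self i S))
      (stable_finset_sup f S A fun j hj => hA j (Finset.mem_insert_of_mem hj)) hdisj,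
      ih (fun j hj => hA j (Finset.mem_insert_of_mem hj))
        (hind.subset (Finset.subset_insert i S))]

theorem countP_roots_prod {R : Type*} [CommRing R] [IsDomain R] {ι : Type*} [DecidableEq ι]
    (P : R → Prop) [DecidablePred P] (S : Finset ι) (g : ι → R[X]) (hg : ∀ i ∈ S, g i ≠ 0) :
    Multiset.countP P (∏ i ∈ S, g i).roots = ∑ i ∈ S, Multiset.countP P (g i).roots := by
  induction S using Finset.induction_on with
  | empty => simp
  | insert i S hi ih =>
    rw [Finset.prod_insert hi, Finset.sum_insert hi]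
    have h1 : g i ≠ 0 := hg i (Finset.mem_insert_self i S)
    have h2 : ∏ j ∈ S, g j ≠ 0 :=
      Finset.prod_ne_zero_iff.mpr fun j hj => hg j (Finset.mem_insert_of_mem hj)
    rw [Polynomial.roots_mul (mul_ne_zero h1 h2), Multiset.countP_add,
      ih fun j hj => hg j (Finset.mem_insert_of_mem hj)]

theorem isRoot_charpoly_smul_pow {K Ω V : Type*} [Field K] [Field Ω] [Algebra K Ω]
    [AddCommGroup V] [Module K V] [Module.Finite K V]
    (f : V →ₗ[K] V) (c : K) (s : ℕ) (α : Ω)
    (hα : ((f.charpoly).map (algebraMap K Ω)).IsRoot α) :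
    (((c • f ^ s : Module.End K V).charpoly).map (algebraMap K Ω)).IsRoot
      (algebraMap K Ω c * α ^ s) := by
  rw [← LinearMap.charpoly_baseChange] at hα ⊢
  rw [← Module.End.hasEigenvalue_iff_isRoot_charpoly] at hα ⊢
  obtain ⟨v, hv⟩ := hα.exists_hasEigenvector
  apply Module.End.hasEigenvalue_of_hasEigenvector (x := v)
  refine ⟨?_, hv.2⟩
  rw [Module.End.mem_eigenspace_iff, LinearMap.baseChange_smul, LinearMap.baseChange_pow,
    LinearMap.smul_apply, hv.pow_apply, ← algebraMap_smul Ω c, smul_smul]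

/-- A root of a monic polynomial with unit constant coefficient is a unit of the integral
closure. -/
theorem isIntegral_inv_of_root {R Ω : Type*} [CommRing R] [Field Ω] [Algebra R Ω]
    (P : R[X]) (hP : P.Monic) (h0 : IsUnit (P.coeff 0)) (β : Ω) (hβ : aeval β P = 0) :
    β ≠ 0 ∧ IsIntegral R β ∧ IsIntegral R β⁻¹ := by
  have hint : IsIntegral R β := ⟨P, hP, by rwa [← aeval_def]⟩
  obtain ⟨u, hu⟩ := h0
  have hdec := congrArg (aeval β) (Polynomial.divX_mul_X_add P)
  rw [map_add, map_mul, aeval_X, aeval_C, hβ, ← hu] at hdec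
  set γ := aeval β (divX P) with hγ
  have hγint : IsIntegral R γ :=
    adjoin_le_integralClosure hint (aeval_mem_adjoin_singleton R β)
  have hu0 : algebraMap R Ω (u : R) ≠ 0 := by
    have : IsUnit (algebraMap R Ω (u : R)) := (u.isUnit.map (algebraMap R Ω))
    exact this.ne_zero
  have hβ0 : β ≠ 0 := by
    rintro rfl
    rw [mul_zero, zero_add] at hdec
    exact hu0 hdec
  refine ⟨hβ0, hint, ?_⟩
  have hinv : β⁻¹ = -(algebraMap R Ω ((u⁻¹ : Rˣ) : R) * γ) := by
    have h1 : algebraMap R Ω ((u⁻¹ : Rˣ) : R) * algebraMap R Ω (u : R) = 1 := by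
      rw [← map_mul, Units.inv_mul, map_one]
    have h2 : γ * β = -algebraMap R Ω (u : R) := eq_neg_of_add_eq_zero_left hdec
    rw [eq_comm, ← mul_eq_one_iff_eq_inv₀ hβ0, neg_mul, mul_assoc, h2, mul_neg, neg_neg, h1]
  rw [hinv]
  exact (isIntegral_algebraMap.mul hγint).neg

end Groth.Agent.Lib.Helper22.CharpolySum
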