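import Mathlib
import Groth.Agent.Lib.Helper22.ClosedPtA

/-!
# Every point of a locally Noetherian scheme specializes to a closed point
-/

set_option autoImplicit false
set_option linter.style.haveILetI false
set_option linter.unusedSectionVars false
universe u

namespace Groth.Agent.Lib.Helper22.ClosedPt

open AlgebraicGeometry

theorem exists_affine_nhd (X : Scheme.{u}) (y : X) : ∃ U : X.Opens, IsAffineOpen U ∧ y ∈ U := by
  obtain ⟨_, ⟨U, hU, rfl⟩, hyU, -⟩ :=
    X.isBasis_affineOpens.exists_subset_of_mem_open (Set.mem_univ y) isOpen_univ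
  exact ⟨U, hU, hyU⟩

theorem exists_fromSpec_eq {X : Scheme.{u}} {U : X.Opens} (hU : IsAffineOpen U) (x : X)
    (hx : x ∈ U) : ∃ a : PrimeSpectrum Γ(X, U), hU.fromSpec a = x := by
  have : x ∈ Set.range hU.fromSpec := by rw [hU.range_fromSpec]; exact hx
  exact this

/-- Every point of a locally Noetherian scheme specializes to a closed point. -/
theorem exists_specializes_isClosed (X : Scheme.{u}) [IsLocallyNoetherian X] (y : X) :
    ∃ z : X, y ⤳ z ∧ IsClosed ({z} : Set X) := by
  obtain ⟨U, hU, hyU⟩ := exists_affine_nhd X y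
  haveI : IsNoetherianRing Γ(X, U) := IsLocallyNoetherian.component_noetherian ⟨U, hU⟩
  obtain ⟨p, hp⟩ := exists_fromSpec_eq hU y hyU
  obtain ⟨m, hm, hpm⟩ := Ideal.exists_le_maximal p.asIdeal p.2.ne_top
  let a0 : PrimeSpectrum Γ(X, U) := ⟨m, hm.isPrime⟩
  have hyx : y ⤳ hU.fromSpec a0 := by
    have h1 : p ⤳ a0 := (PrimeSpectrum.le_iff_specializes p a0).mp hpm
    have h2 := h1.map hU.fromSpec.continuous
    rwa [hp] at h2
  have hxU : hU.fromSpec a0 ∈ U := by
    have : hU.fromSpec a0 ∈ Set.range hU.fromSpec := ⟨a0, rfl⟩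
    rwa [hU.range_fromSpec] at this
  have hindU := hU.fromSpec.isOpenEmbedding.isInducing
  have hxcl : ∀ x' ∈ U, hU.fromSpec a0 ⤳ x' → x' = hU.fromSpec a0 := by
    intro x' hx' hs
    obtain ⟨q, rfl⟩ := exists_fromSpec_eq hU x' hx'
    have h1 : a0 ⤳ q := hindU.specializes_iff.mp hs
    have hle : a0 ≤ q := (PrimeSpectrum.le_iff_specializes _ _).mpr h1
    have : q = a0 := by
      apply PrimeSpectrum.ext
      exact (hm.eq_of_le q.2.ne_top hle).symm
    rw [this]
  by_cases hx : IsClosed ({hU.fromSpec a0} : Set X)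
  · exact ⟨_, hyx, hx⟩
  obtain ⟨z, hxz, hzx⟩ : ∃ z, hU.fromSpec a0 ⤳ z ∧ z ≠ hU.fromSpec a0 := by
    by_contra hcon
    push_neg at hcon
    apply hx
    have : closure ({hU.fromSpec a0} : Set X) ⊆ {hU.fromSpec a0} := fun z hz =>
      hcon z (specializes_iff_mem_closure.mpr hz)
    exact closure_subset_iff_isClosed.mp this
  refine ⟨z, hyx.trans hxz, ?_⟩
  apply closure_subset_iff_isClosed.mp
  intro w hw
  have hzw : z ⤳ w := specializes_iff_mem_closure.mpr hw
  obtain ⟨W, hW, hwW⟩ := exists_affine_nhd X w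
  haveI : IsNoetherianRing Γ(X, W) := IsLocallyNoetherian.component_noetherian ⟨W, hW⟩
  have hzW : z ∈ W := hzw.mem_open W.2 hwW
  have hxW : hU.fromSpec a0 ∈ W := hxz.mem_open W.2 hzW
  obtain ⟨a, ha⟩ := exists_fromSpec_eq hW _ hxW
  obtain ⟨b, hb⟩ := exists_fromSpec_eq hW z hzW
  obtain ⟨c, hc⟩ := exists_fromSpec_eq hW w hwW
  have hind := hW.fromSpec.isOpenEmbedding.isInducing
  have hab : a ⤳ b := hind.specializes_iff.mp (by rw [ha, hb]; exact hxz)
  have hbc : b ⤳ c := hind.specializes_iff.mp (by rw [hb, hc]; exact hzw)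
  have hba : b ≠ a := fun h => hzx (by rw [← hb, h, ha])
  have hbmax : b.asIdeal.IsMaximal := by
    refine isMaximal_of_specializes a (hW.fromSpec ⁻¹' (U : Set X))
      (U.2.preimage hW.fromSpec.continuous) ?_ (fun d hd had => ?_) b hab hba
    · change hW.fromSpec a ∈ U
      rw [ha]; exact hxU
    · have h1 : hU.fromSpec a0 ⤳ hW.fromSpec d := by
        rw [← ha]; exact had.map hW.fromSpec.continuous
      have h2 := hxcl _ hd h1
      exact hW.fromSpec.isOpenEmbedding.injective (h2.trans ha.symm)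
  have hle : b ≤ c := (PrimeSpectrum.le_iff_specializes _ _).mpr hbc
  have hcb : c = b := by
    apply PrimeSpectrum.ext
    exact (hbmax.eq_of_le c.2.ne_top hle).symm
  change w = z
  rw [← hc, hcb, hb]

end Groth.Agent.Lib.Helper22.ClosedPt
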