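import Mathlib
import Groth.Prelude.Def_EGA4b
import Groth.Agent.Lib.Helper22.CplLocGlob4
import Groth.Agent.Lib.Helper22.CplTransfer
import Groth.Agent.Lib.Helper21.Torus10

/-!
# Regular homomorphisms: local-global (helper22)
-/

set_option autoImplicit false
set_option linter.style.haveILetI false
universe u
open TensorProduct IsLocalRing

namespace Groth.Agent.Lib.Helper22.RegLocal

/-- a localization map is a regular homomorphism (no Noetherian hypothesis) -/
theorem isRegularHom_of_isLocalization (R : Type u) [CommRing R] (M : Submonoid R)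
    (R' : Type u) [CommRing R'] [Algebra R R'] [IsLocalization M R'] :
    CAlg.IsRegularHom R R' := by
  haveI : Module.Flat R R' := IsLocalization.flat R' M
  refine ⟨inferInstance, fun p hp => ?_⟩
  haveI : IsLocalization (Algebra.algebraMapSubmonoid p.ResidueField M)
      (p.ResidueField ⊗[R] R') := IsLocalization.tensor R' M
  refine ⟨IsLocalization.isNoetherianRing (Algebra.algebraMapSubmonoid p.ResidueField M) _
    inferInstance, ?_⟩
  intro k' _ _ hfin
  letI : Algebra R k' :=
    ((algebraMap p.ResidueField k').comp (algebraMap R p.ResidueField)).toAlgebra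
  haveI : IsScalarTower R p.ResidueField k' := IsScalarTower.of_algebraMap_eq' rfl
  let e : k' ⊗[p.ResidueField] (p.ResidueField ⊗[R] R') ≃ₐ[k'] k' ⊗[R] R' :=
    Algebra.TensorProduct.cancelBaseChange R p.ResidueField k' k' R'
  haveI : IsLocalization (Algebra.algebraMapSubmonoid k' M) (k' ⊗[R] R') :=
    IsLocalization.tensor R' M
  haveI : IsRegularRing k' := inferInstance
  haveI : IsRegularRing (k' ⊗[R] R') :=
    Groth.Agent.Lib.Helper21.Torus.isRegularRing_of_isLocalization
      (Algebra.algebraMapSubmonoid k' M) _
  exact IsRegularRing.of_ringEquiv e.symm.toRingEquiv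

variable (R Λ : Type u) [CommRing R] [CommRing Λ] [Algebra R Λ] [IsNoetherianRing Λ]

/-- regular ⟹ regular on local rings -/
theorem isRegularHom_local (h : CAlg.IsRegularHom R Λ) (q : Ideal Λ) [q.IsPrime] :
    letI := (Localization.localRingHom (Ideal.comap (algebraMap R Λ) q) q
      (algebraMap R Λ) rfl).toAlgebra
    CAlg.IsRegularHom (Localization.AtPrime (Ideal.comap (algebraMap R Λ) q))
      (Localization.AtPrime q) := by
  letI := (Localization.localRingHom (Ideal.comap (algebraMap R Λ) q) q
      (algebraMap R Λ) rfl).toAlgebra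
  haveI : IsScalarTower R (Localization.AtPrime (Ideal.comap (algebraMap R Λ) q))
      (Localization.AtPrime q) :=
    .of_algebraMap_eq fun x => (Localization.localRingHom_to_map _ _ _ rfl x).symm
  have h2 : CAlg.IsRegularHom Λ (Localization.AtPrime q) :=
    isRegularHom_of_isLocalization Λ q.primeCompl _
  have h3 : CAlg.IsRegularHom R (Localization.AtPrime q) :=
    Groth.Agent.Lib.Helper5.RegHom.isRegularHom_comp R Λ (Localization.AtPrime q) h h2
      (fun p _ => Groth.Agent.Lib.Helper21.FlatLocal.isNoetherianRing_fiber p)
  exact Groth.Agent.Lib.Helper22.CplTransfer.isRegularHom_of_isLocalization_source R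
    (Localization.AtPrime q) (Localization.AtPrime (Ideal.comap (algebraMap R Λ) q))
    (Ideal.comap (algebraMap R Λ) q).primeCompl h3

/-- regular on local rings at maximal ideals ⟹ regular -/
theorem isRegularHom_of_local
    (h : ∀ (n : Ideal Λ) [n.IsMaximal],
      letI := (Localization.localRingHom (Ideal.comap (algebraMap R Λ) n) n
        (algebraMap R Λ) rfl).toAlgebra
      CAlg.IsRegularHom (Localization.AtPrime (Ideal.comap (algebraMap R Λ) n))
        (Localization.AtPrime n)) :
    CAlg.IsRegularHom R Λ := by
  have key : ∀ (n : Ideal Λ) [n.IsMaximal], CAlg.IsRegularHom R (Localization.AtPrime n) := by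
    intro n hn
    letI := (Localization.localRingHom (Ideal.comap (algebraMap R Λ) n) n
      (algebraMap R Λ) rfl).toAlgebra
    haveI : IsScalarTower R (Localization.AtPrime (Ideal.comap (algebraMap R Λ) n))
        (Localization.AtPrime n) :=
      .of_algebraMap_eq fun x => (Localization.localRingHom_to_map _ _ _ rfl x).symm
    exact Groth.Agent.Lib.Helper5.RegHom.isRegularHom_comp R
      (Localization.AtPrime (Ideal.comap (algebraMap R Λ) n)) (Localization.AtPrime n)
      (isRegularHom_of_isLocalization R (Ideal.comap (algebraMap R Λ) n).primeCompl _) (h n)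
      (fun p _ => Groth.Agent.Lib.Helper21.FlatLocal.isNoetherianRing_fiber p)
  haveI : Module.Flat R Λ := by
    apply Module.flat_of_isLocalized_maximal Λ Λ (fun P => Localization.AtPrime P)
      (fun P => Algebra.linearMap Λ _)
    intro P hP
    exact (key P).1
  exact Groth.Agent.Lib.Helper22.CplLocGlob.isRegularHom_of_forall_maximal key

end Groth.Agent.Lib.Helper22.RegLocal
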