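import Mathlib
import Groth.Agent.Lib.Helper22.RegLocal
import Groth.Agent.Lib.Helper22.CplDescent
import Groth.Agent.Lib.Helper22.CplTransfer
import Groth.Agent.Lib.Helper22.GRingZ
import Groth.Agent.S0598
import Groth.Agent.S9318

/-!
# A Noetherian local ring with regular completion map is a G-ring (helper22)
-/

set_option autoImplicit false
set_option linter.style.haveILetI false
set_option linter.unusedSectionVars false
universe u

namespace Groth.Agent.Lib.Helper22.GRing

open TensorProduct IsLocalRing
open Groth.Agent.Lib.Helper5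

/-- auxiliary: the local ring at the contraction of a prime of the completion -/
theorem isRegularHom_cpl_localization_comap (A : Type u) [CommRing A] [IsLocalRing A]
    [IsNoetherianRing A] (h : CAlg.IsRegularHom A (EGA4.Cpl A)) (P : Ideal (EGA4.Cpl A))
    [P.IsPrime] :
    CAlg.IsRegularHom (Localization.AtPrime (P.comap (algebraMap A (EGA4.Cpl A))))
      (EGA4.Cpl (Localization.AtPrime (P.comap (algebraMap A (EGA4.Cpl A))))) := by
  haveI hNC : IsNoetherianRing (EGA4.Cpl A) :=
    Groth.Agent.Lib.helper19.isNoetherianRing_adicCompletion A _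
  haveI : IsAdicComplete (maximalIdeal (EGA4.Cpl A)) (EGA4.Cpl A) :=
    (inferInstance : IsAdicComplete (maximalIdeal (AdicCompletion (maximalIdeal A) A))
      (AdicCompletion (maximalIdeal A) A))
  have hG : CAlg.IsGRing (EGA4.Cpl A) := Groth.Agent.S0598.result (EGA4.Cpl A)
  letI := (Localization.localRingHom (Ideal.comap (algebraMap A (EGA4.Cpl A)) P) P
    (algebraMap A (EGA4.Cpl A)) rfl).toAlgebra
  haveI : IsLocalHom (algebraMap
      (Localization.AtPrime (Ideal.comap (algebraMap A (EGA4.Cpl A)) P))
      (Localization.AtPrime P)) :=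
    Localization.isLocalHom_localRingHom _ _ _ rfl
  haveI : IsNoetherianRing
      (Localization.AtPrime (Ideal.comap (algebraMap A (EGA4.Cpl A)) P)) :=
    IsLocalization.isNoetherianRing
      (Ideal.comap (algebraMap A (EGA4.Cpl A)) P).primeCompl _ inferInstance
  haveI : IsNoetherianRing (Localization.AtPrime P) :=
    IsLocalization.isNoetherianRing P.primeCompl _ inferInstance
  have h1 := Groth.Agent.Lib.Helper22.RegLocal.isRegularHom_local A (EGA4.Cpl A) h P
  exact Groth.Agent.Lib.Helper22.CplDescent.isRegularHom_cpl _ _ h1 (hG.2 P)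

/-- **a Noetherian local ring whose completion map is regular is a G-ring** -/
theorem isGRing_of_isRegularHom_cpl (A : Type u) [CommRing A] [IsLocalRing A]
    [IsNoetherianRing A] (h : CAlg.IsRegularHom A (EGA4.Cpl A)) : CAlg.IsGRing A := by
  refine ⟨inferInstance, fun p hp => ?_⟩
  haveI : Module.FaithfullyFlat A (EGA4.Cpl A) :=
    Groth.Agent.Lib.Helper12.AnUnram.faithfullyFlat_cpl A
  obtain ⟨P, hP⟩ := PrimeSpectrum.comap_surjective_of_faithfullyFlat (A := A) (B := EGA4.Cpl A)
    ⟨p, hp⟩
  have hP' : P.asIdeal.comap (algebraMap A (EGA4.Cpl A)) = p := congrArg PrimeSpectrum.asIdeal hP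
  have key := isRegularHom_cpl_localization_comap A h P.asIdeal
  have gen : ∀ (p' : Ideal A) [p'.IsPrime], p' = p →
      CAlg.IsRegularHom (Localization.AtPrime p') (EGA4.Cpl (Localization.AtPrime p')) →
      CAlg.IsRegularHom (Localization.AtPrime p) (EGA4.Cpl (Localization.AtPrime p)) := by
    intro p' _ heq h'
    subst heq
    exact h'
  exact gen _ hP' key

/-- for a local G-ring the completion map is regular -/
theorem isRegularHom_cpl_of_isGRing (A : Type u) [CommRing A] [IsLocalRing A]
    (h : CAlg.IsGRing A) : CAlg.IsRegularHom A (EGA4.Cpl A) := by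
  haveI := h.1
  have h1 := h.2 (maximalIdeal A)
  let e0 : A ≃ₐ[A] Localization.AtPrime (maximalIdeal A) :=
    IsLocalization.atUnits A (maximalIdeal A).primeCompl (fun x hx => by
      change IsUnit x
      by_contra hu
      exact hx ((mem_maximalIdeal x).2 hu))
  let e : Localization.AtPrime (maximalIdeal A) ≃+* A := e0.toRingEquiv.symm
  exact Groth.Agent.Lib.Helper22.CplTransfer.isRegularHom_cpl_of_ringEquiv e h1

end Groth.Agent.Lib.Helper22.GRing
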