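import Mathlib
import Groth.Agent.Lib.Helper22.GLocA
import Groth.Agent.Lib.Helper12.HensRegA
import Groth.Agent.Lib.Helper12.HensRegC
import Groth.Agent.Lib.Helper12.StrictStruct5
import Groth.Agent.S2038

/-!
# Ind-étale local extensions of local G-rings are G-rings (helper22)
-/

set_option autoImplicit false
set_option linter.style.haveILetI false
set_option linter.unusedSectionVars false
universe u

namespace Groth.Agent.Lib.Helper22.GRing

open TensorProduct IsLocalRing
open Groth.Agent.Lib.Helper5 Groth.Agent.Lib.Helper12 Groth.Agent.Lib.Helper12.IndEtaleFibre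

/-- adic formal smoothness passes to the completion of a Noetherian local ring -/
theorem adicSmooth_cpl (R S : Type u) [CommRing R] [CommRing S] [Algebra R S] [IsLocalRing S]
    [IsNoetherianRing S] (h : CAlgX.IsAdicFormallySmooth R S (maximalIdeal S)) :
    CAlgX.IsAdicFormallySmooth R (AdicCompletion (maximalIdeal S) S)
      (maximalIdeal (AdicCompletion (maximalIdeal S) S)) := by
  have := (Groth.Agent.S9318.result (R := R) (maximalIdeal S) (IsNoetherian.noetherian _)).1 h
  rwa [← AdicCompletion.maximalIdeal_eq_map] at this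

/-- if `R → S` is a flat ind-étale local homomorphism of Noetherian local rings and the completion
map of `R` is regular, then so is the completion map of `S` -/
theorem isRegularHom_cpl_of_isIndEssEtale (R S : Type u) [CommRing R] [CommRing S] [IsLocalRing R]
    [IsLocalRing S] [IsNoetherianRing R] [IsNoetherianRing S] [Algebra R S]
    [IsLocalHom (algebraMap R S)] [Module.Flat R S] (hS : IsIndEssEtale R S)
    (hR : CAlg.IsRegularHom R (EGA4.Cpl R)) : CAlg.IsRegularHom S (EGA4.Cpl S) := by
  have h1 : CAlg.IsRegularHom R S := HensReg.isRegularHom_of_isIndEssEtale R S hS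
  have hfs : CAlgX.IsAdicFormallySmooth R S (maximalIdeal S) :=
    Groth.Agent.S2038.result.mp ⟨h1.1, (h1.2 (maximalIdeal R)).2⟩
  haveI hNS : IsNoetherianRing (EGA4.Cpl S) :=
    Groth.Agent.Lib.helper19.isNoetherianRing_adicCompletion S _
  have hfs' := adicSmooth_cpl R S hfs
  have hfs'' := adicSmooth_cpl R (EGA4.Cpl S) hfs'
  haveI : IsScalarTower R S (EGA4.Cpl S) := IsScalarTower.of_algebraMap_eq (fun _ => rfl)
  haveI : IsLocalHom (algebraMap S (EGA4.Cpl S)) := inferInstance
  haveI : IsLocalHom (algebraMap R (EGA4.Cpl S)) := by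
    rw [IsScalarTower.algebraMap_eq R S (EGA4.Cpl S)]
    exact RingHom.isLocalHom_comp _ _
  have h2 : CAlg.IsRegularHom R (EGA4.Cpl S) :=
    isRegularHom_of_adicSmooth_cpl R (EGA4.Cpl S) hR hfs''
  haveI : Module.Flat S (EGA4.Cpl S) := AdicCompletion.flat_of_isNoetherian _
  exact HensReg.isRegularHom_of_tower R S (EGA4.Cpl S) hS h2

/-- a flat ind-étale local extension of a local G-ring is a G-ring -/
theorem isGRing_of_isIndEssEtale (R S : Type u) [CommRing R] [CommRing S] [IsLocalRing R]
    [IsLocalRing S] [IsNoetherianRing S] [Algebra R S]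
    [IsLocalHom (algebraMap R S)] [Module.Flat R S] (hS : IsIndEssEtale R S)
    (hR : CAlg.IsGRing R) : CAlg.IsGRing S := by
  haveI := hR.1
  exact isGRing_of_isRegularHom_cpl S
    (isRegularHom_cpl_of_isIndEssEtale R S hS (isRegularHom_cpl_of_isGRing R hR))

end Groth.Agent.Lib.Helper22.GRing
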