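import Mathlib
import Groth.Agent.Lib.Helper22.GLocB
import Groth.Agent.Lib.Helper22.ExcLoc

/-!
# Ind-étale algebras over G-rings: localization, and the local-to-global principle for G-rings
(helper22)
-/

set_option autoImplicit false
set_option linter.style.haveILetI false
set_option linter.unusedSectionVars false
universe u

namespace Groth.Agent.Lib.Helper22.GRing

open TensorProduct IsLocalRing
open Groth.Agent.Lib.Helper5 Groth.Agent.Lib.Helper12 Groth.Agent.Lib.Helper12.IndEtaleFibre

/-- a Noetherian ring all of whose localizations at maximal ideals are G-rings is a G-ring -/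
theorem isGRing_of_forall_maximal (S : Type u) [CommRing S] [IsNoetherianRing S]
    (h : ∀ (n : Ideal S) [n.IsMaximal], CAlg.IsGRing (Localization.AtPrime n)) :
    CAlg.IsGRing S := by
  refine ⟨inferInstance, fun q hq => ?_⟩
  obtain ⟨n, hn, hqn⟩ := Ideal.exists_le_maximal q hq.ne_top
  haveI := hn
  have hdisj : Disjoint (n.primeCompl : Set S) (q : Set S) := by
    rw [Set.disjoint_left]
    intro x hx hxq
    exact hx (hqn hxq)
  haveI hQ : (q.map (algebraMap S (Localization.AtPrime n))).IsPrime :=
    IsLocalization.isPrime_of_isPrime_disjoint n.primeCompl _ q hq hdisj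
  have hcomap : (q.map (algebraMap S (Localization.AtPrime n))).comap
      (algebraMap S (Localization.AtPrime n)) = q :=
    IsLocalization.comap_map_of_isPrime_disjoint n.primeCompl _ hq hdisj
  have h1 := (h n).2 (q.map (algebraMap S (Localization.AtPrime n)))
  haveI : IsLocalization.AtPrime
      (Localization.AtPrime (q.map (algebraMap S (Localization.AtPrime n))))
      ((q.map (algebraMap S (Localization.AtPrime n))).comap
        (algebraMap S (Localization.AtPrime n))) :=
    IsLocalization.isLocalization_isLocalization_atPrime_isLocalization n.primeCompl _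
      (q.map (algebraMap S (Localization.AtPrime n)))
  have gen : ∀ (q' : Ideal S) [q'.IsPrime], q' = q →
      IsLocalization.AtPrime
        (Localization.AtPrime (q.map (algebraMap S (Localization.AtPrime n)))) q' →
      CAlg.IsRegularHom (Localization.AtPrime q) (EGA4.Cpl (Localization.AtPrime q)) := by
    intro q' _ heq hloc
    subst heq
    let e : Localization.AtPrime (q'.map (algebraMap S (Localization.AtPrime n))) ≃ₐ[S]
        Localization.AtPrime q' :=
      IsLocalization.algEquiv q'.primeCompl _ _
    exact Groth.Agent.Lib.Helper22.CplTransfer.isRegularHom_cpl_of_ringEquiv e.toRingEquiv h1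
  exact gen _ hcomap inferInstance

section Loc

variable (R S : Type u) [CommRing R] [CommRing S] [Algebra R S]

/-- ind-(essentially étale) algebras localize -/
theorem isIndEssEtale_localization (hS : IsIndEssEtale R S) (n : Ideal S) [n.IsPrime] :
    letI := (Localization.localRingHom (Ideal.comap (algebraMap R S) n) n
      (algebraMap R S) rfl).toAlgebra
    IsIndEssEtale (Localization.AtPrime (Ideal.comap (algebraMap R S) n))
      (Localization.AtPrime n) := by
  classical
  letI := (Localization.localRingHom (Ideal.comap (algebraMap R S) n) n
    (algebraMap R S) rfl).toAlgebra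
  haveI : IsScalarTower R (Localization.AtPrime (Ideal.comap (algebraMap R S) n))
      (Localization.AtPrime n) :=
    .of_algebraMap_eq fun x => by
      change _ = Localization.localRingHom _ n (algebraMap R S) rfl (algebraMap R _ x)
      rw [Localization.localRingHom_to_map]
      exact IsScalarTower.algebraMap_apply R S (Localization.AtPrime n) x
  intro s
  -- numerators and denominators
  have hrep : ∀ x : Localization.AtPrime n, ∃ (a : S) (t : n.primeCompl),
      x = IsLocalization.mk' (Localization.AtPrime n) a t := fun x => by
    obtain ⟨a, t, h⟩ := IsLocalization.exists_mk'_eq n.primeCompl x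
    exact ⟨a, t, h.symm⟩
  choose num den hnd using hrep
  obtain ⟨G, _, _, hft, het, ψ, hψ⟩ := hS (s.image num ∪ s.image (fun x => (den x : S)))
  let P : Ideal G := n.comap ψ.toRingHom
  haveI hP : P.IsPrime := Ideal.comap_isPrime _ _
  have hPm : Ideal.comap (algebraMap R G) P = Ideal.comap (algebraMap R S) n := by
    ext r
    simp only [P, Ideal.mem_comap]
    change ψ (algebraMap R G r) ∈ n ↔ _
    rw [ψ.commutes]
  -- algebra structure `R_m → G_P`
  letI algGP : Algebra (Localization.AtPrime (Ideal.comap (algebraMap R S) n))
      (Localization.AtPrime P) :=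
    (Localization.localRingHom (Ideal.comap (algebraMap R S) n) P (algebraMap R G)
      hPm.symm).toAlgebra
  haveI : IsScalarTower R (Localization.AtPrime (Ideal.comap (algebraMap R S) n))
      (Localization.AtPrime P) :=
    .of_algebraMap_eq fun x => by
      change _ = Localization.localRingHom _ P (algebraMap R G) hPm.symm (algebraMap R _ x)
      rw [Localization.localRingHom_to_map]
      exact IsScalarTower.algebraMap_apply R G (Localization.AtPrime P) x
  haveI : Algebra.EssFiniteType G (Localization.AtPrime P) :=
    Algebra.EssFiniteType.of_isLocalization _ P.primeCompl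
  haveI : Algebra.EssFiniteType R (Localization.AtPrime P) :=
    Algebra.EssFiniteType.comp R G (Localization.AtPrime P)
  haveI hft' : Algebra.EssFiniteType (Localization.AtPrime (Ideal.comap (algebraMap R S) n))
      (Localization.AtPrime P) :=
    Algebra.EssFiniteType.of_comp R _ _
  haveI : Algebra.FormallyEtale G (Localization.AtPrime P) :=
    Algebra.FormallyEtale.of_isLocalization P.primeCompl
  haveI : Algebra.FormallyEtale R (Localization.AtPrime P) :=
    Algebra.FormallyEtale.comp R G (Localization.AtPrime P)
  haveI het' : Algebra.FormallyEtale (Localization.AtPrime (Ideal.comap (algebraMap R S) n))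
      (Localization.AtPrime P) :=
    Algebra.FormallyEtale.localization_base (Ideal.comap (algebraMap R S) n).primeCompl
  -- the map `G_P → S_n`
  let ψ'r : Localization.AtPrime P →+* Localization.AtPrime n :=
    Localization.localRingHom P n ψ.toRingHom rfl
  have hψ'r : ∀ g : G, ψ'r (algebraMap G _ g) = algebraMap S _ (ψ g) := fun g =>
    Localization.localRingHom_to_map _ _ _ rfl g
  let ψ' : Localization.AtPrime P →ₐ[Localization.AtPrime (Ideal.comap (algebraMap R S) n)]
      Localization.AtPrime n :=
    { ψ'r with
      commutes' := by
        intro x
        have : (ψ'r.comp (algebraMap (Localization.AtPrime (Ideal.comap (algebraMap R S) n))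
            (Localization.AtPrime P))) =
            algebraMap (Localization.AtPrime (Ideal.comap (algebraMap R S) n))
              (Localization.AtPrime n) := by
          apply IsLocalization.ringHom_ext (Ideal.comap (algebraMap R S) n).primeCompl
          ext r
          simp only [RingHom.comp_apply]
          rw [← IsScalarTower.algebraMap_apply R _ (Localization.AtPrime P),
            ← IsScalarTower.algebraMap_apply R _ (Localization.AtPrime n),
            IsScalarTower.algebraMap_apply R G (Localization.AtPrime P), hψ'r, ψ.commutes,
            ← IsScalarTower.algebraMap_apply R S (Localization.AtPrime n)]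
        exact RingHom.congr_fun this x }
  refine ⟨Localization.AtPrime P, inferInstance, algGP, hft', het', ψ', ?_⟩
  intro x hx
  obtain ⟨g, hg⟩ := hψ (num x) (Finset.mem_union_left _ (Finset.mem_image_of_mem _ hx))
  obtain ⟨t, ht⟩ := hψ (den x : S)
    (Finset.mem_union_right _ (Finset.mem_image_of_mem (fun x => (den x : S)) hx))
  have htP : t ∈ P.primeCompl := by
    intro htP
    apply (den x).2
    rw [← ht]
    exact htP
  refine ⟨IsLocalization.mk' (Localization.AtPrime P) g ⟨t, htP⟩, ?_⟩
  change ψ'r _ = x
  rw [hnd x]
  rw [IsLocalization.eq_mk'_iff_mul_eq]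
  have h1 : algebraMap S (Localization.AtPrime n) (den x : S) = ψ'r (algebraMap G _ t) := by
    rw [hψ'r]
    congr 1
    exact ht.symm
  rw [h1, ← map_mul, IsLocalization.mk'_spec, hψ'r]
  congr 1

end Loc

/-- a Noetherian flat ind-étale algebra over a G-ring is a G-ring -/
theorem isGRing_of_isIndEssEtale_global (R S : Type u) [CommRing R] [CommRing S] [Algebra R S]
    [IsNoetherianRing S] [Module.Flat R S] (hS : IsIndEssEtale R S) (hR : CAlg.IsGRing R) :
    CAlg.IsGRing S := by
  haveI := hR.1
  apply isGRing_of_forall_maximal
  intro n hn
  letI := (Localization.localRingHom (Ideal.comap (algebraMap R S) n) n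
    (algebraMap R S) rfl).toAlgebra
  haveI : IsScalarTower R (Localization.AtPrime (Ideal.comap (algebraMap R S) n))
      (Localization.AtPrime n) :=
    .of_algebraMap_eq fun x => by
      change _ = Localization.localRingHom _ n (algebraMap R S) rfl (algebraMap R _ x)
      rw [Localization.localRingHom_to_map]
      exact IsScalarTower.algebraMap_apply R S (Localization.AtPrime n) x
  haveI : IsLocalHom (algebraMap
      (Localization.AtPrime (Ideal.comap (algebraMap R S) n)) (Localization.AtPrime n)) :=
    Localization.isLocalHom_localRingHom _ _ _ rfl
  haveI : IsNoetherianRing (Localization.AtPrime n) :=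
    IsLocalization.isNoetherianRing n.primeCompl _ inferInstance
  haveI : Module.Flat (Localization.AtPrime (Ideal.comap (algebraMap R S) n))
      (Localization.AtPrime n) := by
    rw [Module.flat_iff_of_isLocalization (Localization.AtPrime (Ideal.comap (algebraMap R S) n))
      (Ideal.comap (algebraMap R S) n).primeCompl]
    exact Module.Flat.trans R S (Localization.AtPrime n)
  exact isGRing_of_isIndEssEtale _ _ (isIndEssEtale_localization R S hS n)
    (Groth.Agent.Lib.Helper22.ExcLoc.isGRing_of_isLocalization R hR
      (Ideal.comap (algebraMap R S) n).primeCompl _)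

end Groth.Agent.Lib.Helper22.GRing
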