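import Mathlib
import Groth.Agent.Lib.Helper22.ClosedPtB
import Groth.Agent.Lib.Helper22.GLocC
import Groth.Agent.Lib.Helper22.GLocA
import Groth.Agent.Lib.Helper22.GPolyH
import Groth.Agent.Lib.Helper22.ExcLoc

/-!
# G-schemes via closed points
-/

set_option autoImplicit false
set_option linter.style.haveILetI false
set_option linter.unusedSectionVars false
universe u

namespace Groth.Agent.Lib.Helper22.ClosedPt

open AlgebraicGeometry IsLocalRing

theorem atPrime_congr {R S : Type*} [CommRing R] [CommRing S] [Algebra R S] {I J : Ideal R}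
    [hI : I.IsPrime] [hJ : J.IsPrime] (h : I = J) (hL : IsLocalization.AtPrime S I) :
    IsLocalization.AtPrime S J := by
  subst h; exact hL

theorem isGRing_localization_of_stalk (X : Scheme.{u}) {U : X.Opens} (x : U)
    (key : CAlg.IsGRing (X.presheaf.stalk (x : X))) (n : Ideal Γ(X, U)) [n.IsPrime]
    (hn : IsLocalization.AtPrime (X.presheaf.stalk (x : X)) n) :
    CAlg.IsGRing (Localization.AtPrime n) := by
  haveI := hn
  let e : X.presheaf.stalk (x : X) ≃ₐ[Γ(X, U)] Localization.AtPrime n :=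
    IsLocalization.algEquiv n.primeCompl _ _
  exact Groth.Agent.Lib.Helper22.GRing.isGRing_of_ringEquiv e.toRingEquiv key

theorem isRegularHom_cpl_stalk (X : Scheme.{u}) {U : X.Opens} (hU : IsAffineOpen U) (x : U)
    (hG : CAlg.IsGRing Γ(X, U)) :
    CAlg.IsRegularHom (X.presheaf.stalk (x : X))
      (AdicCompletion (maximalIdeal (X.presheaf.stalk (x : X))) (X.presheaf.stalk (x : X))) := by
  haveI := hU.isLocalization_stalk x
  have hreg := hG.2 (hU.primeIdealOf x).asIdeal
  let e : Localization.AtPrime (hU.primeIdealOf x).asIdeal ≃ₐ[Γ(X, U)]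
      X.presheaf.stalk (x : X) :=
    IsLocalization.algEquiv (hU.primeIdealOf x).asIdeal.primeCompl _ _
  haveI : IsNoetherianRing (Localization.AtPrime (hU.primeIdealOf x).asIdeal) :=
    haveI := hG.1
    IsLocalization.isNoetherianRing (hU.primeIdealOf x).asIdeal.primeCompl _ inferInstance
  exact Groth.Agent.Lib.Helper22.CplTransfer.isRegularHom_cpl_of_ringEquiv e.toRingEquiv hreg

theorem isGRing_stalk_of_specializes_affine (X : Scheme.{u}) [IsLocallyNoetherian X]
    {W : X.Opens} (hW : IsAffineOpen W) (u z : W) (h : (u : X) ⤳ (z : X))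
    (hz : CAlg.IsGRing (X.presheaf.stalk (z : X))) : CAlg.IsGRing (X.presheaf.stalk (u : X)) := by
  haveI Lz := hW.isLocalization_stalk z
  haveI Lu := hW.isLocalization_stalk u
  have hle : (hW.primeIdealOf u).asIdeal ≤ (hW.primeIdealOf z).asIdeal := by
    have hind := hW.fromSpec.isOpenEmbedding.isInducing
    have : hW.primeIdealOf u ⤳ hW.primeIdealOf z :=
      hind.specializes_iff.mp (by
        rw [hW.fromSpec_primeIdealOf, hW.fromSpec_primeIdealOf]; exact h)
    exact (PrimeSpectrum.le_iff_specializes _ _).mpr this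
  have hdisj : Disjoint ((hW.primeIdealOf z).asIdeal.primeCompl : Set Γ(X, W))
      ((hW.primeIdealOf u).asIdeal : Set Γ(X, W)) := by
    rw [Set.disjoint_left]
    intro x hx hxu
    exact hx (hle hxu)
  haveI hq : ((hW.primeIdealOf u).asIdeal.map
      (algebraMap Γ(X, W) (X.presheaf.stalk (z : X)))).IsPrime :=
    IsLocalization.isPrime_of_isPrime_disjoint (hW.primeIdealOf z).asIdeal.primeCompl _ _
      inferInstance hdisj
  have hcomap : ((hW.primeIdealOf u).asIdeal.map
      (algebraMap Γ(X, W) (X.presheaf.stalk (z : X)))).comap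
      (algebraMap Γ(X, W) (X.presheaf.stalk (z : X))) = (hW.primeIdealOf u).asIdeal :=
    IsLocalization.under_map_of_isPrime_disjoint (hW.primeIdealOf z).asIdeal.primeCompl _
      inferInstance hdisj
  have h1 : CAlg.IsGRing (Localization.AtPrime ((hW.primeIdealOf u).asIdeal.map
      (algebraMap Γ(X, W) (X.presheaf.stalk (z : X))))) :=
    Groth.Agent.Lib.Helper22.ExcLoc.isGRing_of_isLocalization _ hz
      ((hW.primeIdealOf u).asIdeal.map
        (algebraMap Γ(X, W) (X.presheaf.stalk (z : X)))).primeCompl _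
  haveI h2 : IsLocalization.AtPrime (Localization.AtPrime ((hW.primeIdealOf u).asIdeal.map
      (algebraMap Γ(X, W) (X.presheaf.stalk (z : X)))))
      (((hW.primeIdealOf u).asIdeal.map
      (algebraMap Γ(X, W) (X.presheaf.stalk (z : X)))).comap
      (algebraMap Γ(X, W) (X.presheaf.stalk (z : X)))) :=
    IsLocalization.isLocalization_isLocalization_atPrime_isLocalization
      (hW.primeIdealOf z).asIdeal.primeCompl _ _
  haveI h3 := atPrime_congr hcomap h2
  let e : Localization.AtPrime ((hW.primeIdealOf u).asIdeal.map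
      (algebraMap Γ(X, W) (X.presheaf.stalk (z : X)))) ≃ₐ[Γ(X, W)] X.presheaf.stalk (u : X) :=
    IsLocalization.algEquiv (hW.primeIdealOf u).asIdeal.primeCompl _ _
  exact Groth.Agent.Lib.Helper22.GRing.isGRing_of_ringEquiv e.toRingEquiv h1

theorem isGRing_of_closedPoints (X : Scheme.{u}) [IsLocallyNoetherian X]
    (hreg : ∀ x : X, IsClosed ({x} : Set X) →
      CAlg.IsRegularHom (X.presheaf.stalk x)
        (AdicCompletion (maximalIdeal (X.presheaf.stalk x)) (X.presheaf.stalk x)))
    {U : X.Opens} (hU : IsAffineOpen U) : CAlg.IsGRing Γ(X, U) := by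
  haveI : IsNoetherianRing Γ(X, U) := IsLocallyNoetherian.component_noetherian ⟨U, hU⟩
  refine Groth.Agent.Lib.Helper22.GRing.isGRing_of_forall_maximal _ fun n hn => ?_
  haveI := hn.isPrime
  have huU : hU.fromSpec ⟨n, hn.isPrime⟩ ∈ U := by
    have : hU.fromSpec ⟨n, hn.isPrime⟩ ∈ Set.range hU.fromSpec := ⟨_, rfl⟩
    rwa [hU.range_fromSpec] at this
  obtain ⟨z, huz, hz⟩ := exists_specializes_isClosed X (hU.fromSpec ⟨n, hn.isPrime⟩)
  have hzG : CAlg.IsGRing (X.presheaf.stalk z) :=
    Groth.Agent.Lib.Helper22.GRing.isGRing_of_isRegularHom_cpl _ (hreg z hz)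
  obtain ⟨W, hW, hzW⟩ := exists_affine_nhd X z
  have huW : hU.fromSpec ⟨n, hn.isPrime⟩ ∈ W := huz.mem_open W.2 hzW
  have key : CAlg.IsGRing (X.presheaf.stalk (hU.fromSpec ⟨n, hn.isPrime⟩)) :=
    isGRing_stalk_of_specializes_affine X hW ⟨hU.fromSpec ⟨n, hn.isPrime⟩, huW⟩ ⟨z, hzW⟩ huz hzG
  exact isGRing_localization_of_stalk X ⟨hU.fromSpec ⟨n, hn.isPrime⟩, huU⟩ key n
    (hU.isLocalization_stalk' ⟨n, hn.isPrime⟩ huU)

/-- **G-schemes are detected at closed points.** -/
theorem isGScheme_iff (X : Scheme.{u}) :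
    (∀ x : X, ∃ U : X.Opens, x ∈ U ∧ IsAffineOpen U ∧ CAlg.IsGRing Γ(X, U)) ↔
      IsLocallyNoetherian X ∧ ∀ x : X, IsClosed ({x} : Set X) →
        CAlg.IsRegularHom (X.presheaf.stalk x)
          (AdicCompletion (IsLocalRing.maximalIdeal (X.presheaf.stalk x))
            (X.presheaf.stalk x)) := by
  constructor
  · intro h
    choose U hxU hU hG using h
    refine ⟨isLocallyNoetherian_of_affine_cover (S := fun x => ⟨U x, hU x⟩) ?_
      (fun x => (hG x).1), fun x _ => ?_⟩
    · rw [eq_top_iff]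
      intro x _
      exact TopologicalSpace.Opens.mem_iSup.mpr ⟨x, hxU x⟩
    · exact isRegularHom_cpl_stalk X (hU x) ⟨x, hxU x⟩ (hG x)
  · rintro ⟨hLN, hreg⟩ y
    haveI := hLN
    obtain ⟨U, hU, hyU⟩ := exists_affine_nhd X y
    exact ⟨U, hyU, hU, isGRing_of_closedPoints X hreg hU⟩

end Groth.Agent.Lib.Helper22.ClosedPt
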