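import Mathlib
import Groth.Agent.S9405
import Groth.Agent.Lib.Helper5.ComplIso
import Groth.Agent.Lib.Helper12.ComplTensorA
import Groth.Agent.Lib.Helper12.AnUnramD

/-!
# The completion of a finite algebra over a Noetherian local ring is the base change to the
completion
-/

set_option autoImplicit false
set_option linter.style.haveILetI false
set_option linter.unusedSectionVars false
universe u

namespace Groth.Agent.Lib.Helper22.ComplFinite

open TensorProduct IsLocalRing

attribute [local instance] Algebra.TensorProduct.rightAlgebra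

variable (A : Type u) [CommRing A] [IsLocalRing A] [IsNoetherianRing A]
  (D : Type u) [CommRing D] [Algebra A D] [Module.Finite A D]

/-- For a finite algebra `D` over a Noetherian local ring `A`, the `m_A D`-adic completion of `D`
is isomorphic, as a ring, to `D ⊗[A] Â`. -/
theorem exists_completion_equiv_tensor :
    Nonempty (AdicCompletion ((maximalIdeal A).map (algebraMap A D)) D ≃+*
      D ⊗[A] AdicCompletion (maximalIdeal A) A) := by
  let Ah := AdicCompletion (maximalIdeal A) A
  let T := D ⊗[A] Ah
  haveI : IsNoetherianRing Ah := Groth.Agent.Lib.Helper12.AnUnram.isNoetherianRing_cpl A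
  haveI : Module.FaithfullyFlat A Ah := Groth.Agent.Lib.Helper12.AnUnram.faithfullyFlat_cpl A
  haveI : Module.FaithfullyFlat D T := inferInstance
  -- `T` is a finite `Ah`-module
  haveI : Module.Finite Ah T :=
    Module.Finite.equiv (Algebra.TensorProduct.commRight A Ah D).toLinearEquiv
  haveI : IsAdicComplete (maximalIdeal Ah) Ah := inferInstance
  haveI hT1 : IsAdicComplete (maximalIdeal Ah) T :=
    Groth.Agent.S9405.isAdicComplete_of_finite (maximalIdeal Ah) T
  let JT : Ideal T := (maximalIdeal Ah).map (algebraMap Ah T)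
  haveI hT2 : IsAdicComplete JT T := (IsAdicComplete.map_algebraMap_iff ..).mpr hT1
  let JD : Ideal D := (maximalIdeal A).map (algebraMap A D)
  have hJT : JT = JD.map (algebraMap D T) := by
    change (maximalIdeal Ah).map (algebraMap Ah T) = _
    rw [show maximalIdeal Ah = (maximalIdeal A).map (algebraMap A Ah) from
      AdicCompletion.maximalIdeal_eq_map]
    simp only [JD, Ideal.map_map]
    congr 1
    rw [← IsScalarTower.algebraMap_eq A Ah T, ← IsScalarTower.algebraMap_eq A D T]
  have hJTn : ∀ n, JT ^ n = (JD ^ n).map (algebraMap D T) := fun n => by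
    rw [hJT, Ideal.map_pow]
  let φ : D →ₐ[A] T := IsScalarTower.toAlgHom A D T
  have hφ : ∀ d, φ d = algebraMap D T d := fun d => rfl
  have hJI : ∀ n, JD ^ n ≤ (JT ^ n).comap φ := by
    intro n
    rw [hJTn n]
    exact Ideal.le_comap_map
  have hinj : ∀ n d, φ d ∈ JT ^ n → d ∈ JD ^ n := by
    intro n d hd
    rw [hJTn n, hφ] at hd
    have := Ideal.comap_map_eq_self_of_faithfullyFlat (B := T) (JD ^ n)
    rw [← this]
    exact hd
  have hsurj : ∀ n (t : T), ∃ d, t - φ d ∈ JT ^ n := by
    intro n t
    induction t using TensorProduct.induction_on with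
    | zero => exact ⟨0, by rw [map_zero, sub_zero]; exact Ideal.zero_mem _⟩
    | tmul d a =>
      obtain ⟨a₀, ha₀⟩ := Ideal.Quotient.mk_surjective (AdicCompletion.evalₐ (maximalIdeal A) n a)
      have hker : a - algebraMap A Ah a₀ ∈
          ((maximalIdeal A).map (algebraMap A Ah)) ^ n := by
        rw [← Groth.Agent.Lib.Helper12.ComplTensor.ker_evalₐ_eq_map_pow (maximalIdeal A)
          (IsNoetherian.noetherian _) n, RingHom.mem_ker]
        change AdicCompletion.evalₐ (maximalIdeal A) n (a - algebraMap A Ah a₀) = 0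
        rw [map_sub, ← ha₀, sub_eq_zero]
        exact (AdicCompletion.evalₐ_of (maximalIdeal A) n a₀).symm
      refine ⟨a₀ • d, ?_⟩
      have h1 : d ⊗ₜ[A] a - φ (a₀ • d) = (d ⊗ₜ[A] (1 : Ah)) * ((1 : D) ⊗ₜ[A] (a - algebraMap A Ah a₀)) := by
        rw [Algebra.TensorProduct.tmul_mul_tmul, mul_one, one_mul, tmul_sub, hφ,
          Algebra.TensorProduct.algebraMap_apply, Algebra.algebraMap_self, RingHom.id_apply,
          Algebra.algebraMap_eq_smul_one a₀, TensorProduct.smul_tmul]
      rw [h1]
      apply Ideal.mul_mem_left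
      have h2 : (1 : D) ⊗ₜ[A] (a - algebraMap A Ah a₀) = algebraMap Ah T (a - algebraMap A Ah a₀) :=
        rfl
      rw [h2]
      have h3 : JT ^ n = (((maximalIdeal A).map (algebraMap A Ah)) ^ n).map (algebraMap Ah T) := by
        rw [Ideal.map_pow]
        change ((maximalIdeal Ah).map (algebraMap Ah T)) ^ n = _
        rw [show maximalIdeal Ah = (maximalIdeal A).map (algebraMap A Ah) from
          AdicCompletion.maximalIdeal_eq_map]
      rw [h3]
      exact Ideal.mem_map_of_mem _ hker
    | add x y hx hy =>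
      obtain ⟨d₁, h₁⟩ := hx
      obtain ⟨d₂, h₂⟩ := hy
      refine ⟨d₁ + d₂, ?_⟩
      have : x + y - φ (d₁ + d₂) = (x - φ d₁) + (y - φ d₂) := by rw [map_add]; ring
      rw [this]
      exact Ideal.add_mem _ h₁ h₂
  obtain ⟨e⟩ := Groth.Agent.Lib.Helper5.ComplIso.complEquiv φ JD JT hJI hinj hsurj
  exact ⟨e.toRingEquiv.trans (AdicCompletion.ofAlgEquiv JT).symm.toRingEquiv⟩

end Groth.Agent.Lib.Helper22.ComplFinite
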