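import Mathlib
import Groth.Agent.Lib.Helper22.NormalColim

/-!
# Recognizing the integral closure in the total ring of fractions (helper22)

If `R ⊆ N` is integral, `N` satisfies the normality condition `N2`, and `d₀ N ⊆ R` for an element
`d₀` of `R` that is a nonzerodivisor on `N`, then `N` is the integral closure of `R` in its total
ring of fractions.
-/

set_option autoImplicit false
set_option linter.style.haveILetI false
set_option linter.unusedSectionVars false
universe u

namespace Groth.Agent.Lib.Helper22.NormModel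

open Polynomial Groth.Agent.Lib.Helper22.NormalColim

variable (R N : Type u) [CommRing R] [CommRing N] [Algebra R N]
  (hinj : Function.Injective (algebraMap R N))
  (d₀ : R) (hd₀ : algebraMap R N d₀ ∈ nonZeroDivisors N)
  (hfrac : ∀ n : N, ∃ r : R, algebraMap R N d₀ * n = algebraMap R N r)

include hinj hd₀ in
theorem d₀_mem : d₀ ∈ nonZeroDivisors R := by
  rw [mem_nonZeroDivisors_iff_right]
  intro x hx
  have h1 : algebraMap R N x * algebraMap R N d₀ = 0 := by rw [← map_mul, hx, map_zero]
  have h2 := (mem_nonZeroDivisors_iff_right.mp hd₀) _ h1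
  exact hinj (h2.trans (map_zero _).symm)

include hinj hd₀ in
/-- nonzerodivisors of `R` stay nonzerodivisors on `N` -/
theorem algebraMap_mem_nonZeroDivisors
    (hfrac : ∀ n : N, ∃ r : R, algebraMap R N d₀ * n = algebraMap R N r) {s : R}
    (hs : s ∈ nonZeroDivisors R) : algebraMap R N s ∈ nonZeroDivisors N := by
  rw [mem_nonZeroDivisors_iff_right]
  intro t ht
  obtain ⟨r, hr⟩ := hfrac t
  have h1 : algebraMap R N (r * s) = 0 := by
    rw [map_mul, ← hr, mul_assoc, ht, mul_zero]
  have h2 : r * s = 0 := hinj (h1.trans (map_zero _).symm)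
  have h3 : r = 0 := (mem_nonZeroDivisors_iff_right.mp hs) _ h2
  rw [h3, map_zero] at hr
  have h4 : t * algebraMap R N d₀ = 0 := by rw [mul_comm]; exact hr
  exact (mem_nonZeroDivisors_iff_right.mp hd₀) _ h4

/-- the numerator of `n` over the denominator `d₀` -/
noncomputable def num (n : N) : R := (hfrac n).choose

theorem num_spec (n : N) : algebraMap R N d₀ * n = algebraMap R N (num R N d₀ hfrac n) :=
  (hfrac n).choose_spec

include hinj in
theorem num_eq {n : N} {r : R} (h : algebraMap R N d₀ * n = algebraMap R N r) :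
    num R N d₀ hfrac n = r := by
  apply hinj
  rw [← num_spec, h]

/-- the embedding of `N` into the total ring of fractions of `R` -/
noncomputable def ψ : N →ₐ[R] FractionRing R where
  toFun n := IsLocalization.mk' (FractionRing R) (num R N d₀ hfrac n)
    (⟨d₀, d₀_mem R N hinj d₀ hd₀⟩ : nonZeroDivisors R)
  map_one' := by
    have : num R N d₀ hfrac 1 = d₀ := num_eq R N hinj d₀ hfrac (by rw [mul_one])
    rw [this]
    exact IsLocalization.mk'_self (FractionRing R) (d₀_mem R N hinj d₀ hd₀)
  map_mul' n n' := by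
    rw [← IsLocalization.mk'_mul, IsLocalization.mk'_eq_iff_eq]
    congr 1
    apply hinj
    simp only [Submonoid.coe_mul, map_mul, ← num_spec]
    ring
  map_zero' := by
    have : num R N d₀ hfrac 0 = 0 := num_eq R N hinj d₀ hfrac (by rw [mul_zero, map_zero])
    rw [this]
    exact IsLocalization.mk'_zero _
  map_add' n n' := by
    rw [← IsLocalization.mk'_add, IsLocalization.mk'_eq_iff_eq]
    congr 1
    apply hinj
    simp only [Submonoid.coe_mul, map_mul, map_add, ← num_spec]
    ring
  commutes' r := by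
    have : num R N d₀ hfrac (algebraMap R N r) = d₀ * r :=
      num_eq R N hinj d₀ hfrac (by rw [map_mul])
    show IsLocalization.mk' (FractionRing R) (num R N d₀ hfrac (algebraMap R N r)) _ = _
    rw [this, IsLocalization.mk'_eq_iff_eq_mul, mul_comm, map_mul]

theorem ψ_apply (n : N) : ψ R N hinj d₀ hd₀ hfrac n =
    IsLocalization.mk' (FractionRing R) (num R N d₀ hfrac n)
      (⟨d₀, d₀_mem R N hinj d₀ hd₀⟩ : nonZeroDivisors R) := rfl

theorem ψ_injective : Function.Injective (ψ R N hinj d₀ hd₀ hfrac) := by
  rw [injective_iff_map_eq_zero]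
  intro n hn
  rw [ψ_apply, IsLocalization.mk'_eq_zero_iff] at hn
  obtain ⟨m, hm⟩ := hn
  have h1 : num R N d₀ hfrac n = 0 := by
    have := (mem_nonZeroDivisors_iff_right.mp m.2) (num R N d₀ hfrac n)
    exact this (by rw [mul_comm]; exact hm)
  have h2 := num_spec R N d₀ hfrac n
  rw [h1, map_zero] at h2
  have h3 : n * algebraMap R N d₀ = 0 := by rw [mul_comm]; exact h2
  exact (mem_nonZeroDivisors_iff_right.mp hd₀) _ h3

theorem ψ_isIntegral [Algebra.IsIntegral R N] (n : N) : IsIntegral R (ψ R N hinj d₀ hd₀ hfrac n) :=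
  (Algebra.IsIntegral.isIntegral n).map (ψ R N hinj d₀ hd₀ hfrac)

theorem ψ_surjOn (hN2 : N2 N) (x : FractionRing R) (hx : IsIntegral R x) :
    ∃ n : N, ψ R N hinj d₀ hd₀ hfrac n = x := by
  obtain ⟨a, s, rfl⟩ := IsLocalization.exists_mk'_eq (nonZeroDivisors R) x
  obtain ⟨q, hq, hqx⟩ := hx
  -- the homogeneous relation in `R`
  have h1 : eval₂ (algebraMap R (FractionRing R))
      (algebraMap R (FractionRing R) s * IsLocalization.mk' (FractionRing R) a s)
      (q.scaleRoots s) = 0 := scaleRoots_eval₂_eq_zero _ hqx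
  rw [mul_comm, IsLocalization.mk'_spec, Polynomial.eval₂_at_apply] at h1
  have h2 : (q.scaleRoots s).eval a = 0 :=
    (IsFractionRing.injective R (FractionRing R)) (h1.trans (map_zero _).symm)
  -- transport to `N`
  have h3 : ((q.map (algebraMap R N)).scaleRoots (algebraMap R N s)).eval (algebraMap R N a)
      = 0 := by
    by_cases hnt : Nontrivial N
    · have hlc : algebraMap R N q.leadingCoeff ≠ 0 := by
        rw [hq.leadingCoeff, map_one]; exact one_ne_zero
      rw [← Polynomial.map_scaleRoots q s (algebraMap R N) hlc, Polynomial.eval_map,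
        Polynomial.eval₂_at_apply, h2, map_zero]
    · rw [not_nontrivial_iff_subsingleton] at hnt
      exact Subsingleton.elim _ _
  obtain ⟨n, hn⟩ := hN2 (algebraMap R N a) (algebraMap R N s) (q.map (algebraMap R N))
    (hq.map _) h3
  refine ⟨n, ?_⟩
  rw [ψ_apply, IsLocalization.mk'_eq_iff_eq]
  congr 1
  apply hinj
  show algebraMap R N (s * num R N d₀ hfrac n) = algebraMap R N (d₀ * a)
  rw [map_mul, map_mul, ← num_spec, hn]
  ring

include hinj hd₀ hfrac in
/-- **Recognition of the normalization**. -/
theorem exists_equiv [Algebra.IsIntegral R N] (hN2 : N2 N) :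
    ∃ ε : integralClosure R (FractionRing R) ≃+* N,
      ∀ r : R, ε (algebraMap R (integralClosure R (FractionRing R)) r) = algebraMap R N r := by
  let χ : N →+* integralClosure R (FractionRing R) :=
    (ψ R N hinj d₀ hd₀ hfrac).toRingHom.codRestrict (integralClosure R (FractionRing R)).toSubring
      (fun n => ψ_isIntegral R N hinj d₀ hd₀ hfrac n)
  have hχ : ∀ n, (χ n : FractionRing R) = ψ R N hinj d₀ hd₀ hfrac n := fun n => rfl
  have hbij : Function.Bijective χ := by
    constructor
    · intro n n' h
      apply ψ_injective R N hinj d₀ hd₀ hfrac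
      rw [← hχ, ← hχ, h]
    · intro x
      obtain ⟨n, hn⟩ := ψ_surjOn R N hinj d₀ hd₀ hfrac hN2 x.1 x.2
      exact ⟨n, Subtype.ext ((hχ n).trans hn)⟩
  let e : N ≃+* integralClosure R (FractionRing R) := RingEquiv.ofBijective χ hbij
  refine ⟨e.symm, fun r => ?_⟩
  rw [RingEquiv.symm_apply_eq]
  apply Subtype.ext
  show algebraMap R (FractionRing R) r = ψ R N hinj d₀ hd₀ hfrac (algebraMap R N r)
  rw [AlgHom.commutes]

end Groth.Agent.Lib.Helper22.NormModel
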