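import Mathlib
import Groth.Prelude.Def_CAlg2
import Groth.Prelude.Def_EGA4b
import Groth.Agent.Lib.Helper14.TotalFrac
import Groth.Agent.Lib.Helper22.NormProd
import Groth.Agent.Lib.Helper22.NormalGood
import Groth.Agent.Lib.Helper22.CplOnePlus2
import Groth.Agent.Lib.Helper13.Japanese3
import Groth.Agent.Lib.Helper12.AnUnramD

/-!
# The normalization of the reduction of a Noetherian ring: normality and finiteness (helper22)
-/

set_option autoImplicit false
set_option linter.style.haveILetI false
set_option linter.unusedSectionVars false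
universe u

namespace Groth.Agent.Lib.Helper22.NormRedFin

open Helper14

variable (A : Type u) [CommRing A] [IsNoetherianRing A]

instance isReduced_red' : IsReduced (CAlg2.red A) :=
  (Ideal.isRadical_iff_quotient_reduced (nilradical A)).mp (Ideal.radical_isRadical ⊥)

theorem finite_minimalPrimes_red : (minimalPrimes (CAlg2.red A)).Finite :=
  minimalPrimes.finite_of_isNoetherianRing _

/-- the normalization of the reduction is a normal ring -/
theorem isNormalRing_normRed : EGA4.IsNormalRing (CAlg2.normRed A) := by
  have hfin := finite_minimalPrimes_red A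
  let e := normalizationPiEquiv (CAlg2.red A) hfin
  have h1 : EGA4.IsNormalRing (∀ q : minimalPrimes (CAlg2.red A), DD (CAlg2.red A) q) :=
    Groth.Agent.Lib.Helper22.NormProd.isNormalRing_pi _ (fun q =>
      Groth.Agent.Lib.Helper22.CplOnePlus.isNormalRing_of_isIntegrallyClosed _)
  exact Groth.Agent.Lib.Helper22.NormalGood.good_normal.iso _ _ e.symm.toRingEquiv h1

/-- for a Nagata ring, the normalization of the reduction is finite -/
theorem finite_normRed (hN : CAlg.IsNagata A) : Module.Finite (CAlg2.red A) (CAlg2.normRed A) := by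
  have hfin := finite_minimalPrimes_red A
  haveI : Finite (minimalPrimes (CAlg2.red A)) := hfin
  let e := normalizationPiEquiv (CAlg2.red A) hfin
  have hNR : CAlg.IsNagata (CAlg2.red A) :=
    Groth.Agent.Lib.Helper12.AnUnram.isNagata_of_surjective (Ideal.Quotient.mk (nilradical A))
      Ideal.Quotient.mk_surjective hN
  haveI : ∀ q : minimalPrimes (CAlg2.red A), Module.Finite (CAlg2.red A) (DD (CAlg2.red A) q) := by
    intro q
    haveI : q.1.IsPrime := q.2.1.1
    have hN2 : CAlg.IsN2 (CAlg2.red A ⧸ q.1) := hNR.2 q.1
    haveI : Module.Finite (CAlg2.red A ⧸ q.1) (DD (CAlg2.red A) q) :=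
      Groth.Agent.Lib.Helper13.Japanese.finite_integralClosure_of_finite_of_isN2
        (CAlg2.red A ⧸ q.1) (CAlg2.red A ⧸ q.1) (KK (CAlg2.red A) q) (KK (CAlg2.red A) q) hN2
    haveI : Module.Finite (CAlg2.red A) (CAlg2.red A ⧸ q.1) :=
      Module.Finite.of_surjective (Ideal.Quotient.mkₐ (CAlg2.red A) q.1).toLinearMap
        Ideal.Quotient.mk_surjective
    exact Module.Finite.trans (CAlg2.red A ⧸ q.1) _
  exact Module.Finite.equiv e.symm.toLinearEquiv

end Groth.Agent.Lib.Helper22.NormRedFin
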