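import Mathlib
import Groth.Prelude.Def_CAlg2
import Groth.Prelude.Def_EGA4b
import Groth.Agent.Lib.Helper22.NormRedFin
import Groth.Agent.Lib.Helper22.NormModel
import Groth.Agent.Lib.Helper22.CplUnibranch

/-!
# Normalization commutes with completion under geometrically normal formal fibres (helper22)

For a Noetherian local ring `A` with geometrically normal formal fibres, `Â ⊗_A A'` (with `A'` the
normalization of `A_red`) is the normalization of `(Â)_red`.
-/

set_option autoImplicit false
set_option linter.style.haveILetI false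
set_option linter.unusedSectionVars false
universe u
open TensorProduct IsLocalRing

namespace Groth.Agent.Lib.Helper22.CplNormModel

open Groth.Agent.Lib.Helper12 Groth.Agent.Lib.Helper22.NormalGood
  Groth.Agent.Lib.Helper22.NormalColim

variable (A : Type u) [CommRing A] [IsNoetherianRing A] [IsLocalRing A]
  (h : EGA4.HasGeomNormalFormalFibres A)

include h in
theorem isNagata : CAlg.IsNagata A :=
  AnUnram.isNagata_of_geomReducedFormalFibres A fun p _ =>
    NormRedFib.isGeometricallyReduced_of_isGeomNormal (h p)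

include h in
theorem finite_normRed : Module.Finite A (CAlg2.normRed A) := by
  haveI := NormRedFin.finite_normRed A (isNagata A h)
  haveI : Module.Finite A (CAlg2.red A) :=
    Module.Finite.of_surjective (Ideal.Quotient.mkₐ A (nilradical A)).toLinearMap
      Ideal.Quotient.mk_surjective
  exact Module.Finite.trans (CAlg2.red A) _

include h in
/-- `Â ⊗_A A'` is a normal Noetherian ring -/
theorem isNormalRing_tensor :
    IsNoetherianRing (EGA4.Cpl A ⊗[A] CAlg2.normRed A) ∧
      EGA4.IsNormalRing (EGA4.Cpl A ⊗[A] CAlg2.normRed A) := by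
  haveI := finite_normRed A h
  have hA'normal : EGA4.IsNormalRing (CAlg2.normRed A) := NormRedFin.isNormalRing_normRed A
  haveI : Module.Flat A (EGA4.Cpl A) := inferInstance
  have hNH : EGA4.IsNormalHom A (EGA4.Cpl A) := ⟨inferInstance, fun p hp => h p⟩
  have hNH' := NormFib2.baseChange hNH (CAlg2.normRed A)
  haveI : IsNoetherianRing (CAlg2.normRed A) := IsNoetherianRing.of_finite A _
  haveI : IsNoetherianRing (EGA4.Cpl A) := AnUnram.isNoetherianRing_cpl A
  haveI : IsNoetherianRing (EGA4.Cpl A ⊗[A] CAlg2.normRed A) :=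
    IsNoetherianRing.of_finite (EGA4.Cpl A) _
  let ec : CAlg2.normRed A ⊗[A] EGA4.Cpl A ≃ₐ[A]
      EGA4.Cpl A ⊗[A] CAlg2.normRed A := Algebra.TensorProduct.comm A _ _
  haveI : IsNoetherianRing (CAlg2.normRed A ⊗[A] EGA4.Cpl A) :=
    isNoetherianRing_of_ringEquiv _ ec.symm.toRingEquiv
  have hC : EGA4.IsNormalRing (CAlg2.normRed A ⊗[A] EGA4.Cpl A) :=
    CplOnePlus.isNormalRing_of_isNormalHom _ _ hNH' hA'normal
  exact ⟨inferInstance, good_normal.iso _ _ ec.toRingEquiv hC⟩


/-- a common denominator for a finite normalization -/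
theorem exists_conductor (R : Type u) [CommRing R]
    [Module.Finite R (integralClosure R (FractionRing R))] :
    ∃ b ∈ nonZeroDivisors R, ∀ x : integralClosure R (FractionRing R),
      ∃ r : R, algebraMap R (integralClosure R (FractionRing R)) b * x =
        algebraMap R (integralClosure R (FractionRing R)) r := by
  obtain ⟨s, hs⟩ :=
    (Module.Finite.fg_top : (⊤ : Submodule R (integralClosure R (FractionRing R))).FG)
  classical
  obtain ⟨b, hb⟩ := IsLocalization.exist_integer_multiples_of_finset (nonZeroDivisors R)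
    (s.image (fun x : integralClosure R (FractionRing R) => (x : FractionRing R)))
  refine ⟨b.1, b.2, ?_⟩
  intro x
  have hx : x ∈ Submodule.span R (s : Set (integralClosure R (FractionRing R))) := by
    rw [hs]; trivial
  induction hx using Submodule.span_induction with
  | mem x hx =>
    obtain ⟨r, hr⟩ := hb x.1 (Finset.mem_image_of_mem _ hx)
    refine ⟨r, Subtype.ext ?_⟩
    show algebraMap R (FractionRing R) b.1 * x.1 = algebraMap R (FractionRing R) r
    rw [hr, Algebra.smul_def]
  | zero => exact ⟨0, by rw [mul_zero, map_zero]⟩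
  | add x y _ _ hx hy =>
    obtain ⟨r, hr⟩ := hx
    obtain ⟨r', hr'⟩ := hy
    exact ⟨r + r', by rw [mul_add, hr, hr', map_add]⟩
  | smul c x _ hx =>
    obtain ⟨r, hr⟩ := hx
    exact ⟨c * r, by rw [Algebra.smul_def, mul_left_comm, hr, map_mul]⟩

theorem algebraMap_red_normRed_injective (R : Type u) [CommRing R] :
    Function.Injective (algebraMap R (integralClosure R (FractionRing R))) := by
  intro x y hxy
  have h1 : algebraMap R (FractionRing R) x = algebraMap R (FractionRing R) y :=
    congrArg Subtype.val hxy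
  exact IsLocalization.injective (FractionRing R) le_rfl h1

section Model

/-- `Â → Â ⊗_A A'` kills the nilradical when the target is reduced -/
theorem algebraMap_eq_zero_of_mem_nilradical
    [IsReduced (EGA4.Cpl A ⊗[A] CAlg2.normRed A)] (x : EGA4.Cpl A)
    (hx : x ∈ nilradical (EGA4.Cpl A)) :
    algebraMap (EGA4.Cpl A) (EGA4.Cpl A ⊗[A] CAlg2.normRed A) x = 0 := by
  have h1 : IsNilpotent (algebraMap (EGA4.Cpl A) (EGA4.Cpl A ⊗[A] CAlg2.normRed A) x) :=
    (mem_nilradical.mp hx).map _
  exact h1.eq_zero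

/-- the ring map `(Â)_red → Â ⊗_A A'` -/
noncomputable def ρ [IsReduced (EGA4.Cpl A ⊗[A] CAlg2.normRed A)] :
    CAlg2.red (EGA4.Cpl A) →+* EGA4.Cpl A ⊗[A] CAlg2.normRed A :=
  Ideal.Quotient.lift (nilradical (EGA4.Cpl A))
    (algebraMap (EGA4.Cpl A) (EGA4.Cpl A ⊗[A] CAlg2.normRed A))
    (algebraMap_eq_zero_of_mem_nilradical A)

theorem ρ_mk [IsReduced (EGA4.Cpl A ⊗[A] CAlg2.normRed A)] (x : EGA4.Cpl A) :
    ρ A (Ideal.Quotient.mk _ x) = x ⊗ₜ[A] (1 : CAlg2.normRed A) :=
  Ideal.Quotient.lift_mk _ _ _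

/-- the kernel of `Â → Â ⊗_A A'` consists of nilpotents -/
theorem mem_nilradical_of_tmul_one_eq_zero (x : EGA4.Cpl A)
    (hx : x ⊗ₜ[A] (1 : CAlg2.normRed A) = 0) : x ∈ nilradical (EGA4.Cpl A) := by
  have hinj : Function.Injective
      ((IsScalarTower.toAlgHom A (CAlg2.red A) (CAlg2.normRed A)).toLinearMap.lTensor
        (EGA4.Cpl A)) :=
    Module.Flat.lTensor_preserves_injective_linearMap _
      (algebraMap_red_normRed_injective (CAlg2.red A))
  have h1 : x ⊗ₜ[A] (1 : CAlg2.red A) = 0 := by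
    apply hinj
    rw [LinearMap.lTensor_tmul, map_zero]
    simpa using hx
  have h2 : Algebra.TensorProduct.quotIdealMapEquivTensorQuot (EGA4.Cpl A) (nilradical A)
      (Ideal.Quotient.mk _ x) = 0 := by
    rw [Algebra.TensorProduct.quotIdealMapEquivTensorQuot_mk]
    exact h1
  have h3 : x ∈ (nilradical A).map (algebraMap A (EGA4.Cpl A)) := by
    rw [← Ideal.Quotient.eq_zero_iff_mem]
    exact (Algebra.TensorProduct.quotIdealMapEquivTensorQuot (EGA4.Cpl A)
      (nilradical A)).injective (h2.trans (map_zero _).symm)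
  have h4 : (nilradical A).map (algebraMap A (EGA4.Cpl A)) ≤ nilradical (EGA4.Cpl A) := by
    rw [Ideal.map_le_iff_le_comap]
    intro a ha
    exact mem_nilradical.mpr ((mem_nilradical.mp ha).map _)
  exact h4 h3

theorem ρ_injective [IsReduced (EGA4.Cpl A ⊗[A] CAlg2.normRed A)] :
    Function.Injective (ρ A) := by
  rw [injective_iff_map_eq_zero]
  intro r hr
  obtain ⟨x, rfl⟩ := Ideal.Quotient.mk_surjective r
  rw [ρ_mk] at hr
  exact Ideal.Quotient.eq_zero_iff_mem.mpr (mem_nilradical_of_tmul_one_eq_zero A x hr)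


include h in
/-- **Normalization commutes with completion**: `Â ⊗_A A'` is the normalization of `(Â)_red`,
compatibly with the maps from `Â`. -/
theorem exists_equiv :
    ∃ ε : CAlg2.normRed (EGA4.Cpl A) ≃+* EGA4.Cpl A ⊗[A] CAlg2.normRed A,
      ∀ x : EGA4.Cpl A, ε (algebraMap (CAlg2.red (EGA4.Cpl A)) (CAlg2.normRed (EGA4.Cpl A))
        (Ideal.Quotient.mk _ x)) = x ⊗ₜ[A] (1 : CAlg2.normRed A) := by
  obtain ⟨hnoeth, hnormal⟩ := isNormalRing_tensor A h
  haveI : IsReduced (EGA4.Cpl A ⊗[A] CAlg2.normRed A) :=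
    Groth.Agent.Lib.Helper9.NormalLoc.isReduced_of_isNormalRing hnormal
  haveI := finite_normRed A h
  haveI := NormRedFin.finite_normRed A (isNagata A h)
  letI : Algebra (CAlg2.red (EGA4.Cpl A)) (EGA4.Cpl A ⊗[A] CAlg2.normRed A) := (ρ A).toAlgebra
  have halg : ∀ r, algebraMap (CAlg2.red (EGA4.Cpl A)) (EGA4.Cpl A ⊗[A] CAlg2.normRed A) r =
      ρ A r := fun r => rfl
  haveI : IsScalarTower (EGA4.Cpl A) (CAlg2.red (EGA4.Cpl A))
      (EGA4.Cpl A ⊗[A] CAlg2.normRed A) :=
    IsScalarTower.of_algebraMap_eq fun x => (ρ_mk A x).symm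
  haveI : Algebra.IsIntegral (EGA4.Cpl A) (EGA4.Cpl A ⊗[A] CAlg2.normRed A) :=
    Algebra.IsIntegral.of_finite _ _
  haveI : Algebra.IsIntegral (CAlg2.red (EGA4.Cpl A)) (EGA4.Cpl A ⊗[A] CAlg2.normRed A) :=
    ⟨fun t => (Algebra.IsIntegral.isIntegral (R := EGA4.Cpl A) t).tower_top⟩
  -- the conductor
  obtain ⟨b, hb, hcond⟩ := exists_conductor (CAlg2.red A)
  obtain ⟨d, rfl⟩ := Ideal.Quotient.mk_surjective b
  -- `d` is a nonzerodivisor on `A'`
  have hdinj : Function.Injective (LinearMap.lsmul A (CAlg2.normRed A) d) := by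
    intro y y' hyy'
    have key : ∀ y : CAlg2.normRed A,
        ((LinearMap.lsmul A (CAlg2.normRed A) d y : CAlg2.normRed A) :
          FractionRing (CAlg2.red A)) =
        algebraMap (CAlg2.red A) (FractionRing (CAlg2.red A)) (Ideal.Quotient.mk _ d) * y.1 := by
      intro y
      rw [LinearMap.lsmul_apply, Algebra.smul_def]
      rfl
    have h1 : algebraMap (CAlg2.red A) (FractionRing (CAlg2.red A))
        (Ideal.Quotient.mk _ d) * y.1 = algebraMap (CAlg2.red A) (FractionRing (CAlg2.red A))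
        (Ideal.Quotient.mk _ d) * y'.1 := by
      rw [← key, ← key, hyy']
    have hu : IsUnit (algebraMap (CAlg2.red A) (FractionRing (CAlg2.red A))
        (Ideal.Quotient.mk _ d)) :=
      IsLocalization.map_units (FractionRing (CAlg2.red A))
        (⟨_, hb⟩ : nonZeroDivisors (CAlg2.red A))
    exact Subtype.ext (hu.mul_left_cancel h1)
  have hdT : Function.Injective ((LinearMap.lsmul A (CAlg2.normRed A) d).lTensor (EGA4.Cpl A)) :=
    Module.Flat.lTensor_preserves_injective_linearMap _ hdinj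
  have hdT' : ∀ t : EGA4.Cpl A ⊗[A] CAlg2.normRed A,
      (LinearMap.lsmul A (CAlg2.normRed A) d).lTensor (EGA4.Cpl A) t = d • t := by
    intro t
    induction t using TensorProduct.induction_on with
    | zero => simp
    | tmul x y => rw [LinearMap.lTensor_tmul, LinearMap.lsmul_apply, TensorProduct.tmul_smul]
    | add x y hx hy => rw [map_add, hx, hy, smul_add]
  have hd₀ : ∀ t : EGA4.Cpl A ⊗[A] CAlg2.normRed A,
      ρ A (Ideal.Quotient.mk _ (algebraMap A (EGA4.Cpl A) d)) * t = d • t := by
    intro t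
    rw [ρ_mk, Algebra.smul_def d t]
    rfl
  refine NormModel.exists_equiv (CAlg2.red (EGA4.Cpl A)) (EGA4.Cpl A ⊗[A] CAlg2.normRed A)
    (ρ_injective A) (Ideal.Quotient.mk _ (algebraMap A (EGA4.Cpl A) d)) ?_ ?_
    (N2_of_isNormalRing hnormal) |>.imp fun ε hε x => ?_
  · rw [mem_nonZeroDivisors_iff_right]
    intro t ht
    rw [halg, mul_comm, hd₀, ← hdT'] at ht
    exact hdT (ht.trans (map_zero _).symm)
  · intro t
    simp only [halg, hd₀]
    induction t using TensorProduct.induction_on with
    | zero => exact ⟨0, by rw [smul_zero, map_zero]⟩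
    | tmul x y =>
      obtain ⟨r, hr⟩ := hcond y
      obtain ⟨a, rfl⟩ := Ideal.Quotient.mk_surjective r
      refine ⟨Ideal.Quotient.mk _ (a • x), ?_⟩
      have h1 : d • y = a • (1 : CAlg2.normRed A) := by
        rw [Algebra.smul_def, Algebra.smul_def, mul_one]
        exact hr
      rw [ρ_mk, ← TensorProduct.tmul_smul, h1, TensorProduct.tmul_smul, TensorProduct.smul_tmul']
    | add x y hx hy =>
      obtain ⟨r, hr⟩ := hx
      obtain ⟨r', hr'⟩ := hy
      exact ⟨r + r', by rw [smul_add, hr, hr', map_add]⟩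
  · rw [hε, halg, ρ_mk]

end Model

end Groth.Agent.Lib.Helper22.CplNormModel
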