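import Mathlib
import Groth.Prelude.Def_Brnch
import Groth.Agent.Lib.Helper22.CplNormModel
import Groth.Agent.Lib.Helper14.MaxHom
import Groth.Agent.Lib.helper19.ComplUnram2

/-!
# Branches of the completion under geometrically normal formal fibres (helper22)

The completion has at most as many (geometric) branches as `A`, by comparing the maximal ideals
of `Â ⊗_A A' ≅ normRed Â` with those of `A' = normRed A`.
-/

set_option autoImplicit false
set_option linter.style.haveILetI false
set_option linter.unusedSectionVars false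
universe u
open TensorProduct IsLocalRing

namespace Groth.Agent.Lib.Helper22.CplBrCount

open Groth.Agent.Lib.Helper12 Helper14

variable (A : Type u) [CommRing A] [IsNoetherianRing A] [IsLocalRing A]

/-- `A → normRed A` -/
noncomputable abbrev fA : A →+* CAlg2.normRed A :=
  (algebraMap (CAlg2.red A) (CAlg2.normRed A)).comp (Ideal.Quotient.mk (nilradical A))

/-- the isomorphism of algebraic closures of the residue fields of `A` and `Â` -/
noncomputable def closEquiv :
    AlgebraicClosure (ResidueField A) ≃+* AlgebraicClosure (ResidueField (EGA4.Cpl A)) :=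
  IsAlgClosure.equivOfEquiv _ _ (Groth.Agent.Lib.Helper19.ComplUnram.eRes A)

theorem closEquiv_toClosure (a : A) :
    closEquiv A (Brnch.toClosure A a) =
      Brnch.toClosure (EGA4.Cpl A) (algebraMap A (EGA4.Cpl A) a) := by
  unfold Brnch.toClosure closEquiv
  simp only [RingHom.comp_apply]
  rw [IsAlgClosure.equivOfEquiv_algebraMap, Groth.Agent.Lib.Helper19.ComplUnram.eRes_residue]

section Main

variable (ε : CAlg2.normRed (EGA4.Cpl A) ≃+* EGA4.Cpl A ⊗[A] CAlg2.normRed A)
  (hε : ∀ x : EGA4.Cpl A, ε (fA (EGA4.Cpl A) x) = x ⊗ₜ[A] (1 : CAlg2.normRed A))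

/-- `A' → normRed Â` -/
noncomputable def ι' : CAlg2.normRed A →+* CAlg2.normRed (EGA4.Cpl A) :=
  (ε.symm : _ →+* _).comp
    (Algebra.TensorProduct.includeRight (R := A) (A := EGA4.Cpl A)
      (B := CAlg2.normRed A)).toRingHom

theorem ι'_apply (b : CAlg2.normRed A) : ι' A ε b = ε.symm ((1 : EGA4.Cpl A) ⊗ₜ[A] b) := rfl

include hε in
theorem ι'_fA (a : A) : ι' A ε (fA A a) = fA (EGA4.Cpl A) (algebraMap A (EGA4.Cpl A) a) := by
  rw [ι'_apply, RingEquiv.symm_apply_eq, hε]
  have h1 : fA A a = a • (1 : CAlg2.normRed A) := by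
    rw [Algebra.smul_def, mul_one]; rfl
  have h2 : algebraMap A (EGA4.Cpl A) a = a • (1 : EGA4.Cpl A) := by
    rw [Algebra.smul_def, mul_one]
  rw [h1, h2, TensorProduct.smul_tmul]

include hε in
theorem symm_tmul (x : EGA4.Cpl A) (b : CAlg2.normRed A) :
    ε.symm (x ⊗ₜ[A] b) = fA (EGA4.Cpl A) x * ι' A ε b := by
  rw [ι'_apply, ← (ε.symm_apply_apply (fA (EGA4.Cpl A) x)), hε, ← map_mul,
    Algebra.TensorProduct.tmul_mul_tmul, mul_one, one_mul]

include hε in
/-- every element of `normRed Â` is congruent to one from `A'` modulo `𝔪_Â` -/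
theorem exists_sub_mem (y : CAlg2.normRed (EGA4.Cpl A)) :
    ∃ b : CAlg2.normRed A, y - ι' A ε b ∈
      (maximalIdeal (EGA4.Cpl A)).map (fA (EGA4.Cpl A)) := by
  suffices H : ∀ t : EGA4.Cpl A ⊗[A] CAlg2.normRed A, ∃ b : CAlg2.normRed A,
      ε.symm t - ι' A ε b ∈ (maximalIdeal (EGA4.Cpl A)).map (fA (EGA4.Cpl A)) by
    obtain ⟨b, hb⟩ := H (ε y)
    rw [RingEquiv.symm_apply_apply] at hb
    exact ⟨b, hb⟩
  intro t
  induction t using TensorProduct.induction_on with
  | zero => exact ⟨0, by rw [map_zero, map_zero, sub_zero]; exact zero_mem _⟩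
  | tmul x b =>
    obtain ⟨a, ha⟩ := (AUn.FormalLike.cpl A).res_surj x
    refine ⟨fA A a * b, ?_⟩
    rw [symm_tmul A ε hε, map_mul, ι'_fA A ε hε, ← sub_mul, ← map_sub]
    exact Ideal.mul_mem_right _ _ (Ideal.mem_map_of_mem _ ha)
  | add t t' ht ht' =>
    obtain ⟨b, hb⟩ := ht
    obtain ⟨b', hb'⟩ := ht'
    refine ⟨b + b', ?_⟩
    have : ε.symm (t + t') - ι' A ε (b + b') =
        (ε.symm t - ι' A ε b) + (ε.symm t' - ι' A ε b') := by
      rw [map_add, map_add]; ring
    rw [this]
    exact add_mem hb hb'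


instance isIntegral_cpl_normRed (B : Type u) [CommRing B] :
    Algebra.IsIntegral B (CAlg2.normRed B) := by
  haveI : Algebra.IsIntegral B (CAlg2.red B) :=
    Algebra.isIntegral_of_surjective Ideal.Quotient.mk_surjective
  exact Algebra.IsIntegral.trans (CAlg2.red B)

/-- a maximal ideal of `normRed B` contains the image of the maximal ideal of `B` -/
theorem map_maximalIdeal_le (B : Type u) [CommRing B] [IsLocalRing B]
    (n : Ideal (CAlg2.normRed B)) [n.IsMaximal] : (maximalIdeal B).map (fA B) ≤ n := by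
  rw [Ideal.map_le_iff_le_comap]
  have h1 : (n.comap (algebraMap B (CAlg2.normRed B))).IsMaximal :=
    Ideal.isMaximal_comap_of_isIntegral_of_isMaximal n
  rw [← IsLocalRing.eq_maximalIdeal h1]
  exact le_rfl

theorem comap_fA (B : Type u) [CommRing B] [IsLocalRing B]
    (n : Ideal (CAlg2.normRed B)) [n.IsMaximal] : n.comap (fA B) = maximalIdeal B := by
  have h1 : (n.comap (algebraMap B (CAlg2.normRed B))).IsMaximal :=
    Ideal.isMaximal_comap_of_isIntegral_of_isMaximal n
  exact IsLocalRing.eq_maximalIdeal h1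

include hε in
/-- the contraction of a maximal ideal of `normRed Â` to `A'` is maximal -/
theorem isMaximal_comap_ι' (n : Ideal (CAlg2.normRed (EGA4.Cpl A))) [n.IsMaximal] :
    (n.comap (ι' A ε)).IsMaximal := by
  haveI : (n.comap (ι' A ε)).IsPrime := Ideal.comap_isPrime _ _
  have h1 : (n.comap (ι' A ε)).comap (algebraMap A (CAlg2.normRed A)) = maximalIdeal A := by
    have h2 : (ι' A ε).comp (algebraMap A (CAlg2.normRed A)) =
        (fA (EGA4.Cpl A)).comp (algebraMap A (EGA4.Cpl A)) :=
      RingHom.ext fun a => ι'_fA A ε hε a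
    rw [Ideal.comap_comap, h2, ← Ideal.comap_comap, comap_fA]
    exact ((IsLocalRing.local_hom_TFAE (algebraMap A (EGA4.Cpl A))).out 0 4).mp
      (inferInstance : IsLocalHom (algebraMap A (EGA4.Cpl A)))
  apply Ideal.isMaximal_of_isIntegral_of_isMaximal_comap (R := A)
  rw [h1]
  infer_instance

include hε in
theorem comap_ι'_injective (n₁ n₂ : Ideal (CAlg2.normRed (EGA4.Cpl A))) [n₁.IsMaximal]
    [n₂.IsMaximal] (h12 : n₁.comap (ι' A ε) = n₂.comap (ι' A ε)) : n₁ = n₂ := by
  have key : ∀ (n n' : Ideal (CAlg2.normRed (EGA4.Cpl A))) [n.IsMaximal] [n'.IsMaximal],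
      n.comap (ι' A ε) = n'.comap (ι' A ε) → n ≤ n' := by
    intro n n' _ _ hnn' y hy
    obtain ⟨b, hb⟩ := exists_sub_mem A ε hε y
    have h1 : ι' A ε b ∈ n := by
      have := sub_mem hy (map_maximalIdeal_le _ n hb)
      rwa [sub_sub_cancel] at this
    have h2 : ι' A ε b ∈ n' := by
      have : b ∈ n.comap (ι' A ε) := h1
      rw [hnn'] at this
      exact this
    have := add_mem (map_maximalIdeal_le _ n' hb) h2
    rwa [sub_add_cancel] at this
  exact le_antisymm (key n₁ n₂ h12) (key n₂ n₁ h12.symm)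

include hε in
/-- the completion has at most as many maximal ideals in its normalization -/
theorem card_maximalSpectrum_le :
    ENat.card (MaximalSpectrum (CAlg2.normRed (EGA4.Cpl A))) ≤
      ENat.card (MaximalSpectrum (CAlg2.normRed A)) := by
  apply ENat.card_le_card_of_injective
    (f := fun n : MaximalSpectrum (CAlg2.normRed (EGA4.Cpl A)) =>
      (⟨n.asIdeal.comap (ι' A ε), haveI := n.isMaximal; isMaximal_comap_ι' A ε hε n.asIdeal⟩ :
        MaximalSpectrum (CAlg2.normRed A)))
  intro n₁ n₂ h12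
  haveI := n₁.isMaximal
  haveI := n₂.isMaximal
  have h1 : n₁.asIdeal.comap (ι' A ε) = n₂.asIdeal.comap (ι' A ε) :=
    congrArg MaximalSpectrum.asIdeal h12
  exact MaximalSpectrum.ext (comap_ι'_injective A ε hε _ _ h1)

/-- pulling back a geometric point of `normRed Â` to `normRed A` -/
noncomputable def pull :
    MaxHom (fA (EGA4.Cpl A)) (Brnch.toClosure (EGA4.Cpl A)) → MaxHom (fA A) (Brnch.toClosure A) :=
  fun ⟨τ, hτ1, hτ2⟩ =>
    ⟨((closEquiv A).symm : _ →+* _).comp (τ.comp (ι' A ε)), by
      refine RingHom.ext fun a => ?_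
      simp only [RingHom.comp_apply, RingHom.coe_coe]
      rw [RingEquiv.symm_apply_eq, closEquiv_toClosure]
      have h1 := ι'_fA A ε hε a
      simp only [RingHom.comp_apply] at h1
      rw [h1]
      exact RingHom.congr_fun hτ1 _, by
      have hk : RingHom.ker (((closEquiv A).symm : AlgebraicClosure (ResidueField (EGA4.Cpl A)) →+*
          AlgebraicClosure (ResidueField A)).comp (τ.comp (ι' A ε))) =
          (RingHom.ker τ).comap (ι' A ε) := by
        ext y
        simp only [RingHom.mem_ker, RingHom.comp_apply, RingHom.coe_coe, Ideal.mem_comap,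
          EmbeddingLike.map_eq_zero_iff]
      rw [hk]
      haveI := hτ2
      exact isMaximal_comap_ι' A ε hε _⟩

include hε in
/-- the completion has at most as many geometric points on its normalization -/
theorem card_maxHom_le :
    ENat.card (MaxHom (fA (EGA4.Cpl A)) (Brnch.toClosure (EGA4.Cpl A))) ≤
      ENat.card (MaxHom (fA A) (Brnch.toClosure A)) := by
  apply ENat.card_le_card_of_injective (f := pull A ε hε)
  rintro ⟨τ₁, h11, h12⟩ ⟨τ₂, h21, h22⟩ h12'
  have h1 : ∀ b, τ₁ (ι' A ε b) = τ₂ (ι' A ε b) := by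
    intro b
    have := RingHom.congr_fun (congrArg Subtype.val h12') b
    simp only [pull, RingHom.comp_apply, RingHom.coe_coe] at this
    exact (closEquiv A).symm.injective this
  have h2 : ∀ x, τ₁ (fA (EGA4.Cpl A) x) = τ₂ (fA (EGA4.Cpl A) x) := by
    intro x
    rw [← RingHom.comp_apply, ← RingHom.comp_apply, h11, h21]
  apply Subtype.ext
  refine RingHom.ext fun y => ?_
  obtain ⟨t, rfl⟩ := ε.symm.surjective y
  show τ₁ (ε.symm t) = τ₂ (ε.symm t)
  induction t using TensorProduct.induction_on with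
  | zero => rw [map_zero, map_zero, map_zero]
  | tmul x b => rw [symm_tmul A ε hε, map_mul, map_mul, h1, h2]
  | add t t' ht ht' => rw [map_add, map_add, map_add, ht, ht']

end Main

/-- **S9244**, first half. -/
theorem numBranches_cpl_le (h : EGA4.HasGeomNormalFormalFibres A) :
    Brnch.numBranches (EGA4.Cpl A) ≤ Brnch.numBranches A := by
  obtain ⟨ε, hε⟩ := CplNormModel.exists_equiv A h
  haveI : IsNoetherianRing (EGA4.Cpl A) := AnUnram.isNoetherianRing_cpl A
  unfold Brnch.numBranches
  rw [if_pos (minimalPrimes.finite_of_isNoetherianRing _),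
    if_pos (minimalPrimes.finite_of_isNoetherianRing _)]
  exact card_maximalSpectrum_le A ε hε

/-- **S9244**, second half. -/
theorem numGeomBranches_cpl_le (h : EGA4.HasGeomNormalFormalFibres A) :
    Brnch.numGeomBranches (EGA4.Cpl A) ≤ Brnch.numGeomBranches A := by
  obtain ⟨ε, hε⟩ := CplNormModel.exists_equiv A h
  haveI : IsNoetherianRing (EGA4.Cpl A) := AnUnram.isNoetherianRing_cpl A
  unfold Brnch.numGeomBranches
  rw [if_pos (minimalPrimes.finite_of_isNoetherianRing _),
    if_pos (minimalPrimes.finite_of_isNoetherianRing _)]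
  have h1 := card_pairEmb (fA (EGA4.Cpl A)) (Brnch.toClosure (EGA4.Cpl A))
  have h2 := card_pairEmb (fA A) (Brnch.toClosure A)
  exact (h1.trans_le (card_maxHom_le A ε hε)).trans h2.symm.le

end Groth.Agent.Lib.Helper22.CplBrCount
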