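import Mathlib
import Groth.Agent.Lib.Helper22.CplLocGlob2

set_option autoImplicit false
set_option linter.style.haveILetI false
set_option linter.unusedSectionVars false
universe u
open TensorProduct IsLocalRing

namespace Groth.Agent.Lib.Helper22.CplSurj

variable {R0 B : Type u} [CommRing R0] [CommRing B] (π : R0 →+* B) (I' : Ideal B)

theorem pow_le_comap (n : ℕ) : (I'.comap π) ^ n ≤ (I' ^ n).comap π := by
  rw [← Ideal.map_le_iff_le_comap, Ideal.map_pow]
  exact Ideal.pow_right_mono Ideal.map_comap_le n

/-- the level maps -/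
noncomputable def level (n : ℕ) : AdicCompletion (I'.comap π) R0 →+* B ⧸ I' ^ n :=
  (Ideal.quotientMap (I' ^ n) π (pow_le_comap π I' n)).comp
    (AdicCompletion.evalₐ (I'.comap π) n : AdicCompletion (I'.comap π) R0 →+* _)

theorem level_mk (n : ℕ) (c : AdicCompletion.AdicCauchySequence (I'.comap π) R0) :
    level π I' n (AdicCompletion.mk (I'.comap π) R0 c) = Ideal.Quotient.mk (I' ^ n) (π (c n)) := by
  simp only [level, RingHom.comp_apply, RingHom.coe_coe, AdicCompletion.evalₐ_mk,
    Ideal.quotientMap_mk]

theorem level_compat {m n : ℕ} (hle : m ≤ n) :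
    (Ideal.Quotient.factorPow I' hle).comp (level π I' n) = level π I' m := by
  ext x
  obtain ⟨c, rfl⟩ := AdicCompletion.mk_surjective (I'.comap π) R0 x
  simp only [RingHom.comp_apply, level_mk]
  rw [Ideal.Quotient.factorPow, Ideal.Quotient.factor_mk, Ideal.Quotient.eq]
  have h1 : c m - c n ∈ (I'.comap π) ^ m := by
    have := c.2 hle
    rw [SModEq.sub_mem] at this
    simpa using this
  have h2 := pow_le_comap π I' m h1
  rw [Ideal.mem_comap, map_sub] at h2
  have h3 : π (c n) - π (c m) = -(π (c m) - π (c n)) := by ring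
  rw [h3]
  exact (I' ^ m).neg_mem h2

/-- the completed map -/
noncomputable def cmap : AdicCompletion (I'.comap π) R0 →+* AdicCompletion I' B :=
  AdicCompletion.liftRingHom I' (level π I') (fun hle => level_compat π I' hle)

theorem cmap_of (r : R0) :
    cmap π I' (AdicCompletion.of (I'.comap π) R0 r) = AdicCompletion.of I' B (π r) := by
  apply AdicCompletion.ext_evalₐ
  intro n
  rw [cmap, AdicCompletion.evalₐ_liftRingHom, AdicCompletion.evalₐ_of]
  simp only [level, RingHom.comp_apply, RingHom.coe_coe, AdicCompletion.evalₐ_of,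
    Ideal.quotientMap_mk]

theorem cmap_surjective [IsNoetherianRing R0] (hπ : Function.Surjective π) :
    Function.Surjective (cmap π I') := by
  haveI : IsNoetherianRing B := isNoetherianRing_of_surjective R0 B π hπ
  have hfg0 : (I'.comap π).FG := IsNoetherian.noetherian _
  have hfg : I'.FG := IsNoetherian.noetherian _
  haveI hc0 := AdicCompletion.isAdicComplete_self (I'.comap π) hfg0
  haveI hc := AdicCompletion.isAdicComplete_self I' hfg
  have hmap : ((I'.comap π).map (algebraMap R0 (AdicCompletion (I'.comap π) R0))).map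
      (cmap π I') = I'.map (algebraMap B (AdicCompletion I' B)) := by
    rw [Ideal.map_map]
    have : (cmap π I').comp (algebraMap R0 (AdicCompletion (I'.comap π) R0)) =
        (algebraMap B (AdicCompletion I' B)).comp π := by
      refine RingHom.ext (fun r => ?_)
      exact cmap_of π I' r
    rw [this, ← Ideal.map_map, Ideal.map_comap_of_surjective π hπ]
  haveI : IsHausdorff (((I'.comap π).map (algebraMap R0 (AdicCompletion (I'.comap π) R0))).map
      (cmap π I')) (AdicCompletion I' B) := by
    rw [hmap]; infer_instance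
  apply surjective_of_mk_map_comp_surjective
    (I := (I'.comap π).map (algebraMap R0 (AdicCompletion (I'.comap π) R0))) (cmap π I')
  intro y
  obtain ⟨b', rfl⟩ := Ideal.Quotient.mk_surjective y
  obtain ⟨b, hb⟩ := Groth.Agent.Lib.Helper22.CplLocGlob.exists_sub_mem B I' hfg b'
  obtain ⟨r, rfl⟩ := hπ b
  refine ⟨AdicCompletion.of (I'.comap π) R0 r, ?_⟩
  rw [RingHom.comp_apply, cmap_of, Ideal.Quotient.eq, hmap]
  have : AdicCompletion.of I' B (π r) - b' = -(b' - algebraMap B (AdicCompletion I' B) (π r)) := by
    rw [neg_sub]; rfl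
  rw [this]
  exact (Ideal.map (algebraMap B (AdicCompletion I' B)) I').neg_mem hb

end Groth.Agent.Lib.Helper22.CplSurj
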