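import Mathlib
import Groth.Prelude.Def_EGA4b
import Groth.Agent.Lib.Helper22.CplSurj
import Groth.Agent.Lib.Helper22.CplLocGlob4
import Groth.Agent.Lib.Helper22.CplTransfer
import Groth.Agent.Lib.Helper22.CplOnePlus2
import Groth.Agent.Lib.Helper5.RegCompletionB
import Groth.Agent.Lib.Helper21.Torus10

set_option autoImplicit false
set_option linter.style.haveILetI false
set_option linter.unusedSectionVars false
universe u
open TensorProduct IsLocalRing

namespace Groth.Agent.Lib.Helper22.CplExc

open Groth.Agent.Lib.Helper22.CplLocGlob Groth.Agent.Lib.Helper22.CplOnePlus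

/-- a localization of a G-ring has geometrically normal formal fibres at all its primes;
normality of the completion along any ideal -/
theorem isNormalRing_adicCompletion_localization (A : Type u) [CommRing A] [IsDomain A]
    [IsIntegrallyClosed A] (hG : CAlg.IsGRing A) (M : Submonoid A)
    (I' : Ideal (Localization M)) :
    EGA4.IsNormalRing (AdicCompletion I' (Localization M)) := by
  haveI := hG.1
  haveI : IsNoetherianRing (Localization M) := IsLocalization.isNoetherianRing M _ inferInstance
  haveI : IsNoetherianRing (AdicCompletion I' (Localization M)) :=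
    Groth.Agent.Lib.helper19.isNoetherianRing_adicCompletion _ I'
  have hA : EGA4.IsNormalRing A := isNormalRing_of_isIntegrallyClosed A
  -- local rings of the localization
  have key : ∀ (P : Ideal (Localization M)) [P.IsPrime],
      Nonempty (Localization.AtPrime (P.comap (algebraMap A (Localization M))) ≃+*
        Localization.AtPrime P) := fun P _ =>
    ⟨(IsLocalization.localizationLocalizationAtPrimeIsoLocalization M P).toRingEquiv⟩
  have hB : EGA4.IsNormalRing (Localization M) := by
    intro P hP
    obtain ⟨e⟩ := key P
    obtain ⟨h1, h2⟩ := hA (P.comap (algebraMap A (Localization M)))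
    exact ⟨e.toMulEquiv.isDomain_iff.1 h1,
      IsIntegrallyClosed.of_equiv (R := Localization.AtPrime (P.comap _)) e⟩
  have hff : ∀ (P : Ideal (Localization M)) [P.IsPrime],
      EGA4.HasGeomNormalFormalFibres (Localization.AtPrime P) := by
    intro P hP
    obtain ⟨e⟩ := key P
    have h1 := hG.2 (P.comap (algebraMap A (Localization M)))
    have h2 := Groth.Agent.Lib.Helper22.CplTransfer.isRegularHom_cpl_of_ringEquiv e h1
    exact (Groth.Agent.Lib.Helper22.CplDescent.isNormalHom_of_isRegularHom h2).2
  have hN := isNormalHom_adicCompletion (Localization M) I' hff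
  exact isNormalRing_of_isNormalHom _ _ hN hB

/-- the completion of a localization of a quotient of a regular ring is a quotient of a regular
ring -/
theorem exists_regular_surjective (A : Type u) [CommRing A]
    (hreg : ∃ (R : Type u) (_ : CommRing R) (_ : IsRegularRing R) (φ : R →+* A),
      Function.Surjective φ) (f : A) (I' : Ideal (Localization.Away f)) :
    ∃ (R' : Type u) (_ : CommRing R') (_ : IsRegularRing R')
      (ψ : R' →+* AdicCompletion I' (Localization.Away f)), Function.Surjective ψ := by
  obtain ⟨R, _, hR, φ, hφ⟩ := hreg
  obtain ⟨g, rfl⟩ := hφ f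
  let M : Submonoid R := Submonoid.powers g
  haveI : IsLocalization (M.map φ) (Localization.Away (φ g)) := by
    have : M.map φ = Submonoid.powers (φ g) := Submonoid.map_powers φ g
    rw [this]; infer_instance
  let π : Localization M →+* Localization.Away (φ g) :=
    IsLocalization.map (Localization.Away (φ g)) φ M.le_comap_map
  have hπ : Function.Surjective π :=
    IsLocalization.map_surjective_of_surjective M (Localization M) (Localization.Away (φ g)) hφ
  haveI : IsRegularRing (Localization M) :=
    Groth.Agent.Lib.Helper21.Torus.isRegularRing_of_isLocalization M _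
  haveI : IsNoetherianRing (Localization M) := inferInstance
  exact ⟨AdicCompletion (I'.comap π) (Localization M), inferInstance,
    Groth.Agent.Lib.Helper5.RegCompletion.isRegularRing_adicCompletion _ _,
    Groth.Agent.Lib.Helper22.CplSurj.cmap π I',
    Groth.Agent.Lib.Helper22.CplSurj.cmap_surjective π I' hπ⟩

end Groth.Agent.Lib.Helper22.CplExc
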