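import Mathlib

set_option autoImplicit false
set_option linter.style.haveILetI false
set_option linter.unusedSectionVars false
universe u
open TensorProduct IsLocalRing

namespace Groth.Agent.Lib.Helper22.CplExtend

variable {A S : Type u} [CommRing A] [CommRing S] (IA : Ideal A) (𝔠 : Ideal S)
  (v : A →+* S) (hle : IA ≤ 𝔠.comap v)

include hle in
theorem pow_le_comap (n : ℕ) : IA ^ n ≤ (𝔠 ^ n).comap v := by
  rw [← Ideal.map_le_iff_le_comap, Ideal.map_pow]
  exact Ideal.pow_right_mono (Ideal.map_le_iff_le_comap.mpr hle) n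

/-- the level maps -/
noncomputable def level (n : ℕ) : AdicCompletion IA A →+* S ⧸ 𝔠 ^ n :=
  (Ideal.quotientMap (𝔠 ^ n) v (pow_le_comap IA 𝔠 v hle n)).comp
    (AdicCompletion.evalₐ IA n : AdicCompletion IA A →+* _)

theorem level_mk (n : ℕ) (c : AdicCompletion.AdicCauchySequence IA A) :
    level IA 𝔠 v hle n (AdicCompletion.mk IA A c) = Ideal.Quotient.mk (𝔠 ^ n) (v (c n)) := by
  simp only [level, RingHom.comp_apply, RingHom.coe_coe, AdicCompletion.evalₐ_mk,
    Ideal.quotientMap_mk]

theorem level_compat {m n : ℕ} (h : m ≤ n) :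
    (Ideal.Quotient.factorPow 𝔠 h).comp (level IA 𝔠 v hle n) = level IA 𝔠 v hle m := by
  ext x
  obtain ⟨c, rfl⟩ := AdicCompletion.mk_surjective IA A x
  simp only [RingHom.comp_apply, level_mk]
  rw [Ideal.Quotient.factorPow, Ideal.Quotient.factor_mk, Ideal.Quotient.eq]
  have h1 : c m - c n ∈ IA ^ m := by
    have := c.2 h
    rw [SModEq.sub_mem] at this
    simpa using this
  have h2 := pow_le_comap IA 𝔠 v hle m h1
  rw [Ideal.mem_comap, map_sub] at h2
  have h3 : v (c n) - v (c m) = -(v (c m) - v (c n)) := by ring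
  rw [h3]
  exact (𝔠 ^ m).neg_mem h2

variable [IsAdicComplete 𝔠 S]

/-- the extension of `v` to the completion -/
noncomputable def ext : AdicCompletion IA A →+* S :=
  IsAdicComplete.liftRingHom 𝔠 (level IA 𝔠 v hle) (fun h => level_compat IA 𝔠 v hle h)

theorem ext_of (a : A) : ext IA 𝔠 v hle (AdicCompletion.of IA A a) = v a := by
  apply IsHausdorff.eq_iff_smodEq (I := 𝔠) |>.mpr
  intro n
  rw [SModEq, smul_eq_mul, Ideal.mul_top]
  change Ideal.Quotient.mk (𝔠 ^ n) _ = Ideal.Quotient.mk (𝔠 ^ n) _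
  rw [ext, IsAdicComplete.mk_liftRingHom]
  simp only [level, RingHom.comp_apply, RingHom.coe_coe, AdicCompletion.evalₐ_of,
    Ideal.quotientMap_mk]

theorem map_ext_le : (IA.map (algebraMap A (AdicCompletion IA A))).map (ext IA 𝔠 v hle) ≤ 𝔠 := by
  rw [Ideal.map_map, Ideal.map_le_iff_le_comap]
  intro a ha
  rw [Ideal.mem_comap, RingHom.comp_apply]
  have : algebraMap A (AdicCompletion IA A) a = AdicCompletion.of IA A a := rfl
  rw [this, ext_of]
  exact hle ha

end Groth.Agent.Lib.Helper22.CplExtend
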