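import Mathlib
import Groth.Prelude.Def_EGA41
import Groth.Agent.Lib.Helper5.AdicLift
import Groth.Agent.Lib.Helper5.ComplKaehler
import Groth.Agent.Lib.Helper22.CplExtend
import Groth.Agent.Lib.Helper22.CplLocGlob2

set_option autoImplicit false
set_option linter.style.haveILetI false
set_option linter.unusedSectionVars false
universe u
open TensorProduct IsLocalRing

namespace Groth.Agent.Lib.Helper22.CplLiftFinite

/-- Mathlib formal smoothness gives adic formal smoothness for the discrete topologies -/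
theorem isFormallySmoothAdic_bot (V A : Type u) [CommRing V] [CommRing A] [Algebra V A]
    [Algebra.FormallySmooth V A] : EGA41.IsFormallySmoothAdic V ⊥ A ⊥ := by
  intro C _ _ J hJ _ u _
  exact ⟨Algebra.FormallySmooth.lift J hJ u, Algebra.FormallySmooth.comp_lift J hJ u⟩

/-- lifting a map to a quotient of a complete ring along a surjection with kernel `𝔠` -/
theorem exists_lift_of_surjective (V A S Q : Type u) [CommRing V] [CommRing A] [Algebra V A]
    [Algebra.FormallySmooth V A] [CommRing S] [Algebra V S] [CommRing Q] [Algebra V Q]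
    (𝔠 : Ideal S) [IsAdicComplete 𝔠 S] (g : S →ₐ[V] Q) (hg : Function.Surjective g)
    (hker : RingHom.ker (g : S →+* Q) = 𝔠) (u0 : A →ₐ[V] Q) :
    ∃ v : A →ₐ[V] S, g.comp v = u0 := by
  let J : Ideal S := RingHom.ker (g : S →+* Q)
  let e : (S ⧸ J) ≃ₐ[V] Q := Ideal.quotientKerAlgEquivOfSurjective hg
  haveI : IsHausdorff (𝔠.map (Ideal.Quotient.mk J)) (S ⧸ J) := by
    have : 𝔠.map (Ideal.Quotient.mk J) = ⊥ := by
      rw [← hker]; exact Ideal.map_quotient_self J
    rw [this]; infer_instance
  obtain ⟨v, -, hv⟩ := Groth.Agent.Lib.Helper5.AdicLift.exists_lift_adicComplete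
    (A := V) (B := A) (C := S) ⊥ ⊥ 𝔠 (isFormallySmoothAdic_bot V A)
    ⟨1, by simp⟩ J ⟨1, by rw [pow_one]; exact hker.le⟩ (e.symm.toAlgHom.comp u0)
    ⟨1, by simp⟩
  refine ⟨v, ?_⟩
  ext a
  have h1 := AlgHom.congr_fun hv a
  simp only [AlgHom.comp_apply] at h1
  have h2 : e (Ideal.Quotient.mkₐ V J (v a)) = g (v a) := rfl
  rw [AlgHom.comp_apply, ← h2, h1]
  exact e.apply_symm_apply (u0 a)

section Main

variable (V : Type u) [CommRing V] [IsNoetherianRing V] (I : Ideal V)
  (A C : Type u) [CommRing A] [Algebra V A] [Algebra.FormallySmooth V A]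
  [CommRing C] [Algebra V C]

open AdicCompletion in
theorem exists_finite_lift
    (φ₀ : (A ⧸ I.map (algebraMap V A)) →ₐ[V] (C ⧸ I.map (algebraMap V C)))
    (hφ₀ : φ₀.toRingHom.Finite) :
    ∃ φ : AdicCompletion (I.map (algebraMap V A)) A →ₐ[V]
        AdicCompletion (I.map (algebraMap V C)) C,
      φ.toRingHom.Finite ∧
      (AdicCompletion.evalOneₐ (I.map (algebraMap V C))).toRingHom.comp φ.toRingHom =
        φ₀.toRingHom.comp (AdicCompletion.evalOneₐ (I.map (algebraMap V A))).toRingHom := by
  classical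
  let IA := I.map (algebraMap V A)
  let IC := I.map (algebraMap V C)
  have hIA : IA = I.map (algebraMap V A) := rfl
  have hIC : IC = I.map (algebraMap V C) := rfl
  have hfgI : I.FG := IsNoetherian.noetherian I
  have hfgA : IA.FG := hfgI.map _
  have hfgC : IC.FG := hfgI.map _
  let 𝔠 : Ideal (AdicCompletion IC C) := IC.map (algebraMap C (AdicCompletion IC C))
  let JA : Ideal (AdicCompletion IA A) := IA.map (algebraMap A (AdicCompletion IA A))
  haveI hcC : IsAdicComplete 𝔠 (AdicCompletion IC C) := AdicCompletion.isAdicComplete_self IC hfgC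
  haveI hcA : IsAdicComplete JA (AdicCompletion IA A) := AdicCompletion.isAdicComplete_self IA hfgA
  let g : AdicCompletion IC C →ₐ[V] C ⧸ IC := (AdicCompletion.evalOneₐ IC).restrictScalars V
  have hg : Function.Surjective g := AdicCompletion.evalOneₐ_surjective IC
  have hker : RingHom.ker (g : AdicCompletion IC C →+* C ⧸ IC) = 𝔠 :=
    AdicCompletion.ker_evalOneₐ_eq_map IC hfgC
  have hkerA : ∀ x : AdicCompletion IA A, x ∈ JA → AdicCompletion.evalOneₐ IA x = 0 := by
    intro x hx
    have : x ∈ RingHom.ker (AdicCompletion.evalOneₐ IA).toRingHom := by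
      rw [AdicCompletion.ker_evalOneₐ_eq_map IA hfgA]; exact hx
    exact this
  let u0 : A →ₐ[V] C ⧸ IC := φ₀.comp (Ideal.Quotient.mkₐ V IA)
  obtain ⟨v, hv⟩ := exists_lift_of_surjective V A (AdicCompletion IC C) (C ⧸ IC) 𝔠 g hg hker u0
  have hI𝔠 : ∀ i ∈ I, algebraMap V (AdicCompletion IC C) i ∈ 𝔠 := by
    intro i hi
    rw [IsScalarTower.algebraMap_apply V C (AdicCompletion IC C)]
    exact Ideal.mem_map_of_mem _ (Ideal.mem_map_of_mem _ hi)
  have hle : IA ≤ 𝔠.comap v.toRingHom := by
    rw [hIA, Ideal.map_le_iff_le_comap]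
    intro i hi
    rw [Ideal.mem_comap, Ideal.mem_comap]
    have : v.toRingHom (algebraMap V A i) = algebraMap V (AdicCompletion IC C) i := v.commutes i
    rw [this]
    exact hI𝔠 i hi
  let φr : AdicCompletion IA A →+* AdicCompletion IC C :=
    Groth.Agent.Lib.Helper22.CplExtend.ext IA 𝔠 v.toRingHom hle
  have hφof : ∀ a : A, φr (AdicCompletion.of IA A a) = v a :=
    fun a => Groth.Agent.Lib.Helper22.CplExtend.ext_of IA 𝔠 v.toRingHom hle a
  have hφJ : ∀ x ∈ JA, φr x ∈ 𝔠 := fun x hx =>
    Groth.Agent.Lib.Helper22.CplExtend.map_ext_le IA 𝔠 v.toRingHom hle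
      (Ideal.mem_map_of_mem _ hx)
  let φ : AdicCompletion IA A →ₐ[V] AdicCompletion IC C :=
    { φr with
      commutes' := fun r => by
        have h1 : algebraMap V (AdicCompletion IA A) r =
            AdicCompletion.of IA A (algebraMap V A r) := rfl
        change φr (algebraMap V (AdicCompletion IA A) r) = _
        rw [h1, hφof]
        exact v.commutes r }
  have hφ : ∀ x, φ x = φr x := fun _ => rfl
  -- the compatibility
  have hcompat : ∀ x : AdicCompletion IA A,
      g (φ x) = φ₀ (AdicCompletion.evalOneₐ IA x) := by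
    intro x
    obtain ⟨a, ha⟩ := Groth.Agent.Lib.Helper22.CplLocGlob.exists_sub_mem A IA hfgA x
    have h1 : g (φ (x - algebraMap A (AdicCompletion IA A) a)) = 0 := by
      have := hφJ _ ha
      rw [← hker] at this
      exact this
    have h2 : g (φ (algebraMap A (AdicCompletion IA A) a)) = φ₀ (Ideal.Quotient.mk IA a) := by
      have : algebraMap A (AdicCompletion IA A) a = AdicCompletion.of IA A a := rfl
      rw [this, hφ, hφof]
      exact AlgHom.congr_fun hv a
    have h3 : AdicCompletion.evalOneₐ IA x = Ideal.Quotient.mk IA a := by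
      have := hkerA _ ha
      rw [map_sub, sub_eq_zero] at this
      rw [this]
      rfl
    rw [map_sub, map_sub, h2, sub_eq_zero] at h1
    rw [h1, h3]
  refine ⟨φ, ?_, ?_⟩
  swap
  · ext x
    exact hcompat x
  -- finiteness
  letI algφ : Algebra (AdicCompletion IA A) (AdicCompletion IC C) := φ.toRingHom.toAlgebra
  change Module.Finite (AdicCompletion IA A) (AdicCompletion IC C)
  have hsmul : ∀ (x : AdicCompletion IA A) (y : AdicCompletion IC C), x • y = φ x * y :=
    fun x y => rfl
  -- `JA.map φ = 𝔠`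
  have hmap : JA.map (algebraMap (AdicCompletion IA A) (AdicCompletion IC C)) = 𝔠 := by
    have h1 : JA = I.map (algebraMap V (AdicCompletion IA A)) := by
      change (I.map (algebraMap V A)).map _ = _
      rw [Ideal.map_map, ← IsScalarTower.algebraMap_eq]
    have h2 : 𝔠 = I.map (algebraMap V (AdicCompletion IC C)) := by
      change (I.map (algebraMap V C)).map _ = _
      rw [Ideal.map_map, ← IsScalarTower.algebraMap_eq]
    rw [h1, h2, Ideal.map_map]
    congr 1
    exact φ.comp_algebraMap
  haveI : IsHausdorff JA (AdicCompletion IC C) := by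
    apply (IsHausdorff.map_algebraMap_iff (I := JA) (S := AdicCompletion IC C)
      (M := AdicCompletion IC C)).mp
    rw [hmap]; infer_instance
  apply Groth.Agent.Lib.Helper5.ComplKaehler.finite_of_finite_quotient JA
  -- generators
  letI alg0 : Algebra (A ⧸ IA) (C ⧸ IC) := φ₀.toRingHom.toAlgebra
  have hfin0 : Module.Finite (A ⧸ IA) (C ⧸ IC) := hφ₀
  obtain ⟨s, hs⟩ := hfin0.fg_top
  choose lift hlift using hg
  choose liftA hliftA using AdicCompletion.evalOneₐ_surjective IA
  refine ⟨⟨s.image (fun c => (JA • ⊤ : Submodule (AdicCompletion IA A)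
    (AdicCompletion IC C)).mkQ (lift c)), ?_⟩⟩
  rw [eq_top_iff]
  rintro n -
  obtain ⟨y, rfl⟩ := Submodule.mkQ_surjective _ n
  have hy : g y ∈ Submodule.span (A ⧸ IA) (s : Set (C ⧸ IC)) := by rw [hs]; trivial
  obtain ⟨f, -, hf⟩ := Submodule.mem_span_finset.mp hy
  have hdiff : y - ∑ c ∈ s, liftA (f c) • lift c ∈
      (JA • ⊤ : Submodule (AdicCompletion IA A) (AdicCompletion IC C)) := by
    have h1 : g (y - ∑ c ∈ s, liftA (f c) • lift c) = 0 := by
      rw [map_sub, map_sum, ← hf, sub_eq_zero]
      refine Finset.sum_congr rfl (fun c _ => ?_)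
      rw [hsmul, map_mul, hcompat, hliftA, hlift]
      rfl
    have h2 : y - ∑ c ∈ s, liftA (f c) • lift c ∈ 𝔠 := by
      rw [← hker]; exact h1
    rw [← hmap] at h2
    rw [Ideal.smul_top_eq_map]
    exact h2
  have hsum : (JA • ⊤ : Submodule (AdicCompletion IA A) (AdicCompletion IC C)).mkQ y =
      ∑ c ∈ s, liftA (f c) • (JA • ⊤ : Submodule (AdicCompletion IA A)
        (AdicCompletion IC C)).mkQ (lift c) := by
    have h0 := (Submodule.Quotient.mk_eq_zero _).mpr hdiff
    rw [Submodule.Quotient.mk_sub, sub_eq_zero] at h0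
    rw [Submodule.mkQ_apply, h0, ← Submodule.mkQ_apply, map_sum]
    refine Finset.sum_congr rfl (fun c _ => ?_)
    rw [map_smul]
  rw [hsum]
  refine Submodule.sum_mem _ (fun c hc => Submodule.smul_mem _ _ (Submodule.subset_span ?_))
  rw [Finset.coe_image]
  exact ⟨c, hc, rfl⟩

end Main

end Groth.Agent.Lib.Helper22.CplLiftFinite
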