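import Mathlib
import Groth.Prelude.Def_Curv2
import Groth.Agent.Lib.Helper7.ResFieldTrdeg
import Groth.Agent.Lib.Helper13.NormNagata2
import Groth.Agent.S4710
import Groth.Agent.Lib.Helper12.AnUnramH
import Groth.Agent.Lib.Helper12.AnUnramD

/-!
# Stalks of schemes locally of finite type over a field: Nagata, base change is flat local
-/

set_option autoImplicit false
set_option linter.style.haveILetI false
set_option linter.unusedSectionVars false
universe u

namespace Groth.Agent.Lib.Helper22.CurveStalk

open CategoryTheory CategoryTheory.Limits AlgebraicGeometry IsLocalRing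
open Groth.Agent.Lib.Helper7

variable (k : Type u) [Field k] (X : Scheme.{u}) [X.Over (Spec (CommRingCat.of k))]
  [LocallyOfFiniteType (X ↘ (Spec (CommRingCat.of k)))]

include k in
/-- the local rings of a scheme locally of finite type over a field are Nagata rings -/
theorem isNagata_stalk (x : X) : CAlg.IsNagata (X.presheaf.stalk x) := by
  obtain ⟨U, hU, hxU, -⟩ := exists_isAffineOpen_mem_and_subset (x := x) (U := ⊤) trivial
  letI : Algebra k Γ(X, U) := (ResTrdeg.kToΓ k X U).toAlgebra
  haveI : Algebra.FiniteType k Γ(X, U) := ResTrdeg.finiteType_kToΓ k X hU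
  have hN : CAlg.IsNagata Γ(X, U) := Groth.Agent.Lib.Helper13.NormNagata.isNagata_of_finiteType k _
  letI := X.presheaf.algebra_section_stalk (U := U) ⟨x, hxU⟩
  haveI := hU.isLocalization_stalk ⟨x, hxU⟩
  have hloc := Groth.Agent.S4710.result _ hN (hU.primeIdealOf ⟨x, hxU⟩).asIdeal.primeCompl
  let e : Localization (hU.primeIdealOf ⟨x, hxU⟩).asIdeal.primeCompl ≃ₐ[Γ(X, U)]
      X.presheaf.stalk x := IsLocalization.algEquiv (hU.primeIdealOf ⟨x, hxU⟩).asIdeal.primeCompl _ _
  exact Groth.Agent.Lib.Helper12.AnUnram.isNagata_of_surjective e.toRingEquiv.toRingHom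
    e.surjective hloc

include k in
theorem isNoetherianRing_stalk (x : X) : IsNoetherianRing (X.presheaf.stalk x) :=
  (isNagata_stalk k X x).1

variable (K : Type u) [Field K] [Algebra k K]

instance : LocallyOfFiniteType (Curv2.bcSnd k X K) := by
  unfold Curv2.bcSnd
  infer_instance

theorem flat_bcFst : Flat (Curv2.bcFst k X K) := by
  haveI : Flat (Spec.map (CommRingCat.ofHom (algebraMap k K))) := by
    rw [Flat.SpecMap_iff]
    show (algebraMap k K).Flat
    rw [RingHom.flat_algebraMap_iff]
    infer_instance
  unfold Curv2.bcFst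
  infer_instance

theorem isNagata_stalk_bc (y : Curv2.bc k X K) :
    CAlg.IsNagata ((Curv2.bc k X K).presheaf.stalk y) := by
  letI : (Curv2.bc k X K).Over (Spec (CommRingCat.of K)) := ⟨Curv2.bcSnd k X K⟩
  haveI : LocallyOfFiniteType ((Curv2.bc k X K) ↘ (Spec (CommRingCat.of K))) := by
    show LocallyOfFiniteType (Curv2.bcSnd k X K)
    infer_instance
  exact isNagata_stalk K (Curv2.bc k X K) y

end Groth.Agent.Lib.Helper22.CurveStalk
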