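import Mathlib

/-!
# The δ-invariant: abstract identification of a normalization

* `exists_of_isIntegral_of_local`: a ring all of whose localizations at maximal ideals are
  integrally closed domains is integrally closed in its total ring of fractions.
* `isLocalization_of_conductor`: if `T → B` is injective with a "conductor" nonzerodivisor, the
  total ring of fractions of `B` is also the total ring of fractions of `T`.
* `length_normalization_eq`: hence `δ(T) = ℓ_T(B / T)`.
-/

set_option autoImplicit false
set_option linter.style.haveILetI false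
set_option linter.unusedSectionVars false
universe u

namespace Groth.Agent.Lib.Helper22.DeltaInv

open scoped nonZeroDivisors

section Local

variable {B : Type u} [CommRing B] (Q : Type u) [CommRing Q] [Algebra B Q] [IsLocalization B⁰ Q]

/-- the local computation -/
theorem exists_notMem_mul_eq (n : Ideal B) [n.IsPrime] (Bn : Type u) [CommRing Bn] [Algebra B Bn]
    [IsLocalization.AtPrime Bn n] [IsDomain Bn] [IsIntegrallyClosed Bn]
    (K : Type u) [Field K] [Algebra Bn K] [IsFractionRing Bn K]
    (b : B) (s : B⁰) (hx : IsIntegral B (IsLocalization.mk' Q b s)) :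
    ∃ c : B, c ∉ n ∧ ∃ b' : B, b' * s = c * b := by
  let g : B →+* K := (algebraMap Bn K).comp (algebraMap B Bn)
  have hg : ∀ y : B⁰, IsUnit (g y) := by
    intro y
    have h1 : algebraMap B Bn y ∈ Bn⁰ :=
      IsLocalization.map_nonZeroDivisors_le n.primeCompl Bn
        (Submonoid.mem_map_of_mem _ y.2)
    exact IsLocalization.map_units K (⟨_, h1⟩ : Bn⁰)
  let θ : Q →+* K := IsLocalization.lift hg
  have hθ' : ∀ y : B, θ (algebraMap B Q y) = algebraMap Bn K (algebraMap B Bn y) := fun y =>
    IsLocalization.lift_eq hg y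
  have hθ : (algebraMap Bn K).comp (algebraMap B Bn) = θ.comp (algebraMap B Q) := by
    ext y
    exact (hθ' y).symm
  have hint : IsIntegral Bn (θ (IsLocalization.mk' Q b s)) :=
    IsIntegral.map_of_comp_eq (algebraMap B Bn) θ hθ hx
  obtain ⟨β, hβ⟩ := IsIntegrallyClosed.isIntegral_iff.mp hint
  obtain ⟨b'', u, rfl⟩ := IsLocalization.exists_mk'_eq n.primeCompl β
  have h2 : θ (IsLocalization.mk' Q b s) * θ (algebraMap B Q s) = θ (algebraMap B Q b) := by
    rw [← map_mul, IsLocalization.mk'_spec]
  rw [← hβ, hθ', hθ', ← map_mul] at h2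
  have h3 : IsLocalization.mk' Bn b'' u * algebraMap B Bn s = algebraMap B Bn b :=
    IsFractionRing.injective Bn K h2
  have h4 : algebraMap B Bn (b'' * s) = algebraMap B Bn (b * u) := by
    rw [map_mul, map_mul, ← h3, ← IsLocalization.mk'_spec Bn b'' u]
    ring
  obtain ⟨v, hv⟩ := (IsLocalization.eq_iff_exists n.primeCompl Bn).mp h4
  refine ⟨v * u, fun h => ?_, v * b'', ?_⟩
  · rcases Ideal.IsPrime.mem_or_mem inferInstance h with h | h
    · exact v.2 h
    · exact u.2 h
  · calc (v : B) * b'' * s = v * (b'' * s) := by ring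
      _ = v * (b * u) := hv
      _ = v * u * b := by ring

/-- locally normal ⇒ integrally closed in the total ring of fractions -/
theorem exists_of_isIntegral_of_local
    (hdom : ∀ (n : Ideal B) [n.IsMaximal], IsDomain (Localization.AtPrime n))
    (hic : ∀ (n : Ideal B) [n.IsMaximal], IsIntegrallyClosed (Localization.AtPrime n))
    (x : Q) (hx : IsIntegral B x) : ∃ b : B, algebraMap B Q b = x := by
  obtain ⟨b, s, rfl⟩ := IsLocalization.exists_mk'_eq B⁰ x
  let I : Ideal B := (Ideal.span {(s : B)}).colon {b}
  by_cases hI : I = ⊤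
  · have h1 : (1 : B) ∈ I := by rw [hI]; exact Submodule.mem_top
    rw [Submodule.mem_colon_singleton, one_smul, Ideal.mem_span_singleton'] at h1
    obtain ⟨b', hb'⟩ := h1
    refine ⟨b', ?_⟩
    rw [IsLocalization.eq_mk'_iff_mul_eq, ← map_mul, hb']
  · exfalso
    obtain ⟨n, hn, hIn⟩ := Ideal.exists_le_maximal I hI
    haveI := hdom n
    haveI := hic n
    obtain ⟨c, hc, b', hb'⟩ := exists_notMem_mul_eq Q n (Localization.AtPrime n)
      (FractionRing (Localization.AtPrime n)) b s hx
    apply hc
    apply hIn
    rw [Submodule.mem_colon_singleton, Ideal.mem_span_singleton']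
    exact ⟨b', by rw [hb', smul_eq_mul]⟩

end Local

section Frac

variable {T B : Type u} [CommRing T] [CommRing B] [Algebra T B]
  (Q : Type u) [CommRing Q] [Algebra B Q] [Algebra T Q] [IsScalarTower T B Q]
  [IsLocalization B⁰ Q]

/-- the total ring of fractions of `B` is the total ring of fractions of `T` -/
theorem isLocalization_of_conductor (hinj : Function.Injective (algebraMap T B)) (t : T)
    (ht : algebraMap T B t ∈ B⁰)
    (hcond : ∀ b : B, ∃ x : T, algebraMap T B x = algebraMap T B t * b) :
    IsLocalization T⁰ Q := by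
  have hBQ : Function.Injective (algebraMap B Q) := IsLocalization.injective Q le_rfl
  have hmem : ∀ u : T, u ∈ T⁰ → algebraMap T B u ∈ B⁰ := by
    intro u hu
    rw [mem_nonZeroDivisors_iff_right]
    intro b hb
    obtain ⟨x, hx⟩ := hcond b
    have h1 : algebraMap T B (x * u) = 0 := by
      rw [map_mul, hx, mul_assoc, hb, mul_zero]
    have h2 : x * u = 0 := hinj (by rw [h1, map_zero])
    have h3 : x = 0 := (mem_nonZeroDivisors_iff_right.mp hu) x h2
    rw [h3, map_zero] at hx
    exact (mem_nonZeroDivisors_iff_right.mp ht) b (by rw [mul_comm]; exact hx.symm)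
  refine ⟨?_, ?_, ?_⟩
  · rintro ⟨u, hu⟩
    rw [IsScalarTower.algebraMap_apply T B Q]
    exact IsLocalization.map_units Q (⟨_, hmem u hu⟩ : B⁰)
  · intro q
    obtain ⟨b, s, rfl⟩ := IsLocalization.exists_mk'_eq B⁰ q
    obtain ⟨x, hx⟩ := hcond b
    obtain ⟨y, hy⟩ := hcond s
    have hy0 : y ∈ T⁰ := by
      rw [mem_nonZeroDivisors_iff_right]
      intro z hz
      have h1 : algebraMap T B z * (algebraMap T B t * s) = 0 := by
        rw [← hy, ← map_mul, hz, map_zero]
      have h2 := (mem_nonZeroDivisors_iff_right.mp (mul_mem ht s.2)) _ h1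
      exact hinj (by rw [h2, map_zero])
    refine ⟨(x, ⟨y, hy0⟩), ?_⟩
    change IsLocalization.mk' Q b s * algebraMap T Q y = algebraMap T Q x
    rw [IsScalarTower.algebraMap_apply T B Q, IsScalarTower.algebraMap_apply T B Q, hx, hy,
      map_mul, map_mul]
    calc IsLocalization.mk' Q b s * (algebraMap B Q (algebraMap T B t) * algebraMap B Q s)
        = algebraMap B Q (algebraMap T B t) * (IsLocalization.mk' Q b s * algebraMap B Q s) := by
          ring
      _ = _ := by rw [IsLocalization.mk'_spec]
  · intro x y hxy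
    rw [IsScalarTower.algebraMap_apply T B Q, IsScalarTower.algebraMap_apply T B Q] at hxy
    exact ⟨1, by rw [hinj (hBQ hxy)]⟩

/-- the integral closure of `T` in `Q` is `B` -/
noncomputable def equivIntegralClosure [Algebra.IsIntegral T B]
    (hG : ∀ x : Q, IsIntegral B x → ∃ b : B, algebraMap B Q b = x) :
    B ≃ₐ[T] integralClosure T Q :=
  AlgEquiv.ofBijective
    ((IsScalarTower.toAlgHom T B Q).codRestrict (integralClosure T Q)
      (fun b => (Algebra.IsIntegral.isIntegral b).algebraMap))
    ⟨fun x y h => IsLocalization.injective Q le_rfl (congrArg Subtype.val h), fun y => by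
      obtain ⟨b, hb⟩ := hG y.1 y.2.tower_top
      exact ⟨b, Subtype.ext hb⟩⟩

end Frac

section Length

variable {T : Type u} [CommRing T]

/-- the length of `X/T` only depends on the `T`-algebra `X` up to isomorphism -/
theorem length_quotient_range_eq {X Y : Type u} [CommRing X] [CommRing Y] [Algebra T X]
    [Algebra T Y] (e : X ≃ₐ[T] Y) :
    Module.length T (X ⧸ LinearMap.range (Algebra.linearMap T X)) =
      Module.length T (Y ⧸ LinearMap.range (Algebra.linearMap T Y)) := by
  refine (Submodule.Quotient.equiv _ _ e.toLinearEquiv ?_).length_eq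
  ext y
  constructor
  · rintro ⟨x, ⟨a, rfl⟩, rfl⟩
    exact ⟨a, (e.commutes a).symm⟩
  · rintro ⟨a, rfl⟩
    exact ⟨_, ⟨a, rfl⟩, e.commutes a⟩

variable {B : Type u} [CommRing B] [Algebra T B] [Algebra.IsIntegral T B]

/-- `δ(T) = ℓ_T(B/T)` -/
theorem length_normalization_eq (hinj : Function.Injective (algebraMap T B)) (t : T)
    (ht : algebraMap T B t ∈ B⁰)
    (hcond : ∀ b : B, ∃ x : T, algebraMap T B x = algebraMap T B t * b)
    (hdom : ∀ (n : Ideal B) [n.IsMaximal], IsDomain (Localization.AtPrime n))
    (hic : ∀ (n : Ideal B) [n.IsMaximal], IsIntegrallyClosed (Localization.AtPrime n)) :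
    Module.length T (integralClosure T (FractionRing T) ⧸
      LinearMap.range (Algebra.linearMap T (integralClosure T (FractionRing T)))) =
    Module.length T (B ⧸ LinearMap.range (Algebra.linearMap T B)) := by
  haveI : IsScalarTower T B (FractionRing B) := inferInstance
  haveI : IsLocalization T⁰ (FractionRing B) :=
    isLocalization_of_conductor (FractionRing B) hinj t ht hcond
  let e1 : integralClosure T (FractionRing T) ≃ₐ[T] integralClosure T (FractionRing B) :=
    AlgEquiv.mapIntegralClosure (IsLocalization.algEquiv T⁰ (FractionRing T) (FractionRing B))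
  let e2 : B ≃ₐ[T] integralClosure T (FractionRing B) :=
    equivIntegralClosure (FractionRing B)
      (exists_of_isIntegral_of_local (FractionRing B) hdom hic)
  exact length_quotient_range_eq (e1.trans e2.symm)

end Length

end Groth.Agent.Lib.Helper22.DeltaInv
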