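import Mathlib
import Groth.Agent.Lib.Helper22.DeltaInvA
import Groth.Agent.Lib.Helper22.BranchCountD
import Groth.Agent.Lib.helper11.RegularUFD

/-!
# The δ-invariant under a flat local base change `A → T` (tensor form)

`C` is a finite `A`-algebra (think: the normalization of `A`), `B = T ⊗[A] C`.
-/

set_option autoImplicit false
set_option linter.style.haveILetI false
set_option linter.unusedSectionVars false
universe u

namespace Groth.Agent.Lib.Helper22.DeltaInv

open TensorProduct IsLocalRing
open scoped nonZeroDivisors

section Abstract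

/-- flat over a regular local ring with von Neumann regular closed fibre ⇒ regular -/
theorem isRegularLocalRing_of_vnr {C B : Type u} [CommRing C] [CommRing B] [Algebra C B]
    [Module.Flat C B] [IsNoetherianRing B] (n : Ideal B) [n.IsPrime] (m' : Ideal C) [m'.IsPrime]
    (hcomap : n.comap (algebraMap C B) = m')
    (hreg : IsRegularLocalRing (Localization.AtPrime m'))
    (hV : ∀ x : B, ∃ z : B, x - x * x * z ∈ m'.map (algebraMap C B)) :
    IsRegularLocalRing (Localization.AtPrime n) := by
  have hover : n.LiesOver m' := ⟨hcomap.symm⟩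
  let _ := Localization.AtPrime.algebraOfLiesOver m' n
  have hloc : IsLocalHom (algebraMap (Localization.AtPrime m') (Localization.AtPrime n)) := by
    rw [RingHom.algebraMap_toAlgebra]
    exact Localization.isLocalHom_localRingHom m' n (algebraMap C B) Ideal.LiesOver.over
  have hflat : Module.Flat (Localization.AtPrime m') (Localization.AtPrime n) := inferInstance
  apply Groth.Agent.Lib.Helper5.RegCompletion.regular_of_flat_map_eq
    (A := Localization.AtPrime m')
  rw [← Localization.AtPrime.map_eq_maximalIdeal, ← Localization.AtPrime.map_eq_maximalIdeal,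
    Ideal.map_map, ← IsScalarTower.algebraMap_eq,
    IsScalarTower.algebraMap_eq C B (Localization.AtPrime n), ← Ideal.map_map]
  apply le_antisymm
  · rw [← hcomap]
    exact Ideal.map_mono Ideal.map_comap_le
  · rw [Ideal.map_le_iff_le_comap]
    intro x hx
    rw [Ideal.mem_comap]
    obtain ⟨z, hz⟩ := hV x
    have hnot : 1 - x * z ∈ n.primeCompl := by
      intro h
      have h1 : (1 : B) ∈ n := by
        have := Ideal.add_mem _ h (Ideal.mul_mem_right z n hx)
        rwa [sub_add_cancel] at this
      exact (Ideal.IsPrime.ne_top inferInstance) ((Ideal.eq_top_iff_one n).mpr h1)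
    have hu : IsUnit (algebraMap B (Localization.AtPrime n) (1 - x * z)) :=
      IsLocalization.map_units _ (⟨1 - x * z, hnot⟩ : n.primeCompl)
    have h2 := Ideal.mem_map_of_mem (algebraMap B (Localization.AtPrime n)) hz
    have e : x - x * x * z = (1 - x * z) * x := by ring
    rw [e, map_mul] at h2
    exact (Ideal.unit_mul_mem_iff_mem _ hu).mp h2

end Abstract

attribute [local instance] Algebra.TensorProduct.rightAlgebra

variable (A : Type u) [CommRing A] [IsLocalRing A]
  (T : Type u) [CommRing T] [IsLocalRing T] [Algebra A T] [IsLocalHom (algebraMap A T)]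
  (C : Type u) [CommRing C] [Algebra A C] [Module.Finite A C]

/-- maximal ideals of `T ⊗ C` contract to maximal ideals of `C` -/
theorem isMaximal_comap_right (n : Ideal (T ⊗[A] C)) [n.IsMaximal] :
    (n.comap (algebraMap C (T ⊗[A] C))).IsMaximal := by
  haveI : Algebra.IsIntegral T (T ⊗[A] C) := inferInstance
  haveI : Algebra.IsIntegral A C := inferInstance
  haveI h1 : (n.comap (algebraMap T (T ⊗[A] C))).IsMaximal :=
    Ideal.isMaximal_comap_of_isIntegral_of_isMaximal n
  have h2 : n.comap (algebraMap T (T ⊗[A] C)) = maximalIdeal T := eq_maximalIdeal h1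
  have h3 : (n.comap (algebraMap C (T ⊗[A] C))).comap (algebraMap A C) = maximalIdeal A := by
    rw [Ideal.comap_comap, ← IsScalarTower.algebraMap_eq,
      IsScalarTower.algebraMap_eq A T (T ⊗[A] C), ← Ideal.comap_comap, h2]
    exact IsLocalRing.maximalIdeal_comap (algebraMap A T)
  apply Ideal.isMaximal_of_isIntegral_of_isMaximal_comap (R := A)
  rw [h3]
  infer_instance

variable [IsNoetherianRing T] [Module.Flat A T]

/-- the localizations of `T ⊗ C` at maximal ideals are regular -/
theorem isRegularLocalRing_localization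
    (hV : ∀ (m' : Ideal C) [m'.IsMaximal] (x : T ⊗[A] C), ∃ z : T ⊗[A] C,
      x - x * x * z ∈ m'.map (algebraMap C (T ⊗[A] C)))
    (hreg : ∀ (m' : Ideal C) [m'.IsMaximal], IsRegularLocalRing (Localization.AtPrime m'))
    (n : Ideal (T ⊗[A] C)) [n.IsMaximal] : IsRegularLocalRing (Localization.AtPrime n) := by
  haveI hm' := isMaximal_comap_right A T C n
  haveI : Module.FaithfullyFlat A T := Module.FaithfullyFlat.of_flat_of_isLocalHom
  haveI : Module.FaithfullyFlat C (T ⊗[A] C) := BranchCount.faithfullyFlat_right A T C
  haveI : IsNoetherianRing (T ⊗[A] C) := IsNoetherianRing.of_finite T _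
  exact isRegularLocalRing_of_vnr n (n.comap (algebraMap C (T ⊗[A] C))) rfl (hreg _) (hV _)

omit [IsLocalRing A] [IsLocalRing T] [IsLocalHom (algebraMap A T)] [Module.Finite A C]
  [IsNoetherianRing T] [Module.Flat A T] in
/-- `(T ⊗ C)/T = T ⊗ (C/A)` -/
theorem length_quotient_tensor :
    Module.length T ((T ⊗[A] C) ⧸ LinearMap.range (Algebra.linearMap T (T ⊗[A] C))) =
      Module.length T (T ⊗[A] (C ⧸ LinearMap.range (Algebra.linearMap A C))) := by
  let f : A →ₗ[A] C := Algebra.linearMap A C
  let g : C →ₗ[A] C ⧸ LinearMap.range f := (LinearMap.range f).mkQ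
  have hex : Function.Exact (f.lTensor T) (g.lTensor T) :=
    lTensor_exact T (LinearMap.exact_map_mkQ_range f) (Submodule.mkQ_surjective _)
  have hsurj : Function.Surjective (g.baseChange T) := by
    have : Function.Surjective (g.lTensor T) :=
      LinearMap.lTensor_surjective T (Submodule.mkQ_surjective _)
    exact this
  have hker : LinearMap.ker (g.baseChange T) =
      LinearMap.range (Algebra.linearMap T (T ⊗[A] C)) := by
    ext x
    rw [LinearMap.mem_ker]
    change (g.lTensor T) x = 0 ↔ _
    rw [hex x]
    constructor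
    · rintro ⟨y, rfl⟩
      refine ⟨TensorProduct.rid A T y, ?_⟩
      have hy : y = (TensorProduct.rid A T y) ⊗ₜ[A] (1 : A) := by
        conv_lhs => rw [← (TensorProduct.rid A T).symm_apply_apply y]
        rfl
      conv_rhs => rw [hy]
      rw [LinearMap.lTensor_tmul]
      change algebraMap T (T ⊗[A] C) _ = _ ⊗ₜ[A] algebraMap A C 1
      rw [map_one, Algebra.TensorProduct.algebraMap_apply, Algebra.algebraMap_self_apply]
      rfl
    · rintro ⟨t, rfl⟩
      refine ⟨t ⊗ₜ[A] (1 : A), ?_⟩
      rw [LinearMap.lTensor_tmul]
      change _ ⊗ₜ[A] algebraMap A C 1 = algebraMap T (T ⊗[A] C) _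
      rw [map_one, Algebra.TensorProduct.algebraMap_apply, Algebra.algebraMap_self_apply]
  exact ((Submodule.quotEquivOfEq _ _ hker.symm).trans
    (LinearMap.quotKerEquivOfSurjective (g.baseChange T) hsurj)).length_eq

variable [IsNoetherianRing A]

/-- the δ-invariant of `T`, computed from `C` -/
theorem main
    (hinj : Function.Injective (algebraMap A C))
    (d : A) (hd : d ∈ A⁰) (hdC : algebraMap A C d ∈ C⁰)
    (hcond : ∀ c : C, ∃ a : A, algebraMap A C a = d • c)
    (hreg : ∀ (m' : Ideal C) [m'.IsMaximal], IsRegularLocalRing (Localization.AtPrime m'))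
    (hV : ∀ (m' : Ideal C) [m'.IsMaximal] (x : T ⊗[A] C), ∃ z : T ⊗[A] C,
      x - x * x * z ∈ m'.map (algebraMap C (T ⊗[A] C))) :
    Module.length T (integralClosure T (FractionRing T) ⧸
      LinearMap.range (Algebra.linearMap T (integralClosure T (FractionRing T)))) =
    Module.length A (C ⧸ LinearMap.range (Algebra.linearMap A C)) *
      Module.length T (T ⧸ (maximalIdeal A).map (algebraMap A T)) := by
  haveI : Algebra.IsIntegral T (T ⊗[A] C) := inferInstance
  haveI : Module.FaithfullyFlat A T := Module.FaithfullyFlat.of_flat_of_isLocalHom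
  haveI : Module.FaithfullyFlat C (T ⊗[A] C) := BranchCount.faithfullyFlat_right A T C
  have hf : Function.Injective (algebraMap T (T ⊗[A] C)) :=
    Algebra.TensorProduct.includeLeft_injective (S := A) hinj
  have htS : algebraMap T (T ⊗[A] C) (algebraMap A T d) ∈ (T ⊗[A] C)⁰ := by
    have hreg' : IsSMulRegular (T ⊗[A] C) (algebraMap A C d) :=
      Module.Flat.isSMulRegular_of_nonZeroDivisors hdC
    rw [mem_nonZeroDivisors_iff_right]
    intro x hx
    apply hreg'
    change algebraMap A C d • x = algebraMap A C d • (0 : T ⊗[A] C)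
    rw [smul_zero, Algebra.smul_def, ← IsScalarTower.algebraMap_apply,
      IsScalarTower.algebraMap_apply A T (T ⊗[A] C), mul_comm, hx]
  have hcondB : ∀ b : T ⊗[A] C, ∃ x : T,
      algebraMap T (T ⊗[A] C) x = algebraMap T (T ⊗[A] C) (algebraMap A T d) * b := by
    intro b
    induction b using TensorProduct.induction_on with
    | zero => exact ⟨0, by simp⟩
    | tmul y c =>
      obtain ⟨a, ha⟩ := hcond c
      refine ⟨a • y, ?_⟩
      have e1 : a • (1 : C) = d • c := by rw [← ha, Algebra.algebraMap_eq_smul_one]
      rw [Algebra.TensorProduct.algebraMap_apply, Algebra.TensorProduct.algebraMap_apply,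
        Algebra.TensorProduct.tmul_mul_tmul, Algebra.algebraMap_self_apply,
        Algebra.algebraMap_self_apply, one_mul, ← Algebra.smul_def, TensorProduct.smul_tmul, e1,
        TensorProduct.smul_tmul]
    | add x y hx hy =>
      obtain ⟨x1, h1⟩ := hx
      obtain ⟨x2, h2⟩ := hy
      exact ⟨x1 + x2, by rw [map_add, h1, h2, mul_add]⟩
  have hregB := isRegularLocalRing_localization A T C hV hreg
  have hdom : ∀ (n : Ideal (T ⊗[A] C)) [n.IsMaximal], IsDomain (Localization.AtPrime n) :=
    fun n _ => by
      haveI := hregB n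
      exact Groth.Agent.Lib.helper19.isDomain_of_isRegularLocalRing _
  have hic : ∀ (n : Ideal (T ⊗[A] C)) [n.IsMaximal],
      IsIntegrallyClosed (Localization.AtPrime n) := fun n _ => by
    haveI := hregB n
    haveI := hdom n
    haveI := Groth.Agent.Lib.helper11.RegularUFD.ufd (Localization.AtPrime n)
    infer_instance
  rw [length_normalization_eq hf (algebraMap A T d) htS hcondB hdom hic,
    length_quotient_tensor, IsLocalRing.length_baseChange]

end Groth.Agent.Lib.Helper22.DeltaInv
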