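import Mathlib
import Groth.Agent.Lib.Helper22.DeltaInvB
import Groth.Agent.Lib.Helper12.HensFibre
import Groth.Agent.Lib.Helper12.HensFCC
import Groth.Agent.Lib.Helper12.AnUnramH
import Groth.Agent.S0507
import Groth.Agent.S0538
import Groth.Prelude.Def_Curv2

/-!
# The δ-invariant of the completion, the henselization and the strict henselization
-/

set_option autoImplicit false
set_option linter.style.haveILetI false
set_option linter.unusedSectionVars false
universe u

namespace Groth.Agent.Lib.Helper22.DeltaInv

open TensorProduct IsLocalRing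
open scoped nonZeroDivisors
open Groth.Agent.Lib.Helper12

attribute [local instance] Algebra.TensorProduct.rightAlgebra

section VNR

variable (A : Type u) [CommRing A] (T : Type u) [CommRing T] [Algebra A T]
  (C : Type u) [CommRing C] [Algebra A C]

/-- the closed fibres of `T ⊗ C` over `C` are von Neumann regular, formal-like case -/
theorem hV_of_formalLike [IsLocalRing A] [IsLocalRing T] (hT : AUn.FormalLike A T)
    [Algebra.IsIntegral A C] (m' : Ideal C) [m'.IsMaximal] (x : T ⊗[A] C) :
    ∃ z : T ⊗[A] C, x - x * x * z ∈ m'.map (algebraMap C (T ⊗[A] C)) := by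
  have hmapB : ((maximalIdeal A).map (algebraMap A T)).map (algebraMap T (T ⊗[A] C)) =
      (maximalIdeal A).map (algebraMap A (T ⊗[A] C)) := by
    rw [Ideal.map_map, ← IsScalarTower.algebraMap_eq]
  have hgen : ∀ b : T ⊗[A] C, ∃ c : C, b - algebraMap C (T ⊗[A] C) c ∈
      (maximalIdeal A).map (algebraMap A (T ⊗[A] C)) := by
    intro b
    induction b using TensorProduct.induction_on with
    | zero => exact ⟨0, by simp⟩
    | tmul y c =>
      obtain ⟨r, hr⟩ := hT.res_surj y
      rw [← hT.map_max] at hr
      refine ⟨r • c, ?_⟩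
      have e : y ⊗ₜ[A] c - algebraMap C (T ⊗[A] C) (r • c) =
          algebraMap T (T ⊗[A] C) (y - algebraMap A T r) * ((1 : T) ⊗ₜ[A] c) := by
        rw [Algebra.TensorProduct.right_algebraMap_apply, Algebra.TensorProduct.algebraMap_apply,
          Algebra.TensorProduct.tmul_mul_tmul, Algebra.algebraMap_self_apply, mul_one, one_mul,
          TensorProduct.sub_tmul, ← TensorProduct.smul_tmul, Algebra.smul_def, mul_one]
      rw [e, ← hmapB]
      exact Ideal.mul_mem_right _ _ (Ideal.mem_map_of_mem _ hr)
    | add x y hx hy =>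
      obtain ⟨c1, h1⟩ := hx
      obtain ⟨c2, h2⟩ := hy
      refine ⟨c1 + c2, ?_⟩
      have e : x + y - algebraMap C (T ⊗[A] C) (c1 + c2) =
          (x - algebraMap C (T ⊗[A] C) c1) + (y - algebraMap C (T ⊗[A] C) c2) := by
        rw [map_add]; ring
      rw [e]
      exact Ideal.add_mem _ h1 h2
  -- `𝔪_A B ≤ m' B`
  have hle : (maximalIdeal A).map (algebraMap A (T ⊗[A] C)) ≤
      m'.map (algebraMap C (T ⊗[A] C)) := by
    haveI : (m'.comap (algebraMap A C)).IsMaximal :=
      Ideal.isMaximal_comap_of_isIntegral_of_isMaximal m'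
    have h1 : m'.comap (algebraMap A C) = maximalIdeal A := eq_maximalIdeal inferInstance
    rw [IsScalarTower.algebraMap_eq A C (T ⊗[A] C), ← Ideal.map_map]
    apply Ideal.map_mono
    rw [Ideal.map_le_iff_le_comap, h1]
  obtain ⟨c, hc⟩ := hgen x
  -- inverse of `c` modulo `m'`
  have hinv : ∃ c' : C, c - c * c * c' ∈ m' := by
    by_cases hcm : c ∈ m'
    · exact ⟨0, by simpa using hcm⟩
    · obtain ⟨y, i, hi, hyi⟩ := Ideal.IsMaximal.exists_inv (I := m') inferInstance hcm
      refine ⟨y, ?_⟩
      have e : c - c * c * y = c * i := by linear_combination (-c) * hyi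
      rw [e]
      exact Ideal.mul_mem_left _ _ hi
  obtain ⟨c', hc'⟩ := hinv
  refine ⟨algebraMap C (T ⊗[A] C) c', ?_⟩
  have h1 := hle hc
  rw [← Ideal.Quotient.eq_zero_iff_mem] at h1 ⊢
  rw [map_sub, sub_eq_zero] at h1
  rw [map_sub, map_mul, map_mul, h1, ← map_mul, ← map_mul, ← map_sub, ← map_mul, ← map_mul,
    ← map_sub, Ideal.Quotient.eq_zero_iff_mem]
  exact Ideal.mem_map_of_mem _ hc'

/-- the closed fibres of `T ⊗ C` over `C` are von Neumann regular, ind-étale case -/
theorem hV_of_isIndEssEtale (hT : IndEtaleFibre.IsIndEssEtale A T)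
    (m' : Ideal C) [m'.IsMaximal] (x : T ⊗[A] C) :
    ∃ z : T ⊗[A] C, x - x * x * z ∈ m'.map (algebraMap C (T ⊗[A] C)) := by
  letI : Field (C ⧸ m') := Ideal.Quotient.field m'
  let g : C →ₐ[A] C ⧸ m' := Ideal.Quotient.mkₐ A m'
  have hg : Function.Surjective g := Ideal.Quotient.mkₐ_surjective A m'
  let φ : T ⊗[A] C →ₐ[A] T ⊗[A] (C ⧸ m') := Algebra.TensorProduct.map (AlgHom.id A T) g
  have hφ : Function.Surjective φ :=
    Algebra.TensorProduct.map_surjective (AlgHom.id A T) g Function.surjective_id hg
  have hker : RingHom.ker φ = m'.map (algebraMap C (T ⊗[A] C)) := by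
    have h1 := Algebra.TensorProduct.lTensor_ker (A := T) g hg
    have h2 : RingHom.ker g = m' := Ideal.Quotient.mkₐ_ker A m'
    rw [h2] at h1
    exact h1
  let e := Algebra.TensorProduct.comm A T (C ⧸ m')
  obtain ⟨z', hz'⟩ := IndEtaleFibre.exists_mul_self_mul_tensor (κ := C ⧸ m') hT (e (φ x))
  obtain ⟨z, hz⟩ := hφ (e.symm z')
  refine ⟨z, ?_⟩
  rw [← hker, RingHom.mem_ker, map_sub, map_mul, map_mul, hz, sub_eq_zero]
  apply e.injective
  rw [map_mul, map_mul, e.apply_symm_apply]
  exact hz'

end VNR

section Main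

variable (A : Type u) [CommRing A] [IsNoetherianRing A] [IsLocalRing A] [IsReduced A]
  (T : Type u) [CommRing T] [IsLocalRing T] [IsNoetherianRing T] [Algebra A T]
  [IsLocalHom (algebraMap A T)] [Module.Flat A T]

/-- the general formula -/
theorem deltaInv_eq_mul (hdim : ringKrullDim A = 1)
    (hfin : Module.Finite A (integralClosure A (FractionRing A)))
    (hV : ∀ (m' : Ideal (integralClosure A (FractionRing A))) [m'.IsMaximal]
      (x : T ⊗[A] (integralClosure A (FractionRing A))),
      ∃ z : T ⊗[A] (integralClosure A (FractionRing A)),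
        x - x * x * z ∈ m'.map (algebraMap (integralClosure A (FractionRing A))
          (T ⊗[A] (integralClosure A (FractionRing A))))) :
    Curv2.deltaInv T = Curv2.deltaInv A *
      Module.length T (T ⧸ (maximalIdeal A).map (algebraMap A T)) := by
  have hinjQ : Function.Injective (algebraMap A (FractionRing A)) :=
    IsLocalization.injective _ le_rfl
  have hinj : Function.Injective (algebraMap A (integralClosure A (FractionRing A))) :=
    fun x y h => hinjQ (congrArg (fun z : integralClosure A (FractionRing A) =>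
      (z : FractionRing A)) h)
  obtain ⟨d, hd0, hd⟩ :=
    Groth.Agent.Lib.Helper13.ReducedNormal.exists_common_denominator (FractionRing A) hfin
  have hdC := BranchCount.algebraMap_mem_nonZeroDivisors_subalgebra A (FractionRing A)
    (integralClosure A (FractionRing A)) d hd0
  have hcond : ∀ c : integralClosure A (FractionRing A), ∃ a : A,
      algebraMap A (integralClosure A (FractionRing A)) a = d • c := by
    intro c
    obtain ⟨a, ha⟩ := hd (c : FractionRing A) c.2
    refine ⟨a, Subtype.ext ?_⟩
    change algebraMap A (FractionRing A) a = d • (c : FractionRing A)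
    rw [ha, Algebra.smul_def]
  unfold Curv2.deltaInv
  exact main A T (integralClosure A (FractionRing A)) hinj d hd0 hdC hcond
    (fun m' _ => BranchCount.isRegularLocalRing_localization_integralClosure A (FractionRing A)
      hdim.le hfin m') hV

/-- if moreover `𝔪_A T = 𝔪_T`, the δ-invariants agree -/
theorem deltaInv_eq (hdim : ringKrullDim A = 1)
    (hfin : Module.Finite A (integralClosure A (FractionRing A)))
    (hV : ∀ (m' : Ideal (integralClosure A (FractionRing A))) [m'.IsMaximal]
      (x : T ⊗[A] (integralClosure A (FractionRing A))),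
      ∃ z : T ⊗[A] (integralClosure A (FractionRing A)),
        x - x * x * z ∈ m'.map (algebraMap (integralClosure A (FractionRing A))
          (T ⊗[A] (integralClosure A (FractionRing A)))))
    (hmax : (maximalIdeal A).map (algebraMap A T) = maximalIdeal T) :
    Curv2.deltaInv T = Curv2.deltaInv A := by
  rw [deltaInv_eq_mul A T hdim hfin hV, hmax]
  haveI : IsSimpleModule T (T ⧸ maximalIdeal T) :=
    isSimpleModule_iff_quot_maximal.mpr ⟨maximalIdeal T, inferInstance, ⟨LinearEquiv.refl _ _⟩⟩
  rw [Module.length_eq_one, mul_one]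

end Main

end Groth.Agent.Lib.Helper22.DeltaInv
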