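import Mathlib
import Groth.Agent.Lib.Helper22.DeltaInvC

/-!
# The δ-invariant does not decrease under flat local base change
-/

set_option autoImplicit false
set_option linter.style.haveILetI false
set_option linter.unusedSectionVars false
universe u

namespace Groth.Agent.Lib.Helper22.DeltaInv

open TensorProduct IsLocalRing
open scoped nonZeroDivisors

attribute [local instance] Algebra.TensorProduct.rightAlgebra

section Abstract

variable {T B : Type u} [CommRing T] [CommRing B] [Algebra T B] [Algebra.IsIntegral T B]

/-- `ℓ_T(B/T) ≤ δ(T)` when `B` is a partial normalization -/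
theorem length_le_length_normalization (hinj : Function.Injective (algebraMap T B)) (t : T)
    (ht : algebraMap T B t ∈ B⁰)
    (hcond : ∀ b : B, ∃ x : T, algebraMap T B x = algebraMap T B t * b) :
    Module.length T (B ⧸ LinearMap.range (Algebra.linearMap T B)) ≤
      Module.length T (integralClosure T (FractionRing T) ⧸
        LinearMap.range (Algebra.linearMap T (integralClosure T (FractionRing T)))) := by
  haveI : IsScalarTower T B (FractionRing B) := inferInstance
  haveI : IsLocalization T⁰ (FractionRing B) :=
    isLocalization_of_conductor (FractionRing B) hinj t ht hcond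
  let e1 : integralClosure T (FractionRing T) ≃ₐ[T] integralClosure T (FractionRing B) :=
    AlgEquiv.mapIntegralClosure (IsLocalization.algEquiv T⁰ (FractionRing T) (FractionRing B))
  rw [length_quotient_range_eq e1]
  let j : B →ₐ[T] integralClosure T (FractionRing B) :=
    (IsScalarTower.toAlgHom T B (FractionRing B)).codRestrict (integralClosure T (FractionRing B))
      (fun b => (Algebra.IsIntegral.isIntegral b).algebraMap)
  have hj : Function.Injective j := fun x y h =>
    IsLocalization.injective (FractionRing B) le_rfl (congrArg Subtype.val h)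
  set N := LinearMap.range (Algebra.linearMap T B) with hN
  set N' := LinearMap.range (Algebra.linearMap T (integralClosure T (FractionRing B))) with hN'
  have hNN' : N ≤ N'.comap j.toLinearMap := by
    rintro _ ⟨a, rfl⟩
    exact ⟨a, (j.commutes a).symm⟩
  let g : (B ⧸ N) →ₗ[T] (integralClosure T (FractionRing B) ⧸ N') := N.mapQ N' j.toLinearMap hNN'
  have hg : Function.Injective g := by
    rw [← LinearMap.ker_eq_bot, LinearMap.ker_eq_bot']
    intro z hz
    obtain ⟨b, rfl⟩ := Submodule.mkQ_surjective _ z
    have h1 : N'.mkQ (j b) = 0 := hz
    rw [Submodule.mkQ_apply, Submodule.Quotient.mk_eq_zero] at h1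
    obtain ⟨a, ha⟩ := h1
    have h2 : j (algebraMap T B a) = j b := by rw [j.commutes]; exact ha
    have h3 := hj h2
    rw [Submodule.mkQ_apply, Submodule.Quotient.mk_eq_zero]
    exact ⟨a, h3⟩
  exact Module.length_le_of_injective g hg

end Abstract

section Main

variable (A : Type u) [CommRing A] [IsNoetherianRing A] [IsLocalRing A]
  (T : Type u) [CommRing T] [IsLocalRing T] [Algebra A T]
  [IsLocalHom (algebraMap A T)] [Module.Flat A T]
  (C : Type u) [CommRing C] [Algebra A C] [Module.Finite A C]

theorem length_le_of_flat_abstract
    (hinj : Function.Injective (algebraMap A C))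
    (d : A) (hdC : algebraMap A C d ∈ C⁰)
    (hcond : ∀ c : C, ∃ a : A, algebraMap A C a = d • c) :
    Module.length A (C ⧸ LinearMap.range (Algebra.linearMap A C)) ≤
      Module.length T (integralClosure T (FractionRing T) ⧸
        LinearMap.range (Algebra.linearMap T (integralClosure T (FractionRing T)))) := by
  haveI : Algebra.IsIntegral T (T ⊗[A] C) := inferInstance
  haveI : Module.FaithfullyFlat A T := Module.FaithfullyFlat.of_flat_of_isLocalHom
  haveI : Module.FaithfullyFlat C (T ⊗[A] C) := BranchCount.faithfullyFlat_right A T C
  have hf : Function.Injective (algebraMap T (T ⊗[A] C)) :=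
    Algebra.TensorProduct.includeLeft_injective (S := A) hinj
  have htS : algebraMap T (T ⊗[A] C) (algebraMap A T d) ∈ (T ⊗[A] C)⁰ := by
    have hreg' : IsSMulRegular (T ⊗[A] C) (algebraMap A C d) :=
      Module.Flat.isSMulRegular_of_nonZeroDivisors hdC
    rw [mem_nonZeroDivisors_iff_right]
    intro x hx
    apply hreg'
    change algebraMap A C d • x = algebraMap A C d • (0 : T ⊗[A] C)
    rw [smul_zero, Algebra.smul_def, ← IsScalarTower.algebraMap_apply,
      IsScalarTower.algebraMap_apply A T (T ⊗[A] C), mul_comm, hx]
  have hcondB : ∀ b : T ⊗[A] C, ∃ x : T,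
      algebraMap T (T ⊗[A] C) x = algebraMap T (T ⊗[A] C) (algebraMap A T d) * b := by
    intro b
    induction b using TensorProduct.induction_on with
    | zero => exact ⟨0, by simp⟩
    | tmul y c =>
      obtain ⟨a, ha⟩ := hcond c
      refine ⟨a • y, ?_⟩
      have e1 : a • (1 : C) = d • c := by rw [← ha, Algebra.algebraMap_eq_smul_one]
      rw [Algebra.TensorProduct.algebraMap_apply, Algebra.TensorProduct.algebraMap_apply,
        Algebra.TensorProduct.tmul_mul_tmul, Algebra.algebraMap_self_apply,
        Algebra.algebraMap_self_apply, one_mul, ← Algebra.smul_def, TensorProduct.smul_tmul, e1,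
        TensorProduct.smul_tmul]
    | add x y hx hy =>
      obtain ⟨x1, h1⟩ := hx
      obtain ⟨x2, h2⟩ := hy
      exact ⟨x1 + x2, by rw [map_add, h1, h2, mul_add]⟩
  have h1 := length_le_length_normalization hf (algebraMap A T d) htS hcondB
  rw [length_quotient_tensor, IsLocalRing.length_baseChange] at h1
  refine le_trans ?_ h1
  have hne : Nontrivial (T ⧸ (maximalIdeal A).map (algebraMap A T)) :=
    Ideal.Quotient.nontrivial_iff.mpr (((IsLocalRing.map_maximalIdeal_lt_top
      (algebraMap A T))).ne)
  have h2 : 1 ≤ Module.length T (T ⧸ (maximalIdeal A).map (algebraMap A T)) :=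
    Order.one_le_iff_pos.mpr Module.length_pos
  calc Module.length A (C ⧸ LinearMap.range (Algebra.linearMap A C))
      = Module.length A (C ⧸ LinearMap.range (Algebra.linearMap A C)) * 1 := (mul_one _).symm
    _ ≤ _ := by gcongr

theorem deltaInv_le_of_flat [IsReduced A]
    (hfin : Module.Finite A (integralClosure A (FractionRing A))) :
    Curv2.deltaInv A ≤ Curv2.deltaInv T := by
  have hinjQ : Function.Injective (algebraMap A (FractionRing A)) :=
    IsLocalization.injective _ le_rfl
  have hinj : Function.Injective (algebraMap A (integralClosure A (FractionRing A))) :=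
    fun x y h => hinjQ (congrArg (fun z : integralClosure A (FractionRing A) =>
      (z : FractionRing A)) h)
  obtain ⟨d, hd0, hd⟩ :=
    Groth.Agent.Lib.Helper13.ReducedNormal.exists_common_denominator (FractionRing A) hfin
  have hdC := BranchCount.algebraMap_mem_nonZeroDivisors_subalgebra A (FractionRing A)
    (integralClosure A (FractionRing A)) d hd0
  have hcond : ∀ c : integralClosure A (FractionRing A), ∃ a : A,
      algebraMap A (integralClosure A (FractionRing A)) a = d • c := by
    intro c
    obtain ⟨a, ha⟩ := hd (c : FractionRing A) c.2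
    refine ⟨a, Subtype.ext ?_⟩
    change algebraMap A (FractionRing A) a = d • (c : FractionRing A)
    rw [ha, Algebra.smul_def]
  unfold Curv2.deltaInv
  exact length_le_of_flat_abstract A T (integralClosure A (FractionRing A)) hinj d hdC hcond

end Main

end Groth.Agent.Lib.Helper22.DeltaInv
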