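import Mathlib
import Groth.Agent.Lib.Helper22.DeltaInvD
import Groth.Agent.S7651

/-!
# The δ-invariant under a flat local extension with reduced closed fibres over the normalization
-/

set_option autoImplicit false
set_option linter.style.haveILetI false
set_option linter.unusedSectionVars false
universe u

namespace Groth.Agent.Lib.Helper22.DeltaInv

open TensorProduct IsLocalRing
open scoped nonZeroDivisors

/-- reduced artinian rings are von Neumann regular -/
theorem exists_mul_self_mul_of_isArtinianRing {R : Type*} [CommRing R] [IsArtinianRing R]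
    [IsReduced R] (x : R) : ∃ z : R, x - x * x * z = 0 := by
  obtain ⟨n, y, hy⟩ := IsArtinian.exists_pow_succ_smul_dvd x (1 : R)
  simp only [smul_eq_mul, mul_one] at hy
  refine ⟨y, IsNilpotent.eq_zero ⟨n + 1, ?_⟩⟩
  have h1 : x ^ n * (1 - x * y) = 0 := by
    rw [mul_sub, mul_one, ← mul_assoc, ← pow_succ, hy, sub_self]
  have h0 : x - x * x * y = x * (1 - x * y) := by ring
  have h2 : (x * (1 - x * y)) ^ (n + 1) = x * (x ^ n * (1 - x * y)) * (1 - x * y) ^ n := by
    rw [mul_pow, pow_succ' x n, pow_succ (1 - x * y) n]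
    ring
  rw [h0, h2, h1]
  ring

section Loc

variable {A : Type u} [CommRing A] (T : Type u) [CommRing T] [Algebra A T]
  (R₀ : Type u) [CommRing R₀] [Algebra A R₀] [Algebra R₀ T] [IsScalarTower A R₀ T]
  (Q : Ideal R₀) [Q.IsPrime] [IsLocalization.AtPrime T Q]

include Q in
/-- `T ⊗ F` is reduced if `R₀ ⊗ F` is, for a localization `T` of `R₀` -/
theorem isReduced_tensor_of_localization (F : Type u) [CommRing F] [Algebra A F]
    [IsReduced (R₀ ⊗[A] F)] : IsReduced (T ⊗[A] F) := by
  haveI h1 : IsLocalization (Algebra.algebraMapSubmonoid (R₀ ⊗[A] F) Q.primeCompl)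
      ((R₀ ⊗[A] F) ⊗[R₀] T) := IsLocalization.tensor T Q.primeCompl
  haveI : IsReduced ((R₀ ⊗[A] F) ⊗[R₀] T) :=
    isReduced_localizationPreserves (Algebra.algebraMapSubmonoid (R₀ ⊗[A] F) Q.primeCompl) _
      inferInstance
  let e1 := Algebra.TensorProduct.comm R₀ T (R₀ ⊗[A] F)
  let e2 := Algebra.TensorProduct.cancelBaseChange A R₀ R₀ T F
  exact isReduced_of_injective (e1.toRingEquiv.toRingHom.comp e2.symm.toRingEquiv.toRingHom)
    (e1.injective.comp e2.symm.injective)

end Loc

section Main

variable (A : Type u) [CommRing A] [IsNoetherianRing A] [IsLocalRing A] [IsReduced A]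
  (T : Type u) [CommRing T] [IsLocalRing T] [IsNoetherianRing T] [Algebra A T]
  [IsLocalHom (algebraMap A T)] [Module.Flat A T]

theorem isArtinianRing_quotient (hA : ringKrullDim A = 1) (hT : ringKrullDim T = 1) :
    IsArtinianRing (T ⧸ (maximalIdeal A).map (algebraMap A T)) := by
  obtain ⟨f, hfm, hf2⟩ := Groth.Agent.S7651.exists_param A hA
  have hf0 : f ∈ A⁰ := Groth.Agent.S7651.nzd_of_param A hA f hfm hf2 (Or.inr inferInstance)
  have hfT : algebraMap A T f ∈ T⁰ := by
    have h1 : IsSMulRegular T f := Module.Flat.isSMulRegular_of_nonZeroDivisors hf0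
    rw [mem_nonZeroDivisors_iff_right]
    intro x hx
    apply h1
    simp only [smul_zero]
    rw [Algebra.smul_def, mul_comm]
    exact hx
  have h2 := ringKrullDim_quotient_succ_le_of_nonZeroDivisor hfT
  rw [hT] at h2
  have h3 : ringKrullDim (T ⧸ Ideal.span {algebraMap A T f}) ≤ (0 : ℕ) := by
    generalize ringKrullDim (T ⧸ Ideal.span {algebraMap A T f}) = d at h2
    induction d using WithBot.recBotCoe with
    | bot => exact bot_le
    | coe d =>
      induction d using ENat.recTopCoe with
      | top => exact absurd h2 (by decide)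
      | coe d =>
        have : d + 1 ≤ 1 := by exact_mod_cast h2
        have : d = 0 := by omega
        subst this
        rfl
  haveI : Ring.KrullDimLE 0 (T ⧸ Ideal.span {algebraMap A T f}) := Ring.krullDimLE_iff.mpr h3
  haveI : IsArtinianRing (T ⧸ Ideal.span {algebraMap A T f}) :=
    isArtinianRing_iff_krullDimLE_zero.mpr inferInstance
  have hle : Ideal.span {algebraMap A T f} ≤ (maximalIdeal A).map (algebraMap A T) := by
    rw [Ideal.span_singleton_le_iff_mem]
    exact Ideal.mem_map_of_mem _ hfm
  exact (Ideal.Quotient.factor_surjective hle).isArtinianRing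

/-- every prime of `T` containing `m_A T` is the maximal ideal -/
theorem eq_maximalIdeal_of_map_le (hA : ringKrullDim A = 1) (hT : ringKrullDim T = 1)
    (q : Ideal T) [q.IsPrime] (hq : (maximalIdeal A).map (algebraMap A T) ≤ q) :
    q = maximalIdeal T := by
  haveI := isArtinianRing_quotient A T hA hT
  set I := (maximalIdeal A).map (algebraMap A T) with hI
  have hker : RingHom.ker (Ideal.Quotient.mk I) ≤ q := by rwa [Ideal.mk_ker]
  haveI : (q.map (Ideal.Quotient.mk I)).IsPrime :=
    Ideal.map_isPrime_of_surjective Ideal.Quotient.mk_surjective hker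
  haveI : (q.map (Ideal.Quotient.mk I)).IsMaximal := IsArtinianRing.isMaximal_of_isPrime _
  have h1 : (q.map (Ideal.Quotient.mk I)).comap (Ideal.Quotient.mk I) = q := Ideal.comap_map_mk hq
  have hmax : q.IsMaximal := by
    rw [← h1]
    exact Ideal.comap_isMaximal_of_surjective _ Ideal.Quotient.mk_surjective
  exact IsLocalRing.eq_maximalIdeal hmax

theorem includeLeft_map_eq_zero (F : Type u) [CommRing F] [Algebra A F]
    (hF : ∀ a ∈ maximalIdeal A, algebraMap A F a = 0) (s : T)
    (hs : s ∈ (maximalIdeal A).map (algebraMap A T)) :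
    (Algebra.TensorProduct.includeLeft : T →ₐ[A] T ⊗[A] F) s = 0 := by
  have hle : (maximalIdeal A).map (algebraMap A T) ≤
      RingHom.ker (Algebra.TensorProduct.includeLeft : T →ₐ[A] T ⊗[A] F).toRingHom := by
    rw [Ideal.map_le_iff_le_comap]
    intro a ha
    rw [Ideal.mem_comap, RingHom.mem_ker]
    change (Algebra.TensorProduct.includeLeft : T →ₐ[A] T ⊗[A] F) (algebraMap A T a) = 0
    rw [AlgHom.commutes, Algebra.algebraMap_eq_smul_one, Algebra.TensorProduct.one_def,
      ← TensorProduct.tmul_smul, ← Algebra.algebraMap_eq_smul_one, hF a ha, TensorProduct.tmul_zero]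
  exact hle hs

theorem isArtinianRing_tensor (hA : ringKrullDim A = 1) (hT : ringKrullDim T = 1)
    (F : Type u) [CommRing F] [Algebra A F] [Module.Finite A F]
    (hF : ∀ a ∈ maximalIdeal A, algebraMap A F a = 0) : IsArtinianRing (T ⊗[A] F) := by
  haveI : Module.Finite T (T ⊗[A] F) := inferInstance
  haveI : IsNoetherianRing (T ⊗[A] F) := IsNoetherianRing.of_finite T _
  haveI : Algebra.IsIntegral T (T ⊗[A] F) := inferInstance
  haveI : Ring.KrullDimLE 0 (T ⊗[A] F) := by
    rw [Ring.krullDimLE_zero_iff]
    intro P hP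
    apply Ideal.isMaximal_of_isIntegral_of_isMaximal_comap (R := T) P
    have h1 : P.comap (algebraMap T (T ⊗[A] F)) = maximalIdeal T := by
      apply eq_maximalIdeal_of_map_le A T hA hT
      intro s hs
      rw [Ideal.mem_comap]
      have h2 := includeLeft_map_eq_zero A T F hF s hs
      have h3 : algebraMap T (T ⊗[A] F) s =
        (Algebra.TensorProduct.includeLeft : T →ₐ[A] T ⊗[A] F) s := rfl
      rw [h3, h2]
      exact zero_mem _
    rw [h1]
    infer_instance
  exact isArtinianRing_iff_krullDimLE_zero.mpr inferInstance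

theorem map_maximalIdeal_eq (hA : ringKrullDim A = 1) (hT : ringKrullDim T = 1)
    (F : Type u) [CommRing F] [Nontrivial F] [Algebra A F]
    (hF : ∀ a ∈ maximalIdeal A, algebraMap A F a = 0) [IsReduced (T ⊗[A] F)] :
    (maximalIdeal A).map (algebraMap A T) = maximalIdeal T := by
  apply le_antisymm
  · exact ((IsLocalRing.local_hom_TFAE (algebraMap A T)).out 0 2).mp ‹_›
  · intro t ht
    have hrad : t ∈ ((maximalIdeal A).map (algebraMap A T)).radical := by
      rw [Ideal.radical_eq_sInf, Ideal.mem_sInf]
      rintro q ⟨hq1, hq2⟩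
      haveI := hq2
      rw [eq_maximalIdeal_of_map_le A T hA hT q hq1]
      exact ht
    obtain ⟨n, hn⟩ := hrad
    have h1 : (Algebra.TensorProduct.includeLeft : T →ₐ[A] T ⊗[A] F) t = 0 := by
      apply IsNilpotent.eq_zero
      refine ⟨n, ?_⟩
      rw [← map_pow]
      exact includeLeft_map_eq_zero A T F hF _ hn
    -- the injection `A/m → F`
    have hker : (maximalIdeal A : Submodule A A) ≤ LinearMap.ker (Algebra.linearMap A F) := by
      intro a ha
      exact hF a ha
    let ι : (A ⧸ maximalIdeal A) →ₗ[A] F :=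
      Submodule.liftQ (maximalIdeal A) (Algebra.linearMap A F) hker
    have hι : Function.Injective ι := by
      rw [← LinearMap.ker_eq_bot]
      apply Submodule.ker_liftQ_eq_bot
      intro a ha
      rw [LinearMap.mem_ker, Algebra.linearMap_apply] at ha
      by_contra hcon
      have hu : IsUnit a := by
        by_contra hnu
        exact hcon ((IsLocalRing.mem_maximalIdeal a).mpr hnu)
      have := hu.map (algebraMap A F)
      rw [ha] at this
      exact not_isUnit_zero this
    have hinj := Module.Flat.lTensor_preserves_injective_linearMap (M := T) ι hι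
    have h2 : (ι.lTensor T) (t ⊗ₜ[A] (Ideal.Quotient.mk (maximalIdeal A) 1)) = 0 := by
      rw [LinearMap.lTensor_tmul]
      have : ι (Ideal.Quotient.mk (maximalIdeal A) 1) = 1 := by
        change (Algebra.linearMap A F) 1 = 1
        rw [Algebra.linearMap_apply, map_one]
      rw [this]
      exact h1
    have h3 : t ⊗ₜ[A] (Ideal.Quotient.mk (maximalIdeal A) 1) = 0 := hinj (by rw [h2, map_zero])
    have h4 := congrArg (TensorProduct.tensorQuotEquivQuotSMul T (maximalIdeal A)) h3
    rw [TensorProduct.tensorQuotEquivQuotSMul_tmul_mk, map_zero, one_smul,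
      Submodule.Quotient.mk_eq_zero, Ideal.smul_top_eq_map] at h4
    exact h4

attribute [local instance] Algebra.TensorProduct.rightAlgebra

/-- von Neumann regularity of `T ⊗ (C/m')` gives the hypothesis `hV` -/
theorem hV_of_vnr (C : Type u) [CommRing C] [Algebra A C] (m' : Ideal C)
    (h : ∀ y : T ⊗[A] (C ⧸ m'), ∃ z, y - y * y * z = 0) (x : T ⊗[A] C) :
    ∃ z : T ⊗[A] C, x - x * x * z ∈ m'.map (algebraMap C (T ⊗[A] C)) := by
  let g : C →ₐ[A] C ⧸ m' := Ideal.Quotient.mkₐ A m'
  have hg : Function.Surjective g := Ideal.Quotient.mkₐ_surjective A m'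
  let φ : T ⊗[A] C →ₐ[A] T ⊗[A] (C ⧸ m') := Algebra.TensorProduct.map (AlgHom.id A T) g
  have hφ : Function.Surjective φ :=
    Algebra.TensorProduct.map_surjective (AlgHom.id A T) g Function.surjective_id hg
  have hker : RingHom.ker φ = m'.map (algebraMap C (T ⊗[A] C)) := by
    have h1 := Algebra.TensorProduct.lTensor_ker (A := T) g hg
    have h2 : RingHom.ker g = m' := Ideal.Quotient.mkₐ_ker A m'
    rw [h2] at h1
    exact h1
  obtain ⟨z', hz'⟩ := h (φ x)
  obtain ⟨z, hz⟩ := hφ z'
  refine ⟨z, ?_⟩
  rw [← hker, RingHom.mem_ker, map_sub, map_mul, map_mul, hz]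
  exact hz'

/-- abstract form over a plain type `C` -/
theorem hV_hmax_abstract (C : Type u) [CommRing C] [Nontrivial C] [Algebra A C]
    [Module.Finite A C] (hA : ringKrullDim A = 1) (hT : ringKrullDim T = 1)
    (hred : ∀ (F : Type u) [Field F] [Algebra A F] (g : C →ₐ[A] F), Function.Surjective g →
      IsReduced (T ⊗[A] F)) :
    (∀ (m' : Ideal C) [m'.IsMaximal] (x : T ⊗[A] C),
      ∃ z : T ⊗[A] C, x - x * x * z ∈ m'.map (algebraMap C (T ⊗[A] C))) ∧
    (maximalIdeal A).map (algebraMap A T) = maximalIdeal T := by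
  haveI : Algebra.IsIntegral A C := Algebra.IsIntegral.of_finite A C
  have hF : ∀ (m' : Ideal C) [m'.IsMaximal], ∀ a ∈ maximalIdeal A,
      algebraMap A (C ⧸ m') a = 0 := by
    intro m' _ a ha
    haveI : (m'.comap (algebraMap A C)).IsMaximal :=
      Ideal.isMaximal_comap_of_isIntegral_of_isMaximal m'
    have h1 := IsLocalRing.eq_maximalIdeal (inferInstance :
      (m'.comap (algebraMap A C)).IsMaximal)
    rw [← h1, Ideal.mem_comap] at ha
    rw [IsScalarTower.algebraMap_apply A C _ a,
      Ideal.Quotient.algebraMap_eq, Ideal.Quotient.eq_zero_iff_mem]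
    exact ha
  have hredm : ∀ (m' : Ideal C) [m'.IsMaximal], IsReduced (T ⊗[A] (C ⧸ m')) := by
    intro m' _
    letI : Field (C ⧸ m') := Ideal.Quotient.field m'
    exact hred (C ⧸ m') (Ideal.Quotient.mkₐ A m') (Ideal.Quotient.mkₐ_surjective A m')
  constructor
  · intro m' _ x
    haveI := hredm m'
    haveI := isArtinianRing_tensor A T hA hT (C ⧸ m') (hF m')
    exact hV_of_vnr A T _ m' (fun y => exists_mul_self_mul_of_isArtinianRing y) x
  · obtain ⟨m', hm'⟩ := Ideal.exists_maximal C
    haveI := hm'
    haveI := hredm m'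
    haveI : Nontrivial (C ⧸ m') := Ideal.Quotient.nontrivial_iff.mpr hm'.ne_top
    exact map_maximalIdeal_eq A T hA hT (C ⧸ m') (hF m')

/-- the δ-invariant is unchanged under a flat local extension of one-dimensional local rings whose
closed fibres over the residue fields of the normalization are reduced -/
theorem deltaInv_eq_of_reduced_fibres (hA : ringKrullDim A = 1) (hT : ringKrullDim T = 1)
    (hfin : Module.Finite A (integralClosure A (FractionRing A)))
    (hred : ∀ (F : Type u) [Field F] [Algebra A F]
      (g : integralClosure A (FractionRing A) →ₐ[A] F), Function.Surjective g →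
      IsReduced (T ⊗[A] F)) :
    Curv2.deltaInv T = Curv2.deltaInv A := by
  haveI : Nontrivial (FractionRing A) :=
    (IsLocalization.injective (M := A⁰) (FractionRing A) le_rfl).nontrivial
  haveI : Nontrivial (integralClosure A (FractionRing A)) :=
    ⟨⟨0, 1, fun h => zero_ne_one (α := FractionRing A) (congrArg Subtype.val h)⟩⟩
  obtain ⟨h1, h2⟩ := hV_hmax_abstract A T (integralClosure A (FractionRing A)) hA hT hred
  exact deltaInv_eq A T hA hfin h1 h2

end Main

end Groth.Agent.Lib.Helper22.DeltaInv
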