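import Mathlib
import Groth.Agent.Lib.Helper22.DeltaInvE
import Groth.Agent.Lib.Helper14.TotalFrac

/-!
# The δ-invariant: invariance under ring isomorphisms, and under separable base field extension
-/

set_option autoImplicit false
set_option linter.style.haveILetI false
set_option linter.unusedSectionVars false
universe u

namespace Groth.Agent.Lib.Helper22.DeltaInv

open TensorProduct IsLocalRing
open scoped nonZeroDivisors

section Equiv

theorem length_eq_of_semilinear_bijective {R₁ R₂ M₁ M₂ : Type*} [Ring R₁] [Ring R₂]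
    [AddCommGroup M₁] [AddCommGroup M₂] [Module R₁ M₁] [Module R₂ M₂] (σ : R₁ →+* R₂)
    [RingHomSurjective σ] (f : M₁ →ₛₗ[σ] M₂) (hf : Function.Bijective f) :
    Module.length R₁ M₁ = Module.length R₂ M₂ := by
  rw [Module.length, Module.length, WithBot.unbot_inj,
    Order.krullDim_eq_of_orderIso (Submodule.orderIsoMapComapOfBijective f hf)]

variable {R₁ R₂ : Type u} [CommRing R₁] [CommRing R₂] (ψ : R₁ ≃+* R₂)

include ψ in
theorem deltaInv_eq_of_ringEquiv : Curv2.deltaInv R₁ = Curv2.deltaInv R₂ := by
  unfold Curv2.deltaInv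
  haveI : RingHomSurjective (ψ : R₁ →+* R₂) := ⟨ψ.surjective⟩
  let E := Helper14.normalizationEquivOfRingEquiv ψ
  have hE : ∀ a, E (algebraMap R₁ _ a) = algebraMap R₂ _ (ψ a) :=
    Helper14.normalizationEquivOfRingEquiv_algebraMap ψ
  let g : integralClosure R₁ (FractionRing R₁) →ₛₗ[(ψ : R₁ →+* R₂)]
      integralClosure R₂ (FractionRing R₂) :=
    { toFun := E
      map_add' := map_add E
      map_smul' := fun r x => by
        rw [Algebra.smul_def, map_mul, hE, ← Algebra.smul_def]
        rfl }
  have hle : LinearMap.range (Algebra.linearMap R₁ (integralClosure R₁ (FractionRing R₁))) ≤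
      (LinearMap.range (Algebra.linearMap R₂ (integralClosure R₂ (FractionRing R₂)))).comap g := by
    rintro _ ⟨a, rfl⟩
    rw [Submodule.mem_comap]
    exact ⟨ψ a, (hE a).symm⟩
  refine length_eq_of_semilinear_bijective (ψ : R₁ →+* R₂) (Submodule.mapQ _ _ g hle) ⟨?_, ?_⟩
  · rw [← LinearMap.ker_eq_bot, LinearMap.ker_eq_bot']
    intro x hx
    obtain ⟨x, rfl⟩ := Submodule.Quotient.mk_surjective _ x
    rw [Submodule.mapQ_apply, Submodule.Quotient.mk_eq_zero] at hx
    obtain ⟨b, hb⟩ := hx
    rw [Submodule.Quotient.mk_eq_zero]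
    refine ⟨ψ.symm b, ?_⟩
    apply E.injective
    rw [Algebra.linearMap_apply, hE, ψ.apply_symm_apply]
    exact hb
  · intro z
    obtain ⟨z, rfl⟩ := Submodule.Quotient.mk_surjective _ z
    obtain ⟨w, hw⟩ := E.surjective z
    refine ⟨Submodule.Quotient.mk w, ?_⟩
    rw [Submodule.mapQ_apply]
    exact congrArg _ hw

end Equiv

section Field

variable (k K A : Type u) [Field k] [Field K] [Algebra k K] [CommRing A] [Algebra k A]
  [IsLocalRing A] [IsNoetherianRing A] [IsReduced A]
  (Q : Ideal (A ⊗[k] K)) [Q.IsPrime]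

theorem isLocalHom_of_comap_eq
    (hQ : Q.comap (Algebra.TensorProduct.includeLeftRingHom : A →+* A ⊗[k] K) = maximalIdeal A) :
    IsLocalHom (algebraMap A (Localization.AtPrime Q)) := by
  constructor
  intro a ha
  rw [IsScalarTower.algebraMap_apply A (A ⊗[k] K) (Localization.AtPrime Q),
    IsLocalization.AtPrime.isUnit_to_map_iff (Localization.AtPrime Q) Q] at ha
  by_contra hcon
  have h1 : a ∈ maximalIdeal A := (IsLocalRing.mem_maximalIdeal a).mpr hcon
  rw [← hQ, Ideal.mem_comap] at h1
  exact ha h1

theorem deltaInv_localization_tensor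
    (hQ : Q.comap (Algebra.TensorProduct.includeLeftRingHom : A →+* A ⊗[k] K) = maximalIdeal A)
    [IsNoetherianRing (Localization.AtPrime Q)]
    (hA : ringKrullDim A = 1) (hT : ringKrullDim (Localization.AtPrime Q) = 1)
    (hfin : Module.Finite A (integralClosure A (FractionRing A)))
    (hsep : ∀ (F : Type u) [Field F] [Algebra k F] [Algebra A F] [IsScalarTower k A F]
      (g : integralClosure A (FractionRing A) →ₐ[A] F), Function.Surjective g →
      IsReduced (F ⊗[k] K)) :
    Curv2.deltaInv (Localization.AtPrime Q) = Curv2.deltaInv A := by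
  haveI := isLocalHom_of_comap_eq k K A Q hQ
  haveI : Module.Flat (A ⊗[k] K) (Localization.AtPrime Q) :=
    IsLocalization.flat (Localization.AtPrime Q) Q.primeCompl
  haveI : Module.Flat A (Localization.AtPrime Q) :=
    Module.Flat.trans A (A ⊗[k] K) (Localization.AtPrime Q)
  refine deltaInv_eq_of_reduced_fibres A (Localization.AtPrime Q) hA hT hfin ?_
  intro F _ _ g hg
  letI : Algebra k F := ((algebraMap A F).comp (algebraMap k A)).toAlgebra
  haveI : IsScalarTower k A F := IsScalarTower.of_algebraMap_eq (fun _ => rfl)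
  haveI := hsep F g hg
  haveI : IsReduced ((A ⊗[k] K) ⊗[A] F) := by
    let e3 := Algebra.TensorProduct.comm A (A ⊗[k] K) F
    let e4 := Algebra.TensorProduct.cancelBaseChange k A A F K
    exact isReduced_of_injective (e4.toRingEquiv.toRingHom.comp e3.toRingEquiv.toRingHom)
      (e4.injective.comp e3.injective)
  exact isReduced_tensor_of_localization (Localization.AtPrime Q) (A ⊗[k] K) Q F

end Field

end Groth.Agent.Lib.Helper22.DeltaInv
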