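import Mathlib
import Groth.Agent.Lib.Helper22.DeltaInvF
import Groth.Agent.Lib.Helper22.CurveStalk
import Groth.Agent.Lib.Helper13.BranchMain
import Groth.Agent.Lib.Helper5.StalkBCE
import Groth.Agent.Lib.Helper5.StalkBCG
import Groth.Agent.Lib.Helper18.FieldBC.LengthBC

/-!
# The δ-invariant of a curve singularity under separable base field extension: scheme plumbing
-/

set_option autoImplicit false
set_option linter.style.haveILetI false
set_option linter.unusedSectionVars false
universe u

namespace Groth.Agent.Lib.Helper22.DeltaInv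

open CategoryTheory CategoryTheory.Limits AlgebraicGeometry TensorProduct IsLocalRing
open Groth.Agent.Lib.Helper13.NormDimOne Groth.Agent.Lib.Helper13.BranchAlg
  Groth.Agent.Lib.Helper13.BranchGeom

attribute [local instance] Curv2.stalkAlgebra

variable (k : Type u) [Field k] (X : Scheme.{u}) [X.Over (Spec (CommRingCat.of k))]
  [IsIntegral X]
  [QuasiCompact (X.fromSpecStalk (genericPoint X))] [QuasiSeparated (X.fromSpecStalk (genericPoint X))]

/-- every maximal ideal of the normalization of the local ring at `x` is the kernel of a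
`k`-compatible surjection onto the residue field of a point of the normalization over `x` -/
theorem exists_point_of_maximal (x : X)
    (M : MaximalSpectrum (integralClosure (X.presheaf.stalk x) X.functionField)) :
    ∃ (x' : Xn X) (_ : nu X x' = x)
      (ψ : integralClosure (X.presheaf.stalk x) X.functionField →+*
        IsLocalRing.ResidueField ((Xn X).presheaf.stalk x')),
      RingHom.ker ψ = M.asIdeal ∧
      ∀ c : k, ψ (algebraMap (X.presheaf.stalk x) _ (Curv2.stalkMap k X x c)) =
        (@Curv2.resMap k _ (Xn X) ⟨nu X ≫ (X ↘ (Spec (CommRingCat.of k)))⟩ x') c := by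
  obtain ⟨_, ⟨U, hU, rfl⟩, hxU, -⟩ := X.isBasis_affineOpens.exists_subset_of_mem_open
    (Set.mem_univ x) isOpen_univ
  haveI : Nonempty U := ⟨⟨_, hxU⟩⟩
  obtain ⟨e, he⟩ := exists_sectionsEquiv X hU
  obtain ⟨⟨x', hx'⟩, hmax⟩ := maxOf_surjective X hU e he x hxU M
  subst hx'
  refine ⟨x', rfl, psiG X hU e he (nu X x') hxU x' rfl, congrArg MaximalSpectrum.asIdeal hmax, ?_⟩
  intro c
  have hU' : IsAffineOpen U := hU
  refine Eq.trans (psiG_algebraMap X hU' e he x' _ hxU) ?_
  letI : (Xn X).Over (Spec (CommRingCat.of k)) := ⟨nu X ≫ (X ↘ (Spec (CommRingCat.of k)))⟩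
  have h := RingHom.congr_fun
    (Groth.Agent.Lib.Helper5.StalkBC.stalkMap_comp k (Xn X) X (nu X) rfl x') c
  change IsLocalRing.residue _ (((nu X).stalkMap x').hom (Curv2.stalkMap k X (nu X x') c)) =
    IsLocalRing.residue _ (Curv2.stalkMap k (Xn X) x' c)
  rw [← h]
  rfl

variable (K : Type u) [Field K] [Algebra k K]

theorem isReduced_tensor_of_hsep (x : X)
    (hsep : ∀ x' : Xn X, nu X x' = x →
      GeometricallyReduced (Spec.map (CommRingCat.ofHom
        (@Curv2.resMap k _ (Xn X) ⟨nu X ≫ (X ↘ (Spec (CommRingCat.of k)))⟩ x'))))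
    (F : Type u) [Field F] [Algebra k F] [Algebra (X.presheaf.stalk x) F]
    [IsScalarTower k (X.presheaf.stalk x) F]
    (g : integralClosure (X.presheaf.stalk x) (FractionRing (X.presheaf.stalk x))
      →ₐ[X.presheaf.stalk x] F) (hg : Function.Surjective g) :
    IsReduced (F ⊗[k] K) := by
  let θ₀ : FractionRing (X.presheaf.stalk x) ≃ₐ[X.presheaf.stalk x] X.functionField :=
    FractionRing.algEquiv (X.presheaf.stalk x) X.functionField
  let θ : integralClosure (X.presheaf.stalk x) (FractionRing (X.presheaf.stalk x))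
      ≃ₐ[X.presheaf.stalk x] integralClosure (X.presheaf.stalk x) X.functionField :=
    AlgEquiv.mapIntegralClosure θ₀
  haveI hkg : (RingHom.ker g.toRingHom).IsMaximal :=
    RingHom.ker_isMaximal_of_surjective g.toRingHom hg
  have hM : ((RingHom.ker g.toRingHom).comap θ.symm.toRingEquiv.toRingHom).IsMaximal :=
    Ideal.comap_isMaximal_of_equiv θ.symm.toRingEquiv
  obtain ⟨x', hx', ψ, hψker, hψk⟩ := exists_point_of_maximal k X x ⟨_, hM⟩
  let ψ' : integralClosure (X.presheaf.stalk x) (FractionRing (X.presheaf.stalk x)) →+*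
      IsLocalRing.ResidueField ((Xn X).presheaf.stalk x') := ψ.comp θ.toRingEquiv.toRingHom
  have hker : RingHom.ker g.toRingHom ≤ RingHom.ker ψ' := by
    intro c hc
    rw [RingHom.mem_ker, RingHom.comp_apply, ← RingHom.mem_ker, hψker]
    change θ.symm (θ c) ∈ RingHom.ker g.toRingHom
    rw [θ.symm_apply_apply]
    exact hc
  let σ : F →+* IsLocalRing.ResidueField ((Xn X).presheaf.stalk x') :=
    RingHom.liftOfSurjective g.toRingHom hg ⟨ψ', hker⟩
  have hσ : ∀ c, σ (g c) = ψ' c := fun c =>
    RingHom.liftOfSurjective_comp_apply g.toRingHom hg ⟨ψ', hker⟩ c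
  letI : Algebra k (IsLocalRing.ResidueField ((Xn X).presheaf.stalk x')) :=
    (@Curv2.resMap k _ (Xn X) ⟨nu X ≫ (X ↘ (Spec (CommRingCat.of k)))⟩ x').toAlgebra
  let σk : F →ₐ[k] IsLocalRing.ResidueField ((Xn X).presheaf.stalk x') :=
    { σ with
      commutes' := fun c => by
        have h1 : algebraMap k F c = g (algebraMap (X.presheaf.stalk x) _
            (algebraMap k (X.presheaf.stalk x) c)) := by
          rw [g.commutes, ← IsScalarTower.algebraMap_apply]
        change σ (algebraMap k F c) = _
        rw [h1, hσ]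
        change ψ (θ (algebraMap (X.presheaf.stalk x) _ (algebraMap k (X.presheaf.stalk x) c))) = _
        rw [θ.commutes]
        exact hψk c }
  have hinj : Function.Injective σk := σk.toRingHom.injective
  haveI : GeometricallyReduced (Spec.map (CommRingCat.ofHom
      (algebraMap k (IsLocalRing.ResidueField ((Xn X).presheaf.stalk x'))))) := hsep x' hx'
  haveI : IsReduced (K ⊗[k] (IsLocalRing.ResidueField ((Xn X).presheaf.stalk x'))) :=
    Groth.Agent.Lib.Helper18.FieldBC.isReduced_tensor_of_geometricallyReduced K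
  have hinj2 : Function.Injective (Algebra.TensorProduct.map (AlgHom.id k K) σk) :=
    Module.Flat.lTensor_preserves_injective_linearMap σk.toLinearMap hinj
  exact isReduced_of_injective
    ((Algebra.TensorProduct.map (AlgHom.id k K) σk).comp
      (Algebra.TensorProduct.comm k F K).toAlgHom)
    (hinj2.comp (Algebra.TensorProduct.comm k F K).injective)

end Groth.Agent.Lib.Helper22.DeltaInv
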