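import Mathlib

set_option autoImplicit false
set_option linter.style.haveILetI false
universe u v
open TensorProduct

namespace Groth.Agent.Lib.Helper22.RedZ

/-- bounded torsion: a finite module over a Noetherian ring has `p`-torsion for finitely many
primes only -/
theorem exists_no_torsion (A : Type u) [CommRing A] [IsNoetherianRing A] (C : Type v)
    [AddCommGroup C] [Module A C] [Module.Finite A C] :
    ∃ N : ℕ, N ≠ 0 ∧ ∀ p : ℕ, p.Prime → ¬ p ∣ N → ∀ c : C, (p : A) • c = 0 → c = 0 := by
  classical
  let T : Submodule A C :=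
    { carrier := {c | ∃ n : ℕ, n ≠ 0 ∧ (n : A) • c = 0}
      zero_mem' := ⟨1, one_ne_zero, by simp⟩
      add_mem' := by
        rintro a b ⟨n, hn, hna⟩ ⟨m, hm, hmb⟩
        refine ⟨n * m, mul_ne_zero hn hm, ?_⟩
        have h1 : ((n * m : ℕ) : A) • a = 0 := by
          rw [Nat.cast_mul, mul_comm, mul_smul, hna, smul_zero]
        have h2 : ((n * m : ℕ) : A) • b = 0 := by
          rw [Nat.cast_mul, mul_smul, hmb, smul_zero]
        rw [smul_add, h1, h2, add_zero]
      smul_mem' := by
        rintro r c ⟨n, hn, hnc⟩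
        exact ⟨n, hn, by rw [smul_comm, hnc, smul_zero]⟩ }
  haveI : IsNoetherian A C := isNoetherian_of_isNoetherianRing_of_finite A C
  obtain ⟨G, hG⟩ := (IsNoetherian.noetherian T : T.FG)
  have hGT : ∀ t ∈ G, ∃ n : ℕ, n ≠ 0 ∧ (n : A) • t = 0 := fun t ht =>
    (hG ▸ Submodule.subset_span ht : t ∈ T)
  choose! n hn0 hn using hGT
  refine ⟨∏ t ∈ G, n t, Finset.prod_ne_zero_iff.mpr hn0, ?_⟩
  have hN : ∀ t ∈ Submodule.span A (G : Set C), ((∏ t ∈ G, n t : ℕ) : A) • t = 0 := by
    intro t ht
    induction ht using Submodule.span_induction with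
    | mem y hy =>
      rw [← Finset.mul_prod_erase G n hy, Nat.cast_mul, mul_comm, mul_smul, hn y hy, smul_zero]
    | zero => rw [smul_zero]
    | add y z _ _ hy hz => rw [smul_add, hy, hz, add_zero]
    | smul a y _ hy => rw [smul_comm, hy, smul_zero]
  intro p hp hpN c hc
  have hcT : c ∈ T := ⟨p, hp.ne_zero, hc⟩
  have hNc : ((∏ t ∈ G, n t : ℕ) : A) • c = 0 := hN c (hG ▸ hcT)
  have hcop : IsCoprime (p : ℤ) ((∏ t ∈ G, n t : ℕ) : ℤ) :=
    Nat.isCoprime_iff_coprime.mpr ((Nat.Prime.coprime_iff_not_dvd hp).mpr hpN)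
  obtain ⟨a, b, hab⟩ := hcop
  have h1 : ((a : A) * (p : A) + (b : A) * ((∏ t ∈ G, n t : ℕ) : A)) = 1 := by
    have := congrArg (Int.cast : ℤ → A) hab
    push_cast at this
    push_cast
    exact this
  calc c = (1 : A) • c := (one_smul A c).symm
    _ = ((a : A) * (p : A) + (b : A) * ((∏ t ∈ G, n t : ℕ) : A)) • c := by rw [h1]
    _ = 0 := by rw [add_smul, mul_smul, mul_smul, hc, hNc, smul_zero, smul_zero, add_zero]

theorem isReduced_of_etale_of_isDomain (A : Type v) (B : Type u) [CommRing A] [IsDomain A]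
    [CommRing B] [Algebra A B] [Algebra.Etale A B] : IsReduced B := by
  have h1 : IsReduced (FractionRing A ⊗[A] B) :=
    Algebra.FormallyUnramified.isReduced_of_field (FractionRing A) (FractionRing A ⊗[A] B)
  have hinj : Function.Injective
      (Algebra.TensorProduct.includeRight : B →ₐ[A] FractionRing A ⊗[A] B) :=
    Algebra.TensorProduct.includeRight_injective (IsFractionRing.injective A (FractionRing A))
  exact isReduced_of_injective _ hinj

/-- smooth algebras over a field are reduced (two universes) -/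
theorem isReduced_of_smooth_field (k : Type v) (A : Type u) [Field k] [CommRing A] [Algebra k A]
    [Algebra.Smooth k A] : IsReduced A := by
  constructor
  intro x hx
  by_contra hx0
  have hI : (Ideal.span {x}).annihilator ≠ ⊤ := by
    intro h
    have h1 : (1 : A) ∈ (Ideal.span {x}).annihilator := h ▸ Submodule.mem_top
    rw [Submodule.mem_annihilator_span_singleton] at h1
    exact hx0 (by simpa using h1)
  obtain ⟨p, hp, hIp⟩ := Ideal.exists_le_maximal _ hI
  have : p.IsPrime := hp.isPrime
  have hsm : Algebra.IsSmoothAt k p := inferInstance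
  obtain ⟨f, hfp, n, _, _, _⟩ :=
    Algebra.IsSmoothAt.exists_isStandardEtale_mvPolynomial (R := k) (p := p)
  have hred : IsReduced (Localization.Away f) :=
    isReduced_of_etale_of_isDomain (MvPolynomial (Fin n) k) (Localization.Away f)
  have h0 : algebraMap A (Localization.Away f) x = 0 :=
    (hx.map (algebraMap A (Localization.Away f))).eq_zero
  rw [IsLocalization.map_eq_zero_iff (Submonoid.powers f)] at h0
  obtain ⟨⟨_, m, rfl⟩, hm⟩ := h0
  have : f ^ m ∈ (Ideal.span {x}).annihilator := by
    rw [Submodule.mem_annihilator_span_singleton]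
    simpa using hm
  exact hfp (hp.isPrime.mem_of_pow_mem m (hIp this))

end Groth.Agent.Lib.Helper22.RedZ
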