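import Groth.Agent.Lib.Helper22.J2Crit
import Groth.Agent.Lib.Helper22.RedZ1
import Groth.Agent.Lib.Helper22.GeomRedLoc

set_option autoImplicit false
set_option linter.style.haveILetI false
universe u
open TensorProduct IsLocalRing

namespace Groth.Agent.Lib.Helper22.DenseSm

/-- a geometrically reduced local ring at a minimal prime is formally smooth -/
theorem isSmoothAt_of_minimal_of_geomReduced (k A : Type u) [Field k] [CommRing A] [Algebra k A]
    [Algebra.FiniteType k A] (p : Ideal A) [p.IsPrime] (hp : p ∈ minimalPrimes A)
    [Algebra.IsGeometricallyReduced k (Localization.AtPrime p)] : Algebra.IsSmoothAt k p := by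
  change Algebra.FormallySmooth k (Localization.AtPrime p)
  haveI : IsReduced (Localization.AtPrime p) := Algebra.isReduced_of_isGeometricallyReduced k
  haveI := IsLocalization.subsingleton_primeSpectrum_of_mem_minimalPrimes p hp
    (Localization.AtPrime p)
  have hbot : maximalIdeal (Localization.AtPrime p) = ⊥ := by
    rw [eq_bot_iff]
    intro x hx
    have hnil : x ∈ nilradical (Localization.AtPrime p) := by
      rw [nilradical_eq_sInf, Ideal.mem_sInf]
      intro J hJ
      have h := Subsingleton.elim (⟨J, hJ⟩ : PrimeSpectrum (Localization.AtPrime p))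
        ⟨maximalIdeal (Localization.AtPrime p), inferInstance⟩
      have h' : J = maximalIdeal (Localization.AtPrime p) := congrArg PrimeSpectrum.asIdeal h
      rw [h']
      exact hx
    rw [Ideal.mem_bot]
    exact (mem_nilradical.mp hnil).eq_zero
  -- the residue field
  have hbij : Function.Bijective (IsScalarTower.toAlgHom k (Localization.AtPrime p)
      (ResidueField (Localization.AtPrime p))) := by
    constructor
    · rw [injective_iff_map_eq_zero]
      intro x hx
      have : x ∈ maximalIdeal (Localization.AtPrime p) := by
        rw [← IsLocalRing.residue_eq_zero_iff]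
        exact hx
      rwa [hbot, Ideal.mem_bot] at this
    · exact IsLocalRing.residue_surjective
  let e : Localization.AtPrime p ≃ₐ[k] ResidueField (Localization.AtPrime p) :=
    AlgEquiv.ofBijective _ hbij
  haveI : Algebra.IsGeometricallyReduced k (ResidueField (Localization.AtPrime p)) :=
    Algebra.IsGeometricallyReduced.of_injective e.symm.toAlgHom e.symm.injective
  haveI : Algebra.EssFiniteType A (Localization.AtPrime p) :=
    Algebra.EssFiniteType.of_isLocalization _ p.primeCompl
  haveI : Algebra.EssFiniteType k (Localization.AtPrime p) := Algebra.EssFiniteType.comp k A _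
  haveI : Algebra.FiniteType (Localization.AtPrime p) (ResidueField (Localization.AtPrime p)) :=
    Algebra.FiniteType.of_surjective (Algebra.ofId _ _) IsLocalRing.residue_surjective
  haveI : Algebra.EssFiniteType k (ResidueField (Localization.AtPrime p)) :=
    Algebra.EssFiniteType.comp k (Localization.AtPrime p) _
  haveI : Algebra.FormallySmooth k (ResidueField (Localization.AtPrime p)) :=
    Groth.Agent.Lib.Helper22.SmoothGeomRed.formallySmooth_of_isGeometricallyReduced k _
  exact Algebra.FormallySmooth.of_equiv e.symm

/-- the local ring at a smooth point is geometrically reduced -/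
theorem geomReduced_of_isSmoothAt (k A : Type u) [Field k] [CommRing A] [Algebra k A]
    [Algebra.FiniteType k A] (p : Ideal A) [p.IsPrime] (hp : Algebra.IsSmoothAt k p) :
    Algebra.IsGeometricallyReduced k (Localization.AtPrime p) := by
  haveI : IsNoetherianRing A := Algebra.FiniteType.isNoetherianRing k A
  haveI : Algebra.FinitePresentation k A := Algebra.FinitePresentation.of_finiteType.mp inferInstance
  have hmem : (⟨p, inferInstance⟩ : PrimeSpectrum A) ∈ Algebra.smoothLocus k A := hp
  obtain ⟨_, ⟨f, rfl⟩, hpf, hfsub⟩ := PrimeSpectrum.isTopologicalBasis_basic_opens.exists_subset_of_mem_open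
    hmem Algebra.isOpen_smoothLocus
  have hfp : f ∉ p := hpf
  haveI hsm : Algebra.Smooth k (Localization.Away f) := by
    rw [← Algebra.basicOpen_subset_smoothLocus_iff_smooth]
    exact hfsub
  -- `A_f` is geometrically reduced
  haveI : Algebra.IsGeometricallyReduced k (Localization.Away f) := by
    rw [Algebra.isGeometricallyReduced_field_iff]
    haveI : Algebra.Smooth (AlgebraicClosure k) (AlgebraicClosure k ⊗[k] Localization.Away f) :=
      inferInstance
    exact Groth.Agent.Lib.Helper22.RedZ.isReduced_of_smooth_field (AlgebraicClosure k) _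
  -- `A_p` is a localization of `A_f`
  have hle : Submonoid.powers f ≤ p.primeCompl := by
    rintro _ ⟨n, rfl⟩
    exact fun h => hfp (Ideal.IsPrime.mem_of_pow_mem ‹_› n h)
  have hunits : ∀ m : Submonoid.powers f, IsUnit (algebraMap A (Localization.AtPrime p) m) :=
    fun m => IsLocalization.map_units (Localization.AtPrime p) (⟨m.1, hle m.2⟩ : p.primeCompl)
  letI : Algebra (Localization.Away f) (Localization.AtPrime p) :=
    (IsLocalization.lift (M := Submonoid.powers f) (g := algebraMap A (Localization.AtPrime p))
      hunits).toAlgebra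
  have hcomp : ∀ x : A, algebraMap (Localization.Away f) (Localization.AtPrime p)
      (algebraMap A (Localization.Away f) x) = algebraMap A (Localization.AtPrime p) x := fun x =>
    IsLocalization.lift_eq (M := Submonoid.powers f) (g := algebraMap A (Localization.AtPrime p))
      hunits x
  haveI : IsScalarTower A (Localization.Away f) (Localization.AtPrime p) :=
    IsScalarTower.of_algebraMap_eq (R := A) (S := Localization.Away f)
      (A := Localization.AtPrime p) (fun x => (hcomp x).symm)
  haveI : IsLocalization (p.primeCompl.map (algebraMap A (Localization.Away f)))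
      (Localization.AtPrime p) :=
    IsLocalization.isLocalization_of_submonoid_le (Localization.Away f) (Localization.AtPrime p)
      (Submonoid.powers f) p.primeCompl hle
  haveI : IsScalarTower k (Localization.Away f) (Localization.AtPrime p) :=
    IsScalarTower.of_algebraMap_eq (R := k) (S := Localization.Away f)
      (A := Localization.AtPrime p) (fun x => by
        rw [IsScalarTower.algebraMap_apply k A (Localization.AtPrime p),
          IsScalarTower.algebraMap_apply k A (Localization.Away f), hcomp])
  exact Groth.Agent.Lib.Helper22.GeomRedLoc.geomReduced_of_isLocalization k (Localization.Away f)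
    (p.primeCompl.map (algebraMap A (Localization.Away f))) (Localization.AtPrime p)

/-- S5012 -/
theorem exists_dense_open_smooth_iff (k A : Type u) [Field k] [CommRing A] [Algebra k A]
    [Algebra.FiniteType k A] :
    (∃ U : TopologicalSpace.Opens (PrimeSpectrum A), Dense (U : Set (PrimeSpectrum A)) ∧
        ∀ p ∈ U, Algebra.IsSmoothAt k p.asIdeal) ↔
      ∀ (p : Ideal A) [p.IsPrime], p ∈ minimalPrimes A →
        Algebra.IsGeometricallyReduced k (Localization.AtPrime p) := by
  haveI : IsNoetherianRing A := Algebra.FiniteType.isNoetherianRing k A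
  haveI : Algebra.FinitePresentation k A := Algebra.FinitePresentation.of_finiteType.mp inferInstance
  constructor
  · rintro ⟨U, hUd, hU⟩ p hp hpmin
    -- `p ∈ U`
    have hfin : (minimalPrimes A).Finite := minimalPrimes.finite_of_isNoetherianRing A
    set W : Set (PrimeSpectrum A) :=
      (⋃ q ∈ (minimalPrimes A \ {p}), PrimeSpectrum.zeroLocus (q : Set A))ᶜ with hW
    have hWo : IsOpen W := by
      rw [hW, isOpen_compl_iff]
      exact (hfin.subset Set.sdiff_subset).isClosed_biUnion
        (fun q _ => PrimeSpectrum.isClosed_zeroLocus _)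
    have hpW : (⟨p, hp⟩ : PrimeSpectrum A) ∈ W := by
      rw [hW, Set.mem_compl_iff, Set.mem_iUnion₂]
      rintro ⟨q, ⟨hqmin, hqp⟩, hq⟩
      rw [PrimeSpectrum.mem_zeroLocus] at hq
      have hle : q ≤ p := hq
      exact hqp (le_antisymm hle (hpmin.2 hqmin.1 hle))
    obtain ⟨x, hxW, hxU⟩ := hUd.inter_open_nonempty W hWo ⟨_, hpW⟩
    -- `x` lies over `p` only
    obtain ⟨q, hqmin, hqx⟩ := Ideal.exists_minimalPrimes_le (show (⊥ : Ideal A) ≤ x.asIdeal from bot_le)
    have hqp : q = p := by
      by_contra hne
      apply hxW
      rw [Set.mem_iUnion₂]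
      exact ⟨q, ⟨hqmin, hne⟩, hqx⟩
    subst hqp
    have hspec : (⟨q, hp⟩ : PrimeSpectrum A) ⤳ x :=
      (PrimeSpectrum.le_iff_specializes _ x).mp hqx
    have hqU : (⟨q, hp⟩ : PrimeSpectrum A) ∈ U := U.isOpen.stableUnderGeneralization hspec hxU
    exact geomReduced_of_isSmoothAt k A q (hU _ hqU)
  · intro H
    refine ⟨⟨Algebra.smoothLocus k A, Algebra.isOpen_smoothLocus⟩, ?_, fun p hp => hp⟩
    rw [dense_iff_inter_open]
    rintro V hVo ⟨x, hxV⟩
    obtain ⟨q, hqmin, hqx⟩ := Ideal.exists_minimalPrimes_le (show (⊥ : Ideal A) ≤ x.asIdeal from bot_le)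
    haveI hq : q.IsPrime := hqmin.1.1
    have hspec : (⟨q, hq⟩ : PrimeSpectrum A) ⤳ x :=
      (PrimeSpectrum.le_iff_specializes _ x).mp hqx
    refine ⟨⟨q, hq⟩, hVo.stableUnderGeneralization hspec hxV, ?_⟩
    haveI := H q hqmin
    exact isSmoothAt_of_minimal_of_geomReduced k A q hqmin

end Groth.Agent.Lib.Helper22.DenseSm
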