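import Mathlib
import Groth.Agent.Lib.Helper5.SplitLoc
set_option autoImplicit false
universe u v w
noncomputable section
namespace Groth.Agent.Lib.Helper22.SplitMax
open TensorProduct

variable {R : Type u} [CommRing R] {X : Type v} {Y : Type w} [AddCommGroup X] [Module R X]
  [AddCommGroup Y] [Module R Y]

/-- `1 ⊗ y = 0` in `κ(p) ⊗ Y` forces `y ∈ p Y`, for `p` maximal -/
theorem mem_smul_top_of_tmul_eq_zero (p : Ideal R) [hp : p.IsMaximal] (y : Y)
    (h : (1 : p.ResidueField) ⊗ₜ[R] y = 0) : y ∈ p • (⊤ : Submodule R Y) := by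
  have hbij := Ideal.bijective_algebraMap_quotient_residueField p
  let e : (R ⧸ p) ≃ₗ[R] p.ResidueField :=
    LinearEquiv.ofBijective ((Algebra.linearMap (R ⧸ p) p.ResidueField).restrictScalars R) hbij
  let ψ : p.ResidueField ⊗[R] Y ≃ₗ[R] Y ⧸ (p • ⊤ : Submodule R Y) :=
    (TensorProduct.congr e.symm (LinearEquiv.refl R Y)).trans
      (TensorProduct.quotTensorEquivQuotSMul Y p)
  have h1 : ψ ((1 : p.ResidueField) ⊗ₜ[R] y) = Submodule.Quotient.mk y := by
    have he : e.symm 1 = 1 := by
      rw [LinearEquiv.symm_apply_eq]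
      show (1 : p.ResidueField) = algebraMap (R ⧸ p) p.ResidueField 1
      rw [map_one]
    show (TensorProduct.quotTensorEquivQuotSMul Y p)
      ((TensorProduct.congr e.symm (LinearEquiv.refl R Y)) (1 ⊗ₜ[R] y)) = _
    rw [TensorProduct.congr_tmul, he, LinearEquiv.refl_apply]
    exact TensorProduct.quotTensorEquivQuotSMul_mk_tmul p 1 y |>.trans (by rw [one_smul])
  rw [h, map_zero] at h1
  exact (Submodule.Quotient.mk_eq_zero _).mp h1.symm

theorem tmul_eq_zero_of_mem_smul_top (p : Ideal R) [hp : p.IsMaximal] (x : X)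
    (h : x ∈ p • (⊤ : Submodule R X)) : (1 : p.ResidueField) ⊗ₜ[R] x = 0 := by
  refine Submodule.smul_induction_on h ?_ ?_
  · intro a ha x' _
    rw [← TensorProduct.smul_tmul, Algebra.smul_def, mul_one,
      Ideal.algebraMap_residueField_eq_zero.mpr ha, TensorProduct.zero_tmul]
  · intro x₁ x₂ h₁ h₂
    rw [TensorProduct.tmul_add, h₁, h₂, add_zero]

/-- injectivity modulo a maximal ideal gives injectivity of the residue field tensor -/
theorem injective_lTensor_of_forall_mem (u : X →ₗ[R] Y) (p : Ideal R) [hp : p.IsMaximal]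
    (h : ∀ x, u x ∈ p • (⊤ : Submodule R Y) → x ∈ p • (⊤ : Submodule R X)) :
    Function.Injective (u.lTensor p.ResidueField) := by
  rw [injective_iff_map_eq_zero]
  intro t ht
  have hsurj : Function.Surjective (algebraMap R p.ResidueField) := by
    have h1 := Ideal.bijective_algebraMap_quotient_residueField p
    have h2 : algebraMap R p.ResidueField =
        (algebraMap (R ⧸ p) p.ResidueField).comp (Ideal.Quotient.mk p) := by
      ext a; rfl
    rw [h2]
    exact h1.2.comp Ideal.Quotient.mk_surjective
  obtain ⟨x, rfl⟩ := TensorProduct.mk_surjective R X p.ResidueField hsurj t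
  rw [TensorProduct.mk_apply] at ht ⊢
  rw [LinearMap.lTensor_tmul] at ht
  exact tmul_eq_zero_of_mem_smul_top p x (h x (mem_smul_top_of_tmul_eq_zero p (u x) ht))

open Groth.Agent.Lib.Helper5.SplitLoc in
/-- a finitely generated submodule of a finite projective module which is "pure at every maximal
ideal" is a direct summand; the quotient is projective -/
theorem projective_quotient_of_forall_maximal [Module.Finite R Y] [Module.Projective R Y]
    (U : Submodule R Y) (hU : U.FG)
    (h : ∀ p : Ideal R, p.IsMaximal → U ⊓ p • (⊤ : Submodule R Y) ≤ p • U) :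
    Module.Projective R (Y ⧸ U) := by
  have : Module.Finite R U := Module.Finite.iff_fg.mpr hU
  have htop : splitIdeal U.subtype = ⊤ := by
    by_contra hne
    obtain ⟨p, hp, hle⟩ := Ideal.exists_le_maximal _ hne
    have hinj : Function.Injective (U.subtype.lTensor p.ResidueField) := by
      apply injective_lTensor_of_forall_mem
      intro x hx
      have h1 : (x : Y) ∈ p • U := h p hp ⟨x.2, hx⟩
      -- transfer membership to the subtype
      have h2 : p • U = Submodule.map U.subtype (p • (⊤ : Submodule R U)) := by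
        rw [Submodule.map_smul'', Submodule.map_top, Submodule.range_subtype]
      rw [h2] at h1
      obtain ⟨x', hx', hxx'⟩ := h1
      have : x' = x := Subtype.ext hxx'
      rw [← this]; exact hx'
    obtain ⟨f, hf, hfp⟩ := exists_mem_of_injective_lTensor U.subtype p hinj
    exact hfp (hle hf)
  obtain ⟨w, hw⟩ := (splitIdeal_eq_top_iff U.subtype).mp htop
  have hw' : ∀ x : U, w x.1 = x := fun x => LinearMap.congr_fun hw x
  -- `Y ⧸ U` is a retract of `Y`
  let s : (Y ⧸ U) →ₗ[R] Y := U.liftQ (LinearMap.id - U.subtype ∘ₗ w) (by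
    intro x hx
    rw [LinearMap.mem_ker, LinearMap.sub_apply, LinearMap.id_apply, LinearMap.comp_apply,
      Submodule.subtype_apply, hw' ⟨x, hx⟩, sub_self])
  refine Module.Projective.of_split s U.mkQ ?_
  ext y
  show U.mkQ (y - (w y : Y)) = Submodule.Quotient.mk y
  rw [map_sub, Submodule.mkQ_apply, Submodule.mkQ_apply,
    (Submodule.Quotient.mk_eq_zero U).mpr (w y).2, sub_zero]

end Groth.Agent.Lib.Helper22.SplitMax
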