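import Mathlib
import Groth.Agent.Lib.Helper22.SplitMax
import Groth.Agent.Lib.Helper22.WittShift

set_option autoImplicit false
set_option linter.unusedSectionVars false
universe u v
noncomputable section
namespace Groth.Agent.Lib.Helper22.DieudAlg

open WittVector Function

section Alg

/-- coordinates in a projective module: a colon-ideal statement passes from the ring to the
module -/
theorem mem_smul_top_of_smul_mem {A : Type*} {B : Type*} [CommRing A] [CommRing B] [Algebra A B]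
    (hsurj : Surjective (algebraMap A B)) {N : Type*} [AddCommGroup N] [Module A N] [Module B N]
    [IsScalarTower A B N] [Module.Projective B N] (I J : Ideal A) (a : A)
    (h : ∀ w : A, algebraMap A B (a * w) ∈ I.map (algebraMap A B) →
      algebraMap A B w ∈ J.map (algebraMap A B))
    (z : N) (hz : a • z ∈ I • (⊤ : Submodule A N)) : z ∈ J • (⊤ : Submodule A N) := by
  obtain ⟨s, hs⟩ := (Module.projective_def' (R := B) (P := N)).mp inferInstance
  have hs' : ∀ n, Finsupp.linearCombination B id (s n) = n := fun n => LinearMap.congr_fun hs n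
  have h1 : ∀ n ∈ I • (⊤ : Submodule A N), ∀ j, (s n) j ∈ I.map (algebraMap A B) := by
    intro n hn
    refine Submodule.smul_induction_on hn ?_ ?_
    · intro i hi n' _ j
      rw [← algebraMap_smul B i n', map_smul, Finsupp.smul_apply, smul_eq_mul]
      exact Ideal.mul_mem_right _ _ (Ideal.mem_map_of_mem _ hi)
    · intro x y hx hy j
      rw [map_add, Finsupp.add_apply]
      exact Ideal.add_mem _ (hx j) (hy j)
  have h2 : ∀ j, (s z) j ∈ J.map (algebraMap A B) := by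
    intro j
    obtain ⟨w, hw⟩ := hsurj ((s z) j)
    rw [← hw]
    apply h
    rw [map_mul, hw]
    have := h1 _ hz j
    rwa [← algebraMap_smul B a z, map_smul, Finsupp.smul_apply, smul_eq_mul] at this
  rw [← hs' z, Finsupp.linearCombination_apply]
  refine Submodule.sum_mem _ ?_
  intro j _
  obtain ⟨w, hw, hwj⟩ := (Ideal.mem_map_iff_of_surjective _ hsurj).mp (h2 j)
  show (s z) j • (id j) ∈ _
  rw [id, ← hwj, algebraMap_smul]
  exact Submodule.smul_mem_smul hw Submodule.mem_top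

/-- membership in `𝔫 (N/𝔠N)` lifts -/
theorem mem_comap_smul_top_of_mkQ_mem {A : Type*} [CommRing A] (𝔠 : Ideal A) {N : Type*}
    [AddCommGroup N] [Module A N] (𝔫 : Ideal (A ⧸ 𝔠)) (m : N)
    (hm : (𝔠 • ⊤ : Submodule A N).mkQ m ∈
      𝔫 • (⊤ : Submodule (A ⧸ 𝔠) (N ⧸ (𝔠 • ⊤ : Submodule A N)))) :
    m ∈ (𝔫.comap (Ideal.Quotient.mk 𝔠)) • (⊤ : Submodule A N) := by
  have hle : 𝔠 ≤ 𝔫.comap (Ideal.Quotient.mk 𝔠) := by
    intro c hc
    rw [Ideal.mem_comap, Ideal.Quotient.eq_zero_iff_mem.mpr hc]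
    exact zero_mem _
  have key : ∀ y ∈ 𝔫 • (⊤ : Submodule (A ⧸ 𝔠) (N ⧸ (𝔠 • ⊤ : Submodule A N))),
      ∀ m : N, (𝔠 • ⊤ : Submodule A N).mkQ m = y →
        m ∈ (𝔫.comap (Ideal.Quotient.mk 𝔠)) • (⊤ : Submodule A N) := by
    intro y hy
    refine Submodule.smul_induction_on hy ?_ ?_
    · intro c hc y' _ m hmy
      obtain ⟨a, rfl⟩ := Ideal.Quotient.mk_surjective c
      obtain ⟨m', rfl⟩ := Submodule.mkQ_surjective _ y'
      have h1 : m - a • m' ∈ (𝔠 • ⊤ : Submodule A N) := by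
        rw [← Submodule.Quotient.mk_eq_zero, Submodule.Quotient.mk_sub, sub_eq_zero]
        exact hmy
      have h2 : m = (m - a • m') + a • m' := by abel
      rw [h2]
      exact add_mem (Submodule.smul_mono hle le_rfl h1)
        (Submodule.smul_mem_smul (Ideal.mem_comap.mpr hc) Submodule.mem_top)
    · intro y₁ y₂ h₁ h₂ m hmy
      obtain ⟨m₁, rfl⟩ := Submodule.mkQ_surjective _ y₁
      have h3 : (𝔠 • ⊤ : Submodule A N).mkQ (m - m₁) = y₂ := by
        rw [map_sub, hmy, add_sub_cancel_left]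
      have h2 : m = m₁ + (m - m₁) := by abel
      rw [h2]
      exact add_mem (h₁ m₁ rfl) (h₂ _ h3)
  exact key _ hm m rfl

/-- a projective module over `A ⧸ 𝔠` reduces to a projective module over `A ⧸ 𝔡` for `𝔠 ≤ 𝔡` -/
theorem projective_quot_of_le {A : Type u} [CommRing A] (𝔠 𝔡 : Ideal A) (hle : 𝔠 ≤ 𝔡)
    (N : Type v) [AddCommGroup N] [Module A N] [Module (A ⧸ 𝔠) N] [IsScalarTower A (A ⧸ 𝔠) N]
    [Module.Projective (A ⧸ 𝔠) N] :
    Module.Projective (A ⧸ 𝔡) (N ⧸ (𝔡 • ⊤ : Submodule A N)) := by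
  obtain ⟨s, hs⟩ := (Module.projective_def' (R := A ⧸ 𝔠) (P := N)).mp inferInstance
  have hs' : ∀ n, Finsupp.linearCombination (A ⧸ 𝔠) id (s n) = n :=
    fun n => LinearMap.congr_fun hs n
  let fac : (A ⧸ 𝔠) →ₗ[A] (A ⧸ 𝔡) := (Ideal.Quotient.factorₐ A hle).toLinearMap
  have hfac : ∀ a : A, fac (Ideal.Quotient.mk 𝔠 a) = Ideal.Quotient.mk 𝔡 a := fun a => rfl
  let T₀ : N →ₗ[A] (N →₀ A ⧸ 𝔡) := (Finsupp.mapRange.linearMap fac) ∘ₗ (s.restrictScalars A)
  have hT₀ : (𝔡 • ⊤ : Submodule A N) ≤ LinearMap.ker T₀ := by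
    rw [Submodule.smul_le]
    intro d hd n _
    rw [LinearMap.mem_ker, map_smul]
    ext j
    rw [Finsupp.smul_apply, Finsupp.zero_apply, ← algebraMap_smul (A ⧸ 𝔡) d,
      Ideal.Quotient.algebraMap_eq, Ideal.Quotient.eq_zero_iff_mem.mpr hd, zero_smul]
  let T : (N ⧸ (𝔡 • ⊤ : Submodule A N)) →ₗ[A] (N →₀ A ⧸ 𝔡) :=
    (𝔡 • ⊤ : Submodule A N).liftQ T₀ hT₀
  let ρ : (N →₀ A ⧸ 𝔡) →ₗ[A ⧸ 𝔡] (N ⧸ (𝔡 • ⊤ : Submodule A N)) :=
    Finsupp.linearCombination (A ⧸ 𝔡) (fun n => (𝔡 • ⊤ : Submodule A N).mkQ n)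
  have hcomp : ∀ l : N →₀ A ⧸ 𝔠, ρ (Finsupp.mapRange.linearMap fac l) =
      (𝔡 • ⊤ : Submodule A N).mkQ (Finsupp.linearCombination (A ⧸ 𝔠) (id : N → N) l) := by
    intro l
    induction l using Finsupp.induction_linear with
    | zero => simp
    | add f g hf hg => rw [map_add, map_add, hf, hg, map_add, map_add]
    | single n c =>
      obtain ⟨a, rfl⟩ := Ideal.Quotient.mk_surjective c
      rw [Finsupp.mapRange.linearMap_apply, Finsupp.mapRange_single,
        Finsupp.linearCombination_single, hfac]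
      rw [Finsupp.linearCombination_single]
      show (Ideal.Quotient.mk 𝔡 a) • (𝔡 • ⊤ : Submodule A N).mkQ n =
        (𝔡 • ⊤ : Submodule A N).mkQ ((Ideal.Quotient.mk 𝔠 a) • n)
      rw [← Ideal.Quotient.algebraMap_eq 𝔠, algebraMap_smul, map_smul]
      rfl
  refine Module.Projective.of_split
    (T.extendScalarsOfSurjective (Ideal.Quotient.mk_surjective (I := 𝔡))) ρ ?_
  apply LinearMap.ext
  intro y
  obtain ⟨n, rfl⟩ := Submodule.mkQ_surjective _ y
  have h1 : (T.extendScalarsOfSurjective (Ideal.Quotient.mk_surjective (I := 𝔡)))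
      ((𝔡 • ⊤ : Submodule A N).mkQ n) = Finsupp.mapRange.linearMap fac (s n) := rfl
  rw [LinearMap.comp_apply, h1, hcomp, hs']
  rfl

end Alg

end Groth.Agent.Lib.Helper22.DieudAlg
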