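import Mathlib
import Groth.Agent.Lib.Helper22.SplitMax
import Groth.Agent.Lib.Helper22.WittShift
import Groth.Agent.Lib.Helper22.DieudAlg

set_option autoImplicit false
set_option linter.unusedSectionVars false
universe u v
noncomputable section
namespace Groth.Agent.Lib.Helper22.DieudPerf

open WittVector Function Groth.Agent.Lib.Helper22

section Witt

variable (p : ℕ) [hp : Fact p.Prime] (k : Type u) [CommRing k] [CharP k p] [PerfectRing k p]

local notation "W" => WittVector p k

/-- the ideal of Witt vectors whose constant coefficient lies in `𝔪` -/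
def qI (𝔪 : Ideal k) : Ideal W := 𝔪.comap (constantCoeff : W →+* k)

variable {p k}

theorem mem_qI (𝔪 : Ideal k) (x : W) : x ∈ qI p k 𝔪 ↔ x.coeff 0 ∈ 𝔪 := Iff.rfl

theorem p_mul_eq (x : W) : (p : W) * x = verschiebung (frobenius x) := by
  rw [verschiebung_frobenius, mul_comm]

theorem p_mul_mem_Wb_iff (𝔪 : Ideal k) (h𝔪 : 𝔪.IsRadical) (x : W) :
    (p : W) * x ∈ WittShift.Wb (p := p) 𝔪 ↔ x ∈ WittShift.Wb (p := p) 𝔪 := by
  rw [WittShift.mem_Wb_iff, WittShift.mem_Wb_iff, p_mul_eq]
  constructor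
  · intro h n
    have := h (n + 1)
    rw [verschiebung_coeff_succ, coeff_frobenius_charP] at this
    exact h𝔪 ⟨p, this⟩
  · intro h n
    rcases n with _ | n
    · rw [verschiebung_coeff_zero]; exact zero_mem _
    · rw [verschiebung_coeff_succ, coeff_frobenius_charP]
      exact Ideal.pow_mem_of_mem _ (h n) _ hp.out.pos

theorem frobenius_mem_Wb (𝔪 : Ideal k) (x : W) (hx : x ∈ WittShift.Wb (p := p) 𝔪) :
    frobenius x ∈ WittShift.Wb (p := p) 𝔪 := by
  rw [WittShift.mem_Wb_iff] at hx ⊢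
  intro n
  rw [coeff_frobenius_charP]
  exact Ideal.pow_mem_of_mem _ (hx n) _ hp.out.pos

theorem frobeniusEquiv_symm_mem_qI (𝔪 : Ideal k) (h𝔪 : 𝔪.IsRadical) (x : W)
    (hx : x ∈ qI p k 𝔪) : (frobeniusEquiv p k).symm x ∈ qI p k 𝔪 := by
  rw [mem_qI] at hx ⊢
  apply h𝔪
  refine ⟨p, ?_⟩
  rw [← coeff_frobenius_charP, ← WittVector.frobeniusEquiv_apply, RingEquiv.apply_symm_apply]
  exact hx

theorem qI_le (𝔪 : Ideal k) : qI p k 𝔪 ≤ WittShift.Wb (p := p) 𝔪 ⊔ Ideal.span {(p : W)} := by
  intro x hx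
  rw [WittShift.eq_teich_add x]
  refine Submodule.add_mem_sup (WittShift.teichmuller_mem_Wb _ _ hx) ?_
  rw [mem_span_p_iff_coeff_zero_eq_zero, verschiebung_coeff_zero]

theorem Wb_le_qI (𝔪 : Ideal k) : WittShift.Wb (p := p) 𝔪 ≤ qI p k 𝔪 :=
  fun x hx => (WittShift.mem_Wb_iff _ _).mp hx 0

theorem span_p_le_qI (𝔪 : Ideal k) : Ideal.span {(p : W)} ≤ qI p k 𝔪 := by
  intro x hx
  rw [mem_span_p_iff_coeff_zero_eq_zero] at hx
  rw [mem_qI, hx]
  exact zero_mem _

/-- the ideal of `k` attached to an ideal of `W/p` -/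
def mI (𝔫 : Ideal (W ⧸ Ideal.span {(p : W)})) : Ideal k :=
  𝔫.comap ((quotientPEquiv (p := p) (k := k)).symm.toRingHom)

theorem comap_mk_eq (𝔫 : Ideal (W ⧸ Ideal.span {(p : W)})) :
    𝔫.comap (Ideal.Quotient.mk _) = qI p k (mI 𝔫) := by
  ext x
  rw [Ideal.mem_comap, mem_qI, mI, Ideal.mem_comap]
  have : (quotientPEquiv (p := p) (k := k)).symm.toRingHom (x.coeff 0) =
      Ideal.Quotient.mk _ x := by
    show (quotientPEquiv (p := p) (k := k)).symm (x.coeff 0) = _
    rw [RingEquiv.symm_apply_eq]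
    rfl
  rw [this]

theorem mI_isRadical (𝔫 : Ideal (W ⧸ Ideal.span {(p : W)})) [h : 𝔫.IsPrime] :
    (mI 𝔫).IsRadical := by
  have : (mI 𝔫).IsPrime := Ideal.comap_isPrime _ 𝔫
  exact this.isRadical

end Witt

section Main

variable {p : ℕ} [hp : Fact p.Prime] {k : Type u} [CommRing k] [CharP k p] [PerfectRing k p]

local notation "W" => WittVector p k

variable {M : Type v} [AddCommGroup M] [Module (WittVector p k) M]
  (F : M →ₛₗ[(WittVector.frobenius : WittVector p k →+* WittVector p k)] M)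
  (V : M →ₛₗ[((WittVector.frobeniusEquiv p k).symm : WittVector p k →+* WittVector p k)] M)

theorem symm_frobenius (a : W) :
    ((WittVector.frobeniusEquiv p k).symm : W →+* W) (frobenius a) = a := by
  show (WittVector.frobeniusEquiv p k).symm (frobenius a) = a
  rw [← WittVector.frobeniusEquiv_apply, RingEquiv.symm_apply_apply]

theorem frobenius_symm (a : W) :
    frobenius (((WittVector.frobeniusEquiv p k).symm : W →+* W) a) = a := by
  show frobenius ((WittVector.frobeniusEquiv p k).symm a) = a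
  rw [← WittVector.frobeniusEquiv_apply, RingEquiv.apply_symm_apply]

theorem F_mem_Wb (𝔪 : Ideal k) (t : M)
    (ht : t ∈ WittShift.Wb (p := p) 𝔪 • (⊤ : Submodule W M)) :
    F t ∈ WittShift.Wb (p := p) 𝔪 • (⊤ : Submodule W M) := by
  refine Submodule.smul_induction_on ht ?_ ?_
  · intro a ha m _
    rw [map_smulₛₗ]
    exact Submodule.smul_mem_smul (frobenius_mem_Wb 𝔪 a ha) Submodule.mem_top
  · intro x y hx hy
    rw [map_add]
    exact add_mem hx hy

section
variable (hFV : ∀ m : M, F (V m) = (p : WittVector p k) • m)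
  (hVF : ∀ m : M, V (F m) = (p : WittVector p k) • m)
include hFV hVF

/-- Lemma E: `V x ∈ 𝔮 M` implies `x ∈ F M + 𝔮 M` -/
theorem lemmaE (𝔪 : Ideal k)
    (hsat : ∀ z : M, (p : W) • z ∈ WittShift.Wb (p := p) 𝔪 • (⊤ : Submodule W M) →
      z ∈ qI p k 𝔪 • (⊤ : Submodule W M))
    (x : M) (hx : V x ∈ qI p k 𝔪 • (⊤ : Submodule W M)) :
    ∃ y t, t ∈ qI p k 𝔪 • (⊤ : Submodule W M) ∧ x = F y + t := by
  have h1 : V x ∈ WittShift.Wb (p := p) 𝔪 • (⊤ : Submodule W M) ⊔
      Ideal.span {(p : W)} • (⊤ : Submodule W M) := by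
    rw [← Submodule.sup_smul]
    exact Submodule.smul_mono (qI_le 𝔪) le_rfl hx
  obtain ⟨t, ht, u, hu, htu⟩ := Submodule.mem_sup.mp h1
  rw [Submodule.ideal_span_singleton_smul] at hu
  obtain ⟨y, -, rfl⟩ := (Submodule.mem_smul_pointwise_iff_exists _ _ _).mp hu
  have h2 : V (x - F y) = t := by
    rw [map_sub, hVF, ← htu, add_sub_cancel_right]
  have h3 : (p : W) • (x - F y) = F t := by
    rw [← h2, hFV]
  have h4 : x - F y ∈ qI p k 𝔪 • (⊤ : Submodule W M) := by
    apply hsat
    rw [h3]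
    exact F_mem_Wb F 𝔪 t ht
  exact ⟨y, x - F y, h4, by abel⟩

end

local notation "pM" => (Ideal.span {(p : W)} • ⊤ : Submodule W M)
local notation "Rk" => W ⧸ Ideal.span {(p : W)}

/-- the image of `V` in `M/pM` -/
abbrev U : Submodule Rk (M ⧸ pM) :=
  Submodule.span Rk (Set.range fun m : M => (pM).mkQ (V m))

theorem smul_eq_mk_smul (a : W) (y : M ⧸ pM) :
    a • y = (Ideal.Quotient.mk (Ideal.span {(p : W)}) a) • y :=
  (algebraMap_smul Rk a y).symm

theorem mem_U_iff (u : M ⧸ pM) : u ∈ U V ↔ ∃ x, (pM).mkQ (V x) = u := by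
  constructor
  · intro hu
    refine Submodule.span_induction ?_ ?_ ?_ ?_ hu
    · rintro _ ⟨m, rfl⟩; exact ⟨m, rfl⟩
    · exact ⟨0, by rw [map_zero, map_zero]⟩
    · rintro _ _ _ _ ⟨x, rfl⟩ ⟨y, rfl⟩; exact ⟨x + y, by rw [map_add, map_add]⟩
    · rintro c _ _ ⟨x, rfl⟩
      obtain ⟨a, rfl⟩ := Ideal.Quotient.mk_surjective c
      refine ⟨frobenius a • x, ?_⟩
      rw [map_smulₛₗ, symm_frobenius, map_smul]
      rfl
  · rintro ⟨x, rfl⟩; exact Submodule.subset_span ⟨x, rfl⟩

theorem U_fg [Module.Finite W M] : (U V).FG := by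
  classical
  obtain ⟨G, hG⟩ := (Module.finite_def (R := W) (M := M)).mp inferInstance
  refine ⟨G.image (fun m => (pM).mkQ (V m)), ?_⟩
  apply le_antisymm
  · apply Submodule.span_mono
    rw [Finset.coe_image]
    exact Set.image_subset_range _ _
  · rw [Submodule.span_le]
    rintro _ ⟨m, rfl⟩
    have hm : m ∈ Submodule.span W (G : Set M) := by rw [hG]; trivial
    show (pM).mkQ (V m) ∈ _
    refine Submodule.span_induction ?_ ?_ ?_ ?_ hm
    · intro g hg
      exact Submodule.subset_span (Finset.mem_coe.mpr (Finset.mem_image_of_mem _ hg))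
    · rw [map_zero, map_zero]; exact zero_mem _
    · intro x y _ _ hx hy
      rw [map_add, map_add]; exact add_mem hx hy
    · intro a x _ hx
      rw [map_smulₛₗ, map_smul, smul_eq_mk_smul]
      exact Submodule.smul_mem _ _ hx

section
variable (hFV : ∀ m : M, F (V m) = (p : WittVector p k) • m)
  (hVF : ∀ m : M, V (F m) = (p : WittVector p k) • m)
include hFV hVF

/-- `M/VM` is projective over `W/p` -/
theorem projective_mod_V [Module.Finite W M] [Module.Projective Rk (M ⧸ pM)]
    (hsat : ∀ 𝔪 : Ideal k, 𝔪.IsRadical → ∀ z : M,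
      (p : W) • z ∈ WittShift.Wb (p := p) 𝔪 • (⊤ : Submodule W M) →
        z ∈ qI p k 𝔪 • (⊤ : Submodule W M)) :
    Module.Projective Rk ((M ⧸ pM) ⧸ U V) := by
  apply SplitMax.projective_quotient_of_forall_maximal (U V) (U_fg V)
  rintro 𝔫 h𝔫 u ⟨huU, hu𝔫⟩
  obtain ⟨x, rfl⟩ := (mem_U_iff V u).mp huU
  have hprime : 𝔫.IsPrime := h𝔫.isPrime
  have hrad := mI_isRadical 𝔫
  have hx : V x ∈ qI p k (mI 𝔫) • (⊤ : Submodule W M) := by
    rw [← comap_mk_eq]
    exact DieudAlg.mem_comap_smul_top_of_mkQ_mem _ 𝔫 (V x) hu𝔫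
  obtain ⟨y, t, ht, rfl⟩ := lemmaE F V hFV hVF (mI 𝔫) (hsat _ hrad) x hx
  have hVt : ∀ t ∈ qI p k (mI 𝔫) • (⊤ : Submodule W M), (pM).mkQ (V t) ∈ 𝔫 • U V := by
    intro t ht
    refine Submodule.smul_induction_on ht ?_ ?_
    · intro a ha m _
      rw [map_smulₛₗ, map_smul, smul_eq_mk_smul]
      refine Submodule.smul_mem_smul ?_ (Submodule.subset_span ⟨m, rfl⟩)
      have := frobeniusEquiv_symm_mem_qI (mI 𝔫) hrad a ha
      rw [← comap_mk_eq] at this
      exact this
    · intro x y hx hy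
      rw [map_add, map_add]; exact add_mem hx hy
  have h5 : (pM).mkQ (V (F y + t)) = (pM).mkQ (V t) := by
    rw [map_add, hVF, map_add, add_eq_right, Submodule.mkQ_apply, Submodule.Quotient.mk_eq_zero]
    exact Submodule.smul_mem_smul (Ideal.mem_span_singleton_self _) Submodule.mem_top
  show (pM).mkQ (V (F y + t)) ∈ _
  rw [h5]
  exact hVt t ht

end

section Sat

theorem aux_ring {A : Type*} [CommRing A] (P w t v : A) (n : ℕ) (hn : 1 ≤ n)
    (h : v * P ^ n = P * w - t) : P * (w - P ^ (n - 1) * v) = t := by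
  obtain ⟨m, rfl⟩ : ∃ m, n = m + 1 := ⟨n - 1, by omega⟩
  rw [Nat.add_sub_cancel]
  rw [pow_succ] at h
  linear_combination -h

/-- saturation for projective `W`-modules -/
theorem hsat_projective [Module.Projective W M] (𝔪 : Ideal k) (h𝔪 : 𝔪.IsRadical) (z : M)
    (hz : (p : W) • z ∈ WittShift.Wb (p := p) 𝔪 • (⊤ : Submodule W M)) :
    z ∈ qI p k 𝔪 • (⊤ : Submodule W M) := by
  have := DieudAlg.mem_smul_top_of_smul_mem (A := W) (B := W) surjective_id
    (WittShift.Wb (p := p) 𝔪) (WittShift.Wb (p := p) 𝔪) (p : W) ?_ z hz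
  · exact Submodule.smul_mono (Wb_le_qI 𝔪) le_rfl this
  · intro w hw
    rw [Algebra.algebraMap_self, Ideal.map_id, RingHom.id_apply] at hw ⊢
    exact (p_mul_mem_Wb_iff 𝔪 h𝔪 w).mp hw

/-- projective `W`-modules have no `p`-torsion -/
theorem eq_zero_of_p_smul [Module.Projective W M] (z : M) (hz : (p : W) • z = 0) : z = 0 := by
  have := DieudAlg.mem_smul_top_of_smul_mem (A := W) (B := W) surjective_id
    ⊥ ⊥ (p : W) ?_ z (by rw [hz]; exact zero_mem _)
  · rwa [Submodule.bot_smul, Submodule.mem_bot] at this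
  · intro w hw
    rw [Ideal.map_bot, Ideal.mem_bot] at hw ⊢
    rw [Algebra.algebraMap_self, RingHom.id_apply] at hw ⊢
    exact eq_zero_of_p_mul_eq_zero w (by rw [mul_comm]; exact hw)

/-- saturation for truncated modules -/
theorem hsat_truncated (n : ℕ) (hn : 2 ≤ n) [Module (W ⧸ Ideal.span {(p : W) ^ n}) M]
    [IsScalarTower W (W ⧸ Ideal.span {(p : W) ^ n}) M]
    [Module.Projective (W ⧸ Ideal.span {(p : W) ^ n}) M]
    (𝔪 : Ideal k) (h𝔪 : 𝔪.IsRadical) (z : M)
    (hz : (p : W) • z ∈ WittShift.Wb (p := p) 𝔪 • (⊤ : Submodule W M)) :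
    z ∈ qI p k 𝔪 • (⊤ : Submodule W M) := by
  have := DieudAlg.mem_smul_top_of_smul_mem (A := W) (B := W ⧸ Ideal.span {(p : W) ^ n})
    Ideal.Quotient.mk_surjective
    (WittShift.Wb (p := p) 𝔪) (WittShift.Wb (p := p) 𝔪 ⊔ Ideal.span {(p : W) ^ (n - 1)})
    (p : W) ?_ z hz
  · refine Submodule.smul_mono (sup_le (Wb_le_qI 𝔪) ?_) le_rfl this
    refine le_trans ?_ (span_p_le_qI 𝔪)
    rw [Ideal.span_singleton_le_span_singleton]
    exact dvd_pow_self _ (by omega)
  · intro w hw
    rw [Ideal.Quotient.algebraMap_eq] at hw ⊢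
    obtain ⟨t, ht, htw⟩ := (Ideal.mem_map_iff_of_surjective _ Ideal.Quotient.mk_surjective).mp hw
    have h1 : (p : W) * w - t ∈ Ideal.span {(p : W) ^ n} := by
      rw [← Ideal.Quotient.eq]; exact htw.symm
    obtain ⟨v, hv⟩ := Ideal.mem_span_singleton'.mp h1
    have h2 : (p : W) * (w - (p : W) ^ (n - 1) * v) = t :=
      aux_ring (p : W) w t v n (by omega) hv
    have h3 : w - (p : W) ^ (n - 1) * v ∈ WittShift.Wb (p := p) 𝔪 :=
      (p_mul_mem_Wb_iff 𝔪 h𝔪 _).mp (h2 ▸ ht)
    apply Ideal.mem_map_of_mem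
    have h4 : w = (w - (p : W) ^ (n - 1) * v) + (p : W) ^ (n - 1) * v := by abel
    rw [h4]
    exact Submodule.add_mem_sup h3 (Ideal.mul_mem_right _ _ (Ideal.mem_span_singleton_self _))

end Sat

section Inj
variable (hFV : ∀ m : M, F (V m) = (p : WittVector p k) • m)
  (hVF : ∀ m : M, V (F m) = (p : WittVector p k) • m)
include hFV hVF

theorem F_injective [Module.Projective W M] : Function.Injective F := by
  rw [injective_iff_map_eq_zero]
  intro x hx
  apply eq_zero_of_p_smul (p := p) (k := k)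
  rw [← hVF, hx, map_zero]

theorem V_injective [Module.Projective W M] : Function.Injective V := by
  rw [injective_iff_map_eq_zero]
  intro x hx
  apply eq_zero_of_p_smul (p := p) (k := k)
  rw [← hFV, hx, map_zero]

theorem comap_F_eq [Module.Projective W M] :
    (pM).comap F = Submodule.span W (Set.range V) ⊔ pM := by
  ext x
  rw [Submodule.mem_comap]
  constructor
  · intro hx
    rw [Submodule.ideal_span_singleton_smul] at hx
    obtain ⟨y, -, hy⟩ := (Submodule.mem_smul_pointwise_iff_exists _ _ _).mp hx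
    have : x = V y := by
      apply F_injective F V hFV hVF
      rw [hFV, hy]
    rw [this]
    exact Submodule.mem_sup_left (Submodule.subset_span ⟨y, rfl⟩)
  · intro hx
    obtain ⟨a, ha, b, hb, rfl⟩ := Submodule.mem_sup.mp hx
    rw [map_add]
    refine add_mem ?_ ?_
    · refine Submodule.span_induction ?_ ?_ ?_ ?_ ha
      · rintro _ ⟨m, rfl⟩
        rw [hFV]
        exact Submodule.smul_mem_smul (Ideal.mem_span_singleton_self _) Submodule.mem_top
      · rw [map_zero]; exact zero_mem _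
      · intro x y _ _ hx hy; rw [map_add]; exact add_mem hx hy
      · intro w x _ hx; rw [map_smulₛₗ]; exact Submodule.smul_mem _ _ hx
    · refine Submodule.smul_induction_on hb ?_ ?_
      · intro w hw m _
        rw [map_smulₛₗ]
        refine Submodule.smul_mem_smul ?_ Submodule.mem_top
        obtain ⟨c, rfl⟩ := Ideal.mem_span_singleton'.mp hw
        rw [map_mul, map_natCast]
        exact Ideal.mul_mem_left _ _ (Ideal.mem_span_singleton_self _)
      · intro x y hx hy; rw [map_add]; exact add_mem hx hy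

theorem comap_V_eq [Module.Projective W M] :
    (pM).comap V = Submodule.span W (Set.range F) ⊔ pM := by
  ext x
  rw [Submodule.mem_comap]
  constructor
  · intro hx
    rw [Submodule.ideal_span_singleton_smul] at hx
    obtain ⟨y, -, hy⟩ := (Submodule.mem_smul_pointwise_iff_exists _ _ _).mp hx
    have : x = F y := by
      apply V_injective F V hFV hVF
      rw [hVF, hy]
    rw [this]
    exact Submodule.mem_sup_left (Submodule.subset_span ⟨y, rfl⟩)
  · intro hx
    obtain ⟨a, ha, b, hb, rfl⟩ := Submodule.mem_sup.mp hx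
    rw [map_add]
    refine add_mem ?_ ?_
    · refine Submodule.span_induction ?_ ?_ ?_ ?_ ha
      · rintro _ ⟨m, rfl⟩
        rw [hVF]
        exact Submodule.smul_mem_smul (Ideal.mem_span_singleton_self _) Submodule.mem_top
      · rw [map_zero]; exact zero_mem _
      · intro x y _ _ hx hy; rw [map_add]; exact add_mem hx hy
      · intro w x _ hx; rw [map_smulₛₗ]; exact Submodule.smul_mem _ _ hx
    · refine Submodule.smul_induction_on hb ?_ ?_
      · intro w hw m _
        rw [map_smulₛₗ]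
        refine Submodule.smul_mem_smul ?_ Submodule.mem_top
        obtain ⟨c, rfl⟩ := Ideal.mem_span_singleton'.mp hw
        rw [map_mul, map_natCast]
        exact Ideal.mul_mem_left _ _ (Ideal.mem_span_singleton_self _)
      · intro x y hx hy; rw [map_add]; exact add_mem hx hy

end Inj

end Main

end Groth.Agent.Lib.Helper22.DieudPerf
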