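import Mathlib
import Groth.Agent.Lib.Helper22.WittTop2
import Groth.Agent.Lib.Helper22.WittShift

/-!
# Lifting finite projective modules along `W(S) → W(R)` (helper22)

`S → R` surjective with nil kernel.  Idempotent matrices over `W(R)` lift to idempotent matrices
over `W(S)`: Newton iteration, which stabilises modulo each `ker (truncate n)`.
-/

set_option autoImplicit false
universe u v
noncomputable section
namespace Groth.Agent.Lib.Helper22.WittLiftProj

open WittVector Function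

section Nil

variable {p : ℕ} [hp : Fact p.Prime] {S : Type u} [CommRing S]

local notation "𝕎" => WittVector p

theorem iterate_frobenius_natCast (n : ℕ) (k : ℕ) : frobenius^[n] (k : 𝕎 S) = (k : 𝕎 S) := by
  induction n with
  | zero => rfl
  | succ n ih => rw [iterate_succ_apply, map_natCast, ih]

theorem iterate_frobenius_iterate_verschiebung (y : 𝕎 S) (n : ℕ) :
    frobenius^[n] (verschiebung^[n] y) = y * (p : 𝕎 S) ^ n := by
  induction n generalizing y with
  | zero => simp
  | succ n ih =>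
    rw [iterate_succ_apply, iterate_succ_apply', frobenius_verschiebung,
      iterate_map_mul, iterate_frobenius_natCast, ih, pow_succ, mul_assoc]

theorem iterate_verschiebung_pow (y : 𝕎 S) (n r : ℕ) :
    ∃ c : 𝕎 S, (verschiebung^[n] y) ^ (r + 1) = verschiebung^[n] (c * y ^ (r + 1)) := by
  induction r with
  | zero => exact ⟨1, by rw [zero_add, pow_one, pow_one, one_mul]⟩
  | succ r ih =>
    obtain ⟨c, hc⟩ := ih
    refine ⟨c * (p : 𝕎 S) ^ n, ?_⟩
    rw [pow_succ, hc, iterate_verschiebung_mul_left, iterate_frobenius_iterate_verschiebung]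
    have : c * y ^ (r + 1) * (y * (p : 𝕎 S) ^ n) = c * (p : 𝕎 S) ^ n * y ^ (r + 1 + 1) := by
      rw [pow_succ y (r + 1)]
      generalize (p : 𝕎 S) ^ n = q
      generalize y ^ (r + 1) = z
      ring
    rw [this]

theorem coeff_nilpotent_of_pow (x : 𝕎 S) (hx : ∀ c, IsNilpotent (x.coeff c)) (y : 𝕎 S) (c : ℕ) :
    IsNilpotent ((x * y).coeff c) := by
  have h1 : x ∈ WittShift.Wb (p := p) (nilradical S) := by
    rw [WittShift.mem_Wb_iff]; exact fun n => mem_nilradical.mpr (hx n)
  have h2 := (WittShift.Wb (p := p) (nilradical S)).mul_mem_right y h1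
  rw [WittShift.mem_Wb_iff] at h2
  exact mem_nilradical.mp (h2 c)

/-- an element with nilpotent coefficients is nilpotent modulo each `ker (truncate n)` -/
theorem exists_pow_mem_ker_truncate (x : 𝕎 S) (hx : ∀ c, IsNilpotent (x.coeff c)) (n : ℕ) :
    ∃ m, 0 < m ∧ x ^ m ∈ RingHom.ker (WittVector.truncate (p := p) (R := S) n) := by
  induction n with
  | zero =>
    refine ⟨1, Nat.one_pos, ?_⟩
    rw [mem_ker_truncate]
    intro i hi; exact absurd hi (Nat.not_lt_zero _)
  | succ n ih =>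
    obtain ⟨m, hm0, hm⟩ := ih
    rw [mem_ker_truncate] at hm
    have hz := eq_iterate_verschiebung hm
    set y := (x ^ m).shift n with hy
    have hy0 : IsNilpotent (y.coeff 0) := by
      have : y.coeff 0 = (x ^ m).coeff n := by rw [hy, shift_coeff, add_zero]
      rw [this]
      obtain ⟨m', rfl⟩ : ∃ m', m = m' + 1 := ⟨m - 1, by omega⟩
      rw [pow_succ']
      exact coeff_nilpotent_of_pow x hx _ n
    obtain ⟨r, hr⟩ := hy0
    have hyr : (y ^ (r + 1)).coeff 0 = 0 := by
      have : (y ^ (r + 1)).coeff 0 = (y.coeff 0) ^ (r + 1) := by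
        have := map_pow (WittVector.constantCoeff (p := p) (R := S)) y (r + 1)
        exact this
      rw [this, pow_succ, hr, zero_mul]
    obtain ⟨w, hw⟩ := WittTop.exists_verschiebung_of_coeff_zero p _ hyr
    obtain ⟨c, hc⟩ := iterate_verschiebung_pow y n r
    refine ⟨m * (r + 1), Nat.mul_pos hm0 (Nat.succ_pos r), ?_⟩
    rw [pow_mul, hz, hc, mem_ker_truncate]
    intro i hi
    have h3 : verschiebung^[n] (c * y ^ (r + 1)) = verschiebung^[n + 1] (w * frobenius c) := by
      rw [iterate_succ_apply, hw, mul_comm c, ← verschiebung_mul_frobenius]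
    rw [h3]
    exact iterate_verschiebung_coeff_eq_zero _ hi

end Nil

section Newton

open Polynomial

/-- Newton polynomials for idempotent lifting -/
noncomputable def q : ℕ → ℤ[X]
  | 0 => X
  | m + 1 => 3 * (q m) ^ 2 - 2 * (q m) ^ 3

theorem q_succ (m : ℕ) : q (m + 1) = 3 * (q m) ^ 2 - 2 * (q m) ^ 3 := rfl

theorem dvd_eps (m : ℕ) : ((X : ℤ[X]) ^ 2 - X) ^ (2 ^ m) ∣ (q m) ^ 2 - q m := by
  induction m with
  | zero => simp [q]
  | succ m ih =>
    have h1 : (q (m + 1)) ^ 2 - q (m + 1) =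
        ((q m) ^ 2 - q m) ^ 2 * (4 * ((q m) ^ 2 - q m) - 3) := by
      rw [q_succ]; ring
    rw [h1, pow_succ 2 m, pow_mul]
    exact Dvd.dvd.mul_right (pow_dvd_pow_of_dvd ih 2) _

theorem dvd_step (m : ℕ) : ((X : ℤ[X]) ^ 2 - X) ^ (2 ^ m) ∣ q (m + 1) - q m := by
  have h1 : q (m + 1) - q m = ((q m) ^ 2 - q m) * (1 - 2 * q m) := by
    rw [q_succ]; ring
  rw [h1]
  exact Dvd.dvd.mul_right (dvd_eps m) _

variable {M : Type*} [Ring M]

theorem aeval_q_succ (a : M) (m : ℕ) :
    aeval a (q (m + 1)) = 3 * (aeval a (q m)) ^ 2 - 2 * (aeval a (q m)) ^ 3 := by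
  rw [q_succ]
  simp only [map_sub, map_mul, map_pow, map_ofNat]

theorem aeval_q_idem (e : M) (he : e * e = e) (m : ℕ) : aeval e (q m) = e := by
  induction m with
  | zero => simp [q]
  | succ m ih =>
    rw [aeval_q_succ, ih]
    have h2 : e ^ 2 = e := by rw [pow_two, he]
    have h3 : e ^ 3 = e := by rw [pow_succ, h2, he]
    rw [h2, h3]
    noncomm_ring

theorem exists_eps (a : M) (m : ℕ) : ∃ u : M,
    (aeval a (q m)) ^ 2 - aeval a (q m) = (a ^ 2 - a) ^ (2 ^ m) * u := by
  obtain ⟨u, hu⟩ := dvd_eps m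
  refine ⟨aeval a u, ?_⟩
  have := congrArg (aeval a) hu
  simpa using this

theorem exists_step (a : M) (m : ℕ) : ∃ u : M,
    aeval a (q (m + 1)) - aeval a (q m) = (a ^ 2 - a) ^ (2 ^ m) * u := by
  obtain ⟨u, hu⟩ := dvd_step m
  refine ⟨aeval a u, ?_⟩
  have := congrArg (aeval a) hu
  simpa using this

theorem map_aeval_q {M' : Type*} [Ring M'] (Ψ : M →+* M') (a : M) (m : ℕ) :
    Ψ (aeval a (q m)) = aeval (Ψ a) (q m) := by
  have := Polynomial.aeval_algHom_apply (Ψ.toIntAlgHom) a (q m)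
  exact this.symm

/-- the Newton sequence `a, 3a² - 2a³, …` -/
def nseq (a : M) (m : ℕ) : M := aeval a (q m)

theorem nseq_idem (e : M) (he : e * e = e) (m : ℕ) : nseq e m = e := aeval_q_idem e he m

theorem nseq_eps (a : M) (m : ℕ) : ∃ u : M,
    (nseq a m) ^ 2 - nseq a m = (a ^ 2 - a) ^ (2 ^ m) * u := exists_eps a m

theorem nseq_step (a : M) (m : ℕ) : ∃ u : M,
    nseq a (m + 1) - nseq a m = (a ^ 2 - a) ^ (2 ^ m) * u := exists_step a m

theorem map_nseq {M' : Type*} [Ring M'] (Ψ : M →+* M') (a : M) (m : ℕ) :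
    Ψ (nseq a m) = nseq (Ψ a) m := map_aeval_q Ψ a m

/-- a matrix with nilpotent entries over a commutative ring is nilpotent -/
theorem isNilpotent_of_entries {B : Type*} [CommRing B] {ι : Type*} [Fintype ι] [DecidableEq ι]
    (N : Matrix ι ι B) (hN : ∀ i j, IsNilpotent (N i j)) : IsNilpotent N := by
  let 𝔠 : Ideal B := Ideal.span (Set.range fun ij : ι × ι => N ij.1 ij.2)
  have hfg : 𝔠.FG := Submodule.fg_span (Set.finite_range _)
  have hle : 𝔠 ≤ nilradical B := by
    refine Ideal.span_le.mpr ?_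
    rintro _ ⟨ij, rfl⟩
    exact mem_nilradical.mpr (hN _ _)
  obtain ⟨r, hr⟩ := (Ideal.FG.isNilpotent_iff_le_nilradical hfg).mpr hle
  have hmem : ∀ r i j, (N ^ r) i j ∈ 𝔠 ^ r := by
    intro r
    induction r with
    | zero => intro i j; rw [pow_zero, Ideal.one_eq_top]; trivial
    | succ r ih =>
      intro i j
      rw [pow_succ N, Matrix.mul_apply, pow_succ 𝔠]
      refine Ideal.sum_mem _ (fun l _ => Ideal.mul_mem_mul (ih i l) ?_)
      exact Ideal.subset_span ⟨(l, j), rfl⟩
  refine ⟨r, ?_⟩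
  ext i j
  have := hmem r i j
  rw [hr] at this
  exact this

end Newton

section Mat

variable {p : ℕ} [hp : Fact p.Prime] {S : Type u} [CommRing S] {k : ℕ}

local notation "𝕎" => WittVector p

/-- truncation of matrices -/
def tM (n : ℕ) : Matrix (Fin k) (Fin k) (𝕎 S) →+* Matrix (Fin k) (Fin k) (TruncatedWittVector p n S) :=
  RingHom.mapMatrix (WittVector.truncate n)

theorem tM_apply (n : ℕ) (a : Matrix (Fin k) (Fin k) (𝕎 S)) (i j : Fin k) :
    tM n a i j = WittVector.truncate n (a i j) := rfl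

theorem coeff_eq_of_tM_eq (n : ℕ) (a b : Matrix (Fin k) (Fin k) (𝕎 S)) (h : tM n a = tM n b)
    (i j : Fin k) (c : ℕ) (hc : c < n) : (a i j).coeff c = (b i j).coeff c := by
  have h1 := congrFun (congrFun h i) j
  rw [tM_apply, tM_apply] at h1
  have h2 := congrArg (fun z => TruncatedWittVector.coeff ⟨c, hc⟩ z) h1
  simpa only [WittVector.coeff_truncate] using h2

theorem tM_eq_of_coeff_eq (n : ℕ) (a b : Matrix (Fin k) (Fin k) (𝕎 S))
    (h : ∀ i j c, c < n → (a i j).coeff c = (b i j).coeff c) : tM n a = tM n b := by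
  ext i j c
  rw [tM_apply, tM_apply, WittVector.coeff_truncate, WittVector.coeff_truncate]
  exact h i j c c.2

theorem eq_of_forall_tM_eq (a b : Matrix (Fin k) (Fin k) (𝕎 S)) (h : ∀ n, tM n a = tM n b) :
    a = b := by
  ext i j c
  exact coeff_eq_of_tM_eq (c + 1) a b (h (c + 1)) i j c (Nat.lt_succ_self c)

/-- limits of sequences of matrices stabilising modulo each truncation -/
theorem exists_limit (f : ℕ → Matrix (Fin k) (Fin k) (𝕎 S))
    (hf : ∀ n, ∃ m₀, ∀ m, m₀ ≤ m → tM n (f m) = tM n (f m₀)) :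
    ∃ L : Matrix (Fin k) (Fin k) (𝕎 S), ∀ n, ∃ m₀, ∀ m, m₀ ≤ m → tM n L = tM n (f m) := by
  choose m₀ hm₀ using hf
  refine ⟨fun i j => WittVector.mk p (fun c => ((f (m₀ (c + 1))) i j).coeff c), fun n => ?_⟩
  refine ⟨(Finset.range (n + 1)).sup m₀, fun m hm => ?_⟩
  apply tM_eq_of_coeff_eq
  intro i j c hc
  show ((f (m₀ (c + 1))) i j).coeff c = _
  have h1 : m₀ (c + 1) ≤ m :=
    (Finset.le_sup (f := m₀) (Finset.mem_range.mpr (by omega))).trans hm
  exact (coeff_eq_of_tM_eq (c + 1) _ _ (hm₀ (c + 1) m h1) i j c (Nat.lt_succ_self c)).symm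

theorem isNilpotent_tM (ε : Matrix (Fin k) (Fin k) (𝕎 S))
    (hε : ∀ i j c, IsNilpotent ((ε i j).coeff c)) (n : ℕ) : IsNilpotent (tM n ε) := by
  apply isNilpotent_of_entries
  intro i j
  obtain ⟨m, -, hm⟩ := exists_pow_mem_ker_truncate (ε i j) (hε i j) n
  refine ⟨m, ?_⟩
  rw [tM_apply, ← map_pow]
  exact hm

variable {R : Type u} [CommRing R] (φ : S →+* R)

/-- idempotent matrices lift along `W(S) → W(R)` for `S → R` surjective with nil kernel -/
theorem exists_idempotent_lift (hφ : Function.Surjective φ)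
    (hnil : ∀ a : S, φ a = 0 → IsNilpotent a)
    (e : Matrix (Fin k) (Fin k) (𝕎 R)) (he : e * e = e) :
    ∃ a : Matrix (Fin k) (Fin k) (𝕎 S), a * a = a ∧
      RingHom.mapMatrix (WittVector.map (p := p) φ) a = e := by
  set Φ := RingHom.mapMatrix (m := Fin k) (WittVector.map (p := p) φ) with hΦ
  have hsurj := WittVector.map_surjective (p := p) φ hφ
  choose a₀ ha₀ using fun i j => hsurj (e i j)
  let A₀ : Matrix (Fin k) (Fin k) (𝕎 S) := fun i j => a₀ i j
  have hA₀ : Φ A₀ = e := by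
    refine Matrix.ext (fun i j => ?_)
    exact ha₀ i j
  set ε := A₀ ^ 2 - A₀ with hεdef
  have hΦε : Φ ε = 0 := by
    rw [hεdef, map_sub, map_pow, hA₀, pow_two, he, sub_self]
  have hε : ∀ i j c, IsNilpotent ((ε i j).coeff c) := by
    intro i j c
    apply hnil
    have h1 := congrFun (congrFun hΦε i) j
    have h2 : WittVector.map φ (ε i j) = 0 := h1
    have h3 := congrArg (fun z => z.coeff c) h2
    simpa only [WittVector.map_coeff, WittVector.zero_coeff] using h3
  let f : ℕ → Matrix (Fin k) (Fin k) (𝕎 S) := fun m => nseq A₀ m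
  -- stabilisation
  have hstab : ∀ n, ∃ r, ∀ m, r ≤ m → tM n (f (m + 1)) = tM n (f m) ∧
      tM n ((f m) ^ 2 - f m) = 0 := by
    intro n
    obtain ⟨r, hr⟩ := isNilpotent_tM ε hε n
    refine ⟨r, fun m hm => ?_⟩
    have hpow : (tM n ε) ^ (2 ^ m) = 0 :=
      pow_eq_zero_of_le (hm.trans (Nat.lt_two_pow_self).le) hr
    constructor
    · obtain ⟨u, hu⟩ := nseq_step A₀ m
      rw [← sub_eq_zero, ← map_sub]
      show tM n (nseq A₀ (m + 1) - nseq A₀ m) = 0
      rw [hu, map_mul, map_pow, hpow, zero_mul]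
    · obtain ⟨u, hu⟩ := nseq_eps A₀ m
      show tM n ((nseq A₀ m) ^ 2 - nseq A₀ m) = 0
      rw [hu, map_mul, map_pow, hpow, zero_mul]
  have hf : ∀ n, ∃ m₀, ∀ m, m₀ ≤ m → tM n (f m) = tM n (f m₀) := by
    intro n
    obtain ⟨r, hr⟩ := hstab n
    refine ⟨r, fun m hm => ?_⟩
    induction m, hm using Nat.le_induction with
    | base => rfl
    | succ m hm ih => rw [(hr m hm).1, ih]
  obtain ⟨L, hL⟩ := exists_limit f hf
  refine ⟨L, ?_, ?_⟩
  · rw [← sub_eq_zero]
    apply eq_of_forall_tM_eq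
    intro n
    obtain ⟨m₀, hm₀⟩ := hL n
    obtain ⟨r, hr⟩ := hstab n
    have h1 := hm₀ (max m₀ r) (le_max_left _ _)
    have h2 := (hr (max m₀ r) (le_max_right _ _)).2
    rw [map_zero, map_sub, map_mul, h1, ← map_mul, ← map_sub, ← pow_two]
    exact h2
  · ext i j c
    obtain ⟨m₀, hm₀⟩ := hL (c + 1)
    have h1 := coeff_eq_of_tM_eq (c + 1) _ _ (hm₀ m₀ le_rfl) i j c (Nat.lt_succ_self c)
    have h2 : Φ (f m₀) = e := by
      show Φ (nseq A₀ m₀) = e
      rw [map_nseq, hA₀, nseq_idem e he]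
    show (WittVector.map φ (L i j)).coeff c = _
    rw [WittVector.map_coeff, h1, ← WittVector.map_coeff, ← h2]
    rfl

end Mat

section Exist

variable {p : ℕ} [hp : Fact p.Prime] {S R : Type u} [CommRing S] [CommRing R] (φ : S →+* R)

local notation "𝕎" => WittVector p

theorem exists_lift (hφ : Function.Surjective φ)
    (hnil : ∀ a : S, φ a = 0 → IsNilpotent a)
    (P : Type u) [AddCommGroup P] [Module (𝕎 R) P]
    [Module.Finite (𝕎 R) P] [Module.Projective (𝕎 R) P] :
    ∃ (P' : Type u) (_ : AddCommGroup P') (_ : Module (𝕎 S) P'),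
        Module.Finite (𝕎 S) P' ∧ Module.Projective (𝕎 S) P' ∧
          ∃ π : P' →ₛₗ[WittVector.map (p := p) φ] P, Function.Surjective π ∧
            LinearMap.ker π = RingHom.ker (WittVector.map (p := p) φ) •
              (⊤ : Submodule (𝕎 S) P') := by
  obtain ⟨k, f, g, -, -, hfg⟩ := Module.Finite.exists_comp_eq_id_of_projective (𝕎 R) P
  have hfg' : ∀ y, f (g y) = y := fun y => LinearMap.congr_fun hfg y
  set e := LinearMap.toMatrix' (g ∘ₗ f) with he
  have hee : e * e = e := by
    rw [he, ← LinearMap.toMatrix'_comp]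
    congr 1
    refine LinearMap.ext fun x => ?_
    show g (f (g (f x))) = g (f x)
    rw [hfg']
  have hemul : ∀ v, e.mulVec v = g (f v) := fun v => by
    rw [he, LinearMap.toMatrix'_mulVec]; rfl
  obtain ⟨a, haa, hae⟩ := exists_idempotent_lift φ hφ hnil e hee
  have haa' : ∀ v, a.mulVec (a.mulVec v) = a.mulVec v := fun v => by
    rw [Matrix.mulVec_mulVec, haa]
  -- the semilinear coordinatewise map
  let Φv : (Fin k → 𝕎 S) → (Fin k → 𝕎 R) := fun x i => WittVector.map φ (x i)
  have hΦv_mulVec : ∀ x, Φv (a.mulVec x) = e.mulVec (Φv x) := by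
    intro x
    funext i
    show WittVector.map φ (a.mulVec x i) = _
    rw [RingHom.map_mulVec, ← hae]
    rfl
  let N : Submodule (𝕎 S) (Fin k → 𝕎 S) := LinearMap.range (Matrix.mulVecLin a)
  have hN : ∀ x : N, a.mulVec x.1 = x.1 := by
    rintro ⟨_, y, rfl⟩
    exact haa' y
  let s : (Fin k → 𝕎 S) →ₗ[𝕎 S] N := (Matrix.mulVecLin a).rangeRestrict
  have hs : ∀ x : N, s x.1 = x := fun x => Subtype.ext (hN x)
  let π : N →ₛₗ[WittVector.map (p := p) φ] P :=
    { toFun := fun x => f (Φv x.1)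
      map_add' := fun x y => by
        rw [← map_add]; congr 1; funext i
        exact map_add (WittVector.map φ) _ _
      map_smul' := fun r x => by
        rw [← map_smul]; congr 1; funext i
        exact map_mul (WittVector.map φ) _ _ }
  have hπ : ∀ x : N, π x = f (Φv x.1) := fun x => rfl
  have hsurj := WittVector.map_surjective (p := p) φ hφ
  refine ⟨N, inferInstance, inferInstance, ?_, ?_, π, ?_, ?_⟩
  · exact Module.Finite.range _
  · exact Module.Projective.of_split N.subtype s (LinearMap.ext fun x => hs x)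
  · intro y
    choose z hz using fun i => hsurj (g y i)
    refine ⟨s z, ?_⟩
    rw [hπ]
    show f (Φv (a.mulVec z)) = y
    have : Φv z = g y := funext hz
    rw [hΦv_mulVec, hemul, this, hfg', hfg']
  · apply le_antisymm
    · intro x hx
      rw [LinearMap.mem_ker, hπ] at hx
      have h1 : Φv x.1 = 0 := by
        rw [← hN x, hΦv_mulVec, hemul, hx, map_zero]
      have h2 : ∀ i, x.1 i ∈ RingHom.ker (WittVector.map (p := p) φ) := fun i => congrFun h1 i
      have h3 : x = ∑ i, (x.1 i) • s (fun j => if i = j then 1 else 0) := by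
        have := LinearMap.pi_apply_eq_sum_univ s x.1
        rw [hs] at this
        exact this
      rw [h3]
      exact Submodule.sum_mem _ fun i _ => Submodule.smul_mem_smul (h2 i) trivial
    · rw [Submodule.smul_le]
      intro r hr x _
      rw [LinearMap.mem_ker, map_smulₛₗ, hr, zero_smul]

end Exist

section Uniq

/-- lifting semilinear maps out of a projective module -/
theorem exists_lift_semilinear {A B : Type*} [CommRing A] [CommRing B] (ψ : A →+* B)
    {P₁ P₂ P : Type*} [AddCommGroup P₁] [AddCommGroup P₂] [AddCommGroup P]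
    [Module A P₁] [Module A P₂] [Module B P] [Module.Projective A P₁]
    (π₁ : P₁ →ₛₗ[ψ] P) (π₂ : P₂ →ₛₗ[ψ] P) (h₂ : Function.Surjective π₂) :
    ∃ h : P₁ →ₗ[A] P₂, ∀ x, π₂ (h x) = π₁ x := by
  let _ : Module A P := Module.compHom P ψ
  let π₁' : P₁ →ₗ[A] P :=
    { toFun := π₁, map_add' := map_add π₁, map_smul' := fun r x => by rw [map_smulₛₗ]; rfl }
  let π₂' : P₂ →ₗ[A] P :=
    { toFun := π₂, map_add' := map_add π₂, map_smul' := fun r x => by rw [map_smulₛₗ]; rfl }
  obtain ⟨h, hh⟩ := Module.projective_lifting_property π₂' π₁' h₂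
  exact ⟨h, fun x => LinearMap.congr_fun hh x⟩

/-- an endomorphism of a finite module congruent to the identity modulo `J ≤ Jac` is bijective -/
theorem bijective_of_sub_mem {A : Type*} [CommRing A] (J : Ideal A) (hJ : J ≤ Ideal.jacobson ⊥)
    {P₁ : Type*} [AddCommGroup P₁] [Module A P₁] [Module.Finite A P₁]
    (u : P₁ →ₗ[A] P₁) (hu : ∀ x, u x - x ∈ J • (⊤ : Submodule A P₁)) :
    Function.Bijective u := by
  have hsurj : Function.Surjective u := by
    rw [← LinearMap.range_eq_top, eq_top_iff]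
    apply Submodule.le_of_le_smul_of_le_jacobson_bot Module.Finite.fg_top hJ
    intro x _
    have : x = u x + -(u x - x) := by abel
    rw [this]
    exact Submodule.add_mem_sup ⟨x, rfl⟩ (Submodule.neg_mem _ (hu x))
  exact ⟨OrzechProperty.injective_of_surjective_endomorphism u hsurj, hsurj⟩

theorem isAdicComplete_of_pow_eq_bot {R : Type*} [CommRing R] (I : Ideal R) (N : ℕ)
    (h : I ^ N = ⊥) : IsAdicComplete I R := by
  refine { toIsHausdorff := ⟨fun x hx => ?_⟩, toIsPrecomplete := ⟨fun {f} hf => ?_⟩ }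
  · have := hx N
    rw [h, Submodule.bot_smul, SModEq.sub_mem, sub_zero, Submodule.mem_bot] at this
    exact this
  · refine ⟨f N, fun n => ?_⟩
    rcases le_total n N with hn | hn
    · exact hf hn
    · have := hf hn
      rw [h, Submodule.bot_smul, SModEq.sub_mem, Submodule.mem_bot, sub_eq_zero] at this
      rw [this]

variable {p : ℕ} [hp : Fact p.Prime] {S R : Type u} [CommRing S] [CommRing R] (φ : S →+* R)

local notation "𝕎" => WittVector p

theorem ker_map_le_jacobson (hnil : ∀ a : S, φ a = 0 → IsNilpotent a)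
    (hpn : IsNilpotent (p : S)) :
    RingHom.ker (WittVector.map (p := p) φ) ≤ Ideal.jacobson ⊥ := by
  obtain ⟨N, hN⟩ := hpn
  have : IsAdicComplete (Ideal.span {(p : S)}) S :=
    isAdicComplete_of_pow_eq_bot _ N (by rw [Ideal.span_singleton_pow, hN]; simp)
  have := WittTop.isAdicComplete_IR p (R := S)
  have hIR : WittTop.IR p S ≤ Ideal.jacobson ⊥ := IsAdicComplete.le_jacobson_bot (WittTop.IR p S)
  intro x hx
  rw [WittShift.eq_teich_add x]
  refine Ideal.add_mem _ ?_ (hIR (WittTop.verschiebung_mem_IR p _))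
  have h0 : φ (x.coeff 0) = 0 := by
    have := congrArg (fun z => z.coeff 0) (RingHom.mem_ker.mp hx)
    simpa only [WittVector.map_coeff, WittVector.zero_coeff] using this
  obtain ⟨r, hr⟩ := hnil _ h0
  have hnilx : IsNilpotent (teichmuller p (x.coeff 0)) :=
    ⟨r, by rw [← map_pow, hr, WittVector.teichmuller_zero]⟩
  rw [Ideal.mem_jacobson_bot]
  intro y
  exact (Commute.isNilpotent_mul_right (Commute.all _ _) hnilx).isUnit_add_one

theorem unique_lift (hnil : ∀ a : S, φ a = 0 → IsNilpotent a) (hpn : IsNilpotent (p : S))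
    {P : Type u} [AddCommGroup P] [Module (𝕎 R) P]
    (P₁ : Type u) [AddCommGroup P₁] [Module (𝕎 S) P₁]
    [Module.Finite (𝕎 S) P₁] [Module.Projective (𝕎 S) P₁]
    (P₂ : Type u) [AddCommGroup P₂] [Module (𝕎 S) P₂]
    [Module.Finite (𝕎 S) P₂] [Module.Projective (𝕎 S) P₂]
    (π₁ : P₁ →ₛₗ[WittVector.map (p := p) φ] P) (π₂ : P₂ →ₛₗ[WittVector.map (p := p) φ] P)
    (h₁ : Function.Surjective π₁)
    (k₁ : LinearMap.ker π₁ = RingHom.ker (WittVector.map (p := p) φ) • (⊤ : Submodule (𝕎 S) P₁))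
    (h₂ : Function.Surjective π₂)
    (k₂ : LinearMap.ker π₂ = RingHom.ker (WittVector.map (p := p) φ) • (⊤ : Submodule (𝕎 S) P₂)) :
    ∃ e : P₁ ≃ₗ[𝕎 S] P₂, ∀ x : P₁, π₂ (e x) = π₁ x := by
  have hJ := ker_map_le_jacobson φ hnil hpn
  obtain ⟨e₁₂, he₁₂⟩ := exists_lift_semilinear _ π₁ π₂ h₂
  obtain ⟨e₂₁, he₂₁⟩ := exists_lift_semilinear _ π₂ π₁ h₁
  have b₁ : Function.Bijective (e₂₁ ∘ₗ e₁₂) := by
    apply bijective_of_sub_mem _ hJ
    intro x
    rw [← k₁, LinearMap.mem_ker, map_sub, LinearMap.comp_apply, he₂₁, he₁₂, sub_self]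
  have b₂ : Function.Bijective (e₁₂ ∘ₗ e₂₁) := by
    apply bijective_of_sub_mem _ hJ
    intro x
    rw [← k₂, LinearMap.mem_ker, map_sub, LinearMap.comp_apply, he₁₂, he₂₁, sub_self]
  have hinj : Function.Injective e₁₂ := by
    have := b₁.1
    rw [LinearMap.coe_comp] at this
    exact Function.Injective.of_comp this
  have hsurj : Function.Surjective e₁₂ := by
    have := b₂.2
    rw [LinearMap.coe_comp] at this
    exact Function.Surjective.of_comp this
  exact ⟨LinearEquiv.ofBijective e₁₂ ⟨hinj, hsurj⟩, fun x => he₁₂ x⟩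

end Uniq

end Groth.Agent.Lib.Helper22.WittLiftProj
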