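import Mathlib
import Groth.Agent.Lib.Helper22.DispNormal
import Groth.Agent.Lib.Helper22.WittLiftProj

/-!
# Finite projective modules over a ring complete for a filtration, via their truncations (helper22)
-/

set_option autoImplicit false
set_option linter.unusedSectionVars false
universe u v
noncomputable section
namespace Groth.Agent.Lib.Helper22.ProjTrunc

open Function

section Quot

variable {A : Type u} [CommRing A] (𝔠 : Ideal A)

theorem smul_eq_zero_of_mem {N : Type*} [AddCommGroup N] [Module A N] [Module (A ⧸ 𝔠) N]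
    [IsScalarTower A (A ⧸ 𝔠) N] (a : A) (ha : a ∈ 𝔠) (y : N) : a • y = 0 := by
  rw [← algebraMap_smul (A ⧸ 𝔠) a y]
  have : algebraMap A (A ⧸ 𝔠) a = 0 := Ideal.Quotient.eq_zero_iff_mem.mpr ha
  rw [this, zero_smul]

/-- sections over the quotient ring are sections over `A` -/
theorem exists_section_of_projective_quot {M N : Type*} [AddCommGroup M] [AddCommGroup N]
    [Module A M] [Module A N] [Module (A ⧸ 𝔠) M] [IsScalarTower A (A ⧸ 𝔠) M]
    [Module (A ⧸ 𝔠) N] [IsScalarTower A (A ⧸ 𝔠) N] [Module.Projective (A ⧸ 𝔠) N]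
    (f : M →ₗ[A] N) (hf : Surjective f) : ∃ s : N →ₗ[A] M, ∀ y, f (s y) = y := by
  have hs : Surjective (algebraMap A (A ⧸ 𝔠)) := Ideal.Quotient.mk_surjective
  obtain ⟨s', hs'⟩ := Module.projective_lifting_property (f.extendScalarsOfSurjective hs)
    LinearMap.id hf
  exact ⟨s'.restrictScalars A, fun y => LinearMap.congr_fun hs' y⟩

/-- reduction of a projective module is projective over the quotient ring -/
theorem projective_quot (P : Type v) [AddCommGroup P] [Module A P] [Module.Projective A P] :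
    Module.Projective (A ⧸ 𝔠) (P ⧸ (𝔠 • ⊤ : Submodule A P)) := by
  have hs : Surjective (algebraMap A (A ⧸ 𝔠)) := Ideal.Quotient.mk_surjective
  exact Module.Projective.of_equiv
    ((TensorProduct.quotTensorEquivQuotSMul P 𝔠).extendScalarsOfSurjective hs)

theorem sup_pow_smul_top {P : Type v} [AddCommGroup P] [Module A P] (N : Submodule A P)
    (h : N ⊔ 𝔠 • (⊤ : Submodule A P) = ⊤) (m : ℕ) : N ⊔ 𝔠 ^ m • (⊤ : Submodule A P) = ⊤ := by
  induction m with
  | zero => rw [pow_zero, Ideal.one_eq_top, Submodule.top_smul, sup_top_eq]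
  | succ m ih =>
    rw [eq_top_iff]
    calc (⊤ : Submodule A P) = N ⊔ 𝔠 • (⊤ : Submodule A P) := h.symm
      _ = N ⊔ 𝔠 • (N ⊔ 𝔠 ^ m • (⊤ : Submodule A P)) := by rw [ih]
      _ = N ⊔ (𝔠 • N ⊔ 𝔠 • (𝔠 ^ m • (⊤ : Submodule A P))) := by rw [Submodule.smul_sup]
      _ ≤ N ⊔ 𝔠 ^ (m + 1) • (⊤ : Submodule A P) := by
        refine sup_le le_sup_left (sup_le (le_sup_of_le_left Submodule.smul_le_right) ?_)
        rw [← mul_smul, ← pow_succ']
        exact le_sup_right

theorem le_pow_smul_of_le_smul {M : Type*} [AddCommGroup M] [Module A M] (K : Submodule A M)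
    (h : K ≤ 𝔠 • K) (m : ℕ) : K ≤ 𝔠 ^ m • K := by
  induction m with
  | zero => rw [pow_zero, Ideal.one_eq_top, Submodule.top_smul]
  | succ m ih =>
    calc K ≤ 𝔠 • K := h
      _ ≤ 𝔠 • (𝔠 ^ m • K) := Submodule.smul_mono le_rfl ih
      _ = 𝔠 ^ (m + 1) • K := by rw [← mul_smul, ← pow_succ']

end Quot

section Lift

variable {A : Type u} [CommRing A] (J : Ideal A) [IsAdicComplete J A]

/-- lifting a finite projective `A/J`-module to a finite projective `A`-module -/
theorem exists_lift_of_complete (N : Type v) [AddCommGroup N] [Module A N] [Module (A ⧸ J) N]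
    [IsScalarTower A (A ⧸ J) N] [Module.Finite (A ⧸ J) N] [Module.Projective (A ⧸ J) N] :
    ∃ (Pt : Type u) (_ : AddCommGroup Pt) (_ : Module A Pt), Module.Finite A Pt ∧
      Module.Projective A Pt ∧ ∃ β : Pt →ₗ[A] N, Surjective β ∧
        LinearMap.ker β = J • (⊤ : Submodule A Pt) := by
  have : Module.Finite A N := Module.Finite.trans (A ⧸ J) N
  obtain ⟨k, ψ₁, hψ₁⟩ := Module.Finite.exists_fin' A N
  set JF : Submodule A (Fin k → A) := J • ⊤ with hJF
  have hker : JF ≤ LinearMap.ker ψ₁ := by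
    rw [hJF, Submodule.smul_le]
    intro a ha x _
    rw [LinearMap.mem_ker, map_smul, smul_eq_zero_of_mem J a ha]
  let ψb : ((Fin k → A) ⧸ JF) →ₗ[A] N := JF.liftQ ψ₁ hker
  have hψb_mk : ∀ x, ψb (JF.mkQ x) = ψ₁ x := fun x => rfl
  have hψb : Surjective ψb := by
    intro y
    obtain ⟨x, rfl⟩ := hψ₁ y
    exact ⟨JF.mkQ x, rfl⟩
  obtain ⟨s, hs⟩ := exists_section_of_projective_quot J ψb hψb
  let eb : ((Fin k → A) ⧸ JF) →ₗ[A] ((Fin k → A) ⧸ JF) := s ∘ₗ ψb
  obtain ⟨e₀, he₀⟩ := Module.projective_lifting_property JF.mkQ (eb ∘ₗ JF.mkQ)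
    (Submodule.mkQ_surjective JF)
  have he₀' : ∀ x, JF.mkQ (e₀ x) = s (ψ₁ x) := fun x => LinearMap.congr_fun he₀ x
  have h0 : ∀ x, (e₀ ^ 2 - e₀) x ∈ J • (⊤ : Submodule A (Fin k → A)) := by
    intro x
    rw [← hJF, ← Submodule.Quotient.mk_eq_zero, LinearMap.sub_apply, pow_two,
      Module.End.mul_apply, Submodule.Quotient.mk_sub, ← Submodule.mkQ_apply, ← Submodule.mkQ_apply,
      he₀', he₀']
    have : ψ₁ (e₀ x) = ψ₁ x := by
      rw [← hψb_mk, he₀', hs]
    rw [this, sub_self]
  have : IsAdicComplete J (Fin k → A) := DispNormal.isAdicComplete_of_finite_projective J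
  set e := DispNormal.Elim J e₀ h0 with he
  have hidem : ∀ x, e (e x) = e x := DispNormal.Elim_idem J e₀ h0
  have hee₀ : ∀ x, e x - e₀ x ∈ JF := DispNormal.Elim_sub_e0_mem J e₀ h0
  have hmk : ∀ x, JF.mkQ (e x) = JF.mkQ (e₀ x) := by
    intro x
    rw [← sub_eq_zero, ← map_sub, Submodule.mkQ_apply, Submodule.Quotient.mk_eq_zero]
    exact hee₀ x
  have hψe : ∀ x, ψ₁ (e x) = ψ₁ x := by
    intro x
    rw [← hψb_mk, hmk, he₀', hs]
  let Pt : Submodule A (Fin k → A) := LinearMap.range e
  let c : (Fin k → A) →ₗ[A] Pt := e.rangeRestrict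
  have hc : ∀ x : Pt, c x.1 = x := by
    rintro ⟨_, y, rfl⟩
    exact Subtype.ext (hidem y)
  let β : Pt →ₗ[A] N := ψ₁ ∘ₗ Pt.subtype
  refine ⟨Pt, inferInstance, inferInstance, ?_, ?_, β, ?_, ?_⟩
  · exact Module.Finite.range e
  · exact Module.Projective.of_split Pt.subtype c (LinearMap.ext fun x => hc x)
  · intro y
    obtain ⟨x, rfl⟩ := hψ₁ y
    exact ⟨c x, hψe x⟩
  · apply le_antisymm
    · intro x hx
      have hx' : ψ₁ x.1 = 0 := hx
      have h1 : e₀ x.1 ∈ JF := by
        rw [← Submodule.Quotient.mk_eq_zero, ← Submodule.mkQ_apply, he₀', hx', map_zero]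
      have h2 : x.1 ∈ JF := by
        have h3 : e x.1 = x.1 := congrArg Subtype.val (hc x)
        have : x.1 = (e x.1 - e₀ x.1) + e₀ x.1 := by rw [h3]; abel
        rw [this]
        exact JF.add_mem (hee₀ _) h1
      have h4 : Submodule.map c JF ≤ J • (⊤ : Submodule A Pt) := by
        rw [hJF, Submodule.map_smul'']
        exact Submodule.smul_mono le_rfl le_top
      rw [← hc x]
      exact h4 ⟨x.1, h2, rfl⟩
    · rw [Submodule.smul_le]
      intro a ha x _
      rw [LinearMap.mem_ker, map_smul, smul_eq_zero_of_mem J a ha]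

end Lift

section Filt

variable {A : Type u} [CommRing A] (I : ℕ → Ideal A)
variable {Pt : Type v} [AddCommGroup Pt] [Module A Pt] [Module.Finite A Pt] [Module.Projective A Pt]

/-- finite projective modules are separated for the filtration -/
theorem eq_zero_of_forall_mem (hsep : ⨅ n, I n = ⊥) (x : Pt)
    (h : ∀ n, x ∈ I n • (⊤ : Submodule A Pt)) : x = 0 := by
  obtain ⟨k, f, g, -, -, hfg⟩ := Module.Finite.exists_comp_eq_id_of_projective A Pt
  have hrep : ∀ x : Pt, x = ∑ i, (g x i) • f (fun j => if i = j then 1 else 0) := by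
    intro x
    have : f (g x) = x := by rw [← LinearMap.comp_apply, hfg]; rfl
    conv_lhs => rw [← this]
    exact LinearMap.pi_apply_eq_sum_univ f (g x)
  let c : Fin k → Pt →ₗ[A] A := fun i => (LinearMap.proj i) ∘ₗ g
  have hc : ∀ i x, c i x = g x i := fun i x => rfl
  have hz : ∀ i, g x i = 0 := by
    intro i
    have : g x i ∈ ⨅ n, I n := by
      rw [Ideal.mem_iInf]
      intro n
      have := Submodule.smul_top_le_comap_smul_top (I n) (c i) (h n)
      rw [Submodule.mem_comap, smul_eq_mul, Ideal.mul_top] at this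
      exact this
    rw [hsep] at this
    exact this
  rw [hrep x]
  exact Finset.sum_eq_zero (fun i _ => by rw [hz i, zero_smul])

/-- finite projective modules are complete for the filtration -/
theorem exists_limit_of_finite_projective
    (hcompl : ∀ y : ℕ → A, (∀ j, y (j + 1) - y j ∈ I j) → ∃ X, ∀ m, X - y m ∈ I m)
    (x : ℕ → Pt) (hx : ∀ j, x (j + 1) - x j ∈ I j • (⊤ : Submodule A Pt)) :
    ∃ X : Pt, ∀ m, X - x m ∈ I m • (⊤ : Submodule A Pt) := by
  obtain ⟨k, f, g, -, -, hfg⟩ := Module.Finite.exists_comp_eq_id_of_projective A Pt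
  have hrep : ∀ x : Pt, x = ∑ i, (g x i) • f (fun j => if i = j then 1 else 0) := by
    intro x
    have : f (g x) = x := by rw [← LinearMap.comp_apply, hfg]; rfl
    conv_lhs => rw [← this]
    exact LinearMap.pi_apply_eq_sum_univ f (g x)
  let c : Fin k → Pt →ₗ[A] A := fun i => (LinearMap.proj i) ∘ₗ g
  have hc : ∀ i x, c i x = g x i := fun i x => rfl
  have hex : ∀ i, ∃ a : A, ∀ m, a - g (x m) i ∈ I m := by
    intro i
    apply hcompl (fun j => g (x j) i)
    intro j
    have := Submodule.smul_top_le_comap_smul_top (I j) (c i) (hx j)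
    rw [Submodule.mem_comap, smul_eq_mul, Ideal.mul_top, map_sub] at this
    exact this
  choose a ha using hex
  refine ⟨∑ i, a i • f (fun j => if i = j then 1 else 0), fun m => ?_⟩
  rw [hrep (x m), ← Finset.sum_sub_distrib]
  refine Submodule.sum_mem _ (fun i _ => ?_)
  rw [← sub_smul]
  exact Submodule.smul_mem_smul (ha i m) trivial

end Filt

section Main

variable {A : Type u} [CommRing A] (I : ℕ → Ideal A) [IsAdicComplete (I 1) A]
variable (hanti : Antitone I) (hpow : ∀ n, ∃ m, (I 1) ^ m ≤ I n) (hsep : ⨅ n, I n = ⊥)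
  (hcompl : ∀ y : ℕ → A, (∀ j, y (j + 1) - y j ∈ I j) → ∃ X, ∀ m, X - y m ∈ I m)
variable (P : Type v) [AddCommGroup P] [Module A P]

include hanti hpow hsep hcompl in
theorem finite_projective_of_truncations
    (hPsep : (⨅ n : ℕ, (I n • (⊤ : Submodule A P))) = ⊥)
    [Module.Finite (A ⧸ I 1) (P ⧸ (I 1 • ⊤ : Submodule A P))]
    (hPproj : ∀ n, Module.Projective (A ⧸ I n) (P ⧸ (I n • ⊤ : Submodule A P))) :
    Module.Finite A P ∧ Module.Projective A P := by
  have := hPproj 1
  obtain ⟨Pt, _, _, hfin, hproj, β, hβs, hβk⟩ :=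
    exists_lift_of_complete (I 1) (P ⧸ (I 1 • ⊤ : Submodule A P))
  obtain ⟨α, hα⟩ := Module.projective_lifting_property
    (Submodule.mkQ (I 1 • ⊤ : Submodule A P)) β (Submodule.mkQ_surjective _)
  have hα' : ∀ x, Submodule.Quotient.mk (p := (I 1 • ⊤ : Submodule A P)) (α x) = β x :=
    fun x => LinearMap.congr_fun hα x
  -- surjectivity modulo each `I n`
  have hs1 : LinearMap.range α ⊔ I 1 • (⊤ : Submodule A P) = ⊤ := by
    rw [eq_top_iff]
    intro y _
    obtain ⟨x, hx⟩ := hβs (Submodule.Quotient.mk y)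
    rw [← hα', Submodule.Quotient.eq] at hx
    have : y = α x + -(α x - y) := by abel
    rw [this]
    exact Submodule.add_mem_sup ⟨x, rfl⟩ (Submodule.neg_mem _ hx)
  have hsn : ∀ n, LinearMap.range α ⊔ I n • (⊤ : Submodule A P) = ⊤ := by
    intro n
    obtain ⟨m, hm⟩ := hpow n
    have h := sup_pow_smul_top (I 1) _ hs1 m
    refine eq_top_iff.mpr ?_
    calc (⊤ : Submodule A P) = LinearMap.range α ⊔ (I 1) ^ m • (⊤ : Submodule A P) := h.symm
      _ ≤ LinearMap.range α ⊔ I n • (⊤ : Submodule A P) :=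
        sup_le_sup_left (Submodule.smul_mono_left hm) _
  have hsn' : ∀ n (y : P), ∃ x : Pt, y - α x ∈ I n • (⊤ : Submodule A P) := by
    intro n y
    have hy : y ∈ LinearMap.range α ⊔ I n • (⊤ : Submodule A P) := by rw [hsn n]; trivial
    obtain ⟨_, ⟨x, rfl⟩, t, ht, rfl⟩ := Submodule.mem_sup.mp hy
    exact ⟨x, by rw [add_sub_cancel_left]; exact ht⟩
  -- injectivity modulo each `I n`, `n ≥ 1`
  have hin : ∀ n, 1 ≤ n → ∀ x : Pt, α x ∈ I n • (⊤ : Submodule A P) →
      x ∈ I n • (⊤ : Submodule A Pt) := by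
    intro n hn
    have := hPproj n
    set IPt : Submodule A Pt := I n • ⊤ with hIPt
    set IP : Submodule A P := I n • ⊤ with hIP
    let αn : (Pt ⧸ IPt) →ₗ[A] (P ⧸ IP) :=
      Submodule.mapQ IPt IP α (Submodule.smul_top_le_comap_smul_top (I n) α)
    have hαn_mk : ∀ x, αn (Submodule.Quotient.mk x) = Submodule.Quotient.mk (α x) := fun x => rfl
    have hαn_surj : Surjective αn := by
      intro z
      obtain ⟨y, rfl⟩ := Submodule.Quotient.mk_surjective IP z
      obtain ⟨x, hx⟩ := hsn' n y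
      refine ⟨Submodule.Quotient.mk x, ?_⟩
      rw [hαn_mk, Submodule.Quotient.eq, ← neg_sub]
      exact Submodule.neg_mem _ hx
    obtain ⟨σ, hσ⟩ := exists_section_of_projective_quot (I n) αn hαn_surj
    set K : Submodule A (Pt ⧸ IPt) := LinearMap.ker αn with hK
    have hKJ : K ≤ I 1 • K := by
      intro z hz
      obtain ⟨x, rfl⟩ := Submodule.Quotient.mk_surjective IPt z
      rw [hK, LinearMap.mem_ker, hαn_mk, Submodule.Quotient.mk_eq_zero] at hz
      have h1 : α x ∈ I 1 • (⊤ : Submodule A P) :=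
        Submodule.smul_mono_left (hanti hn) hz
      have h2 : x ∈ I 1 • (⊤ : Submodule A Pt) := by
        rw [← hβk, LinearMap.mem_ker, ← hα', Submodule.Quotient.mk_eq_zero]
        exact h1
      -- the projection onto `K`
      let π' : (Pt ⧸ IPt) →ₗ[A] (Pt ⧸ IPt) := LinearMap.id - σ ∘ₗ αn
      have hπ'K : ∀ w, π' w ∈ K := by
        intro w
        rw [hK, LinearMap.mem_ker]
        show αn (w - σ (αn w)) = 0
        rw [map_sub, hσ, sub_self]
      have hπ'z : π' (Submodule.Quotient.mk x) = Submodule.Quotient.mk x := by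
        show Submodule.Quotient.mk x - σ (αn (Submodule.Quotient.mk x)) = _
        rw [hαn_mk, (Submodule.Quotient.mk_eq_zero IP).mpr hz, map_zero, sub_zero]
      have h3 : Submodule.map (π' ∘ₗ IPt.mkQ) (I 1 • (⊤ : Submodule A Pt)) ≤ I 1 • K := by
        rw [Submodule.map_smul'']
        refine Submodule.smul_mono le_rfl ?_
        rintro _ ⟨w, -, rfl⟩
        exact hπ'K _
      rw [← hπ'z]
      exact h3 ⟨x, h2, rfl⟩
    have hK0 : K = ⊥ := by
      rw [eq_bot_iff]
      obtain ⟨m, hm⟩ := hpow n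
      refine (le_pow_smul_of_le_smul (I 1) K hKJ m).trans ?_
      refine (Submodule.smul_mono hm le_top).trans ?_
      rw [Submodule.smul_le]
      intro a ha z _
      obtain ⟨x, rfl⟩ := Submodule.Quotient.mk_surjective IPt z
      rw [Submodule.mem_bot, ← Submodule.Quotient.mk_smul, Submodule.Quotient.mk_eq_zero]
      exact Submodule.smul_mem_smul ha trivial
    intro x hx
    have : Submodule.Quotient.mk (p := IPt) x ∈ K := by
      rw [hK, LinearMap.mem_ker, hαn_mk, Submodule.Quotient.mk_eq_zero]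
      exact hx
    rw [hK0, Submodule.mem_bot, Submodule.Quotient.mk_eq_zero] at this
    exact this
  -- injectivity
  have hinj : Injective α := by
    rw [injective_iff_map_eq_zero]
    intro x hx
    apply eq_zero_of_forall_mem I hsep x
    intro n
    have h1 : x ∈ I (n + 1) • (⊤ : Submodule A Pt) :=
      hin (n + 1) (by omega) x (by rw [hx]; exact Submodule.zero_mem _)
    exact Submodule.smul_mono_left (hanti (Nat.le_succ n)) h1
  -- surjectivity
  have hsurj : Surjective α := by
    intro y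
    choose x hx using fun n => hsn' n y
    have hstep : ∀ j, x (j + 1 + 1) - x (j + 1) ∈ I j • (⊤ : Submodule A Pt) := by
      intro j
      have h1 : α (x (j + 1 + 1) - x (j + 1)) ∈ I (j + 1) • (⊤ : Submodule A P) := by
        have : α (x (j + 1 + 1) - x (j + 1)) = (y - α (x (j + 1))) - (y - α (x (j + 1 + 1))) := by
          rw [map_sub]; abel
        rw [this]
        exact Submodule.sub_mem _ (hx (j + 1))
          (Submodule.smul_mono_left (hanti (Nat.le_succ (j + 1))) (hx (j + 1 + 1)))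
      exact Submodule.smul_mono_left (hanti (Nat.le_succ j)) (hin (j + 1) (by omega) _ h1)
    obtain ⟨X, hX⟩ := exists_limit_of_finite_projective I hcompl (fun j => x (j + 1)) hstep
    refine ⟨X, ?_⟩
    rw [← sub_eq_zero, ← Submodule.mem_bot A, ← hPsep, Submodule.mem_iInf]
    intro m
    have h1 : α (X - x (m + 1)) ∈ I m • (⊤ : Submodule A P) :=
      Submodule.smul_top_le_comap_smul_top (I m) α (hX m)
    have h2 : y - α (x (m + 1)) ∈ I m • (⊤ : Submodule A P) :=
      Submodule.smul_mono_left (hanti (Nat.le_succ m)) (hx (m + 1))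
    have : α X - y = α (X - x (m + 1)) - (y - α (x (m + 1))) := by rw [map_sub]; abel
    rw [this]
    exact Submodule.sub_mem _ h1 h2
  let E : Pt ≃ₗ[A] P := LinearEquiv.ofBijective α ⟨hinj, hsurj⟩
  exact ⟨Module.Finite.equiv E, Module.Projective.of_equiv E⟩

end Main

open WittVector

section Witt

variable (p : ℕ) [hp : Fact p.Prime] (R : Type u) [CommRing R]

local notation "𝕎" => WittVector p

/-- the filtration by the kernels of the truncations -/
abbrev IT (n : ℕ) : Ideal (𝕎 R) := RingHom.ker (WittVector.truncate (p := p) (R := R) n)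

theorem IT_anti : Antitone (IT p R) := by
  intro j j' h x hx
  rw [IT, WittVector.mem_ker_truncate] at hx ⊢
  exact fun i hi => hx i (by omega)

theorem IT_one : IT p R 1 = WittTop.IR p R := by
  ext x
  rw [IT, WittVector.mem_ker_truncate, WittTop.mem_IR_iff]
  exact ⟨fun h => h 0 Nat.one_pos, fun h i hi => by
    have : i = 0 := by omega
    rw [this]; exact h⟩

theorem IT_sep : ⨅ n, IT p R n = ⊥ := TruncatedWittVector.iInf_ker_truncate

theorem IT_pow (hpn : IsNilpotent (p : R)) (n : ℕ) : ∃ m, (IT p R 1) ^ m ≤ IT p R n := by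
  obtain ⟨h1, -, h3⟩ := WittTop.S14864 p (R := R) hpn
  obtain ⟨m₁, hm₁⟩ := h3 n
  obtain ⟨m, hm⟩ := h1 m₁
  exact ⟨m, by rw [IT_one]; exact hm.trans hm₁⟩

theorem IT_compl (y : ℕ → 𝕎 R) (hy : ∀ j, y (j + 1) - y j ∈ IT p R j) :
    ∃ X, ∀ m, X - y m ∈ IT p R m := by
  have hchain : ∀ j j', j ≤ j' → WittVector.truncate j (y j') = WittVector.truncate j (y j) := by
    intro j j' hjj'
    induction j', hjj' using Nat.le_induction with
    | base => rfl
    | succ j' hjj' ih =>
      rw [← ih, ← sub_eq_zero, ← map_sub, ← RingHom.mem_ker]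
      exact IT_anti p R hjj' (hy j')
  let X : 𝕎 R := WittVector.mk p (fun c => (y (c + 1)).coeff c)
  refine ⟨X, fun m => ?_⟩
  rw [IT, RingHom.mem_ker, map_sub, sub_eq_zero]
  ext i
  rw [WittVector.coeff_truncate, WittVector.coeff_truncate]
  show (y (i.val + 1)).coeff i.val = _
  have h1 := hchain (i.val + 1) m (by have := i.2; omega)
  have h2 := congrArg (fun z => TruncatedWittVector.coeff ⟨i.val, Nat.lt_succ_self _⟩ z) h1
  simp only [WittVector.coeff_truncate] at h2
  exact h2.symm

theorem isAdicComplete_IT_one (hpn : IsNilpotent (p : R)) : IsAdicComplete (IT p R 1) (𝕎 R) := by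
  obtain ⟨N, hN⟩ := hpn
  have : IsAdicComplete (Ideal.span {(p : R)}) R :=
    WittLiftProj.isAdicComplete_of_pow_eq_bot _ N (by rw [Ideal.span_singleton_pow, hN]; simp)
  rw [IT_one]
  exact WittTop.isAdicComplete_IR p

/-- S14860 in library form -/
theorem finite_projective_iff (hpn : IsNilpotent (p : R))
    (P : Type v) [AddCommGroup P] [Module (𝕎 R) P] :
    (Module.Finite (𝕎 R) P ∧ Module.Projective (𝕎 R) P) ↔
      ((⨅ n : ℕ, (RingHom.ker (WittVector.truncate (p := p) (R := R) n) •
          (⊤ : Submodule (𝕎 R) P))) = ⊥ ∧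
        ∀ n : ℕ, Module.Finite (𝕎 R ⧸ RingHom.ker (WittVector.truncate (p := p) (R := R) n))
              (P ⧸ (RingHom.ker (WittVector.truncate (p := p) (R := R) n) •
                (⊤ : Submodule (𝕎 R) P))) ∧
            Module.Projective (𝕎 R ⧸ RingHom.ker (WittVector.truncate (p := p) (R := R) n))
              (P ⧸ (RingHom.ker (WittVector.truncate (p := p) (R := R) n) •
                (⊤ : Submodule (𝕎 R) P)))) := by
  constructor
  · rintro ⟨hfin, hproj⟩
    refine ⟨?_, fun n => ⟨inferInstance, projective_quot _ P⟩⟩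
    rw [eq_bot_iff]
    intro x hx
    rw [Submodule.mem_iInf] at hx
    rw [Submodule.mem_bot]
    exact eq_zero_of_forall_mem (IT p R) (IT_sep p R) x hx
  · rintro ⟨hsep, h⟩
    have := isAdicComplete_IT_one p R hpn
    have := (h 1).1
    exact finite_projective_of_truncations (IT p R) (IT_anti p R) (IT_pow p R hpn) (IT_sep p R)
      (IT_compl p R) P hsep (fun n => (h n).2)

end Witt

end Groth.Agent.Lib.Helper22.ProjTrunc
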