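import Mathlib
import Groth.Prelude.Def_W4c1extbt610Disp
import Groth.Agent.Lib.Helper22.DieudPerf
import Groth.Agent.Lib.Helper22.DispNormal
import Groth.Agent.Lib.Helper22.ProjTrunc

/-! The 3n-display of a Dieudonné module over a perfect ring (helper22). -/

set_option autoImplicit false
set_option linter.unusedSectionVars false
universe u v
noncomputable section
namespace Groth.Agent.Lib.Helper22.DieudDisp

open WittVector Function Groth.Agent.Lib.Helper22 W4c1extbt610
open Groth.Agent.Lib.Helper22.DieudPerf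

variable {p : ℕ} [hp : Fact p.Prime] {k : Type u} [CommRing k] [CharP k p] [PerfectRing k p]

local notation "W" => WittVector p k

variable {M : Type v} [AddCommGroup M] [Module (WittVector p k) M]
  (F : M →ₛₗ[(WittVector.frobenius : WittVector p k →+* WittVector p k)] M)
  (V : M →ₛₗ[((WittVector.frobeniusEquiv p k).symm : WittVector p k →+* WittVector p k)] M)

theorem IV_eq_span : IV p k = Ideal.span {(p : W)} := by
  ext x
  rw [DispNormal.IV_eq_IR, WittTop.mem_IR_iff, mem_span_p_iff_coeff_zero_eq_zero]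

/-- the range of `V` as a submodule -/
def QV : Submodule W M where
  carrier := Set.range V
  add_mem' := by
    rintro _ _ ⟨a, rfl⟩ ⟨b, rfl⟩
    exact ⟨a + b, map_add V a b⟩
  zero_mem' := ⟨0, map_zero V⟩
  smul_mem' := by
    rintro c _ ⟨a, rfl⟩
    exact ⟨frobenius c • a, by rw [map_smulₛₗ, symm_frobenius]⟩

theorem mem_QV (x : M) : x ∈ QV V ↔ x ∈ Set.range V := Iff.rfl

/-- a preimage under `V` -/
def pre (q : QV V) : M := Classical.choose q.2

theorem V_pre (q : QV V) : V (pre V q) = q := Classical.choose_spec q.2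

/-- the inverse of `V` on its range -/
def Vinv (hinj : Injective V) : QV V →ₛₗ[(WittVector.frobenius : W →+* W)] M where
  toFun := pre V
  map_add' q q' := by
    apply hinj
    rw [map_add, V_pre, V_pre, V_pre]
    rfl
  map_smul' c q := by
    apply hinj
    rw [map_smulₛₗ, symm_frobenius, V_pre, V_pre]
    rfl

theorem V_Vinv (hinj : Injective V) (q : QV V) : V (Vinv V hinj q) = q := V_pre V q

theorem Vinv_V (hinj : Injective V) (m : M) (h : V m ∈ QV V) : Vinv V hinj ⟨V m, h⟩ = m := by
  apply hinj
  rw [V_Vinv]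

section
variable (hFV : ∀ m : M, F (V m) = (p : WittVector p k) • m)
  (hVF : ∀ m : M, V (F m) = (p : WittVector p k) • m)
include hFV hVF

theorem verschiebung_smul_eq (w : W) (x : M) : verschiebung w • x = V (w • F x) := by
  rw [map_smulₛₗ, hVF, smul_smul]
  congr 1
  have h1 : w = frobenius (((WittVector.frobeniusEquiv p k).symm : W →+* W) w) :=
    (frobenius_symm w).symm
  conv_lhs => rw [h1]
  rw [verschiebung_frobenius]

theorem p_smul_le_QV : (Ideal.span {(p : W)} • ⊤ : Submodule W M) ≤ QV V := by
  rw [Submodule.smul_le]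
  intro r hr m _
  obtain ⟨c, rfl⟩ := Ideal.mem_span_singleton'.mp hr
  rw [mul_smul]
  exact (QV V).smul_mem c ⟨F m, hVF m⟩

theorem exists_compl [Module.Finite W M] [Module.Projective W M] :
    ∃ C : Submodule W M, QV V ⊔ C = ⊤ ∧
      QV V ⊓ C = (Ideal.span {(p : W)} • ⊤ : Submodule W M) := by
  have hproj : Module.Projective (W ⧸ Ideal.span {(p : W)})
      (M ⧸ (Ideal.span {(p : W)} • (⊤ : Submodule W M))) :=
    ProjTrunc.projective_quot _ M
  have hP := projective_mod_V F V hFV hVF
    (fun 𝔪 h𝔪 z hz => hsat_projective 𝔪 h𝔪 z hz)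
  obtain ⟨s, hs⟩ := Module.projective_lifting_property (U V).mkQ LinearMap.id
    (Submodule.mkQ_surjective _)
  have hs' : ∀ y, (U V).mkQ (s y) = y := fun y => LinearMap.congr_fun hs y
  let pM : Submodule W M := Ideal.span {(p : W)} • ⊤
  let C : Submodule W M := Submodule.comap pM.mkQ ((LinearMap.range s).restrictScalars W)
  have hpC : pM ≤ C := by
    intro m hm
    show pM.mkQ m ∈ LinearMap.range s
    rw [Submodule.mkQ_apply, (Submodule.Quotient.mk_eq_zero _).mpr hm]
    exact zero_mem _
  refine ⟨C, ?_, ?_⟩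
  · rw [eq_top_iff]
    intro m _
    have h1 : pM.mkQ m - s ((U V).mkQ (pM.mkQ m)) ∈ U V := by
      rw [← Submodule.Quotient.mk_eq_zero, ← Submodule.mkQ_apply, map_sub, hs', sub_self]
    obtain ⟨x, hx⟩ := (mem_U_iff V _).mp h1
    have h2 : m - V x ∈ C := by
      show pM.mkQ (m - V x) ∈ LinearMap.range s
      rw [map_sub, hx, sub_sub_cancel]
      exact ⟨_, rfl⟩
    have h3 : m = V x + (m - V x) := by abel
    rw [h3]
    exact Submodule.add_mem_sup ⟨x, rfl⟩ h2
  · apply le_antisymm
    · rintro m ⟨hmQ, hmC⟩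
      obtain ⟨x, rfl⟩ := hmQ
      obtain ⟨y, hy⟩ := hmC
      have h3 : y = 0 := by
        rw [← hs' y, hy]
        exact (Submodule.Quotient.mk_eq_zero _).mpr (Submodule.subset_span ⟨x, rfl⟩)
      rw [h3, map_zero] at hy
      exact (Submodule.Quotient.mk_eq_zero _).mp hy.symm
    · exact le_inf (p_smul_le_QV F V hFV hVF) hpC

/-- the 3n-display of a Dieudonné module -/
def disp [Module.Finite W M] [Module.Projective W M] : Display3n p k M where
  Q := QV V
  F := F
  Vinv := Vinv V (V_injective F V hFV hVF)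
  finite := inferInstance
  projective := inferInstance
  IV_smul_le := by
    rw [IV_eq_span]
    exact p_smul_le_QV F V hFV hVF
  exists_normal := by
    have : IsAdicComplete (IV p k) W := by
      rw [IV_eq_span]; infer_instance
    refine DispNormal.exists_decomp (IV p k) (QV V) ?_
    rw [IV_eq_span]
    exact exists_compl F V hFV hVF
  span_range_Vinv := by
    rw [eq_top_iff]
    intro m _
    apply Submodule.subset_span
    exact ⟨⟨V m, ⟨m, rfl⟩⟩, Vinv_V V _ m _⟩
  Vinv_verschiebung_smul := by
    intro w x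
    apply V_injective F V hFV hVF
    rw [V_Vinv]
    exact verschiebung_smul_eq F V hFV hVF w x

end

end Groth.Agent.Lib.Helper22.DieudDisp
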