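import Mathlib
import Groth.Prelude.Def_Disp2
import Groth.Agent.Lib.Helper18.Disp
import Groth.Agent.Lib.Helper18.Disp2
import Groth.Agent.Lib.Helper22.WittTop2
import Groth.Agent.Lib.Helper22.WittShift

/-! The linearisation of `V⁻¹ ⊕ F` is bijective; existence of `V^#` (helper22). -/

set_option autoImplicit false
set_option linter.unusedSectionVars false
set_option linter.style.haveILetI false
universe u v w
noncomputable section
namespace Groth.Agent.Lib.Helper22.DispPhi

open Dieu W4c1extbt610 WittVector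

/-! ### A surjective linearisation of a semilinear endomorphism of a f.g. projective module is
bijective, when the twisting map preserves the maximal ideals -/
section Abstract

variable {A : Type u} [CommRing A] (τ : A →+* A) {P : Type v} [AddCommGroup P] [Module A P]

theorem tmul_mem_of_mem (m : Ideal A) (hτ : ∀ a ∈ m, τ a ∈ m) (w : A) (μ : P)
    (hμ : μ ∈ m • (⊤ : Submodule A P)) :
    BC.tmul τ w μ ∈ m • (⊤ : Submodule A (BC τ P)) := by
  refine Submodule.smul_induction_on hμ ?_ ?_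
  · intro a ha y _
    rw [← BC.tmul_mul_apply, mul_comm, ← BC.smul_tmul]
    exact Submodule.smul_mem_smul (hτ a ha) Submodule.mem_top
  · intro a b ha hb
    rw [BC.tmul_add]
    exact Submodule.add_mem _ ha hb

theorem map_mem_of_mem {N N' : Type*} [AddCommGroup N] [Module A N] [AddCommGroup N']
    [Module A N'] (m : Ideal A) (g : N →ₗ[A] N') (z : N) (hz : z ∈ m • (⊤ : Submodule A N)) :
    g z ∈ m • (⊤ : Submodule A N') := by
  refine Submodule.smul_induction_on hz ?_ ?_
  · intro a ha y _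
    rw [map_smul]
    exact Submodule.smul_mem_smul ha Submodule.mem_top
  · intro a b ha hb
    rw [map_add]
    exact Submodule.add_mem _ ha hb

variable [Module.Finite A P]

/-- The kernel of the linearisation lies in `m (A ⊗_τ P)` for every maximal ideal `m`. -/
theorem ker_le_smul (Φ : P →ₛₗ[τ] P) (hΦ : Function.Surjective (BC.lift τ Φ))
    (m : Ideal A) [hm : m.IsMaximal] (hτ : ∀ a ∈ m, τ a ∈ m) (κ : BC τ P)
    (hκ : BC.lift τ Φ κ = 0) : κ ∈ m • (⊤ : Submodule A (BC τ P)) := by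
  letI : Field (A ⧸ m) := Ideal.Quotient.field m
  set V' := P ⧸ (m • ⊤ : Submodule A P) with hV'
  let b := Module.finBasis (A ⧸ m) V'
  set r := Module.finrank (A ⧸ m) V' with hr
  choose x hx using fun i => Submodule.Quotient.mk_surjective (m • ⊤ : Submodule A P) (b i)
  have mk_sum : ∀ (f : Fin r → P), (Submodule.Quotient.mk (∑ i, f i) : V') =
      ∑ i, (Submodule.Quotient.mk (f i) : V') :=
    fun f => map_sum (Submodule.mkQ (m • ⊤ : Submodule A P)) f _
  -- Step 1
  have step1 : ∀ y : P, ∃ (cf : Fin r → A), y - ∑ i, cf i • x i ∈ (m • ⊤ : Submodule A P) := by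
    intro y
    choose cf hcf using fun i =>
      Ideal.Quotient.mk_surjective (b.repr (Submodule.Quotient.mk y) i)
    refine ⟨cf, ?_⟩
    rw [← Submodule.Quotient.mk_eq_zero, Submodule.Quotient.mk_sub, sub_eq_zero,
      mk_sum]
    conv_lhs => rw [← b.sum_repr (Submodule.Quotient.mk y)]
    refine Finset.sum_congr rfl fun i _ => ?_
    rw [← hcf i, ← hx i]
    rfl
  -- Step 2
  have step2 : ∀ z : BC τ P, ∃ (cf : Fin r → A),
      z - ∑ i, cf i • BC.tmul τ 1 (x i) ∈ (m • ⊤ : Submodule A (BC τ P)) := by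
    intro z
    induction z using BC.induction_on with
    | zero => exact ⟨0, by simp⟩
    | tmul w y =>
      obtain ⟨cf, hcf⟩ := step1 y
      refine ⟨fun i => w * τ (cf i), ?_⟩
      have h1 : BC.tmul τ w y = BC.tmul τ w (y - ∑ i, cf i • x i) +
          ∑ i, (w * τ (cf i)) • BC.tmul τ 1 (x i) := by
        have : ∑ i, (w * τ (cf i)) • BC.tmul τ 1 (x i) = BC.tmul τ w (∑ i, cf i • x i) := by
          rw [BC.tmul_eq_smul_tmul_one, ← BC.ι_apply, map_sum, Finset.smul_sum]
          refine Finset.sum_congr rfl fun i _ => ?_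
          rw [map_smulₛₗ, smul_smul, BC.ι_apply]
        rw [this, ← BC.tmul_add, sub_add_cancel]
      rw [h1, add_sub_cancel_right]
      exact tmul_mem_of_mem τ m hτ w _ hcf
    | add z₁ z₂ h₁ h₂ =>
      obtain ⟨c₁, hc₁⟩ := h₁
      obtain ⟨c₂, hc₂⟩ := h₂
      refine ⟨c₁ + c₂, ?_⟩
      have : z₁ + z₂ - ∑ i, (c₁ + c₂) i • BC.tmul τ 1 (x i) =
          (z₁ - ∑ i, c₁ i • BC.tmul τ 1 (x i)) + (z₂ - ∑ i, c₂ i • BC.tmul τ 1 (x i)) := by
        simp only [Pi.add_apply, add_smul, Finset.sum_add_distrib]; abel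
      rw [this]
      exact Submodule.add_mem _ hc₁ hc₂
  -- Step 3: the images `Φ (x i)` span `V'`
  have step3 : ⊤ ≤ Submodule.span (A ⧸ m)
      (Set.range fun i => (Submodule.Quotient.mk (Φ (x i)) : V')) := by
    intro v _
    obtain ⟨y, rfl⟩ := Submodule.Quotient.mk_surjective _ v
    obtain ⟨z, rfl⟩ := hΦ y
    obtain ⟨cf, hcf⟩ := step2 z
    have h1 := map_mem_of_mem m (BC.lift τ Φ) _ hcf
    rw [map_sub, map_sum] at h1
    have h2 : (Submodule.Quotient.mk (BC.lift τ Φ z) : V') =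
        ∑ i, Ideal.Quotient.mk m (cf i) • (Submodule.Quotient.mk (Φ (x i)) : V') := by
      rw [← sub_eq_zero]
      have : ∑ i, Ideal.Quotient.mk m (cf i) • (Submodule.Quotient.mk (Φ (x i)) : V') =
          Submodule.Quotient.mk (∑ i, (BC.lift τ Φ) (cf i • BC.tmul τ 1 (x i))) := by
        rw [mk_sum]
        refine Finset.sum_congr rfl fun i _ => ?_
        rw [map_smul, BC.lift_tmul, one_smul]
        rfl
      rw [this, ← Submodule.Quotient.mk_sub, Submodule.Quotient.mk_eq_zero]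
      exact h1
    rw [h2]
    exact Submodule.sum_mem _ fun i _ =>
      Submodule.smul_mem _ _ (Submodule.subset_span ⟨i, rfl⟩)
  -- Step 4
  have step4 : LinearIndependent (A ⧸ m)
      (fun i => (Submodule.Quotient.mk (Φ (x i)) : V')) :=
    linearIndependent_of_top_le_span_of_card_eq_finrank step3 (by rw [Fintype.card_fin])
  -- Step 5
  obtain ⟨cf, hcf⟩ := step2 κ
  have h1 := map_mem_of_mem m (BC.lift τ Φ) _ hcf
  rw [map_sub, map_sum, hκ, zero_sub, Submodule.neg_mem_iff] at h1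
  have h2 : ∑ i, Ideal.Quotient.mk m (cf i) • (Submodule.Quotient.mk (Φ (x i)) : V') = 0 := by
    have : ∑ i, Ideal.Quotient.mk m (cf i) • (Submodule.Quotient.mk (Φ (x i)) : V') =
        Submodule.Quotient.mk (∑ i, (BC.lift τ Φ) (cf i • BC.tmul τ 1 (x i))) := by
      rw [mk_sum]
      refine Finset.sum_congr rfl fun i _ => ?_
      rw [map_smul, BC.lift_tmul, one_smul]
      rfl
    rw [this, Submodule.Quotient.mk_eq_zero]
    exact h1
  have h3 := Fintype.linearIndependent_iff.mp step4 _ h2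
  have h4 : κ = (κ - ∑ i, cf i • BC.tmul τ 1 (x i)) + ∑ i, cf i • BC.tmul τ 1 (x i) := by abel
  rw [h4]
  refine Submodule.add_mem _ hcf (Submodule.sum_mem _ fun i _ => ?_)
  exact Submodule.smul_mem_smul (Ideal.Quotient.eq_zero_iff_mem.mp (h3 i)) Submodule.mem_top

omit [Module.Finite A P] in
theorem tmul_one_mem_span (s : Set P) (x : P) (hx : x ∈ Submodule.span A s) :
    BC.tmul τ 1 x ∈ Submodule.span A ((fun y => BC.tmul τ 1 y) '' s) := by
  induction hx using Submodule.span_induction with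
  | mem y hy => exact Submodule.subset_span ⟨y, hy, rfl⟩
  | zero => rw [BC.tmul_zero]; exact Submodule.zero_mem _
  | add a b _ _ ha hb => rw [BC.tmul_add]; exact Submodule.add_mem _ ha hb
  | smul a y _ hy =>
    rw [← BC.tmul_apply_eq, BC.tmul_eq_smul_tmul_one]
    exact Submodule.smul_mem _ _ hy

instance finite_BC : Module.Finite A (BC τ P) := by
  classical
  obtain ⟨s, hs⟩ := (Module.Finite.fg_top : (⊤ : Submodule A P).FG)
  refine ⟨⟨s.image (fun y => BC.tmul τ 1 y), ?_⟩⟩
  rw [eq_top_iff]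
  intro z _
  rw [Finset.coe_image]
  induction z using BC.induction_on with
  | zero => exact Submodule.zero_mem _
  | tmul b x =>
    rw [BC.tmul_eq_smul_tmul_one]
    refine Submodule.smul_mem _ _ (tmul_one_mem_span τ _ x ?_)
    rw [hs]; trivial
  | add z₁ z₂ h₁ h₂ => exact Submodule.add_mem _ (h₁ trivial) (h₂ trivial)

/-- **Injectivity of a surjective linearisation.** -/
theorem lift_injective [Module.Projective A P] (Φ : P →ₛₗ[τ] P)
    (hΦ : Function.Surjective (BC.lift τ Φ))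
    (hτ : ∀ m : Ideal A, m.IsMaximal → ∀ a ∈ m, τ a ∈ m) :
    Function.Injective (BC.lift τ Φ) := by
  obtain ⟨s, hs⟩ := (BC.lift τ Φ).exists_rightInverse_of_surjective (LinearMap.range_eq_top.mpr hΦ)
  set pr : BC τ P →ₗ[A] BC τ P := LinearMap.id - s ∘ₗ BC.lift τ Φ with hpr
  set K := LinearMap.ker (BC.lift τ Φ) with hK
  have hs' : ∀ y, BC.lift τ Φ (s y) = y := fun y => LinearMap.congr_fun hs y
  have hpr1 : ∀ z, pr z ∈ K := by
    intro z
    rw [hK, LinearMap.mem_ker, hpr, LinearMap.sub_apply, map_sub, LinearMap.id_apply,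
      LinearMap.comp_apply, hs', sub_self]
  have hpr2 : ∀ κ ∈ K, pr κ = κ := by
    intro κ hκ
    rw [hK, LinearMap.mem_ker] at hκ
    rw [hpr, LinearMap.sub_apply, LinearMap.id_apply, LinearMap.comp_apply, hκ, map_zero, sub_zero]
  have hKrange : K = Submodule.map pr ⊤ := by
    apply le_antisymm
    · intro κ hκ
      exact ⟨κ, Submodule.mem_top, hpr2 κ hκ⟩
    · rintro _ ⟨z, _, rfl⟩
      exact hpr1 z
  have hKfg : K.FG := by
    rw [hKrange]
    exact Submodule.FG.map pr Module.Finite.fg_top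
  have hle : ∀ m : Ideal A, m.IsMaximal → K ≤ m • K := by
    intro m hm κ hκ
    have h1 : κ ∈ m • (⊤ : Submodule A (BC τ P)) := by
      haveI := hm
      exact ker_le_smul τ Φ hΦ m (hτ m hm) κ (by rwa [hK, LinearMap.mem_ker] at hκ)
    rw [← hpr2 κ hκ]
    refine Submodule.smul_induction_on h1 ?_ ?_
    · intro a ha y _
      rw [map_smul]
      exact Submodule.smul_mem_smul ha (hpr1 y)
    · intro a b ha hb
      rw [map_add]
      exact Submodule.add_mem _ ha hb
  have hann : K.annihilator = ⊤ := by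
    by_contra hne
    obtain ⟨m, hm, hle'⟩ := Ideal.exists_le_maximal _ hne
    obtain ⟨r, hr1, hr2⟩ :=
      Submodule.exists_sub_one_mem_and_smul_eq_zero_of_fg_of_le_smul m K hKfg (hle m hm)
    have h1 : r ∈ m := hle' (Submodule.mem_annihilator.mpr hr2)
    have h2 : (1 : A) ∈ m := by
      have := m.sub_mem h1 hr1
      rwa [sub_sub_cancel] at this
    exact hm.ne_top ((Ideal.eq_top_iff_one m).mpr h2)
  have hKbot : K = ⊥ := by
    rw [eq_bot_iff]
    intro κ hκ
    have : (1 : A) ∈ K.annihilator := by rw [hann]; trivial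
    have := Submodule.mem_annihilator.mp this κ hκ
    rwa [one_smul] at this
  exact LinearMap.ker_eq_bot.mp hKbot

end Abstract

/-! ### Frobenius preserves the maximal ideals of `W(R)` when `p` is nilpotent in `R` -/
section Witt

variable {p : ℕ} [hp : Fact p.Prime] {R : Type u} [CommRing R]

theorem isAdicComplete_of_pow_eq_bot (I : Ideal R) (N : ℕ) (h : I ^ N = ⊥) : IsAdicComplete I R := by
  refine { toIsHausdorff := ⟨fun x hx => ?_⟩, toIsPrecomplete := ⟨fun {f} hf => ?_⟩ }
  · have := hx N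
    rw [h, Submodule.bot_smul, SModEq.sub_mem, sub_zero, Submodule.mem_bot] at this
    exact this
  · refine ⟨f N, fun n => ?_⟩
    rcases le_total n N with hn | hn
    · exact hf hn
    · have := hf hn
      rw [h, Submodule.bot_smul, SModEq.sub_mem, Submodule.mem_bot, sub_eq_zero] at this
      rw [this]

theorem frobenius_mem_of_mem_maximal (hpn : IsNilpotent (p : R)) (m : Ideal (WittVector p R))
    (hm : m.IsMaximal) (a : WittVector p R) (ha : a ∈ m) : frobenius a ∈ m := by
  obtain ⟨N, hN⟩ := hpn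
  haveI : IsAdicComplete (Ideal.span {(p : R)}) R :=
    isAdicComplete_of_pow_eq_bot _ N (by rw [Ideal.span_singleton_pow, hN]; simp)
  haveI := WittTop.isAdicComplete_IR p (R := R)
  have hIR : WittTop.IR p R ≤ m :=
    (IsAdicComplete.le_jacobson_bot (WittTop.IR p R)).trans (sInf_le ⟨bot_le, hm⟩)
  have hpm : (p : WittVector p R) ∈ m := by
    refine hm.isPrime.mem_of_pow_mem N (hIR ?_)
    rw [WittTop.mem_IR_iff, WittTop.natCast_pow_coeff_zero, hN]
  rw [WittShift.frobenius_eq]
  refine m.add_mem ?_ (m.mul_mem_right _ hpm)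
  rw [map_pow]
  refine Ideal.pow_mem_of_mem _ ?_ _ hp.out.pos
  have h1 := WittShift.eq_teich_add a
  have h2 : teichmuller p (a.coeff 0) = a - verschiebung (a.shift 1) := by
    rw [eq_sub_iff_add_eq]; exact h1.symm
  rw [h2]
  exact m.sub_mem ha (hIR (WittTop.verschiebung_mem_IR p _))

end Witt

/-! ### The operator `Φ = V⁻¹|_L ⊕ F|_T` and `V^#` -/
section Disp

variable {p : ℕ} [hp : Fact p.Prime] {R : Type u} [CommRing R]
variable {P : Type v} [AddCommGroup P] [Module (WittVector p R) P]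

local notation "σ" => (WittVector.frobenius : WittVector p R →+* WittVector p R)

variable (D : Display3n p R P) (L T : Submodule (WittVector p R) P) (hc : IsCompl L T)
  (hQ : D.Q = L ⊔ IV p R • T)

include hQ in
theorem L_le_Q : L ≤ D.Q := by rw [hQ]; exact le_sup_left

/-- the projection onto `L` with values in `Q` -/
def πLQ : P →ₗ[WittVector p R] D.Q :=
  LinearMap.codRestrict D.Q (L.projection T hc)
    (fun x => L_le_Q D L T hQ (Submodule.projection_apply_mem hc x))

/-- `Φ = V⁻¹ ∘ π_L + F ∘ π_T` -/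
def Phi : P →ₛₗ[(WittVector.frobenius : WittVector p R →+* WittVector p R)] P :=
  D.Vinv.comp (πLQ D L T hc hQ) + D.F.comp (T.projection L hc.symm)

theorem Phi_apply (x : P) :
    Phi D L T hc hQ x = D.Vinv ⟨L.projection T hc x,
      L_le_Q D L T hQ (Submodule.projection_apply_mem hc x)⟩ + D.F (T.projection L hc.symm x) :=
  rfl

theorem Phi_of_mem_L (l : P) (hl : l ∈ L) (h : l ∈ D.Q) : Phi D L T hc hQ l = D.Vinv ⟨l, h⟩ := by
  rw [Phi_apply, Submodule.projection_apply_of_mem_right hc.symm hl, map_zero, add_zero]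
  exact Groth.Agent.Lib.Helper18.DispLib.Vinv_congr D
    (Submodule.projection_apply_of_mem_left hc hl) _ _

theorem Phi_of_mem_T (t : P) (ht : t ∈ T) : Phi D L T hc hQ t = D.F t := by
  rw [Phi_apply, Submodule.projection_apply_of_mem_left hc.symm ht]
  have h0 : L.projection T hc t = 0 := Submodule.projection_apply_of_mem_right hc ht
  have : D.Vinv ⟨L.projection T hc t,
      L_le_Q D L T hQ (Submodule.projection_apply_mem hc t)⟩ = D.Vinv ⟨0, D.Q.zero_mem⟩ :=
    Groth.Agent.Lib.Helper18.DispLib.Vinv_congr D h0 _ _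
  rw [this]
  have h1 : (⟨0, D.Q.zero_mem⟩ : D.Q) = 0 := rfl
  rw [h1, map_zero, zero_add]

theorem lift_Phi_surjective : Function.Surjective (BC.lift σ (Phi D L T hc hQ)) := by
  rw [← LinearMap.range_eq_top, eq_top_iff, ← D.span_range_Vinv, Submodule.span_le]
  rintro _ ⟨y, rfl⟩
  refine Groth.Agent.Lib.Helper18.DispLib.Vinv_mem_of_normal D L T hQ _ ?_ ?_ y
  · intro l hl h
    refine ⟨BC.tmul σ 1 l, ?_⟩
    rw [BC.lift_tmul, one_smul, Phi_of_mem_L D L T hc hQ l hl h]
  · intro t ht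
    refine ⟨BC.tmul σ 1 t, ?_⟩
    rw [BC.lift_tmul, one_smul, Phi_of_mem_T D L T hc hQ t ht]

theorem lift_Phi_bijective (hpn : IsNilpotent (p : R)) :
    Function.Bijective (BC.lift σ (Phi D L T hc hQ)) := by
  haveI := D.finite
  haveI := D.projective
  exact ⟨lift_injective σ _ (lift_Phi_surjective D L T hc hQ)
    (fun m hm a ha => frobenius_mem_of_mem_maximal hpn m hm a ha), lift_Phi_surjective D L T hc hQ⟩

variable (hpn : IsNilpotent (p : R))

/-- the inverse of the linearisation of `Φ` -/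
def Psi : P →ₗ[WittVector p R]
    BC (WittVector.frobenius : WittVector p R →+* WittVector p R) P :=
  (LinearEquiv.ofBijective _ (lift_Phi_bijective D L T hc hQ hpn)).symm.toLinearMap

theorem Psi_lift (z : BC σ P) : Psi D L T hc hQ hpn (BC.lift σ (Phi D L T hc hQ) z) = z :=
  (LinearEquiv.ofBijective _ (lift_Phi_bijective D L T hc hQ hpn)).symm_apply_apply z

/-- `1 ⊗ π_L + p (1 ⊗ π_T)` -/
def Theta : BC (WittVector.frobenius : WittVector p R →+* WittVector p R) P →ₗ[WittVector p R]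
    BC (WittVector.frobenius : WittVector p R →+* WittVector p R) P :=
  BC.map _ (L.projection T hc) + (p : WittVector p R) • BC.map _ (T.projection L hc.symm)

theorem Theta_tmul (w : WittVector p R) (x : P) :
    Theta L T hc (BC.tmul σ w x) = BC.tmul σ w (L.projection T hc x) +
      (p : WittVector p R) • BC.tmul σ w (T.projection L hc.symm x) := by
  rw [Theta, LinearMap.add_apply, LinearMap.smul_apply, BC.map_tmul, BC.map_tmul]

/-- the operator `V^#` -/
def Vs : P →ₗ[WittVector p R]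
    BC (WittVector.frobenius : WittVector p R →+* WittVector p R) P :=
  (Theta L T hc).comp (Psi D L T hc hQ hpn)

theorem Vs_Vinv_of_mem_L (l : P) (hl : l ∈ L) (h : l ∈ D.Q) :
    Vs D L T hc hQ hpn (D.Vinv ⟨l, h⟩) = BC.tmul σ 1 l := by
  have h1 : D.Vinv ⟨l, h⟩ = BC.lift σ (Phi D L T hc hQ) (BC.tmul σ 1 l) := by
    rw [BC.lift_tmul, one_smul, Phi_of_mem_L D L T hc hQ l hl h]
  rw [Vs, LinearMap.comp_apply, h1, Psi_lift, Theta_tmul,
    Submodule.projection_apply_of_mem_left hc hl,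
    Submodule.projection_apply_of_mem_right hc.symm hl, BC.tmul_zero, smul_zero, add_zero]

theorem Vs_smul_F_of_mem_T (w : WittVector p R) (t : P) (ht : t ∈ T) :
    Vs D L T hc hQ hpn (w • D.F t) = (p : WittVector p R) • BC.tmul σ w t := by
  have h1 : w • D.F t = BC.lift σ (Phi D L T hc hQ) (BC.tmul σ w t) := by
    rw [BC.lift_tmul, Phi_of_mem_T D L T hc hQ t ht]
  rw [Vs, LinearMap.comp_apply, h1, Psi_lift, Theta_tmul,
    Submodule.projection_apply_of_mem_right hc ht,
    Submodule.projection_apply_of_mem_left hc.symm ht, BC.tmul_zero, zero_add]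

theorem tmul_verschiebung_smul (w : WittVector p R) (x : P) :
    BC.tmul σ 1 (verschiebung w • x) = (p : WittVector p R) • BC.tmul σ w x := by
  rw [← BC.tmul_apply_eq, frobenius_verschiebung, mul_comm, ← BC.smul_tmul]

theorem Vs_Vinv_of_mem_IV_smul (τ : P) (hτ : τ ∈ IV p R • T) :
    ∃ h : τ ∈ D.Q, Vs D L T hc hQ hpn (D.Vinv ⟨τ, h⟩) = BC.tmul σ 1 τ := by
  refine Submodule.smul_induction_on
    (p := fun τ => ∃ h : τ ∈ D.Q, Vs D L T hc hQ hpn (D.Vinv ⟨τ, h⟩) = BC.tmul σ 1 τ) hτ ?_ ?_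
  · intro r hr t ht
    obtain ⟨w, rfl⟩ := (Groth.Agent.Lib.Helper18.DispLib.mem_IV_iff r).1 hr
    refine ⟨Groth.Agent.Lib.Helper18.DispLib.verschiebung_smul_mem D w t, ?_⟩
    rw [Groth.Agent.Lib.Helper18.DispLib.Vinv_verschiebung_smul',
      Vs_smul_F_of_mem_T D L T hc hQ hpn w t ht, tmul_verschiebung_smul]
  · rintro a b ⟨ha, ha'⟩ ⟨hb, hb'⟩
    refine ⟨D.Q.add_mem ha hb, ?_⟩
    have h1 : (⟨a + b, D.Q.add_mem ha hb⟩ : D.Q) = ⟨a, ha⟩ + ⟨b, hb⟩ := rfl
    rw [h1, map_add, map_add, ha', hb', BC.tmul_add]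

theorem Vs_Vinv (y : D.Q) : Vs D L T hc hQ hpn (D.Vinv y) = BC.tmul σ 1 (y : P) := by
  obtain ⟨y, hy⟩ := y
  have hy' := hy
  rw [hQ, Submodule.mem_sup] at hy'
  obtain ⟨l, hl, τ, hτ, rfl⟩ := hy'
  obtain ⟨hτQ, hτ'⟩ := Vs_Vinv_of_mem_IV_smul D L T hc hQ hpn τ hτ
  have hlQ := L_le_Q D L T hQ hl
  have h1 : (⟨l + τ, hy⟩ : D.Q) = ⟨l, hlQ⟩ + ⟨τ, hτQ⟩ := rfl
  change Vs D L T hc hQ hpn (D.Vinv ⟨l + τ, hy⟩) = BC.tmul σ 1 (l + τ)
  rw [BC.tmul_add, h1, map_add, map_add, Vs_Vinv_of_mem_L D L T hc hQ hpn l hl hlQ, hτ']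

theorem Vs_F (x : P) : Vs D L T hc hQ hpn (D.F x) = (p : WittVector p R) • BC.tmul σ 1 x := by
  have hx : L.projection T hc x + T.projection L hc.symm x = x :=
    Submodule.projection_add_projection_eq_self hc x
  have hLx := Submodule.projection_apply_mem hc x
  have hTx := Submodule.projection_apply_mem hc.symm x
  have hlQ := L_le_Q D L T hQ hLx
  conv_lhs => rw [← hx]
  rw [map_add, Groth.Agent.Lib.Helper18.DispLib.F_coe_eq_p_smul_Vinv D ⟨_, hlQ⟩, map_add, map_smul,
    Vs_Vinv_of_mem_L D L T hc hQ hpn _ hLx hlQ]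
  have := Vs_smul_F_of_mem_T D L T hc hQ hpn 1 _ hTx
  rw [one_smul] at this
  rw [this, ← smul_add, ← BC.tmul_add, hx]

theorem isVSharp_Vs : IsVSharp D (Vs D L T hc hQ hpn) where
  app_smul_F w x := by
    rw [map_smul, Vs_F, smul_comm, BC.smul_tmul, mul_one]
  app_smul_Vinv w y := by
    rw [map_smul, Vs_Vinv, BC.smul_tmul, mul_one]

end Disp

/-- **Existence and uniqueness of `V^#`.** -/
theorem existsUnique_vSharp {p : ℕ} [Fact p.Prime] {R : Type u} [CommRing R]
    (hpn : IsNilpotent (p : R))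
    {P : Type v} [AddCommGroup P] [Module (WittVector p R) P] (D : Display3n p R P) :
    ∃! Vs : P →ₗ[WittVector p R] BC (WittVector.frobenius : WittVector p R →+* WittVector p R) P,
      IsVSharp D Vs := by
  obtain ⟨L, T, hc, hQ⟩ := D.exists_normal
  refine ⟨Vs D L T hc hQ hpn, isVSharp_Vs D L T hc hQ hpn, ?_⟩
  intro Vs' hVs'
  refine LinearMap.ext_on_range (v := fun y : D.Q => D.Vinv y) D.span_range_Vinv ?_
  intro y
  have h1 := hVs'.app_smul_Vinv 1 y
  have h2 := (isVSharp_Vs D L T hc hQ hpn).app_smul_Vinv 1 y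
  rw [one_smul] at h1 h2
  rw [h1, h2]

end Groth.Agent.Lib.Helper22.DispPhi
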