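import Mathlib
import Groth.Prelude.Def_Disp2
import Groth.Agent.Lib.Helper18.Disp
import Groth.Agent.Lib.Helper18.Disp2
import Groth.Agent.Lib.Helper22.WittShift

/-! Rigidity of homomorphisms of displays (helper22): a homomorphism of displays with values in
`W(𝔟)P'` has values in `W(𝔟')P'` when `𝔟² + p𝔟 ⊆ 𝔟'`. -/

set_option autoImplicit false
set_option linter.unusedSectionVars false
universe u v w
noncomputable section
namespace Groth.Agent.Lib.Helper22.DispRigid

open Dieu W4c1extbt610 WittVector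

/-! ### A semilinear map on a subquotient from a function which is semilinear modulo `X` -/
section Quot

variable {A : Type u} [CommRing A] (τ : A →+* A) {N : Type v} [AddCommGroup N] [Module A N]
  (X Y : Submodule A N) (v : N → N)
  (hadd : ∀ a ∈ Y, ∀ b ∈ Y, v (a + b) - v a - v b ∈ X)
  (hsmul : ∀ (c : A), ∀ a ∈ Y, v (c • a) - τ c • v a ∈ X)
  (hY : ∀ a ∈ Y, v a ∈ Y) (hX : ∀ a ∈ X, a ∈ Y → v a ∈ X)

/-- the subquotient `Y / (X ∩ Y)` -/
abbrev MQ := ↥Y ⧸ (X.comap Y.subtype)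

/-- auxiliary semilinear map `Y → Y/X` -/
def vaux : ↥Y →ₛₗ[τ] MQ X Y where
  toFun y := Submodule.Quotient.mk ⟨v y, hY y y.2⟩
  map_add' a b := by
    rw [← Submodule.Quotient.mk_add, Submodule.Quotient.eq, Submodule.mem_comap]
    change v ((a : N) + b) - (v a + v b) ∈ X
    rw [← sub_sub]
    exact hadd a a.2 b b.2
  map_smul' c a := by
    rw [← Submodule.Quotient.mk_smul, Submodule.Quotient.eq, Submodule.mem_comap]
    change v (c • (a : N)) - τ c • v a ∈ X
    exact hsmul c a a.2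

/-- the induced semilinear endomorphism of `Y/X` -/
def vbar : MQ X Y →ₛₗ[τ] MQ X Y :=
  (X.comap Y.subtype).liftQ (vaux τ X Y v hadd hsmul hY) (by
    intro y hy
    rw [Submodule.mem_comap] at hy
    rw [LinearMap.mem_ker]
    change Submodule.Quotient.mk _ = 0
    rw [Submodule.Quotient.mk_eq_zero, Submodule.mem_comap]
    exact hX y hy y.2)

theorem vbar_mk (y : ↥Y) :
    vbar τ X Y v hadd hsmul hY hX (Submodule.Quotient.mk y) =
      Submodule.Quotient.mk ⟨v y, hY y y.2⟩ := rfl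

end Quot

variable {p : ℕ} [hp : Fact p.Prime] {S : Type u} [CommRing S]

local notation "σ" => (WittVector.frobenius : WittVector p S →+* WittVector p S)

/-! ### Nilpotence lemma -/
section Nilp

variable {P : Type v} [AddCommGroup P] [Module (WittVector p S) P]
variable {M : Type w} [AddCommGroup M] [Module (WittVector p S) M]

/-- iterate of a Frobenius-semilinear endomorphism -/
def Vpow (𝒱 : M →ₛₗ[σ] M) (n : ℕ) : M →ₛₗ[σ ^ (n + 1)] M where
  toFun := (⇑𝒱)^[n + 1]
  map_add' a b := by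
    induction n with
    | zero => simp
    | succ n ih =>
      rw [Function.iterate_succ_apply', ih, map_add, ← Function.iterate_succ_apply' (⇑𝒱),
        ← Function.iterate_succ_apply' (⇑𝒱)]
  map_smul' c a := by
    induction n with
    | zero => simp
    | succ n ih =>
      rw [Function.iterate_succ_apply', ih, map_smulₛₗ, ← Function.iterate_succ_apply' (⇑𝒱)]
      congr 1
      rw [pow_succ' _ (n + 1)]; rfl

theorem Vpow_apply (𝒱 : M →ₛₗ[σ] M) (n : ℕ) (m : M) : Vpow 𝒱 n m = (⇑𝒱)^[n + 1] m := rfl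

theorem Vpow_succ_apply (𝒱 : M →ₛₗ[σ] M) (n : ℕ) (m : M) :
    Vpow 𝒱 (n + 1) m = 𝒱 (Vpow 𝒱 n m) := by
  rw [Vpow_apply, Vpow_apply, Function.iterate_succ_apply']

theorem Vpow_zero_apply (𝒱 : M →ₛₗ[σ] M) (m : M) : Vpow 𝒱 0 m = 𝒱 m := rfl

/-- key compatibility of the iterated linearisations with the transitivity map -/
theorem lift_push (𝒱 : M →ₛₗ[σ] M) (g : P →ₗ[WittVector p S] M) (n : ℕ)
    (u : BC (σ ^ (n + 1)) P) :
    BC.lift (σ ^ (n + 1 + 1)) ((Vpow 𝒱 (n + 1)).comp g)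
        (BC.castHom (comp_pow_eq_pow_succ σ (n + 1)) (BC.push (σ ^ (n + 1)) σ u)) =
      𝒱 (BC.lift (σ ^ (n + 1)) ((Vpow 𝒱 n).comp g) u) := by
  induction u using BC.induction_on with
  | zero => simp only [map_zero]
  | tmul b x =>
    rw [BC.push_tmul, BC.castHom_tmul, BC.lift_tmul, BC.lift_tmul, map_smulₛₗ,
      LinearMap.comp_apply, LinearMap.comp_apply, Vpow_succ_apply]
  | add z₁ z₂ h₁ h₂ => simp only [map_add, h₁, h₂]

theorem lift_cast (𝒱 : M →ₛₗ[σ] M) (g : P →ₗ[WittVector p S] M)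
    {τ : WittVector p S →+* WittVector p S} (e : σ = τ) (𝒱τ : M →ₛₗ[τ] M)
    (h : ∀ m, 𝒱τ m = 𝒱 m) (z : BC σ P) :
    BC.lift τ (𝒱τ.comp g) (BC.castHom e z) = BC.lift σ (𝒱.comp g) z := by
  induction z using BC.induction_on with
  | zero => simp only [map_zero]
  | tmul b x =>
    rw [BC.castHom_tmul, BC.lift_tmul, BC.lift_tmul, LinearMap.comp_apply, LinearMap.comp_apply, h]
  | add z₁ z₂ h₁ h₂ => simp only [map_add, h₁, h₂]

variable (D : Display3n p S P)
  (Vs : P →ₗ[WittVector p S] BC (WittVector.frobenius : WittVector p S →+* WittVector p S) P)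
  (hVs : IsVSharp D Vs)

include hVs in
theorem eq_lift_Vs (𝒱 : M →ₛₗ[σ] M) (g : P →ₗ[WittVector p S] M)
    (hg : ∀ y : D.Q, g (D.Vinv y) = 𝒱 (g y)) (x : P) :
    g x = BC.lift σ (𝒱.comp g) (Vs x) := by
  have : g = (BC.lift σ (𝒱.comp g)).comp Vs := by
    refine LinearMap.ext_on_range (v := fun y : D.Q => D.Vinv y) D.span_range_Vinv ?_
    intro y
    have h1 := hVs.app_smul_Vinv 1 y
    rw [one_smul] at h1
    rw [LinearMap.comp_apply, h1, BC.lift_tmul, one_smul, LinearMap.comp_apply]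
    exact hg y
  exact LinearMap.congr_fun this x

include hVs in
theorem eq_lift_vSharpPow (𝒱 : M →ₛₗ[σ] M) (g : P →ₗ[WittVector p S] M)
    (hg : ∀ y : D.Q, g (D.Vinv y) = 𝒱 (g y)) (n : ℕ) (x : P) :
    g x = BC.lift (σ ^ (n + 1)) ((Vpow 𝒱 n).comp g) (vSharpPow Vs n x) := by
  induction n generalizing x with
  | zero =>
    rw [vSharpPow_zero_apply]
    rw [lift_cast 𝒱 g (pow_one σ).symm (Vpow 𝒱 0) (fun m => Vpow_zero_apply 𝒱 m)]
    exact eq_lift_Vs D Vs hVs 𝒱 g hg x
  | succ n ih =>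
    rw [vSharpPow_succ_apply, eq_lift_Vs D Vs hVs 𝒱 g hg x]
    generalize Vs x = z
    induction z using BC.induction_on with
    | zero => simp only [map_zero]
    | tmul w y =>
      rw [BC.map_tmul, BC.lift_tmul, BC.lift_tmul, map_smul, map_smul, lift_push, ← ih y,
        LinearMap.comp_apply]
    | add z₁ z₂ h₁ h₂ => simp only [map_add, h₁, h₂]

include hVs in
/-- **Nilpotence lemma.** A linear map from a display to a module killed by `I_S + p` which
intertwines `V⁻¹` with a Frobenius-semilinear endomorphism is zero. -/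
theorem eq_zero_of_comm (hnil : IsVNilpotent Vs) (𝒱 : M →ₛₗ[σ] M)
    (hM : ∀ r ∈ IV p S ⊔ Ideal.span {(p : WittVector p S)}, ∀ m : M, r • m = 0)
    (g : P →ₗ[WittVector p S] M) (hg : ∀ y : D.Q, g (D.Vinv y) = 𝒱 (g y)) : g = 0 := by
  obtain ⟨n, hn⟩ := hnil
  ext x
  rw [eq_lift_vSharpPow D Vs hVs 𝒱 g hg n x, LinearMap.zero_apply]
  refine Submodule.smul_induction_on (hn x) ?_ ?_
  · intro r hr z _
    rw [map_smul]
    exact hM r hr _
  · intro a b ha hb
    rw [map_add, ha, hb, add_zero]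

end Nilp

/-! ### The extension of `V⁻¹` to `W(𝔟)P'` -/

/-- the properties of the shift operator on `J ⊇ J'` that are used -/
structure ShiftOK (J J' : Ideal (WittVector p S)) : Prop where
  le : J' ≤ J
  add : ∀ x ∈ J, ∀ y ∈ J, (x + y).shift 1 - x.shift 1 - y.shift 1 ∈ J'
  mul : ∀ a, ∀ x ∈ J, (a * x).shift 1 - frobenius a * x.shift 1 ∈ J'
  memJ : ∀ x ∈ J, x.shift 1 ∈ J
  memJ' : ∀ x ∈ J', x.shift 1 ∈ J'
  frob : ∀ x ∈ J, frobenius x - (p : WittVector p S) * x.shift 1 ∈ J'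
  kill : ∀ r ∈ IV p S ⊔ Ideal.span {(p : WittVector p S)}, ∀ x ∈ J, r * x ∈ J'

theorem shiftOK_Wb {𝔟 𝔟' : Ideal S} (h2 : 𝔟 ^ 2 ≤ 𝔟') (hpb : Ideal.span {(p : S)} * 𝔟 ≤ 𝔟')
    (hle : 𝔟' ≤ 𝔟) : ShiftOK (WittShift.Wb (p := p) 𝔟) (WittShift.Wb (p := p) 𝔟') where
  le := WittShift.Wb_mono hle
  add := fun x hx y hy => WittShift.shift_add_sub_mem h2 hpb x y hx hy
  mul := fun a x hx => WittShift.shift_mul_sub_mem h2 hpb a x hx
  memJ := fun x hx => WittShift.shift_mem_Wb _ x hx
  memJ' := fun x hx => WittShift.shift_mem_Wb _ x hx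
  frob := fun x hx => WittShift.frobenius_sub_mem h2 hpb x hx
  kill := by
    intro r hr x hx
    rw [Submodule.mem_sup] at hr
    obtain ⟨i, hi, q, hq, rfl⟩ := hr
    obtain ⟨w, rfl⟩ := (Groth.Agent.Lib.Helper18.DispLib.mem_IV_iff i).1 hi
    obtain ⟨c, rfl⟩ := Ideal.mem_span_singleton'.mp hq
    rw [add_mul, mul_assoc]
    exact Ideal.add_mem _ (WittShift.verschiebung_mul_mem h2 hpb w x hx)
      (Ideal.mul_mem_left _ _ (WittShift.p_mul_mem h2 hpb x hx))

theorem shift_add_of_mem_IV (x y : WittVector p S) (hx : x ∈ IV p S) :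
    (x + y).shift 1 = x.shift 1 + y.shift 1 := by
  obtain ⟨w, rfl⟩ := (Groth.Agent.Lib.Helper18.DispLib.mem_IV_iff x).1 hx
  rw [add_comm, WittShift.shift_add_verschiebung, WittShift.shift_verschiebung, add_comm]

section VJ

variable {P' : Type v} [AddCommGroup P'] [Module (WittVector p S) P'] (D' : Display3n p S P')
variable {n : ℕ} (e : Fin n → P') (c : Fin n → (P' →ₗ[WittVector p S] WittVector p S))

/-- the extension of `V⁻¹` in coordinates -/
def VJ (x : P') : P' := ∑ i, (c i x).shift 1 • D'.F (e i)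

theorem c_mem (I : Ideal (WittVector p S)) (f : P' →ₗ[WittVector p S] WittVector p S) (x : P')
    (hx : x ∈ I • (⊤ : Submodule (WittVector p S) P')) : f x ∈ I := by
  refine Submodule.smul_induction_on hx ?_ ?_
  · intro r hr y _
    rw [map_smul, smul_eq_mul]
    exact Ideal.mul_mem_right _ _ hr
  · intro a b ha hb
    rw [map_add]
    exact Ideal.add_mem _ ha hb

variable {J J' : Ideal (WittVector p S)} (hs : ShiftOK J J')

include hs in
theorem VJ_add (a b : P') (ha : a ∈ J • (⊤ : Submodule (WittVector p S) P'))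
    (hb : b ∈ J • (⊤ : Submodule (WittVector p S) P')) :
    VJ D' e c (a + b) - VJ D' e c a - VJ D' e c b ∈ J' • (⊤ : Submodule (WittVector p S) P') := by
  simp only [VJ, map_add]
  rw [← Finset.sum_sub_distrib, ← Finset.sum_sub_distrib]
  refine Submodule.sum_mem _ fun i _ => ?_
  rw [← sub_smul, ← sub_smul]
  exact Submodule.smul_mem_smul (hs.add _ (c_mem J (c i) a ha) _ (c_mem J (c i) b hb))
    Submodule.mem_top

include hs in
theorem VJ_smul (r : WittVector p S) (a : P') (ha : a ∈ J • (⊤ : Submodule (WittVector p S) P')) :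
    VJ D' e c (r • a) - frobenius r • VJ D' e c a ∈
      J' • (⊤ : Submodule (WittVector p S) P') := by
  simp only [VJ, map_smul, smul_eq_mul, Finset.smul_sum, smul_smul]
  rw [← Finset.sum_sub_distrib]
  refine Submodule.sum_mem _ fun i _ => ?_
  rw [← sub_smul]
  exact Submodule.smul_mem_smul (hs.mul r _ (c_mem J (c i) a ha)) Submodule.mem_top

include hs in
theorem VJ_memJ (a : P') (ha : a ∈ J • (⊤ : Submodule (WittVector p S) P')) :
    VJ D' e c a ∈ J • (⊤ : Submodule (WittVector p S) P') :=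
  Submodule.sum_mem _ fun i _ =>
    Submodule.smul_mem_smul (hs.memJ _ (c_mem J (c i) a ha)) Submodule.mem_top

include hs in
theorem VJ_memJ' (a : P') (ha : a ∈ J' • (⊤ : Submodule (WittVector p S) P')) :
    VJ D' e c a ∈ J' • (⊤ : Submodule (WittVector p S) P') :=
  Submodule.sum_mem _ fun i _ =>
    Submodule.smul_mem_smul (hs.memJ' _ (c_mem J' (c i) a ha)) Submodule.mem_top

variable (hec : ∀ x : P', x = ∑ i, c i x • e i)

include hec in
theorem F_eq_sum (x : P') : D'.F x = ∑ i, frobenius (c i x) • D'.F (e i) := by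
  conv_lhs => rw [hec x]
  rw [map_sum]
  exact Finset.sum_congr rfl fun i _ => map_smulₛₗ _ _ _

include hs hec in
theorem VJ_smul_eq (j : WittVector p S) (hj : j ∈ J) (x : P') :
    VJ D' e c (j • x) - j.shift 1 • D'.F x ∈ J' • (⊤ : Submodule (WittVector p S) P') := by
  rw [F_eq_sum D' e c hec x]
  simp only [VJ, map_smul, smul_eq_mul, Finset.smul_sum, smul_smul]
  rw [← Finset.sum_sub_distrib]
  refine Submodule.sum_mem _ fun i _ => ?_
  rw [← sub_smul]
  have := hs.mul (c i x) j hj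
  rw [mul_comm (c i x) j, mul_comm (frobenius (c i x))] at this
  exact Submodule.smul_mem_smul this Submodule.mem_top

include hec in
/-- on `I_S P'` the coordinate formula computes `V⁻¹` exactly -/
theorem VJ_eq_Vinv_of_mem_IV (τ : P') (hτ : τ ∈ IV p S • (⊤ : Submodule (WittVector p S) P')) :
    ∃ h : τ ∈ D'.Q, VJ D' e c τ = D'.Vinv ⟨τ, h⟩ := by
  have key : τ ∈ IV p S • (⊤ : Submodule (WittVector p S) P') ∧
      ∃ h : τ ∈ D'.Q, VJ D' e c τ = D'.Vinv ⟨τ, h⟩ := by
    refine Submodule.smul_induction_on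
      (p := fun τ => τ ∈ IV p S • (⊤ : Submodule (WittVector p S) P') ∧
        ∃ h : τ ∈ D'.Q, VJ D' e c τ = D'.Vinv ⟨τ, h⟩) hτ ?_ ?_
    · intro r hr x _
      refine ⟨Submodule.smul_mem_smul hr Submodule.mem_top, ?_⟩
      obtain ⟨w, rfl⟩ := (Groth.Agent.Lib.Helper18.DispLib.mem_IV_iff r).1 hr
      refine ⟨Groth.Agent.Lib.Helper18.DispLib.verschiebung_smul_mem D' w x, ?_⟩
      rw [Groth.Agent.Lib.Helper18.DispLib.Vinv_verschiebung_smul', F_eq_sum D' e c hec x,
        Finset.smul_sum]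
      simp only [VJ, map_smul, smul_eq_mul, smul_smul]
      refine Finset.sum_congr rfl fun i _ => ?_
      rw [← verschiebung_mul_frobenius, WittShift.shift_verschiebung]
    · rintro a b ⟨ha, ha', ha''⟩ ⟨hb, hb', hb''⟩
      refine ⟨Submodule.add_mem _ ha hb, D'.Q.add_mem ha' hb', ?_⟩
      have h1 : (⟨a + b, D'.Q.add_mem ha' hb'⟩ : D'.Q) = ⟨a, ha'⟩ + ⟨b, hb'⟩ := rfl
      rw [h1, map_add, ← ha'', ← hb'']
      simp only [VJ, map_add]
      rw [← Finset.sum_add_distrib]
      refine Finset.sum_congr rfl fun i _ => ?_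
      rw [shift_add_of_mem_IV _ _ (c_mem (IV p S) (c i) a ha), add_smul]
  exact key.2

include hs hec in
theorem Vinv_smul_sub_VJ (j : WittVector p S) (hj : j ∈ J) (l : P') (hl : l ∈ D'.Q)
    (h : j • l ∈ D'.Q) :
    D'.Vinv ⟨j • l, h⟩ - VJ D' e c (j • l) ∈ J' • (⊤ : Submodule (WittVector p S) P') := by
  have h1 : (⟨j • l, h⟩ : D'.Q) = j • ⟨l, hl⟩ := rfl
  rw [h1, map_smulₛₗ]
  have h2 := VJ_smul_eq D' e c hs hec j hj l
  have h3 : D'.F l = (p : WittVector p S) • D'.Vinv ⟨l, hl⟩ :=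
    Groth.Agent.Lib.Helper18.DispLib.F_coe_eq_p_smul_Vinv D' ⟨l, hl⟩
  rw [h3, smul_smul] at h2
  have h4 : (frobenius j - (p : WittVector p S) * j.shift 1) • D'.Vinv ⟨l, hl⟩ ∈
      J' • (⊤ : Submodule (WittVector p S) P') :=
    Submodule.smul_mem_smul (hs.frob j hj) Submodule.mem_top
  have h5 : frobenius j • D'.Vinv ⟨l, hl⟩ - VJ D' e c (j • l) =
      (frobenius j - (p : WittVector p S) * j.shift 1) • D'.Vinv ⟨l, hl⟩ -
        (VJ D' e c (j • l) - (j.shift 1 * (p : WittVector p S)) • D'.Vinv ⟨l, hl⟩) := by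
    rw [sub_smul, mul_comm (p : WittVector p S)]; abel
  rw [h5]
  exact Submodule.sub_mem _ h4 h2

include hs hec in
theorem Vinv_proj_sub_VJ (π : P' →ₗ[WittVector p S] P') (hπ : ∀ x, π x ∈ D'.Q) (z : P')
    (hz : z ∈ J • (⊤ : Submodule (WittVector p S) P')) :
    π z ∈ J • (⊤ : Submodule (WittVector p S) P') ∧
      D'.Vinv ⟨π z, hπ z⟩ - VJ D' e c (π z) ∈ J' • (⊤ : Submodule (WittVector p S) P') := by
  refine Submodule.smul_induction_on
    (p := fun z => π z ∈ J • (⊤ : Submodule (WittVector p S) P') ∧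
      D'.Vinv ⟨π z, hπ z⟩ - VJ D' e c (π z) ∈ J' • (⊤ : Submodule (WittVector p S) P')) hz ?_ ?_
  · intro j hj x _
    have hx : π (j • x) = j • π x := map_smul _ _ _
    refine ⟨?_, ?_⟩
    · rw [hx]; exact Submodule.smul_mem_smul hj Submodule.mem_top
    · have h0 : j • π x ∈ D'.Q := D'.Q.smul_mem _ (hπ x)
      have := Vinv_smul_sub_VJ D' e c hs hec j hj (π x) (hπ x) h0
      rw [Groth.Agent.Lib.Helper18.DispLib.Vinv_congr D' hx (hπ _) h0, hx]
      exact this
  · rintro a b ⟨ha, ha'⟩ ⟨hb, hb'⟩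
    have hab : π (a + b) = π a + π b := map_add _ _ _
    refine ⟨?_, ?_⟩
    · rw [hab]; exact Submodule.add_mem _ ha hb
    · have h0 : π a + π b ∈ D'.Q := D'.Q.add_mem (hπ a) (hπ b)
      rw [Groth.Agent.Lib.Helper18.DispLib.Vinv_congr D' hab (hπ _) h0, hab]
      have h1 : (⟨π a + π b, h0⟩ : D'.Q) = ⟨π a, hπ a⟩ + ⟨π b, hπ b⟩ := rfl
      rw [h1, map_add]
      have h2 := VJ_add D' e c hs (π a) (π b) ha hb
      have h3 : D'.Vinv ⟨π a, hπ a⟩ + D'.Vinv ⟨π b, hπ b⟩ - VJ D' e c (π a + π b) =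
          (D'.Vinv ⟨π a, hπ a⟩ - VJ D' e c (π a)) + (D'.Vinv ⟨π b, hπ b⟩ - VJ D' e c (π b)) -
            (VJ D' e c (π a + π b) - VJ D' e c (π a) - VJ D' e c (π b)) := by abel
      rw [h3]
      exact Submodule.sub_mem _ (Submodule.add_mem _ ha' hb') h2

include hs hec in
/-- **`V⁻¹` agrees with its coordinate extension on `Q' ∩ J P'` modulo `J' P'`.** -/
theorem Vinv_sub_VJ_mem (z : P') (hzQ : z ∈ D'.Q)
    (hz : z ∈ J • (⊤ : Submodule (WittVector p S) P')) :
    D'.Vinv ⟨z, hzQ⟩ - VJ D' e c z ∈ J' • (⊤ : Submodule (WittVector p S) P') := by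
  obtain ⟨L, T, hc, hQ⟩ := D'.exists_normal
  have hLQ : L ≤ D'.Q := by rw [hQ]; exact le_sup_left
  set πL := L.projection T hc with hπL
  set πT := T.projection L hc.symm with hπT
  have hsum : πL z + πT z = z := Submodule.projection_add_projection_eq_self hc z
  have hπLQ : ∀ x, πL x ∈ D'.Q := fun x => hLQ (Submodule.projection_apply_mem hc x)
  obtain ⟨hL1, hL2⟩ := Vinv_proj_sub_VJ D' e c hs hec πL hπLQ z hz
  -- the `T`-component lies in `I_S P'`
  have hT1 : πT z ∈ IV p S • (⊤ : Submodule (WittVector p S) P') := by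
    have hz' := hzQ
    rw [hQ, Submodule.mem_sup] at hz'
    obtain ⟨l, hl, t, ht, rfl⟩ := hz'
    have ht' : t ∈ T := Submodule.smul_le_right ht
    rw [map_add, Submodule.projection_apply_of_mem_right hc.symm hl,
      Submodule.projection_apply_of_mem_left hc.symm ht', zero_add]
    exact Submodule.smul_mono le_rfl le_top ht
  have hT2 : πT z ∈ J • (⊤ : Submodule (WittVector p S) P') := by
    have : πT z = z - πL z := eq_sub_of_add_eq' hsum
    rw [this]
    exact Submodule.sub_mem _ hz hL1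
  obtain ⟨hTQ, hT3⟩ := VJ_eq_Vinv_of_mem_IV D' e c hec (πT z) hT1
  have h0 : πL z + πT z ∈ D'.Q := D'.Q.add_mem (hπLQ z) hTQ
  rw [Groth.Agent.Lib.Helper18.DispLib.Vinv_congr D' hsum.symm hzQ h0]
  have h1 : (⟨πL z + πT z, h0⟩ : D'.Q) = ⟨πL z, hπLQ z⟩ + ⟨πT z, hTQ⟩ := rfl
  rw [h1, map_add, ← hT3]
  have h2 := VJ_add D' e c hs (πL z) (πT z) hL1 hT2
  rw [hsum] at h2
  have h3 : D'.Vinv ⟨πL z, hπLQ z⟩ + VJ D' e c (πT z) - VJ D' e c z =
      (D'.Vinv ⟨πL z, hπLQ z⟩ - VJ D' e c (πL z)) -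
        (VJ D' e c z - VJ D' e c (πL z) - VJ D' e c (πT z)) := by abel
  rw [h3]
  exact Submodule.sub_mem _ hL2 h2

end VJ

/-! ### One step of rigidity -/
section Uniq

variable {P : Type v} [AddCommGroup P] [Module (WittVector p S) P]
variable {P' : Type w} [AddCommGroup P'] [Module (WittVector p S) P']

/-- **Rigidity step.** A homomorphism of displays with values in `J P'` has values in `J' P'`. -/
theorem hom_mem_of_mem (D : Display3n p S P) (D' : Display3n p S P') (hD : IsDisplay D)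
    {J J' : Ideal (WittVector p S)} (hs : ShiftOK J J')
    (δ : P →ₗ[WittVector p S] P') (hδ : IsHom D D' δ)
    (h : ∀ x, δ x ∈ J • (⊤ : Submodule (WittVector p S) P')) (x : P) :
    δ x ∈ J' • (⊤ : Submodule (WittVector p S) P') := by
  haveI := D'.finite
  haveI := D'.projective
  obtain ⟨n, f, g, _, _, hfg⟩ := Module.Finite.exists_comp_eq_id_of_projective (WittVector p S) P'
  let e : Fin n → P' := fun i => f (fun j => if i = j then 1 else 0)
  let c : Fin n → (P' →ₗ[WittVector p S] WittVector p S) := fun i => (LinearMap.proj i).comp g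
  have hec : ∀ x : P', x = ∑ i, c i x • e i := by
    intro x
    have h1 : f (g x) = x := LinearMap.congr_fun hfg x
    conv_lhs => rw [← h1, LinearMap.pi_apply_eq_sum_univ f (g x)]
    rfl
  obtain ⟨Vs, hVs, hnil⟩ := hD
  set X : Submodule (WittVector p S) P' := J' • ⊤ with hX
  set Y : Submodule (WittVector p S) P' := J • ⊤ with hY
  let 𝒱 : MQ X Y →ₛₗ[σ] MQ X Y := vbar σ X Y (VJ D' e c)
    (fun a ha b hb => VJ_add D' e c hs a b ha hb)
    (fun r a ha => VJ_smul D' e c hs r a ha)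
    (fun a ha => VJ_memJ D' e c hs a ha)
    (fun a ha _ => VJ_memJ' D' e c hs a ha)
  let g' : P →ₗ[WittVector p S] MQ X Y :=
    (X.comap Y.subtype).mkQ ∘ₗ (LinearMap.codRestrict Y δ h)
  have hM : ∀ r ∈ IV p S ⊔ Ideal.span {(p : WittVector p S)}, ∀ m : MQ X Y, r • m = 0 := by
    intro r hr m
    induction m using Submodule.Quotient.induction_on with
    | H y =>
      rw [← Submodule.Quotient.mk_smul, Submodule.Quotient.mk_eq_zero, Submodule.mem_comap]
      change r • (y : P') ∈ X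
      refine Submodule.smul_induction_on y.2 ?_ ?_
      · intro j hj z _
        rw [smul_smul]
        exact Submodule.smul_mem_smul (hs.kill r hr j hj) Submodule.mem_top
      · intro a b ha hb
        rw [smul_add]
        exact Submodule.add_mem _ ha hb
  have hg : ∀ y : D.Q, g' (D.Vinv y) = 𝒱 (g' y) := by
    intro y
    change Submodule.Quotient.mk (⟨δ (D.Vinv y), h _⟩ : Y) =
      Submodule.Quotient.mk (⟨VJ D' e c (δ y), _⟩ : Y)
    rw [Submodule.Quotient.eq, Submodule.mem_comap]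
    change δ (D.Vinv y) - VJ D' e c (δ y) ∈ X
    rw [hδ.comm_Vinv y]
    exact Vinv_sub_VJ_mem D' e c hs hec (δ y) (hδ.mapsTo y y.2) (h y)
  have h0 := eq_zero_of_comm D Vs hVs hnil 𝒱 hM g' hg
  have h1 : g' x = 0 := by rw [h0]; rfl
  change Submodule.Quotient.mk (⟨δ x, h x⟩ : Y) = 0 at h1
  rw [Submodule.Quotient.mk_eq_zero, Submodule.mem_comap] at h1
  exact h1

end Uniq

end Groth.Agent.Lib.Helper22.DispRigid
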