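import Mathlib
import Groth.Prelude.Def_Disp2
import Groth.Agent.Lib.Helper18.Disp
import Groth.Agent.Lib.Helper18.Disp2
import Groth.Agent.Lib.Helper22.WittShift
import Groth.Agent.Lib.Helper22.DispRigid
import Groth.Agent.Lib.Helper22.DispPhi
import Groth.Agent.S16540

/-! Existence and uniqueness of the base change of a 3n-display (helper22). -/

set_option autoImplicit false
set_option linter.unusedSectionVars false
set_option linter.style.haveILetI false
universe u v w
noncomputable section
namespace Groth.Agent.Lib.Helper22.DispBC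

open Dieu W4c1extbt610 WittVector

/-! ### Generalities on `BC g P` -/
section Gen

variable {A : Type u} {B : Type v} [CommRing A] [CommRing B] (g : A →+* B)
variable {P : Type w} [AddCommGroup P] [Module A P]

theorem tmul_one_mem_span (s : Set P) (x : P) (hx : x ∈ Submodule.span A s) :
    BC.tmul g 1 x ∈ Submodule.span B ((fun y => BC.tmul g 1 y) '' s) := by
  induction hx using Submodule.span_induction with
  | mem y hy => exact Submodule.subset_span ⟨y, hy, rfl⟩
  | zero => rw [BC.tmul_zero]; exact Submodule.zero_mem _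
  | add a b _ _ ha hb => rw [BC.tmul_add]; exact Submodule.add_mem _ ha hb
  | smul a y _ hy =>
    rw [← BC.tmul_apply_eq, BC.tmul_eq_smul_tmul_one]
    exact Submodule.smul_mem _ _ hy

theorem finite_BC [Module.Finite A P] : Module.Finite B (BC g P) := by
  classical
  obtain ⟨s, hs⟩ := (Module.Finite.fg_top : (⊤ : Submodule A P).FG)
  refine ⟨⟨s.image (fun y => BC.tmul g 1 y), ?_⟩⟩
  rw [eq_top_iff]
  intro z _
  rw [Finset.coe_image]
  induction z using BC.induction_on with
  | zero => exact Submodule.zero_mem _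
  | tmul b x =>
    rw [BC.tmul_eq_smul_tmul_one]
    refine Submodule.smul_mem _ _ (tmul_one_mem_span g _ x ?_)
    rw [hs]; trivial
  | add z₁ z₂ h₁ h₂ => exact Submodule.add_mem _ (h₁ trivial) (h₂ trivial)

variable {n : ℕ} (e : Fin n → P) (c : Fin n → (P →ₗ[A] A))

/-- the coordinate functionals on `BC g P` -/
def cR (i : Fin n) : BC g P →ₗ[B] B := BC.lift g ((semilinearOfRingHom g).comp (c i))

theorem cR_tmul (i : Fin n) (w : B) (x : P) : cR g c i (BC.tmul g w x) = w * g (c i x) := by
  rw [cR, BC.lift_tmul, smul_eq_mul]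
  rfl

theorem sum_cR (hec : ∀ x : P, x = ∑ i, c i x • e i) (z : BC g P) :
    z = ∑ i, cR g c i z • BC.tmul g 1 (e i) := by
  induction z using BC.induction_on with
  | zero => simp
  | tmul w x =>
    simp only [cR_tmul, mul_smul]
    rw [← Finset.smul_sum]
    conv_lhs => rw [BC.tmul_eq_smul_tmul_one, hec x, ← BC.ι_apply, map_sum]
    congr 1
    refine Finset.sum_congr rfl fun i _ => ?_
    rw [map_smulₛₗ, BC.ι_apply]
  | add z₁ z₂ h₁ h₂ =>
    conv_lhs => rw [h₁, h₂]
    simp only [map_add, add_smul, Finset.sum_add_distrib]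

theorem projective_BC (hec : ∀ x : P, x = ∑ i, c i x • e i) : Module.Projective B (BC g P) := by
  let i : BC g P →ₗ[B] (Fin n → B) := LinearMap.pi (fun j => cR g c j)
  let s : (Fin n → B) →ₗ[B] BC g P :=
    ∑ j, (LinearMap.proj j : (Fin n → B) →ₗ[B] B).smulRight (BC.tmul g 1 (e j))
  refine Module.Projective.of_split i s ?_
  ext z
  simp only [s, i, LinearMap.comp_apply, LinearMap.sum_apply, LinearMap.smulRight_apply,
    LinearMap.proj_apply, LinearMap.pi_apply, LinearMap.id_apply]
  exact (sum_cR g e c hec z).symm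

end Gen

variable {p : ℕ} [hp : Fact p.Prime] {S R : Type u} [CommRing S] [CommRing R] (f : S →+* R)
variable {P : Type v} [AddCommGroup P] [Module (WittVector p S) P]

local notation "σS" => (WittVector.frobenius : WittVector p S →+* WittVector p S)
local notation "σR" => (WittVector.frobenius : WittVector p R →+* WittVector p R)
local notation "Wf" => (WittVector.map f : WittVector p S →+* WittVector p R)

theorem map_frob (s : WittVector p S) : Wf (σS s) = σR (Wf s) :=
  (WittVector.frobenius_isPoly p).map f s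

/-! ### Base change of a Frobenius-semilinear endomorphism -/
section Semi

/-- `x ↦ 1 ⊗ φ x` -/
def thetaφ (φ : P →ₛₗ[(WittVector.frobenius : WittVector p S →+* WittVector p S)] P) :
    P →ₛₗ[(WittVector.frobenius : WittVector p R →+* WittVector p R).comp
      (WittVector.map f : WittVector p S →+* WittVector p R)]
      BC (WittVector.map f : WittVector p S →+* WittVector p R) P where
  toFun x := BC.tmul Wf 1 (φ x)
  map_add' x y := by rw [map_add, BC.tmul_add]
  map_smul' a x := by
    rw [map_smulₛₗ, ← BC.tmul_apply_eq, BC.tmul_eq_smul_tmul_one, RingHom.comp_apply, map_frob]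

/-- `w ⊗ x ↦ σ w ⊗ φ x` -/
def semiBC (φ : P →ₛₗ[(WittVector.frobenius : WittVector p S →+* WittVector p S)] P) :
    BC (WittVector.map f : WittVector p S →+* WittVector p R) P
      →ₛₗ[(WittVector.frobenius : WittVector p R →+* WittVector p R)]
      BC (WittVector.map f : WittVector p S →+* WittVector p R) P :=
  (BC.lift (RingHom.comp σR Wf) (thetaφ f φ)).comp (BC.push Wf σR)

theorem semiBC_tmul (φ : P →ₛₗ[(WittVector.frobenius : WittVector p S →+* WittVector p S)] P)
    (w : WittVector p R) (x : P) :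
    semiBC f φ (BC.tmul Wf w x) = BC.tmul Wf (σR w) (φ x) := by
  rw [semiBC, LinearMap.comp_apply, BC.push_tmul, BC.lift_tmul]
  change σR w • BC.tmul Wf 1 (φ x) = _
  rw [BC.smul_tmul, mul_one]

end Semi

/-! ### The coordinate formula for `V⁻¹` on `I_R P_R` -/
section VT

variable {n : ℕ}
  (cc : Fin n → (BC (WittVector.map f : WittVector p S →+* WittVector p R) P →ₗ[WittVector p R]
    WittVector p R))
  (ee : Fin n → BC (WittVector.map f : WittVector p S →+* WittVector p R) P)
  (hcc : ∀ z : BC (WittVector.map f : WittVector p S →+* WittVector p R) P, z = ∑ i, cc i z • ee i)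
  (FR : BC (WittVector.map f : WittVector p S →+* WittVector p R) P
    →ₛₗ[(WittVector.frobenius : WittVector p R →+* WittVector p R)]
    BC (WittVector.map f : WittVector p S →+* WittVector p R) P)

/-- the coordinate formula -/
def VT (z : BC Wf P) : BC Wf P := ∑ i, (cc i z).shift 1 • FR (ee i)

include hcc in
theorem VT_verschiebung_smul (u : WittVector p R) (z : BC Wf P) :
    VT f cc ee FR (verschiebung u • z) = u • FR z := by
  conv_rhs => rw [hcc z, map_sum, Finset.smul_sum]
  simp only [VT, map_smul, smul_eq_mul]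
  refine Finset.sum_congr rfl fun i _ => ?_
  rw [map_smulₛₗ, smul_smul, ← verschiebung_mul_frobenius, WittShift.shift_verschiebung]

/-- the coordinate formula as a semilinear map on `I_R P_R` -/
def VTlin : ↥(IV p R • (⊤ : Submodule (WittVector p R) (BC Wf P)))
    →ₛₗ[(WittVector.frobenius : WittVector p R →+* WittVector p R)] BC Wf P where
  toFun z := VT f cc ee FR z
  map_add' a b := by
    simp only [VT, Submodule.coe_add, map_add]
    rw [← Finset.sum_add_distrib]
    refine Finset.sum_congr rfl fun i _ => ?_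
    rw [DispRigid.shift_add_of_mem_IV _ _ (DispRigid.c_mem (IV p R) (cc i) a a.2), add_smul]
  map_smul' w a := by
    simp only [VT, Submodule.coe_smul, map_smul, smul_eq_mul, Finset.smul_sum, smul_smul]
    refine Finset.sum_congr rfl fun i _ => ?_
    obtain ⟨u, hu⟩ := (Groth.Agent.Lib.Helper18.DispLib.mem_IV_iff _).1
      (DispRigid.c_mem (IV p R) (cc i) a a.2)
    rw [← hu, mul_comm w, ← verschiebung_mul_frobenius, WittShift.shift_verschiebung,
      WittShift.shift_verschiebung, mul_comm]

theorem VTlin_apply (z : ↥(IV p R • (⊤ : Submodule (WittVector p R) (BC Wf P)))) :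
    VTlin f cc ee FR z = VT f cc ee FR z := rfl

end VT

/-! ### The construction -/
section Constr

theorem tmul_verschiebung_smul (w s' : WittVector p R) (s : WittVector p S) (hs : Wf s = s')
    (x : P) :
    BC.tmul Wf w (verschiebung s • x) = verschiebung (s' * σR w) • BC.tmul Wf 1 x := by
  rw [← BC.tmul_mul_apply, verschiebung_mul_frobenius, BC.smul_tmul, mul_one, mul_comm, ← hs]
  congr 2
  exact (WittVector.map_verschiebung f s)

/-- `w ⊗ τ ∈ I_R N'` for `τ ∈ I_S N` -/
theorem tmul_mem_IV_smul (N : Submodule (WittVector p S) P)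
    (N' : Submodule (WittVector p R) (BC Wf P)) (hN : ∀ t ∈ N, BC.tmul Wf 1 t ∈ N')
    (w : WittVector p R) (τ : P) (hτ : τ ∈ IV p S • N) : BC.tmul Wf w τ ∈ IV p R • N' := by
  refine Submodule.smul_induction_on hτ ?_ ?_
  · intro r hr t ht
    obtain ⟨s, rfl⟩ := (Groth.Agent.Lib.Helper18.DispLib.mem_IV_iff r).1 hr
    rw [tmul_verschiebung_smul f w _ s rfl t]
    exact Submodule.smul_mem_smul (verschiebung_mem_IV p R _) (hN t ht)
  · intro a b ha hb
    rw [BC.tmul_add]
    exact Submodule.add_mem _ ha hb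

variable (D : Display3n p S P) (L T : Submodule (WittVector p S) P) (hc : IsCompl L T)
  (hQ : D.Q = L ⊔ IV p S • T)

/-- `Q_R` -/
def QR : Submodule (WittVector p R) (BC (WittVector.map f : WittVector p S →+* WittVector p R) P) :=
  LinearMap.ker (bcQuotMap f D.Q)

theorem mem_QR (z : BC Wf P) : z ∈ QR f D ↔ bcQuotMap f D.Q z = 0 := LinearMap.mem_ker

theorem tmul_mem_QR (w : WittVector p R) (q : P) (hq : q ∈ D.Q) : BC.tmul Wf w q ∈ QR f D := by
  rw [mem_QR, bcQuotMap_tmul, Submodule.mkQ_apply, (Submodule.Quotient.mk_eq_zero _).2 hq,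
    BC.tmul_zero]

theorem IV_smul_le_QR : IV p R • (⊤ : Submodule (WittVector p R) (BC Wf P)) ≤ QR f D := by
  rw [Submodule.smul_le]
  intro r hr z _
  obtain ⟨u, rfl⟩ := (Groth.Agent.Lib.Helper18.DispLib.mem_IV_iff r).1 hr
  rw [mem_QR, map_smulₛₗ]
  have : (WittVector.constantCoeff : WittVector p R →+* R) (verschiebung u) = 0 :=
    WittVector.verschiebung_coeff_zero u
  rw [this, zero_smul]

/-- the projections on `P_R` -/
def PiL : BC (WittVector.map f : WittVector p S →+* WittVector p R) P →ₗ[WittVector p R]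
    BC (WittVector.map f : WittVector p S →+* WittVector p R) P := BC.map _ (L.projection T hc)

def PiT : BC (WittVector.map f : WittVector p S →+* WittVector p R) P →ₗ[WittVector p R]
    BC (WittVector.map f : WittVector p S →+* WittVector p R) P := BC.map _ (T.projection L hc.symm)

theorem PiL_tmul (w : WittVector p R) (x : P) :
    PiL f L T hc (BC.tmul Wf w x) = BC.tmul Wf w (L.projection T hc x) := BC.map_tmul _ _ _ _

theorem PiT_tmul (w : WittVector p R) (x : P) :
    PiT f L T hc (BC.tmul Wf w x) = BC.tmul Wf w (T.projection L hc.symm x) := BC.map_tmul _ _ _ _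

theorem PiL_add_PiT (z : BC Wf P) : PiL f L T hc z + PiT f L T hc z = z := by
  induction z using BC.induction_on with
  | zero => simp
  | tmul w x =>
    rw [PiL_tmul, PiT_tmul, ← BC.tmul_add, Submodule.projection_add_projection_eq_self]
  | add z₁ z₂ h₁ h₂ =>
    rw [map_add, map_add]
    conv_rhs => rw [← h₁, ← h₂]
    abel

include hQ in
theorem proj_T_mem (q : P) (hq : q ∈ D.Q) : T.projection L hc.symm q ∈ IV p S • T := by
  rw [hQ, Submodule.mem_sup] at hq
  obtain ⟨l, hl, t, ht, rfl⟩ := hq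
  have ht' : t ∈ T := Submodule.smul_le_right ht
  rw [map_add, Submodule.projection_apply_of_mem_right hc.symm hl,
    Submodule.projection_apply_of_mem_left hc.symm ht', zero_add]
  exact ht

include hQ in
theorem PiT_mem (z : BC Wf P) (hz : z ∈ QR f D) :
    PiT f L T hc z ∈ IV p R • (⊤ : Submodule (WittVector p R) (BC Wf P)) := by
  rw [mem_QR] at hz
  have := Groth.Agent.S16540.ker_le Wf (WittVector.constantCoeff : WittVector p R →+* R)
    Groth.Agent.S16540.constantCoeff_surjective D.Q
    (Submodule.comap (PiT f L T hc) (IV p R • (⊤ : Submodule (WittVector p R) (BC Wf P)))) ?_ ?_ z hz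
  · exact this
  · intro w q hq
    rw [Submodule.mem_comap, PiT_tmul]
    refine tmul_mem_IV_smul f T ⊤ (fun _ _ => Submodule.mem_top) w _ (proj_T_mem D L T hc hQ q hq)
  · intro w x hw
    obtain ⟨u, rfl⟩ := Groth.Agent.S16540.exists_verschiebung_eq w hw
    rw [Submodule.mem_comap, PiT_tmul, BC.tmul_eq_smul_tmul_one]
    exact Submodule.smul_mem_smul (verschiebung_mem_IV p R u) Submodule.mem_top

variable {n : ℕ} (e : Fin n → P) (c : Fin n → (P →ₗ[WittVector p S] WittVector p S))
  (hec : ∀ x : P, x = ∑ i, c i x • e i)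

/-- `F_R` -/
def FR : BC (WittVector.map f : WittVector p S →+* WittVector p R) P
    →ₛₗ[(WittVector.frobenius : WittVector p R →+* WittVector p R)]
    BC (WittVector.map f : WittVector p S →+* WittVector p R) P := semiBC f D.F

theorem FR_tmul (w : WittVector p R) (x : P) :
    FR f D (BC.tmul Wf w x) = BC.tmul Wf (σR w) (D.F x) := semiBC_tmul f D.F w x

/-- `w ⊗ x ↦ σ w ⊗ V⁻¹ (π_L x)` -/
def GLmap : BC (WittVector.map f : WittVector p S →+* WittVector p R) P
    →ₛₗ[(WittVector.frobenius : WittVector p R →+* WittVector p R)]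
    BC (WittVector.map f : WittVector p S →+* WittVector p R) P :=
  semiBC f (D.Vinv.comp (DispPhi.πLQ D L T hc hQ))

theorem GLmap_tmul (w : WittVector p R) (x : P) :
    GLmap f D L T hc hQ (BC.tmul Wf w x) = BC.tmul Wf (σR w)
      (D.Vinv ⟨L.projection T hc x,
        DispPhi.L_le_Q D L T hQ (Submodule.projection_apply_mem hc x)⟩) :=
  semiBC_tmul f _ w x

/-- `V_R⁻¹` -/
def VinvR : ↥(QR f D) →ₛₗ[(WittVector.frobenius : WittVector p R →+* WittVector p R)]
    BC (WittVector.map f : WittVector p S →+* WittVector p R) P :=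
  (GLmap f D L T hc hQ).comp (QR f D).subtype +
    (VTlin f (cR (WittVector.map f : WittVector p S →+* WittVector p R) c)
        (fun i => BC.tmul (WittVector.map f : WittVector p S →+* WittVector p R) 1 (e i))
        (FR f D)).comp
      (LinearMap.codRestrict _ ((PiT f L T hc).comp (QR f D).subtype)
        (fun z => PiT_mem f D L T hc hQ z z.2))

theorem VinvR_apply (z : ↥(QR f D)) :
    VinvR f D L T hc hQ e c z = GLmap f D L T hc hQ z +
      VT f (cR Wf c) (fun i => BC.tmul Wf 1 (e i)) (FR f D) (PiT f L T hc z) := rfl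

theorem VT_add_of_mem (a b : BC Wf P)
    (ha : a ∈ IV p R • (⊤ : Submodule (WittVector p R) (BC Wf P)))
    (hb : b ∈ IV p R • (⊤ : Submodule (WittVector p R) (BC Wf P))) :
    VT f (cR Wf c) (fun i => BC.tmul Wf 1 (e i)) (FR f D) (a + b) =
      VT f (cR Wf c) (fun i => BC.tmul Wf 1 (e i)) (FR f D) a +
        VT f (cR Wf c) (fun i => BC.tmul Wf 1 (e i)) (FR f D) b :=
  (VTlin f (cR Wf c) (fun i => BC.tmul Wf 1 (e i)) (FR f D)).map_add ⟨a, ha⟩ ⟨b, hb⟩

include hec in
theorem VT_tmul_of_mem_IV (τ : P) (hτ : τ ∈ IV p S • (⊤ : Submodule (WittVector p S) P)) :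
    ∃ h : τ ∈ D.Q, ∀ w : WittVector p R,
      VT f (cR Wf c) (fun i => BC.tmul Wf 1 (e i)) (FR f D) (BC.tmul Wf w τ) =
        BC.tmul Wf (σR w) (D.Vinv ⟨τ, h⟩) := by
  have key : τ ∈ IV p S • (⊤ : Submodule (WittVector p S) P) ∧ ∃ h : τ ∈ D.Q, ∀ w : WittVector p R,
      VT f (cR Wf c) (fun i => BC.tmul Wf 1 (e i)) (FR f D) (BC.tmul Wf w τ) =
        BC.tmul Wf (σR w) (D.Vinv ⟨τ, h⟩) := by
    refine Submodule.smul_induction_on
      (p := fun τ => τ ∈ IV p S • (⊤ : Submodule (WittVector p S) P) ∧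
        ∃ h : τ ∈ D.Q, ∀ w : WittVector p R,
        VT f (cR Wf c) (fun i => BC.tmul Wf 1 (e i)) (FR f D) (BC.tmul Wf w τ) =
          BC.tmul Wf (σR w) (D.Vinv ⟨τ, h⟩)) hτ ?_ ?_
    · intro r hr x _
      refine ⟨Submodule.smul_mem_smul hr Submodule.mem_top, ?_⟩
      obtain ⟨s, rfl⟩ := (Groth.Agent.Lib.Helper18.DispLib.mem_IV_iff r).1 hr
      refine ⟨Groth.Agent.Lib.Helper18.DispLib.verschiebung_smul_mem D s x, fun w => ?_⟩
      rw [tmul_verschiebung_smul f w _ s rfl x,
        VT_verschiebung_smul f _ _ (sum_cR Wf e c hec) (FR f D), FR_tmul, map_one,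
        Groth.Agent.Lib.Helper18.DispLib.Vinv_verschiebung_smul', BC.smul_tmul, mul_one, mul_comm,
        BC.tmul_mul_apply]
    · rintro a b ⟨ha0, ha, ha'⟩ ⟨hb0, hb, hb'⟩
      refine ⟨Submodule.add_mem _ ha0 hb0, D.Q.add_mem ha hb, fun w => ?_⟩
      have h1 : (⟨a + b, D.Q.add_mem ha hb⟩ : D.Q) = ⟨a, ha⟩ + ⟨b, hb⟩ := rfl
      rw [h1, map_add, BC.tmul_add, BC.tmul_add, ← ha' w, ← hb' w]
      exact VT_add_of_mem f D e c _ _
        (tmul_mem_IV_smul f ⊤ ⊤ (fun _ _ => Submodule.mem_top) w a ha0)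
        (tmul_mem_IV_smul f ⊤ ⊤ (fun _ _ => Submodule.mem_top) w b hb0)
  exact key.2

include hec in
theorem VinvR_tmul (w : WittVector p R) (y : D.Q) (h : BC.tmul Wf w (y : P) ∈ QR f D) :
    VinvR f D L T hc hQ e c ⟨_, h⟩ = BC.tmul Wf (σR w) (D.Vinv y) := by
  rw [VinvR_apply]
  change GLmap f D L T hc hQ (BC.tmul Wf w (y : P)) +
    VT f (cR Wf c) (fun i => BC.tmul Wf 1 (e i)) (FR f D) (PiT f L T hc (BC.tmul Wf w (y : P))) = _
  rw [GLmap_tmul, PiT_tmul]
  have hτ0 : T.projection L hc.symm (y : P) ∈ IV p S • (⊤ : Submodule (WittVector p S) P) :=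
    Submodule.smul_mono le_rfl le_top (proj_T_mem D L T hc hQ y y.2)
  obtain ⟨hτQ, hτ⟩ := VT_tmul_of_mem_IV f D e c hec _ hτ0
  rw [hτ w, ← BC.tmul_add, ← map_add]
  congr 2
  exact Subtype.ext (Submodule.projection_add_projection_eq_self hc (y : P))

include hec in
theorem VinvR_verschiebung_tmul (w : WittVector p R) (x : P)
    (h : BC.tmul Wf (verschiebung w) x ∈ QR f D) :
    VinvR f D L T hc hQ e c ⟨_, h⟩ = BC.tmul Wf w (D.F x) := by
  rw [VinvR_apply]
  change GLmap f D L T hc hQ (BC.tmul Wf (verschiebung w) x) +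
    VT f (cR Wf c) (fun i => BC.tmul Wf 1 (e i)) (FR f D)
      (PiT f L T hc (BC.tmul Wf (verschiebung w) x)) = _
  rw [GLmap_tmul, PiT_tmul, BC.tmul_eq_smul_tmul_one Wf (verschiebung w),
    VT_verschiebung_smul f _ _ (sum_cR Wf e c hec) (FR f D), FR_tmul, map_one, BC.smul_tmul, mul_one,
    frobenius_verschiebung, ← map_natCast Wf p, BC.tmul_mul_apply,
    ← Groth.Agent.Lib.Helper18.DispLib.F_coe_eq_p_smul_Vinv D, ← BC.tmul_add, ← map_add,
    Submodule.projection_add_projection_eq_self]

theorem PiL_PiL (z : BC Wf P) : PiL f L T hc (PiL f L T hc z) = PiL f L T hc z := by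
  induction z using BC.induction_on with
  | zero => simp
  | tmul w x =>
    rw [PiL_tmul, PiL_tmul,
      Submodule.projection_apply_of_mem_left hc (Submodule.projection_apply_mem hc x)]
  | add z₁ z₂ h₁ h₂ => simp only [map_add, h₁, h₂]

theorem PiL_PiT (z : BC Wf P) : PiL f L T hc (PiT f L T hc z) = 0 := by
  induction z using BC.induction_on with
  | zero => simp
  | tmul w x =>
    rw [PiT_tmul, PiL_tmul,
      Submodule.projection_apply_of_mem_right hc (Submodule.projection_apply_mem hc.symm x),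
      BC.tmul_zero]
  | add z₁ z₂ h₁ h₂ => simp only [map_add, h₁, h₂, add_zero]

theorem isCompl_range :
    IsCompl (LinearMap.range (PiL f L T hc)) (LinearMap.range (PiT f L T hc)) := by
  refine ⟨?_, ?_⟩
  · rw [Submodule.disjoint_def]
    rintro z ⟨a, rfl⟩ ⟨b, hb⟩
    rw [← PiL_PiL, ← hb, PiL_PiT]
  · rw [codisjoint_iff, eq_top_iff]
    intro z _
    rw [← PiL_add_PiT f L T hc z]
    exact Submodule.add_mem _ (Submodule.mem_sup_left ⟨z, rfl⟩) (Submodule.mem_sup_right ⟨z, rfl⟩)

include hQ in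
theorem QR_eq : QR f D = LinearMap.range (PiL f L T hc) ⊔ IV p R • LinearMap.range (PiT f L T hc) := by
  have hT : ∀ t ∈ T, BC.tmul Wf 1 t ∈ LinearMap.range (PiT f L T hc) := by
    intro t ht
    refine ⟨BC.tmul Wf 1 t, ?_⟩
    rw [PiT_tmul, Submodule.projection_apply_of_mem_left hc.symm ht]
  apply le_antisymm
  · intro z hz
    rw [mem_QR] at hz
    refine Groth.Agent.S16540.ker_le Wf (WittVector.constantCoeff : WittVector p R →+* R)
      Groth.Agent.S16540.constantCoeff_surjective D.Q _ ?_ ?_ z hz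
    · intro w q hq
      rw [← PiL_add_PiT f L T hc (BC.tmul Wf w q)]
      refine Submodule.add_mem _ (Submodule.mem_sup_left ⟨_, rfl⟩) (Submodule.mem_sup_right ?_)
      rw [PiT_tmul]
      exact tmul_mem_IV_smul f T _ hT w _ (proj_T_mem D L T hc hQ q hq)
    · intro w x hw
      obtain ⟨u, rfl⟩ := Groth.Agent.S16540.exists_verschiebung_eq w hw
      rw [BC.tmul_eq_smul_tmul_one, ← PiL_add_PiT f L T hc (BC.tmul Wf 1 x), smul_add]
      refine Submodule.add_mem _ (Submodule.mem_sup_left ?_) (Submodule.mem_sup_right ?_)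
      · exact Submodule.smul_mem _ _ ⟨_, rfl⟩
      · exact Submodule.smul_mem_smul (verschiebung_mem_IV p R u) ⟨_, rfl⟩
  · refine sup_le ?_ ?_
    · rintro _ ⟨z, rfl⟩
      induction z using BC.induction_on with
      | zero => rw [map_zero]; exact Submodule.zero_mem _
      | tmul w x =>
        rw [PiL_tmul]
        exact tmul_mem_QR f D w _ (DispPhi.L_le_Q D L T hQ (Submodule.projection_apply_mem hc x))
      | add z₁ z₂ h₁ h₂ => rw [map_add]; exact Submodule.add_mem _ h₁ h₂
    · exact (Submodule.smul_mono le_rfl le_top).trans (IV_smul_le_QR f D)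

include hec in
theorem span_range_VinvR :
    Submodule.span (WittVector p R) (Set.range (VinvR f D L T hc hQ e c)) = ⊤ := by
  rw [eq_top_iff]
  intro z _
  have h1 : ∀ x : P, BC.tmul Wf 1 x ∈
      Submodule.span (WittVector p R) (Set.range (VinvR f D L T hc hQ e c)) := by
    intro x
    have hx : x ∈ Submodule.span (WittVector p S) (Set.range D.Vinv) := by
      rw [D.span_range_Vinv]; trivial
    induction hx using Submodule.span_induction with
    | mem x hx =>
      obtain ⟨y, rfl⟩ := hx
      refine Submodule.subset_span ⟨⟨_, tmul_mem_QR f D 1 y y.2⟩, ?_⟩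
      rw [VinvR_tmul f D L T hc hQ e c hec 1 y, map_one]
    | zero => rw [BC.tmul_zero]; exact Submodule.zero_mem _
    | add a b _ _ ha hb => rw [BC.tmul_add]; exact Submodule.add_mem _ ha hb
    | smul a x _ hx =>
      rw [← BC.tmul_apply_eq, BC.tmul_eq_smul_tmul_one]
      exact Submodule.smul_mem _ _ hx
  induction z using BC.induction_on with
  | zero => exact Submodule.zero_mem _
  | tmul w x => rw [BC.tmul_eq_smul_tmul_one]; exact Submodule.smul_mem _ _ (h1 x)
  | add z₁ z₂ h₁ h₂ => exact Submodule.add_mem _ (h₁ trivial) (h₂ trivial)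

theorem FR_decomp (z : BC Wf P) :
    (p : WittVector p R) • GLmap f D L T hc hQ z + FR f D (PiT f L T hc z) = FR f D z := by
  induction z using BC.induction_on with
  | zero => simp
  | tmul w x =>
    rw [GLmap_tmul, PiT_tmul, FR_tmul, FR_tmul, BC.smul_tmul, mul_comm, ← map_natCast Wf p,
      BC.tmul_mul_apply, ← Groth.Agent.Lib.Helper18.DispLib.F_coe_eq_p_smul_Vinv D, ← BC.tmul_add,
      ← map_add, Submodule.projection_add_projection_eq_self]
  | add z₁ z₂ h₁ h₂ =>
    rw [map_add, map_add, map_add, map_add, smul_add, ← h₁, ← h₂]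
    abel

include hec in
theorem VinvR_verschiebung_smul (w : WittVector p R) (z : BC Wf P)
    (h : verschiebung w • z ∈ QR f D) :
    VinvR f D L T hc hQ e c ⟨verschiebung w • z, h⟩ = w • FR f D z := by
  rw [VinvR_apply]
  change GLmap f D L T hc hQ (verschiebung w • z) +
    VT f (cR Wf c) (fun i => BC.tmul Wf 1 (e i)) (FR f D) (PiT f L T hc (verschiebung w • z)) = _
  rw [map_smulₛₗ, map_smul, VT_verschiebung_smul f _ _ (sum_cR Wf e c hec) (FR f D),
    frobenius_verschiebung, mul_smul, ← smul_add, FR_decomp]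

/-- the base-changed display -/
def DRmk : Display3n p R (BC (WittVector.map f : WittVector p S →+* WittVector p R) P) where
  Q := QR f D
  F := FR f D
  Vinv := VinvR f D L T hc hQ e c
  finite := by haveI := D.finite; exact finite_BC _
  projective := projective_BC _ e c hec
  IV_smul_le := IV_smul_le_QR f D
  exists_normal := ⟨_, _, isCompl_range f L T hc, QR_eq f D L T hc hQ⟩
  span_range_Vinv := span_range_VinvR f D L T hc hQ e c hec
  Vinv_verschiebung_smul := fun w z => VinvR_verschiebung_smul f D L T hc hQ e c hec w z _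

theorem isDispBaseChange_DRmk : IsDispBaseChange f D (DRmk f D L T hc hQ e c hec) where
  Q_eq := rfl
  F_tmul := FR_tmul f D
  Vinv_tmul := fun w y h => VinvR_tmul f D L T hc hQ e c hec w y h
  Vinv_verschiebung_tmul := fun w x h => VinvR_verschiebung_tmul f D L T hc hQ e c hec w x h

end Constr

theorem display_ext {R' : Type u} [CommRing R'] {M : Type v} [AddCommGroup M]
    [Module (WittVector p R') M] (D₁ D₂ : Display3n p R' M) (h1 : D₁.Q = D₂.Q) (h2 : D₁.F = D₂.F)
    (h3 : ∀ (z : M) (h : z ∈ D₁.Q) (h' : z ∈ D₂.Q), D₁.Vinv ⟨z, h⟩ = D₂.Vinv ⟨z, h'⟩) :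
    D₁ = D₂ := by
  obtain ⟨Q, F, Vinv, _, _, _, _, _, _⟩ := D₁
  obtain ⟨Q', F', Vinv', _, _, _, _, _, _⟩ := D₂
  dsimp only at h1 h2 h3
  subst h1
  subst h2
  have : Vinv = Vinv' := LinearMap.ext fun z => h3 z z.2 z.2
  subst this
  rfl

theorem baseChange_unique (D : Display3n p S P)
    (D₁ D₂ : Display3n p R (BC (WittVector.map f : WittVector p S →+* WittVector p R) P))
    (h₁ : IsDispBaseChange f D D₁) (h₂ : IsDispBaseChange f D D₂) : D₁ = D₂ := by
  have hQ : D₁.Q = D₂.Q := h₁.Q_eq.trans h₂.Q_eq.symm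
  refine display_ext D₁ D₂ hQ ?_ ?_
  · apply LinearMap.ext
    intro z
    induction z using BC.induction_on with
    | zero => rw [map_zero, map_zero]
    | tmul w x => rw [h₁.F_tmul, h₂.F_tmul]
    | add z₁ z₂ ha hb => rw [map_add, map_add, ha, hb]
  · let f₁ : D₁.Q →ₛₗ[σR] BC Wf P := D₁.Vinv
    let f₂ : D₁.Q →ₛₗ[σR] BC Wf P :=
      D₂.Vinv.comp (Submodule.inclusion (le_of_eq hQ))
    have key : D₁.Q ≤ Submodule.map D₁.Q.subtype (LinearMap.eqLocus f₁ f₂) := by
      intro y hy
      rw [h₁.Q_eq, LinearMap.mem_ker] at hy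
      refine Groth.Agent.S16540.ker_le Wf (WittVector.constantCoeff : WittVector p R →+* R)
        Groth.Agent.S16540.constantCoeff_surjective D.Q _ ?_ ?_ y hy
      · intro w q hq
        have hmem := Groth.Agent.S16540.tmul_mem_Q f h₁ w q hq
        have hmem' := Groth.Agent.S16540.tmul_mem_Q f h₂ w q hq
        refine ⟨⟨_, hmem⟩, ?_, rfl⟩
        change D₁.Vinv ⟨BC.tmul Wf w q, hmem⟩ = D₂.Vinv ⟨BC.tmul Wf w q, hmem'⟩
        rw [h₁.Vinv_tmul w ⟨q, hq⟩ hmem, h₂.Vinv_tmul w ⟨q, hq⟩ hmem']
      · intro w x hw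
        obtain ⟨u, rfl⟩ := Groth.Agent.S16540.exists_verschiebung_eq w hw
        have hmem := Groth.Agent.S16540.verschiebung_tmul_mem_Q f h₁ u x
        have hmem' := Groth.Agent.S16540.verschiebung_tmul_mem_Q f h₂ u x
        refine ⟨⟨_, hmem⟩, ?_, rfl⟩
        change D₁.Vinv ⟨BC.tmul Wf (verschiebung u) x, hmem⟩ =
          D₂.Vinv ⟨BC.tmul Wf (verschiebung u) x, hmem'⟩
        rw [h₁.Vinv_verschiebung_tmul u x hmem, h₂.Vinv_verschiebung_tmul u x hmem']
    intro z h h'
    obtain ⟨z', hz', hzz⟩ := key h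
    have : z' = ⟨z, h⟩ := Subtype.ext hzz
    subst this
    exact hz'

/-- **Existence and uniqueness of the base change of a 3n-display.** -/
theorem existsUnique_baseChange (D : Display3n p S P) :
    ∃! DR : Display3n p R (BC (WittVector.map f : WittVector p S →+* WittVector p R) P),
      IsDispBaseChange f D DR := by
  obtain ⟨L, T, hc, hQ⟩ := D.exists_normal
  have := D.finite
  have := D.projective
  obtain ⟨n, f₀, g₀, _, _, hfg⟩ :=
    Module.Finite.exists_comp_eq_id_of_projective (WittVector p S) P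
  let e : Fin n → P := fun i => f₀ (fun j => if i = j then 1 else 0)
  let c : Fin n → (P →ₗ[WittVector p S] WittVector p S) := fun i => (LinearMap.proj i).comp g₀
  have hec : ∀ x : P, x = ∑ i, c i x • e i := by
    intro x
    have h1 : f₀ (g₀ x) = x := LinearMap.congr_fun hfg x
    conv_lhs => rw [← h1, LinearMap.pi_apply_eq_sum_univ f₀ (g₀ x)]
    rfl
  exact ⟨DRmk f D L T hc hQ e c hec, isDispBaseChange_DRmk f D L T hc hQ e c hec,
    fun DR' h' => baseChange_unique f D _ _ h' (isDispBaseChange_DRmk f D L T hc hQ e c hec)⟩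

end Groth.Agent.Lib.Helper22.DispBC
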