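import Mathlib
import Groth.Prelude.Def_Disp2
import Groth.Agent.Lib.Helper22.DispRigid

/-! Rigidity of homomorphisms of displays under nilpotent thickenings (helper22), assembly. -/

set_option autoImplicit false
set_option linter.unusedSectionVars false
set_option linter.style.haveILetI false
universe u v w
noncomputable section
namespace Groth.Agent.Lib.Helper22.DispRigid

open Dieu W4c1extbt610 WittVector TensorProduct

/-! ### Kernel of `n ↦ 1 ⊗ n` for a surjective ring map -/
section BCker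

variable {A : Type u} {B : Type v} [CommRing A] [CommRing B] (g : A →+* B)
variable {N : Type w} [AddCommGroup N] [Module A N]

theorem tmul_eq_zero_of_mem (n : N) (h : n ∈ RingHom.ker g • (⊤ : Submodule A N)) :
    BC.tmul g 1 n = 0 := by
  refine Submodule.smul_induction_on h ?_ ?_
  · intro k hk x _
    rw [← BC.tmul_apply_eq, RingHom.mem_ker.mp hk, BC.zero_tmul]
  · intro a b ha hb
    rw [BC.tmul_add, ha, hb, add_zero]

theorem tmul_sub (b : B) (x y : N) : BC.tmul g b (x - y) = BC.tmul g b x - BC.tmul g b y := by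
  rw [sub_eq_add_neg, BC.tmul_add, BC.tmul_neg, ← sub_eq_add_neg]

theorem exists_tmul_one (hg : Function.Surjective g) (z : BC g N) : ∃ n : N, z = BC.tmul g 1 n := by
  induction z using BC.induction_on with
  | zero => exact ⟨0, (BC.tmul_zero g 1).symm⟩
  | tmul b x =>
    obtain ⟨a, rfl⟩ := hg b
    exact ⟨a • x, BC.tmul_apply_eq g a x⟩
  | add z₁ z₂ h₁ h₂ =>
    obtain ⟨n₁, rfl⟩ := h₁
    obtain ⟨n₂, rfl⟩ := h₂
    exact ⟨n₁ + n₂, (BC.tmul_add g 1 n₁ n₂).symm⟩

theorem mem_of_tmul_eq_zero (hg : Function.Surjective g) (n : N) (h : BC.tmul g 1 n = 0) :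
    n ∈ RingHom.ker g • (⊤ : Submodule A N) := by
  set K : Submodule A N := RingHom.ker g • ⊤ with hK
  have hk : ∀ a : A, g a = 0 → ∀ n : N, K.mkQ (a • n) = 0 := by
    intro a ha n
    rw [Submodule.mkQ_apply, Submodule.Quotient.mk_eq_zero]
    exact Submodule.smul_mem_smul (RingHom.mem_ker.mpr ha) Submodule.mem_top
  have hk2 : ∀ a b : A, g a = g b → ∀ n : N, K.mkQ (a • n) = K.mkQ (b • n) := by
    intro a b hab n
    have := hk (a - b) (by rw [map_sub, hab, sub_self]) n
    rwa [sub_smul, map_sub, sub_eq_zero] at this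
  let s : B → A := Function.surjInv hg
  have hs : ∀ b, g (s b) = b := Function.surjInv_eq hg
  let f : Res g →+ N →+ N ⧸ K :=
    { toFun := fun t => (K.mkQ ∘ₗ LinearMap.lsmul A N (s t.val)).toAddMonoidHom
      map_zero' := by
        ext n
        change K.mkQ (s (0 : B) • n) = 0
        exact hk _ (hs 0) n
      map_add' := by
        intro t u
        ext n
        change K.mkQ (s (t.val + u.val) • n) = K.mkQ (s t.val • n) + K.mkQ (s u.val • n)
        rw [← map_add, ← add_smul]
        exact hk2 _ _ (by rw [hs, map_add, hs, hs]) n }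
  have hf : ∀ (a : A) (t : Res g) (n : N), f (a • t) n = f t (a • n) := by
    intro a t n
    change K.mkQ (s (g a * t.val) • n) = K.mkQ (s t.val • a • n)
    rw [smul_smul]
    exact hk2 _ _ (by rw [hs, map_mul, hs, mul_comm]) n
  let Φ : BC g N →+ N ⧸ K := TensorProduct.liftAddHom f hf
  have hΦ : Φ (BC.tmul g 1 n) = K.mkQ (s 1 • n) := rfl
  have h1 : K.mkQ (s 1 • n) = K.mkQ n := by
    have := hk2 (s 1) 1 (by rw [hs, map_one]) n
    rwa [one_smul] at this
  have h2 : K.mkQ n = 0 := by rw [← h1, ← hΦ, h, map_zero]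
  rwa [Submodule.mkQ_apply, Submodule.Quotient.mk_eq_zero] at h2

end BCker

variable {p : ℕ} [hp : Fact p.Prime] {S : Type u} [CommRing S]

/-! ### The filtration -/
section Filtration

variable (𝔞 : Ideal S)

/-- `𝔟_k = 𝔞 ∩ (𝔞 + p)^(k+1)` -/
def bk (k : ℕ) : Ideal S := 𝔞 ⊓ (𝔞 ⊔ Ideal.span {(p : S)}) ^ (k + 1)

theorem bk_zero : bk (p := p) 𝔞 0 = 𝔞 := by
  rw [bk, zero_add, pow_one]
  exact inf_eq_left.mpr le_sup_left

theorem bk_succ_le (k : ℕ) : bk (p := p) 𝔞 (k + 1) ≤ bk (p := p) 𝔞 k :=
  inf_le_inf_left _ (Ideal.pow_le_pow_right (by omega))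

theorem bk_sq_le (k : ℕ) : bk (p := p) 𝔞 k ^ 2 ≤ bk (p := p) 𝔞 (k + 1) := by
  refine le_inf ?_ ?_
  · exact (Ideal.pow_le_self two_ne_zero).trans inf_le_left
  · calc bk (p := p) 𝔞 k ^ 2 ≤ ((𝔞 ⊔ Ideal.span {(p : S)}) ^ (k + 1)) ^ 2 :=
          Ideal.pow_right_mono inf_le_right 2
      _ = (𝔞 ⊔ Ideal.span {(p : S)}) ^ ((k + 1) * 2) := (pow_mul _ _ _).symm
      _ ≤ (𝔞 ⊔ Ideal.span {(p : S)}) ^ (k + 1 + 1) := Ideal.pow_le_pow_right (by omega)

theorem p_mul_bk_le (k : ℕ) :
    Ideal.span {(p : S)} * bk (p := p) 𝔞 k ≤ bk (p := p) 𝔞 (k + 1) := by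
  refine le_inf ?_ ?_
  · exact Ideal.mul_le_right.trans inf_le_left
  · calc Ideal.span {(p : S)} * bk (p := p) 𝔞 k
        ≤ (𝔞 ⊔ Ideal.span {(p : S)}) * (𝔞 ⊔ Ideal.span {(p : S)}) ^ (k + 1) :=
          Ideal.mul_mono le_sup_right inf_le_right
      _ = (𝔞 ⊔ Ideal.span {(p : S)}) ^ (k + 1 + 1) := (pow_succ' _ _).symm

theorem exists_bk_eq_bot (hpn : IsNilpotent (p : S)) (h𝔞 : IsNilpotent 𝔞) :
    ∃ K, bk (p := p) 𝔞 K = ⊥ := by
  obtain ⟨M, hM⟩ := hpn
  obtain ⟨n, hn⟩ := h𝔞
  refine ⟨n + M, ?_⟩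
  rw [eq_bot_iff]
  refine inf_le_right.trans ?_
  refine (Ideal.pow_le_pow_right (Nat.le_succ _)).trans ?_
  refine Ideal.sup_pow_add_le_pow_sup_pow.trans ?_
  rw [hn, Ideal.span_singleton_pow, hM]
  simp

theorem shiftOK_bk (k : ℕ) :
    ShiftOK (WittShift.Wb (p := p) (bk (p := p) 𝔞 k)) (WittShift.Wb (p := p) (bk (p := p) 𝔞 (k + 1))) :=
  shiftOK_Wb (bk_sq_le 𝔞 k) (p_mul_bk_le 𝔞 k) (bk_succ_le 𝔞 k)

/-- a power of `p` kills `W(𝔞)` -/
theorem exists_pow_mul_eq_zero (hpn : IsNilpotent (p : S)) (h𝔞 : IsNilpotent 𝔞) :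
    ∃ m : ℕ, ∀ x ∈ WittShift.Wb (p := p) 𝔞, (p : WittVector p S) ^ m * x = 0 := by
  obtain ⟨K, hK⟩ := exists_bk_eq_bot (p := p) 𝔞 hpn h𝔞
  have key : ∀ k : ℕ, ∀ x ∈ WittShift.Wb (p := p) 𝔞,
      (p : WittVector p S) ^ k * x ∈ WittShift.Wb (p := p) (bk (p := p) 𝔞 k) := by
    intro k
    induction k with
    | zero => intro x hx; rw [pow_zero, one_mul, bk_zero]; exact hx
    | succ k ih =>
      intro x hx
      rw [pow_succ', mul_assoc]
      exact WittShift.p_mul_mem (bk_sq_le 𝔞 k) (p_mul_bk_le 𝔞 k) _ (ih x hx)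
  refine ⟨K, fun x hx => ?_⟩
  have := key K x hx
  rwa [hK, WittShift.Wb_bot, Ideal.mem_bot] at this

end Filtration

section Rigid

variable {P : Type v} [AddCommGroup P] [Module (WittVector p S) P]
variable {P' : Type w} [AddCommGroup P'] [Module (WittVector p S) P']

/-- **Rigidity.** A homomorphism of displays with values in `W(𝔞)P'`, `𝔞` nilpotent, is zero. -/
theorem hom_eq_zero_of_mem (D : Display3n p S P) (D' : Display3n p S P') (hD : IsDisplay D)
    (hpn : IsNilpotent (p : S)) (𝔞 : Ideal S) (h𝔞 : IsNilpotent 𝔞)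
    (δ : P →ₗ[WittVector p S] P') (hδ : IsHom D D' δ)
    (h : ∀ x, δ x ∈ WittShift.Wb (p := p) 𝔞 • (⊤ : Submodule (WittVector p S) P')) : δ = 0 := by
  obtain ⟨K, hK⟩ := exists_bk_eq_bot (p := p) 𝔞 hpn h𝔞
  have key : ∀ k : ℕ, ∀ x, δ x ∈
      WittShift.Wb (p := p) (bk (p := p) 𝔞 k) • (⊤ : Submodule (WittVector p S) P') := by
    intro k
    induction k with
    | zero => intro x; rw [bk_zero]; exact h x
    | succ k ih => exact fun x => hom_mem_of_mem D D' hD (shiftOK_bk 𝔞 k) δ hδ ih x
  ext x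
  have := key K x
  rw [hK, WittShift.Wb_bot, Submodule.bot_smul, Submodule.mem_bot] at this
  rw [this, LinearMap.zero_apply]

end Rigid

/-! ### Base change along a surjection with nilpotent kernel -/
section Main

variable {R : Type u} [CommRing R] (f : S →+* R)
variable {P P' : Type v} [AddCommGroup P] [Module (WittVector p S) P]
  [AddCommGroup P'] [Module (WittVector p S) P']

theorem ker_map_eq : RingHom.ker (WittVector.map f : WittVector p S →+* WittVector p R) =
    WittShift.Wb (p := p) (RingHom.ker f) := by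
  ext x
  rw [WittShift.mem_Wb_iff, RingHom.mem_ker, WittVector.ext_iff]
  simp only [WittVector.map_coeff, WittVector.zero_coeff, RingHom.mem_ker]

theorem isHom_sub (D : Display3n p S P) (D' : Display3n p S P')
    (ψ χ : P →ₗ[WittVector p S] P') (hψ : IsHom D D' ψ) (hχ : IsHom D D' χ) :
    IsHom D D' (ψ - χ) := by
  have hm : ∀ q : P, q ∈ D.Q → (ψ - χ) q ∈ D'.Q := fun q hq =>
    D'.Q.sub_mem (hψ.mapsTo q hq) (hχ.mapsTo q hq)
  refine ⟨hm, ?_, ?_⟩
  · intro x
    rw [LinearMap.sub_apply, LinearMap.sub_apply, hψ.comm_F, hχ.comm_F, map_sub]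
  · intro q
    rw [LinearMap.sub_apply, hψ.comm_Vinv, hχ.comm_Vinv, ← map_sub]
    rfl

/-- injectivity part -/
theorem baseChange_injective (hpn : IsNilpotent (p : S)) (hf : Function.Surjective f)
    (hker : IsNilpotent (RingHom.ker f))
    (D : Display3n p S P) (D' : Display3n p S P') (hD : IsDisplay D)
    (ψ χ : P →ₗ[WittVector p S] P') (hψ : IsHom D D' ψ) (hχ : IsHom D D' χ)
    (h : BC.map (WittVector.map f : WittVector p S →+* WittVector p R) ψ =
      BC.map (WittVector.map f : WittVector p S →+* WittVector p R) χ) : ψ = χ := by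
  have hsurj : Function.Surjective (WittVector.map f : WittVector p S →+* WittVector p R) :=
    WittVector.map_surjective f hf
  have h0 : ψ - χ = 0 := by
    refine hom_eq_zero_of_mem D D' hD hpn (RingHom.ker f) hker (ψ - χ) (isHom_sub D D' ψ χ hψ hχ) ?_
    intro x
    rw [← ker_map_eq]
    refine mem_of_tmul_eq_zero _ hsurj _ ?_
    rw [LinearMap.sub_apply, tmul_sub, ← BC.map_tmul, ← BC.map_tmul, h, sub_self]
  exact sub_eq_zero.mp h0

theorem constantCoeff_comp_map_surjective (hf : Function.Surjective f) :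
    Function.Surjective ((WittVector.constantCoeff : WittVector p R →+* R).comp
      (WittVector.map f : WittVector p S →+* WittVector p R)) := by
  intro r
  obtain ⟨s, rfl⟩ := hf r
  refine ⟨teichmuller p s, ?_⟩
  rw [RingHom.comp_apply, WittVector.constantCoeff_apply, WittVector.map_coeff,
    teichmuller_coeff_zero]

/-- elements of `ker(w₀ ∘ W(f)) · (P'/Q')` come from `ker W(f) · P'` -/
theorem exists_mem_of_mem_ker_smul (D' : Display3n p S P')
    (u : P' ⧸ D'.Q)
    (hu : u ∈ RingHom.ker ((WittVector.constantCoeff : WittVector p R →+* R).comp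
      (WittVector.map f : WittVector p S →+* WittVector p R)) •
        (⊤ : Submodule (WittVector p S) (P' ⧸ D'.Q))) :
    ∃ k ∈ RingHom.ker (WittVector.map f : WittVector p S →+* WittVector p R) •
      (⊤ : Submodule (WittVector p S) P'), D'.Q.mkQ k = u := by
  refine Submodule.smul_induction_on hu ?_ ?_
  · intro w hw n' _
    obtain ⟨x, rfl⟩ := D'.Q.mkQ_surjective n'
    rw [RingHom.mem_ker, RingHom.comp_apply, WittVector.constantCoeff_apply,
      WittVector.map_coeff] at hw
    refine ⟨teichmuller p (w.coeff 0) • x, ?_, ?_⟩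
    · refine Submodule.smul_mem_smul ?_ Submodule.mem_top
      rw [RingHom.mem_ker, WittVector.map_teichmuller, hw, WittVector.teichmuller_zero]
    · rw [← map_smul]
      conv_rhs => rw [WittShift.eq_teich_add w, add_smul, map_add]
      have : D'.Q.mkQ (verschiebung (w.shift 1) • x) = 0 := by
        rw [Submodule.mkQ_apply, Submodule.Quotient.mk_eq_zero]
        exact Groth.Agent.Lib.Helper18.DispLib.verschiebung_smul_mem D' _ x
      rw [this, add_zero]
  · rintro a b ⟨ka, hka, rfl⟩ ⟨kb, hkb, rfl⟩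
    exact ⟨ka + kb, Submodule.add_mem _ hka hkb, map_add _ _ _⟩

/-- a linear lift `ψ₀` of a homomorphism `χ` of the base-changed displays is a homomorphism
modulo `ker W(f)` -/
theorem lift_props (hf : Function.Surjective f)
    (D : Display3n p S P) (D' : Display3n p S P')
    (DR : Display3n p R (BC (WittVector.map f : WittVector p S →+* WittVector p R) P))
    (hDR : IsDispBaseChange f D DR)
    (DR' : Display3n p R (BC (WittVector.map f : WittVector p S →+* WittVector p R) P'))
    (hDR' : IsDispBaseChange f D' DR')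
    (χ : BC (WittVector.map f : WittVector p S →+* WittVector p R) P →ₗ[WittVector p R]
      BC (WittVector.map f : WittVector p S →+* WittVector p R) P')
    (hχ : IsHom DR DR' χ) (ψ₀ : P →ₗ[WittVector p S] P')
    (hψ₀ : ∀ x, BC.tmul (WittVector.map f : WittVector p S →+* WittVector p R) 1 (ψ₀ x) =
      χ (BC.tmul (WittVector.map f : WittVector p S →+* WittVector p R) 1 x))
    (y : D.Q) :
    ∃ q : D'.Q, ψ₀ y - q ∈ RingHom.ker (WittVector.map f : WittVector p S →+* WittVector p R) •
        (⊤ : Submodule (WittVector p S) P') ∧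
      ψ₀ (D.Vinv y) - D'.Vinv q ∈
        RingHom.ker (WittVector.map f : WittVector p S →+* WittVector p R) •
          (⊤ : Submodule (WittVector p S) P') := by
  have hsurj : Function.Surjective (WittVector.map f : WittVector p S →+* WittVector p R) :=
    WittVector.map_surjective f hf
  -- `1 ⊗ y ∈ Q_R`
  have hyQ : BC.tmul (WittVector.map f : WittVector p S →+* WittVector p R) 1 (y : P) ∈ DR.Q := by
    rw [hDR.Q_eq, LinearMap.mem_ker, bcQuotMap_tmul]
    have : D.Q.mkQ (y : P) = 0 := by
      rw [Submodule.mkQ_apply, Submodule.Quotient.mk_eq_zero]; exact y.2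
    rw [this, BC.tmul_zero]
  have hχy := hχ.mapsTo _ hyQ
  have hχy' := hχy
  rw [← hψ₀, hDR'.Q_eq, LinearMap.mem_ker, bcQuotMap_tmul, map_one] at hχy'
  have h1 := mem_of_tmul_eq_zero _ (constantCoeff_comp_map_surjective f hf) _ hχy'
  obtain ⟨k, hk, hk'⟩ := exists_mem_of_mem_ker_smul f D' _ h1
  have hq : ψ₀ y - k ∈ D'.Q := by
    rw [← Submodule.Quotient.mk_eq_zero, Submodule.Quotient.mk_sub, sub_eq_zero]
    exact hk'.symm
  refine ⟨⟨ψ₀ y - k, hq⟩, ?_, ?_⟩
  · change ψ₀ y - (ψ₀ y - k) ∈ _
    rw [sub_sub_cancel]; exact hk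
  · refine mem_of_tmul_eq_zero _ hsurj _ ?_
    rw [tmul_sub, sub_eq_zero, hψ₀]
    -- left side
    have h2 := hDR.Vinv_tmul 1 y hyQ
    rw [map_one] at h2
    rw [← h2, hχ.comm_Vinv ⟨_, hyQ⟩]
    -- right side
    have h3 : χ (BC.tmul (WittVector.map f : WittVector p S →+* WittVector p R) 1 (y : P)) =
        BC.tmul (WittVector.map f : WittVector p S →+* WittVector p R) 1 (ψ₀ y - k) := by
      rw [← hψ₀, tmul_sub, tmul_eq_zero_of_mem _ k hk, sub_zero]
    have h4 : BC.tmul (WittVector.map f : WittVector p S →+* WittVector p R) 1 (ψ₀ y - k) ∈ DR'.Q := by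
      rw [← h3]; exact hχy
    have h5 := hDR'.Vinv_tmul 1 ⟨ψ₀ y - k, hq⟩ h4
    rw [map_one] at h5
    rw [← h5]
    exact Groth.Agent.Lib.Helper18.DispLib.Vinv_congr DR' h3 _ _

/-- cokernel part: `p^m χ` lifts to a homomorphism of displays -/
theorem baseChange_coker (hpn : IsNilpotent (p : S)) (hf : Function.Surjective f)
    (hker : IsNilpotent (RingHom.ker f))
    (D : Display3n p S P) (D' : Display3n p S P')
    (DR : Display3n p R (BC (WittVector.map f : WittVector p S →+* WittVector p R) P))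
    (hDR : IsDispBaseChange f D DR)
    (DR' : Display3n p R (BC (WittVector.map f : WittVector p S →+* WittVector p R) P'))
    (hDR' : IsDispBaseChange f D' DR')
    (χ : BC (WittVector.map f : WittVector p S →+* WittVector p R) P →ₗ[WittVector p R]
      BC (WittVector.map f : WittVector p S →+* WittVector p R) P')
    (hχ : IsHom DR DR' χ) :
    ∃ (n : ℕ) (ψ : P →ₗ[WittVector p S] P'), IsHom D D' ψ ∧
      BC.map (WittVector.map f : WittVector p S →+* WittVector p R) ψ =
        ((p : WittVector p R) ^ n) • χ := by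
  have hsurj : Function.Surjective (WittVector.map f : WittVector p S →+* WittVector p R) :=
    WittVector.map_surjective f hf
  obtain ⟨m, hm⟩ := exists_pow_mul_eq_zero (p := p) (RingHom.ker f) hpn hker
  rw [← ker_map_eq] at hm
  have hkill : ∀ u ∈ RingHom.ker (WittVector.map f : WittVector p S →+* WittVector p R) •
      (⊤ : Submodule (WittVector p S) P'), (p : WittVector p S) ^ m • u = 0 := by
    intro u hu
    refine Submodule.smul_induction_on hu ?_ ?_
    · intro k hk x _
      rw [smul_smul, hm k hk, zero_smul]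
    · intro a b ha hb
      rw [smul_add, ha, hb, add_zero]
  -- a linear lift of `χ`
  have := D.finite
  have := D.projective
  obtain ⟨n₀, f₀, g₀, _, _, hfg⟩ :=
    Module.Finite.exists_comp_eq_id_of_projective (WittVector p S) P
  let e : Fin n₀ → P := fun i => f₀ (fun j => if i = j then 1 else 0)
  let c : Fin n₀ → (P →ₗ[WittVector p S] WittVector p S) := fun i => (LinearMap.proj i).comp g₀
  have hec : ∀ x : P, x = ∑ i, c i x • e i := by
    intro x
    have h1 : f₀ (g₀ x) = x := LinearMap.congr_fun hfg x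
    conv_lhs => rw [← h1, LinearMap.pi_apply_eq_sum_univ f₀ (g₀ x)]
    rfl
  choose z hz using fun i => exists_tmul_one (WittVector.map f : WittVector p S →+* WittVector p R)
    hsurj (χ (BC.tmul (WittVector.map f : WittVector p S →+* WittVector p R) 1 (e i)))
  let ψ₀ : P →ₗ[WittVector p S] P' := ∑ i, (c i).smulRight (z i)
  have hψ₀a : ∀ x, ψ₀ x = ∑ i, c i x • z i := by
    intro x
    simp only [ψ₀, LinearMap.sum_apply, LinearMap.smulRight_apply]
  have hψ₀ : ∀ x, BC.tmul (WittVector.map f : WittVector p S →+* WittVector p R) 1 (ψ₀ x) =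
      χ (BC.tmul (WittVector.map f : WittVector p S →+* WittVector p R) 1 x) := by
    intro x
    rw [hψ₀a x]
    conv_rhs => rw [hec x]
    rw [← BC.ι_apply, ← BC.ι_apply, map_sum, map_sum, map_sum]
    refine Finset.sum_congr rfl fun i _ => ?_
    rw [map_smulₛₗ, map_smulₛₗ, map_smul, BC.ι_apply, BC.ι_apply, hz i]
  have hprops := lift_props f hf D D' DR hDR DR' hDR' χ hχ ψ₀ hψ₀
  have hfrob : (WittVector.frobenius : WittVector p S →+* WittVector p S)
      ((p : WittVector p S) ^ m) = (p : WittVector p S) ^ m := by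
    rw [map_pow, map_natCast]
  refine ⟨m, (p : WittVector p S) ^ m • ψ₀, ?_, ?_⟩
  · -- it is a homomorphism
    have h1 : ∀ y : D.Q, ((p : WittVector p S) ^ m • ψ₀) (y : P) ∈ D'.Q := by
      intro y
      obtain ⟨q, hq1, _⟩ := hprops y
      have : ((p : WittVector p S) ^ m • ψ₀) (y : P) = (p : WittVector p S) ^ m • (q : P') := by
        rw [LinearMap.smul_apply]
        have := hkill _ hq1
        rw [smul_sub, sub_eq_zero] at this
        exact this
      rw [this]
      exact D'.Q.smul_mem _ q.2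
    refine Groth.Agent.Lib.Helper18.DispLib.isHom_of_span D D' _ (fun y : D.Q => (y : P)) ?_ h1 ?_
    · rw [Subtype.range_coe_subtype]
      exact (Submodule.span_eq D.Q).symm
    · intro y hy
      obtain ⟨q, hq1, hq2⟩ := hprops y
      have e1 : ((p : WittVector p S) ^ m • ψ₀) (y : P) = (p : WittVector p S) ^ m • (q : P') := by
        rw [LinearMap.smul_apply]
        have := hkill _ hq1
        rw [smul_sub, sub_eq_zero] at this
        exact this
      have e2 : ((p : WittVector p S) ^ m • ψ₀) (D.Vinv y) =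
          (p : WittVector p S) ^ m • D'.Vinv q := by
        rw [LinearMap.smul_apply]
        have := hkill _ hq2
        rw [smul_sub, sub_eq_zero] at this
        exact this
      have e3 : (⟨(y : P), hy⟩ : D.Q) = y := rfl
      rw [e3, e2]
      have e4 : D'.Vinv ((p : WittVector p S) ^ m • q) = (p : WittVector p S) ^ m • D'.Vinv q := by
        rw [map_smulₛₗ, hfrob]
      rw [← e4]
      exact (Groth.Agent.Lib.Helper18.DispLib.Vinv_congr D' e1 _ _).symm
  · -- it lifts `p^m χ`
    refine BC.ext _ fun x => ?_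
    rw [BC.map_tmul, LinearMap.smul_apply, LinearMap.smul_apply, ← BC.ι_apply, map_smulₛₗ,
      BC.ι_apply, hψ₀, map_pow, map_natCast]

/-- **Rigidity of homomorphisms of displays under nilpotent thickenings.** -/
theorem rigidity (hpn : IsNilpotent (p : S)) (hf : Function.Surjective f)
    (hker : IsNilpotent (RingHom.ker f))
    (D : Display3n p S P) (D' : Display3n p S P') (hD : IsDisplay D)
    (DR : Display3n p R (BC (WittVector.map f : WittVector p S →+* WittVector p R) P))
    (hDR : IsDispBaseChange f D DR)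
    (DR' : Display3n p R (BC (WittVector.map f : WittVector p S →+* WittVector p R) P'))
    (hDR' : IsDispBaseChange f D' DR') :
    (∀ ψ χ : P →ₗ[WittVector p S] P', IsHom D D' ψ → IsHom D D' χ →
        BC.map (WittVector.map f : WittVector p S →+* WittVector p R) ψ =
          BC.map (WittVector.map f : WittVector p S →+* WittVector p R) χ → ψ = χ) ∧
      ∀ χ : BC (WittVector.map f : WittVector p S →+* WittVector p R) P →ₗ[WittVector p R]
          BC (WittVector.map f : WittVector p S →+* WittVector p R) P',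
        IsHom DR DR' χ →
          ∃ (n : ℕ) (ψ : P →ₗ[WittVector p S] P'), IsHom D D' ψ ∧
            BC.map (WittVector.map f : WittVector p S →+* WittVector p R) ψ =
              ((p : WittVector p R) ^ n) • χ :=
  ⟨fun ψ χ hψ hχ h => baseChange_injective f hpn hf hker D D' hD ψ χ hψ hχ h,
    fun χ hχ => baseChange_coker f hpn hf hker D D' DR hDR DR' hDR' χ hχ⟩

end Main

end Groth.Agent.Lib.Helper22.DispRigid
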