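import Mathlib
import Groth.Prelude.Def_Disp2
import Groth.Agent.Lib.Helper22.DispRigid2

/-! Homomorphisms of displays have no `p`-torsion (helper22). -/

set_option autoImplicit false
set_option linter.unusedSectionVars false
universe u v w
noncomputable section
namespace Groth.Agent.Lib.Helper22.DispRigid

open Dieu W4c1extbt610 WittVector

variable {p : ℕ} [hp : Fact p.Prime] {S : Type u} [CommRing S]

/-- `p`-torsion Witt vectors have nilpotent coefficients (when `p` is nilpotent). -/
theorem mem_Wb_nilradical_of_p_mul_eq_zero (hpn : IsNilpotent (p : S)) (a : WittVector p S)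
    (ha : (p : WittVector p S) * a = 0) : a ∈ WittShift.Wb (p := p) (nilradical S) := by
  rw [WittShift.mem_Wb_iff]
  intro n
  rcases subsingleton_or_nontrivial (S ⧸ nilradical S) with hs | hs
  · rw [Ideal.Quotient.subsingleton_iff] at hs
    rw [hs]; trivial
  · have hp0 : ((p : ℕ) : S ⧸ nilradical S) = 0 := by
      have : (Ideal.Quotient.mk (nilradical S)) (p : S) = 0 :=
        Ideal.Quotient.eq_zero_iff_mem.mpr (mem_nilradical.mpr hpn)
      rwa [map_natCast] at this
    haveI : CharP (S ⧸ nilradical S) p := (CharP.charP_iff_prime_eq_zero hp.out).mpr hp0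
    set π := Ideal.Quotient.mk (nilradical S)
    have h1 : (WittVector.map π a) * (p : WittVector p (S ⧸ nilradical S)) = 0 := by
      have := congrArg (WittVector.map (p := p) π) ha
      rw [map_mul, map_natCast, map_zero, mul_comm] at this
      exact this
    rw [← verschiebung_frobenius] at h1
    have h2 : frobenius (WittVector.map π a) = 0 :=
      verschiebung_injective p _ (by rw [h1, map_zero])
    have h3 := congrArg (fun x => x.coeff n) h2
    simp only [coeff_frobenius_charP, WittVector.map_coeff, WittVector.zero_coeff] at h3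
    rw [← map_pow, Ideal.Quotient.eq_zero_iff_mem, mem_nilradical] at h3
    exact mem_nilradical.mpr (IsNilpotent.of_pow h3)

variable {P : Type v} [AddCommGroup P] [Module (WittVector p S) P]
variable {P' : Type w} [AddCommGroup P'] [Module (WittVector p S) P']

/-- **The group of homomorphisms of displays has no `p`-torsion.** -/
theorem hom_eq_zero_of_p_smul_eq_zero (hpn : IsNilpotent (p : S)) (hn : IsNilpotent (nilradical S))
    (D : Display3n p S P) (D' : Display3n p S P') (hD : IsDisplay D)
    (ψ : P →ₗ[WittVector p S] P') (hψ : IsHom D D' ψ)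
    (h : (p : WittVector p S) • ψ = 0) : ψ = 0 := by
  refine hom_eq_zero_of_mem D D' hD hpn (nilradical S) hn ψ hψ ?_
  intro x
  have := D'.finite
  have := D'.projective
  obtain ⟨n, f, g, _, _, hfg⟩ := Module.Finite.exists_comp_eq_id_of_projective (WittVector p S) P'
  have h1 : f (g (ψ x)) = ψ x := LinearMap.congr_fun hfg (ψ x)
  rw [← h1, LinearMap.pi_apply_eq_sum_univ f (g (ψ x))]
  refine Submodule.sum_mem _ fun i _ => Submodule.smul_mem_smul ?_ Submodule.mem_top
  refine mem_Wb_nilradical_of_p_mul_eq_zero hpn _ ?_
  have h2 : (p : WittVector p S) • ψ x = 0 := by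
    rw [← LinearMap.smul_apply, h, LinearMap.zero_apply]
  have h3 := congrArg (fun y => g y i) h2
  simpa using h3

end Groth.Agent.Lib.Helper22.DispRigid
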