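import Mathlib

/-!
# A Noetherian local domain which is not a field is dominated by a one-dimensional Noetherian
local ring essentially of finite type inside its fraction field.
-/

universe u

namespace Groth.Agent.Lib.Helper22.DomDimOne

/-- generic transport: restricting scalars of a subalgebra does not change the ring -/
def restrictEquiv {R K : Type*} [CommRing R] [Field K] [Algebra R K] (B : Subalgebra R K)
    (C : Subalgebra ↥B K) : ↥(C.restrictScalars R) ≃+* ↥C where
  toFun x := ⟨x.1, x.2⟩
  invFun x := ⟨x.1, x.2⟩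
  left_inv _ := rfl
  right_inv _ := rfl
  map_mul' _ _ := rfl
  map_add' _ _ := rfl

theorem main (R : Type u) [CommRing R] [IsDomain R]
    [IsNoetherianRing R] [IsLocalRing R] (hR : ¬ IsField R) :
    ∃ R' : Subalgebra R (FractionRing R), ∃ _ : IsLocalRing R',
      IsNoetherianRing R' ∧ ringKrullDim R' = 1 ∧ IsLocalHom (algebraMap R R') ∧
        Algebra.EssFiniteType R R' := by
  classical
  obtain ⟨K, hK⟩ : ∃ K : Type u, K = FractionRing R := ⟨_, rfl⟩
  subst hK
  have hinj : Function.Injective (algebraMap R (FractionRing R)) :=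
    IsFractionRing.injective R (FractionRing R)
  obtain ⟨V, hV, hloc⟩ := IsLocalRing.exists_factor_valuationRing (algebraMap R (FractionRing R))
  have hVlt : ∀ a ∈ IsLocalRing.maximalIdeal R,
      V.valuation (algebraMap R (FractionRing R) a) < 1 := by
    intro a ha
    have hnu : ¬ IsUnit ((algebraMap R (FractionRing R)).codRestrict V.toSubring hV a) := by
      intro hu
      exact ha (hloc.map_nonunit a hu)
    exact (V.valuation_lt_one_iff ⟨_, hV a⟩).mp ((IsLocalRing.mem_maximalIdeal _).mpr hnu)
  obtain ⟨G, hG⟩ : (IsLocalRing.maximalIdeal R).FG := IsNoetherian.noetherian _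
  have hm0 : IsLocalRing.maximalIdeal R ≠ ⊥ := fun h =>
    hR (IsLocalRing.isField_iff_maximalIdeal_eq.mpr h)
  obtain ⟨g₀, hg₀G, hg₀⟩ : ∃ g ∈ G, g ≠ 0 := by
    by_contra hcon
    push Not at hcon
    apply hm0
    rw [← hG, Submodule.span_eq_bot]
    exact fun x hx => hcon x hx
  obtain ⟨y₀, hy₀G, hy₀max⟩ := Finset.exists_max_image G
    (fun g => V.valuation (algebraMap R (FractionRing R) g)) ⟨g₀, hg₀G⟩
  have hGm : ∀ g ∈ G, g ∈ IsLocalRing.maximalIdeal R := fun g hg => by
    rw [← hG]; exact Submodule.subset_span hg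
  have hy0 : algebraMap R (FractionRing R) y₀ ≠ 0 := by
    intro h
    have h1 := hy₀max g₀ hg₀G
    simp only [h, map_zero] at h1
    have h2 : V.valuation (algebraMap R (FractionRing R) g₀) = 0 := le_antisymm h1 zero_le
    rw [map_eq_zero] at h2
    exact hg₀ (hinj (by rw [h2, map_zero]))
  obtain ⟨y, hy⟩ : ∃ y : FractionRing R, y = algebraMap R (FractionRing R) y₀ := ⟨_, rfl⟩
  rw [← hy] at hy0
  have hdivV : ∀ g ∈ G, algebraMap R (FractionRing R) g / y ∈ V := by
    intro g hg
    rw [← V.valuation_le_one_iff, map_div₀]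
    have hpos : 0 < V.valuation y := zero_lt_iff.mpr ((map_ne_zero _).mpr hy0)
    rw [div_le_one₀ hpos, hy]
    exact hy₀max g hg
  obtain ⟨S, hS⟩ : ∃ S : Finset (FractionRing R),
      S = G.image (fun g => algebraMap R (FractionRing R) g / y) := ⟨_, rfl⟩
  have hSV : ∀ s ∈ S, s ∈ V := by
    intro s hs
    rw [hS, Finset.mem_image] at hs
    obtain ⟨g, hg, rfl⟩ := hs
    exact hdivV g hg
  obtain ⟨B, hB⟩ : ∃ B : Subalgebra R (FractionRing R),
      B = Algebra.adjoin R (S : Set (FractionRing R)) := ⟨_, rfl⟩
  have hSB : ∀ s ∈ S, s ∈ B := fun s hs => by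
    rw [hB]; exact Algebra.subset_adjoin (Finset.mem_coe.mpr hs)
  have hBV : ∀ b ∈ B, b ∈ V := by
    intro b hb
    rw [hB] at hb
    induction hb using Algebra.adjoin_induction with
    | mem x hx => exact hSV x hx
    | algebraMap r => exact hV r
    | add x y _ _ hx hy => exact V.add_mem _ _ hx hy
    | mul x y _ _ hx hy => exact V.mul_mem _ _ hx hy
  have hBft : Algebra.FiniteType R B :=
    (Subalgebra.fg_iff_finiteType B).mp (hB ▸ Subalgebra.fg_adjoin_finset S)
  have hBN : IsNoetherianRing B := Algebra.FiniteType.isNoetherianRing R B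
  have hyB : ¬ IsUnit (algebraMap R B y₀) := by
    intro hunit
    obtain ⟨w, hw⟩ := isUnit_iff_exists_inv.mp hunit
    have hwL : y * (w : FractionRing R) = 1 := by
      have := congrArg (fun z : B => (z : FractionRing R)) hw
      simpa [← hy] using this
    have hwV : (w : FractionRing R) ∈ V := hBV _ w.2
    have h1 : V.valuation y * V.valuation (w : FractionRing R) = 1 := by
      rw [← map_mul, hwL, map_one]
    have h2 : V.valuation y < 1 := hy ▸ hVlt y₀ (hGm y₀ hy₀G)
    have h3 : V.valuation (w : FractionRing R) ≤ 1 := (V.valuation_le_one_iff _).mpr hwV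
    have h4 : V.valuation y * V.valuation (w : FractionRing R) < 1 := by
      calc V.valuation y * V.valuation (w : FractionRing R) ≤ V.valuation y * 1 :=
            mul_le_mul_right h3 _
        _ = V.valuation y := mul_one _
        _ < 1 := h2
    exact absurd h1 (ne_of_lt h4)
  have hI : Ideal.span {algebraMap R B y₀} ≠ ⊤ := by
    rw [Ne, Ideal.span_singleton_eq_top]; exact hyB
  obtain ⟨p, hp⟩ := Ideal.nonempty_minimalPrimes hI
  have hpprime : p.IsPrime := hp.1.1
  have hyp : algebraMap R B y₀ ∈ p := hp.1.2 (Ideal.mem_span_singleton_self _)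
  have hpht : p.height ≤ 1 :=
    Ideal.height_le_one_of_isPrincipal_of_mem_minimalPrimes (Ideal.span {algebraMap R B y₀}) p hp
  have hyB0 : algebraMap R B y₀ ≠ 0 := by
    intro h
    apply hy0
    have := congrArg (fun z : B => (z : FractionRing R)) h
    simpa [← hy] using this
  have hpht' : p.height = 1 := by
    refine le_antisymm hpht ?_
    have hlt : (⊥ : Ideal B) < p := by
      rw [bot_lt_iff_ne_bot]
      intro h
      rw [h, Ideal.mem_bot] at hyp
      exact hyB0 hyp
    have := Ideal.height_strict_mono_of_isPrime_of_isPrime hlt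
    rw [Ideal.height_bot] at this
    exact Order.one_le_iff_pos.mpr this
  have hmp : ∀ a ∈ IsLocalRing.maximalIdeal R, algebraMap R B a ∈ p := by
    intro a ha
    have hle : IsLocalRing.maximalIdeal R ≤ p.comap (algebraMap R B) := by
      rw [← hG, Ideal.span_le]
      intro g hg
      rw [SetLike.mem_coe, Ideal.mem_comap]
      apply hp.1.2
      rw [Ideal.mem_span_singleton']
      refine ⟨⟨algebraMap R (FractionRing R) g / y, hSB _ (by
        rw [hS]; exact Finset.mem_image_of_mem _ hg)⟩, ?_⟩
      apply Subtype.ext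
      change algebraMap R (FractionRing R) g / y * algebraMap R (FractionRing R) y₀ = _
      rw [← hy]
      change _ = algebraMap R (FractionRing R) g
      field_simp
    exact hle ha
  -- localize at `p`
  have hSle : p.primeCompl ≤ nonZeroDivisors B := Ideal.primeCompl_le_nonZeroDivisors p
  obtain ⟨C, hC⟩ : ∃ C : Subalgebra B (FractionRing R),
      C = Localization.subalgebra (FractionRing R) p.primeCompl hSle := ⟨_, rfl⟩
  have hCloc : IsLocalization.AtPrime C p := by
    subst hC
    exact Localization.subalgebra.isLocalization_subalgebra (FractionRing R) p.primeCompl hSle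
  have hClocal : IsLocalRing C := IsLocalization.AtPrime.isLocalRing C p
  have hCN : IsNoetherianRing C := IsLocalization.isNoetherianRing p.primeCompl C hBN
  have hCdim : ringKrullDim C = 1 := by
    rw [IsLocalization.AtPrime.ringKrullDim_eq_height p C, hpht']
    rfl
  have hCess : Algebra.EssFiniteType R C := by
    have h1 : Algebra.EssFiniteType B C := Algebra.EssFiniteType.of_isLocalization C p.primeCompl
    exact Algebra.EssFiniteType.comp R B C
  let e := restrictEquiv B C
  refine ⟨C.restrictScalars R, e.symm.isLocalRing, isNoetherianRing_of_ringEquiv _ e.symm,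
    ?_, ?_, ?_⟩
  · rw [ringKrullDim_eq_of_ringEquiv e, hCdim]
  · refine ⟨fun a ha => ?_⟩
    by_contra hna
    have ham : a ∈ IsLocalRing.maximalIdeal R := (IsLocalRing.mem_maximalIdeal a).mpr hna
    have h1 : algebraMap B C (algebraMap R B a) ∈ IsLocalRing.maximalIdeal C :=
      (IsLocalization.AtPrime.to_map_mem_maximal_iff C p _).mpr (hmp a ham)
    have h2 : IsUnit (e (algebraMap R (C.restrictScalars R) a)) := ha.map e
    exact (IsLocalRing.mem_maximalIdeal _).mp h1 h2
  · exact hCess

end Groth.Agent.Lib.Helper22.DomDimOne
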