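import Mathlib
import Groth.Prelude.Def_Found
import Groth.Agent.Lib.Helper12.AnUnramD
import Groth.Agent.Lib.Helper14.BranchBound

/-!
# The integral closure of a Noetherian local domain in a finite extension of its fraction field
is semi-local with finite residue field extensions (EGA 0_IV 23.2.?)

The proof goes through the completion `C` of `A`, which is a Nagata ring: `C ⊗[A] A'` maps,
with nil kernel, onto a finite `C`-algebra.
-/

set_option autoImplicit false

namespace Groth.Agent.Lib.Helper22.IntClSemilocal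

open TensorProduct Groth.Agent.Lib.Helper12

universe u

/-- Let `A` be a domain with fraction field `K`, `C` a flat Nagata `A`-algebra and `L` a finite
extension of `K`, `A'` the integral closure of `A` in `L`. Then `C ⊗[A] A'` maps onto a finite
`C`-algebra with nil kernel. -/
theorem exists_finite_quotient_nil_ker
    (A C K L : Type u) [CommRing A] [IsDomain A] [CommRing C] [Algebra A C]
    [Module.Flat A C] (hC : CAlg.IsNagata C)
    [Field K] [Algebra A K] [IsFractionRing A K]
    [Field L] [Algebra A L] [Algebra K L] [IsScalarTower A K L] [FiniteDimensional K L] :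
    ∃ (E : Type u) (_ : CommRing E) (_ : Algebra C E)
      (Ψ : C ⊗[A] (integralClosure A L) →ₐ[C] E),
      Module.Finite C E ∧ Function.Surjective Ψ ∧ ∀ x, Ψ x = 0 → IsNilpotent x := by
  classical
  haveI : IsNoetherianRing C := hC.1
  haveI : IsNoetherianRing (C ⊗[A] L) := AnUnram.isNoetherianRing_tensor A C K L
  have hfinite : (minimalPrimes (C ⊗[A] L)).Finite :=
    minimalPrimes.finite_of_isNoetherianRing (C ⊗[A] L)
  haveI : Finite (minimalPrimes (C ⊗[A] L)) := hfinite
  haveI hprime : ∀ P : minimalPrimes (C ⊗[A] L), P.1.IsPrime := fun P => P.2.1.1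
  let ι : C ⊗[A] (integralClosure A L) →ₐ[C] C ⊗[A] L :=
    Algebra.TensorProduct.map (AlgHom.id C C) (integralClosure A L).val
  have hι : Function.Injective ι := by
    change Function.Injective (LinearMap.lTensor C (integralClosure A L).val.toLinearMap)
    exact Module.Flat.lTensor_preserves_injective_linearMap _ Subtype.val_injective
  let φ : ∀ P : minimalPrimes (C ⊗[A] L),
      C ⊗[A] L →ₐ[C] FractionRing ((C ⊗[A] L) ⧸ P.1) := fun P =>
    (IsScalarTower.toAlgHom C ((C ⊗[A] L) ⧸ P.1) (FractionRing ((C ⊗[A] L) ⧸ P.1))).comp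
      (Ideal.Quotient.mkₐ C P.1)
  have hφ_apply : ∀ (P : minimalPrimes (C ⊗[A] L)) (t : C ⊗[A] L),
      φ P t = algebraMap ((C ⊗[A] L) ⧸ P.1) (FractionRing ((C ⊗[A] L) ⧸ P.1))
        (Ideal.Quotient.mk P.1 t) := fun _ _ => rfl
  have hφ : ∀ (P : minimalPrimes (C ⊗[A] L)) (z : FractionRing ((C ⊗[A] L) ⧸ P.1)),
      ∃ t₁ t₂ : C ⊗[A] L, φ P t₂ ≠ 0 ∧ z = φ P t₁ / φ P t₂ := by
    intro P z
    obtain ⟨a, b, hb, rfl⟩ := IsFractionRing.div_surjective ((C ⊗[A] L) ⧸ P.1) z
    obtain ⟨t₁, rfl⟩ := Ideal.Quotient.mk_surjective a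
    obtain ⟨t₂, rfl⟩ := Ideal.Quotient.mk_surjective b
    refine ⟨t₁, t₂, ?_, rfl⟩
    rw [hφ_apply, Ne, map_eq_zero_iff _ (IsFractionRing.injective _ _)]
    exact nonZeroDivisors.ne_zero hb
  have hfinP : ∀ P : minimalPrimes (C ⊗[A] L),
      Module.Finite C (integralClosure C (FractionRing ((C ⊗[A] L) ⧸ P.1))) := fun P =>
    AnUnram.finite_integralClosure_field A C K L hC _ (φ P) (hφ P)
  have hint : ∀ (P : minimalPrimes (C ⊗[A] L)) (x : C ⊗[A] (integralClosure A L)),
      φ P (ι x) ∈ integralClosure C (FractionRing ((C ⊗[A] L) ⧸ P.1)) := by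
    intro P x
    induction x using TensorProduct.induction_on with
    | zero => simp only [map_zero]; exact Subalgebra.zero_mem _
    | add x y hx hy => simp only [map_add]; exact Subalgebra.add_mem _ hx hy
    | tmul c y =>
      have h1 : ι (c ⊗ₜ[A] y) = algebraMap C (C ⊗[A] L) c * (1 ⊗ₜ (y : L)) := by
        change c ⊗ₜ[A] (y : L) = _
        rw [Algebra.TensorProduct.algebraMap_apply, Algebra.TensorProduct.tmul_mul_tmul]
        simp
      rw [h1, map_mul, (φ P).commutes]
      refine Subalgebra.mul_mem _ (Subalgebra.algebraMap_mem _ _) ?_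
      obtain ⟨p, hp, hpy⟩ := y.2
      refine ⟨p.map (algebraMap A C), hp.map _, ?_⟩
      have h2 : (1 : C) ⊗ₜ[A] (y : L) =
          (Algebra.TensorProduct.includeRight : L →ₐ[A] C ⊗[A] L) (y : L) := rfl
      rw [Polynomial.eval₂_map, h2]
      let g : L →+* FractionRing ((C ⊗[A] L) ⧸ P.1) :=
        (φ P).toRingHom.comp (Algebra.TensorProduct.includeRight : L →ₐ[A] C ⊗[A] L).toRingHom
      have h3 : (algebraMap C (FractionRing ((C ⊗[A] L) ⧸ P.1))).comp (algebraMap A C) =
          g.comp (algebraMap A L) := by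
        ext a
        simp only [g, RingHom.comp_apply, AlgHom.toRingHom_eq_coe, RingHom.coe_coe,
          AlgHom.commutes]
        rw [← (φ P).commutes]
        rfl
      have h4 : Polynomial.eval₂ (g.comp (algebraMap A L)) (g (y : L)) p = 0 := by
        rw [← Polynomial.hom_eval₂, hpy, map_zero]
      rw [h3]
      exact h4
  -- the algebra map to the product of the fraction fields
  let Ψ₀ : C ⊗[A] (integralClosure A L) →ₐ[C]
      (∀ P : minimalPrimes (C ⊗[A] L), FractionRing ((C ⊗[A] L) ⧸ P.1)) :=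
    AlgHom.pi fun P => (φ P).comp ι
  have hΨ₀ : ∀ (x : C ⊗[A] (integralClosure A L)) (P : minimalPrimes (C ⊗[A] L)),
      Ψ₀ x P = φ P (ι x) := fun _ _ => rfl
  -- the product of the integral closures
  let j : (∀ P : minimalPrimes (C ⊗[A] L),
      integralClosure C (FractionRing ((C ⊗[A] L) ⧸ P.1))) →ₗ[C]
      (∀ P : minimalPrimes (C ⊗[A] L), FractionRing ((C ⊗[A] L) ⧸ P.1)) :=
    LinearMap.pi fun P =>
      (integralClosure C (FractionRing ((C ⊗[A] L) ⧸ P.1))).val.toLinearMap ∘ₗ LinearMap.proj P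
  haveI : ∀ P : minimalPrimes (C ⊗[A] L),
      Module.Finite C (integralClosure C (FractionRing ((C ⊗[A] L) ⧸ P.1))) := hfinP
  haveI : Module.Finite C (∀ P : minimalPrimes (C ⊗[A] L),
      integralClosure C (FractionRing ((C ⊗[A] L) ⧸ P.1))) := by
    haveI : Fintype (minimalPrimes (C ⊗[A] L)) := Fintype.ofFinite _
    exact Module.Finite.pi
  haveI : Module.Finite C (LinearMap.range j) := Module.Finite.range j
  haveI : IsNoetherian C (LinearMap.range j) := isNoetherian_of_isNoetherianRing_of_finite C _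
  have hle : Subalgebra.toSubmodule Ψ₀.range ≤ LinearMap.range j := by
    rintro _ ⟨x, rfl⟩
    exact ⟨fun P => ⟨φ P (ι x), hint P x⟩, rfl⟩
  have hfg : (Subalgebra.toSubmodule Ψ₀.range).FG := by
    have h1 : ((Subalgebra.toSubmodule Ψ₀.range).comap (LinearMap.range j).subtype).FG :=
      IsNoetherian.noetherian _
    have h2 := h1.map (LinearMap.range j).subtype
    rwa [Submodule.map_comap_subtype, inf_eq_right.mpr hle] at h2
  refine ⟨Ψ₀.range, inferInstance, inferInstance, Ψ₀.rangeRestrict, ?_, ?_, ?_⟩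
  · exact Module.Finite.iff_fg.mpr hfg
  · exact Ψ₀.rangeRestrict_surjective
  · intro x hx
    have hx0 : Ψ₀ x = 0 := congrArg Subtype.val hx
    have hmem : ι x ∈ sInf (minimalPrimes (C ⊗[A] L)) := by
      rw [Ideal.mem_sInf]
      intro P hP
      have h1 := congrFun hx0 ⟨P, hP⟩
      rw [hΨ₀, hφ_apply] at h1
      change _ = (0 : FractionRing ((C ⊗[A] L) ⧸ P)) at h1
      rw [map_eq_zero_iff _ (IsFractionRing.injective _ _)] at h1
      exact Ideal.Quotient.eq_zero_iff_mem.mp h1
    rw [minimalPrimes, Ideal.sInf_minimalPrimes] at hmem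
    obtain ⟨n, hn⟩ := hmem
    refine ⟨n, hι ?_⟩
    rw [map_pow, map_zero]
    exact hn


/-- finiteness over `A` from finiteness over `C` when the `C`-action is pointwise an
`A`-action -/
theorem finite_of_forall_exists_smul_eq {A C M : Type*} [CommRing A] [CommRing C]
    [AddCommGroup M] [Module A M] [Module C M] [Module.Finite C M]
    (h : ∀ c : C, ∃ a : A, ∀ y : M, c • y = a • y) : Module.Finite A M := by
  obtain ⟨S, hS⟩ := (Module.finite_def (R := C) (M := M)).mp inferInstance
  refine ⟨⟨S, ?_⟩⟩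
  rw [eq_top_iff]
  rintro y -
  have hy : y ∈ Submodule.span C (S : Set M) := by rw [hS]; trivial
  induction hy using Submodule.span_induction with
  | mem x hx => exact Submodule.subset_span hx
  | zero => exact Submodule.zero_mem _
  | add x y _ _ hx hy => exact Submodule.add_mem _ hx hy
  | smul c x _ hx =>
    obtain ⟨a, ha⟩ := h c
    rw [ha x]
    exact Submodule.smul_mem _ _ hx

section Local

variable {A C A' E : Type u} [CommRing A] [IsLocalRing A] [CommRing C] [Algebra A C]
  (ε : C →ₐ[A] A ⧸ IsLocalRing.maximalIdeal A)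
  [CommRing A'] [Algebra A A'] [Algebra.IsIntegral A A']
  [CommRing E] [Algebra C E]
  (Ψ : C ⊗[A] A' →ₐ[C] E) (hΨ : Function.Surjective Ψ) (hnil : ∀ x, Ψ x = 0 → IsNilpotent x)

include ε hΨ hnil in
theorem exists_chibar (m : Ideal A') [m.IsMaximal] :
    ∃ χ : E →+* A' ⧸ m, (∀ a : A', χ (Ψ (1 ⊗ₜ a)) = Ideal.Quotient.mk m a) ∧
      (∀ c : C, ∃ a : A, χ (algebraMap C E c) = algebraMap A (A' ⧸ m) a) := by
  have hcomap : m.comap (algebraMap A A') = IsLocalRing.maximalIdeal A :=
    IsLocalRing.eq_maximalIdeal (Ideal.isMaximal_comap_of_isIntegral_of_isMaximal m)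
  have h0 : ∀ a ∈ IsLocalRing.maximalIdeal A, (Algebra.ofId A (A' ⧸ m)) a = 0 := by
    intro a ha
    rw [← hcomap, Ideal.mem_comap] at ha
    change algebraMap A (A' ⧸ m) a = 0
    rw [IsScalarTower.algebraMap_apply A A' (A' ⧸ m)]
    exact Ideal.Quotient.eq_zero_iff_mem.mpr ha
  let f : C →ₐ[A] A' ⧸ m :=
    (Ideal.Quotient.liftₐ (IsLocalRing.maximalIdeal A) (Algebra.ofId A (A' ⧸ m)) h0).comp ε
  have hf : ∀ c : C, ∃ a : A, f c = algebraMap A (A' ⧸ m) a := by
    intro c
    obtain ⟨a, ha⟩ := Ideal.Quotient.mk_surjective (ε c)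
    refine ⟨a, ?_⟩
    change Ideal.Quotient.liftₐ (IsLocalRing.maximalIdeal A) (Algebra.ofId A (A' ⧸ m)) h0 (ε c) = _
    rw [← ha]
    rfl
  let χ₀ : C ⊗[A] A' →ₐ[A] A' ⧸ m :=
    Algebra.TensorProduct.lift f (Ideal.Quotient.mkₐ A m) (fun _ _ => Commute.all _ _)
  have hker : RingHom.ker (Ψ : C ⊗[A] A' →+* E) ≤ RingHom.ker (χ₀ : C ⊗[A] A' →+* A' ⧸ m) := by
    intro x hx
    obtain ⟨n, hn⟩ := hnil x hx
    rw [RingHom.mem_ker]
    have : (χ₀ x) ^ n = 0 := by rw [← map_pow, hn, map_zero]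
    exact eq_zero_of_pow_eq_zero this
  let χ : E →+* A' ⧸ m :=
    RingHom.liftOfSurjective (Ψ : C ⊗[A] A' →+* E) hΨ ⟨(χ₀ : C ⊗[A] A' →+* A' ⧸ m), hker⟩
  have hχ : ∀ t, χ (Ψ t) = χ₀ t := fun t =>
    RingHom.liftOfRightInverse_comp_apply _ _ _ ⟨(χ₀ : C ⊗[A] A' →+* A' ⧸ m), hker⟩ t
  refine ⟨χ, fun a => ?_, fun c => ?_⟩
  · rw [hχ]
    change Algebra.TensorProduct.lift f (Ideal.Quotient.mkₐ A m) _ (1 ⊗ₜ a) = _
    rw [Algebra.TensorProduct.lift_tmul, map_one, one_mul]
    rfl
  · obtain ⟨a, ha⟩ := hf c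
    refine ⟨a, ?_⟩
    have : algebraMap C E c = Ψ (c ⊗ₜ 1) := by
      rw [← Ψ.commutes, Algebra.TensorProduct.algebraMap_apply]
      rfl
    rw [this, hχ]
    change Algebra.TensorProduct.lift f (Ideal.Quotient.mkₐ A m) _ (c ⊗ₜ 1) = _
    rw [Algebra.TensorProduct.lift_tmul, map_one, mul_one, ha]

include ε hΨ hnil in
theorem finite_quotient_maximal [Module.Finite C E] (m : Ideal A') [m.IsMaximal] :
    Module.Finite A (A' ⧸ m) := by
  obtain ⟨χ, h1, h2⟩ := exists_chibar ε Ψ hΨ hnil m
  have hsurj : Function.Surjective χ := by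
    intro y
    obtain ⟨a, rfl⟩ := Ideal.Quotient.mk_surjective y
    exact ⟨_, h1 a⟩
  letI : Module C (A' ⧸ m) := Module.compHom _ (χ.comp (algebraMap C E))
  have hsmul : ∀ (c : C) (y : A' ⧸ m), c • y = χ (algebraMap C E c) * y := fun _ _ => rfl
  let l : E →ₗ[C] A' ⧸ m :=
    { toFun := χ
      map_add' := map_add χ
      map_smul' := fun c e => by
        rw [RingHom.id_apply, hsmul, Algebra.smul_def, map_mul] }
  haveI : Module.Finite C (A' ⧸ m) := Module.Finite.of_surjective l hsurj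
  refine finite_of_forall_exists_smul_eq (C := C) fun c => ?_
  obtain ⟨a, ha⟩ := h2 c
  exact ⟨a, fun y => by rw [hsmul, ha, Algebra.smul_def]⟩

include ε hΨ hnil in
theorem finite_setOf_isMaximal [IsLocalRing C] [Module.Finite C E] :
    {m : Ideal A' | m.IsMaximal}.Finite := by
  classical
  haveI : Finite (MaximalSpectrum E) := Helper14.finite_maxSpec C
  have key : ∀ m : {m : Ideal A' // m.IsMaximal}, ∃ N : MaximalSpectrum E,
      ∀ a : A', a ∈ m.1 ↔ Ψ (1 ⊗ₜ a) ∈ N.asIdeal := by
    rintro ⟨m, hm⟩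
    haveI := hm
    obtain ⟨χ, h1, -⟩ := exists_chibar ε Ψ hΨ hnil m
    have hsurj : Function.Surjective χ := by
      intro y
      obtain ⟨a, rfl⟩ := Ideal.Quotient.mk_surjective y
      exact ⟨_, h1 a⟩
    letI := Ideal.Quotient.field m
    refine ⟨⟨RingHom.ker χ, RingHom.ker_isMaximal_of_surjective χ hsurj⟩, fun a => ?_⟩
    rw [RingHom.mem_ker, h1, Ideal.Quotient.eq_zero_iff_mem]
  choose g hg using key
  have hinj : Function.Injective g := by
    intro m₁ m₂ h
    apply Subtype.ext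
    ext a
    rw [hg m₁ a, hg m₂ a, h]
  haveI : Finite ↑{m : Ideal A' | m.IsMaximal} := Finite.of_injective g hinj
  exact Set.toFinite _

end Local

section Main

open IsLocalRing

/-- **EGA 0_IV 23.2.?** The integral closure of a Noetherian local domain in a finite extension
of its fraction field is semi-local with residue fields finite over that of `A`. -/
theorem main {A K' : Type u} [CommRing A] [IsDomain A] [IsLocalRing A] [IsNoetherianRing A]
    [Field K'] [Algebra A K'] [Algebra (FractionRing A) K'] [IsScalarTower A (FractionRing A) K']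
    [FiniteDimensional (FractionRing A) K'] :
    {m : Ideal (integralClosure A K') | m.IsMaximal}.Finite ∧
      ∀ (m : Ideal (integralClosure A K')), m.IsMaximal →
        Module.Finite A (integralClosure A K' ⧸ m) := by
  haveI := AnUnram.isNoetherianRing_cpl A
  haveI := AnUnram.faithfullyFlat_cpl A
  obtain ⟨E, _, _, Ψ, hfin, hΨ, hnil⟩ := exists_finite_quotient_nil_ker A
    (AdicCompletion (maximalIdeal A) A) (FractionRing A) K' (AnUnram.isNagata_cpl A)
  let ε : AdicCompletion (maximalIdeal A) A →ₐ[A] A ⧸ maximalIdeal A :=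
    ((Ideal.quotientEquivAlgOfEq A (pow_one (maximalIdeal A))) : _ →ₐ[A] _).comp
      (AdicCompletion.evalₐ (maximalIdeal A) 1)
  exact ⟨finite_setOf_isMaximal ε Ψ hΨ hnil,
    fun m hm => by haveI := hm; exact finite_quotient_maximal ε Ψ hΨ hnil m⟩

end Main

end Groth.Agent.Lib.Helper22.IntClSemilocal
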