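import Mathlib
import Groth.Agent.Lib.Helper22.IntClSemilocal
import Groth.Agent.Lib.Helper14.TotalFrac

/-!
# The normalization of a reduced Noetherian local ring is semi-local; residue fields of
integral extensions of quasi-finite local algebras
-/

set_option autoImplicit false
set_option linter.style.haveILetI false
set_option linter.unusedSectionVars false
universe u

namespace Groth.Agent.Lib.Helper22.EssEtNorm

open IsLocalRing

/-- a finite product of semi-local rings is semi-local -/
theorem finite_maximal_pi {ι : Type*} [Finite ι] (R : ι → Type*) [∀ i, CommRing (R i)]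
    (h : ∀ i, {m : Ideal (R i) | m.IsMaximal}.Finite) :
    {m : Ideal (∀ i, R i) | m.IsMaximal}.Finite := by
  have hsub : {m : Ideal (∀ i, R i) | m.IsMaximal} ⊆
      ⋃ i, (Ideal.comap (Pi.evalRingHom R i)) '' {m : Ideal (R i) | m.IsMaximal} := by
    intro m hm
    haveI : m.IsMaximal := hm
    obtain ⟨⟨i, p⟩, hp⟩ := (PrimeSpectrum.sigmaToPi_bijective R).2 ⟨m, inferInstance⟩
    have hpm : Ideal.comap (Pi.evalRingHom R i) p.asIdeal = m := by
      have := congrArg PrimeSpectrum.asIdeal hp
      simpa [PrimeSpectrum.sigmaToPi_apply] using this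
    have hsurj : Function.Surjective (Pi.evalRingHom R i) := Function.surjective_eval i
    have hker : RingHom.ker (Pi.evalRingHom R i) ≤ m := by
      rw [← hpm]
      exact Ideal.comap_mono bot_le
    have hmax : (m.map (Pi.evalRingHom R i)).IsMaximal :=
      Ideal.IsMaximal.map_of_surjective_of_ker_le hsurj hker
    have hmap : m.map (Pi.evalRingHom R i) = p.asIdeal := by
      rw [← hpm, Ideal.map_comap_of_surjective _ hsurj]
    rw [Set.mem_iUnion]
    exact ⟨i, p.asIdeal, hmap ▸ hmax, hpm⟩
  exact (Set.finite_iUnion fun i => (h i).image _).subset hsub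

/-- semi-locality transfers along ring isomorphisms -/
theorem finite_maximal_of_ringEquiv {R S : Type*} [CommRing R] [CommRing S] (e : R ≃+* S)
    (h : {m : Ideal S | m.IsMaximal}.Finite) : {m : Ideal R | m.IsMaximal}.Finite := by
  have hsub : {m : Ideal R | m.IsMaximal} ⊆
      (Ideal.comap (e : R →+* S)) '' {m : Ideal S | m.IsMaximal} := by
    intro m hm
    haveI : m.IsMaximal := hm
    refine ⟨m.comap (e.symm : S →+* R), ?_, ?_⟩
    · exact Ideal.comap_isMaximal_of_surjective _ e.symm.surjective
    · rw [Ideal.comap_comap]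
      have : (e.symm : S →+* R).comp (e : R →+* S) = RingHom.id R := by
        ext x; simp
      rw [this, Ideal.comap_id]
  exact (h.image _).subset hsub

/-- **Mori–Nagata, semi-local part**: the normalization of a reduced Noetherian local ring in its
total ring of fractions has finitely many maximal ideals. -/
theorem finite_maximal_normalization (E : Type u) [CommRing E] [IsLocalRing E]
    [IsNoetherianRing E] [IsReduced E] :
    {M : Ideal (integralClosure E (FractionRing E)) | M.IsMaximal}.Finite := by
  have hmin : (minimalPrimes E).Finite := minimalPrimes.finite_of_isNoetherianRing E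
  haveI : Finite (minimalPrimes E) := hmin
  refine finite_maximal_of_ringEquiv (Helper14.normalizationPiEquiv E hmin).toRingEquiv ?_
  apply finite_maximal_pi
  intro q
  haveI : q.1.IsPrime := q.2.1.1
  haveI : IsLocalRing (E ⧸ q.1) :=
    IsLocalRing.of_surjective' (Ideal.Quotient.mk q.1) Ideal.Quotient.mk_surjective
  exact (Groth.Agent.Lib.Helper22.IntClSemilocal.main (A := E ⧸ q.1)
    (K' := FractionRing (E ⧸ q.1))).1

/-- the residue field of a quasi-finite local algebra is finite over the base -/
theorem finite_residue (A E : Type u) [CommRing A] [IsLocalRing A] [CommRing E] [IsLocalRing E]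
    [Algebra A E] [IsLocalHom (algebraMap A E)] [Algebra.QuasiFinite A E] :
    Module.Finite A (E ⧸ maximalIdeal E) := by
  haveI : (maximalIdeal E).LiesOver (maximalIdeal A) :=
    ⟨(IsLocalRing.maximalIdeal_comap (algebraMap A E)).symm⟩
  haveI : IsArtinianRing (A ⧸ maximalIdeal A) := inferInstanceAs (IsArtinianRing (ResidueField A))
  haveI : Algebra.QuasiFinite (A ⧸ maximalIdeal A) (E ⧸ maximalIdeal E) :=
    Algebra.QuasiFinite.of_restrictScalars A _ _
  haveI : Module.Finite (A ⧸ maximalIdeal A) (E ⧸ maximalIdeal E) := Module.Finite.of_quasiFinite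
  exact Module.Finite.trans (A ⧸ maximalIdeal A) _

/-- residue fields of an integral extension of a quasi-finite local algebra are algebraic over
the base -/
theorem exists_monic_aeval_mem (A E B : Type u) [CommRing A] [IsLocalRing A] [CommRing E]
    [IsLocalRing E] [Algebra A E] [IsLocalHom (algebraMap A E)] [Algebra.QuasiFinite A E]
    [CommRing B] [Algebra E B] [Algebra A B] [IsScalarTower A E B] [Algebra.IsIntegral E B]
    (M : Ideal B) [M.IsMaximal] (x : B) :
    ∃ p : Polynomial A, p.Monic ∧ Polynomial.aeval x p ∈ M := by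
  have hmax : (M.comap (algebraMap E B)).IsMaximal :=
    Ideal.isMaximal_comap_of_isIntegral_of_isMaximal M
  haveI : M.LiesOver (maximalIdeal E) := ⟨(IsLocalRing.eq_maximalIdeal hmax).symm⟩
  haveI := finite_residue A E
  haveI : Algebra.IsIntegral A (E ⧸ maximalIdeal E) := inferInstance
  haveI : Algebra.IsIntegral (E ⧸ maximalIdeal E) (B ⧸ M) := inferInstance
  haveI : IsScalarTower A (E ⧸ maximalIdeal E) (B ⧸ M) := inferInstance
  haveI : Algebra.IsIntegral A (B ⧸ M) := Algebra.IsIntegral.trans (E ⧸ maximalIdeal E)
  obtain ⟨p, hp, hpx⟩ := Algebra.IsIntegral.isIntegral (R := A) (Ideal.Quotient.mk M x)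
  refine ⟨p, hp, ?_⟩
  rw [← Ideal.Quotient.eq_zero_iff_mem]
  rw [← Ideal.Quotient.mkₐ_eq_mk A, ← Polynomial.aeval_algHom_apply]
  exact hpx

/-- the maximal ideal of the base is contained in the contraction of any maximal ideal of an
integral extension of a local algebra -/
theorem maximalIdeal_le_comap (A E B : Type u) [CommRing A] [IsLocalRing A] [CommRing E]
    [IsLocalRing E] [Algebra A E] [IsLocalHom (algebraMap A E)]
    [CommRing B] [Algebra E B] [Algebra A B] [IsScalarTower A E B] [Algebra.IsIntegral E B]
    (M : Ideal B) [M.IsMaximal] : maximalIdeal A ≤ M.comap (algebraMap A B) := by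
  have hmax : (M.comap (algebraMap E B)).IsMaximal :=
    Ideal.isMaximal_comap_of_isIntegral_of_isMaximal M
  have h1 : M.comap (algebraMap E B) = maximalIdeal E := IsLocalRing.eq_maximalIdeal hmax
  rw [IsScalarTower.algebraMap_eq A E B, ← Ideal.comap_comap, h1,
    IsLocalRing.maximalIdeal_comap]

end Groth.Agent.Lib.Helper22.EssEtNorm
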