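import Mathlib

/-!
# Maximal ideals of `C = L ⊓ E'` (abstract form of EGA IV 18.?)
-/

set_option autoImplicit false
set_option linter.style.haveILetI false
set_option linter.unusedSectionVars false
universe u

namespace Groth.Agent.Lib.Helper22.EssEtNorm

open IsLocalRing

section Core

variable {A K : Type u} [CommRing A] [IsLocalRing A] [CommRing K] [Algebra A K]
  (E' L C : Subalgebra A K) (hC : C = L ⊓ E')
  (hinv : ∀ x ∈ L, IsUnit x → ∃ y ∈ L, x * y = 1)

include hinv in
/-- an element of `C` outside all maximal ideals of `E'` is a unit of `C` -/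
theorem isUnit_of_forall_notMem (c : C)
    (hc : ∀ (M : Ideal E'), M.IsMaximal → Subalgebra.inclusion (hC.trans_le inf_le_right) c ∉ M) :
    IsUnit c := by
  have hu : IsUnit (Subalgebra.inclusion (hC.trans_le inf_le_right) c) := by
    by_contra hnu
    obtain ⟨M, hM, hcM⟩ := exists_max_ideal_of_mem_nonunits hnu
    exact hc M hM hcM
  obtain ⟨w, hw⟩ := hu.exists_right_inv
  have hwK : (c : K) * (w : K) = 1 := congrArg (fun z : E' => (z : K)) hw
  have hcL : (c : K) ∈ L := (hC.trans_le inf_le_left) c.2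
  obtain ⟨y, hyL, hy⟩ := hinv (c : K) hcL (IsUnit.of_mul_eq_one _ hwK)
  have hyw : y = (w : K) := by
    calc y = y * ((c : K) * (w : K)) := by rw [hwK, mul_one]
      _ = ((c : K) * y) * (w : K) := by ring
      _ = (w : K) := by rw [hy, one_mul]
  have hyC : y ∈ C := by
    rw [hC]
    exact ⟨hyL, hyw ▸ w.2⟩
  exact IsUnit.of_mul_eq_one (⟨y, hyC⟩ : C) (Subtype.ext hy)

variable (halg : ∀ (M : Ideal E') [M.IsMaximal] (x : E'),
    ∃ p : Polynomial A, p.Monic ∧ Polynomial.aeval x p ∈ M)
  (hloc : ∀ (M : Ideal E') [M.IsMaximal], maximalIdeal A ≤ M.comap (algebraMap A E'))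

include halg hloc in
/-- the contraction of a maximal ideal of `E'` to `C` is maximal -/
theorem isMaximal_comap_inclusion (M : Ideal E') [hM : M.IsMaximal] :
    (M.comap (Subalgebra.inclusion (hC.trans_le inf_le_right))).IsMaximal := by
  set ι := Subalgebra.inclusion (hC.trans_le inf_le_right) with hι
  set P : Ideal C := M.comap ι with hP
  haveI : P.IsPrime := Ideal.comap_isPrime _ _
  haveI : IsDomain (C ⧸ P) := Ideal.Quotient.isDomain P
  haveI : (⊥ : Ideal (C ⧸ P)).IsPrime := Ideal.isPrime_bot
  haveI : Algebra.IsIntegral A (C ⧸ P) := by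
    refine ⟨fun z => ?_⟩
    obtain ⟨c, rfl⟩ := Ideal.Quotient.mk_surjective z
    obtain ⟨p, hp, hpx⟩ := halg M (ι c)
    refine ⟨p, hp, ?_⟩
    have h1 : Polynomial.aeval c p ∈ P := by
      rw [hP, Ideal.mem_comap, ← Polynomial.aeval_algHom_apply]
      exact hpx
    change Polynomial.aeval (Ideal.Quotient.mk P c) p = 0
    rw [← Ideal.Quotient.mkₐ_eq_mk A, Polynomial.aeval_algHom_apply, Ideal.Quotient.mkₐ_eq_mk,
      Ideal.Quotient.eq_zero_iff_mem]
    exact h1
  have hcomap : ((⊥ : Ideal (C ⧸ P)).comap (algebraMap A (C ⧸ P))) = maximalIdeal A := by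
    have hle : maximalIdeal A ≤ (⊥ : Ideal (C ⧸ P)).comap (algebraMap A (C ⧸ P)) := by
      intro a ha
      rw [Ideal.mem_comap, Ideal.mem_bot]
      change Ideal.Quotient.mk P (algebraMap A C a) = 0
      rw [Ideal.Quotient.eq_zero_iff_mem, hP, Ideal.mem_comap]
      have := hloc M ha
      rw [Ideal.mem_comap] at this
      rw [AlgHom.commutes]
      exact this
    have hne : (⊥ : Ideal (C ⧸ P)).comap (algebraMap A (C ⧸ P)) ≠ ⊤ :=
      (Ideal.comap_isPrime _ _).ne_top
    exact ((maximalIdeal.isMaximal A).eq_of_le hne hle).symm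
  have hbot : (⊥ : Ideal (C ⧸ P)).IsMaximal := by
    apply Ideal.isMaximal_of_isIntegral_of_isMaximal_comap (R := A)
    rw [hcomap]
    exact maximalIdeal.isMaximal A
  exact (Ideal.bot_quotient_isMaximal_iff P).mp hbot

variable (hfin : {M : Ideal E' | M.IsMaximal}.Finite)

include hinv halg hloc hfin in
theorem maximal_iff (N : Ideal C) : N.IsMaximal ↔
    ∃ M : Ideal E', M.IsMaximal ∧
      N = M.comap (Subalgebra.inclusion (hC.trans_le inf_le_right)) := by
  classical
  constructor
  · intro hN
    have hsub : (N : Set C) ⊆ ⋃ M ∈ (hfin.toFinset : Set (Ideal E')),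
        ((M.comap (Subalgebra.inclusion (hC.trans_le inf_le_right)) : Ideal C) : Set C) := by
      intro c hc
      by_contra hcon
      have hc' : ∀ (M : Ideal E'), M.IsMaximal →
          Subalgebra.inclusion (hC.trans_le inf_le_right) c ∉ M := by
        intro M hM hcM
        apply hcon
        simp only [Set.mem_iUnion, Finset.mem_coe, Set.Finite.mem_toFinset, Set.mem_ofPred_eq]
        exact ⟨M, hM, hcM⟩
      have hu := isUnit_of_forall_notMem E' L C hC hinv c hc'
      exact hN.ne_top (Ideal.eq_top_of_isUnit_mem N hc hu)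
    rw [Ideal.subset_union_prime (⊤ : Ideal E') ⊤] at hsub
    · obtain ⟨M, hM, hNM⟩ := hsub
      have hMmax : M.IsMaximal := by simpa using hM
      haveI := isMaximal_comap_inclusion E' L C hC halg hloc M
      refine ⟨M, hMmax, ?_⟩
      exact hN.eq_of_le (Ideal.IsMaximal.ne_top inferInstance) hNM
    · intro M hM _ _
      have hMmax : M.IsMaximal := by simpa using hM
      haveI := hMmax
      exact Ideal.comap_isPrime _ _
  · rintro ⟨M, hM, rfl⟩
    exact isMaximal_comap_inclusion E' L C hC halg hloc M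

include hC hinv halg hloc hfin in
theorem finite_maximal : {N : Ideal C | N.IsMaximal}.Finite := by
  have hsub : {N : Ideal C | N.IsMaximal} ⊆
      (Ideal.comap (Subalgebra.inclusion (hC.trans_le inf_le_right))) ''
        {M : Ideal E' | M.IsMaximal} := by
    intro N hN
    obtain ⟨M, hM, rfl⟩ := (maximal_iff E' L C hC hinv halg hloc hfin N).mp hN
    exact ⟨M, hM, rfl⟩
  exact (hfin.image _).subset hsub

end Core

end Groth.Agent.Lib.Helper22.EssEtNorm
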