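import Mathlib
import Groth.Prelude.Def_EssEt
import Groth.Agent.Lib.Helper22.EssEtNormA
import Groth.Agent.Lib.Helper22.EssEtNormB
import Groth.Agent.Lib.Helper12.TotalFrac4
import Groth.Agent.Lib.Helper12.EssEtaleFlat
import Groth.Agent.Lib.Helper12.EssEtale2
import Groth.Agent.Lib.Helper12.EtaleReduced

/-!
# EGA IV 18.?: the ring `C = L ⊓ E'` for an essentially étale local algebra over a reduced
Noetherian local ring
-/

set_option autoImplicit false
set_option linter.style.haveILetI false
set_option linter.unusedSectionVars false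
universe u

namespace Groth.Agent.Lib.Helper22.EssEtNorm

open IsLocalRing Groth.Agent.Lib.Helper12

theorem isNoetherianRing_of_isEssentiallyEtale {A E : Type u} [CommRing A] [IsLocalRing A]
    [IsNoetherianRing A] [CommRing E] [Algebra A E] (hE : EGA4loc.IsEssentiallyEtale A E) :
    IsNoetherianRing E := by
  obtain ⟨C₀, _, _, q, _, hEt, -, ⟨e⟩⟩ := hE
  haveI : IsNoetherianRing C₀ := Algebra.FiniteType.isNoetherianRing A C₀
  haveI : IsNoetherianRing (Localization.AtPrime q) :=
    IsLocalization.isNoetherianRing q.primeCompl _ inferInstance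
  exact isNoetherianRing_of_ringEquiv _ e.symm.toRingEquiv

theorem isReduced_of_isEssentiallyEtale {A E : Type u} [CommRing A] [IsLocalRing A]
    [IsReduced A] [CommRing E] [Algebra A E] (hE : EGA4loc.IsEssentiallyEtale A E) :
    IsReduced E := by
  obtain ⟨C₀, _, _, q, _, hEt, -, ⟨e⟩⟩ := hE
  haveI : IsReduced C₀ := isReduced_of_etale A C₀
  exact isReduced_of_injective e e.injective

theorem main
    (A E : Type u) [CommRing A] [IsLocalRing A] [IsReduced A] [IsNoetherianRing A]
    [CommRing E] [IsLocalRing E] [Algebra A E] [IsLocalHom (algebraMap A E)]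
    (hE : EGA4loc.IsEssentiallyEtale A E) (L : Subalgebra A (FractionRing E))
    (hL : ∀ s ∈ nonZeroDivisors A, ∃ y ∈ L, algebraMap A (FractionRing E) s * y = 1)
    (C : Subalgebra A (FractionRing E))
    (hC : C = L ⊓ (integralClosure E (FractionRing E)).restrictScalars A) :
    (∀ x ∈ L, IsIntegral C x → x ∈ C) ∧
      {N : Ideal C | N.IsMaximal}.Finite ∧
      (∀ N : Ideal C, N.IsMaximal ↔
        ∃ M : Ideal ((integralClosure E (FractionRing E)).restrictScalars A),
          M.IsMaximal ∧ N = M.comap (Subalgebra.inclusion (hC.trans_le inf_le_right))) ∧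
      ∀ l ∈ L, ∃ c ∈ C, ∃ s ∈ nonZeroDivisors A, ∃ y ∈ L,
        algebraMap A (FractionRing E) s * y = 1 ∧ l = c * y := by
  classical
  haveI hflat := flat_of_isEssentiallyEtale hE
  haveI hqf := quasiFinite_of_isEssentiallyEtale hE
  have hmin : (minimalPrimes A).Finite := minimalPrimes.finite_of_isNoetherianRing A
  haveI : IsNoetherianRing E := isNoetherianRing_of_isEssentiallyEtale hE
  haveI : IsReduced E := isReduced_of_isEssentiallyEtale hE
  have hinv : ∀ x ∈ L, IsUnit x → ∃ y ∈ L, x * y = 1 := fun x hx hu =>
    TotalFrac.exists_inv_mem_of_forall_inv A E hmin L hL hx hu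
  letI algE : Algebra E ((integralClosure E (FractionRing E)).restrictScalars A) :=
    inferInstanceAs (Algebra E (integralClosure E (FractionRing E)))
  haveI : IsScalarTower A E ((integralClosure E (FractionRing E)).restrictScalars A) :=
    IsScalarTower.of_algebraMap_eq fun a =>
      Subtype.ext (IsScalarTower.algebraMap_apply A E (FractionRing E) a)
  haveI : Algebra.IsIntegral E ((integralClosure E (FractionRing E)).restrictScalars A) :=
    inferInstanceAs (Algebra.IsIntegral E (integralClosure E (FractionRing E)))
  have hfin : {M : Ideal ((integralClosure E (FractionRing E)).restrictScalars A) |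
      M.IsMaximal}.Finite := finite_maximal_normalization E
  have halg : ∀ (M : Ideal ((integralClosure E (FractionRing E)).restrictScalars A))
      [M.IsMaximal] (x : (integralClosure E (FractionRing E)).restrictScalars A),
      ∃ p : Polynomial A, p.Monic ∧ Polynomial.aeval x p ∈ M := fun M _ x =>
    exists_monic_aeval_mem A E _ M x
  have hloc : ∀ (M : Ideal ((integralClosure E (FractionRing E)).restrictScalars A))
      [M.IsMaximal], maximalIdeal A ≤ M.comap (algebraMap A _) := fun M _ =>
    maximalIdeal_le_comap A E _ M
  refine ⟨?_, finite_maximal _ L C hC hinv halg hloc hfin,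
    maximal_iff _ L C hC hinv halg hloc hfin, ?_⟩
  · intro x hxL hx
    rw [hC]
    refine ⟨hxL, ?_⟩
    change IsIntegral E x
    let j : C →+* integralClosure E (FractionRing E) :=
      (Subalgebra.inclusion (hC.trans_le inf_le_right)).toRingHom
    have h1 : IsIntegral (integralClosure E (FractionRing E)) (RingHom.id (FractionRing E) x) :=
      hx.map_of_comp_eq j (RingHom.id (FractionRing E)) (by ext c; rfl)
    exact isIntegral_trans x h1
  · intro l hl
    haveI := TotalFrac.isLocalization_map_nonZeroDivisors A E hmin
    obtain ⟨⟨e, s'⟩, h⟩ := IsLocalization.surj ((nonZeroDivisors A).map (algebraMap A E)) l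
    obtain ⟨s, hs, hss'⟩ := s'.2
    obtain ⟨y, hyL, hy⟩ := hL s hs
    have h' : l * algebraMap A (FractionRing E) s = algebraMap E (FractionRing E) e := by
      rw [IsScalarTower.algebraMap_apply A E (FractionRing E), hss']
      exact h
    refine ⟨algebraMap E (FractionRing E) e, ?_, s, hs, y, hyL, hy, ?_⟩
    · rw [hC]
      refine ⟨?_, ?_⟩
      · rw [← h']
        exact L.mul_mem hl (L.algebraMap_mem s)
      · change IsIntegral E (algebraMap E (FractionRing E) e)
        exact isIntegral_algebraMap
    · rw [← h', mul_assoc, hy, mul_one]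

end Groth.Agent.Lib.Helper22.EssEtNorm
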