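import Mathlib

/-!
# Lifting a standard etale algebra along a "localization of a quotient" (helper22)

`LocQuot R Rb`: every element of `Rb` is (image of `R`)/(unit from the image of `R`).
Main result `exists_lift`: a standard etale `Rb`-algebra is the base change of a standard
etale algebra over some `Localization.Away r`, `r` a unit in `Rb`.
-/

set_option autoImplicit false
set_option linter.style.haveILetI false
set_option linter.unusedSectionVars false
universe u

open Polynomial TensorProduct

namespace Groth.Agent.Lib.Helper22.EtLiftAlg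

/-- every element of `Rb` is a quotient of elements from `R` with denominator a unit of `Rb` -/
def LocQuot (R Rb : Type*) [CommRing R] [CommRing Rb] [Algebra R Rb] : Prop :=
  ∀ y : Rb, ∃ a b : R, IsUnit (algebraMap R Rb a) ∧ y * algebraMap R Rb a = algebraMap R Rb b

theorem LocQuot.exists_common {R Rb : Type*} [CommRing R] [CommRing Rb] [Algebra R Rb]
    (h : LocQuot R Rb) (T : Finset Rb) :
    ∃ a : R, IsUnit (algebraMap R Rb a) ∧
      ∀ y ∈ T, ∃ b : R, y * algebraMap R Rb a = algebraMap R Rb b := by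
  classical
  induction T using Finset.induction_on with
  | empty => exact ⟨1, by simp, by simp⟩
  | insert y T' _ ih =>
    obtain ⟨a', ha', h'⟩ := ih
    obtain ⟨a₀, b₀, ha₀, hb₀⟩ := h y
    refine ⟨a₀ * a', by rw [map_mul]; exact ha₀.mul ha', ?_⟩
    intro z hz
    rcases Finset.mem_insert.mp hz with rfl | hz
    · exact ⟨b₀ * a', by rw [map_mul, map_mul, ← mul_assoc, hb₀]⟩
    · obtain ⟨b, hb⟩ := h' z hz
      exact ⟨b * a₀, by rw [map_mul, map_mul, mul_comm (algebraMap R Rb a₀), ← mul_assoc, hb]⟩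

/-- base change of a `LocQuot` algebra -/
theorem LocQuot.tensor {A B K : Type*} [CommRing A] [CommRing B] [CommRing K] [Algebra A B]
    [Algebra A K] (h : LocQuot A K) : LocQuot B (B ⊗[A] K) := by
  intro y
  induction y using TensorProduct.induction_on with
  | zero => exact ⟨1, 0, by rw [map_one]; exact isUnit_one, by simp⟩
  | tmul b k =>
    obtain ⟨a, c, ha, hc⟩ := h k
    refine ⟨algebraMap A B a, b * algebraMap A B c, ?_, ?_⟩
    · have : algebraMap B (B ⊗[A] K) (algebraMap A B a) =
          (Algebra.TensorProduct.includeRight : K →ₐ[A] B ⊗[A] K) (algebraMap A K a) := by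
        rw [AlgHom.commutes, ← IsScalarTower.algebraMap_apply]
      rw [this]
      exact ha.map _
    · rw [Algebra.TensorProduct.algebraMap_apply, Algebra.TensorProduct.algebraMap_apply,
        Algebra.TensorProduct.tmul_mul_tmul, mul_one, Algebra.algebraMap_self, RingHom.id_apply,
        RingHom.id_apply]
      have e1 : (b * algebraMap A B a) ⊗ₜ[A] k = b ⊗ₜ[A] (algebraMap A K a * k) := by
        rw [mul_comm b, ← Algebra.smul_def, ← Algebra.smul_def, smul_tmul]
      have e2 : (b * algebraMap A B c) ⊗ₜ[A] (1 : K) = b ⊗ₜ[A] (algebraMap A K c) := by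
        rw [mul_comm b, ← Algebra.smul_def, smul_tmul, Algebra.smul_def, mul_one]
      rw [e1, e2, ← hc, mul_comm]
  | add y₁ y₂ h₁ h₂ =>
    obtain ⟨a₁, b₁, ha₁, hb₁⟩ := h₁
    obtain ⟨a₂, b₂, ha₂, hb₂⟩ := h₂
    refine ⟨a₁ * a₂, b₁ * a₂ + b₂ * a₁, by rw [map_mul]; exact ha₁.mul ha₂, ?_⟩
    simp only [map_mul, map_add, ← hb₁, ← hb₂]
    ring

attribute [local instance] Algebra.TensorProduct.rightAlgebra in
/-- Lifting a standard etale algebra along a `LocQuot` map, after localizing the source. -/
theorem exists_lift {R Rb Cb : Type u} [CommRing R] [CommRing Rb] [CommRing Cb]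
    [Algebra R Rb] [Algebra Rb Cb] (h : LocQuot R Rb) [Algebra.IsStandardEtale Rb Cb] :
    ∃ (r : R) (ρ : Localization.Away r →+* Rb) (PP : StandardEtalePair (Localization.Away r))
      (θ : PP.Ring →+* Cb),
      ρ.comp (algebraMap R (Localization.Away r)) = algebraMap R Rb ∧
      CategoryTheory.IsPushout
        (CommRingCat.ofHom (algebraMap (Localization.Away r) PP.Ring))
        (CommRingCat.ofHom ρ)
        (CommRingCat.ofHom θ) (CommRingCat.ofHom (algebraMap Rb Cb)) := by
  classical
  let P0 : StandardEtalePresentation Rb Cb :=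
    (Algebra.IsStandardEtale.nonempty_standardEtalePresentation (R := Rb) (S := Cb)).some
  obtain ⟨r, hr, hT⟩ := h.exists_common (P0.f.coeffs ∪ P0.g.coeffs)
  let ρ : Localization.Away r →+* Rb := IsLocalization.Away.lift r hr
  have hρ : ρ.comp (algebraMap R (Localization.Away r)) = algebraMap R Rb :=
    IsLocalization.Away.lift_comp r hr
  have hρa : ∀ a : R, ρ (algebraMap R (Localization.Away r) a) = algebraMap R Rb a :=
    fun a => IsLocalization.Away.lift_eq r hr a
  have hrange : ∀ y ∈ P0.f.coeffs ∪ P0.g.coeffs, y ∈ Set.range ρ := by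
    intro y hy
    obtain ⟨b, hb⟩ := hT y hy
    refine ⟨algebraMap R _ b * IsLocalization.Away.invSelf r, ?_⟩
    have h1 : ρ (algebraMap R _ r) * ρ (IsLocalization.Away.invSelf r) = 1 := by
      rw [← map_mul, IsLocalization.Away.mul_invSelf, map_one]
    rw [map_mul, hρa, ← hb, mul_assoc, ← hρa r, h1, mul_one]
  have hlift : ∀ q : Rb[X], (q.coeffs : Set Rb) ⊆ ↑(P0.f.coeffs ∪ P0.g.coeffs) →
      q ∈ Polynomial.lifts ρ := by
    intro q hq
    rw [Polynomial.lifts_iff_coeffs_subset_range]
    exact fun y hy => hrange y (hq hy)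
  have hfl : P0.f ∈ Polynomial.lifts ρ :=
    hlift _ (by intro y hy; exact Finset.mem_union_left _ hy)
  have hgl : P0.g ∈ Polynomial.lifts ρ :=
    hlift _ (by intro y hy; exact Finset.mem_union_right _ hy)
  obtain ⟨P, hPmap, -, hPmonic⟩ := Polynomial.lifts_and_natDegree_eq_and_monic hfl P0.monic_f
  obtain ⟨g, hgmap⟩ := (Polynomial.mem_lifts _).mp hgl
  let PP : StandardEtalePair (Localization.Away r) :=
    ⟨P, hPmonic, g * derivative P, ⟨g, 0, 1, by ring⟩⟩
  letI algρ : Algebra (Localization.Away r) Rb := ρ.toAlgebra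
  let PP' : StandardEtalePair Rb := PP.map (algebraMap (Localization.Away r) Rb)
  have hPP'f : PP'.f = P0.f := hPmap
  have hPP'g : PP'.g = P0.g * derivative P0.f := by
    show (g * derivative P).map ρ = _
    rw [Polynomial.map_mul, hgmap, ← Polynomial.derivative_map, hPmap]
  -- the presentation of `PP.Ring` and its base change
  let Q : StandardEtalePresentation (Localization.Away r) PP.Ring :=
    ⟨PP, PP.X, PP.hasMap_X, by simpa [StandardEtalePair.lift_X_left] using Function.bijective_id⟩
  let e₁ : Rb ⊗[Localization.Away r] PP.Ring ≃ₐ[Rb] PP'.Ring := Q.baseChange.equivRing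
  have he₁X : e₁ (1 ⊗ₜ PP.X) = PP'.X := Q.baseChange.equivRing_x
  -- the comparison with `Cb`
  have hmap : PP'.HasMap P0.x := by
    refine ⟨?_, ?_⟩
    · rw [hPP'f]; exact P0.hasMap.1
    · rw [hPP'g, map_mul]
      exact P0.hasMap.2.mul P0.hasMap.isUnit_derivative_f
  have hmap' : P0.HasMap PP'.X := by
    refine ⟨?_, ?_⟩
    · rw [← hPP'f]; exact PP'.hasMap_X.1
    · have := PP'.hasMap_X.2
      rw [hPP'g, map_mul] at this
      exact isUnit_of_mul_isUnit_left this
  let fwd : PP'.Ring →ₐ[Rb] Cb := PP'.lift P0.x hmap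
  let bwd : Cb →ₐ[Rb] PP'.Ring := (P0.lift PP'.X hmap').comp P0.equivRing.toAlgHom
  have hfwdX : fwd PP'.X = P0.x := PP'.lift_X _ _
  have hbwdx : bwd P0.x = PP'.X := by
    show P0.lift PP'.X hmap' (P0.equivRing P0.x) = _
    rw [P0.equivRing_x]
    exact P0.lift_X _ _
  let e₂ : PP'.Ring ≃ₐ[Rb] Cb := AlgEquiv.ofAlgHom fwd bwd
    (P0.hom_ext (by simp [hbwdx, hfwdX]))
    (PP'.hom_ext (by simp [hbwdx, hfwdX]))
  let e : Rb ⊗[Localization.Away r] PP.Ring ≃ₐ[Rb] Cb := e₁.trans e₂
  let θ : PP.Ring →+* Cb := e.toRingHom.comp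
    (Algebra.TensorProduct.includeRight (R := Localization.Away r) (A := Rb) (B := PP.Ring)).toRingHom
  letI algθ : Algebra PP.Ring Cb := θ.toAlgebra
  letI algC : Algebra (Localization.Away r) Cb := ((algebraMap Rb Cb).comp ρ).toAlgebra
  haveI : IsScalarTower (Localization.Away r) Rb Cb := IsScalarTower.of_algebraMap_eq fun _ => rfl
  haveI : IsScalarTower (Localization.Away r) PP.Ring Cb := by
    refine IsScalarTower.of_algebraMap_eq fun z => ?_
    show algebraMap Rb Cb (ρ z) = e (1 ⊗ₜ algebraMap _ PP.Ring z)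
    have : (1 : Rb) ⊗ₜ[Localization.Away r] algebraMap _ PP.Ring z =
        algebraMap Rb (Rb ⊗[Localization.Away r] PP.Ring) (ρ z) := by
      rw [Algebra.TensorProduct.algebraMap_apply, Algebra.algebraMap_self, RingHom.id_apply,
        Algebra.algebraMap_eq_smul_one, ← smul_tmul, Algebra.smul_def, mul_one]
      rfl
    rw [this, AlgEquiv.commutes]
  haveI : Algebra.IsPushout (Localization.Away r) Rb PP.Ring Cb :=
    Algebra.IsPushout.of_equiv e rfl
  refine ⟨r, ρ, PP, θ, hρ, ?_⟩
  exact (CommRingCat.isPushout_of_isPushout (Localization.Away r) Rb PP.Ring Cb).flip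

end Groth.Agent.Lib.Helper22.EtLiftAlg
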