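import Mathlib
import Groth.Agent.Lib.Helper22.EtLiftAlg

/-!
# Pullback lemmas with monomorphisms; `LocQuot` for the evaluation at a point (helper22)
-/

set_option autoImplicit false
set_option linter.style.haveILetI false
set_option linter.unusedSectionVars false
universe u
open AlgebraicGeometry CategoryTheory CategoryTheory.Limits
open Groth.Agent.Lib.Helper22.EtLiftAlg

namespace Groth.Agent.Lib.Helper22.EtLiftCat

section cat
variable {C : Type*} [Category C] {P X Y W Z : C}

theorem isPullback_comp_mono {fst : P ⟶ X} {snd : P ⟶ Y} {f : X ⟶ W} {g : Y ⟶ W}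
    (h : IsPullback fst snd f g) (i : W ⟶ Z) [Mono i] : IsPullback fst snd (f ≫ i) (g ≫ i) := by
  refine ⟨⟨by rw [reassoc_of% h.w]⟩, ⟨PullbackCone.IsLimit.mk _
    (fun s => h.lift s.fst s.snd ((cancel_mono i).mp (by simpa using s.condition)))
    (fun s => h.lift_fst _ _ _) (fun s => h.lift_snd _ _ _) ?_⟩⟩
  intro s m h1 h2
  exact h.hom_ext (by simpa using h1) (by simpa using h2)

theorem isPullback_of_mono_factor {X' : C} {a : P ⟶ W} {q : P ⟶ X'} {i : X' ⟶ X} {b : W ⟶ Z}
    {c : X ⟶ Z} (h : IsPullback a (q ≫ i) b c) [Mono i] : IsPullback a q b (i ≫ c) := by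
  refine ⟨⟨by rw [h.w, Category.assoc]⟩, ⟨PullbackCone.IsLimit.mk _
    (fun s => h.lift s.fst (s.snd ≫ i) (by simpa using s.condition))
    (fun s => h.lift_fst _ _ _) (fun s => ?_) ?_⟩⟩
  · rw [← cancel_mono i, Category.assoc]
    exact h.lift_snd _ _ _
  · intro s m h1 h2
    refine h.hom_ext (by simpa using h1) ?_
    rw [h.lift_snd, ← h2, Category.assoc]
end cat

theorem locQuot_evaluation (S : Scheme.{u}) (S₀ : S.Opens) (hS₀ : IsAffineOpen S₀) (s : S)
    (hs : s ∈ S₀) :
    letI := (S.evaluation S₀ s hs).hom.toAlgebra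
    LocQuot Γ(S, S₀) (S.residueField s) := by
  letI := (S.evaluation S₀ s hs).hom.toAlgebra
  intro y
  obtain ⟨t, rfl⟩ := IsLocalRing.residue_surjective (R := S.presheaf.stalk s) y
  letI := TopCat.Presheaf.algebra_section_stalk S.presheaf ⟨s, hs⟩
  haveI : IsLocalization.AtPrime (S.presheaf.stalk s) (hS₀.primeIdealOf ⟨s, hs⟩).asIdeal :=
    hS₀.isLocalization_stalk ⟨s, hs⟩
  obtain ⟨⟨b, a⟩, hab⟩ := IsLocalization.surj (hS₀.primeIdealOf ⟨s, hs⟩).asIdeal.primeCompl t
  have hu : IsUnit (algebraMap Γ(S, S₀) (S.presheaf.stalk s) a.1) :=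
    IsLocalization.map_units (S.presheaf.stalk s) a
  have key : ∀ c : Γ(S, S₀), algebraMap Γ(S, S₀) (S.residueField s) c =
      IsLocalRing.residue (S.presheaf.stalk s) (algebraMap Γ(S, S₀) (S.presheaf.stalk s) c) := by
    intro c
    show (S.evaluation S₀ s hs).hom c = _
    rw [← Scheme.germ_residue]
    rfl
  refine ⟨a.1, b, ?_, ?_⟩
  · rw [key]; exact hu.map _
  · rw [key, key]
    exact (map_mul (IsLocalRing.residue (S.presheaf.stalk s)) _ _).symm.trans (congrArg _ hab)

end Groth.Agent.Lib.Helper22.EtLiftCat
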