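import Mathlib
import Groth.Agent.Lib.Helper22.EtLiftAlg
import Groth.Agent.Lib.Helper22.EtLiftCat

/-!
# Lifting an etale neighbourhood of a point of a fibre to the total space (helper22)
-/

set_option autoImplicit false
set_option linter.style.haveILetI false
set_option linter.unusedSectionVars false
universe u
open AlgebraicGeometry CategoryTheory CategoryTheory.Limits TensorProduct
open Groth.Agent.Lib.Helper22.EtLiftAlg Groth.Agent.Lib.Helper22.EtLiftCat

namespace Groth.Agent.Lib.Helper22.EtLiftSch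

/-- Flexible form: an etale neighbourhood `(V, v)` of a point of the fibre `X_s` is, near `v`,
the fibre of an etale `U → X`. -/
theorem exists_lift_nbhd {X S V : Scheme.{u}} (f : X ⟶ S) (x : X)
    (g : V ⟶ f.fiber (f x)) [Etale g] (v : V) (hv : g v = f.asFiber x) :
    ∃ (U F : Scheme.{u}) (p : U ⟶ X) (ι : F ⟶ U) (jm : F ⟶ V),
      Etale p ∧ IsOpenImmersion jm ∧
      IsPullback ι (jm ≫ g ≫ f.fiberToSpecResidueField (f x)) (p ≫ f)
        (S.fromSpecResidueField (f x)) ∧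
      jm ≫ g ≫ f.fiberι (f x) = ι ≫ p ∧ v ∈ Set.range jm := by
  classical
  -- affine opens
  obtain ⟨_, ⟨S₀, hS₀', rfl⟩, hsS₀, -⟩ :=
    S.isBasis_affineOpens.exists_subset_of_mem_open (Set.mem_univ (f x)) isOpen_univ
  have hS₀ : IsAffineOpen S₀ := hS₀'
  obtain ⟨_, ⟨X₀, hX₀', rfl⟩, hxX₀, hle⟩ :=
    X.isBasis_affineOpens.exists_subset_of_mem_open (show x ∈ (f ⁻¹ᵁ S₀ : X.Opens) from hsS₀)
      (f ⁻¹ᵁ S₀).2
  have hX₀ : IsAffineOpen X₀ := hX₀'
  let φ : Γ(S, S₀) ⟶ S.residueField (f x) := S.evaluation S₀ (f x) hsS₀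
  let β : Γ(S, S₀) ⟶ Γ(X, X₀) := f.appLE S₀ X₀ hle
  have hφ : Spec.map φ ≫ hS₀.fromSpec = S.fromSpecResidueField (f x) := by
    rw [Scheme.fromSpecResidueField, ← hS₀.fromSpecStalk_eq_fromSpecStalk hsS₀]
    show _ = Spec.map _ ≫ (Spec.map _ ≫ _)
    rw [← Spec.map_comp_assoc, Scheme.germ_residue]
  have hβ : Spec.map β ≫ hS₀.fromSpec = hX₀.fromSpec ≫ f := hS₀.SpecMap_appLE_fromSpec f hX₀ hle
  letI algAB : Algebra Γ(S, S₀) Γ(X, X₀) := β.hom.toAlgebra
  letI algAK : Algebra Γ(S, S₀) (S.residueField (f x)) := φ.hom.toAlgebra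
  have hLQ : LocQuot Γ(X, X₀) (Γ(X, X₀) ⊗[Γ(S, S₀)] S.residueField (f x)) :=
    (locQuot_evaluation S S₀ hS₀ (f x) hsS₀).tensor
  -- the fibre ring and the affine pullback square
  let Bb : CommRingCat.{u} := CommRingCat.of (Γ(X, X₀) ⊗[Γ(S, S₀)] S.residueField (f x))
  let a₁ : Spec Bb ⟶ Spec Γ(X, X₀) :=
    Spec.map (CommRingCat.ofHom (Algebra.TensorProduct.includeLeftRingHom))
  let a₂ : Spec Bb ⟶ Spec (S.residueField (f x)) :=
    Spec.map (CommRingCat.ofHom (Algebra.TensorProduct.includeRight (R := Γ(S, S₀))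
      (A := Γ(X, X₀)) (B := S.residueField (f x))).toRingHom)
  have sq1 : IsPullback a₁ a₂ (Spec.map β) (Spec.map φ) :=
    isPullback_SpecMap_of_isPushout _ _ _ _
      (CommRingCat.isPushout_tensorProduct Γ(S, S₀) Γ(X, X₀) (S.residueField (f x)))
  have sq2 : IsPullback a₁ a₂ (hX₀.fromSpec ≫ f) (S.fromSpecResidueField (f x)) := by
    have := isPullback_comp_mono sq1 hS₀.fromSpec
    rwa [hβ, hφ] at this
  have sqF : IsPullback (f.fiberι (f x)) (f.fiberToSpecResidueField (f x)) f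
      (S.fromSpecResidueField (f x)) := IsPullback.of_hasPullback _ _
  let w : Spec Bb ⟶ f.fiber (f x) :=
    sqF.lift (a₁ ≫ hX₀.fromSpec) a₂ (by rw [Category.assoc]; exact sq2.w)
  have hw1 : w ≫ f.fiberι (f x) = a₁ ≫ hX₀.fromSpec := sqF.lift_fst _ _ _
  have hw2 : w ≫ f.fiberToSpecResidueField (f x) = a₂ := sqF.lift_snd _ _ _
  have sq3 : IsPullback a₁ w hX₀.fromSpec (f.fiberι (f x)) :=
    IsPullback.of_bot (by rw [hw2]; exact sq2) hw1.symm sqF
  haveI : IsOpenImmersion w :=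
    MorphismProperty.of_isPullback (P := @IsOpenImmersion) sq3 inferInstance
  -- the point of `Spec Bb` over `x`
  have hxr : f.asFiber x ∈ Set.range w := by
    have hx₀ : x ∈ Set.range hX₀.fromSpec := by rw [hX₀.range_fromSpec]; exact hxX₀
    obtain ⟨x₀, hx₀⟩ := hx₀
    obtain ⟨z, -, hz⟩ := Scheme.exists_preimage_of_isPullback sq3 x₀ (f.asFiber x)
      (by rw [hx₀, f.fiberι_asFiber])
    exact ⟨z, hz⟩
  -- an affine open of `V` around `v` mapping into `Spec Bb`
  obtain ⟨_, ⟨V₀, hV₀', rfl⟩, hvV₀, hV₀le⟩ :=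
    V.isBasis_affineOpens.exists_subset_of_mem_open
      (show v ∈ (g ⁻¹ᵁ w.opensRange : V.Opens) from by
        show g v ∈ Set.range w
        rw [hv]; exact hxr) (g ⁻¹ᵁ w.opensRange).2
  have hV₀ : IsAffineOpen V₀ := hV₀'
  have hrange : Set.range (hV₀.fromSpec ≫ g) ⊆ Set.range w := by
    rintro _ ⟨z, rfl⟩
    have hz : hV₀.fromSpec z ∈ (V₀ : Set V) := by
      rw [← hV₀.range_fromSpec]; exact ⟨z, rfl⟩
    exact hV₀le hz
  let l : Spec Γ(V, V₀) ⟶ Spec Bb := IsOpenImmersion.lift w (hV₀.fromSpec ≫ g) hrange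
  have hl : l ≫ w = hV₀.fromSpec ≫ g := IsOpenImmersion.lift_fac _ _ _
  let ψ : Bb ⟶ Γ(V, V₀) := Spec.preimage l
  have hψ : Spec.map ψ = l := Spec.map_preimage l
  haveI : Etale (Spec.map ψ) := by
    have h1 : Etale (Spec.map ψ ≫ w) := by rw [hψ, hl]; infer_instance
    exact MorphismProperty.of_postcomp (W := @Etale) (W' := @Etale) (Spec.map ψ) w
      inferInstance h1
  letI algBC : Algebra Bb Γ(V, V₀) := ψ.hom.toAlgebra
  haveI hEt : Algebra.Etale Bb Γ(V, V₀) := by
    have := (HasRingHomProperty.Spec_iff (P := @Etale)).mp ‹Etale (Spec.map ψ)›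
    exact RingHom.etale_algebraMap.mp this
  obtain ⟨v₀, hv₀⟩ : ∃ v₀ : Spec Γ(V, V₀), hV₀.fromSpec v₀ = v := by
    have : v ∈ Set.range hV₀.fromSpec := by rw [hV₀.range_fromSpec]; exact hvV₀
    exact this
  haveI hvp : v₀.asIdeal.IsPrime := v₀.isPrime
  obtain ⟨c, hcq, hstd⟩ := Algebra.IsEtaleAt.exists_isStandardEtale (R := Bb) v₀.asIdeal
  obtain ⟨r, ρ, PP, θ, hρ, hpo⟩ := exists_lift (R := Γ(X, X₀)) (Rb := Bb)
    (Cb := Localization.Away c) hLQ
  -- the schemes
  let jr : Spec (CommRingCat.of (Localization.Away r)) ⟶ X :=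
    Spec.map (CommRingCat.ofHom (algebraMap Γ(X, X₀) (Localization.Away r))) ≫ hX₀.fromSpec
  let q : Spec (CommRingCat.of PP.Ring) ⟶ Spec (CommRingCat.of (Localization.Away r)) :=
    Spec.map (CommRingCat.ofHom (algebraMap (Localization.Away r) PP.Ring))
  let ι : Spec (CommRingCat.of (Localization.Away c)) ⟶ Spec (CommRingCat.of PP.Ring) :=
    Spec.map (CommRingCat.ofHom θ)
  let jc : Spec (CommRingCat.of (Localization.Away c)) ⟶ Spec Γ(V, V₀) :=
    Spec.map (CommRingCat.ofHom (algebraMap Γ(V, V₀) (Localization.Away c)))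
  haveI : Etale q := by
    rw [HasRingHomProperty.Spec_iff (P := @Etale)]
    exact (RingHom.etale_algebraMap).mpr inferInstance
  haveI : IsOpenImmersion jr := inferInstance
  haveI : IsOpenImmersion jc := inferInstance
  have sqT : IsPullback ι (Spec.map (CommRingCat.ofHom (algebraMap Bb (Localization.Away c)))) q
      (Spec.map (CommRingCat.ofHom ρ)) := isPullback_SpecMap_of_isPushout _ _ _ _ hpo
  have ha₁ : a₁ = Spec.map (CommRingCat.ofHom ρ) ≫
      Spec.map (CommRingCat.ofHom (algebraMap Γ(X, X₀) (Localization.Away r))) := by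
    rw [← Spec.map_comp, ← CommRingCat.ofHom_comp, hρ]
  have sq3' : IsPullback (Spec.map (CommRingCat.ofHom ρ)) w jr (f.fiberι (f x)) :=
    (isPullback_of_mono_factor (by rw [← ha₁]; exact sq3.flip)).flip
  have sq4 := sqT.paste_vert sq3'
  have sq5 := sq4.paste_vert sqF
  have hcompat : Spec.map (CommRingCat.ofHom (algebraMap Bb (Localization.Away c))) ≫ w =
      (jc ≫ hV₀.fromSpec) ≫ g := by
    have : CommRingCat.ofHom (algebraMap Bb (Localization.Away c)) =
        ψ ≫ CommRingCat.ofHom (algebraMap Γ(V, V₀) (Localization.Away c)) := by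
      refine CommRingCat.hom_ext (RingHom.ext fun z => ?_)
      exact IsScalarTower.algebraMap_apply Bb Γ(V, V₀) (Localization.Away c) z
    rw [this, Spec.map_comp, Category.assoc, hψ, hl, Category.assoc]
  rw [hcompat] at sq4 sq5
  refine ⟨_, _, q ≫ jr, ι, jc ≫ hV₀.fromSpec, inferInstance, inferInstance, ?_, ?_, ?_⟩
  · simpa only [Category.assoc] using sq5
  · simpa only [Category.assoc] using sq4.w.symm
  · have hc : v₀ ∈ Set.range jc := by
      have := PrimeSpectrum.localization_away_comap_range (Localization.Away c) c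
      show v₀ ∈ Set.range (PrimeSpectrum.comap (algebraMap Γ(V, V₀) (Localization.Away c)))
      rw [this]
      exact hcq
    obtain ⟨z, hz⟩ := hc
    exact ⟨z, by rw [Scheme.Hom.comp_apply, hz, hv₀]⟩

end Groth.Agent.Lib.Helper22.EtLiftSch
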