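import Mathlib
import Groth.Prelude.Def_CAlg2
import Groth.Agent.Lib.Helper17.SmoothNormal
import Groth.Agent.Lib.Helper22.GUAscent

/-!
# Elementary étale neighbourhoods of a unibranch point have prime nilradical
-/

set_option autoImplicit false
set_option linter.style.haveILetI false
set_option linter.unusedSectionVars false

namespace Groth.Agent.Lib.Helper22.EtNbFwd

open TensorProduct IsLocalRing Groth.Agent.Lib.Helper22.RadPtAlg
  Groth.Agent.Lib.Helper22.GUFlatCommon Groth.Agent.Lib.Helper22.GUAscent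

universe u

section local_part

variable (A A' C : Type u) [CommRing A] [IsLocalRing A] [CommRing A'] [IsDomain A']
  [IsIntegrallyClosed A'] [IsLocalRing A'] [Algebra A A'] [CommRing C] [IsLocalRing C]
  [Algebra A C] [Module.Flat A C] [IsLocalHom (algebraMap A C)]

theorem tensor_res (hres : ∀ c : C, ∃ a : A, c - algebraMap A C a ∈ maximalIdeal C)
    (d : C ⊗[A] A') :
    ∃ a' : A', d - (1 : C) ⊗ₜ[A] a' ∈
      Ideal.map (algebraMap C (C ⊗[A] A')) (maximalIdeal C) := by
  induction d using TensorProduct.induction_on with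
  | zero => exact ⟨0, by simp⟩
  | tmul c a'₀ =>
    obtain ⟨a, ha⟩ := hres c
    refine ⟨a • a'₀, ?_⟩
    have h1 : c ⊗ₜ[A] a'₀ - (1 : C) ⊗ₜ[A] (a • a'₀) =
        algebraMap C (C ⊗[A] A') (c - algebraMap A C a) * ((1 : C) ⊗ₜ[A] a'₀) := by
      rw [Algebra.TensorProduct.algebraMap_apply, Algebra.TensorProduct.tmul_mul_tmul,
        Algebra.algebraMap_self_apply, mul_one, one_mul, TensorProduct.sub_tmul,
        ← TensorProduct.smul_tmul, Algebra.algebraMap_eq_smul_one]
    rw [h1]
    exact Ideal.mul_mem_right _ _ (Ideal.mem_map_of_mem _ ha)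
  | add x y hx hy =>
    obtain ⟨a₁, h₁⟩ := hx
    obtain ⟨a₂, h₂⟩ := hy
    refine ⟨a₁ + a₂, ?_⟩
    have : x + y - (1 : C) ⊗ₜ[A] (a₁ + a₂) = (x - (1 : C) ⊗ₜ[A] a₁) + (y - (1 : C) ⊗ₜ[A] a₂) := by
      rw [TensorProduct.tmul_add]; ring
    rw [this]
    exact Ideal.add_mem _ h₁ h₂

theorem isLocalRing_tensor_res (hN : IsNormn A A')
    (hres : ∀ c : C, ∃ a : A, c - algebraMap A C a ∈ maximalIdeal C) :
    IsLocalRing (C ⊗[A] A') := by
  haveI := hN.int
  haveI := nontrivial_tensor A A' C hN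
  obtain ⟨n₀, hn₀⟩ := Ideal.exists_maximal (C ⊗[A] A')
  refine IsLocalRing.of_unique_max_ideal ⟨n₀, hn₀, ?_⟩
  intro n hn
  have hmC : ∀ (n : Ideal (C ⊗[A] A')) [n.IsMaximal],
      Ideal.map (algebraMap C (C ⊗[A] A')) (maximalIdeal C) ≤ n := by
    intro n _
    rw [Ideal.map_le_iff_le_comap, comap_eq_of_integral C (C ⊗[A] A') n]
  have hle : n ≤ n₀ := by
    intro d hd
    obtain ⟨a', ha'⟩ := tensor_res A A' C hres d
    have h1 : (1 : C) ⊗ₜ[A] a' ∈ n := by
      have := n.sub_mem hd (hmC n ha')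
      rwa [sub_sub_cancel] at this
    have h2 : a' ∈ maximalIdeal A' := by
      by_contra hnu
      have hu : IsUnit a' := by
        by_contra h; exact hnu h
      have hu' : IsUnit ((1 : C) ⊗ₜ[A] a') :=
        hu.map (Algebra.TensorProduct.includeRight : A' →ₐ[A] C ⊗[A] A')
      exact hn.ne_top (Ideal.eq_top_of_isUnit_mem _ h1 hu')
    have h3 : (1 : C) ⊗ₜ[A] a' ∈ n₀ :=
      map_le_of_isMaximal A A' C hN n₀
        (Ideal.mem_map_of_mem (Algebra.TensorProduct.includeRight : A' →ₐ[A] C ⊗[A] A') h2)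
    have := n₀.add_mem (hmC n₀ ha') h3
    rwa [sub_add_cancel] at this
  exact hn.eq_of_le hn₀.ne_top hle

end local_part

section main

variable (A A' R₁ : Type u) [CommRing A] [IsLocalRing A] [CommRing A'] [IsDomain A']
  [IsIntegrallyClosed A'] [Algebra A A'] [CommRing R₁] [Algebra A R₁] [Module.Flat A R₁]

/-- `C ⊗ A'` is a domain when it is local and the localizations of `R₁ ⊗ A'` are. -/
theorem dom_tensor_of_local (q : Ideal R₁) [q.IsPrime]
    [IsLocalRing ((Localization.AtPrime q) ⊗[A] A')]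
    (H : ∀ (q' : Ideal (R₁ ⊗[A] A')) [q'.IsPrime], IsDomain (Localization.AtPrime q')) :
    IsDomain ((Localization.AtPrime q) ⊗[A] A') := by
  let ρ : R₁ ⊗[A] A' →ₐ[A] (Localization.AtPrime q) ⊗[A] A' :=
    Algebra.TensorProduct.map (IsScalarTower.toAlgHom A R₁ (Localization.AtPrime q))
      (AlgHom.id A A')
  letI algρ : Algebra (R₁ ⊗[A] A') ((Localization.AtPrime q) ⊗[A] A') := ρ.toRingHom.toAlgebra
  haveI : IsScalarTower R₁ (R₁ ⊗[A] A') ((Localization.AtPrime q) ⊗[A] A') :=
    IsScalarTower.of_algebraMap_eq (fun r => rfl)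
  have hloc : IsLocalization (Algebra.algebraMapSubmonoid (R₁ ⊗[A] A') q.primeCompl)
      ((Localization.AtPrime q) ⊗[A] A') := by
    refine IsLocalization.tensorProduct_tensorProduct A A' q.primeCompl (Localization.AtPrime q) ?_
    ext a'
    change ρ ((1 : R₁) ⊗ₜ[A] a') = (1 : Localization.AtPrime q) ⊗ₜ[A] a'
    rw [Algebra.TensorProduct.map_tmul, map_one]
    rfl
  let q' : Ideal (R₁ ⊗[A] A') :=
    (maximalIdeal ((Localization.AtPrime q) ⊗[A] A')).comap
      (algebraMap (R₁ ⊗[A] A') ((Localization.AtPrime q) ⊗[A] A'))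
  haveI hq' : q'.IsPrime := Ideal.comap_isPrime _ _
  haveI : IsLocalization.AtPrime ((Localization.AtPrime q) ⊗[A] A') q' := by
    refine @IsLocalization.of_le _ _ _ _ _ _ hloc q'.primeCompl ?_ ?_
    · rintro x ⟨r, hr, rfl⟩
      change algebraMap R₁ (R₁ ⊗[A] A') r ∉ q'
      intro hmem
      have h1 : algebraMap (R₁ ⊗[A] A') ((Localization.AtPrime q) ⊗[A] A')
          (algebraMap R₁ (R₁ ⊗[A] A') r) ∈ maximalIdeal _ := hmem
      rw [← IsScalarTower.algebraMap_apply,
        IsScalarTower.algebraMap_apply R₁ (Localization.AtPrime q)] at h1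
      have hu : IsUnit (algebraMap R₁ (Localization.AtPrime q) r) :=
        IsLocalization.map_units (Localization.AtPrime q) (⟨r, hr⟩ : q.primeCompl)
      exact h1 (hu.map _)
    · intro r hr
      by_contra hnu
      exact hr hnu
  let e := IsLocalization.algEquiv q'.primeCompl ((Localization.AtPrime q) ⊗[A] A')
    (Localization.AtPrime q')
  haveI := H q'
  exact e.injective.isDomain

/-- the localization of an étale algebra over a normal domain at a prime, for the other order
of the tensor product -/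
theorem isDomain_atPrime_tensor_etale [Algebra.Etale A R₁] (q' : Ideal (R₁ ⊗[A] A'))
    [q'.IsPrime] : IsDomain (Localization.AtPrime q') := by
  let e : R₁ ⊗[A] A' ≃+* A' ⊗[A] R₁ := (Algebra.TensorProduct.comm A R₁ A').toRingEquiv
  let q'' : Ideal (A' ⊗[A] R₁) := q'.comap e.symm.toRingHom
  haveI : q''.IsPrime := Ideal.comap_isPrime _ _
  have hd := (Groth.Agent.Lib.Helper17.SmoothNormal.isDomain_and_isIntegrallyClosed_atPrime_of_etale
    A' q'').1
  have hH : q'.primeCompl.map e.toMonoidHom = q''.primeCompl := by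
    ext y
    constructor
    · rintro ⟨x, hx, rfl⟩
      change e x ∉ q''
      intro hmem
      apply hx
      have : e.symm (e x) ∈ q' := hmem
      rwa [e.symm_apply_apply] at this
    · intro hy
      refine ⟨e.symm y, ?_, e.apply_symm_apply y⟩
      exact hy
  let ε : Localization.AtPrime q' ≃+* Localization.AtPrime q'' :=
    IsLocalization.ringEquivOfRingEquiv (Localization.AtPrime q') (Localization.AtPrime q'') e hH
  exact ε.injective.isDomain

/-- prime nilradical of an elementary étale local algebra over a unibranch local ring -/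
theorem primeNil [Algebra.Etale A R₁] [IsLocalRing A'] (hN : IsNormn A A') (q : Ideal R₁)
    [q.IsPrime] (hq : q.comap (algebraMap A R₁) = maximalIdeal A)
    (hres : ∀ c : Localization.AtPrime q,
      ∃ a : A, c - algebraMap A (Localization.AtPrime q) a ∈ maximalIdeal (Localization.AtPrime q))
    (a b : Localization.AtPrime q) (hab : IsNilpotent (a * b)) :
    IsNilpotent a ∨ IsNilpotent b := by
  haveI := isLocalHom_localization A R₁ q hq
  haveI := flat_localization A R₁ q
  haveI := isLocalRing_tensor_res A A' (Localization.AtPrime q) hN hres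
  haveI := dom_tensor_of_local A A' R₁ q
    (fun q' _ => isDomain_atPrime_tensor_etale A A' R₁ q')
  have h1 : IsNilpotent ((a ⊗ₜ[A] (1 : A')) * (b ⊗ₜ[A] (1 : A'))) := by
    rw [Algebra.TensorProduct.tmul_mul_tmul, mul_one]
    exact hab.map (Algebra.TensorProduct.includeLeft :
      Localization.AtPrime q →ₐ[A] (Localization.AtPrime q) ⊗[A] A')
  have h2 := IsNilpotent.eq_zero h1
  rcases mul_eq_zero.mp h2 with h | h
  · left
    exact nilpotent_of_tmul A A' (Localization.AtPrime q) hN a (h ▸ IsNilpotent.zero)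
  · right
    exact nilpotent_of_tmul A A' (Localization.AtPrime q) hN b (h ▸ IsNilpotent.zero)

end main

section chart

variable {A₀ C : Type u} [CommRing A₀] [CommRing C] [Algebra A₀ C] [Algebra.Etale A₀ C]
  (p : Ideal A₀) [p.IsPrime] (R : Type u) [CommRing R] [Algebra A₀ R] [IsLocalization.AtPrime R p]
  [IsLocalRing R] (Q : Ideal C) [Q.IsPrime]

/-- residue triviality transported to the localization of `R ⊗ C` -/
theorem hres_of_hresC (Q' : Ideal (R ⊗[A₀] C)) [Q'.IsPrime]
    (hQ' : Q.map (Algebra.TensorProduct.includeRight : C →ₐ[A₀] R ⊗[A₀] C) ≤ Q')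
    (hover : Q'.comap (algebraMap R (R ⊗[A₀] C)) = maximalIdeal R)
    (hresC : ∀ c : C, ∃ a b : A₀, b ∉ p ∧ b • c - algebraMap A₀ C a ∈ Q)
    (t : Localization.AtPrime Q') :
    ∃ r : R, t - algebraMap R (Localization.AtPrime Q') r ∈
      maximalIdeal (Localization.AtPrime Q') := by
  have hj : ∀ x : R ⊗[A₀] C, x ∈ Q' →
      algebraMap (R ⊗[A₀] C) (Localization.AtPrime Q') x ∈ maximalIdeal (Localization.AtPrime Q') :=
    fun x hx => (IsLocalization.AtPrime.to_map_mem_maximal_iff (Localization.AtPrime Q') Q' x).mpr hx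
  -- the property on `R ⊗ C`
  have hΛ : ∀ x : R ⊗[A₀] C, ∃ r : R, x - algebraMap R (R ⊗[A₀] C) r ∈ Q' := by
    intro x
    induction x using TensorProduct.induction_on with
    | zero => exact ⟨0, by simp⟩
    | tmul r c =>
      obtain ⟨a, b, hb, hab⟩ := hresC c
      have hbu : IsUnit (algebraMap A₀ R b) :=
        IsLocalization.map_units R (⟨b, hb⟩ : p.primeCompl)
      obtain ⟨β, hβ⟩ := hbu
      refine ⟨r * (↑β⁻¹ * algebraMap A₀ R a), ?_⟩
      have h1 : (1 : R) ⊗ₜ[A₀] (b • c - algebraMap A₀ C a) ∈ Q' :=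
        hQ' (Ideal.mem_map_of_mem _ hab)
      have e1 : b • (r * (↑β⁻¹ : R)) = r := by
        rw [Algebra.smul_def, ← hβ, mul_comm r, ← mul_assoc, Units.mul_inv, one_mul]
      have e2 : (r * (↑β⁻¹ : R)) ⊗ₜ[A₀] (algebraMap A₀ C a) =
          (r * (↑β⁻¹ * algebraMap A₀ R a)) ⊗ₜ[A₀] (1 : C) := by
        rw [Algebra.algebraMap_eq_smul_one (A := C), TensorProduct.tmul_smul,
          TensorProduct.smul_tmul', Algebra.smul_def]
        congr 1
        ring
      have h2 : r ⊗ₜ[A₀] c - algebraMap R (R ⊗[A₀] C) (r * (↑β⁻¹ * algebraMap A₀ R a)) =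
          ((r * ↑β⁻¹) ⊗ₜ[A₀] (1 : C)) * ((1 : R) ⊗ₜ[A₀] (b • c - algebraMap A₀ C a)) := by
        rw [Algebra.TensorProduct.algebraMap_apply, Algebra.algebraMap_self_apply,
          Algebra.TensorProduct.tmul_mul_tmul, mul_one, one_mul, TensorProduct.tmul_sub,
          TensorProduct.tmul_smul, TensorProduct.smul_tmul', e1, e2]
      rw [h2]
      exact Q'.mul_mem_left _ h1
    | add x y hx hy =>
      obtain ⟨r₁, h₁⟩ := hx
      obtain ⟨r₂, h₂⟩ := hy
      refine ⟨r₁ + r₂, ?_⟩
      have : x + y - algebraMap R (R ⊗[A₀] C) (r₁ + r₂) =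
          (x - algebraMap R (R ⊗[A₀] C) r₁) + (y - algebraMap R (R ⊗[A₀] C) r₂) := by
        rw [map_add]; ring
      rw [this]
      exact Q'.add_mem h₁ h₂
  obtain ⟨x, ⟨s, hs⟩, hxs⟩ := IsLocalization.exists_mk'_eq Q'.primeCompl t
  obtain ⟨rx, hrx⟩ := hΛ x
  obtain ⟨rs, hrs⟩ := hΛ s
  have hrsu : IsUnit rs := by
    by_contra hnu
    have h1 : rs ∈ maximalIdeal R := hnu
    rw [← hover] at h1
    have h2 : s ∈ Q' := by
      have := Q'.add_mem hrs h1
      rwa [sub_add_cancel] at this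
    exact hs h2
  obtain ⟨ρ, hρ⟩ := hrsu
  refine ⟨rx * ↑ρ⁻¹, ?_⟩
  have hsu : IsUnit (algebraMap (R ⊗[A₀] C) (Localization.AtPrime Q') s) :=
    IsLocalization.map_units (Localization.AtPrime Q') (⟨s, hs⟩ : Q'.primeCompl)
  have hts : t * algebraMap (R ⊗[A₀] C) (Localization.AtPrime Q') s =
      algebraMap (R ⊗[A₀] C) (Localization.AtPrime Q') x := by
    rw [← hxs]
    exact IsLocalization.mk'_spec (Localization.AtPrime Q') x ⟨s, hs⟩
  rw [← Ideal.mul_unit_mem_iff_mem _ hsu, sub_mul, hts,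
    IsScalarTower.algebraMap_apply R (R ⊗[A₀] C) (Localization.AtPrime Q'), ← map_mul, ← map_sub]
  apply hj
  have : x - algebraMap R (R ⊗[A₀] C) (rx * ↑ρ⁻¹) * s =
      (x - algebraMap R (R ⊗[A₀] C) rx) -
        algebraMap R (R ⊗[A₀] C) (rx * ↑ρ⁻¹) * (s - algebraMap R (R ⊗[A₀] C) rs) := by
    have h3 : algebraMap R (R ⊗[A₀] C) (rx * ↑ρ⁻¹) * algebraMap R (R ⊗[A₀] C) rs =
        algebraMap R (R ⊗[A₀] C) rx := by
      rw [← map_mul, ← hρ, mul_assoc, Units.inv_mul, mul_one]
    rw [mul_sub, h3]; ring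
  rw [this]
  exact Q'.sub_mem hrx (Q'.mul_mem_left _ hrs)

/-- Localization form of the forward direction. -/
theorem primeNil_of_isLocalization (hR : CAlg2.IsUnibranch R)
    (hQ : Q.comap (algebraMap A₀ C) = p)
    (hresC : ∀ c : C, ∃ a b : A₀, b ∉ p ∧ b • c - algebraMap A₀ C a ∈ Q)
    (S : Type u) [CommRing S] [Algebra C S] [IsLocalization.AtPrime S Q] :
    ∀ a b : S, IsNilpotent (a * b) → IsNilpotent a ∨ IsNilpotent b := by
  letI algC : Algebra C (R ⊗[A₀] C) := Algebra.TensorProduct.rightAlgebra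
  haveI : IsLocalization (Algebra.algebraMapSubmonoid C p.primeCompl) (R ⊗[A₀] C) :=
    IsLocalization.tensorRight (S := C) (A := R) p.primeCompl
  have hdisj : Disjoint (Algebra.algebraMapSubmonoid C p.primeCompl : Set C) (Q : Set C) := by
    rw [Set.disjoint_left]
    rintro _ ⟨a, ha, rfl⟩ haQ
    apply ha
    rw [← hQ]
    exact haQ
  haveI hQp : (Q.map (algebraMap C (R ⊗[A₀] C))).IsPrime :=
    IsLocalization.isPrime_of_isPrime_disjoint _ _ Q ‹_› hdisj
  have hcomap : (Q.map (algebraMap C (R ⊗[A₀] C))).comap (algebraMap C _) = Q :=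
    IsLocalization.under_map_of_isPrime_disjoint _ _ ‹_› hdisj
  have hover : (Q.map (algebraMap C (R ⊗[A₀] C))).comap
      (algebraMap R _) = maximalIdeal R := by
    have h1 : ((Q.map (algebraMap C (R ⊗[A₀] C))).comap (algebraMap R _)).under A₀ = p := by
      rw [Ideal.under_def, Ideal.comap_comap, ← IsScalarTower.algebraMap_eq,
        IsScalarTower.algebraMap_eq A₀ C (R ⊗[A₀] C), ← Ideal.comap_comap, hcomap, hQ]
    rw [← IsLocalization.map_under p.primeCompl R
      ((Q.map (algebraMap C (R ⊗[A₀] C))).comap (algebraMap R _)), h1,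
      IsLocalization.AtPrime.map_eq_maximalIdeal p R]
  haveI hdom : IsDomain (CAlg2.red R) := hR.1
  haveI hlocA' : IsLocalRing (CAlg2.normRed R) := hR.2
  letI algD : Algebra R (CAlg2.normRed R) := algNormRed R
  have hN := normn_normRed R
  have hres := hres_of_hresC p R Q (Q.map (algebraMap C (R ⊗[A₀] C))) le_rfl hover hresC
  have hmain := primeNil R (CAlg2.normRed R) (R ⊗[A₀] C) hN
    (Q.map (algebraMap C (R ⊗[A₀] C))) hover hres
  haveI hloc : IsLocalization.AtPrime (Localization.AtPrime (Q.map (algebraMap C (R ⊗[A₀] C))))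
      ((Q.map (algebraMap C (R ⊗[A₀] C))).comap (algebraMap C _)) :=
    IsLocalization.isLocalization_isLocalization_atPrime_isLocalization
      (Algebra.algebraMapSubmonoid C p.primeCompl) _ _
  have heq : ((Q.map (algebraMap C (R ⊗[A₀] C))).comap
      (algebraMap C _)).primeCompl = Q.primeCompl := by
    ext x
    show x ∉ _ ↔ x ∉ _
    rw [hcomap]
  rw [IsLocalization.AtPrime, heq] at hloc
  intro a b hab
  have hσ := (IsLocalization.algEquiv Q.primeCompl S
    (Localization.AtPrime (Q.map (algebraMap C (R ⊗[A₀] C))))).injective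
  have h0 : IsNilpotent ((IsLocalization.algEquiv Q.primeCompl S
      (Localization.AtPrime (Q.map (algebraMap C (R ⊗[A₀] C))))) a *
      (IsLocalization.algEquiv Q.primeCompl S
      (Localization.AtPrime (Q.map (algebraMap C (R ⊗[A₀] C))))) b) := by
    rw [← map_mul]
    exact hab.map _
  rcases hmain _ _ h0 with h1 | h1
  · exact Or.inl ((IsNilpotent.map_iff hσ).mp h1)
  · exact Or.inr ((IsNilpotent.map_iff hσ).mp h1)

end chart

end Groth.Agent.Lib.Helper22.EtNbFwd
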