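import Mathlib
import Groth.Prelude.Def_CAlg2
import Groth.Prelude.Def_Hens2
import Groth.Agent.Lib.Helper22.EtNbFwd
import Groth.Agent.Lib.Helper22.EtNbTop

/-!
# Scheme form: elementary étale neighbourhoods of a unibranch point
-/

set_option autoImplicit false
set_option linter.style.haveILetI false
set_option linter.unusedSectionVars false

namespace Groth.Agent.Lib.Helper22.EtNbFwdSch

open AlgebraicGeometry CategoryTheory TensorProduct IsLocalRing

universe u

set_option backward.defeqAttrib.useBackward true in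
set_option backward.isDefEq.respectTransparency false in
theorem primeNil_stalk_of_elem {U X : Scheme.{u}} (g : U ⟶ X) [Etale g] (u : U)
    (hX : CAlg2.IsUnibranch (X.presheaf.stalk (g u)))
    (hbij : Function.Bijective (g.residueFieldMap u)) :
    ∀ a b : U.presheaf.stalk u, IsNilpotent (a * b) → IsNilpotent a ∨ IsNilpotent b := by
  obtain ⟨_, ⟨V₀, hV₀, rfl⟩, hxV₀, -⟩ :=
    X.isBasis_affineOpens.exists_subset_of_mem_open (Set.mem_univ (g u)) isOpen_univ
  obtain ⟨_, ⟨W, hW, rfl⟩, huW, hWV⟩ :=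
    U.isBasis_affineOpens.exists_subset_of_mem_open hxV₀ (V₀.2.preimage g.continuous)
  have het := HasRingHomProperty.appLE (P := @Etale) g inferInstance ⟨V₀, hV₀⟩ ⟨W, hW⟩ hWV
  algebraize [(g.appLE V₀ W hWV).hom]
  haveI : Algebra.Etale Γ(X, V₀) Γ(U, W) := RingHom.etale_algebraMap.mp het
  let algR := X.presheaf.algebra_section_stalk ⟨g u, hWV huW⟩
  have hlocR := hV₀.isLocalization_stalk ⟨g u, hWV huW⟩
  let algS := U.presheaf.algebra_section_stalk ⟨u, huW⟩
  have hlocS := hW.isLocalization_stalk ⟨u, huW⟩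
  refine Groth.Agent.Lib.Helper22.EtNbFwd.primeNil_of_isLocalization
    (A₀ := Γ(X, V₀)) (C := Γ(U, W))
    (hV₀.primeIdealOf ⟨g u, hWV huW⟩).asIdeal (X.presheaf.stalk (g u))
    (hW.primeIdealOf ⟨u, huW⟩).asIdeal hX
    congr($(IsAffineOpen.comap_primeIdealOf_appLE V₀ hV₀ W hW hWV huW).1) ?_
    (U.presheaf.stalk u)
  intro c
  -- residue triviality
  obtain ⟨k, hk⟩ := hbij.2 (U.residue u (U.presheaf.germ W u huW c))
  obtain ⟨r, rfl⟩ := X.residue_surjective (g u) k
  have h1 : U.residue u (g.stalkMap u r) = U.residue u (U.presheaf.germ W u huW c) := by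
    rw [← hk]
    exact (congrArg (fun φ => φ r) (CommRingCat.hom_ext_iff.mp
      (Scheme.residue_residueFieldMap g u)) |>.symm)
  have h2 : U.presheaf.germ W u huW c - g.stalkMap u r ∈ maximalIdeal (U.presheaf.stalk u) := by
    have : IsLocalRing.residue (U.presheaf.stalk u) (U.presheaf.germ W u huW c - g.stalkMap u r)
        = 0 := by
      rw [map_sub, sub_eq_zero]
      exact h1.symm
    exact (IsLocalRing.residue_eq_zero_iff _).mp this
  obtain ⟨⟨a, b⟩, hab⟩ := IsLocalization.surj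
    (hV₀.primeIdealOf ⟨g u, hWV huW⟩).asIdeal.primeCompl r
  simp only at hab
  refine ⟨a, b, b.2, ?_⟩
  have hnat : ∀ y : Γ(X, V₀), g.stalkMap u (algebraMap Γ(X, V₀) (X.presheaf.stalk (g u)) y) =
      algebraMap Γ(U, W) (U.presheaf.stalk u) (algebraMap Γ(X, V₀) Γ(U, W) y) := by
    intro y
    change g.stalkMap u (X.presheaf.germ V₀ (g u) (hWV huW) y) =
      U.presheaf.germ W u huW ((g.appLE V₀ W hWV) y)
    rw [Scheme.Hom.germ_stalkMap_apply, Scheme.Hom.appLE, CommRingCat.comp_apply,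
      TopCat.Presheaf.germ_res_apply]
  have h3 : algebraMap Γ(U, W) (U.presheaf.stalk u)
      ((b : Γ(X, V₀)) • c - algebraMap Γ(X, V₀) Γ(U, W) a) =
      (U.presheaf.germ W u huW c - g.stalkMap u r) *
        g.stalkMap u (algebraMap Γ(X, V₀) (X.presheaf.stalk (g u)) b) := by
    rw [sub_mul, ← map_mul, hab, hnat, hnat, map_sub, Algebra.smul_def, map_mul]
    change _ = algebraMap Γ(U, W) (U.presheaf.stalk u) c * _ - _
    ring
  have h4 : algebraMap Γ(U, W) (U.presheaf.stalk u)
      ((b : Γ(X, V₀)) • c - algebraMap Γ(X, V₀) Γ(U, W) a) ∈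
      maximalIdeal (U.presheaf.stalk u) := by
    rw [h3]
    exact Ideal.mul_mem_right _ _ h2
  exact (IsLocalization.AtPrime.to_map_mem_maximal_iff (U.presheaf.stalk u)
    (hW.primeIdealOf ⟨u, huW⟩).asIdeal _).mp h4

end Groth.Agent.Lib.Helper22.EtNbFwdSch
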