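import Mathlib
import Groth.Prelude.Def_CAlg2
import Groth.Prelude.Def_Hens2
import Groth.Agent.Lib.Helper22.EtNbSch
import Groth.Agent.Lib.Helper22.EtNbGeo

/-!
# `(⇐)` of the geometric unibranch criterion via étale neighbourhoods
-/

set_option autoImplicit false
set_option linter.style.haveILetI false
set_option linter.unusedSectionVars false

namespace Groth.Agent.Lib.Helper22.EtNbGeoSch

open AlgebraicGeometry CategoryTheory TensorProduct IsLocalRing
  Groth.Agent.Lib.Helper22.RadPtAlg Groth.Agent.Lib.Helper22.EtNbSch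

universe u

set_option backward.defeqAttrib.useBackward true in
set_option backward.isDefEq.respectTransparency false in
theorem gu_of_nbhds (X : Scheme.{u}) (x : X)
    (Hs : ∀ (U : Scheme.{u}) (g : U ⟶ X) (u : U), Etale g → g u = x →
      {Z : Set ↑U | Z ∈ irreducibleComponents ↑U ∧ u ∈ Z}.encard = 1) :
    CAlg2.IsGeomUnibranch (X.presheaf.stalk x) := by
  have hU : CAlg2.IsUnibranch (X.presheaf.stalk x) :=
    unibranch_of_nbhds X x (fun U g u hnb => Hs U g u hnb.etale hnb.base_eq)
  obtain ⟨_, ⟨V, hV, rfl⟩, hxV, -⟩ :=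
    X.isBasis_affineOpens.exists_subset_of_mem_open (Set.mem_univ x) isOpen_univ
  letI algA := X.presheaf.algebra_section_stalk ⟨x, hxV⟩
  haveI hloc := hV.isLocalization_stalk ⟨x, hxV⟩
  haveI hdom : IsDomain (CAlg2.red (X.presheaf.stalk x)) := hU.1
  haveI hlocD : IsLocalRing (CAlg2.normRed (X.presheaf.stalk x)) := hU.2
  letI algD : Algebra (X.presheaf.stalk x) (CAlg2.normRed (X.presheaf.stalk x)) :=
    algNormRed (X.presheaf.stalk x)
  letI algRD : Algebra Γ(X, V) (CAlg2.normRed (X.presheaf.stalk x)) :=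
    ((algebraMap (X.presheaf.stalk x) (CAlg2.normRed (X.presheaf.stalk x))).comp
      (algebraMap Γ(X, V) (X.presheaf.stalk x))).toAlgebra
  haveI : IsScalarTower Γ(X, V) (X.presheaf.stalk x) (CAlg2.normRed (X.presheaf.stalk x)) :=
    IsScalarTower.of_algebraMap_eq (fun _ => rfl)
  have hN := normn_normRed (X.presheaf.stalk x)
  haveI := hN.int
  haveI : IsLocalHom (algebraMap (X.presheaf.stalk x) (CAlg2.normRed (X.presheaf.stalk x))) :=
    isLocalHom_of_integral _ _
  haveI : ExpChar (ResidueField (X.presheaf.stalk x))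
      (ringExpChar (ResidueField (X.presheaf.stalk x))) := ringExpChar.expChar _
  refine gu_of_normn (X.presheaf.stalk x) (CAlg2.normRed (X.presheaf.stalk x)) hN
    (ringExpChar (ResidueField (X.presheaf.stalk x))) ?_
  by_contra hnr
  obtain ⟨R', _, _, _, P, _, _, r₀, r₁, h₀, h₁, hle₀, hle₁, hne⟩ :=
    Groth.Agent.Lib.Helper22.EtNbGeo.exists_of_not_radicial Γ(X, V)
      (hV.primeIdealOf ⟨x, hxV⟩).asIdeal (X.presheaf.stalk x)
      (CAlg2.normRed (X.presheaf.stalk x)) hN _ hnr
  exact hne (halg_all X x V hV hxV Hs R' P r₀ r₁ h₀ h₁ hle₀ hle₁)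

end Groth.Agent.Lib.Helper22.EtNbGeoSch
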