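import Mathlib
import Groth.Agent.Lib.Helper22.PthA

/-!
# `F`-finiteness of power series rings and their finite algebras (helper22)

If `k` is finite over `k^p`, every power series over `k` is a combination, with fixed finitely many
coefficients, of `p`-th powers; the same holds for finite algebras over the power series ring, and
the module of differentials of such a ring is finite.
-/

set_option autoImplicit false
set_option linter.style.haveILetI false
set_option linter.unusedSectionVars false
universe u

namespace Groth.Agent.Lib.Helper22.FFin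

open MvPowerSeries Groth.Agent.Lib.Helper22.PthDer

section Frob

variable {k : Type u} [Field k] (p : ℕ) [hpF : Fact p.Prime] [hchar : CharP k p]

theorem finite_fieldRange_of_frobenius_finite (hk : (frobenius k p).Finite) :
    Module.Finite (frobenius k p).fieldRange k := by
  have h1 : ((frobenius k p).fieldRange.subtype.comp (frobenius k p).rangeRestrictField).Finite := by
    have : (frobenius k p).fieldRange.subtype.comp (frobenius k p).rangeRestrictField =
        frobenius k p := by
      ext x
      rfl
    rw [this]
    exact hk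
  have h2 : (frobenius k p).fieldRange.subtype.Finite := RingHom.Finite.of_comp_finite h1
  exact (RingHom.finite_algebraMap).mp h2

/-- every power series with coefficients in `k^p`, expanded by `p`, is a `p`-th power -/
theorem psi_eq_pow (n : ℕ) (c : MvPowerSeries (Fin n) (frobenius k p).fieldRange) :
    ∃ h : MvPowerSeries (Fin n) k, psi p n (frobenius k p).fieldRange c = h ^ p := by
  haveI : ExpChar k p := ExpChar.prime hpF.out
  have hroot : ∀ e : Fin n →₀ ℕ, ∃ b : k, frobenius k p b = ((coeff e c : (frobenius k p).fieldRange) : k) :=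
    fun e => RingHom.mem_fieldRange.mp (coeff e c).2
  choose r hr using hroot
  refine ⟨ofFun n r, ?_⟩
  rw [← map_frobenius_expand p hpF.out.ne_zero, map_expand, psi_apply]
  congr 1
  ext e
  rw [coeff_map, coeff_map, coeff_ofFun, hr]
  rfl

theorem exists_pow_decomp (n : ℕ) (hk : (frobenius k p).Finite) :
    ∃ (ι : Type) (_ : Fintype ι) (b : ι → MvPowerSeries (Fin n) k),
      ∀ g : MvPowerSeries (Fin n) k, ∃ h : ι → MvPowerSeries (Fin n) k,
        g = ∑ i, b i * (h i) ^ p := by
  haveI := finite_fieldRange_of_frobenius_finite p hk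
  obtain ⟨ι, hι, b, hb⟩ := exists_decomp p n (frobenius k p).fieldRange
  refine ⟨ι, hι, b, fun g => ?_⟩
  obtain ⟨c, hc⟩ := hb g
  choose h hh using fun i => psi_eq_pow p n (c i)
  refine ⟨h, ?_⟩
  rw [hc]
  exact Finset.sum_congr rfl (fun i _ => by rw [hh])

end Frob

section General

/-- decompositions into `p`-th powers pass to finite algebras -/
theorem exists_pow_decomp_of_finite {Q C : Type u} [CommRing Q] [CommRing C] [Algebra Q C]
    [Module.Finite Q C] (p : ℕ) {ι : Type} [Fintype ι] (b : ι → Q)
    (hb : ∀ g : Q, ∃ h : ι → Q, g = ∑ i, b i * h i ^ p) :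
    ∃ (κ : Type) (_ : Fintype κ) (g : κ → C), ∀ x : C, ∃ h : κ → C, x = ∑ j, g j * h j ^ p := by
  classical
  obtain ⟨m, c, hc⟩ := Module.Finite.exists_fin (R := Q) (M := C)
  refine ⟨Fin m × ι, inferInstance, fun x => c x.1 * algebraMap Q C (b x.2), fun x => ?_⟩
  have hx : x ∈ Submodule.span Q (Set.range c) := by rw [hc]; trivial
  obtain ⟨q, rfl⟩ := (Submodule.mem_span_range_iff_exists_fun Q).mp hx
  choose h hh using fun j => hb (q j)
  refine ⟨fun y => algebraMap Q C (h y.1 y.2), ?_⟩
  rw [Fintype.sum_prod_type]
  apply Finset.sum_congr rfl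
  intro j _
  conv_lhs => rw [hh j]
  rw [Finset.sum_smul, ]
  apply Finset.sum_congr rfl
  intro i _
  rw [Algebra.smul_def, map_mul, map_pow]
  ring

/-- a ring of characteristic `p` which is finitely generated over its `p`-th powers has a finite
module of differentials over any base -/
theorem finite_kaehler_of_pow_decomp {R C : Type*} [CommRing R] [CommRing C] [Algebra R C] (p : ℕ)
    [CharP C p] {κ : Type*} [Fintype κ] (g : κ → C)
    (hg : ∀ x : C, ∃ h : κ → C, x = ∑ j, g j * h j ^ p) : Module.Finite C Ω[C⁄R] := by
  classical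
  refine ⟨⟨Finset.univ.image (fun j => KaehlerDifferential.D R C (g j)), ?_⟩⟩
  rw [eq_top_iff, ← KaehlerDifferential.span_range_derivation, Submodule.span_le]
  rintro _ ⟨x, rfl⟩
  obtain ⟨h, rfl⟩ := hg x
  rw [map_sum]
  refine Submodule.sum_mem _ (fun j _ => ?_)
  rw [Derivation.leibniz, Derivation.leibniz_pow]
  have h0 : (p : ℕ) • (h j ^ (p - 1) • KaehlerDifferential.D R C (h j)) = 0 := by
    rw [← Nat.cast_smul_eq_nsmul C, CharP.cast_eq_zero C p, zero_smul]
  rw [h0, smul_zero, zero_add]
  refine Submodule.smul_mem _ _ (Submodule.subset_span ?_)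
  rw [Finset.coe_image, Finset.coe_univ, Set.image_univ]
  exact ⟨j, rfl⟩

end General

end Groth.Agent.Lib.Helper22.FFin
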