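import Mathlib
import Groth.Agent.Lib.Helper22.UnramPSE

set_option autoImplicit false
set_option linter.style.haveILetI false
set_option linter.unusedSectionVars false

namespace Groth.Agent.Lib.Helper22.UnramPS

open IsLocalRing TensorProduct KaehlerDifferential
open Groth.Agent.Lib.Helper22.ComplKaehlerFibre Groth.Agent.Lib.Helper22.ComplKaehlerGen
open Groth.Agent.Lib.Helper22.SepPowSer Groth.Agent.Lib.Helper12.CohenFin
open Groth.Agent.Lib.Helper22.BoundedDer

universe u

variable (k A : Type u) [Field k] [CommRing A] [IsLocalRing A] [IsNoetherianRing A] [Algebra k A]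
  [IsAdicComplete (maximalIdeal A) A] [Module.Finite k (ResidueField A)]
  (p : Ideal A) [p.IsPrime] (n : ℕ)

local notation "Ŵ" => AdicCompletion (maximalIdeal A) (Ω[A⁄k])
local notation "Rp" => Localization.AtPrime p
local notation "Np" => LocalizedModule p.primeCompl (AdicCompletion (maximalIdeal A) (Ω[A⁄k]))
local notation "𝔄" => MvPowerSeries (Fin n) k

theorem span_gen_of_unramified [Algebra 𝔄 A] [IsScalarTower k 𝔄 A] [Module.Finite 𝔄 A]
    (hun : Algebra.IsUnramifiedAt 𝔄 p) :
    Submodule.span Rp (Set.range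
      (fun j => LocalizedModule.mkLinearMap p.primeCompl Ŵ (gen k n A j))) = ⊤ := by
  classical
  have hfk : Module.Finite (ResidueField A) (Ω[ResidueField A⁄k]) := by
    have h1 : Algebra.FiniteType k (ResidueField A) := inferInstance
    infer_instance
  obtain ⟨-, -, hker⟩ := Groth.Agent.S5991.result k 𝔄 A
  apply span_eq_top_of_forall_exists_smul_mem
  intro x
  have hfinΩ : Module.Finite A Ω[A⁄𝔄] := inferInstance
  obtain ⟨ω, hω⟩ := (Groth.Agent.S9405.of_bijective_of_finite (maximalIdeal A) Ω[A⁄𝔄]).2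
    (AdicCompletion.map (maximalIdeal A) (KaehlerDifferential.map k 𝔄 A A) x)
  obtain ⟨s, hs, hsω⟩ := (isUnramifiedAt_iff p).mp hun ω
  refine ⟨s, hs, ?_⟩
  have hmem : s • x ∈ LinearMap.ker
      (AdicCompletion.map (maximalIdeal A) (KaehlerDifferential.map k 𝔄 A A)) := by
    rw [LinearMap.mem_ker]
    have h1 : AdicCompletion.map (maximalIdeal A) (KaehlerDifferential.map k 𝔄 A A) (s • x) =
        s • AdicCompletion.map (maximalIdeal A) (KaehlerDifferential.map k 𝔄 A A) x :=
      ((AdicCompletion.map (maximalIdeal A)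
        (KaehlerDifferential.map k 𝔄 A A)).restrictScalars A).map_smul s x
    rw [h1, ← hω, ← map_smul, hsω, map_zero]
  rw [← hker] at hmem
  obtain ⟨y, hy⟩ := hmem
  rw [← hy]
  exact map_mapBaseChange_mem k n A y

omit [IsLocalRing A] [IsNoetherianRing A] [IsAdicComplete (maximalIdeal A) A] in
theorem map_eq_zero_of_mem_minimalPrimes [IsDomain Rp] (q : Ideal A) (hq : q ∈ minimalPrimes A)
    (hqp : q ≤ p) (a : A) (ha : a ∈ q) : algebraMap A Rp a = 0 := by
  haveI : q.IsPrime := hq.1.1
  have hq₀ : (RingHom.ker (algebraMap A Rp)).IsPrime := RingHom.ker_isPrime _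
  have hle : RingHom.ker (algebraMap A Rp) ≤ q := by
    intro b hb
    rw [RingHom.mem_ker, IsLocalization.map_eq_zero_iff p.primeCompl] at hb
    obtain ⟨t, ht⟩ := hb
    have h1 : (t : A) * b ∈ q := by rw [ht]; exact q.zero_mem
    rcases Ideal.IsPrime.mem_or_mem inferInstance h1 with h | h
    · exact absurd (hqp h) t.2
    · exact h
  have hge : q ≤ RingHom.ker (algebraMap A Rp) := hq.2 ⟨hq₀, bot_le⟩ hle
  exact hge ha

theorem free_of_etale [Algebra 𝔄 A] [IsScalarTower k 𝔄 A] [Module.Finite 𝔄 A]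
    (hét : Algebra.IsEtaleAt 𝔄 p) (q : Ideal A) (hq : q ∈ minimalPrimes A) (hqp : q ≤ p)
    (hdim : ringKrullDim (A ⧸ q) = n) :
    Module.Free Rp Np ∧ Module.finrank Rp Np = n := by
  classical
  haveI : q.IsPrime := hq.1.1
  haveI := hét
  have hun : Algebra.IsUnramifiedAt 𝔄 p :=
    inferInstanceAs (Algebra.FormallyUnramified 𝔄 (Localization.AtPrime p))
  have hspan := span_gen_of_unramified k A p n hun
  haveI : IsDomain 𝔄 := NoZeroDivisors.to_isDomain _
  haveI : IsIntegrallyClosed 𝔄 := isIntegrallyClosed_ps k n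
  haveI : Algebra.FinitePresentation 𝔄 A :=
    Algebra.FinitePresentation.of_finiteType.mp inferInstance
  haveI hdom : IsDomain Rp :=
    (Groth.Agent.Lib.Helper17.SmoothNormal.isDomain_and_isIntegrallyClosed_atPrime_of_isEtaleAt
      𝔄 p).1
  haveI : IsLocalRing (A ⧸ q) :=
    IsLocalRing.of_surjective' (Ideal.Quotient.mk q) Ideal.Quotient.mk_surjective
  haveI : IsAdicComplete (maximalIdeal (A ⧸ q)) (A ⧸ q) :=
    Groth.Agent.Lib.Helper5.FlatCohen.isAdicComplete_quotient q
  haveI : Module.Finite k (ResidueField (A ⧸ q)) := finite_residueField_quotient k A q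
  obtain ⟨d, hd, Δ, hΔ, hΦ⟩ := exists_bounded_derivations k (A ⧸ q)
  have hdn : d = n := by
    rw [hd] at hdim
    exact_mod_cast hdim
  subst hdn
  obtain ⟨Λ, hΛ⟩ := exists_functionals (k := k) (maximalIdeal A) (A ⧸ q)
    Ideal.Quotient.mk_surjective d Δ hΔ hΦ
  have hkerq : ∀ a : A, algebraMap A (FractionRing (A ⧸ q)) a = 0 → a ∈ q := by
    intro a ha
    rw [IsScalarTower.algebraMap_apply A (A ⧸ q) (FractionRing (A ⧸ q)),
      FaithfulSMul.algebraMap_eq_zero_iff] at ha
    exact Ideal.Quotient.eq_zero_iff_mem.mp ha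
  have hli := linearIndependent_of_functionals p
    (fun a ha => map_eq_zero_of_mem_minimalPrimes A p q hq hqp a (hkerq a ha))
    (fun a ha => hqp (hkerq a ha)) d Λ hΛ (gen k d A) hspan
  let b := Module.Basis.mk hli hspan.ge
  exact ⟨Module.Free.of_basis b, by rw [Module.finrank_eq_card_basis b, Fintype.card_fin]⟩

end Groth.Agent.Lib.Helper22.UnramPS
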