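import Mathlib
import Groth.Agent.Lib.Helper22.UnramPSF
import Groth.Agent.Lib.Helper5.ProjSpreadE
import Groth.Agent.Lib.Helper5.RegHomBC
import Groth.Agent.Lib.Helper5.AdicRegG
import Groth.Agent.Lib.Helper5.RegSmooth
import Groth.Agent.Lib.Helper5.PowSerSmooth

set_option autoImplicit false
set_option linter.style.haveILetI false
set_option linter.unusedSectionVars false

namespace Groth.Agent.Lib.Helper22.UnramPS

open IsLocalRing TensorProduct KaehlerDifferential

universe u

theorem geomRegular_ps (k : Type u) [Field k] (n : ℕ) :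
    CAlg.IsGeometricallyRegular k (MvPowerSeries (Fin n) k) := by
  apply Groth.Agent.Lib.Helper5.AdicReg.geomRegular_of_adicSmooth
  apply Groth.Agent.Lib.Helper5.PowSer.adicSmooth_of_formallySmooth
  rw [Groth.Agent.Lib.Helper5.PowSer.maximalIdeal_eq_span_X]

theorem geomRegular_of_etale (k S C : Type u) [Field k] [CommRing S] [CommRing C] [Algebra k S]
    [Algebra S C] [Algebra k C] [IsScalarTower k S C] [Algebra.Etale S C]
    (h : CAlg.IsGeometricallyRegular k S) : CAlg.IsGeometricallyRegular k C := by
  intro k' _ _ hfin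
  have h1 : IsRegularRing (k' ⊗[k] S) := h k' hfin
  haveI h2 : IsRegularRing (S ⊗[k] k') :=
    IsRegularRing.of_ringEquiv (Algebra.TensorProduct.comm k k' S).toRingEquiv
  have h3 : IsRegularRing ((S ⊗[k] k') ⊗[S] C) :=
    Groth.Agent.Lib.Helper5.RegSmooth.isRegularRing_of_etale (S ⊗[k] k') _
  let e1 : (S ⊗[k] k') ⊗[S] C ≃+* C ⊗[S] (S ⊗[k] k') :=
    (Algebra.TensorProduct.comm S (S ⊗[k] k') C).toRingEquiv
  let e2 : C ⊗[S] (S ⊗[k] k') ≃+* C ⊗[k] k' :=
    (Algebra.TensorProduct.cancelBaseChange k S S C k').toRingEquiv
  let e3 : C ⊗[k] k' ≃+* k' ⊗[k] C := (Algebra.TensorProduct.comm k C k').toRingEquiv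
  exact IsRegularRing.of_ringEquiv ((e1.trans e2).trans e3)

end Groth.Agent.Lib.Helper22.UnramPS

namespace Groth.Agent.Lib.Helper22.UnramPS

open IsLocalRing TensorProduct KaehlerDifferential

universe u

theorem geomRegular_atPrime_of_isEtaleAt (k S A : Type u) [Field k] [CommRing S] [CommRing A]
    [Algebra k S] [Algebra S A] [Algebra k A] [IsScalarTower k S A]
    [Algebra.FinitePresentation S A] (p : Ideal A) [p.IsPrime] (hét : Algebra.IsEtaleAt S p)
    (hS : CAlg.IsGeometricallyRegular k S) :
    CAlg.IsGeometricallyRegular k (Localization.AtPrime p) := by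
  haveI := hét
  obtain ⟨g, hg, hétg⟩ := Algebra.exists_etale_of_isEtaleAt (R := S) p
  have hgeo : CAlg.IsGeometricallyRegular k (Localization.Away g) :=
    geomRegular_of_etale k S (Localization.Away g) hS
  have hdisj : Disjoint (Submonoid.powers g : Set A) (p : Set A) :=
    (Ideal.disjoint_powers_iff_notMem_of_isPrime _).mpr hg
  set p' : Ideal (Localization.Away g) := p.map (algebraMap A (Localization.Away g)) with hp'
  haveI hp'prime : p'.IsPrime :=
    IsLocalization.isPrime_of_isPrime_disjoint (Submonoid.powers g) _ p inferInstance hdisj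
  have hcomap : p'.comap (algebraMap A (Localization.Away g)) = p :=
    IsLocalization.under_map_of_isPrime_disjoint (Submonoid.powers g) _ inferInstance hdisj
  have hgeo' : CAlg.IsGeometricallyRegular k (Localization.AtPrime p') :=
    Groth.Agent.Lib.Helper5.ProjSpread.geomRegular_localization hgeo p'
  haveI hloc : IsLocalization.AtPrime (Localization.AtPrime p') p := by
    have := IsLocalization.isLocalization_isLocalization_atPrime_isLocalization
      (Submonoid.powers g) (Localization.AtPrime p') p'
    have heq : (p'.comap (algebraMap A (Localization.Away g))).primeCompl = p.primeCompl := by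
      ext x
      simp only [Ideal.mem_primeCompl_iff]
      rw [hcomap]
    change IsLocalization p.primeCompl _
    rw [← heq]
    exact this
  let e : Localization.AtPrime p' ≃ₐ[A] Localization.AtPrime p :=
    IsLocalization.algEquiv p.primeCompl _ _
  exact Groth.Agent.Lib.Helper5.RegHom.geomRegular_of_algEquiv k _ _ (e.restrictScalars k) hgeo'

end Groth.Agent.Lib.Helper22.UnramPS
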