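import Mathlib
import Groth.Agent.Lib.Helper22.FFinA
import Groth.Agent.Lib.Helper22.UnramPSG
import Groth.Agent.Lib.Helper5.PowSerKaehler
import Groth.Agent.Lib.Helper5.GeomRegInjH
import Groth.Agent.Lib.Helper5.CartierSteps
import Groth.Agent.Lib.Helper5.RegularProd

/-!
# Cartier data of the fraction field of a power series ring over an `F`-finite field (helper22)
-/

set_option autoImplicit false
set_option linter.style.haveILetI false
set_option linter.unusedSectionVars false
universe u

namespace Groth.Agent.Lib.Helper22.FFin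

open MvPowerSeries TensorProduct KaehlerDifferential IsLocalRing
open Groth.Agent.Lib.Helper5.PowSer Groth.Agent.Lib.Helper5.Cartier

/-- geometric regularity passes to localizations -/
theorem geomRegular_of_isLocalization {k A : Type u} [Field k] [CommRing A] [Algebra k A]
    (M : Submonoid A) (B : Type u) [CommRing B] [Algebra A B] [Algebra k B] [IsScalarTower k A B]
    [IsLocalization M B] (hgeo : CAlg.IsGeometricallyRegular k A) :
    CAlg.IsGeometricallyRegular k B := by
  intro k' _ _ hfin
  have hreg : IsRegularRing (TensorProduct k k' A) := hgeo k' hfin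
  let M' : Submonoid (TensorProduct k k' A) :=
    M.map (Algebra.TensorProduct.includeRight (R := k) (A := k'))
  have hreg' : IsRegularRing (Localization M') :=
    Groth.Agent.Lib.Helper5.RegularProd.isRegularRing_of_isLocalization M' _
  let e := IsLocalization.tensorProductEquivOfMapIncludeRight k k' M B (Localization M')
  exact IsRegularRing.of_ringEquiv e.symm.toRingEquiv

section PS

variable (k : Type u) [Field k] (p : ℕ) [hpF : Fact p.Prime] [hchar : CharP k p] (n : ℕ)

local notation "𝔄" => MvPowerSeries (Fin n) k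

instance charP_ps : CharP 𝔄 p :=
  charP_of_injective_ringHom (f := (C : k →+* 𝔄)) (MvPowerSeries.C_injective) p

theorem finite_kaehler_ps (hk : (frobenius k p).Finite) : Module.Finite 𝔄 Ω[𝔄⁄k] := by
  obtain ⟨ι, hι, b, hb⟩ := exists_pow_decomp p n hk
  exact finite_kaehler_of_pow_decomp (R := k) p b hb

theorem phi_surjective (hk : (frobenius k p).Finite) : Function.Surjective (phi k n) := by
  haveI := finite_kaehler_ps k p n hk
  rw [← LinearMap.range_eq_top, eq_top_iff]
  apply Submodule.le_of_le_smul_of_le_jacobson_bot (I := maximalIdeal 𝔄)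
    (Module.finite_def.mp inferInstance) (IsLocalRing.maximalIdeal_le_jacobson ⊥)
  rw [range_phi_sup]

/-- the differentials `dX_i` form a basis of `Ω[k[[X]]⁄k]` when `k` is `F`-finite -/
noncomputable def kaehlerEquiv (hk : (frobenius k p).Finite) : (Fin n → 𝔄) ≃ₗ[𝔄] Ω[𝔄⁄k] :=
  LinearEquiv.ofBijective (phi k n)
    ⟨Function.LeftInverse.injective (psi_phi k n), phi_surjective k p n hk⟩

variable (F : Type u) [Field F] [Algebra (MvPowerSeries (Fin n) k) F]
  [IsFractionRing (MvPowerSeries (Fin n) k) F] [Algebra k F]
  [IsScalarTower k (MvPowerSeries (Fin n) k) F]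

theorem finrank_kaehler_fractionRing (hk : (frobenius k p).Finite) :
    Module.Finite F Ω[F⁄k] ∧ Module.finrank F Ω[F⁄k] = n := by
  haveI : IsDomain 𝔄 := NoZeroDivisors.to_isDomain _
  let b0 : Module.Basis (Fin n) 𝔄 Ω[𝔄⁄k] :=
    (Pi.basisFun 𝔄 (Fin n)).map (kaehlerEquiv k p n hk)
  let b1 : Module.Basis (Fin n) F Ω[F⁄k] :=
    b0.ofIsLocalizedModule F (nonZeroDivisors 𝔄) (KaehlerDifferential.map k k 𝔄 F)
  refine ⟨Module.Finite.of_basis b1, ?_⟩
  rw [Module.finrank_eq_card_basis b1, Fintype.card_fin]

omit [IsScalarTower k (MvPowerSeries (Fin n) k) F] in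
theorem mapBaseChange_injective_fractionRing
    (_h𝔄 : IsFractionRing (MvPowerSeries (Fin n) k) F)
    (_hT : IsScalarTower k (MvPowerSeries (Fin n) k) F) (_hp : CharP k p) (_hpp : Fact p.Prime) :
    Function.Injective (KaehlerDifferential.mapBaseChange ℤ k F) := by
  haveI : IsDomain 𝔄 := NoZeroDivisors.to_isDomain _
  have hgeo : CAlg.IsGeometricallyRegular k F :=
    geomRegular_of_isLocalization (nonZeroDivisors 𝔄) F
      (Groth.Agent.Lib.Helper22.UnramPS.geomRegular_ps k n)
  have h1 := Groth.Agent.Lib.Helper5.GeomRegInj.injective_of_geomRegular k F p hgeo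
  exact (Module.FaithfullyFlat.lTensor_injective_iff_injective F (ResidueField F) _).mp h1

theorem cdata_fractionRing_ps (hk : (frobenius k p).Finite) : CData k F n := by
  obtain ⟨hfin, hrank⟩ := finrank_kaehler_fractionRing k p n F hk
  have hker : LinearMap.ker (KaehlerDifferential.mapBaseChange ℤ k F) = ⊥ :=
    LinearMap.ker_eq_bot.2 (mapBaseChange_injective_fractionRing k p n F inferInstance inferInstance
      inferInstance inferInstance)
  refine CData.mk' ?_ ?_
  · rw [hker]; infer_instance
  · rw [hker, finrank_bot, hrank]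
    simp

end PS

end Groth.Agent.Lib.Helper22.FFin
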