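import Mathlib
import Groth.Agent.Lib.Helper22.FFinB
import Groth.Agent.Lib.Helper5.CartierFinite
import Groth.Agent.Lib.Helper12.CohenFinD

/-!
# Cartier's equality for the fraction field of a complete local domain over an `F`-finite field
(helper22; EGA 0_IV 21.9)
-/

set_option autoImplicit false
set_option linter.style.haveILetI false
set_option linter.unusedSectionVars false
universe u

namespace Groth.Agent.Lib.Helper22.FFin

open MvPowerSeries TensorProduct KaehlerDifferential IsLocalRing
open Groth.Agent.Lib.Helper5.Cartier
open scoped nonZeroDivisors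

section FPS

variable (k : Type u) [Field k] (n : ℕ)

instance isDomain_ps : IsDomain (MvPowerSeries (Fin n) k) := NoZeroDivisors.to_isDomain _

/-- an opaque copy of the fraction field of the power series ring (avoids instance diamonds) -/
def FPS : Type u := FractionRing (MvPowerSeries (Fin n) k)

noncomputable instance : Field (FPS k n) :=
  inferInstanceAs (Field (FractionRing (MvPowerSeries (Fin n) k)))

noncomputable instance : Algebra (MvPowerSeries (Fin n) k) (FPS k n) :=
  inferInstanceAs (Algebra (MvPowerSeries (Fin n) k) (FractionRing (MvPowerSeries (Fin n) k)))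

instance : IsFractionRing (MvPowerSeries (Fin n) k) (FPS k n) :=
  inferInstanceAs (IsFractionRing (MvPowerSeries (Fin n) k)
    (FractionRing (MvPowerSeries (Fin n) k)))

noncomputable instance : Algebra k (FPS k n) :=
  inferInstanceAs (Algebra k (FractionRing (MvPowerSeries (Fin n) k)))

instance : IsScalarTower k (MvPowerSeries (Fin n) k) (FPS k n) :=
  inferInstanceAs (IsScalarTower k (MvPowerSeries (Fin n) k)
    (FractionRing (MvPowerSeries (Fin n) k)))

end FPS

/-- **Cartier's equality** for the fraction field `L` of a complete Noetherian local domain `C`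
of dimension `n` with residue field finite over an `F`-finite field `k`: the map
`L ⊗ Ω_k → Ω_L` has finite-dimensional kernel and cokernel and index `-n`; moreover `Ω_{C/k}` is
a finite `C`-module. -/
theorem cdata_fractionField (p : ℕ) [Fact p.Prime] (k C L : Type u) [Field k] [CharP k p]
    (hk : (frobenius k p).Finite) [CommRing C] [IsDomain C] [IsNoetherianRing C] [IsLocalRing C]
    [Algebra k C] [IsAdicComplete (maximalIdeal C) C] [Module.Finite k (ResidueField C)]
    (n : ℕ) (hn : ringKrullDim C = n) [Field L] [Algebra C L] [IsFractionRing C L] [Algebra k L]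
    [IsScalarTower k C L] : CData k L n ∧ Module.Finite C Ω[C⁄k] := by
  classical
  obtain ⟨n', w, hinj, -, hfin, hdim⟩ :=
    Groth.Agent.Lib.Helper12.CohenFin.exists_finite_injective_of_field (k₀ := k) (A := C)
  have hnn : n' = n := by
    rw [hn] at hdim
    exact_mod_cast hdim.symm
  subst hnn
  letI algQC : Algebra (MvPowerSeries (Fin n') k) C := w.toRingHom.toAlgebra
  haveI tkQC : IsScalarTower k (MvPowerSeries (Fin n') k) C :=
    IsScalarTower.of_algebraMap_eq (fun c => (w.commutes c).symm)
  haveI finQC : Module.Finite (MvPowerSeries (Fin n') k) C := hfin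
  haveI fsQC : FaithfulSMul (MvPowerSeries (Fin n') k) C :=
    (faithfulSMul_iff_algebraMap_injective _ _).mpr hinj
  letI algQL : Algebra (MvPowerSeries (Fin n') k) L :=
    ((algebraMap C L).comp w.toRingHom).toAlgebra
  haveI tQCL : IsScalarTower (MvPowerSeries (Fin n') k) C L :=
    IsScalarTower.of_algebraMap_eq (fun _ => rfl)
  have hinjL : Function.Injective (algebraMap (MvPowerSeries (Fin n') k) L) :=
    (IsFractionRing.injective C L).comp hinj
  letI algFL : Algebra (FPS k n') L := (IsFractionRing.lift hinjL).toAlgebra
  haveI tQFL : IsScalarTower (MvPowerSeries (Fin n') k) (FPS k n') L :=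
    IsScalarTower.of_algebraMap_eq (fun x => (IsFractionRing.lift_algebraMap hinjL x).symm)
  haveI tkQL : IsScalarTower k (MvPowerSeries (Fin n') k) L :=
    IsScalarTower.of_algebraMap_eq (fun c => by
      rw [IsScalarTower.algebraMap_apply k C L,
        IsScalarTower.algebraMap_apply k (MvPowerSeries (Fin n') k) C,
        ← IsScalarTower.algebraMap_apply (MvPowerSeries (Fin n') k) C L])
  haveI tkFL : IsScalarTower k (FPS k n') L :=
    IsScalarTower.of_algebraMap_eq (fun c => by
      rw [IsScalarTower.algebraMap_apply k (MvPowerSeries (Fin n') k) (FPS k n'),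
        ← IsScalarTower.algebraMap_apply (MvPowerSeries (Fin n') k) (FPS k n') L,
        ← IsScalarTower.algebraMap_apply k (MvPowerSeries (Fin n') k) L])
  haveI hInt : Algebra.IsIntegral (MvPowerSeries (Fin n') k) C := Algebra.IsIntegral.of_finite _ _
  haveI hAlg : Algebra.IsAlgebraic (MvPowerSeries (Fin n') k) C := inferInstance
  haveI hLoc : IsLocalization (Algebra.algebraMapSubmonoid C (MvPowerSeries (Fin n') k)⁰) L :=
    inferInstance
  haveI hFD : FiniteDimensional (FPS k n') L :=
    Module.Finite.of_isLocalization (MvPowerSeries (Fin n') k) C (MvPowerSeries (Fin n') k)⁰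
  have h1 := cdata_fractionRing_ps k p n' (FPS k n') hk
  have h2 := cdata_of_finite (FPS k n') L
  refine ⟨by simpa using h1.trans h2, ?_⟩
  obtain ⟨ι, hι, b, hb⟩ := exists_pow_decomp p n' hk
  obtain ⟨κ, hκ, g, hg⟩ := exists_pow_decomp_of_finite (Q := MvPowerSeries (Fin n') k) (C := C) p b hb
  haveI : CharP C p := charP_of_injective_algebraMap (algebraMap k C).injective p
  exact finite_kaehler_of_pow_decomp (R := k) p g hg

end Groth.Agent.Lib.Helper22.FFin
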