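import Mathlib
import Groth.Agent.Lib.Helper22.FFinC
import Groth.Agent.Lib.Helper5.CartierRel2
import Groth.Agent.Lib.Helper5.ImperfExt

/-!
# The imperfection module of the fraction field of a complete local domain over an arbitrary field
of characteristic `p` (helper22; EGA 0_IV 21.9.? without `F`-finiteness)
-/

set_option autoImplicit false
set_option linter.style.haveILetI false
set_option linter.unusedSectionVars false
universe u

namespace Groth.Agent.Lib.Helper22.FFin

open MvPowerSeries TensorProduct KaehlerDifferential IsLocalRing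
open Groth.Agent.Lib.Helper5.Cartier Groth.Agent.Lib.Helper5.ImperfTower
open Groth.Agent.Lib.Helper5.PowSer
open scoped nonZeroDivisors

section Tower

variable (K M L : Type u) [Field K] [Field M] [Field L] [Algebra K M] [Algebra M L] [Algebra K L]
  [IsScalarTower K M L]

theorem up_injective (hα : Function.Injective (KaehlerDifferential.mapBaseChange ℤ K M)) :
    Function.Injective (up ℤ K M L) := by
  have h1 : Function.Injective ((KaehlerDifferential.mapBaseChange ℤ K M).baseChange L) := by
    rw [LinearMap.baseChange_eq_ltensor]
    exact Module.Flat.lTensor_preserves_injective_linearMap _ hα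
  exact h1.comp (LinearEquiv.injective _)

theorem finite_ker_of_tower (hα : Function.Injective (KaehlerDifferential.mapBaseChange ℤ K M))
    [FiniteDimensional L (LinearMap.ker (KaehlerDifferential.mapBaseChange ℤ M L))] :
    FiniteDimensional L (LinearMap.ker (KaehlerDifferential.mapBaseChange ℤ K L)) := by
  let r : LinearMap.ker (KaehlerDifferential.mapBaseChange ℤ K L) →ₗ[L]
      LinearMap.ker (KaehlerDifferential.mapBaseChange ℤ M L) :=
    (up ℤ K M L).restrict (fun z hz => by
      rw [LinearMap.mem_ker] at hz ⊢
      rw [mapBaseChange_up]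
      exact hz)
  have hr : Function.Injective r := by
    intro a b hab
    apply Subtype.ext
    apply up_injective K M L hα
    exact congrArg Subtype.val hab
  haveI : IsNoetherian L (LinearMap.ker (KaehlerDifferential.mapBaseChange ℤ M L)) :=
    isNoetherian_of_isNoetherianRing_of_finite L
      (LinearMap.ker (KaehlerDifferential.mapBaseChange ℤ M L))
  exact Module.Finite.of_injective r hr

theorem le_rank_of_tower (hα : Function.Injective (KaehlerDifferential.mapBaseChange ℤ K M))
    (h2 : CData M L 0) (n : ℕ) (hn : Module.Finite M Ω[M⁄K] → n ≤ Module.finrank M Ω[M⁄K]) :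
    (n : Cardinal.{u}) + Module.rank L (LinearMap.ker (KaehlerDifferential.mapBaseChange ℤ K L)) ≤
      Module.rank L Ω[L⁄K] := by
  haveI := h2.finKer
  haveI hfk := finite_ker_of_tower K M L hα
  by_cases hfin : Module.Finite L Ω[L⁄K]
  · haveI : Module.Finite L (EGA41.imperfection ℤ M L) := h2.finKer
    haveI : Module.Finite L (EGA41.imperfection K M L) := finite_imperfection_rel K M L
    haveI := finite_baseChange_kaehler K M L
    haveI hM : Module.Finite M Ω[M⁄K] := finite_kaehler_of_baseChange K M L
    have hker : LinearMap.ker (KaehlerDifferential.mapBaseChange ℤ K M) = ⊥ :=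
      LinearMap.ker_eq_bot.2 hα
    have h1 : CData K M (Module.finrank M Ω[M⁄K]) := by
      refine CData.mk' ?_ ?_
      · rw [hker]; infer_instance
      · rw [hker, finrank_bot]; simp
    have h3 := (h1.trans h2).finrank_eq
    have h4 := hn hM
    rw [← Module.finrank_eq_rank L, ← Module.finrank_eq_rank L]
    have : n + Module.finrank L (LinearMap.ker (KaehlerDifferential.mapBaseChange ℤ K L)) ≤
        Module.finrank L Ω[L⁄K] := by
      push_cast at h3
      omega
    exact_mod_cast this
  · have h1 : Cardinal.aleph0 ≤ Module.rank L Ω[L⁄K] := by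
      by_contra hlt
      rw [not_le, Module.rank_lt_aleph0_iff] at hlt
      exact hfin hlt
    refine le_trans (le_of_lt ?_) h1
    exact Cardinal.add_lt_aleph0 (Cardinal.nat_lt_aleph0 n) (Module.rank_lt_aleph0 L _)

end Tower

section PS

variable (k : Type u) [Field k] (n : ℕ)

local notation "𝔄" => MvPowerSeries (Fin n) k

theorem le_finrank_kaehler_fractionRing (F : Type u) [Field F] [Algebra (MvPowerSeries (Fin n) k) F]
    [IsFractionRing (MvPowerSeries (Fin n) k) F] [Algebra k F]
    [IsScalarTower k (MvPowerSeries (Fin n) k) F] [Module.Finite F Ω[F⁄k]] :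
    n ≤ Module.finrank F Ω[F⁄k] := by
  classical
  haveI : IsDomain 𝔄 := NoZeroDivisors.to_isDomain _
  have hinj : Function.Injective (phi k n) := Function.LeftInverse.injective (psi_phi k n)
  have hli0 : LinearIndependent 𝔄 (fun i : Fin n => phi k n (Pi.basisFun 𝔄 (Fin n) i)) :=
    (Pi.basisFun 𝔄 (Fin n)).linearIndependent.map' (phi k n) (LinearMap.ker_eq_bot.2 hinj)
  have hli1 : LinearIndependent F
      ((KaehlerDifferential.map k k 𝔄 F) ∘ fun i : Fin n => phi k n (Pi.basisFun 𝔄 (Fin n) i)) :=
    hli0.of_isLocalizedModule F (nonZeroDivisors 𝔄) (KaehlerDifferential.map k k 𝔄 F)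
  simpa using hli1.fintype_card_le_finrank

end PS

/-- EGA 0_IV 21.9-type statement without `F`-finiteness: for the fraction field `L` of a complete
Noetherian local domain `C` of dimension `n` with residue field finite over a field `k` of
characteristic `p`, the imperfection module of `L/k` is finite-dimensional and
`n + dim Υ ≤ dim Ω_{L/k}` (as cardinals). -/
theorem imperfection_fractionField (p : ℕ) [Fact p.Prime] (k C L : Type u) [Field k] [CharP k p]
    [CommRing C] [IsDomain C] [IsNoetherianRing C] [IsLocalRing C]
    [Algebra k C] [IsAdicComplete (maximalIdeal C) C] [Module.Finite k (ResidueField C)]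
    (n : ℕ) (hn : ringKrullDim C = n) [Field L] [Algebra C L] [IsFractionRing C L] [Algebra k L]
    [IsScalarTower k C L] :
    Module.Finite L (LinearMap.ker (KaehlerDifferential.mapBaseChange ℤ k L)) ∧
      (n : Cardinal.{u}) + Module.rank L (LinearMap.ker (KaehlerDifferential.mapBaseChange ℤ k L)) ≤
        Module.rank L (Ω[L⁄k]) := by
  classical
  obtain ⟨n', w, hinj, -, hfin, hdim⟩ :=
    Groth.Agent.Lib.Helper12.CohenFin.exists_finite_injective_of_field (k₀ := k) (A := C)
  have hnn : n' = n := by
    rw [hn] at hdim
    exact_mod_cast hdim.symm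
  subst hnn
  letI algQC : Algebra (MvPowerSeries (Fin n') k) C := w.toRingHom.toAlgebra
  haveI tkQC : IsScalarTower k (MvPowerSeries (Fin n') k) C :=
    IsScalarTower.of_algebraMap_eq (fun c => (w.commutes c).symm)
  haveI finQC : Module.Finite (MvPowerSeries (Fin n') k) C := hfin
  haveI fsQC : FaithfulSMul (MvPowerSeries (Fin n') k) C :=
    (faithfulSMul_iff_algebraMap_injective _ _).mpr hinj
  letI algQL : Algebra (MvPowerSeries (Fin n') k) L :=
    ((algebraMap C L).comp w.toRingHom).toAlgebra
  haveI tQCL : IsScalarTower (MvPowerSeries (Fin n') k) C L :=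
    IsScalarTower.of_algebraMap_eq (fun _ => rfl)
  have hinjL : Function.Injective (algebraMap (MvPowerSeries (Fin n') k) L) :=
    (IsFractionRing.injective C L).comp hinj
  letI algFL : Algebra (FPS k n') L := (IsFractionRing.lift hinjL).toAlgebra
  haveI tQFL : IsScalarTower (MvPowerSeries (Fin n') k) (FPS k n') L :=
    IsScalarTower.of_algebraMap_eq (fun x => (IsFractionRing.lift_algebraMap hinjL x).symm)
  haveI tkQL : IsScalarTower k (MvPowerSeries (Fin n') k) L :=
    IsScalarTower.of_algebraMap_eq (fun c => by
      rw [IsScalarTower.algebraMap_apply k C L,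
        IsScalarTower.algebraMap_apply k (MvPowerSeries (Fin n') k) C,
        ← IsScalarTower.algebraMap_apply (MvPowerSeries (Fin n') k) C L])
  haveI tkFL : IsScalarTower k (FPS k n') L :=
    IsScalarTower.of_algebraMap_eq (fun c => by
      rw [IsScalarTower.algebraMap_apply k (MvPowerSeries (Fin n') k) (FPS k n'),
        ← IsScalarTower.algebraMap_apply (MvPowerSeries (Fin n') k) (FPS k n') L,
        ← IsScalarTower.algebraMap_apply k (MvPowerSeries (Fin n') k) L])
  haveI hInt : Algebra.IsIntegral (MvPowerSeries (Fin n') k) C := Algebra.IsIntegral.of_finite _ _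
  haveI hAlg : Algebra.IsAlgebraic (MvPowerSeries (Fin n') k) C := inferInstance
  haveI hLoc : IsLocalization (Algebra.algebraMapSubmonoid C (MvPowerSeries (Fin n') k)⁰) L :=
    inferInstance
  haveI hFD : FiniteDimensional (FPS k n') L :=
    Module.Finite.of_isLocalization (MvPowerSeries (Fin n') k) C (MvPowerSeries (Fin n') k)⁰
  have hα : Function.Injective (KaehlerDifferential.mapBaseChange ℤ k (FPS k n')) :=
    mapBaseChange_injective_fractionRing k p n' (FPS k n') inferInstance inferInstance
      inferInstance inferInstance
  have h2 := cdata_of_finite (FPS k n') L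
  haveI := h2.finKer
  refine ⟨finite_ker_of_tower k (FPS k n') L hα, ?_⟩
  exact le_rank_of_tower k (FPS k n') L hα h2 n'
    (fun hM => by
      haveI := hM
      exact le_finrank_kaehler_fractionRing k n' (FPS k n'))

end Groth.Agent.Lib.Helper22.FFin
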