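import Mathlib
import Groth.Prelude.Def_EGA41

/-!
# Descent of adic formal smoothness along a base change having a linear retraction (helper22)

* `exists_retraction`: a faithfully flat finite projective `A`-algebra `A'` admits an `A`-linear
  retraction `r : A' → A` with `r 1 = 1`.
* `isFormallySmoothAdic_of_sq`: square-zero test ideals suffice for `EGA41.IsFormallySmoothAdic`.
-/

set_option autoImplicit false
set_option linter.style.haveILetI false
set_option linter.unusedSectionVars false
universe u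

namespace Groth.Agent.Lib.Helper22.FSDesc

open TensorProduct

section Retraction

variable (A A' : Type u) [CommRing A] [CommRing A'] [Algebra A A']

/-- a faithfully flat projective algebra has a linear retraction onto the base -/
theorem exists_retraction [Module.FaithfullyFlat A A'] [Module.Projective A A'] :
    ∃ r : A' →ₗ[A] A, r 1 = 1 := by
  classical
  -- the ideal of values `φ 1`
  let ev : Module.Dual A A' →ₗ[A] A :=
    { toFun := fun φ => φ 1
      map_add' := fun _ _ => rfl
      map_smul' := fun _ _ => rfl }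
  let τ : Ideal A := LinearMap.range ev
  have hτ : ∀ (φ : Module.Dual A A') (x : A'), φ x ∈ τ := by
    intro φ x
    refine ⟨φ.comp (LinearMap.mulLeft A x), ?_⟩
    change φ (x * 1) = φ x
    rw [mul_one]
  by_cases htop : τ = ⊤
  · have h1 : (1 : A) ∈ τ := by rw [htop]; trivial
    obtain ⟨r, hr⟩ := h1
    exact ⟨r, hr⟩
  · exfalso
    obtain ⟨m, hm, hτm⟩ := Ideal.exists_le_maximal τ htop
    obtain ⟨s, hs⟩ := (Module.projective_def'.mp (inferInstance : Module.Projective A A'))
    apply Module.FaithfullyFlat.submodule_ne_top (R := A) (M := A') hm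
    rw [eq_top_iff]
    intro x _
    have hx : x = Finsupp.linearCombination A id (s x) := by
      have := LinearMap.congr_fun hs x
      exact this.symm
    rw [hx, Finsupp.linearCombination_apply]
    refine Submodule.sum_mem _ (fun p _ => ?_)
    refine Submodule.smul_mem_smul ?_ trivial
    apply hτm
    exact hτ ((Finsupp.lapply p).comp s) x

end Retraction

section SqZero

variable {A B : Type u} [CommRing A] [CommRing B] [Algebra A B] (𝔞 : Ideal A) (𝔟 : Ideal B)

/-- square-zero test ideals suffice for adic formal smoothness -/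
theorem isFormallySmoothAdic_of_sq
    (h : ∀ (C : Type u) [CommRing C] [Algebra A C] (J : Ideal C), J ^ 2 = ⊥ →
      (∃ k : ℕ, (𝔞 ^ k).map (algebraMap A C) = ⊥) →
      ∀ u : B →ₐ[A] C ⧸ J, (∃ k : ℕ, ∀ x ∈ 𝔟 ^ k, u x = 0) →
        ∃ v : B →ₐ[A] C, (Ideal.Quotient.mkₐ A J).comp v = u) :
    EGA41.IsFormallySmoothAdic A 𝔞 B 𝔟 := by
  intro C _ instAC J hJ hbot u hu
  revert hu
  revert u
  revert hbot
  revert instAC
  refine Ideal.IsNilpotent.induction_on (S := C) J hJ
    (P := fun S _ J => IsNilpotent J → ∀ [Algebra A S],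
      (∃ k : ℕ, (𝔞 ^ k).map (algebraMap A S) = ⊥) → ∀ (u : B →ₐ[A] S ⧸ J),
      (∃ k : ℕ, ∀ x ∈ 𝔟 ^ k, u x = 0) →
        ∃ v : B →ₐ[A] S, (Ideal.Quotient.mkₐ A J).comp v = u) ?_ ?_ hJ
  · intro S _ I hI _ _ hb u hu
    exact h S I hI hb u hu
  · intro S _ I J hIJ h₁ h₂ hJn _ hb g hg
    have hIn : IsNilpotent I := by
      obtain ⟨m, hm⟩ := hJn
      refine ⟨m, ?_⟩
      have := Ideal.pow_right_mono hIJ m
      rw [hm] at this
      exact le_bot_iff.mp this
    have hJ'n : IsNilpotent (J.map (Ideal.Quotient.mk I)) := by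
      obtain ⟨m, hm⟩ := hJn
      exact ⟨m, by rw [← Ideal.map_pow, hm, Ideal.zero_eq_bot, Ideal.map_bot]; rfl⟩
    have hb' : ∃ k : ℕ, (𝔞 ^ k).map (algebraMap A (S ⧸ I)) = ⊥ := by
      obtain ⟨k, hk⟩ := hb
      refine ⟨k, ?_⟩
      have : algebraMap A (S ⧸ I) = (Ideal.Quotient.mk I).comp (algebraMap A S) := rfl
      rw [this, ← Ideal.map_map, hk, Ideal.map_bot]
    let e : ((S ⧸ I) ⧸ J.map (Ideal.Quotient.mk I)) ≃ₐ[A] S ⧸ J :=
      { (DoubleQuot.quotQuotEquivQuotSup I J).trans
          (Ideal.quotEquivOfEq (sup_eq_right.mpr hIJ)) with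
        commutes' := fun x => rfl }
    obtain ⟨k, hk⟩ := hg
    obtain ⟨g', he⟩ := h₂ hJ'n hb' (e.symm.toAlgHom.comp g) ⟨k, fun x hx => by simp [hk x hx]⟩
    have hle : (𝔟 ^ k).map g'.toRingHom ≤ J.map (Ideal.Quotient.mk I) := by
      rw [Ideal.map_le_iff_le_comap]
      intro x hx
      have h3 := AlgHom.congr_fun he x
      simp only [AlgHom.comp_apply, hk x hx, map_zero] at h3
      rw [Ideal.mem_comap]
      exact Ideal.Quotient.eq_zero_iff_mem.mp h3
    have hg' : ∃ k' : ℕ, ∀ x ∈ 𝔟 ^ k', g' x = 0 := by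
      obtain ⟨m, hm⟩ := hJ'n
      refine ⟨k * m, fun x hx => ?_⟩
      have h4 : g' x ∈ ((𝔟 ^ k).map g'.toRingHom) ^ m := by
        rw [← Ideal.map_pow, ← pow_mul]
        exact Ideal.mem_map_of_mem _ hx
      have h5 := Ideal.pow_right_mono hle m h4
      rw [hm] at h5
      simpa using h5
    obtain ⟨g'', rfl⟩ := h₁ hIn hb g' hg'
    replace he := congr_arg e.toAlgHom.comp he
    conv_rhs at he =>
      rw [← AlgHom.comp_assoc, AlgEquiv.comp_symm, AlgHom.id_comp]
    exact ⟨g'', he⟩

end SqZero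

end Groth.Agent.Lib.Helper22.FSDesc
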