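import Mathlib
import Groth.Prelude.Def_EGA41
import Groth.Agent.Lib.Helper22.FSDescA

/-!
# Adic formal smoothness and base change `A → A'` (helper22; EGA 0_IV 19.4)

* `baseChange`: `B` formally smooth over `A` ⇒ `A' ⊗ B` formally smooth over `A'`.
* `descent`: the converse when `A → A'` has an `A`-linear retraction.
-/

set_option autoImplicit false
set_option linter.style.haveILetI false
set_option linter.unusedSectionVars false
universe u

namespace Groth.Agent.Lib.Helper22.FSDesc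

open TensorProduct

variable {A B A' : Type u} [CommRing A] [CommRing B] [CommRing A'] [Algebra A B] [Algebra A A']
  (𝔞 : Ideal A) (𝔟 : Ideal B)

/-- the ideal of definition of the tensor product topology on `A' ⊗ B` -/
abbrev bigIdeal : Ideal (A' ⊗[A] B) :=
  (𝔞.map (algebraMap A A')).map (algebraMap A' (A' ⊗[A] B)) ⊔
    𝔟.map (Algebra.TensorProduct.includeRight : B →ₐ[A] A' ⊗[A] B).toRingHom

theorem baseChange (h : EGA41.IsFormallySmoothAdic A 𝔞 B 𝔟) :
    EGA41.IsFormallySmoothAdic A' (𝔞.map (algebraMap A A')) (A' ⊗[A] B)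
      (bigIdeal (A' := A') 𝔞 𝔟) := by
  intro C' _ _ J hJ hbot u' hu'
  letI algAC : Algebra A C' := ((algebraMap A' C').comp (algebraMap A A')).toAlgebra
  haveI : IsScalarTower A A' C' := IsScalarTower.of_algebraMap_eq (fun _ => rfl)
  let u : B →ₐ[A] C' ⧸ J :=
    (u'.restrictScalars A).comp (Algebra.TensorProduct.includeRight : B →ₐ[A] A' ⊗[A] B)
  have hbotA : ∃ k : ℕ, (𝔞 ^ k).map (algebraMap A C') = ⊥ := by
    obtain ⟨k, hk⟩ := hbot
    refine ⟨k, ?_⟩
    rw [IsScalarTower.algebraMap_eq A A' C', ← Ideal.map_map, Ideal.map_pow]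
    exact hk
  have hu : ∃ k : ℕ, ∀ x ∈ 𝔟 ^ k, u x = 0 := by
    obtain ⟨k, hk⟩ := hu'
    refine ⟨k, fun x hx => ?_⟩
    apply hk
    have h1 : (Algebra.TensorProduct.includeRight : B →ₐ[A] A' ⊗[A] B) x ∈
        (𝔟.map (Algebra.TensorProduct.includeRight : B →ₐ[A] A' ⊗[A] B).toRingHom) ^ k := by
      rw [← Ideal.map_pow]
      exact Ideal.mem_map_of_mem _ hx
    exact Ideal.pow_right_mono le_sup_right k h1
  obtain ⟨v, hv⟩ := h C' J hJ hbotA u hu
  let v' : A' ⊗[A] B →ₐ[A'] C' :=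
    Algebra.TensorProduct.lift (Algebra.ofId A' C') v (fun _ _ => Commute.all _ _)
  refine ⟨v', ?_⟩
  apply Algebra.TensorProduct.ext
  · ext
  · ext b
    have h1 := AlgHom.congr_fun hv b
    simp only [AlgHom.comp_apply] at h1
    simp only [AlgHom.comp_apply, AlgHom.restrictScalars_apply,
      Algebra.TensorProduct.includeRight_apply]
    change (Ideal.Quotient.mkₐ A' J) (v' (1 ⊗ₜ b)) = u' (1 ⊗ₜ b)
    rw [Algebra.TensorProduct.lift_tmul, map_one, one_mul]
    exact h1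

theorem descent (r : A' →ₗ[A] A) (hr : r 1 = 1)
    (h' : EGA41.IsFormallySmoothAdic A' (𝔞.map (algebraMap A A')) (A' ⊗[A] B)
      (bigIdeal (A' := A') 𝔞 𝔟)) :
    EGA41.IsFormallySmoothAdic A 𝔞 B 𝔟 := by
  apply isFormallySmoothAdic_of_sq
  intro C _ _ J hJ hbot u hu
  obtain ⟨k, hk⟩ := hbot
  obtain ⟨m, hm⟩ := hu
  let ι : C →ₐ[A] A' ⊗[A] C := Algebra.TensorProduct.includeRight
  let J' : Ideal (A' ⊗[A] C) := J.map ι.toRingHom
  have hJ'sq : J' ^ 2 = ⊥ := by
    change (J.map ι.toRingHom) ^ 2 = ⊥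
    rw [← Ideal.map_pow, hJ, Ideal.map_bot]
  have hJ' : IsNilpotent J' := ⟨2, hJ'sq⟩
  have hAC : ∀ a : A, algebraMap A' (A' ⊗[A] C) (algebraMap A A' a) = ι (algebraMap A C a) := by
    intro a
    rw [← IsScalarTower.algebraMap_apply A A' (A' ⊗[A] C), ← AlgHom.commutes ι a]
  have hbot' : ∃ k : ℕ, ((𝔞.map (algebraMap A A')) ^ k).map (algebraMap A' (A' ⊗[A] C)) = ⊥ := by
    refine ⟨k, ?_⟩
    rw [← Ideal.map_pow, Ideal.map_map, eq_bot_iff, Ideal.map_le_iff_le_comap]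
    intro a ha
    rw [Ideal.mem_comap, RingHom.comp_apply, hAC a]
    have h0 : algebraMap A C a = 0 := by
      have : algebraMap A C a ∈ (𝔞 ^ k).map (algebraMap A C) := Ideal.mem_map_of_mem _ ha
      rwa [hk, Ideal.mem_bot] at this
    rw [h0, map_zero]
    exact Ideal.zero_mem _
  let q : (C ⧸ J) →ₐ[A] (A' ⊗[A] C) ⧸ J' := Ideal.quotientMapₐ J' ι Ideal.le_comap_map
  let g : B →ₐ[A] (A' ⊗[A] C) ⧸ J' := q.comp u
  let u' : A' ⊗[A] B →ₐ[A'] (A' ⊗[A] C) ⧸ J' :=
    Algebra.TensorProduct.lift (Algebra.ofId A' _) g (fun _ _ => Commute.all _ _)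
  have hu' : ∃ k : ℕ, ∀ x ∈ (bigIdeal (A' := A') 𝔞 𝔟) ^ k, u' x = 0 := by
    refine ⟨k + m, fun x hx => ?_⟩
    have h1 := Ideal.sup_pow_add_le_pow_sup_pow (n := k) (m := m) hx
    have hker1 : ((𝔞.map (algebraMap A A')).map (algebraMap A' (A' ⊗[A] B))) ^ k ≤
        RingHom.ker u'.toRingHom := by
      rw [← Ideal.map_pow, ← Ideal.map_pow, Ideal.map_map, Ideal.map_le_iff_le_comap]
      intro a ha
      rw [Ideal.mem_comap, RingHom.mem_ker, RingHom.comp_apply]
      change u' (algebraMap A' (A' ⊗[A] B) (algebraMap A A' a)) = 0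
      rw [AlgHom.commutes]
      change Ideal.Quotient.mk J' (algebraMap A' (A' ⊗[A] C) (algebraMap A A' a)) = 0
      rw [hAC a]
      have h0 : algebraMap A C a = 0 := by
        have : algebraMap A C a ∈ (𝔞 ^ k).map (algebraMap A C) := Ideal.mem_map_of_mem _ ha
        rwa [hk, Ideal.mem_bot] at this
      rw [h0, map_zero, map_zero]
    have hker2 : (𝔟.map (Algebra.TensorProduct.includeRight : B →ₐ[A] A' ⊗[A] B).toRingHom) ^ m ≤
        RingHom.ker u'.toRingHom := by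
      rw [← Ideal.map_pow, Ideal.map_le_iff_le_comap]
      intro b hb
      rw [Ideal.mem_comap, RingHom.mem_ker]
      change u' ((1 : A') ⊗ₜ[A] b) = 0
      rw [Algebra.TensorProduct.lift_tmul, map_one, one_mul]
      change q (u b) = 0
      rw [hm b hb, map_zero]
    have h2 := (sup_le hker1 hker2) h1
    exact h2
  obtain ⟨v', hv'⟩ := h' (A' ⊗[A] C) J' hJ' hbot' u' hu'
  let w : B →ₐ[A] A' ⊗[A] C :=
    (v'.restrictScalars A).comp (Algebra.TensorProduct.includeRight : B →ₐ[A] A' ⊗[A] B)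
  let ρ : A' ⊗[A] C →ₗ[A] C := (TensorProduct.lid A C).toLinearMap ∘ₗ r.rTensor C
  have hρt : ∀ (a' : A') (c : C), ρ (a' ⊗ₜ[A] c) = r a' • c := by
    intro a' c
    simp [ρ]
  have hρ1 : ∀ c : C, ρ (ι c) = c := by
    intro c
    change ρ ((1 : A') ⊗ₜ[A] c) = c
    rw [hρt, hr, one_smul]
  have hρmul : ∀ (c : C) (x : A' ⊗[A] C), ρ (ι c * x) = c * ρ x := by
    intro c x
    induction x using TensorProduct.induction_on with
    | zero => simp
    | add x y hx hy => rw [mul_add, map_add, hx, hy, map_add, mul_add]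
    | tmul a' d =>
      change ρ (((1 : A') ⊗ₜ[A] c) * (a' ⊗ₜ[A] d)) = c * ρ (a' ⊗ₜ[A] d)
      rw [Algebra.TensorProduct.tmul_mul_tmul, one_mul, hρt, hρt, mul_smul_comm]
  have hρJ : ∀ x ∈ J', ρ x ∈ J := by
    intro x hx
    have key : ∀ a : A' ⊗[A] C, ρ (a * x) ∈ J := by
      change x ∈ Ideal.span (ι.toRingHom '' (J : Set C)) at hx
      induction hx using Submodule.span_induction with
      | mem y hy =>
        obtain ⟨j, hj, rfl⟩ := hy
        intro a
        change ρ (a * ι j) ∈ J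
        rw [mul_comm, hρmul]
        exact J.mul_mem_right _ hj
      | zero => intro a; simp
      | add y z _ _ hy hz =>
        intro a
        rw [mul_add, map_add]
        exact J.add_mem (hy a) (hz a)
      | smul b y _ hy =>
        intro a
        rw [smul_eq_mul, ← mul_assoc]
        exact hy (a * b)
    have := key 1
    rwa [one_mul] at this
  have hw : ∀ b : B, ∃ c : C, Ideal.Quotient.mk J c = u b ∧ w b - ι c ∈ J' := by
    intro b
    obtain ⟨c, hc⟩ := Ideal.Quotient.mk_surjective (u b)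
    refine ⟨c, hc, ?_⟩
    rw [← Ideal.Quotient.eq_zero_iff_mem, map_sub, sub_eq_zero]
    have h1 := AlgHom.congr_fun hv' ((1 : A') ⊗ₜ[A] b)
    have h2 : u' ((1 : A') ⊗ₜ[A] b) = q (u b) := by
      rw [Algebra.TensorProduct.lift_tmul, map_one, one_mul]
      rfl
    rw [h2, ← hc] at h1
    exact h1
  have hsq : ∀ x ∈ J', ∀ y ∈ J', x * y = 0 := by
    intro x hx y hy
    have : x * y ∈ J' ^ 2 := by
      rw [pow_two]
      exact Ideal.mul_mem_mul hx hy
    rwa [hJ'sq, Ideal.mem_bot] at this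
  have hsqJ : ∀ x ∈ J, ∀ y ∈ J, x * y = 0 := by
    intro x hx y hy
    have : x * y ∈ J ^ 2 := by
      rw [pow_two]
      exact Ideal.mul_mem_mul hx hy
    rwa [hJ, Ideal.mem_bot] at this
  have hmul : ∀ b₁ b₂ : B, ρ (w (b₁ * b₂)) = ρ (w b₁) * ρ (w b₂) := by
    intro b₁ b₂
    obtain ⟨c, -, hc⟩ := hw b₁
    obtain ⟨d, -, hd⟩ := hw b₂
    have e1 : w b₁ = ι c + (w b₁ - ι c) := by ring
    have e2 : w b₂ = ι d + (w b₂ - ι d) := by ring
    set j₁ := w b₁ - ι c with hj₁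
    set j₂ := w b₂ - ι d with hj₂
    rw [map_mul, e1, e2]
    have e3 : (ι c + j₁) * (ι d + j₂) = ι (c * d) + ι c * j₂ + ι d * j₁ + j₁ * j₂ := by
      rw [map_mul]; ring
    rw [e3, hsq j₁ hc j₂ hd, add_zero, map_add, map_add, map_add, map_add, hρ1, hρ1, hρ1,
      hρmul, hρmul]
    have e4 : ρ j₁ * ρ j₂ = 0 := hsqJ _ (hρJ _ hc) _ (hρJ _ hd)
    linear_combination (-1 : C) * e4
  have hone : ρ (w 1) = 1 := by
    rw [map_one]
    change ρ ((1 : A') ⊗ₜ[A] (1 : C)) = 1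
    rw [hρt, hr, one_smul]
  let v : B →ₐ[A] C := AlgHom.ofLinearMap (ρ ∘ₗ w.toLinearMap) hone hmul
  refine ⟨v, ?_⟩
  ext b
  obtain ⟨c, hc, hj⟩ := hw b
  change Ideal.Quotient.mk J (ρ (w b)) = u b
  have e1 : w b = ι c + (w b - ι c) := by ring
  rw [e1, map_add, hρ1, map_add, hc]
  have : Ideal.Quotient.mk J (ρ (w b - ι c)) = 0 := Ideal.Quotient.eq_zero_iff_mem.mpr (hρJ _ hj)
  rw [this, add_zero]

end Groth.Agent.Lib.Helper22.FSDesc
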