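import Mathlib
import Groth.Agent.S0585
import Groth.Agent.Lib.Helper7.FiniteDescentFamily

/-!
# Formal smoothness is Zariski-local on the source (ring level), projective ring maps

Uses Raynaud–Gruson descent of projectivity (S0585).
-/

set_option autoImplicit false
set_option linter.style.haveILetI false
set_option linter.unusedSectionVars false

universe u
open TensorProduct

namespace Groth.Agent.Lib.Helper22.FSLocA


section Pi
variable {R : Type u} [CommRing R] {ι : Type u} [Fintype ι] [DecidableEq ι] (S : ι → Type u)
  [∀ i, CommRing (S i)] [∀ i, Algebra R (S i)] (M : Type u) [AddCommGroup M] [Module R M]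

/-- base change to a finite product ring is projective if every component is. -/
theorem projective_pi_tensor (h : ∀ i, Module.Projective (S i) (S i ⊗[R] M)) :
    Module.Projective (∀ i, S i) ((∀ i, S i) ⊗[R] M) := by
  classical
  let F₀ := M →₀ R
  let π : F₀ →ₗ[R] M := Finsupp.linearCombination R id
  have hπ : Function.Surjective π := Finsupp.linearCombination_id_surjective R M
  -- sections over the components
  have hsec : ∀ i, ∃ t : S i ⊗[R] M →ₗ[S i] S i ⊗[R] F₀, (π.baseChange (S i)) ∘ₗ t = LinearMap.id := by
    intro i
    haveI := h i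
    exact Module.projective_lifting_property (π.baseChange (S i)) LinearMap.id
      (LinearMap.lTensor_surjective _ hπ)
  choose t ht using hsec
  let proj : ∀ i, (∀ i, S i) ⊗[R] M →ₗ[R] S i ⊗[R] M := fun i =>
    LinearMap.rTensor M (LinearMap.proj i : (∀ i, S i) →ₗ[R] S i)
  let incl : ∀ i, S i ⊗[R] F₀ →ₗ[R] (∀ i, S i) ⊗[R] F₀ := fun i =>
    LinearMap.rTensor F₀ (LinearMap.single R S i)
  let Φ₀ : (∀ i, S i) ⊗[R] M →ₗ[R] (∀ i, S i) ⊗[R] F₀ :=
    ∑ i, (incl i) ∘ₗ ((t i).restrictScalars R) ∘ₗ (proj i)
  have hincl : ∀ (i : ι) (x : ∀ i, S i) (w : S i ⊗[R] F₀), incl i (x i • w) = x • incl i w := by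
    intro i x w
    induction w using TensorProduct.induction_on with
    | zero => simp
    | add a b ha hb => rw [smul_add, map_add, ha, hb, map_add, smul_add]
    | tmul c f =>
      simp only [incl, TensorProduct.smul_tmul', LinearMap.rTensor_tmul, smul_eq_mul]
      congr 1
      ext j
      by_cases hj : j = i
      · subst hj; simp
      · simp [hj]
  have hΦsmul : ∀ (x : ∀ i, S i) (n : (∀ i, S i) ⊗[R] M), Φ₀ (x • n) = x • Φ₀ n := by
    intro x n
    induction n using TensorProduct.induction_on with
    | zero => simp
    | add a b ha hb => rw [smul_add, map_add, ha, hb, map_add, smul_add]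
    | tmul y m =>
      simp only [Φ₀, LinearMap.sum_apply, LinearMap.comp_apply, Finset.smul_sum]
      refine Finset.sum_congr rfl fun i _ => ?_
      have h1 : proj i (x • y ⊗ₜ[R] m) = x i • proj i (y ⊗ₜ[R] m) := by
        simp only [proj, TensorProduct.smul_tmul', LinearMap.rTensor_tmul, smul_eq_mul]
        rfl
      rw [h1, LinearMap.restrictScalars_apply, map_smul, hincl]
      rfl
  let Φ : (∀ i, S i) ⊗[R] M →ₗ[∀ i, S i] (∀ i, S i) ⊗[R] F₀ :=
    { toFun := Φ₀
      map_add' := map_add Φ₀
      map_smul' := fun x n => hΦsmul x n }
  have hsplit : (π.baseChange (∀ i, S i)) ∘ₗ Φ = LinearMap.id := by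
    apply LinearMap.ext
    intro n
    induction n using TensorProduct.induction_on with
    | zero => simp
    | add a b ha hb => rw [map_add, ha, hb, map_add]
    | tmul y m =>
      change (π.baseChange (∀ i, S i)) (Φ₀ (y ⊗ₜ m)) = y ⊗ₜ m
      simp only [Φ₀, LinearMap.sum_apply, LinearMap.comp_apply, map_sum]
      have h2 : ∀ i (w : S i ⊗[R] F₀), (π.baseChange (∀ i, S i)) (incl i w) =
          LinearMap.rTensor M (LinearMap.single R S i) ((π.baseChange (S i)) w) := by
        intro i w
        induction w using TensorProduct.induction_on with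
        | zero => simp
        | add a b ha hb => simp only [map_add, ha, hb]
        | tmul c f => simp [incl]
      have h3 : ∀ i, (π.baseChange (S i)) ((t i) (proj i (y ⊗ₜ[R] m))) = proj i (y ⊗ₜ[R] m) :=
        fun i => LinearMap.congr_fun (ht i) _
      simp only [LinearMap.restrictScalars_apply, h2, h3]
      simp only [proj, LinearMap.rTensor_tmul, LinearMap.proj_apply, LinearMap.coe_single]
      rw [← TensorProduct.sum_tmul, Finset.univ_sum_single]
  exact Module.Projective.of_split Φ (π.baseChange (∀ i, S i)) hsplit

end Pi

theorem faithfullyFlat_pi_away {R : Type u} [CommRing R] (s : Finset R)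
    (hs : Ideal.span (s : Set R) = ⊤) :
    Module.FaithfullyFlat R (∀ i : {r : R // r ∈ s}, Localization.Away i.1) := by
  apply Groth.Agent.Lib.Helper7.FiniteDescentFamily.faithfullyFlat_pi
    (fun i : {r : R // r ∈ s} => Localization.Away i.1)
  intro m hm
  have : ∃ r ∈ s, r ∉ m := by
    by_contra hcon
    push Not at hcon
    have : Ideal.span (s : Set R) ≤ m := Ideal.span_le.mpr fun r hr => hcon r hr
    rw [hs] at this
    exact hm.ne_top (top_le_iff.mp this)
  obtain ⟨r, hr, hrm⟩ := this
  refine ⟨⟨r, hr⟩, ?_⟩
  haveI := hm.isPrime
  change Ideal.map (algebraMap R (Localization.Away r)) m ≠ ⊤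
  rw [IsLocalization.map_algebraMap_ne_top_iff_disjoint (Submonoid.powers r)]
  rw [Set.disjoint_left]
  rintro x ⟨n, rfl⟩ hx
  exact hrm (Ideal.IsPrime.mem_of_pow_mem inferInstance n hx)

/-- projectivity is local for the Zariski topology (via Raynaud–Gruson descent, S0585). -/
theorem projective_of_span_away {R : Type u} [CommRing R] (M : Type u) [AddCommGroup M]
    [Module R M] (s : Finset R) (hs : Ideal.span (s : Set R) = ⊤)
    (h : ∀ r ∈ s, Module.Projective (Localization.Away r) (Localization.Away r ⊗[R] M)) :
    Module.Projective R M := by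
  classical
  haveI := faithfullyFlat_pi_away s hs
  haveI : Module.Projective (∀ i : {r : R // r ∈ s}, Localization.Away i.1)
      ((∀ i : {r : R // r ∈ s}, Localization.Away i.1) ⊗[R] M) :=
    projective_pi_tensor (fun i : {r : R // r ∈ s} => Localization.Away i.1) M fun i => h i.1 i.2
  exact Groth.Agent.S0585.result R (∀ i : {r : R // r ∈ s}, Localization.Away i.1) M

theorem subsingleton_of_span_away {R : Type u} [CommRing R] (M : Type u) [AddCommGroup M]
    [Module R M] (s : Finset R) (hs : Ideal.span (s : Set R) = ⊤)
    (h : ∀ r ∈ s, Subsingleton (Localization.Away r ⊗[R] M)) : Subsingleton M := by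
  classical
  haveI := faithfullyFlat_pi_away s hs
  haveI : ∀ i : {r : R // r ∈ s}, Subsingleton (M ⊗[R] Localization.Away i.1) := fun i =>
    haveI := h i.1 i.2
    (TensorProduct.comm R M (Localization.Away i.1)).toEquiv.injective.subsingleton
  have e := TensorProduct.piRight R R M (fun i : {r : R // r ∈ s} => Localization.Away i.1)
  haveI : Subsingleton (M ⊗[R] (∀ i : {r : R // r ∈ s}, Localization.Away i.1)) :=
    e.toEquiv.injective.subsingleton
  exact Module.FaithfullyFlat.rTensor_reflects_triviality R
    (∀ i : {r : R // r ∈ s}, Localization.Away i.1) M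

/-- formal smoothness is local on the source. -/
theorem formallySmooth_of_span_away {R S : Type u} [CommRing R] [CommRing S] [Algebra R S]
    (s : Finset S) (hs : Ideal.span (s : Set S) = ⊤)
    (h : ∀ r ∈ s, Algebra.FormallySmooth R (Localization.Away r)) :
    Algebra.FormallySmooth R S := by
  rw [Algebra.formallySmooth_iff]
  constructor
  · apply projective_of_span_away (R := S) Ω[S⁄R] s hs
    intro r hr
    haveI := h r hr
    haveI : Algebra.FormallyEtale S (Localization.Away r) :=
      Algebra.FormallyEtale.of_isLocalization (Submonoid.powers r)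
    exact Module.Projective.of_equiv
      (KaehlerDifferential.tensorKaehlerEquivOfFormallyEtale R S (Localization.Away r)).symm
  · apply subsingleton_of_span_away (R := S) (Algebra.H1Cotangent R S) s hs
    intro r hr
    haveI := h r hr
    exact (Algebra.tensorH1CotangentOfIsLocalization R (Localization.Away r)
      (Submonoid.powers r)).toEquiv.injective.subsingleton

theorem formallySmooth_ofLocalizationSpanTarget :
    RingHom.OfLocalizationSpanTarget.{u} @RingHom.FormallySmooth := by
  rw [RingHom.ofLocalizationSpanTarget_iff_finite]
  introv R hs hf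
  algebraize [f]
  apply formallySmooth_of_span_away s hs
  intro r hr
  have := hf ⟨r, hr⟩
  rw [← RingHom.formallySmooth_algebraMap]
  convert this using 1
  exact IsScalarTower.algebraMap_eq R S (Localization.Away r)

theorem formallySmooth_propertyIsLocal : RingHom.PropertyIsLocal.{u} @RingHom.FormallySmooth where
  localizationAwayPreserves := RingHom.FormallySmooth.localizationPreserves.away
  ofLocalizationSpanTarget := formallySmooth_ofLocalizationSpanTarget
  ofLocalizationSpan := formallySmooth_ofLocalizationSpanTarget.ofLocalizationSpan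
    (RingHom.FormallySmooth.stableUnderComposition.stableUnderCompositionWithLocalizationAway
      RingHom.FormallySmooth.holdsForLocalizationAway).left
  StableUnderCompositionWithLocalizationAwayTarget :=
    (RingHom.FormallySmooth.stableUnderComposition.stableUnderCompositionWithLocalizationAway
      RingHom.FormallySmooth.holdsForLocalizationAway).right

/-- a ring homomorphism making the target a projective module. -/
def ProjHom {R S : Type u} [CommRing R] [CommRing S] (f : R →+* S) : Prop :=
  letI : Algebra R S := f.toAlgebra
  Module.Projective R S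

theorem projHom_algebraMap_iff {R S : Type u} [CommRing R] [CommRing S] [Algebra R S] :
    ProjHom (algebraMap R S) ↔ Module.Projective R S := by
  rw [ProjHom, toAlgebra_algebraMap]

theorem projHom_respectsIso : RingHom.RespectsIso.{u} @ProjHom := by
  constructor
  · intro R S T _ _ _ f e hf
    letI : Algebra R S := f.toAlgebra
    letI : Algebra R T := (e.toRingHom.comp f).toAlgebra
    haveI : Module.Projective R S := hf
    let e' : S ≃ₗ[R] T :=
      { e with
        map_smul' := fun r x => by
          simp only [Algebra.smul_def, RingHom.id_apply]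
          change e (f r * x) = e (f r) * e x
          exact map_mul e _ _ }
    change Module.Projective R T
    exact Module.Projective.of_equiv e'
  · intro R S T _ _ _ f e hf
    letI : Algebra S T := f.toAlgebra
    letI : Algebra R T := (f.comp e.toRingHom).toAlgebra
    haveI : Module.Projective S T := hf
    haveI : RingHomInvPair (e.symm : S →+* R) (e : R →+* S) := RingHomInvPair.of_ringEquiv_symm e
    haveI : RingHomInvPair (e : R →+* S) (e.symm : S →+* R) := RingHomInvPair.of_ringEquiv e
    let e' : T ≃ₛₗ[(e.symm : S →+* R)] T :=
      { AddEquiv.refl T with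
        map_smul' := fun s x => by
          simp only [Algebra.smul_def]
          change f s * x = f (e (e.symm s)) * x
          rw [e.apply_symm_apply] }
    change Module.Projective R T
    exact Module.Projective.of_equiv e'

theorem projHom_isStableUnderBaseChange : RingHom.IsStableUnderBaseChange.{u} @ProjHom := by
  apply RingHom.IsStableUnderBaseChange.mk projHom_respectsIso
  introv h
  rw [projHom_algebraMap_iff] at h ⊢
  infer_instance

theorem projHom_localizationAwayPreserves : RingHom.LocalizationAwayPreserves.{u} @ProjHom :=
  projHom_isStableUnderBaseChange.localizationPreserves.away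

theorem projHom_ofLocalizationSpan : RingHom.OfLocalizationSpan.{u} @ProjHom := by
  rw [RingHom.ofLocalizationSpan_iff_finite]
  intro R S _ _ f s hs h
  letI : Algebra R S := f.toAlgebra
  change Module.Projective R S
  apply projective_of_span_away S s hs
  intro r hr
  have h1 := h ⟨r, hr⟩
  letI alg : Algebra (Localization.Away r) (Localization.Away (f r)) :=
    (Localization.awayMap f r).toAlgebra
  haveI : Module.Projective (Localization.Away r) (Localization.Away (f r)) := h1
  haveI : IsScalarTower R (Localization.Away r) (Localization.Away (f r)) := by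
    apply IsScalarTower.of_algebraMap_eq
    intro x
    change _ = Localization.awayMap f r (algebraMap R (Localization.Away r) x)
    rw [Localization.awayMap, IsLocalization.Away.map, IsLocalization.map_eq]
    exact IsScalarTower.algebraMap_apply R S (Localization.Away (f r)) x
  haveI : IsLocalization (Algebra.algebraMapSubmonoid S (Submonoid.powers r))
      (Localization.Away (f r)) := by
    have : Algebra.algebraMapSubmonoid S (Submonoid.powers r) = Submonoid.powers (f r) := by
      rw [Algebra.algebraMapSubmonoid, Submonoid.map_powers]
      rfl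
    rw [this]
    infer_instance
  haveI : IsLocalizedModule (Submonoid.powers r)
      (IsScalarTower.toAlgHom R S (Localization.Away (f r))).toLinearMap :=
    isLocalizedModule_iff_isLocalization.mpr inferInstance
  have hbc := IsLocalizedModule.isBaseChange (Submonoid.powers r) (Localization.Away r)
    (IsScalarTower.toAlgHom R S (Localization.Away (f r))).toLinearMap
  exact Module.Projective.of_equiv hbc.equiv.symm

section CotProj
variable {R B : Type u} [CommRing R] [CommRing B] [Algebra R B]

open KaehlerDifferential

/-- for a formally smooth algebra with a retraction, the first infinitesimal neighbourhood of the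
section is a projective module over the base -/
theorem projective_quot_sq [Algebra.FormallySmooth R B] (ε : B →ₐ[R] R) :
    Module.Projective R (B ⧸ RingHom.ker ε.toRingHom ^ 2) := by
  letI : Algebra B R := ε.toRingHom.toAlgebra
  haveI : IsScalarTower R B R := IsScalarTower.of_algebraMap_eq (fun r => (ε.commutes r).symm)
  have hsurj : Function.Surjective (algebraMap B R) := fun r => ⟨algebraMap R B r, ε.commutes r⟩
  set K : Ideal B := RingHom.ker (algebraMap B R) with hK
  have hKε : RingHom.ker ε.toRingHom = K := rfl
  rw [hKε]
  obtain ⟨l, hl⟩ := (Algebra.FormallySmooth.iff_split_injection (R := R) (P := B) (A := R)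
    hsurj).mp inferInstance
  haveI : Module.Projective B Ω[B⁄R] := inferInstance
  haveI : Module.Projective R (R ⊗[B] Ω[B⁄R]) := inferInstance
  let lR : R ⊗[B] Ω[B⁄R] →ₗ[R] K.Cotangent := l.restrictScalars R
  let kR : K.Cotangent →ₗ[R] R ⊗[B] Ω[B⁄R] := (kerCotangentToTensor R B R).restrictScalars R
  have hlk : lR ∘ₗ kR = LinearMap.id := by
    refine LinearMap.ext fun x => ?_
    exact congrArg (fun f => f x) hl
  haveI : Module.Projective R K.Cotangent := Module.Projective.of_split kR lR hlk
  let P' := B ⧸ K ^ 2
  let εb : P' →ₐ[R] R := ε.kerSquareLift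
  let dq : P' →ₗ[R] R ⊗[B] Ω[B⁄R] := (derivationQuotKerSq R B R).toLinearMap
  let cq : K.Cotangent →ₗ[R] P' := K.cotangentToQuotientSquare.restrictScalars R
  let i : P' →ₗ[R] R × K.Cotangent := εb.toLinearMap.prod (lR ∘ₗ dq)
  let s : R × K.Cotangent →ₗ[R] P' := (Algebra.linearMap R P').coprod cq
  have hsi : s ∘ₗ i = LinearMap.id := by
    refine LinearMap.ext fun x => ?_
    obtain ⟨b, rfl⟩ := Ideal.Quotient.mk_surjective x
    have hk : b - algebraMap R B (ε b) ∈ K := by
      rw [hK, RingHom.mem_ker, map_sub]
      change ε b - ε (algebraMap R B (ε b)) = 0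
      rw [ε.commutes]
      exact sub_self _
    have h1 : dq (Ideal.Quotient.mk (K ^ 2) b) = kR (K.toCotangent ⟨_, hk⟩) := by
      change (1 : R) ⊗ₜ[B] D R B b = kerCotangentToTensor R B R (K.toCotangent ⟨_, hk⟩)
      rw [kerCotangentToTensor_toCotangent, map_sub, Derivation.map_algebraMap, sub_zero]
    have h2 : lR (dq (Ideal.Quotient.mk (K ^ 2) b)) = K.toCotangent ⟨_, hk⟩ := by
      rw [h1]
      exact LinearMap.congr_fun hlk _
    change algebraMap R P' (ε b) + cq (lR (dq (Ideal.Quotient.mk (K ^ 2) b))) = _
    rw [h2]
    change algebraMap R P' (ε b) + K.cotangentToQuotientSquare (K.toCotangent ⟨_, hk⟩) = _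
    rw [Ideal.toCotangent_to_quotient_square]
    change Ideal.Quotient.mk (K ^ 2) (algebraMap R B (ε b)) +
      Ideal.Quotient.mk (K ^ 2) (b - algebraMap R B (ε b)) = Ideal.Quotient.mk (K ^ 2) b
    rw [← map_add]
    congr 1
    ring
  exact Module.Projective.of_split i s hsi

end CotProj

end Groth.Agent.Lib.Helper22.FSLocA
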