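import Mathlib
import Groth.Prelude.Def_Omega3
import Groth.Agent.S9731
import Groth.Agent.S9733
import Groth.Agent.Lib.Helper15.SmoothNilLift
import Groth.Agent.Lib.Helper15.SmoothSecSch
import Groth.Agent.Lib.Helper15.SmoothSecRing
import Groth.Agent.Lib.Helper15.SmoothSecGL
import Groth.Agent.Lib.Helper22.FSLocA

/-!
# Global lifting of sections for affine-locally formally smooth morphisms

Generalises helper15's `SmoothSecGL.exists_section` (smooth case) using Raynaud–Gruson descent of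
projectivity (`FSLocA`).
-/

set_option autoImplicit false
set_option linter.style.haveILetI false
set_option linter.unusedSectionVars false
set_option backward.isDefEq.respectTransparency.types false
universe u
open CategoryTheory CategoryTheory.Limits AlgebraicGeometry Opposite TopologicalSpace TensorProduct

namespace Groth.Agent.Lib.Helper22.FSLocB
open Groth.Agent.Lib.Helper22.FSLocA
open Groth.Agent.Lib.Helper15.UnivThick Groth.Agent.Lib.Helper15.UnivThickAffine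
open Groth.Agent.Lib.Helper15.SmoothSecSch Groth.Agent.Lib.Helper15.SmoothSecRing
open Groth.Agent.Lib.Helper15.SmoothNilLift

/-- affine-locally formally smooth morphisms of schemes. -/
@[mk_iff]
class FSLoc {X Y : Scheme.{u}} (f : X ⟶ Y) : Prop where
  formallySmooth_appLE (f) :
    ∀ {U : Y.Opens} (_ : IsAffineOpen U) {V : X.Opens} (_ : IsAffineOpen V) (e : V ≤ f ⁻¹ᵁ U),
      (f.appLE U V e).hom.FormallySmooth

instance : HasRingHomProperty @FSLoc RingHom.FormallySmooth where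
  isLocal_ringHomProperty := formallySmooth_propertyIsLocal
  eq_affineLocally' := by
    ext X Y f
    rw [fSLoc_iff, affineLocally_iff_forall_isAffineOpen]

instance : MorphismProperty.IsStableUnderBaseChange @FSLoc :=
  HasRingHomProperty.isStableUnderBaseChange RingHom.FormallySmooth.isStableUnderBaseChange

/-- affine morphisms whose coordinate rings are projective modules over the base. -/
@[mk_iff]
class IsProjMor {X Y : Scheme.{u}} (f : X ⟶ Y) : Prop extends IsAffineHom f where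
  proj_app (f) (U : Y.Opens) (hU : IsAffineOpen U) : ProjHom (f.app U).hom

instance : HasAffineProperty @IsProjMor
    (fun X _ f _ ↦ IsAffine X ∧ ProjHom (f.appTop).hom) := by
  change HasAffineProperty @IsProjMor (affineAnd @ProjHom)
  rw [HasAffineProperty.affineAnd_iff _ projHom_respectsIso
    projHom_localizationAwayPreserves projHom_ofLocalizationSpan]
  simp [isProjMor_iff]

theorem isProjMor_SpecMap_iff {R S : CommRingCat.{u}} (ψ : R ⟶ S) :
    IsProjMor (Spec.map ψ) ↔ ProjHom ψ.hom :=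
  HasAffineProperty.SpecMap_iff_of_affineAnd (P := @IsProjMor) inferInstance projHom_respectsIso ψ

instance : IsZariskiLocalAtTarget @IsProjMor := inferInstance

instance : MorphismProperty.RespectsIso @IsProjMor := inferInstance


/-- ring-hom form of lifting for formally smooth maps along nilpotent kernels -/
theorem exists_ringHom_lift' {R B C C₀ : Type u} [CommRing R] [CommRing B] [CommRing C]
    [CommRing C₀]
    (ρ : R →+* B) (hρ : ρ.FormallySmooth) (γ : R →+* C) (π : C →+* C₀)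
    (hπ : Function.Surjective π)
    (hnil : IsNilpotent (RingHom.ker π)) (α₀ : B →+* C₀) (hcomm : α₀.comp ρ = π.comp γ) :
    ∃ ψ : B →+* C, ψ.comp ρ = γ ∧ π.comp ψ = α₀ := by
  letI := ρ.toAlgebra
  letI := γ.toAlgebra
  have hsm : Algebra.FormallySmooth R B := hρ
  let e : C ⧸ RingHom.ker π ≃+* C₀ := RingHom.quotientKerEquivOfSurjective hπ
  have he : ∀ c : C, e (Ideal.Quotient.mk _ c) = π c := fun c =>
    RingHom.quotientKerEquivOfSurjective_apply_mk hπ c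
  let φ : B →ₐ[R] C ⧸ RingHom.ker π :=
    { toRingHom := e.symm.toRingHom.comp α₀
      commutes' := fun r => by
        change e.symm (α₀ (ρ r)) = Ideal.Quotient.mk _ (γ r)
        rw [RingEquiv.symm_apply_eq, he]
        exact congrArg (fun f => f r) hcomm }
  refine ⟨(Algebra.FormallySmooth.lift (RingHom.ker π) hnil φ).toRingHom, ?_, ?_⟩
  · ext r
    exact (Algebra.FormallySmooth.lift (RingHom.ker π) hnil φ).commutes r
  · ext b
    have h1 : Ideal.Quotient.mk _ (Algebra.FormallySmooth.lift (RingHom.ker π) hnil φ b) = φ b :=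
      Algebra.FormallySmooth.mk_lift _ hnil φ b
    change Ideal.Quotient.mk _ _ = e.symm (α₀ b) at h1
    rw [RingEquiv.eq_symm_apply, he] at h1
    exact h1

/-- the kernel of restriction along a first order thickening has square zero on affine opens -/
theorem ker_app_sq {V₀ V : Scheme.{u}} (j : V₀ ⟶ V) [QuasiCompact j] (hj : j.ker * j.ker = ⊥) (V' : V.Opens)
    (hV' : IsAffineOpen V') : RingHom.ker (j.app V').hom ^ 2 = ⊥ := by
  have h1 : j.ker.ideal ⟨V', hV'⟩ = RingHom.ker (j.app V').hom := Scheme.Hom.ker_apply j ⟨V', hV'⟩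
  have h2 : (j.ker * j.ker).ideal ⟨V', hV'⟩ = j.ker.ideal ⟨V', hV'⟩ * j.ker.ideal ⟨V', hV'⟩ := by
    rw [Scheme.IdealSheafData.ideal_mul, Pi.mul_apply]
  rw [hj, Scheme.IdealSheafData.ideal_bot, Pi.bot_apply, h1] at h2
  rw [pow_two, ← h2]

/-- Zariski-local lifting for affine-locally formally smooth morphisms along a first order
thickening -/
theorem exists_local_lift' {U W V V₀ : Scheme.{u}} (g : U ⟶ W) [FSLoc g] (j : V₀ ⟶ V)
    (hj : MoreMor.IsFirstOrderThickening j) (α : V₀ ⟶ U) (β : V ⟶ W) (w : α ≫ g = j ≫ β)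
    (v : V) :
    ∃ (V' : V.Opens) (ℓ : V'.toScheme ⟶ U), v ∈ V' ∧ ℓ ≫ g = V'.ι ≫ β ∧
      (j ∣_ V') ≫ ℓ = (j ⁻¹ᵁ V').ι ≫ α := by
  haveI : IsClosedImmersion j := hj.1.1
  haveI : Surjective j := hj.1.2
  obtain ⟨v₀, rfl⟩ := j.surjective v
  obtain ⟨W₁, hW₁, hvW₁⟩ : ∃ W₁ : W.Opens, IsAffineOpen W₁ ∧ β (j v₀) ∈ W₁ := by
    obtain ⟨_, ⟨O, hO, rfl⟩, hz, -⟩ := W.isBasis_affineOpens.exists_subset_of_mem_open
      (Set.mem_univ (β (j v₀))) isOpen_univ
    exact ⟨O, hO, hz⟩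
  have hv₀ : α v₀ ∈ g ⁻¹ᵁ W₁ := by
    change g (α v₀) ∈ W₁
    rw [← Scheme.Hom.comp_apply, w, Scheme.Hom.comp_apply]
    exact hvW₁
  obtain ⟨U₁, hU₁, hvU₁, e₁⟩ : ∃ U₁ : U.Opens, IsAffineOpen U₁ ∧ α v₀ ∈ U₁ ∧ U₁ ≤ g ⁻¹ᵁ W₁ := by
    obtain ⟨_, ⟨O, hO, rfl⟩, hz, hle⟩ := U.isBasis_affineOpens.exists_subset_of_mem_open
      hv₀ (g ⁻¹ᵁ W₁).2
    exact ⟨O, hO, hz, hle⟩
  obtain ⟨O, hO⟩ := Groth.Agent.Lib.Helper15.UnivThick.exists_opens_preimage_eq j ⟨inferInstance, inferInstance⟩ (α ⁻¹ᵁ U₁)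
  have hvO : j v₀ ∈ O ⊓ β ⁻¹ᵁ W₁ := by
    refine ⟨?_, hvW₁⟩
    have : v₀ ∈ j ⁻¹ᵁ O := by rw [hO]; exact hvU₁
    exact this
  obtain ⟨V', hV', hvV', hle⟩ : ∃ V' : V.Opens, IsAffineOpen V' ∧ j v₀ ∈ V' ∧
      V' ≤ O ⊓ β ⁻¹ᵁ W₁ := by
    obtain ⟨_, ⟨V', hV', rfl⟩, hz, hle⟩ := V.isBasis_affineOpens.exists_subset_of_mem_open
      hvO (O ⊓ β ⁻¹ᵁ W₁).2
    exact ⟨V', hV', hz, hle⟩
  have e₂ : V' ≤ β ⁻¹ᵁ W₁ := hle.trans inf_le_right
  have e₃ : j ⁻¹ᵁ V' ≤ α ⁻¹ᵁ U₁ := by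
    rw [← hO]
    intro x hx
    exact (hle hx).1
  have hV₀ : IsAffineOpen (j ⁻¹ᵁ V') := hV'.preimage j
  have hsm : (g.appLE W₁ U₁ e₁).hom.FormallySmooth :=
    FSLoc.formallySmooth_appLE g hW₁ hU₁ e₁
  have hcomm : g.appLE W₁ U₁ e₁ ≫ α.appLE U₁ (j ⁻¹ᵁ V') e₃ = β.appLE W₁ V' e₂ ≫ j.app V' := by
    rw [Scheme.Hom.appLE_comp_appLE, Scheme.Hom.app_eq_appLE, Scheme.Hom.appLE_comp_appLE]
    simp only [w]
  obtain ⟨ψ, hψ1, hψ2⟩ := exists_ringHom_lift' (g.appLE W₁ U₁ e₁).hom hsm (β.appLE W₁ V' e₂).hom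
    (j.app V').hom (j.app_surjective V' hV') ⟨2, ker_app_sq j hj.2 V' hV'⟩
    (α.appLE U₁ (j ⁻¹ᵁ V') e₃).hom
    (by rw [← CommRingCat.hom_comp, ← CommRingCat.hom_comp, hcomm])
  refine ⟨V', hV'.isoSpec.hom ≫ Spec.map (CommRingCat.ofHom ψ) ≫ hU₁.fromSpec, hvV', ?_, ?_⟩
  · rw [Category.assoc, Category.assoc, ← IsAffineOpen.SpecMap_appLE_fromSpec g hW₁ hU₁ e₁,
      ← Spec.map_comp_assoc]
    have : g.appLE W₁ U₁ e₁ ≫ CommRingCat.ofHom ψ = β.appLE W₁ V' e₂ := by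
      ext1
      rw [CommRingCat.hom_comp, CommRingCat.hom_ofHom, hψ1]
    rw [this, IsAffineOpen.SpecMap_appLE_fromSpec β hW₁ hV' e₂, ← Category.assoc,
      IsAffineOpen.isoSpec_hom_fromSpec]
  · rw [← Category.assoc, morphismRestrict_isoSpec j V' hV' hV₀, Category.assoc,
      ← Spec.map_comp_assoc]
    have : CommRingCat.ofHom ψ ≫ j.app V' = α.appLE U₁ (j ⁻¹ᵁ V') e₃ := by
      ext1
      rw [CommRingCat.hom_comp, CommRingCat.hom_ofHom, hψ2]
    rw [this, IsAffineOpen.SpecMap_appLE_fromSpec α hU₁ hV₀ e₃, ← Category.assoc,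
      IsAffineOpen.isoSpec_hom_fromSpec]


section LocalModel
variable {B₀ Pb Zb : Scheme.{u}} (pb : Pb ⟶ B₀) [FSLoc pb] (sb : B₀ ⟶ Pb) (hs : sb ≫ pb = 𝟙 B₀)
  (ib : B₀ ⟶ Zb) (hb : Zb ⟶ Pb) (hu : OmegaSh.IsUnivThickening sb ib hb)

include hs hu in
theorem exists_local_model' (b : B₀) :
    ∃ (V : B₀.Opens) (R S' : CommRingCat.{u}) (ψ : R ⟶ S') (w : Spec S' ⟶ Zb)
      (eV : Spec R ≅ V.toScheme), b ∈ V ∧ IsPullback w (Spec.map ψ ≫ eV.hom) (hb ≫ pb) V.ι ∧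
        ProjHom ψ.hom := by
  -- affine opens
  obtain ⟨V₁, hV₁, hbV₁, -⟩ : ∃ V₁ : B₀.Opens, IsAffineOpen V₁ ∧ b ∈ V₁ ∧ V₁ ≤ ⊤ := by
    obtain ⟨_, ⟨V, hV, rfl⟩, hz, hle⟩ := B₀.isBasis_affineOpens.exists_subset_of_mem_open
      (show b ∈ ((⊤ : B₀.Opens) : Set B₀) from trivial) (⊤ : B₀.Opens).2
    exact ⟨V, hV, hz, hle⟩
  have hpsb : pb (sb b) = b := by
    rw [← Scheme.Hom.comp_apply, hs]; rfl
  obtain ⟨U₁, hU₁, hbU₁, e₁⟩ : ∃ U₁ : Pb.Opens, IsAffineOpen U₁ ∧ sb b ∈ U₁ ∧ U₁ ≤ pb ⁻¹ᵁ V₁ := by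
    have hmem : sb b ∈ ((pb ⁻¹ᵁ V₁ : Pb.Opens) : Set Pb) := by
      change pb (sb b) ∈ V₁
      rw [hpsb]; exact hbV₁
    obtain ⟨_, ⟨U, hU, rfl⟩, hz, hle⟩ := Pb.isBasis_affineOpens.exists_subset_of_mem_open
      hmem (pb ⁻¹ᵁ V₁).2
    exact ⟨U, hU, hz, hle⟩
  have hb2 : b ∈ sb ⁻¹ᵁ U₁ ⊓ V₁ := ⟨hbU₁, hbV₁⟩
  obtain ⟨g, hgle, hbg⟩ := hV₁.exists_basicOpen_le (V := sb ⁻¹ᵁ U₁ ⊓ V₁) ⟨b, hb2⟩ hbV₁
  set V : B₀.Opens := B₀.basicOpen g with hVdef
  have hV : IsAffineOpen V := hV₁.basicOpen g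
  set U : Pb.Opens := Pb.basicOpen (pb.appLE V₁ U₁ e₁ g) with hUdef
  have hU : IsAffineOpen U := hU₁.basicOpen _
  have hUeq : U = U₁ ⊓ pb ⁻¹ᵁ V := Scheme.basicOpen_appLE pb U₁ V₁ e₁ g
  have eUV : U ≤ pb ⁻¹ᵁ V := by rw [hUeq]; exact inf_le_right
  have eVU : V ≤ sb ⁻¹ᵁ U := by
    intro v hv
    change sb v ∈ U
    rw [hUeq]
    refine ⟨(hgle hv).1, ?_⟩
    change pb (sb v) ∈ V
    rw [← Scheme.Hom.comp_apply, hs]
    exact hv
  -- ring data
  let φ : Γ(B₀, V) ⟶ Γ(Pb, U) := pb.appLE V U eUV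
  let ε : Γ(Pb, U) ⟶ Γ(B₀, V) := sb.appLE U V eVU
  have hφε : φ ≫ ε = 𝟙 _ := by
    rw [Scheme.Hom.appLE_comp_appLE]
    exact id_appLE' _ hs V _
  have hsm : RingHom.FormallySmooth φ.hom :=
    FSLoc.formallySmooth_appLE pb hV hU eUV
  letI : Algebra Γ(B₀, V) Γ(Pb, U) := φ.hom.toAlgebra
  haveI : Algebra.FormallySmooth Γ(B₀, V) Γ(Pb, U) := hsm
  let εa : Γ(Pb, U) →ₐ[Γ(B₀, V)] Γ(B₀, V) :=
    { ε.hom with
      commutes' := fun r => by
        have := congrArg (fun f => f.hom r) hφε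
        exact this }
  set K : Ideal Γ(Pb, U) := RingHom.ker εa.toRingHom with hK
  let S' := Γ(Pb, U) ⧸ K ^ 2
  let ρ : Γ(Pb, U) →+* S' := Ideal.Quotient.mk (K ^ 2)
  let π : S' →+* Γ(B₀, V) := εa.kerSquareLift.toRingHom
  have hπρ : π.comp ρ = (sb.appLE U V eVU).hom := by
    ext x
    rfl
  have hεsurj : Function.Surjective ε.hom := fun r =>
    ⟨φ.hom r, congrArg (fun f => f.hom r) hφε⟩
  have hπsurj : Function.Surjective π := fun r => by
    obtain ⟨x, hx⟩ := hεsurj r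
    exact ⟨ρ x, hx⟩
  have hπker : RingHom.ker π ^ 2 = ⊥ := by
    have : RingHom.ker π = K.cotangentIdeal := εa.ker_kerSquareLift
    rw [this, Ideal.cotangentIdeal_square]
  have huniv : ∀ (A : Type u) [CommRing A] (I : Ideal A), I ^ 2 = ⊥ →
      ∀ (β : Γ(Pb, U) →+* A) (α : Γ(B₀, V) →+* A ⧸ I),
        α.comp (sb.appLE U V eVU).hom = (Ideal.Quotient.mk I).comp β →
        ∃! γ : S' →+* A, γ.comp ρ = β ∧ (Ideal.Quotient.mk I).comp γ = α.comp π := by
    intro A _ I hI β α hαβ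
    have hβK : ∀ k ∈ K, β k ∈ I := by
      intro k hk
      rw [← Ideal.Quotient.eq_zero_iff_mem]
      have := congrArg (fun f => f k) hαβ
      simp only [RingHom.coe_comp, Function.comp_apply] at this
      rw [← this]
      have hk' : ε.hom k = 0 := hk
      rw [hk', map_zero]
    have hK2 : ∀ x ∈ K ^ 2, β x = 0 := by
      intro x hx
      have : β x ∈ I ^ 2 := by
        have h1 : (K ^ 2).map β ≤ I ^ 2 := by
          rw [Ideal.map_pow]
          exact Ideal.pow_right_mono (Ideal.map_le_iff_le_comap.2 hβK) 2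
        exact h1 (Ideal.mem_map_of_mem β hx)
      rw [hI] at this
      exact this
    refine ⟨Ideal.Quotient.lift (K ^ 2) β hK2, ⟨?_, ?_⟩, ?_⟩
    · ext x; rfl
    · apply Ideal.Quotient.ringHom_ext
      ext x
      have := congrArg (fun f => f x) hαβ
      exact this.symm
    · rintro γ' ⟨h1, -⟩
      apply Ideal.Quotient.ringHom_ext
      rw [h1]
      ext x; rfl
  have hu₁ := isUnivThickening_of_ring sb hU hV eVU S' ρ π hπρ hπsurj hπker huniv
  obtain ⟨V', i₀, hV', hi₀, hu₂⟩ := exists_isUnivThickening_of_openImmersion sb ib hb hu V.ι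
  obtain ⟨t, ⟨ht1, ht2⟩, -⟩ := hu₂.2.2 _ _ _ _ (𝟙 _) hu₁.1 (by rw [hu₁.2.1, Category.id_comp])
  rw [Category.id_comp] at ht1
  haveI : IsIso t := isIso_of_isUnivThickening _ _ _ hu₁ _ _ hu₂ t ht1 ht2
  -- the open `V'` is the preimage of `V`
  have hibr : ib ≫ hb ≫ pb = 𝟙 B₀ := by rw [← Category.assoc, hu.2.1, hs]
  have hV'eq : (hb ≫ pb) ⁻¹ᵁ V = V' := by
    ext x
    obtain ⟨b', rfl⟩ := hu.1.1.2.surj x
    have h1 : (hb ≫ pb) (ib b') = b' := by
      rw [← Scheme.Hom.comp_apply, hibr]; rfl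
    have h2 : ib b' ∈ V' ↔ b' ∈ V := by
      have : b' ∈ ib ⁻¹ᵁ V' ↔ b' ∈ V := by rw [hV', Scheme.Opens.opensRange_ι]
      exact this
    change (hb ≫ pb) (ib b') ∈ V ↔ ib b' ∈ V'
    rw [h1, h2]
  let ψ : Γ(B₀, V) ⟶ CommRingCat.of S' := φ ≫ CommRingCat.ofHom ρ
  let w : Spec (CommRingCat.of S') ⟶ Zb := t ≫ V'.ι
  have hcomm : w ≫ (hb ≫ pb) = (Spec.map ψ ≫ hV.isoSpec.inv) ≫ V.ι := by
    change (t ≫ V'.ι) ≫ (hb ≫ pb) = _
    rw [Category.assoc, ← Category.assoc V'.ι, ← Category.assoc t, ht2, Category.assoc,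
      Category.assoc, IsAffineOpen.isoSpec_inv_ι, Spec.map_comp, Category.assoc,
      IsAffineOpen.SpecMap_appLE_fromSpec pb hV hU eUV]
  have hrange : (hb ≫ pb) ⁻¹ᵁ V.ι.opensRange = w.opensRange := by
    rw [Scheme.Opens.opensRange_ι, hV'eq]
    change _ = (t ≫ V'.ι).opensRange
    rw [Scheme.Hom.opensRange_comp_of_isIso, Scheme.Opens.opensRange_ι]
  have hpb : IsPullback (Spec.map ψ ≫ hV.isoSpec.inv) w V.ι (hb ≫ pb) :=
    IsOpenImmersion.isPullback _ _ _ _ hcomm hrange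
  have h1 : ProjHom (algebraMap Γ(B₀, V) (Γ(Pb, U) ⧸ K ^ 2)) :=
    projHom_algebraMap_iff.mpr (projective_quot_sq εa)
  exact ⟨V, Γ(B₀, V), CommRingCat.of S', ψ, w, hV.isoSpec.symm, hbg, hpb.flip, h1⟩

include hs hu in
theorem props_of_section' : IsProjMor (hb ≫ pb) := by
  have H := exists_local_model' pb sb hs ib hb hu
  apply of_local_models @IsProjMor
  intro y
  obtain ⟨V, R, S', ψ, w, eV, hy, hpb, h1⟩ := H y
  refine ⟨V, _, w, _, hy, hpb, ?_⟩
  rw [MorphismProperty.cancel_right_of_respectsIso (P := @IsProjMor)]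
  exact (isProjMor_SpecMap_iff ψ).2 h1

end LocalModel


theorem projective_of_isPullback' {A C : Type u} [CommRing A] [CommRing C] [Algebra A C]
    (I : Ideal A) {Zb : Scheme.{u}} (r : Zb ⟶ Spec (.of (A ⧸ I))) (w : Zb ⟶ Spec (.of C))
    (sq : IsPullback r w (Spec.map (CommRingCat.ofHom (algebraMap A (A ⧸ I))))
      (Spec.map (CommRingCat.ofHom (algebraMap A C))))
    (h1 : IsProjMor r) :
    Module.Projective (A ⧸ I) ((A ⧸ I) ⊗[A] C) := by
  let e : Zb ≅ Spec (.of ((A ⧸ I) ⊗[A] C)) := sq.isoPullback ≪≫ pullbackSpecIso A (A ⧸ I) C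
  have he : e.inv ≫ r = Spec.map (CommRingCat.ofHom (algebraMap (A ⧸ I) ((A ⧸ I) ⊗[A] C))) := by
    simp only [e, Iso.trans_inv, Category.assoc, IsPullback.isoPullback_inv_fst]
    exact pullbackSpecIso_inv_fst' A (A ⧸ I) C
  have k1 : IsProjMor (Spec.map (CommRingCat.ofHom (algebraMap (A ⧸ I) ((A ⧸ I) ⊗[A] C)))) := by
    rw [← he]; exact (MorphismProperty.cancel_left_of_respectsIso @IsProjMor e.inv r).2 h1
  exact projHom_algebraMap_iff.mp ((isProjMor_SpecMap_iff _).1 k1)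

/-- global lifting of sections of smooth morphisms along an affine first order thickening -/
theorem exists_section' {A : Type u} [CommRing A] (I : Ideal A) (hI : I ^ 2 = ⊥) {P : Scheme.{u}}
    (p : P ⟶ Spec (.of A)) [FSLoc p] (s₀ : Spec (.of (A ⧸ I)) ⟶ P)
    (hs : s₀ ≫ p = Spec.map (CommRingCat.ofHom (Ideal.Quotient.mk I))) :
    ∃ s : Spec (.of A) ⟶ P,
      Spec.map (CommRingCat.ofHom (Ideal.Quotient.mk I)) ≫ s = s₀ ∧ s ≫ p = 𝟙 _ := by
  set i₀ : Spec (.of (A ⧸ I)) ⟶ Spec (.of A) :=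
    Spec.map (CommRingCat.ofHom (Ideal.Quotient.mk I)) with hi₀
  have hi₀fo : MoreMor.IsFirstOrderThickening i₀ :=
    isFirstOrderThickening_SpecMap _ Ideal.Quotient.mk_surjective (by
      simpa using hI)
  haveI : IsClosedImmersion i₀ := hi₀fo.1.1
  haveI : Surjective i₀ := hi₀fo.1.2
  haveI : FormallyUnramified s₀ := by
    haveI : FormallyUnramified (s₀ ≫ p) := by rw [hs]; infer_instance
    exact FormallyUnramified.of_comp s₀ p
  obtain ⟨Z₁, i₁, h₁, hu₁⟩ := Groth.Agent.S9731.result s₀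
  haveI : IsClosedImmersion i₁ := hu₁.1.1.1
  haveI : Surjective i₁ := hu₁.1.1.2
  have hq₁ : i₁ ≫ (h₁ ≫ p) = i₀ := by rw [← Category.assoc, hu₁.2.1, hs]
  haveI : IsAffine Z₁ := by
    apply isAffine_of_thickening i₁
    have hsurj : Function.Surjective i₀.appTop.hom :=
      i₀.app_surjective ⊤ (isAffineOpen_top _)
    rw [← hq₁, Scheme.Hom.comp_appTop] at hsurj
    exact Function.Surjective.of_comp hsurj
  -- transport to a spectrum
  let C : CommRingCat.{u} := Γ(Z₁, ⊤)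
  have hu := isUnivThickening_of_iso s₀ i₁ h₁ hu₁ Z₁.isoSpec
  set i : Spec (.of (A ⧸ I)) ⟶ Spec C := i₁ ≫ Z₁.isoSpec.hom with hidef
  set h' : Spec C ⟶ P := Z₁.isoSpec.inv ≫ h₁ with hh'def
  have hih' : i ≫ h' = s₀ := hu.2.1
  have hiq : i ≫ (h' ≫ p) = i₀ := by rw [← Category.assoc, hih', hs]
  let π : C ⟶ CommRingCat.of (A ⧸ I) := Spec.preimage i
  let σ : CommRingCat.of A ⟶ C := Spec.preimage (h' ≫ p)
  have hπ : Spec.map π = i := Spec.map_preimage _
  have hσ : Spec.map σ = h' ≫ p := Spec.map_preimage _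
  have hσπ : σ ≫ π = CommRingCat.ofHom (Ideal.Quotient.mk I) := by
    apply Spec.map_injective
    rw [Spec.map_comp, hπ, hσ, hiq]
  have hJ : RingHom.ker π.hom ^ 2 = ⊥ := ker_sq_of_SpecMap π (by rw [hπ]; exact hu.1.2)
  -- local sections
  have hloc : ∀ t : Spec (.of A), ∃ (V' : (Spec (.of A)).Opens) (a' : V'.toScheme ⟶ Spec C),
      t ∈ V' ∧ a' ≫ (h' ≫ p) = V'.ι := by
    intro t
    obtain ⟨V', ℓ, htV', hℓ1, hℓ2⟩ := exists_local_lift' p i₀ hi₀fo s₀ (𝟙 _)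
      (by rw [hs, Category.comp_id]) t
    have hfo : MoreMor.IsFirstOrderThickening (i₀ ∣_ V') :=
      isFirstOrderThickening_of_isPullback i₀ hi₀fo (i₀ ∣_ V') (i₀ ⁻¹ᵁ V').ι V'.ι
        (isPullback_morphismRestrict i₀ V').flip
    obtain ⟨a', ⟨ha1, ha2⟩, -⟩ := hu.2.2 _ _ (i₀ ∣_ V') ℓ (i₀ ⁻¹ᵁ V').ι hfo hℓ2
    exact ⟨V', a', htV', by rw [← Category.assoc, ha2, hℓ1, Category.comp_id]⟩
  have hinj : ∀ a : A, σ.hom a = 0 → a = 0 := by
    intro a ha
    have hx : (Scheme.ΓSpecIso (.of A)).inv a = 0 := by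
      apply Groth.Agent.Lib.Helper15.FOThickBC.eq_zero_of_flat_cover
      intro t
      obtain ⟨V', a', htV', ha'⟩ := hloc t
      refine ⟨V'.toScheme, V'.ι, inferInstance, ⟨t, htV'⟩, rfl, ?_⟩
      have h1 := congrArg (fun ψ => ψ.hom a) (Scheme.ΓSpecIso_inv_naturality σ)
      simp only [CommRingCat.hom_comp, RingHom.coe_comp, Function.comp_apply] at h1
      rw [ha, map_zero, hσ] at h1
      rw [← ha', Scheme.Hom.comp_appTop]
      change a'.appTop.hom ((h' ≫ p).appTop.hom _) = 0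
      rw [← h1, map_zero]
    have hinj' : Function.Injective (Scheme.ΓSpecIso (.of A)).inv :=
      (ConcreteCategory.bijective_of_isIso _).1
    exact hinj' (by rw [hx, map_zero])
  -- base change to the closed subscheme
  let g : pullback p i₀ ⟶ P := pullback.fst p i₀
  let pb : pullback p i₀ ⟶ Spec (.of (A ⧸ I)) := pullback.snd p i₀
  haveI : FSLoc pb := MorphismProperty.pullback_snd (P := @FSLoc) _ _ inferInstance
  let sb : Spec (.of (A ⧸ I)) ⟶ pullback p i₀ :=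
    pullback.lift s₀ (𝟙 _) (by rw [hs, Category.id_comp])
  have hsb : sb ≫ pb = 𝟙 _ := pullback.lift_snd _ _ _
  have hsbg : sb ≫ g = s₀ := pullback.lift_fst _ _ _
  have hc : IsPullback sb (𝟙 _) g s₀ := by
    have big' : IsPullback (sb ≫ pb) (𝟙 _) i₀ (s₀ ≫ p) := by
      rw [hsb, hs]; exact IsKernelPair.id_of_mono i₀
    exact IsPullback.of_right big' (by rw [hsbg, Category.id_comp])
      (IsPullback.of_hasPullback p i₀).flip
  have hub := Groth.Agent.S9733.result sb (𝟙 _) g s₀ hc i h' hu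
  have k1 := props_of_section' pb sb hsb _ _ hub
  have sqZ : IsPullback (pullback.snd g h') (pullback.fst g h' ≫ pb) (h' ≫ p) i₀ :=
    (IsPullback.of_hasPullback g h').flip.paste_vert (IsPullback.of_hasPullback p i₀)
  letI : Algebra A C := σ.hom.toAlgebra
  have sqZ' : IsPullback (pullback.fst g h' ≫ pb) (pullback.snd g h')
      (Spec.map (CommRingCat.ofHom (algebraMap A (A ⧸ I))))
      (Spec.map (CommRingCat.ofHom (algebraMap A C))) := by
    have := sqZ.flip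
    rw [← hσ] at this
    exact this
  haveI : Module.Projective (A ⧸ I) ((A ⧸ I) ⊗[A] C) :=
    projective_of_isPullback' I _ _ sqZ' k1
  obtain ⟨μ, hμ1, hμ2⟩ := exists_retraction I hI π.hom
    (fun a => congrArg (fun ψ => ψ.hom a) hσπ) hJ hinj
  refine ⟨Spec.map (CommRingCat.ofHom μ) ≫ h', ?_, ?_⟩
  · have : CommRingCat.ofHom μ ≫ CommRingCat.ofHom (Ideal.Quotient.mk I) = π := by
      ext c
      exact hμ2 c
    rw [← Category.assoc, ← Spec.map_comp, this, hπ, hih']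
  · have : σ ≫ CommRingCat.ofHom μ = 𝟙 _ := by
      ext a
      exact hμ1 a
    rw [Category.assoc, ← hσ, ← Spec.map_comp, this, Spec.map_id]


end Groth.Agent.Lib.Helper22.FSLocB
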