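import Mathlib
import Groth.Agent.Lib.Helper22.NormalSections

set_option autoImplicit false
set_option linter.style.haveILetI false
set_option linter.unusedSectionVars false
universe u

namespace Groth.Agent.Lib.Helper22.FibrationBC

open CategoryTheory CategoryTheory.Limits AlgebraicGeometry

variable {X Y S T XT YT : Scheme.{u}} (f₀ : T ⟶ S) [Flat f₀] (pX : X ⟶ S) (pY : Y ⟶ S)
  (f : X ⟶ Y) (hf : f ≫ pY = pX)
  {gX : XT ⟶ X} {iX : XT ⟶ T} {gY : YT ⟶ Y} {iY : YT ⟶ T}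
  (HX : IsPullback gX iX pX f₀) (HY : IsPullback gY iY pY f₀)
  [IsAffine S] [IsAffine T]

include hf HX HY in
theorem nonempty_sections_equiv (V : Y.Opens) (hV : IsAffineOpen V) [IsIso (f.app V)]
    (hc : IsCompact (f ⁻¹ᵁ V : Set X)) (hqs : IsQuasiSeparated (f ⁻¹ᵁ V : Set X)) :
    Nonempty (Γ(YT, gY ⁻¹ᵁ V ⊓ iY ⁻¹ᵁ ⊤) ≃+* Γ(XT, gX ⁻¹ᵁ (f ⁻¹ᵁ V) ⊓ iX ⁻¹ᵁ ⊤)) := by
  have hUST : (⊤ : T.Opens) ≤ f₀ ⁻¹ᵁ ⊤ := le_of_eq (Scheme.Hom.preimage_top f₀).symm
  have hVS : V ≤ pY ⁻¹ᵁ ⊤ := le_of_le_of_eq le_top (Scheme.Hom.preimage_top pY).symm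
  have hWS : f ⁻¹ᵁ V ≤ pX ⁻¹ᵁ ⊤ := le_of_le_of_eq le_top (Scheme.Hom.preimage_top pX).symm
  have hY1 : IsIso (pushoutSection HY hUST hVS rfl) :=
    isIso_pushoutSection_of_isAffineOpen HY _ _ rfl (isAffineOpen_top S) (isAffineOpen_top T) hV
  have hX1 : IsIso (pushoutSection HX hUST hWS rfl) :=
    isIso_pushoutSection_of_isQuasiSeparated_of_flat_right HX _ _ rfl (isAffineOpen_top S)
      (isAffineOpen_top T) hc hqs
  rw [isIso_pushoutSection_iff] at hY1 hX1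
  have hcomm : pY.appLE ⊤ V hVS ≫ f.app V = pX.appLE ⊤ (f ⁻¹ᵁ V) hWS := by
    subst hf
    rw [Scheme.Hom.app_eq_appLE, Scheme.Hom.appLE_comp_appLE]
  have hX2 := IsPushout.of_iso hX1 (Iso.refl _) (asIso (f.app V)).symm (Iso.refl _) (Iso.refl _)
    (f' := pY.appLE ⊤ V hVS) (g' := f₀.appLE ⊤ ⊤ hUST)
    (inl' := f.app V ≫ gX.appLE (f ⁻¹ᵁ V) (gX ⁻¹ᵁ (f ⁻¹ᵁ V) ⊓ iX ⁻¹ᵁ ⊤) inf_le_left)
    (inr' := iX.appLE ⊤ (gX ⁻¹ᵁ (f ⁻¹ᵁ V) ⊓ iX ⁻¹ᵁ ⊤) inf_le_right)
    (by simp [← hcomm]) (by simp) (by simp) (by simp)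
  exact ⟨(hY1.isoIsPushout _ _ hX2).commRingCatIsoToRingEquiv⟩

include HY in
theorem isAffineOpen_box (V : Y.Opens) (hV : IsAffineOpen V) :
    IsAffineOpen (gY ⁻¹ᵁ V ⊓ iY ⁻¹ᵁ ⊤) := by
  have hUST : (⊤ : T.Opens) ≤ f₀ ⁻¹ᵁ ⊤ := le_of_eq (Scheme.Hom.preimage_top f₀).symm
  have hVS : V ≤ pY ⁻¹ᵁ ⊤ := le_of_le_of_eq le_top (Scheme.Hom.preimage_top pY).symm
  have : IsAffine (⊤ : S.Opens) := isAffineOpen_top S
  have : IsAffine (⊤ : T.Opens) := isAffineOpen_top T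
  have : IsAffine V := hV
  exact .of_isIso (Scheme.Hom.isPullback_resLE HY hUST hVS rfl).isoPullback.hom

include hf HX HY in
/-- normality descends along the base change of a fibration -/
theorem isNormalScheme_of_fibration_bc [IsNoetherian X] [IsNoetherian XT]
    (hfib : ∀ V : Y.Opens, IsIso (f.app V)) (hXT : Pi1.IsNormalScheme XT) :
    Pi1.IsNormalScheme YT := by
  intro y
  obtain ⟨_, ⟨V, hV, rfl⟩, hyV, -⟩ := Y.isBasis_affineOpens.exists_subset_of_mem_open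
    (Set.mem_univ (gY y)) isOpen_univ
  haveI := hfib V
  obtain ⟨e⟩ := nonempty_sections_equiv f₀ pX pY f hf HX HY V hV
    (TopologicalSpace.NoetherianSpace.isCompact _)
    ((isQuasiSeparated_univ).of_subset (Set.subset_univ _))
  have hfin : (irreducibleComponents XT).Finite :=
    TopologicalSpace.NoetherianSpace.finite_irreducibleComponents
  have hN := NormalSections.isNormalRing_sections_of_finite hXT hfin
    (gX ⁻¹ᵁ (f ⁻¹ᵁ V) ⊓ iX ⁻¹ᵁ ⊤)
  have hN' := NormalSections.isNormalRing_of_ringEquiv e.symm hN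
  exact NormalSections.qn_stalk_of_isNormalRing_sections (isAffineOpen_box f₀ pY HY V hV) hN' y
    ⟨hyV, trivial⟩

include hf HX HY in
/-- integrality descends along the base change of a surjective fibration -/
theorem isIntegral_of_fibration_bc [IsNoetherian X] [IsIntegral XT] [Surjective f]
    (hfib : ∀ V : Y.Opens, IsIso (f.app V)) : IsIntegral YT := by
  let fT : XT ⟶ YT := HY.lift (gX ≫ f) iX (by rw [Category.assoc, hf]; exact HX.w)
  have h1 : fT ≫ gY = gX ≫ f := HY.lift_fst _ _ _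
  have h2 : fT ≫ iY = iX := HY.lift_snd _ _ _
  have hsq : IsPullback fT gX gY f := by
    refine IsPullback.of_right ?_ h1 HY.flip
    rw [h2, hf]
    exact HX.flip
  haveI : Surjective fT := MorphismProperty.of_isPullback (P := @Surjective) hsq.flip inferInstance
  haveI : Nonempty YT := ⟨fT (Nonempty.some inferInstance)⟩
  haveI : IrreducibleSpace YT := by
    have hirr := (IrreducibleSpace.isIrreducible_univ XT).image fT fT.continuous.continuousOn
    rw [Set.image_univ, fT.surjective.range_eq] at hirr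
    exact (irreducibleSpace_def YT).mpr hirr
  haveI : ∀ y : YT, _root_.IsReduced (YT.presheaf.stalk y) := by
    intro y
    obtain ⟨_, ⟨V, hV, rfl⟩, hyV, -⟩ := Y.isBasis_affineOpens.exists_subset_of_mem_open
      (Set.mem_univ (gY y)) isOpen_univ
    haveI := hfib V
    obtain ⟨e⟩ := nonempty_sections_equiv f₀ pX pY f hf HX HY V hV
      (TopologicalSpace.NoetherianSpace.isCompact _)
      ((isQuasiSeparated_univ).of_subset (Set.subset_univ _))
    have hV' := isAffineOpen_box f₀ pY HY V hV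
    obtain ⟨V', hV'def⟩ : ∃ V' : YT.Opens, V' = gY ⁻¹ᵁ V ⊓ iY ⁻¹ᵁ ⊤ := ⟨_, rfl⟩
    rw [← hV'def] at hV' e
    have hy : y ∈ V' := hV'def ▸ ⟨hyV, trivial⟩
    haveI : _root_.IsReduced Γ(YT, V') := isReduced_of_injective e.toRingHom e.injective
    haveI : IsAffine V'.toScheme := hV'
    haveI : _root_.IsReduced Γ(V'.toScheme, ⊤) :=
      isReduced_of_injective V'.topIso.hom.hom
        (V'.topIso.commRingCatIsoToRingEquiv.injective)
    haveI : IsReduced V'.toScheme := isReduced_of_isAffine_isReduced _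
    have h3 : _root_.IsReduced (V'.toScheme.presheaf.stalk ⟨y, hy⟩) :=
      isReduced_stalk_of_isReduced _ _
    exact isReduced_of_injective (V'.stalkIso ⟨y, hy⟩).inv.hom
      ((V'.stalkIso ⟨y, hy⟩).symm.commRingCatIsoToRingEquiv.injective)
  haveI : IsReduced YT := isReduced_of_isReduced_stalk YT
  exact isIntegral_of_irreducibleSpace_of_isReduced YT

end Groth.Agent.Lib.Helper22.FibrationBC
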