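import Mathlib

/-!
# Filtered modules over an adically complete ring: finiteness from the graded pieces (helper22)
-/

set_option autoImplicit false
set_option linter.unusedSectionVars false
universe u
noncomputable section
namespace Groth.Agent.Lib.Helper22.FiltGood

variable {S : Type u} [CommRing S] (J : Ideal S) {M : Type u} [AddCommGroup M] [Module S M]

section Approx

variable (N : ℕ → Submodule S M) (hN : Antitone N) (h1 : ∀ i, J • N i ≤ N (i + 1))
  (h2 : ∀ i, N (i + 1) ≤ J • N i ⊔ N (i + 2)) (h3 : ⨅ i, N i = ⊥)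
  {r : ℕ} (x : Fin r → M) (hx : ∀ j, x j ∈ N 0)
  (h4 : N 0 ≤ Submodule.span S (Set.range x) ⊔ N 1)

include h1 h2 h4 in
theorem le_pow_smul_span_sup (i : ℕ) :
    N i ≤ J ^ i • Submodule.span S (Set.range x) ⊔ N (i + 1) := by
  induction i with
  | zero => rw [pow_zero, Ideal.one_eq_top, Submodule.top_smul]; exact h4
  | succ i ih =>
    calc N (i + 1) ≤ J • N i ⊔ N (i + 2) := h2 i
      _ ≤ J • (J ^ i • Submodule.span S (Set.range x) ⊔ N (i + 1)) ⊔ N (i + 2) :=
        sup_le_sup_right (Submodule.smul_mono le_rfl ih) _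
      _ ≤ J ^ (i + 1) • Submodule.span S (Set.range x) ⊔ N (i + 1 + 1) := by
        rw [Submodule.smul_sup, ← mul_smul, ← pow_succ']
        exact sup_le (sup_le le_sup_left ((h1 (i + 1)).trans le_sup_right)) le_sup_right

include hN h1 hx in
theorem pow_smul_span_le (k : ℕ) : J ^ k • Submodule.span S (Set.range x) ≤ N k := by
  have hX : Submodule.span S (Set.range x) ≤ N 0 := by
    rw [Submodule.span_le]; rintro _ ⟨j, rfl⟩; exact hx j
  induction k with
  | zero => rw [pow_zero, Ideal.one_eq_top, Submodule.top_smul]; exact hX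
  | succ k ih =>
    rw [pow_succ', mul_smul]
    exact (Submodule.smul_mono le_rfl ih).trans (h1 k)

include h1 h2 h4 in
theorem exists_step (y : M) (n : ℕ) (b : Fin r → S) (hb : y - ∑ j, b j • x j ∈ N n) :
    ∃ b' : Fin r → S, (∀ j, b' j - b j ∈ J ^ n) ∧ y - ∑ j, b' j • x j ∈ N (n + 1) := by
  have := le_pow_smul_span_sup J N h1 h2 x h4 n hb
  obtain ⟨t, ht, y', hy', hty⟩ := Submodule.mem_sup.mp this
  obtain ⟨c, hc, hct⟩ := (Submodule.mem_ideal_smul_span_iff_exists_sum (J ^ n) x t).mp ht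
  refine ⟨fun j => b j + c j, fun j => by rw [add_sub_cancel_left]; exact hc j, ?_⟩
  have h5 : ∑ j, c j • x j = t := by
    rw [← hct, Finsupp.sum_fintype]
    intro i; rw [zero_smul]
  have : y - ∑ j, (b j + c j) • x j = y' := by
    simp only [add_smul, Finset.sum_add_distrib]
    rw [h5]
    have : y - ∑ j, b j • x j = t + y' := hty.symm
    rw [← sub_sub, this, add_sub_cancel_left]
  rw [this]
  exact hy'

variable [IsAdicComplete J S]

include hN h1 h2 h3 hx h4 in
/-- successive approximation -/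
theorem exists_coeff (m : ℕ) (y : M) (hy : y ∈ N m) :
    ∃ a : Fin r → S, (∀ j, a j ∈ J ^ m) ∧ y = ∑ j, a j • x j := by
  -- the sequence of approximations
  have hstep := exists_step J N h1 h2 x h4 y
  let g : (k : ℕ) → {b : Fin r → S // y - ∑ j, b j • x j ∈ N (m + k)} := fun k =>
    Nat.rec (motive := fun k => {b : Fin r → S // y - ∑ j, b j • x j ∈ N (m + k)})
      ⟨0, by simpa using hy⟩
      (fun k gk => ⟨Classical.choose (hstep (m + k) gk.1 gk.2),
        (Classical.choose_spec (hstep (m + k) gk.1 gk.2)).2⟩) k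
  have hg_succ : ∀ k j, (g (k + 1)).1 j - (g k).1 j ∈ J ^ (m + k) := fun k j =>
    (Classical.choose_spec (hstep (m + k) (g k).1 (g k).2)).1 j
  have hg_mem : ∀ k j, (g k).1 j ∈ J ^ m := by
    intro k
    induction k with
    | zero => intro j; exact Ideal.zero_mem _
    | succ k ih =>
      intro j
      have : (g (k + 1)).1 j = ((g (k + 1)).1 j - (g k).1 j) + (g k).1 j := by ring
      rw [this]
      exact Ideal.add_mem _ (Ideal.pow_le_pow_right (Nat.le_add_right m k) (hg_succ k j)) (ih j)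
  have hcauchy : ∀ j, ∀ {k k' : ℕ}, k ≤ k' →
      (g k).1 j ≡ (g k').1 j [SMOD (J ^ k • ⊤ : Submodule S S)] := by
    intro j k k' hkk'
    rw [SModEq.sub_mem, smul_eq_mul, Ideal.mul_top]
    induction k', hkk' using Nat.le_induction with
    | base => rw [sub_self]; exact Ideal.zero_mem _
    | succ k' hkk' ih =>
      have : (g k).1 j - (g (k' + 1)).1 j =
          ((g k).1 j - (g k').1 j) - ((g (k' + 1)).1 j - (g k').1 j) := by ring
      rw [this]
      exact Ideal.sub_mem _ ih (Ideal.pow_le_pow_right (by omega) (hg_succ k' j))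
  have hex : ∀ j, ∃ a : S, ∀ k, (g k).1 j ≡ a [SMOD (J ^ k • ⊤ : Submodule S S)] := fun j =>
    IsPrecomplete.prec (IsAdicComplete.toIsPrecomplete (I := J) (M := S))
      (f := fun k => (g k).1 j) (hcauchy j)
  choose a ha using hex
  have ha' : ∀ k j, a j - (g k).1 j ∈ J ^ k := by
    intro k j
    have := ha j k
    rw [SModEq.sub_mem, smul_eq_mul, Ideal.mul_top] at this
    rw [← neg_sub]; exact neg_mem this
  refine ⟨a, fun j => ?_, ?_⟩
  · have : a j = (a j - (g m).1 j) + (g m).1 j := by ring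
    rw [this]
    exact Ideal.add_mem _ (ha' m j) (hg_mem m j)
  · rw [← sub_eq_zero, ← Submodule.mem_bot S, ← h3, Submodule.mem_iInf]
    intro k
    have h5 : y - ∑ j, a j • x j =
        (y - ∑ j, (g k).1 j • x j) - ∑ j, (a j - (g k).1 j) • x j := by
      simp only [sub_smul, Finset.sum_sub_distrib]; abel
    rw [h5]
    refine Submodule.sub_mem _ (hN (Nat.le_add_left k m) (g k).2) ?_
    refine pow_smul_span_le J N hN h1 x hx k ?_
    exact Submodule.sum_mem _ fun j _ =>
      Submodule.smul_mem_smul (ha' k j) (Submodule.subset_span ⟨j, rfl⟩)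

end Approx

section Main

variable {S : Type u} [CommRing S] [IsNoetherianRing S]
    (J : Ideal S) [IsAdicComplete J S] {M : Type u} [AddCommGroup M] [Module S M]
    (F : ℤ → Submodule S M) (hF : Antitone F) (hcod : ∃ p₀ : ℤ, F p₀ = ⊤)
    (hJ : ∀ p : ℤ, J • F p ≤ F (p + 1)) (hsep : ⨅ p : ℤ, F p = ⊥)

include hF hJ hsep in
/-- the key consequence of successive approximation at a level `p` beyond `p₁` -/
theorem fg_and_le (p₁ : ℤ) (hgen : ∀ p : ℤ, p₁ ≤ p → F (p + 1) = J • F p ⊔ F (p + 2))
    (p : ℤ) (hp : p₁ ≤ p) (hfg : (Submodule.map (F (p + 1)).mkQ (F p)).FG) :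
    (F p).FG ∧ F (p + 1) ≤ J • F p := by
  -- generators of the graded piece
  obtain ⟨t, ht⟩ := hfg
  have hlift : ∀ z ∈ (t : Set (M ⧸ F (p + 1))), ∃ x ∈ F p, (F (p + 1)).mkQ x = z := by
    intro z hz
    have : z ∈ Submodule.map (F (p + 1)).mkQ (F p) := by rw [← ht]; exact Submodule.subset_span hz
    exact this
  choose! ξ hξ using hlift
  let e := t.equivFin
  let x : Fin t.card → M := fun j => ξ (e.symm j).1
  have hxmem : ∀ j, x j ∈ F p := fun j => (hξ _ (e.symm j).2).1
  let N : ℕ → Submodule S M := fun i => F (p + i)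
  have hN : Antitone N := fun i i' h => hF (by simpa using h)
  have h1 : ∀ i, J • N i ≤ N (i + 1) := fun i => by
    have := hJ (p + i)
    simpa [N, add_assoc] using this
  have h2 : ∀ i, N (i + 1) ≤ J • N i ⊔ N (i + 2) := fun i => by
    have := hgen (p + i) (by omega)
    show F (p + ((i + 1 : ℕ) : ℤ)) ≤ J • F (p + (i : ℤ)) ⊔ F (p + ((i + 2 : ℕ) : ℤ))
    have e1 : p + ((i + 1 : ℕ) : ℤ) = p + i + 1 := by push_cast; ring
    have e2 : p + ((i + 2 : ℕ) : ℤ) = p + i + 2 := by push_cast; ring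
    rw [e1, e2, this]
  have h3 : ⨅ i, N i = ⊥ := by
    rw [eq_bot_iff, ← hsep]
    refine le_iInf fun q => ?_
    refine (iInf_le N (q - p).toNat).trans ?_
    exact hF (by have := Int.self_le_toNat (q - p); omega)
  have hx0 : ∀ j, x j ∈ N 0 := fun j => by simpa [N] using hxmem j
  have h4 : N 0 ≤ Submodule.span S (Set.range x) ⊔ N 1 := by
    intro y hy
    have hy' : y ∈ F p := by simpa [N] using hy
    have h5 : (F (p + 1)).mkQ y ∈ Submodule.span S (t : Set (M ⧸ F (p + 1))) := by
      rw [ht]; exact ⟨y, hy', rfl⟩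
    have h6 : (t : Set (M ⧸ F (p + 1))) ⊆
        (F (p + 1)).mkQ '' (Set.range x) := by
      intro z hz
      refine ⟨ξ z, ⟨e ⟨z, hz⟩, ?_⟩, (hξ z hz).2⟩
      show ξ (e.symm (e ⟨z, hz⟩)).1 = ξ z
      rw [Equiv.symm_apply_apply]
    have h7 := Submodule.span_mono h6 h5
    rw [← Submodule.map_span] at h7
    obtain ⟨w, hw, hwy⟩ := h7
    have h8 : y - w ∈ F (p + 1) := by
      rw [← Submodule.Quotient.mk_eq_zero, Submodule.Quotient.mk_sub]
      have : (F (p + 1)).mkQ w = (F (p + 1)).mkQ y := hwy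
      simp only [Submodule.mkQ_apply] at this
      rw [this, sub_self]
    have : y = w + (y - w) := by abel
    rw [this]
    refine Submodule.add_mem_sup hw ?_
    simpa [N] using h8
  constructor
  · have : F p = Submodule.span S (Set.range x) := by
      apply le_antisymm
      · intro y hy
        obtain ⟨a, -, rfl⟩ := exists_coeff J N hN h1 h2 h3 x hx0 h4 0 y (by simpa [N] using hy)
        exact Submodule.sum_mem _ fun j _ => Submodule.smul_mem _ _ (Submodule.subset_span ⟨j, rfl⟩)
      · rw [Submodule.span_le]; rintro _ ⟨j, rfl⟩; exact hxmem j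
    rw [this]
    exact Submodule.fg_span (Set.finite_range x)
  · intro y hy
    obtain ⟨a, ha, rfl⟩ := exists_coeff J N hN h1 h2 h3 x hx0 h4 1 y (by simpa [N] using hy)
    refine Submodule.sum_mem _ fun j _ => Submodule.smul_mem_smul ?_ (hxmem j)
    simpa using ha j

include hF hcod hJ hsep in
theorem main :
    (Module.Finite S M ∧ ∃ p₁ : ℤ, ∀ p : ℤ, p₁ ≤ p → J • F p = F (p + 1)) ↔
      ((∀ p : ℤ, (Submodule.map (F (p + 1)).mkQ (F p)).FG) ∧
        ∃ p₁ : ℤ, ∀ p : ℤ, p₁ ≤ p → F (p + 1) = J • F p ⊔ F (p + 2)) := by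
  constructor
  · rintro ⟨hfin, p₁, hp₁⟩
    have : IsNoetherian S M := isNoetherian_of_isNoetherianRing_of_finite S M
    refine ⟨fun p => Submodule.FG.map _ (IsNoetherian.noetherian (F p)), p₁, fun p hp => ?_⟩
    apply le_antisymm
    · rw [← hp₁ p hp]; exact le_sup_left
    · exact sup_le (hJ p) (hF (by omega))
  · rintro ⟨hfg, p₁, hp₁⟩
    have key := fun p hp => fg_and_le J F hF hJ hsep p₁ hp₁ p hp (hfg p)
    refine ⟨?_, p₁, fun p hp => le_antisymm (hJ p) (key p hp).2⟩
    -- finiteness: downward induction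
    have hdown : ∀ k : ℕ, (F (p₁ - k)).FG := by
      intro k
      induction k with
      | zero => simpa using (key p₁ le_rfl).1
      | succ k ih =>
        have e1 : p₁ - ((k + 1 : ℕ) : ℤ) + 1 = p₁ - k := by push_cast; ring
        have h5 := hfg (p₁ - ((k + 1 : ℕ) : ℤ))
        rw [e1] at h5
        refine Submodule.fg_of_fg_map_of_fg_inf_ker (F (p₁ - k)).mkQ h5 ?_
        rw [Submodule.ker_mkQ]
        have : F (p₁ - ((k + 1 : ℕ) : ℤ)) ⊓ F (p₁ - k) = F (p₁ - k) :=
          inf_eq_right.mpr (hF (by push_cast; omega))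
        rw [this]
        exact ih
    obtain ⟨p₀, hp₀⟩ := hcod
    have htop : (⊤ : Submodule S M).FG := by
      rcases le_total p₀ p₁ with h | h
      · have := hdown (p₁ - p₀).toNat
        have e2 : p₁ - ((p₁ - p₀).toNat : ℤ) = p₀ := by
          rw [Int.toNat_of_nonneg (by omega)]; ring
        rw [e2, hp₀] at this
        exact this
      · have h6 : F p₁ = ⊤ := eq_top_iff.mpr (hp₀ ▸ hF h)
        have := hdown 0
        simpa [h6] using this
    exact ⟨htop⟩

end Main

end Groth.Agent.Lib.Helper22.FiltGood
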