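import Mathlib
import Groth.Prelude.Def_EGA4b
import Groth.Agent.Lib.Helper22.FormalFibQuot
import Groth.Agent.Lib.Helper5.RegHomIso

/-!
# Formal fibres of a quotient: geometric regularity
-/

set_option autoImplicit false
universe u
open TensorProduct IsLocalRing

namespace Groth.Agent.Lib.Helper22.FormalFibQuot

/-- **Formal fibres of a quotient**: geometric regularity. -/
theorem isRegularHom_cpl_quotient (A : Type u) [CommRing A] [IsNoetherianRing A]
    [IsLocalRing A] (hA : CAlg.IsRegularHom A (EGA4.Cpl A)) (I : Ideal A) [IsLocalRing (A ⧸ I)] :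
    CAlg.IsRegularHom (A ⧸ I) (EGA4.Cpl (A ⧸ I)) := by
  have h1 := Groth.Agent.Lib.Helper5.RegHom.isRegularHom_baseChange A (EGA4.Cpl A) (A ⧸ I) hA
  obtain ⟨e⟩ := nonempty_tensor_cpl_algEquiv A I
  exact Groth.Agent.Lib.Helper5.RegHom.isRegularHom_of_algEquiv (A ⧸ I) _ _ e h1

end Groth.Agent.Lib.Helper22.FormalFibQuot
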