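import Mathlib

/-!
# Lang's theorem for Frobenius-semilinear bijections of a vector space over an algebraically
closed field (helper22)
-/

set_option autoImplicit false
set_option linter.unusedSectionVars false

noncomputable section

namespace Groth.Agent.Lib.Helper22.Lang

open Polynomial

section Poly

variable {k : Type*} [Field k]

/-- The polynomials expressing the coordinates of a fixed vector in terms of the last one. -/
def Qpoly (q : ℕ) (c : ℕ → k) : ℕ → k[X]
  | 0 => C (c 0) * X ^ q
  | (i + 1) => (Qpoly q c i) ^ q + C (c (i + 1)) * X ^ q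

theorem natDegree_Qpoly {q : ℕ} (hq : 2 ≤ q) {c : ℕ → k} (hc0 : c 0 ≠ 0) (i : ℕ) :
    (Qpoly q c i).natDegree = q ^ (i + 1) := by
  induction i with
  | zero => simp [Qpoly, natDegree_C_mul_X_pow q (c 0) hc0]
  | succ i ih =>
    have h1 : ((Qpoly q c i) ^ q).natDegree = q ^ (i + 2) := by
      rw [natDegree_pow, ih, pow_succ q (i + 1), mul_comm]
    have h2 : (C (c (i + 1)) * X ^ q : k[X]).natDegree < ((Qpoly q c i) ^ q).natDegree := by
      rw [h1]
      calc (C (c (i + 1)) * X ^ q : k[X]).natDegree ≤ q := natDegree_C_mul_X_pow_le _ _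
        _ = q ^ 1 := (pow_one q).symm
        _ < q ^ (i + 2) := Nat.pow_lt_pow_right (by omega) (by omega)
    show ((Qpoly q c i) ^ q + C (c (i + 1)) * X ^ q).natDegree = q ^ (i + 1 + 1)
    rw [natDegree_add_eq_left_of_natDegree_lt h2, h1]

theorem X_pow_dvd_Qpoly {q : ℕ} (hq : 2 ≤ q) (c : ℕ → k) (i : ℕ) :
    (X : k[X]) ^ q ∣ Qpoly q c i := by
  induction i with
  | zero => exact dvd_mul_left _ _
  | succ i ih =>
    exact dvd_add (ih.trans (dvd_pow_self _ (by omega))) (dvd_mul_left _ _)

theorem exists_eval_Qpoly_eq [IsAlgClosed k] {q : ℕ} (hq : 2 ≤ q) {c : ℕ → k} (hc0 : c 0 ≠ 0)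
    (i : ℕ) : ∃ y : k, y ≠ 0 ∧ (Qpoly q c i).eval y = y := by
  obtain ⟨T, hT⟩ := X_pow_dvd_Qpoly hq c i
  have hdeg := natDegree_Qpoly hq hc0 i
  have hT0 : T ≠ 0 := by
    rintro rfl
    rw [hT, mul_zero, natDegree_zero] at hdeg
    exact (pow_pos (by omega : 0 < q) (i + 1)).ne hdeg
  have hdeg' : 0 < (X ^ (q - 1) * T : k[X]).degree := by
    rw [degree_mul, degree_X_pow]
    have h1 : (0 : WithBot ℕ) ≤ T.degree := zero_le_degree_iff.mpr hT0
    have h2 : (0 : WithBot ℕ) < ((q - 1 : ℕ) : WithBot ℕ) := by exact_mod_cast (by omega : 0 < q - 1)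
    exact add_pos_of_pos_of_nonneg h2 h1
  have hR : (X ^ (q - 1) * T - C 1 : k[X]).degree ≠ 0 := by
    rw [degree_sub_C hdeg']
    exact hdeg'.ne'
  obtain ⟨y, hy⟩ := IsAlgClosed.exists_root _ hR
  rw [IsRoot, eval_sub, eval_mul, eval_pow, eval_X, eval_C, sub_eq_zero] at hy
  have hy0 : y ≠ 0 := by
    rintro rfl
    rw [zero_pow (by omega), zero_mul] at hy
    exact zero_ne_one hy
  refine ⟨y, hy0, ?_⟩
  rw [hT, eval_mul, eval_pow, eval_X]
  calc y ^ q * eval y T = y * (y ^ (q - 1) * eval y T) := by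
        rw [← mul_assoc, ← pow_succ', Nat.sub_add_cancel (by omega)]
    _ = y := by rw [hy, mul_one]

end Poly

section Exist

variable {k : Type*} [Field k] [IsAlgClosed k]
variable {V : Type*} [AddCommGroup V] [Module k V] [FiniteDimensional k V]

/-- In a finite-dimensional space the orbit of a vector becomes linearly dependent. -/
theorem exists_first_dependence (w : ℕ → V) :
    ∃ m : ℕ, LinearIndependent k (fun i : Fin m => w i) ∧
      w m ∈ Submodule.span k (Set.range fun i : Fin m => w i) := by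
  by_contra hcon
  push Not at hcon
  have hli : ∀ m : ℕ, LinearIndependent k (fun i : Fin m => w i) := by
    intro m
    induction m with
    | zero => exact linearIndependent_empty_type
    | succ m ih =>
      have h1 : (fun i : Fin (m + 1) => w i) = Fin.snoc (fun i : Fin m => w i) (w m) := by
        ext i
        refine Fin.lastCases ?_ (fun j => ?_) i
        · simp
        · simp
      rw [h1, linearIndependent_finSnoc]
      exact ⟨ih, hcon m ih⟩
  have := (hli (Module.finrank k V + 1)).fintype_card_le_finrank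
  rw [Fintype.card_fin] at this
  omega

/-- A bijective `q`-Frobenius-semilinear endomorphism of a non-zero finite-dimensional space over
an algebraically closed field has a non-zero fixed vector. -/
theorem exists_fixed_ne_zero [Nontrivial V] (σ : k →+* k) (q : ℕ) (hq : 2 ≤ q)
    (hσ : ∀ x, σ x = x ^ q) (φ : V →ₛₗ[σ] V) (hφ : Function.Injective φ) :
    ∃ v : V, v ≠ 0 ∧ φ v = v := by
  obtain ⟨v₀, hv₀⟩ := exists_ne (0 : V)
  set w : ℕ → V := fun i => (⇑φ)^[i] v₀ with hw
  have hw_succ : ∀ i, w (i + 1) = φ (w i) := fun i => Function.iterate_succ_apply' _ _ _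
  obtain ⟨m, hli, hmem⟩ := exists_first_dependence (k := k) w
  obtain ⟨c, hc⟩ := (Submodule.mem_span_range_iff_exists_fun k).mp hmem
  -- `m ≥ 1`
  obtain ⟨m', rfl⟩ : ∃ m', m = m' + 1 := by
    rcases m with _ | m'
    · exfalso
      simp at hc
      exact hv₀ hc.symm
    · exact ⟨m', rfl⟩
  set c' : ℕ → k := fun i => if h : i < m' + 1 then c ⟨i, h⟩ else 0 with hc'
  have hc'i : ∀ i : Fin (m' + 1), c' i = c i := fun i => by
    simp only [hc', dif_pos i.2]
  have hsum : w (m' + 1) = ∑ i ∈ Finset.range (m' + 1), c' i • w i := by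
    rw [← hc, ← Fin.sum_univ_eq_sum_range (fun i => c' i • w i) (m' + 1)]
    exact Finset.sum_congr rfl fun i _ => by rw [hc'i]
  -- the constant coefficient is non-zero
  have hc0 : c' 0 ≠ 0 := by
    intro h0
    have hroot : ∀ i, ∃ d : k, d ^ q = c' i := fun i =>
      IsAlgClosed.exists_pow_nat_eq (c' i) (by omega)
    choose d hd using hroot
    have h1 : φ (w m') = φ (∑ j ∈ Finset.range m', d (j + 1) • w j) := by
      rw [← hw_succ, hsum, Finset.sum_range_succ', h0, zero_smul, add_zero, map_sum]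
      refine Finset.sum_congr rfl fun j _ => ?_
      rw [map_smulₛₗ, hσ, hd, hw_succ]
    have h2 := hφ h1
    have h3 : (fun i : Fin (m' + 1) => w i) = Fin.snoc (fun i : Fin m' => w i) (w m') := by
      ext i
      refine Fin.lastCases ?_ (fun j => ?_) i
      · simp
      · simp
    rw [h3, linearIndependent_finSnoc] at hli
    apply hli.2
    rw [h2, ← Fin.sum_univ_eq_sum_range (fun j => d (j + 1) • w j) m']
    exact Submodule.sum_mem _ fun j _ =>
      Submodule.smul_mem _ _ (Submodule.subset_span ⟨j, rfl⟩)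
  obtain ⟨y, hy0, hy⟩ := exists_eval_Qpoly_eq hq hc0 m'
  set Xc : ℕ → k := fun i => (Qpoly q c' i).eval y with hXc
  have hX0 : Xc 0 = c' 0 * y ^ q := by simp [hXc, Qpoly]
  have hXs : ∀ i, Xc (i + 1) = Xc i ^ q + c' (i + 1) * y ^ q := fun i => by
    simp [hXc, Qpoly]
  have hXm : Xc m' = y := hy
  refine ⟨∑ i ∈ Finset.range (m' + 1), Xc i • w i, ?_, ?_⟩
  · intro h0
    rw [← Fin.sum_univ_eq_sum_range (fun i => Xc i • w i) (m' + 1)] at h0
    have := (Fintype.linearIndependent_iff.mp hli) (fun i : Fin (m' + 1) => Xc i) h0 (Fin.last m')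
    rw [Fin.val_last, hXm] at this
    exact hy0 this
  · rw [map_sum]
    have h1 : ∀ i ∈ Finset.range (m' + 1), φ (Xc i • w i) = Xc i ^ q • w (i + 1) := fun i _ => by
      rw [map_smulₛₗ, hσ, hw_succ]
    rw [Finset.sum_congr rfl h1, Finset.sum_range_succ, hsum, Finset.smul_sum,
      Finset.sum_range_succ' (fun i => Xc m' ^ q • c' i • w i),
      Finset.sum_range_succ' (fun i => Xc i • w i), hX0, hXm, ← add_assoc, ← Finset.sum_add_distrib]
    congr 1
    · refine Finset.sum_congr rfl fun j _ => ?_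
      rw [hXs, add_smul, smul_smul, mul_comm]
    · rw [smul_smul, mul_comm]

end Exist

section Span

variable {K : Type*} [Field K] {V : Type*} [AddCommGroup V] [Module K V]

theorem fixed_span_stable (τ : K →+* K) (φ : V →ₛₗ[τ] V) :
    ∀ x ∈ Submodule.span K {v | φ v = v}, φ x ∈ Submodule.span K {v | φ v = v} := by
  intro x hx
  induction hx using Submodule.span_induction with
  | mem v hv => rw [Set.mem_ofPred_eq] at hv; rw [hv]; exact Submodule.subset_span hv
  | zero => rw [map_zero]; exact Submodule.zero_mem _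
  | add x y _ _ hx hy => rw [map_add]; exact Submodule.add_mem _ hx hy
  | smul c x _ hx => rw [map_smulₛₗ]; exact Submodule.smul_mem _ _ hx

/-- `φ - 1` is onto the span of the fixed vectors when `τ - 1` is onto. -/
theorem surj_on_span_fixed (τ : K →+* K) (hτ : ∀ c, ∃ x, τ x - x = c) (φ : V →ₛₗ[τ] V) (e : V)
    (he : e ∈ Submodule.span K {v | φ v = v}) :
    ∃ y ∈ Submodule.span K {v | φ v = v}, φ y - y = e := by
  suffices h : ∀ a : K, ∃ y ∈ Submodule.span K {v | φ v = v}, φ y - y = a • e by
    simpa using h 1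
  induction he using Submodule.span_induction with
  | mem v hv =>
    intro a
    obtain ⟨x, hx⟩ := hτ a
    refine ⟨x • v, Submodule.smul_mem _ _ (Submodule.subset_span hv), ?_⟩
    rw [Set.mem_ofPred_eq] at hv
    rw [map_smulₛₗ, hv, ← sub_smul, hx]
  | zero => intro a; exact ⟨0, Submodule.zero_mem _, by simp⟩
  | add x y _ _ hx hy =>
    intro a
    obtain ⟨y₁, hy₁, h₁⟩ := hx a
    obtain ⟨y₂, hy₂, h₂⟩ := hy a
    refine ⟨y₁ + y₂, Submodule.add_mem _ hy₁ hy₂, ?_⟩
    rw [map_add, smul_add, ← h₁, ← h₂]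
    abel
  | smul b x _ hx =>
    intro a
    obtain ⟨y, hy, h⟩ := hx (a * b)
    exact ⟨y, hy, by rw [h, mul_smul]⟩

/-- Abstract form: if every proper stable subspace misses a vector fixed modulo it, the fixed
vectors span. -/
theorem span_fixed_eq_top (τ : K →+* K) (hτ : ∀ c, ∃ x, τ x - x = c) (φ : V →ₛₗ[τ] V)
    (H : ∀ U : Submodule K V, (∀ x ∈ U, φ x ∈ U) → U ≠ ⊤ → ∃ x, x ∉ U ∧ φ x - x ∈ U) :
    Submodule.span K {v | φ v = v} = ⊤ := by
  by_contra hne
  obtain ⟨x, hxU, hx⟩ := H _ (fixed_span_stable τ φ) hne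
  obtain ⟨y, hyU, hy⟩ := surj_on_span_fixed τ hτ φ _ hx
  apply hxU
  have hfix : φ (x - y) = x - y := by
    rw [map_sub]
    have : φ x - φ y = (φ x - x) - (φ y - y) + (x - y) := by abel
    rw [this, hy, sub_self, zero_add]
  have : x = (x - y) + y := by abel
  rw [this]
  exact Submodule.add_mem _ (Submodule.subset_span hfix) hyU

/-- Stable subspaces of a surjective semilinear endomorphism of a finite-dimensional space are
stable under preimages. -/
theorem mem_of_map_mem' [FiniteDimensional K V] (σ : K →+* K) (φ : V →ₛₗ[σ] V)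
    (hφ : Function.Surjective φ) (U : Submodule K V) (hU : ∀ x ∈ U, φ x ∈ U) {x : V}
    (hx : φ x ∈ U) : x ∈ U := by
  let Qf : ℕ → Submodule K V := fun j => Nat.rec U (fun _ Q => Q.comap φ) j
  have hQs : ∀ j, Qf (j + 1) = (Qf j).comap φ := fun j => rfl
  have hQmem : ∀ j (z : V), z ∈ Qf j ↔ (⇑φ)^[j] z ∈ U := by
    intro j
    induction j with
    | zero => intro z; exact Iff.rfl
    | succ j ih =>
      intro z
      rw [hQs, Submodule.mem_comap, ih, Function.iterate_succ_apply]
  have hmono : Monotone Qf := by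
    apply monotone_nat_of_le_succ
    intro j z hz
    have hz' := (hQmem j z).mp hz
    apply (hQmem (j + 1) z).mpr
    rw [Function.iterate_succ_apply']
    exact hU _ hz'
  obtain ⟨n, hn⟩ := monotone_stabilizes_iff_noetherian.mpr inferInstance ⟨Qf, hmono⟩
  obtain ⟨z, rfl⟩ := hφ.iterate n x
  have hz : z ∈ Qf (n + 1) := by
    apply (hQmem (n + 1) z).mpr
    rw [Function.iterate_succ_apply']
    exact hx
  have h2 : Qf n = Qf (n + 1) := hn (n + 1) (Nat.le_succ n)
  rw [← h2] at hz
  exact (hQmem n z).mp hz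

end Span

section Main

variable {k : Type*} [Field k] [IsAlgClosed k]
variable {V : Type*} [AddCommGroup V] [Module k V] [FiniteDimensional k V]

theorem artin_schreier (q : ℕ) (hq : 2 ≤ q) (c : k) : ∃ x : k, x ^ q - x = c := by
  have hdeg : (X ^ q - (X + C c) : k[X]).degree ≠ 0 := by
    have h1 : (X + C c : k[X]).degree < (X ^ q : k[X]).degree := by
      rw [degree_X_add_C, degree_X_pow]
      exact_mod_cast (by omega : 1 < q)
    rw [degree_sub_eq_left_of_degree_lt h1, degree_X_pow]
    exact_mod_cast (by omega : q ≠ 0)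
  obtain ⟨x, hx⟩ := IsAlgClosed.exists_root _ hdeg
  refine ⟨x, ?_⟩
  rw [IsRoot, eval_sub, eval_add, eval_pow, eval_X, eval_C] at hx
  linear_combination hx

/-- Lang's theorem for a `q`-Frobenius-semilinear bijection. -/
theorem lang_pos (σ : k →+* k) (q : ℕ) (hq : 2 ≤ q) (hσ : ∀ x, σ x = x ^ q) (φ : V →ₛₗ[σ] V)
    (hφ : Function.Bijective φ) :
    Submodule.span k {v | φ v = v} = ⊤ := by
  apply span_fixed_eq_top σ (fun c => by
    obtain ⟨x, hx⟩ := artin_schreier q hq c
    exact ⟨x, by rw [hσ, hx]⟩) φ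
  intro U hU hne
  have hUc : U ≤ U.comap φ := fun x hx => hU x hx
  haveI : Nontrivial (V ⧸ U) := Submodule.Quotient.nontrivial_iff.mpr hne
  have hinj : Function.Injective (U.mapQ U φ hUc) := by
    rw [injective_iff_map_eq_zero]
    intro z hz
    obtain ⟨x, rfl⟩ := Submodule.Quotient.mk_surjective U z
    have hz' : Submodule.Quotient.mk (p := U) (φ x) = 0 := hz
    rw [Submodule.Quotient.mk_eq_zero] at hz'
    rw [Submodule.Quotient.mk_eq_zero]
    exact mem_of_map_mem' σ φ hφ.2 U hU hz'
  obtain ⟨z, hz0, hz⟩ := exists_fixed_ne_zero σ q hq hσ (U.mapQ U φ hUc) hinj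
  obtain ⟨x, rfl⟩ := Submodule.Quotient.mk_surjective U z
  refine ⟨x, ?_, ?_⟩
  · intro hx
    exact hz0 ((Submodule.Quotient.mk_eq_zero U).mpr hx)
  · rw [← Submodule.Quotient.mk_eq_zero U, Submodule.Quotient.mk_sub]
    have : Submodule.Quotient.mk (p := U) (φ x) = (U.mapQ U φ hUc) (Submodule.Quotient.mk x) := rfl
    rw [this, hz, sub_self]

/-- Lang's theorem: for a ring automorphism `e` of `k` which is a `q`-Frobenius or the inverse of
one, the fixed vectors of an `e`-semilinear bijection span, and `φ - 1` is onto. -/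
theorem lang (e : k ≃+* k) (q : ℕ) (hq : 2 ≤ q)
    (he : (∀ x, e x = x ^ q) ∨ (∀ x, e.symm x = x ^ q)) (φ : V →ₛₗ[(e : k →+* k)] V)
    (hφ : Function.Bijective φ) :
    Submodule.span k {v | φ v = v} = ⊤ ∧ ∀ c : V, ∃ y : V, φ y - y = c := by
  have hAS : ∀ c : k, ∃ x, (e : k →+* k) x - x = c := by
    intro c
    rcases he with he | he
    · obtain ⟨x, hx⟩ := artin_schreier q hq c
      exact ⟨x, by rw [RingEquiv.coe_toRingHom, he, hx]⟩
    · obtain ⟨z, hz⟩ := artin_schreier q hq (-c)
      refine ⟨z ^ q, ?_⟩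
      rw [RingEquiv.coe_toRingHom, ← he z, RingEquiv.apply_symm_apply, he z]
      linear_combination -hz
  have hspan : Submodule.span k {v | φ v = v} = ⊤ := by
    rcases he with he | he
    · exact lang_pos (e : k →+* k) q hq (fun x => by rw [RingEquiv.coe_toRingHom, he]) φ hφ
    · -- pass to the inverse map
      let E := Equiv.ofBijective φ hφ
      let ψ : V →ₛₗ[(e.symm : k →+* k)] V :=
        { toFun := E.symm
          map_add' := fun x y => by
            apply hφ.1
            rw [φ.map_add]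
            change E (E.symm (x + y)) = E (E.symm x) + E (E.symm y)
            rw [E.apply_symm_apply, E.apply_symm_apply, E.apply_symm_apply]
          map_smul' := fun c x => by
            apply hφ.1
            rw [φ.map_smulₛₗ]
            change E (E.symm (c • x)) = _ • E (E.symm x)
            rw [E.apply_symm_apply, E.apply_symm_apply]
            simp }
      have hψ : Function.Bijective ψ := E.symm.bijective
      have h1 := lang_pos (e.symm : k →+* k) q hq
        (fun x => by rw [RingEquiv.coe_toRingHom, he]) ψ hψ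
      have h2 : {v | ψ v = v} = {v | φ v = v} := by
        ext v
        simp only [Set.mem_ofPred_eq]
        constructor
        · intro h
          have : E (E.symm v) = E v := congrArg E h
          rw [E.apply_symm_apply] at this
          exact this.symm
        · intro h
          change E.symm v = v
          rw [Equiv.symm_apply_eq]
          exact h.symm
      rw [← h2]
      exact h1
  refine ⟨hspan, fun c => ?_⟩
  obtain ⟨y, -, hy⟩ := surj_on_span_fixed (e : k →+* k) hAS φ c (by rw [hspan]; trivial)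
  exact ⟨y, hy⟩

end Main

end Groth.Agent.Lib.Helper22.Lang
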