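import Mathlib
import Groth.Agent.Lib.Helper22.LangModP

/-!
# `p⁻¹`-linear endomorphisms over an algebraically closed field: stable part and fixed basis
(helper22)
-/

set_option autoImplicit false
set_option linter.unusedSectionVars false

noncomputable section

namespace Groth.Agent.Lib.Helper22.Lang

section Semilinear

variable {k : Type*} [Field k] {W : Type*} [AddCommGroup W] [Module k W]

/-- A surjective semilinear endomorphism of a finite-dimensional vector space is injective. -/
theorem injective_of_surjective_semilinear [FiniteDimensional k W] {σ : k →+* k}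
    (T' : W →ₛₗ[σ] W) (hs : Function.Surjective T') : Function.Injective T' := by
  classical
  set b := Module.finBasis k W with hb
  choose y hy using fun i => hs (b i)
  have hli : LinearIndependent k y := by
    rw [Fintype.linearIndependent_iff]
    intro g hg i
    have h1 := congrArg T' hg
    rw [map_sum, map_zero] at h1
    simp only [map_smulₛₗ, hy] at h1
    have h2 := Fintype.linearIndependent_iff.mp b.linearIndependent (fun i => σ (g i)) h1 i
    exact (map_eq_zero σ).mp h2
  have htop : Submodule.span k (Set.range y) = ⊤ :=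
    hli.span_eq_top_of_card_eq_finrank' (by simp)
  rw [injective_iff_map_eq_zero]
  intro x hx
  have hxm : x ∈ Submodule.span k (Set.range y) := by rw [htop]; trivial
  obtain ⟨c, rfl⟩ := (Submodule.mem_span_range_iff_exists_fun k).mp hxm
  rw [map_sum] at hx
  simp only [map_smulₛₗ, hy] at hx
  have h2 := Fintype.linearIndependent_iff.mp b.linearIndependent (fun i => σ (c i)) hx
  apply Finset.sum_eq_zero
  intro i _
  rw [(map_eq_zero σ).mp (h2 i), zero_smul]

end Semilinear

section Main

variable (p : ℕ) [Fact p.Prime] {k : Type*} [Field k] [CharP k p] [IsAlgClosed k]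
variable {V : Type*} [AddCommGroup V] [Module k V] [FiniteDimensional k V]

theorem iterate_frobenius_smul (T : V →ₛₗ[(frobeniusEquiv k p).symm.toRingHom] V) (n : ℕ) :
    ∀ (c : k) (y : V), (⇑T)^[n] (((⇑(frobenius k p))^[n] c) • y) = c • (⇑T)^[n] y := by
  induction n with
  | zero => intro c y; rfl
  | succ n ih =>
    intro c y
    rw [Function.iterate_succ_apply, Function.iterate_succ_apply' (⇑(frobenius k p)),
      map_smulₛₗ]
    have h1 : (frobeniusEquiv k p).symm.toRingHom
        (frobenius k p ((⇑(frobenius k p))^[n] c)) = (⇑(frobenius k p))^[n] c := by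
      show (frobeniusEquiv k p).symm (frobenius k p ((⇑(frobenius k p))^[n] c)) = _
      rw [← frobeniusEquiv_apply, RingEquiv.symm_apply_apply]
    rw [h1, ih, Function.iterate_succ_apply]

theorem iterate_add (T : V →ₛₗ[(frobeniusEquiv k p).symm.toRingHom] V) (n : ℕ) (x y : V) :
    (⇑T)^[n] (x + y) = (⇑T)^[n] x + (⇑T)^[n] y := by
  induction n generalizing x y with
  | zero => rfl
  | succ n ih => rw [Function.iterate_succ_apply, map_add, ih, Function.iterate_succ_apply,
      Function.iterate_succ_apply]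

/-- The span of the image of `T^n` is the image of `T^n`. -/
theorem exists_of_mem_span_range (T : V →ₛₗ[(frobeniusEquiv k p).symm.toRingHom] V) (n : ℕ)
    {x : V} (hx : x ∈ Submodule.span k (Set.range ((⇑T)^[n]))) : ∃ y, (⇑T)^[n] y = x := by
  induction hx using Submodule.span_induction with
  | mem x hx => exact hx
  | zero =>
    refine ⟨0, ?_⟩
    have := iterate_frobenius_smul p T n 0 0
    rw [zero_smul, smul_zero] at this
    exact this
  | add x y _ _ hx hy =>
    obtain ⟨a, rfl⟩ := hx
    obtain ⟨b, rfl⟩ := hy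
    exact ⟨a + b, iterate_add p T n a b⟩
  | smul c x _ hx =>
    obtain ⟨a, rfl⟩ := hx
    exact ⟨_, iterate_frobenius_smul p T n c a⟩

/-- **Lang–Dieudonné for `p⁻¹`-linear maps**: `1 - T` is onto, and the stable part has a basis of
fixed vectors. -/
theorem sub_surjective_and_exists_fixed_basis
    (T : V →ₛₗ[(frobeniusEquiv k p).symm.toRingHom] V) :
    Function.Surjective (fun v : V => v - T v) ∧
    ∃ b : Module.Basis (Fin (Module.finrank k
        ↥(⨅ n : ℕ, Submodule.span k (Set.range ((⇑T)^[n]))))) k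
        ↥(⨅ n : ℕ, Submodule.span k (Set.range ((⇑T)^[n]))),
      ∀ i, T (b i : V) = (b i : V) := by
  classical
  set R : ℕ → Submodule k V := fun n => Submodule.span k (Set.range ((⇑T)^[n])) with hR
  have hRsucc : ∀ n, R (n + 1) ≤ R n := by
    intro n
    apply Submodule.span_le.mpr
    rintro _ ⟨y, rfl⟩
    exact Submodule.subset_span ⟨T y, (Function.iterate_succ_apply (⇑T) n y).symm⟩
  have hanti : Antitone R := antitone_nat_of_succ_le hRsucc
  obtain ⟨N, hN⟩ := IsArtinian.monotone_stabilizes
    (⟨fun n => OrderDual.toDual (R n), fun a b hab => hanti hab⟩ : ℕ →o (Submodule k V)ᵒᵈ)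
  have hN' : ∀ m, N ≤ m → R N = R m := fun m hm => congrArg OrderDual.ofDual (hN m hm)
  have hS : (⨅ n : ℕ, R n) = R N := by
    apply le_antisymm (iInf_le _ N)
    apply le_iInf
    intro n
    rcases le_total n N with h | h
    · exact hanti h
    · rw [hN' n h]
  have hmemS : ∀ x, x ∈ (⨅ n : ℕ, R n) ↔ ∃ y, (⇑T)^[N] y = x := by
    intro x
    rw [hS]
    exact ⟨fun hx => exists_of_mem_span_range p T N hx, fun ⟨y, hy⟩ =>
      Submodule.subset_span ⟨y, hy⟩⟩
  have hst : ∀ x ∈ (⨅ n : ℕ, R n), T x ∈ (⨅ n : ℕ, R n) := by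
    intro x hx
    obtain ⟨y, rfl⟩ := (hmemS x).mp hx
    exact (hmemS _).mpr ⟨T y, by rw [← Function.iterate_succ_apply,
      Function.iterate_succ_apply']⟩
  have hsurjS : ∀ x ∈ (⨅ n : ℕ, R n), ∃ y ∈ (⨅ n : ℕ, R n), T y = x := by
    intro x hx
    have hx' : x ∈ R (N + 1) := by
      rw [← hN' (N + 1) (Nat.le_succ N), ← hS]
      exact hx
    obtain ⟨y, rfl⟩ := exists_of_mem_span_range p T (N + 1) hx'
    exact ⟨(⇑T)^[N] y, (hmemS _).mpr ⟨y, rfl⟩, (Function.iterate_succ_apply' (⇑T) N y).symm⟩
  set T'' := T.restrict hst with hT''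
  have hT''s : Function.Surjective T'' := by
    rintro ⟨x, hx⟩
    obtain ⟨y, hy, hyx⟩ := hsurjS x hx
    exact ⟨⟨y, hy⟩, Subtype.ext hyx⟩
  have hT''b : Function.Bijective T'' := ⟨injective_of_surjective_semilinear T'' hT''s, hT''s⟩
  have he : ∀ x : k, (frobeniusEquiv k p).symm.symm x = x ^ p := by
    intro x
    rw [RingEquiv.symm_symm, frobeniusEquiv_apply, frobenius_def]
  obtain ⟨hspan, hsol⟩ := lang (frobeniusEquiv k p).symm p (Fact.out : p.Prime).two_le
    (Or.inr he) T'' hT''b
  constructor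
  · intro c
    have hc' : (⇑T)^[N] c ∈ (⨅ n : ℕ, R n) := (hmemS _).mpr ⟨c, rfl⟩
    obtain ⟨y, hy⟩ := hsol (-⟨(⇑T)^[N] c, hc'⟩)
    have hy' : T (y : V) - (y : V) = -(⇑T)^[N] c := congrArg Subtype.val hy
    refine ⟨∑ i ∈ Finset.range N, (⇑T)^[i] c + (y : V), ?_⟩
    show (∑ i ∈ Finset.range N, (⇑T)^[i] c + (y : V)) -
      T (∑ i ∈ Finset.range N, (⇑T)^[i] c + (y : V)) = c
    rw [map_add, map_sum]
    have h1 : ∑ i ∈ Finset.range N, T ((⇑T)^[i] c) = ∑ i ∈ Finset.range N, (⇑T)^[i + 1] c :=
      Finset.sum_congr rfl fun i _ => (Function.iterate_succ_apply' (⇑T) i c).symm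
    have h2 := Finset.sum_range_sub (fun i => (⇑T)^[i] c) N
    rw [Finset.sum_sub_distrib] at h2
    rw [h1]
    have h3 : (T (y : V)) = (y : V) - (⇑T)^[N] c := by
      have h5 := sub_eq_iff_eq_add.mp hy'
      rw [h5]; abel
    rw [h3]
    have h2' : ∑ x ∈ Finset.range N, (⇑T)^[x + 1] c - ∑ x ∈ Finset.range N, (⇑T)^[x] c =
        (⇑T)^[N] c - c := h2
    have h4 : ∑ i ∈ Finset.range N, (⇑T)^[i + 1] c =
        ∑ i ∈ Finset.range N, (⇑T)^[i] c + ((⇑T)^[N] c - c) := by
      rw [← h2']; abel
    rw [h4]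
    abel
  · have hv : Submodule.span k
        (Set.range (Subtype.val : {m : ↥(⨅ n : ℕ, R n) // T'' m = m} → ↥(⨅ n : ℕ, R n))) = ⊤ := by
      rw [Subtype.range_coe_subtype]
      exact hspan
    haveI : Module.FinitePresentation k ↥(⨅ n : ℕ, R n) :=
      Module.finitePresentation_of_projective _ _
    obtain ⟨κ, a, b, hb⟩ := Module.exists_basis_of_span_of_flat
      (Subtype.val : {m : ↥(⨅ n : ℕ, R n) // T'' m = m} → ↥(⨅ n : ℕ, R n)) hv
    haveI : Finite κ := Module.Finite.finite_basis b
    letI : Fintype κ := Fintype.ofFinite κ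
    have hcard : Fintype.card κ = Module.finrank k ↥(⨅ n : ℕ, R n) :=
      (Module.finrank_eq_card_basis b).symm
    refine ⟨b.reindex (Fintype.equivFinOfCardEq hcard), ?_⟩
    intro i
    rw [Module.Basis.reindex_apply, hb]
    exact congrArg Subtype.val (a _).2

end Main

end Groth.Agent.Lib.Helper22.Lang
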