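import Mathlib
import Groth.Prelude.Def_Isoc
import Groth.Agent.Lib.helper10.IsocLattice

/-!
# Lattice commensurability and orders of iterates in isocrystals (helper22)
-/

set_option autoImplicit false
set_option linter.unusedSectionVars false

open scoped Pointwise Isocrystal

universe u v

namespace Groth.Agent.Lib.Helper22.IsocF

open Groth.Agent.Lib.helper10.IsocL

section Basic

variable {p : ℕ} [Fact p.Prime] {k : Type u} [Field k] [CharP k p]
variable {N : Type v} [AddCommGroup N] [Module (WittVector p k) N] [Module K(p, k) N]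
  [IsScalarTower (WittVector p k) K(p, k) N]
variable {τ : K(p, k) →+* K(p, k)}

theorem mem_pPow_iff (r : ℤ) (M : Submodule (WittVector p k) N) (x : N) :
    x ∈ Isoc.pPow r M ↔ ∃ m ∈ M, ((p : K(p, k)) ^ r) • m = x :=
  Submodule.mem_smul_pointwise_iff_exists _ _ _

theorem natCast_pow_smul (j : ℕ) (m : N) :
    ((p : K(p, k)) ^ (j : ℤ)) • m = ((p : WittVector p k) ^ j) • m := by
  rw [zpow_natCast, ← map_natCast (algebraMap (WittVector p k) K(p, k)), ← map_pow,
    algebraMap_smul]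

theorem pPow_natCast_le (j : ℕ) (M : Submodule (WittVector p k) N) :
    Isoc.pPow (j : ℤ) M ≤ M := by
  intro x hx
  obtain ⟨m, hm, rfl⟩ := (mem_pPow_iff _ _ _).mp hx
  rw [natCast_pow_smul]
  exact M.smul_mem _ hm

theorem pPow_anti {r s : ℤ} (h : r ≤ s) (M : Submodule (WittVector p k) N) :
    Isoc.pPow s M ≤ Isoc.pPow r M := by
  obtain ⟨j, rfl⟩ := Int.le.dest h
  rw [← pPow_pPow]
  exact pPow_mono r (pPow_natCast_le j M)

theorem le_pPow_neg_of_pPow_le {c : ℤ} {M M' : Submodule (WittVector p k) N}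
    (h : Isoc.pPow c M ≤ M') : M ≤ Isoc.pPow (-c) M' := by
  have := pPow_mono (-c) h
  rwa [pPow_pPow, neg_add_cancel, pPow_zero] at this

/-- Maximality: if `F^n M ⊆ p^r M` and `ord = o` then `r ≤ o`. -/
theorem le_of_isOrd {M : Submodule (WittVector p k) N} {F : N →ₛₗ[τ] N} {n : ℕ} {o r : ℤ}
    (ho : Isoc.IsOrd M F n o) (hr : Isoc.latImg F n M ≤ Isoc.pPow r M) : r ≤ o := by
  by_contra hlt
  push Not at hlt
  exact ho.2 (hr.trans (pPow_anti (by omega) M))

/-- Comparison of orders for two commensurable submodules. -/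
theorem ord_sub_le {M₁ M₂ : Submodule (WittVector p k) N} {c₁ c₂ : ℤ}
    (h12 : Isoc.pPow c₁ M₁ ≤ M₂) (h21 : Isoc.pPow c₂ M₂ ≤ M₁) {F : N →ₛₗ[τ] N} {n : ℕ}
    {o₁ o₂ : ℤ} (ho₁ : Isoc.IsOrd M₁ F n o₁) (ho₂ : Isoc.IsOrd M₂ F n o₂) :
    o₁ - c₁ - c₂ ≤ o₂ := by
  apply le_of_isOrd ho₂
  calc Isoc.latImg F n M₂ ≤ Isoc.latImg F n (Isoc.pPow (-c₂) M₁) :=
        latImg_mono F n (le_pPow_neg_of_pPow_le h21)
    _ = Isoc.pPow (-c₂) (Isoc.latImg F n M₁) := latImg_pPow F n _ _
    _ ≤ Isoc.pPow (-c₂) (Isoc.pPow o₁ M₁) := pPow_mono _ ho₁.1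
    _ ≤ Isoc.pPow (-c₂) (Isoc.pPow o₁ (Isoc.pPow (-c₁) M₂)) :=
        pPow_mono _ (pPow_mono _ (le_pPow_neg_of_pPow_le h12))
    _ = Isoc.pPow (o₁ - c₁ - c₂) M₂ := by
        rw [pPow_pPow, pPow_pPow]; congr 1; ring

theorem lim_eq_of_abs_sub_le {o₁ o₂ : ℕ → ℤ} {C : ℤ}
    (h : ∀ n : ℕ, 1 ≤ n → |o₁ n - o₂ n| ≤ C) {l₁ l₂ : ℝ}
    (h₁ : Filter.Tendsto (fun n : ℕ => (o₁ n : ℝ) / n) Filter.atTop (nhds l₁))
    (h₂ : Filter.Tendsto (fun n : ℕ => (o₂ n : ℝ) / n) Filter.atTop (nhds l₂)) :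
    l₁ = l₂ := by
  have hsub := h₁.sub h₂
  have h0 : Filter.Tendsto (fun n : ℕ => (o₁ n : ℝ) / n - (o₂ n : ℝ) / n) Filter.atTop
      (nhds 0) := by
    refine squeeze_zero_norm' (a := fun n : ℕ => (C : ℝ) / n) ?_
      (tendsto_const_div_atTop_nhds_zero_nat (C : ℝ))
    filter_upwards [Filter.eventually_ge_atTop 1] with n hn
    have hn0 : (0 : ℝ) < n := by exact_mod_cast hn
    rw [← sub_div, Real.norm_eq_abs, abs_div, abs_of_pos hn0]
    gcongr
    have := h n hn
    exact_mod_cast this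
  have := tendsto_nhds_unique hsub h0
  linarith

end Basic

section Perfect

variable {p : ℕ} [Fact p.Prime] {k : Type u} [Field k] [CharP k p] [PerfectRing k p]
variable {N : Type v} [AddCommGroup N] [Module (WittVector p k) N] [Module K(p, k) N]
  [IsScalarTower (WittVector p k) K(p, k) N]

/-- Every element of `L` becomes integral after multiplication by a power of `p`. -/
theorem exists_pow_mul_eq_algebraMap (a : K(p, k)) :
    ∃ (j : ℕ) (w : WittVector p k), (p : K(p, k)) ^ j * a = algebraMap (WittVector p k) K(p, k) w := by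
  obtain ⟨x, y, hy, rfl⟩ := IsFractionRing.div_surjective (A := WittVector p k) a
  have hy0 : y ≠ 0 := nonZeroDivisors.ne_zero hy
  obtain ⟨m, b, hb⟩ := WittVector.exists_eq_pow_p_mul' y hy0
  refine ⟨m, x * ((b⁻¹ : (WittVector p k)ˣ) : WittVector p k), ?_⟩
  have hy' : algebraMap (WittVector p k) K(p, k) y ≠ 0 := by
    intro h0
    exact hy0 (IsFractionRing.injective (WittVector p k) K(p, k) (by rw [h0, map_zero]))
  rw [mul_div_assoc', div_eq_iff hy', ← map_mul,
    ← map_natCast (algebraMap (WittVector p k) K(p, k)), ← map_pow, ← map_mul]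
  congr 1
  have h1 : x * ((b⁻¹ : (WittVector p k)ˣ) : WittVector p k) * ((p : WittVector p k) ^ m * b) =
      (p : WittVector p k) ^ m * x * (((b⁻¹ : (WittVector p k)ˣ) : WittVector p k) * b) := by ring
  rw [hb, h1, Units.inv_mul, mul_one]

/-- If `M` spans `N` over `L`, every vector lands in `M` after multiplication by a power of `p`. -/
theorem exists_pow_smul_mem {M : Submodule (WittVector p k) N}
    (hM : Submodule.span K(p, k) (M : Set N) = ⊤) (x : N) :
    ∃ c : ℕ, ((p : K(p, k)) ^ (c : ℤ)) • x ∈ M := by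
  have hx : x ∈ Submodule.span K(p, k) (M : Set N) := by rw [hM]; trivial
  induction hx using Submodule.span_induction with
  | mem x hx => exact ⟨0, by simpa using hx⟩
  | zero => exact ⟨0, by simp⟩
  | add x y _ _ hx hy =>
    obtain ⟨c, hc⟩ := hx
    obtain ⟨d, hd⟩ := hy
    refine ⟨c + d, ?_⟩
    rw [smul_add]
    refine M.add_mem ?_ ?_
    · have : ((p : K(p, k)) ^ ((c + d : ℕ) : ℤ)) • x =
          ((p : WittVector p k) ^ d) • (((p : K(p, k)) ^ (c : ℤ)) • x) := by
        rw [← natCast_pow_smul, smul_smul, ← zpow_add₀ p_ne_zero,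
          show ((c + d : ℕ) : ℤ) = (d : ℤ) + (c : ℤ) by push_cast; ring]
      rw [this]; exact M.smul_mem _ hc
    · have : ((p : K(p, k)) ^ ((c + d : ℕ) : ℤ)) • y =
          ((p : WittVector p k) ^ c) • (((p : K(p, k)) ^ (d : ℤ)) • y) := by
        rw [← natCast_pow_smul, smul_smul, ← zpow_add₀ p_ne_zero,
          show ((c + d : ℕ) : ℤ) = (c : ℤ) + (d : ℤ) by push_cast; ring]
      rw [this]; exact M.smul_mem _ hd
  | smul a x _ hx =>
    obtain ⟨c, hc⟩ := hx
    obtain ⟨j, w, hw⟩ := exists_pow_mul_eq_algebraMap (p := p) (k := k) a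
    refine ⟨j + c, ?_⟩
    have : ((p : K(p, k)) ^ ((j + c : ℕ) : ℤ)) • a • x =
        w • (((p : K(p, k)) ^ (c : ℤ)) • x) := by
      rw [← algebraMap_smul K(p, k) w, ← hw, smul_smul, smul_smul]
      congr 1
      push_cast
      rw [zpow_add₀ p_ne_zero, zpow_natCast, zpow_natCast]
      ring
    rw [this]; exact M.smul_mem _ hc

/-- Commensurability: a finitely generated `W`-submodule is carried into a spanning one by a
power of `p`. -/
theorem exists_pPow_le {M₁ M₂ : Submodule (WittVector p k) N} (h₁ : M₁.FG)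
    (h₂ : Submodule.span K(p, k) (M₂ : Set N) = ⊤) :
    ∃ c : ℕ, Isoc.pPow (c : ℤ) M₁ ≤ M₂ := by
  induction M₁, h₁ using Submodule.fg_induction with
  | singleton x =>
    obtain ⟨c, hc⟩ := exists_pow_smul_mem h₂ x
    refine ⟨c, ?_⟩
    rw [pPow_span, Set.image_singleton, Submodule.span_le]
    simpa using hc
  | sup A B _ _ hA hB =>
    obtain ⟨c, hc⟩ := hA
    obtain ⟨d, hd⟩ := hB
    refine ⟨c + d, ?_⟩
    have : Isoc.pPow ((c + d : ℕ) : ℤ) (A ⊔ B) =
        Isoc.pPow ((c + d : ℕ) : ℤ) A ⊔ Isoc.pPow ((c + d : ℕ) : ℤ) B := by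
      unfold Isoc.pPow
      exact Submodule.smul_sup' _ _ _
    rw [this]
    refine sup_le ?_ ?_
    · exact (pPow_anti (by push_cast; omega) A).trans hc
    · exact (pPow_anti (by push_cast; omega) B).trans hd

end Perfect

end Groth.Agent.Lib.Helper22.IsocF
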