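import Mathlib
import Groth.Prelude.Def_Isoc
import Groth.Agent.Lib.helper10.IsocLattice
import Groth.Agent.Lib.Helper22.IsocFekete

/-!
# Existence of orders of iterates and of the first slope limit (helper22)
-/

set_option autoImplicit false
set_option linter.unusedSectionVars false

open scoped Pointwise Isocrystal

universe u v

namespace Groth.Agent.Lib.Helper22.IsocF

open Groth.Agent.Lib.helper10.IsocL

section Perfect

variable {p : ℕ} [Fact p.Prime] {k : Type u} [Field k] [CharP k p] [PerfectRing k p]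
variable {N : Type v} [AddCommGroup N] [Module (WittVector p k) N] [Module K(p, k) N]
  [IsScalarTower (WittVector p k) K(p, k) N]

/-- A ring endomorphism of `L` preserves `W`. -/
def PreservesW (τ : K(p, k) →+* K(p, k)) : Prop :=
  ∀ w : WittVector p k, ∃ w' : WittVector p k,
    τ (algebraMap (WittVector p k) K(p, k) w) = algebraMap (WittVector p k) K(p, k) w'

theorem preservesW_frob (a : ℤ) : PreservesW (Isoc.frob p k a) :=
  fun w => ⟨_, Isoc.frob_algebraMap p k a w⟩

theorem PreservesW.pow {τ : K(p, k) →+* K(p, k)} (h : PreservesW τ) (n : ℕ) :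
    PreservesW (τ ^ n) := by
  induction n with
  | zero => intro w; exact ⟨w, by simp⟩
  | succ n ih =>
    intro w
    obtain ⟨w', hw'⟩ := ih w
    obtain ⟨w'', hw''⟩ := h w'
    exact ⟨w'', by rw [pow_succ', RingHom.mul_def, RingHom.comp_apply, hw', hw'']⟩

variable {τ : K(p, k) →+* K(p, k)}

/-- A semilinear map whose twist preserves `W` maps `W`-spans into `W`-spans. -/
theorem image_span_subset (hτ : PreservesW τ) (G : N →ₛₗ[τ] N) (S : Set N) :
    G '' (Submodule.span (WittVector p k) S : Set N) ⊆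
      (Submodule.span (WittVector p k) (G '' S) : Set N) := by
  rintro _ ⟨x, hx, rfl⟩
  induction hx using Submodule.span_induction with
  | mem x hx => exact Submodule.subset_span ⟨x, hx, rfl⟩
  | zero => rw [map_zero]; exact Submodule.zero_mem _
  | add x y _ _ hx hy => rw [map_add]; exact Submodule.add_mem _ hx hy
  | smul w x _ hx =>
    obtain ⟨w', hw'⟩ := hτ w
    rw [← algebraMap_smul K(p, k) w x, map_smulₛₗ, hw', algebraMap_smul]
    exact Submodule.smul_mem _ _ hx

theorem iterate_image_span_subset (hτ : PreservesW τ) (F : N →ₛₗ[τ] N) (n : ℕ) (S : Set N) :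
    (⇑F)^[n] '' (Submodule.span (WittVector p k) S : Set N) ⊆
      (Submodule.span (WittVector p k) ((⇑F)^[n] '' S) : Set N) := by
  have := image_span_subset (hτ.pow n) (Isoc.iter F n) S
  simpa only [Isoc.coe_iter] using this

theorem latImg_span (hτ : PreservesW τ) (F : N →ₛₗ[τ] N) (n : ℕ) (S : Set N) :
    Isoc.latImg F n (Submodule.span (WittVector p k) S) =
      Submodule.span (WittVector p k) ((⇑F)^[n] '' S) := by
  apply le_antisymm
  · unfold Isoc.latImg
    rw [Submodule.span_le]
    exact iterate_image_span_subset hτ F n S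
  · unfold Isoc.latImg
    exact Submodule.span_mono (Set.image_mono Submodule.subset_span)

theorem latImg_add (hτ : PreservesW τ) (F : N →ₛₗ[τ] N) (m n : ℕ)
    (M : Submodule (WittVector p k) N) :
    Isoc.latImg F (m + n) M = Isoc.latImg F m (Isoc.latImg F n M) := by
  conv_rhs => rw [Isoc.latImg.eq_1 F n M, latImg_span hτ]
  unfold Isoc.latImg
  rw [← Set.image_comp, ← Function.iterate_add]

theorem latImg_fg (hτ : PreservesW τ) (F : N →ₛₗ[τ] N) (n : ℕ)
    {M : Submodule (WittVector p k) N} (hM : M.FG) : (Isoc.latImg F n M).FG := by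
  obtain ⟨s, rfl⟩ := hM
  rw [latImg_span hτ]
  exact Submodule.fg_span (s.finite_toSet.image _)

theorem span_latImg_one_eq_top (F : N →ₛₗ[τ] N) (hF : Function.Surjective F)
    {M : Submodule (WittVector p k) N} (hM : Submodule.span K(p, k) (M : Set N) = ⊤) :
    Submodule.span K(p, k) (Isoc.latImg F 1 M : Set N) = ⊤ := by
  rw [eq_top_iff]
  rintro y -
  obtain ⟨x, rfl⟩ := hF y
  have hx : x ∈ Submodule.span K(p, k) (M : Set N) := by rw [hM]; trivial
  induction hx using Submodule.span_induction with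
  | mem x hx =>
    apply Submodule.subset_span
    apply Submodule.subset_span
    exact ⟨x, hx, by simp⟩
  | zero => rw [map_zero]; exact Submodule.zero_mem _
  | add x y _ _ hx hy => rw [map_add]; exact Submodule.add_mem _ hx hy
  | smul a x _ hx => rw [map_smulₛₗ]; exact Submodule.smul_mem _ _ hx

/-- `p^(c n) M ⊆ F^n M` once `p^c M ⊆ F M`. -/
theorem pPow_mul_le_latImg (hτ : PreservesW τ) (F : N →ₛₗ[τ] N)
    {M : Submodule (WittVector p k) N} {c : ℤ} (hc : Isoc.pPow c M ≤ Isoc.latImg F 1 M) (n : ℕ) :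
    Isoc.pPow (c * n) M ≤ Isoc.latImg F n M := by
  induction n with
  | zero => simp [pPow_zero, latImg_zero]
  | succ n ih =>
    rw [latImg_add hτ]
    calc Isoc.pPow (c * ((n + 1 : ℕ) : ℤ)) M = Isoc.pPow c (Isoc.pPow (c * n) M) := by
          rw [pPow_pPow]; congr 1; push_cast; ring
      _ ≤ Isoc.pPow c (Isoc.latImg F n M) := pPow_mono _ ih
      _ = Isoc.latImg F n (Isoc.pPow c M) := (latImg_pPow F n c M).symm
      _ ≤ Isoc.latImg F n (Isoc.latImg F 1 M) := latImg_mono F n hc

/-- Nakayama: a non-zero finitely generated `M` is not contained in `p^j M` for `j ≥ 1`. -/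
theorem le_zero_of_le_pPow [Nontrivial N] {M : Submodule (WittVector p k) N} (hfg : M.FG)
    (hspan : Submodule.span K(p, k) (M : Set N) = ⊤) {j : ℤ} (h : M ≤ Isoc.pPow j M) : j ≤ 0 := by
  by_contra hj
  push Not at hj
  have h1 : M ≤ (Ideal.span {(p : WittVector p k)}) • M := by
    intro x hx
    obtain ⟨m, hm, rfl⟩ := (mem_pPow_iff _ _ _).mp (pPow_anti (by omega : (1 : ℤ) ≤ j) M (h hx))
    have : ((p : K(p, k)) ^ (1 : ℤ)) • m = (p : WittVector p k) • m := by
      rw [zpow_one, ← map_natCast (algebraMap (WittVector p k) K(p, k)), algebraMap_smul]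
    rw [this]
    exact Submodule.smul_mem_smul (Ideal.mem_span_singleton_self _) hm
  have hjac : Ideal.span {(p : WittVector p k)} ≤ Ideal.jacobson ⊥ := by
    rw [IsLocalRing.jacobson_eq_maximalIdeal ⊥ bot_ne_top, Ideal.span_singleton_le_iff_mem,
      IsLocalRing.mem_maximalIdeal]
    exact (WittVector.irreducible p).not_isUnit
  have hbot := Submodule.eq_bot_of_le_smul_of_le_jacobson_bot _ M hfg h1 hjac
  rw [hbot] at hspan
  simp only [Submodule.bot_coe, Submodule.span_singleton_eq_bot.mpr] at hspan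
  exact bot_ne_top hspan

/-- Existence of orders of all iterates with a linear upper bound. -/
theorem exists_isOrd_le [Nontrivial N] (hτ : PreservesW τ) (F : N →ₛₗ[τ] N)
    (hF : Function.Surjective F) {M : Submodule (WittVector p k) N} (hfg : M.FG)
    (hspan : Submodule.span K(p, k) (M : Set N) = ⊤) :
    ∃ (c : ℕ) (o : ℕ → ℤ), ∀ n : ℕ, Isoc.IsOrd M F n (o n) ∧ o n ≤ c * n := by
  obtain ⟨c, hc⟩ := exists_pPow_le (p := p) (k := k) hfg (span_latImg_one_eq_top F hF hspan)
  have hbound : ∀ (n : ℕ) (r : ℤ), Isoc.latImg F n M ≤ Isoc.pPow r M → r ≤ c * n := by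
    intro n r hr
    have h1 : Isoc.pPow ((c : ℤ) * n) M ≤ Isoc.pPow r M := (pPow_mul_le_latImg hτ F hc n).trans hr
    have h2 : M ≤ Isoc.pPow (r - c * n) M := by
      have := pPow_mono (-((c : ℤ) * n)) h1
      rwa [pPow_pPow, pPow_pPow, neg_add_cancel, pPow_zero, neg_add_eq_sub] at this
    have := le_zero_of_le_pPow hfg hspan h2
    linarith
  have hex : ∀ n : ℕ, ∃ r : ℤ, Isoc.IsOrd M F n r ∧ r ≤ c * n := by
    intro n
    obtain ⟨c', hc'⟩ := exists_pPow_le (p := p) (k := k) (latImg_fg hτ F n hfg) hspan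
    have hne : ∃ r : ℤ, Isoc.latImg F n M ≤ Isoc.pPow r M :=
      ⟨-(c' : ℤ), le_pPow_neg_of_pPow_le hc'⟩
    obtain ⟨r, hr, hmax⟩ := Int.exists_greatest_of_bdd (P := fun r => Isoc.latImg F n M ≤ Isoc.pPow r M)
      ⟨(c : ℤ) * n, fun z hz => hbound n z hz⟩ hne
    refine ⟨r, ⟨hr, fun h => ?_⟩, hbound n r hr⟩
    have := hmax _ h
    omega
  choose o ho using hex
  exact ⟨c, o, ho⟩

/-- Superadditivity of orders of iterates. -/
theorem isOrd_add_le (hτ : PreservesW τ) (F : N →ₛₗ[τ] N) {M : Submodule (WittVector p k) N}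
    {m n : ℕ} {om on omn : ℤ} (hm : Isoc.IsOrd M F m om) (hn : Isoc.IsOrd M F n on)
    (hmn : Isoc.IsOrd M F (m + n) omn) : om + on ≤ omn := by
  apply le_of_isOrd hmn
  rw [latImg_add hτ]
  calc Isoc.latImg F m (Isoc.latImg F n M) ≤ Isoc.latImg F m (Isoc.pPow on M) :=
        latImg_mono F m hn.1
    _ = Isoc.pPow on (Isoc.latImg F m M) := latImg_pPow F m on M
    _ ≤ Isoc.pPow on (Isoc.pPow om M) := pPow_mono _ hm.1
    _ = Isoc.pPow (om + on) M := by rw [pPow_pPow, add_comm]

/-- Fekete: a superadditive integer sequence with a linear upper bound has `o n / n` convergent. -/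
theorem exists_tendsto_div_of_superadditive {o : ℕ → ℤ} {c : ℕ}
    (hadd : ∀ m n : ℕ, o m + o n ≤ o (m + n)) (hle : ∀ n : ℕ, o n ≤ c * n) :
    ∃ lam : ℝ, Filter.Tendsto (fun n : ℕ => (o n : ℝ) / n) Filter.atTop (nhds lam) := by
  have hsub : Subadditive (fun n : ℕ => -(o n : ℝ)) := by
    intro m n
    have := hadd m n
    have h' : (o m : ℝ) + o n ≤ o (m + n) := by exact_mod_cast this
    simp only
    linarith
  have hbdd : BddBelow (Set.range fun n : ℕ => -(o n : ℝ) / n) := by
    refine ⟨-(c : ℝ), ?_⟩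
    rintro _ ⟨n, rfl⟩
    simp only
    rcases Nat.eq_zero_or_pos n with rfl | hn
    · simp
    · have hn0 : (0 : ℝ) < n := by exact_mod_cast hn
      rw [le_div_iff₀ hn0]
      have := hle n
      have h' : (o n : ℝ) ≤ c * n := by exact_mod_cast this
      linarith
  refine ⟨-hsub.lim, ?_⟩
  have := (hsub.tendsto_lim hbdd).neg
  refine this.congr (fun n => ?_)
  rw [neg_div, neg_neg]

end Perfect

end Groth.Agent.Lib.Helper22.IsocF
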