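import Mathlib
import Groth.Prelude.Def_Isoc
import Groth.Agent.Lib.helper10.IsocLattice
import Groth.Agent.Lib.Helper22.IsocFekete
import Groth.Agent.Lib.Helper22.IsocFekete2

/-!
# Determinants of iterates of semilinear maps and the standard lattice of a basis (helper22)
-/

set_option autoImplicit false
set_option linter.unusedSectionVars false

open scoped Pointwise Isocrystal

universe u v

namespace Groth.Agent.Lib.Helper22.IsocF

open Groth.Agent.Lib.helper10.IsocL

section Ord

variable {p : ℕ} [Fact p.Prime] {k : Type u} [Field k] [CharP k p] [PerfectRing k p]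

theorem zpow_mul_unit_lt_false {a b : ℤ} (hlt : a < b) {u u' : (WittVector p k)ˣ}
    (h : (p : K(p, k)) ^ a * algebraMap (WittVector p k) K(p, k) (u : WittVector p k) =
      (p : K(p, k)) ^ b * algebraMap (WittVector p k) K(p, k) (u' : WittVector p k)) : False := by
  obtain ⟨n, rfl⟩ : ∃ n : ℕ, b = a + ((n + 1 : ℕ) : ℤ) := ⟨(b - a - 1).toNat, by omega⟩
  rw [zpow_add₀ p_ne_zero, mul_assoc] at h
  have h2 := mul_left_cancel₀ (zpow_ne_zero a p_ne_zero) h
  rw [zpow_natCast, ← map_natCast (algebraMap (WittVector p k) K(p, k)), ← map_pow, ← map_mul] at h2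
  have h3 := IsFractionRing.injective (WittVector p k) K(p, k) h2
  have hdvd : (p : WittVector p k) ∣ (u : WittVector p k) :=
    ⟨(p : WittVector p k) ^ n * u', by rw [h3]; ring⟩
  exact (WittVector.irreducible p).not_isUnit (isUnit_of_dvd_unit hdvd u.isUnit)

theorem zpow_mul_unit_inj {a b : ℤ} {u u' : (WittVector p k)ˣ}
    (h : (p : K(p, k)) ^ a * algebraMap (WittVector p k) K(p, k) (u : WittVector p k) =
      (p : K(p, k)) ^ b * algebraMap (WittVector p k) K(p, k) (u' : WittVector p k)) : a = b := by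
  rcases lt_trichotomy a b with hlt | heq | hgt
  · exact (zpow_mul_unit_lt_false hlt h).elim
  · exact heq
  · exact (zpow_mul_unit_lt_false hgt h.symm).elim

theorem isOrdP_ne_zero {x : K(p, k)} {e : ℤ} (hx : Isoc.IsOrdP x e) : x ≠ 0 := by
  obtain ⟨u, rfl⟩ := hx
  refine mul_ne_zero (zpow_ne_zero e p_ne_zero) ?_
  intro h0
  exact u.ne_zero (IsFractionRing.injective (WittVector p k) K(p, k) (by rw [h0, map_zero]))

theorem isOrdP_unique {x : K(p, k)} {e e' : ℤ} (hx : Isoc.IsOrdP x e) (hx' : Isoc.IsOrdP x e') :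
    e = e' := by
  obtain ⟨u, hu⟩ := hx
  obtain ⟨u', hu'⟩ := hx'
  exact zpow_mul_unit_inj (hu.symm.trans hu')

theorem isOrdP_one : Isoc.IsOrdP (1 : K(p, k)) 0 := ⟨1, by simp⟩

theorem isOrdP_mul {x y : K(p, k)} {e f : ℤ} (hx : Isoc.IsOrdP x e) (hy : Isoc.IsOrdP y f) :
    Isoc.IsOrdP (x * y) (e + f) := by
  obtain ⟨u, rfl⟩ := hx
  obtain ⟨v, rfl⟩ := hy
  refine ⟨u * v, ?_⟩
  rw [zpow_add₀ p_ne_zero, Units.val_mul, map_mul]
  ring

/-- Every non-zero integral element has an order `≥ 0`. -/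
theorem isOrdP_algebraMap {w : WittVector p k} (hw : w ≠ 0) :
    ∃ n : ℕ, Isoc.IsOrdP (algebraMap (WittVector p k) K(p, k) w) n := by
  obtain ⟨n, u, rfl⟩ := WittVector.exists_eq_pow_p_mul' w hw
  exact ⟨n, u, by rw [map_mul, map_pow, map_natCast, zpow_natCast]⟩

theorem le_of_isOrdP_of_eq {x : K(p, k)} {e T : ℤ} (hx : Isoc.IsOrdP x e) {w : WittVector p k}
    (h : x = (p : K(p, k)) ^ T * algebraMap (WittVector p k) K(p, k) w) : T ≤ e := by
  have hw : w ≠ 0 := by
    rintro rfl
    exact isOrdP_ne_zero hx (by rw [h, map_zero, mul_zero])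
  obtain ⟨n, hn⟩ := isOrdP_algebraMap (p := p) (k := k) hw
  have hT : Isoc.IsOrdP ((p : K(p, k)) ^ T) T := ⟨1, by simp⟩
  have := isOrdP_unique hx (h ▸ isOrdP_mul hT hn)
  omega

theorem le_of_isOrdP_of_mul_eq {x : K(p, k)} {e T : ℤ} (hx : Isoc.IsOrdP x e)
    {w : WittVector p k}
    (h : x * algebraMap (WittVector p k) K(p, k) w = (p : K(p, k)) ^ T) : e ≤ T := by
  have hw : w ≠ 0 := by
    rintro rfl
    rw [map_zero, mul_zero] at h
    exact zpow_ne_zero T p_ne_zero h.symm
  obtain ⟨n, hn⟩ := isOrdP_algebraMap (p := p) (k := k) hw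
  have hT : Isoc.IsOrdP ((p : K(p, k)) ^ T) T := ⟨1, by simp⟩
  have := isOrdP_unique (h ▸ isOrdP_mul hx hn) hT
  omega

/-- A ring endomorphism of `L` maps units of `W` to units of `W`. -/
def PreservesUnits (τ : K(p, k) →+* K(p, k)) : Prop :=
  ∀ u : (WittVector p k)ˣ, ∃ u' : (WittVector p k)ˣ,
    τ (algebraMap (WittVector p k) K(p, k) (u : WittVector p k)) =
      algebraMap (WittVector p k) K(p, k) (u' : WittVector p k)

theorem preservesUnits_frob (a : ℤ) : PreservesUnits (Isoc.frob p k a) := fun u =>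
  ⟨Units.map ((WittVector.frobeniusEquiv p k ^ a : WittVector p k ≃+* WittVector p k) :
      WittVector p k →* WittVector p k) u, by rw [Isoc.frob_algebraMap]; rfl⟩

theorem isOrdP_map {τ : K(p, k) →+* K(p, k)} (hτ : PreservesUnits τ) {x : K(p, k)} {e : ℤ}
    (hx : Isoc.IsOrdP x e) : Isoc.IsOrdP (τ x) e := by
  obtain ⟨u, rfl⟩ := hx
  obtain ⟨u', hu'⟩ := hτ u
  exact ⟨u', by rw [map_mul, map_zpow₀, map_natCast, hu']⟩

end Ord

section Mat

variable {p : ℕ} [Fact p.Prime] {k : Type u} [Field k] [CharP k p] [PerfectRing k p]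
variable {N : Type v} [AddCommGroup N] [Module (WittVector p k) N] [Module K(p, k) N]
  [IsScalarTower (WittVector p k) K(p, k) N]
variable {τ : K(p, k) →+* K(p, k)} {h : ℕ} (b : Module.Basis (Fin h) K(p, k) N)

/-- The matrix of the `m`-th iterate of `F` in the basis `b`. -/
noncomputable def iterMat (F : N →ₛₗ[τ] N) (m : ℕ) : Matrix (Fin h) (Fin h) K(p, k) :=
  Matrix.of fun i j => b.repr ((⇑F)^[m] (b j)) i

theorem detCoeff_eq (F : N →ₛₗ[τ] N) : Isoc.detCoeff b F = (iterMat b F 1).det := by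
  unfold Isoc.detCoeff iterMat
  simp

theorem iterMat_zero (F : N →ₛₗ[τ] N) : iterMat b F 0 = 1 := by
  ext i j
  simp [iterMat, Matrix.one_apply, Finsupp.single_apply, eq_comm]

theorem repr_map (F : N →ₛₗ[τ] N) (x : N) (l : Fin h) :
    b.repr (F x) l = ∑ i, b.repr (F (b i)) l * τ (b.repr x i) := by
  have hx : F x = ∑ i, τ (b.repr x i) • F (b i) := by
    conv_lhs => rw [← b.sum_repr x]
    rw [map_sum]
    simp only [map_smulₛₗ]
  rw [hx, map_sum, Finsupp.finsetSum_apply]
  refine Finset.sum_congr rfl fun i _ => ?_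
  rw [map_smul, Finsupp.smul_apply, smul_eq_mul, mul_comm]

theorem iterMat_succ (F : N →ₛₗ[τ] N) (m : ℕ) :
    iterMat b F (m + 1) = iterMat b F 1 * (iterMat b F m).map τ := by
  ext l j
  simp only [iterMat, Matrix.of_apply, Matrix.mul_apply, Matrix.map_apply,
    Function.iterate_succ_apply']
  exact repr_map b F _ l

theorem det_iterMat_succ (F : N →ₛₗ[τ] N) (m : ℕ) :
    (iterMat b F (m + 1)).det = (iterMat b F 1).det * τ (iterMat b F m).det := by
  rw [iterMat_succ, Matrix.det_mul, RingHom.map_det, RingHom.mapMatrix_apply]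

theorem isOrdP_det_iterMat (hτ : PreservesUnits τ) (F : N →ₛₗ[τ] N) {d : ℤ}
    (hd : Isoc.IsOrdP (Isoc.detCoeff b F) d) (m : ℕ) :
    Isoc.IsOrdP (iterMat b F m).det (m * d) := by
  rw [detCoeff_eq] at hd
  induction m with
  | zero => rw [iterMat_zero, Matrix.det_one]; simpa using isOrdP_one (p := p) (k := k)
  | succ m ih =>
    rw [det_iterMat_succ]
    have := isOrdP_mul hd (isOrdP_map hτ ih)
    convert this using 1
    push_cast; ring

/-- The standard lattice of a basis. -/
noncomputable def stdLat : Submodule (WittVector p k) N := Submodule.span (WittVector p k) (Set.range b)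

theorem stdLat_fg : (stdLat b).FG := Submodule.fg_span (Set.finite_range b)

theorem span_stdLat : Submodule.span K(p, k) (stdLat b : Set N) = ⊤ := by
  rw [eq_top_iff, ← b.span_eq]
  exact Submodule.span_mono Submodule.subset_span

theorem repr_mem_of_mem_stdLat {x : N} (hx : x ∈ stdLat b) (i : Fin h) :
    ∃ w : WittVector p k, b.repr x i = algebraMap (WittVector p k) K(p, k) w := by
  unfold stdLat at hx
  induction hx using Submodule.span_induction with
  | mem x hx =>
    obtain ⟨j, rfl⟩ := hx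
    by_cases hij : j = i
    · exact ⟨1, by simp [hij]⟩
    · exact ⟨0, by simp [hij]⟩
  | zero => exact ⟨0, by simp⟩
  | add x y _ _ hx hy =>
    obtain ⟨w, hw⟩ := hx
    obtain ⟨w', hw'⟩ := hy
    exact ⟨w + w', by simp [hw, hw']⟩
  | smul c x _ hx =>
    obtain ⟨w, hw⟩ := hx
    refine ⟨c * w, ?_⟩
    rw [← algebraMap_smul K(p, k) c x, map_smul, Finsupp.smul_apply, hw, smul_eq_mul, map_mul]

theorem det_eq_of_latImg_le (F : N →ₛₗ[τ] N) {m : ℕ} {t : ℤ}
    (hle : Isoc.latImg F m (stdLat b) ≤ Isoc.pPow t (stdLat b)) :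
    ∃ w : WittVector p k, (iterMat b F m).det =
      (p : K(p, k)) ^ (t * h) * algebraMap (WittVector p k) K(p, k) w := by
  have h1 : ∀ j, ∃ x ∈ stdLat b, ((p : K(p, k)) ^ t) • x = (⇑F)^[m] (b j) := by
    intro j
    apply (mem_pPow_iff _ _ _).mp
    apply hle
    exact Submodule.subset_span ⟨b j, Submodule.subset_span (Set.mem_range_self j), rfl⟩
  choose x hx hxe using h1
  have h2 : ∀ j i, ∃ w : WittVector p k, b.repr (x j) i = algebraMap (WittVector p k) K(p, k) w :=
    fun j i => repr_mem_of_mem_stdLat b (hx j) i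
  choose Wm hWm using h2
  have hmat : iterMat b F m = ((p : K(p, k)) ^ t) •
      (Matrix.of fun i j => Wm j i).map (algebraMap (WittVector p k) K(p, k)) := by
    ext i j
    simp only [iterMat, Matrix.of_apply, Matrix.smul_apply, Matrix.map_apply, smul_eq_mul]
    rw [← hxe j, map_smul, Finsupp.smul_apply, smul_eq_mul, hWm]
  refine ⟨(Matrix.of fun i j => Wm j i).det, ?_⟩
  rw [hmat, Matrix.det_smul, Fintype.card_fin, RingHom.map_det, RingHom.mapMatrix_apply,
    zpow_mul, zpow_natCast]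

theorem det_mul_eq_of_pPow_le (hτ : PreservesW τ) (F : N →ₛₗ[τ] N) {m : ℕ} {t : ℤ}
    (hle : Isoc.pPow t (stdLat b) ≤ Isoc.latImg F m (stdLat b)) :
    ∃ w : WittVector p k, (iterMat b F m).det * algebraMap (WittVector p k) K(p, k) w =
      (p : K(p, k)) ^ (t * h) := by
  have h1 : ∀ j, ∃ c : Fin h → WittVector p k,
      ∑ i, c i • (⇑F)^[m] (b i) = ((p : K(p, k)) ^ t) • b j := by
    intro j
    have hmem : ((p : K(p, k)) ^ t) • b j ∈ Isoc.latImg F m (stdLat b) :=
      hle ((mem_pPow_iff _ _ _).mpr ⟨b j, Submodule.subset_span (Set.mem_range_self j), rfl⟩)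
    unfold stdLat at hmem
    rw [latImg_span hτ, ← Set.range_comp] at hmem
    exact (Submodule.mem_span_range_iff_exists_fun _).mp hmem
  choose c hc using h1
  have hmat : iterMat b F m *
      (Matrix.of fun i j => c j i).map (algebraMap (WittVector p k) K(p, k)) =
      ((p : K(p, k)) ^ t) • (1 : Matrix (Fin h) (Fin h) K(p, k)) := by
    ext l j
    simp only [iterMat, Matrix.mul_apply, Matrix.of_apply, Matrix.map_apply, Matrix.smul_apply,
      smul_eq_mul]
    have e1 : ∀ i, b.repr (c j i • (⇑F)^[m] (b i)) l =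
        b.repr ((⇑F)^[m] (b i)) l * algebraMap (WittVector p k) K(p, k) (c j i) := by
      intro i
      rw [← algebraMap_smul K(p, k) (c j i), map_smul, Finsupp.smul_apply, smul_eq_mul, mul_comm]
    have := congrArg (fun y => b.repr y l) (hc j)
    simp only [map_sum, Finsupp.finsetSum_apply, e1] at this
    rw [this, map_smul, Finsupp.smul_apply, smul_eq_mul, Module.Basis.repr_self,
      Finsupp.single_apply, Matrix.one_apply]
    simp [eq_comm]
  refine ⟨(Matrix.of fun i j => c j i).det, ?_⟩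
  have := congrArg Matrix.det hmat
  rw [Matrix.det_mul, Matrix.det_smul, Fintype.card_fin, Matrix.det_one, mul_one] at this
  rw [RingHom.map_det, RingHom.mapMatrix_apply, this, zpow_mul, zpow_natCast]

end Mat

end Groth.Agent.Lib.Helper22.IsocF
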