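import Mathlib
import Groth.Prelude.Def_Isoc
import Groth.Agent.Lib.helper10.IsocLattice
import Groth.Agent.Lib.Helper22.IsocFekete
import Groth.Agent.Lib.Helper22.IsocFekete2
import Groth.Agent.Lib.Helper22.IsocDet

/-!
# Orders of iterates on a lattice versus the order of the determinant (helper22)
-/

set_option autoImplicit false
set_option linter.unusedSectionVars false

open scoped Pointwise Isocrystal

universe u v

namespace Groth.Agent.Lib.Helper22.IsocF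

open Groth.Agent.Lib.helper10.IsocL

section

variable {p : ℕ} [Fact p.Prime] {k : Type u} [Field k] [CharP k p] [PerfectRing k p]
variable {N : Type v} [AddCommGroup N] [Module (WittVector p k) N] [Module K(p, k) N]
  [IsScalarTower (WittVector p k) K(p, k) N]
variable {τ : K(p, k) →+* K(p, k)}

theorem latImg_mul_le (hτ : PreservesW τ) (F : N →ₛₗ[τ] N) {M : Submodule (WittVector p k) N}
    {s : ℕ} {r : ℤ} (hle : Isoc.latImg F s M ≤ Isoc.pPow r M) (j : ℕ) :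
    Isoc.latImg F (s * j) M ≤ Isoc.pPow (r * j) M := by
  induction j with
  | zero => simp [pPow_zero, latImg_zero]
  | succ j ih =>
    rw [Nat.mul_succ, latImg_add hτ]
    calc Isoc.latImg F (s * j) (Isoc.latImg F s M) ≤ Isoc.latImg F (s * j) (Isoc.pPow r M) :=
          latImg_mono F _ hle
      _ = Isoc.pPow r (Isoc.latImg F (s * j) M) := latImg_pPow F _ r M
      _ ≤ Isoc.pPow r (Isoc.pPow (r * j) M) := pPow_mono _ ih
      _ = Isoc.pPow (r * ((j + 1 : ℕ) : ℤ)) M := by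
          rw [pPow_pPow]; congr 1; push_cast; ring

theorem pPow_mul_le_latImg_mul (hτ : PreservesW τ) (F : N →ₛₗ[τ] N)
    {M : Submodule (WittVector p k) N}
    {s : ℕ} {r : ℤ} (hle : Isoc.pPow r M ≤ Isoc.latImg F s M) (j : ℕ) :
    Isoc.pPow (r * j) M ≤ Isoc.latImg F (s * j) M := by
  induction j with
  | zero => simp [pPow_zero, latImg_zero]
  | succ j ih =>
    rw [Nat.mul_succ, latImg_add hτ]
    calc Isoc.pPow (r * ((j + 1 : ℕ) : ℤ)) M = Isoc.pPow r (Isoc.pPow (r * j) M) := by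
          rw [pPow_pPow]; congr 1; push_cast; ring
      _ ≤ Isoc.pPow r (Isoc.latImg F (s * j) M) := pPow_mono _ ih
      _ = Isoc.latImg F (s * j) (Isoc.pPow r M) := (latImg_pPow F _ r M).symm
      _ ≤ Isoc.latImg F (s * j) (Isoc.latImg F s M) := latImg_mono F _ hle

theorem latImg_le_of_commens (F : N →ₛₗ[τ] N) {M M₀ : Submodule (WittVector p k) N} {c₁ c₂ : ℤ}
    (h₁ : Isoc.pPow c₁ M₀ ≤ M) (h₂ : Isoc.pPow c₂ M ≤ M₀) {m : ℕ} {t : ℤ}
    (hle : Isoc.latImg F m M ≤ Isoc.pPow t M) :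
    Isoc.latImg F m M₀ ≤ Isoc.pPow (t - c₁ - c₂) M₀ := by
  calc Isoc.latImg F m M₀ ≤ Isoc.latImg F m (Isoc.pPow (-c₁) M) :=
        latImg_mono F m (le_pPow_neg_of_pPow_le h₁)
    _ = Isoc.pPow (-c₁) (Isoc.latImg F m M) := latImg_pPow F m _ _
    _ ≤ Isoc.pPow (-c₁) (Isoc.pPow t M) := pPow_mono _ hle
    _ ≤ Isoc.pPow (-c₁) (Isoc.pPow t (Isoc.pPow (-c₂) M₀)) :=
        pPow_mono _ (pPow_mono _ (le_pPow_neg_of_pPow_le h₂))
    _ = Isoc.pPow (t - c₁ - c₂) M₀ := by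
        rw [pPow_pPow, pPow_pPow]; congr 1; ring

theorem pPow_le_latImg_of_commens (F : N →ₛₗ[τ] N) {M M₀ : Submodule (WittVector p k) N}
    {c₁ c₂ : ℤ}
    (h₁ : Isoc.pPow c₁ M₀ ≤ M) (h₂ : Isoc.pPow c₂ M ≤ M₀) {m : ℕ} {t : ℤ}
    (hle : Isoc.pPow t M ≤ Isoc.latImg F m M) :
    Isoc.pPow (t + c₁ + c₂) M₀ ≤ Isoc.latImg F m M₀ := by
  calc Isoc.pPow (t + c₁ + c₂) M₀ = Isoc.pPow c₂ (Isoc.pPow t (Isoc.pPow c₁ M₀)) := by
        rw [pPow_pPow, pPow_pPow]; congr 1; ring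
    _ ≤ Isoc.pPow c₂ (Isoc.pPow t M) := pPow_mono _ (pPow_mono _ h₁)
    _ ≤ Isoc.pPow c₂ (Isoc.latImg F m M) := pPow_mono _ hle
    _ = Isoc.latImg F m (Isoc.pPow c₂ M) := (latImg_pPow F m _ _).symm
    _ ≤ Isoc.latImg F m M₀ := latImg_mono F m h₂

variable {h : ℕ} (b : Module.Basis (Fin h) K(p, k) N)

/-- `F^s M ⊆ p^r M` forces `r · h ≤ s · orddet F`. -/
theorem mul_height_le_of_latImg_le (hτW : PreservesW τ) (hτU : PreservesUnits τ)
    (F : N →ₛₗ[τ] N) {d : ℤ} (hd : Isoc.IsOrdP (Isoc.detCoeff b F) d)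
    {M : Submodule (WittVector p k) N} (hfg : M.FG)
    (hspan : Submodule.span K(p, k) (M : Set N) = ⊤) {s : ℕ} {r : ℤ}
    (hle : Isoc.latImg F s M ≤ Isoc.pPow r M) : r * h ≤ s * d := by
  obtain ⟨c₁, hc₁⟩ := exists_pPow_le (p := p) (k := k) (stdLat_fg b) hspan
  obtain ⟨c₂, hc₂⟩ := exists_pPow_le (p := p) (k := k) hfg (span_stdLat b)
  have key : ∀ j : ℕ, (r * j - c₁ - c₂) * h ≤ ((s * j : ℕ) : ℤ) * d := by
    intro j
    have h1 := latImg_le_of_commens F hc₁ hc₂ (latImg_mul_le hτW F hle j)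
    obtain ⟨w, hw⟩ := det_eq_of_latImg_le b F h1
    exact le_of_isOrdP_of_eq (isOrdP_det_iterMat b hτU F hd (s * j)) hw
  by_contra hlt
  push Not at hlt
  have := key (((c₁ : ℤ) + c₂) * h + 1).toNat
  have hj : ((((c₁ : ℤ) + c₂) * h + 1).toNat : ℤ) = ((c₁ : ℤ) + c₂) * h + 1 :=
    Int.toNat_of_nonneg (by positivity)
  push_cast at this
  rw [hj] at this
  nlinarith

/-- `p^r M ⊆ F^s M` forces `s · orddet F ≤ r · h`. -/
theorem le_mul_height_of_pPow_le (hτW : PreservesW τ) (hτU : PreservesUnits τ)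
    (F : N →ₛₗ[τ] N) {d : ℤ} (hd : Isoc.IsOrdP (Isoc.detCoeff b F) d)
    {M : Submodule (WittVector p k) N} (hfg : M.FG)
    (hspan : Submodule.span K(p, k) (M : Set N) = ⊤) {s : ℕ} {r : ℤ}
    (hle : Isoc.pPow r M ≤ Isoc.latImg F s M) : s * d ≤ r * h := by
  obtain ⟨c₁, hc₁⟩ := exists_pPow_le (p := p) (k := k) (stdLat_fg b) hspan
  obtain ⟨c₂, hc₂⟩ := exists_pPow_le (p := p) (k := k) hfg (span_stdLat b)
  have key : ∀ j : ℕ, ((s * j : ℕ) : ℤ) * d ≤ (r * j + c₁ + c₂) * h := by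
    intro j
    have h1 := pPow_le_latImg_of_commens F hc₁ hc₂ (pPow_mul_le_latImg_mul hτW F hle j)
    obtain ⟨w, hw⟩ := det_mul_eq_of_pPow_le b hτW F h1
    exact le_of_isOrdP_of_mul_eq (isOrdP_det_iterMat b hτU F hd (s * j)) hw
  by_contra hlt
  push Not at hlt
  have := key (((c₁ : ℤ) + c₂) * h + 1).toNat
  have hj : ((((c₁ : ℤ) + c₂) * h + 1).toNat : ℤ) = ((c₁ : ℤ) + c₂) * h + 1 :=
    Int.toNat_of_nonneg (by positivity)
  push_cast at this
  rw [hj] at this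
  nlinarith

end

end Groth.Agent.Lib.Helper22.IsocF
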