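import Mathlib
import Groth.Prelude.Def_Isoc
import Groth.Agent.Lib.helper10.IsocLattice
import Groth.Agent.Lib.Helper22.IsocFekete
import Groth.Agent.Lib.Helper22.IsocFekete2

/-!
# Sub-isocrystals: restriction of lattices to stable subspaces (helper22)
-/

set_option autoImplicit false
set_option linter.unusedSectionVars false

open scoped Pointwise Isocrystal

universe u v

namespace Groth.Agent.Lib.Helper22.IsocF

open Groth.Agent.Lib.helper10.IsocL

section

variable {p : ℕ} [Fact p.Prime] {k : Type u} [Field k] [CharP k p] [PerfectRing k p]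
variable {N : Type v} [AddCommGroup N] [Module (WittVector p k) N] [Module K(p, k) N]
  [IsScalarTower (WittVector p k) K(p, k) N]

/-- A ring endomorphism of `L` maps `W` onto `W`. -/
def SurjW (τ : K(p, k) →+* K(p, k)) : Prop :=
  ∀ w : WittVector p k, ∃ w' : WittVector p k,
    τ (algebraMap (WittVector p k) K(p, k) w') = algebraMap (WittVector p k) K(p, k) w

theorem surjW_frob (a : ℤ) : SurjW (Isoc.frob p k a) := fun w =>
  ⟨(WittVector.frobeniusEquiv p k ^ a : WittVector p k ≃+* WittVector p k).symm w, by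
    rw [Isoc.frob_algebraMap, RingEquiv.apply_symm_apply]⟩

theorem SurjW.pow {τ : K(p, k) →+* K(p, k)} (h : SurjW τ) (n : ℕ) : SurjW (τ ^ n) := by
  induction n with
  | zero => intro w; exact ⟨w, by simp⟩
  | succ n ih =>
    intro w
    obtain ⟨w', hw'⟩ := h w
    obtain ⟨w'', hw''⟩ := ih w'
    exact ⟨w'', by rw [pow_succ', RingHom.mul_def, RingHom.comp_apply, hw'', hw']⟩

variable {τ : K(p, k) →+* K(p, k)}

/-- When the twist maps `W` onto `W`, the image of a `W`-submodule is a `W`-submodule. -/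
theorem span_image_subset (hτ : SurjW τ) (G : N →ₛₗ[τ] N) (M : Submodule (WittVector p k) N) :
    (Submodule.span (WittVector p k) (G '' (M : Set N)) : Set N) ⊆ G '' (M : Set N) := by
  intro y hy
  induction hy using Submodule.span_induction with
  | mem y hy => exact hy
  | zero => exact ⟨0, M.zero_mem, map_zero G⟩
  | add x y _ _ hx hy =>
    obtain ⟨a, ha, rfl⟩ := hx
    obtain ⟨b, hb, rfl⟩ := hy
    exact ⟨a + b, M.add_mem ha hb, map_add G a b⟩
  | smul w x _ hx =>
    obtain ⟨a, ha, rfl⟩ := hx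
    obtain ⟨w', hw'⟩ := hτ w
    refine ⟨w' • a, M.smul_mem _ ha, ?_⟩
    rw [← algebraMap_smul K(p, k) w' a, map_smulₛₗ, hw', algebraMap_smul]

theorem mem_latImg_iff (hτ : SurjW τ) (F : N →ₛₗ[τ] N) (s : ℕ)
    (M : Submodule (WittVector p k) N) (y : N) :
    y ∈ Isoc.latImg F s M ↔ ∃ m ∈ M, (⇑F)^[s] m = y := by
  constructor
  · intro hy
    have := span_image_subset (hτ.pow s) (Isoc.iter F s) M
    simp only [Isoc.coe_iter] at this
    exact this hy
  · rintro ⟨m, hm, rfl⟩
    exact Submodule.subset_span ⟨m, hm, rfl⟩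

/-- In a finite-dimensional space, a stable subspace of a surjective semilinear map is also
stable under "preimages". -/
theorem mem_of_map_mem [IsNoetherian K(p, k) N] (F : N →ₛₗ[τ] N) (hF : Function.Surjective F)
    (P : Submodule K(p, k) N) (hP : ∀ x ∈ P, F x ∈ P) {x : N} (hx : F x ∈ P) : x ∈ P := by
  let Q : ℕ →o Submodule K(p, k) N :=
    ⟨fun j => Submodule.comap (Isoc.iter F j) P, by
      apply monotone_nat_of_le_succ
      intro j y hy
      simp only [Submodule.mem_comap, Isoc.iter_apply] at hy ⊢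
      rw [Function.iterate_succ_apply']
      exact hP _ hy⟩
  obtain ⟨n, hn⟩ := monotone_stabilizes_iff_noetherian.mpr inferInstance Q
  obtain ⟨z, rfl⟩ := hF.iterate n x
  have hz : z ∈ Q (n + 1) := by
    change (Isoc.iter F (n + 1)) z ∈ P
    rw [Isoc.iter_apply, Function.iterate_succ_apply']
    exact hx
  rw [← hn (n + 1) (Nat.le_succ n)] at hz
  exact hz

theorem mem_of_iterate_mem [IsNoetherian K(p, k) N] (F : N →ₛₗ[τ] N)
    (hF : Function.Surjective F)
    (P : Submodule K(p, k) N) (hP : ∀ x ∈ P, F x ∈ P) (s : ℕ) {x : N} (hx : (⇑F)^[s] x ∈ P) :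
    x ∈ P := by
  induction s generalizing x with
  | zero => exact hx
  | succ s ih =>
    rw [Function.iterate_succ_apply] at hx
    exact mem_of_map_mem F hF P hP (ih hx)

theorem coe_restrict_iterate (F : N →ₛₗ[τ] N) (P : Submodule K(p, k) N)
    (hP : ∀ x ∈ P, F x ∈ P) (s : ℕ) (x : P) :
    (((⇑(F.restrict hP))^[s] x : P) : N) = (⇑F)^[s] (x : N) := by
  induction s generalizing x with
  | zero => rfl
  | succ s ih => rw [Function.iterate_succ_apply, ih, Function.iterate_succ_apply]; rfl

/-- The restriction of a `W`-submodule of `N` to an `L`-subspace `P`. -/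
noncomputable def restrictLat (P : Submodule K(p, k) N) (M : Submodule (WittVector p k) N) :
    Submodule (WittVector p k) P :=
  M.comap (P.subtype.restrictScalars (WittVector p k))

theorem mem_restrictLat {P : Submodule K(p, k) N} {M : Submodule (WittVector p k) N} {x : P} :
    x ∈ restrictLat P M ↔ (x : N) ∈ M := Iff.rfl

theorem restrictLat_fg (P : Submodule K(p, k) N) {M : Submodule (WittVector p k) N}
    (hM : M.FG) : (restrictLat P M).FG := by
  apply Submodule.fg_of_fg_map_injective (P.subtype.restrictScalars (WittVector p k))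
    (by exact Subtype.val_injective)
  exact Submodule.FG.of_le hM (Submodule.map_comap_le _ M)

theorem span_restrictLat (P : Submodule K(p, k) N) {M : Submodule (WittVector p k) N}
    (hM : Submodule.span K(p, k) (M : Set N) = ⊤) :
    Submodule.span K(p, k) (restrictLat P M : Set P) = ⊤ := by
  rw [eq_top_iff]
  rintro x -
  obtain ⟨c, hc⟩ := exists_pow_smul_mem hM (x : N)
  have h1 : ((p : K(p, k)) ^ (c : ℤ)) • x ∈ restrictLat P M := by
    rw [mem_restrictLat]
    exact hc
  have h2 : x = ((p : K(p, k)) ^ (c : ℤ))⁻¹ • (((p : K(p, k)) ^ (c : ℤ)) • x) := by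
    rw [smul_smul, inv_mul_cancel₀ (zpow_ne_zero _ p_ne_zero), one_smul]
  rw [h2]
  exact Submodule.smul_mem _ _ (Submodule.subset_span h1)

/-- The lattice equation `F^s M = p^r M` restricts to stable subspaces. -/
theorem latImg_restrict_eq [IsNoetherian K(p, k) N] (hτ : SurjW τ) (F : N →ₛₗ[τ] N)
    (hF : Function.Surjective F) (P : Submodule K(p, k) N) (hP : ∀ x ∈ P, F x ∈ P)
    {M : Submodule (WittVector p k) N} {r : ℤ} {s : ℕ}
    (hFM : Isoc.latImg F s M = Isoc.pPow r M) :
    Isoc.latImg (F.restrict hP) s (restrictLat P M) = Isoc.pPow r (restrictLat P M) := by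
  apply le_antisymm
  · unfold Isoc.latImg
    rw [Submodule.span_le]
    rintro _ ⟨x, hx, rfl⟩
    have h1 : (⇑F)^[s] (x : N) ∈ Isoc.pPow r M := by
      rw [← hFM]
      exact Submodule.subset_span ⟨x, hx, rfl⟩
    obtain ⟨m, hm, hme⟩ := (mem_pPow_iff _ _ _).mp h1
    have hmP : m ∈ P := by
      have : m = ((p : K(p, k)) ^ r)⁻¹ • (⇑F)^[s] (x : N) := by
        rw [← hme, smul_smul, inv_mul_cancel₀ (zpow_ne_zero _ p_ne_zero), one_smul]
      rw [this, ← coe_restrict_iterate F P hP]
      exact P.smul_mem _ (Subtype.property _)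
    refine (mem_pPow_iff _ _ _).mpr ⟨⟨m, hmP⟩, hm, ?_⟩
    apply Subtype.ext
    rw [coe_restrict_iterate]
    exact hme
  · intro y hy
    obtain ⟨m', hm', rfl⟩ := (mem_pPow_iff _ _ _).mp hy
    have h1 : ((p : K(p, k)) ^ r) • (m' : N) ∈ Isoc.latImg F s M := by
      rw [hFM]
      exact (mem_pPow_iff _ _ _).mpr ⟨m', hm', rfl⟩
    obtain ⟨m₀, hm₀, hme⟩ := (mem_latImg_iff hτ F s M _).mp h1
    have hm₀P : m₀ ∈ P := by
      apply mem_of_iterate_mem F hF P hP s
      rw [hme]
      exact P.smul_mem _ m'.2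
    apply Submodule.subset_span
    refine ⟨⟨m₀, hm₀P⟩, hm₀, ?_⟩
    apply Subtype.ext
    rw [coe_restrict_iterate]
    exact hme

end

end Groth.Agent.Lib.Helper22.IsocF
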