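import Mathlib
import Groth.Prelude.Def_Isoc
import Groth.Agent.Lib.helper10.IsocLattice
import Groth.Agent.Lib.Helper22.IsocFekete
import Groth.Agent.Lib.Helper22.IsocFekete2
import Groth.Agent.Lib.Helper22.IsocDet
import Groth.Agent.Lib.Helper22.IsocDet2
import Groth.Agent.Lib.Helper22.IsocSub

/-!
# The standard isocrystals: lattice equation and existence of `orddet` (helper22)
-/

set_option autoImplicit false
set_option linter.unusedSectionVars false

open scoped Pointwise Isocrystal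

universe u v

namespace Groth.Agent.Lib.Helper22.IsocF

open Groth.Agent.Lib.helper10.IsocL

section

variable {p : ℕ} [Fact p.Prime] {k : Type u} [Field k] [CharP k p] [PerfectRing k p]

/-- Every non-zero element of `L` has an order. -/
theorem exists_isOrdP_of_ne_zero {x : K(p, k)} (hx : x ≠ 0) : ∃ e : ℤ, Isoc.IsOrdP x e := by
  obtain ⟨a, b, hb, rfl⟩ := IsFractionRing.div_surjective (A := WittVector p k) x
  have hb0 : b ≠ 0 := nonZeroDivisors.ne_zero hb
  have ha0 : a ≠ 0 := by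
    rintro rfl
    simp at hx
  obtain ⟨m, u, rfl⟩ := WittVector.exists_eq_pow_p_mul' a ha0
  obtain ⟨n, v, rfl⟩ := WittVector.exists_eq_pow_p_mul' b hb0
  refine ⟨(m : ℤ) - n, u * v⁻¹, ?_⟩
  have hv : algebraMap (WittVector p k) K(p, k) (v : WittVector p k) ≠ 0 := by
    intro h0
    exact v.ne_zero (IsFractionRing.injective (WittVector p k) K(p, k) (by rw [h0, map_zero]))
  have hvinv : algebraMap (WittVector p k) K(p, k) ((v⁻¹ : (WittVector p k)ˣ) : WittVector p k) =
      (algebraMap (WittVector p k) K(p, k) (v : WittVector p k))⁻¹ := by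
    apply eq_inv_of_mul_eq_one_left
    rw [← map_mul, Units.inv_mul, map_one]
  have hp0 : (p : K(p, k)) ≠ 0 := p_ne_zero
  rw [zpow_sub₀ hp0, zpow_natCast, zpow_natCast]
  simp only [Units.val_mul, map_mul, map_pow, map_natCast, hvinv]
  field_simp

variable {N : Type v} [AddCommGroup N] [Module (WittVector p k) N] [Module K(p, k) N]
  [IsScalarTower (WittVector p k) K(p, k) N]
variable {τ : K(p, k) →+* K(p, k)}

theorem det_iterMat_eq_zero_of_one {h : ℕ} (b : Module.Basis (Fin h) K(p, k) N) (F : N →ₛₗ[τ] N)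
    (h0 : (iterMat b F 1).det = 0) (m : ℕ) : (iterMat b F (m + 1)).det = 0 := by
  rw [det_iterMat_succ, h0, zero_mul]

/-- If `p^r M ⊆ F^s M` for some lattice and `s > 0`, the determinant coefficient has an order. -/
theorem exists_isOrdP_detCoeff {h : ℕ} (b : Module.Basis (Fin h) K(p, k) N) (hτW : PreservesW τ)
    (F : N →ₛₗ[τ] N) {M : Submodule (WittVector p k) N} (hfg : M.FG)
    (hspan : Submodule.span K(p, k) (M : Set N) = ⊤) {s : ℕ} (hs : 0 < s) {r : ℤ}
    (hle : Isoc.pPow r M ≤ Isoc.latImg F s M) : ∃ d : ℤ, Isoc.IsOrdP (Isoc.detCoeff b F) d := by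
  obtain ⟨c₁, hc₁⟩ := exists_pPow_le (p := p) (k := k) (stdLat_fg b) hspan
  obtain ⟨c₂, hc₂⟩ := exists_pPow_le (p := p) (k := k) hfg (span_stdLat b)
  have h1 := pPow_le_latImg_of_commens F hc₁ hc₂ hle
  obtain ⟨w, hw⟩ := det_mul_eq_of_pPow_le b hτW F h1
  apply exists_isOrdP_of_ne_zero
  rw [detCoeff_eq]
  intro h0
  obtain ⟨m, rfl⟩ : ∃ m, s = m + 1 := ⟨s - 1, by omega⟩
  rw [det_iterMat_eq_zero_of_one b F h0 m, zero_mul] at hw
  exact zpow_ne_zero _ p_ne_zero hw.symm

theorem frob_surjective (a : ℤ) : Function.Surjective (Isoc.frob p k a) := by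
  intro x
  refine ⟨Isoc.frob p k (-a) x, ?_⟩
  have : (Isoc.frob p k a).comp (Isoc.frob p k (-a)) = RingHom.id K(p, k) := by
    apply IsLocalization.ringHom_ext (nonZeroDivisors (WittVector p k))
    ext w
    simp only [RingHom.comp_apply, RingHom.id_apply, Isoc.frob_algebraMap]
    congr 1
    rw [zpow_neg]
    exact (WittVector.frobeniusEquiv p k ^ a).apply_symm_apply w
  exact congrArg (fun φ : K(p, k) →+* K(p, k) => φ x) this

end

section Std

variable {p : ℕ} [Fact p.Prime] {k : Type u} [Field k] [CharP k p] [PerfectRing k p]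
variable {τ : K(p, k) →+* K(p, k)}

theorem stdIsoc_surjective (hτ : Function.Surjective τ) (d : ℤ) (h : ℕ) :
    Function.Surjective (Isoc.stdIsoc τ d h) := by
  intro y
  choose z hz using fun j : Fin h =>
    hτ (y (finRotate h j) / (if (finRotate h j).val = 0 then (p : K(p, k)) ^ d else 1))
  refine ⟨z, ?_⟩
  ext i
  rw [Isoc.stdIsoc_apply, hz, Equiv.apply_symm_apply]
  have : (if i.val = 0 then (p : K(p, k)) ^ d else 1) ≠ 0 := by
    split_ifs
    · exact zpow_ne_zero _ p_ne_zero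
    · exact one_ne_zero
  field_simp

theorem stdIsoc_single (d : ℤ) (h : ℕ) (m : Fin h) :
    Isoc.stdIsoc τ d h (Pi.single m 1) =
      (if (finRotate h m).val = 0 then (p : K(p, k)) ^ d else 1) •
        (Pi.single (finRotate h m) 1 : Fin h → K(p, k)) := by
  ext i
  rw [Isoc.stdIsoc_apply, Pi.smul_apply, smul_eq_mul]
  by_cases hi : i = finRotate h m
  · subst hi
    rw [Equiv.symm_apply_apply, Pi.single_eq_same, Pi.single_eq_same, map_one]
  · have h1 : (finRotate h).symm i ≠ m := fun hc => hi (by rw [← hc, Equiv.apply_symm_apply])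
    rw [Pi.single_eq_of_ne h1, Pi.single_eq_of_ne hi, map_zero, mul_zero, mul_zero]

theorem stdIsoc_single_of_lt (d : ℤ) (n : ℕ) {m : ℕ} (hm : m < n) :
    Isoc.stdIsoc τ d (n + 1) (Pi.single (⟨m, by omega⟩ : Fin (n + 1)) 1) =
      (Pi.single (⟨m + 1, by omega⟩ : Fin (n + 1)) 1 : Fin (n + 1) → K(p, k)) := by
  rw [stdIsoc_single, finRotate_of_lt hm]
  simp

theorem stdIsoc_single_last (d : ℤ) (n : ℕ) :
    Isoc.stdIsoc τ d (n + 1) (Pi.single (⟨n, by omega⟩ : Fin (n + 1)) 1) =
      ((p : K(p, k)) ^ d) • (Pi.single (⟨0, by omega⟩ : Fin (n + 1)) 1 : Fin (n + 1) → K(p, k)) := by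
  rw [stdIsoc_single, finRotate_last']
  simp

theorem stdIsoc_iterate_zero (d : ℤ) (n : ℕ) {j : ℕ} (hj : j < n + 1) :
    (⇑(Isoc.stdIsoc τ d (n + 1)))^[j] (Pi.single (⟨0, by omega⟩ : Fin (n + 1)) 1) =
      (Pi.single (⟨j, hj⟩ : Fin (n + 1)) 1 : Fin (n + 1) → K(p, k)) := by
  induction j with
  | zero => rfl
  | succ j ih =>
    rw [Function.iterate_succ_apply', ih (by omega), stdIsoc_single_of_lt d n (by omega)]

theorem stdIsoc_iterate_single (d : ℤ) (n : ℕ) (i : Fin (n + 1)) :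
    (⇑(Isoc.stdIsoc τ d (n + 1)))^[n + 1] (Pi.single i 1) =
      ((p : K(p, k)) ^ d) • (Pi.single i 1 : Fin (n + 1) → K(p, k)) := by
  have h0 : (⇑(Isoc.stdIsoc τ d (n + 1)))^[n + 1] (Pi.single (⟨0, by omega⟩ : Fin (n + 1)) 1) =
      ((p : K(p, k)) ^ d) • (Pi.single (⟨0, by omega⟩ : Fin (n + 1)) 1 :
        Fin (n + 1) → K(p, k)) := by
    rw [Function.iterate_succ_apply', stdIsoc_iterate_zero d n (Nat.lt_succ_self n),
      stdIsoc_single_last]
  obtain ⟨i, hi⟩ := i
  rw [← stdIsoc_iterate_zero (τ := τ) d n hi, ← Function.iterate_add_apply, add_comm (n + 1) i,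
    Function.iterate_add_apply, h0, iterate_smul]

/-- The standard lattice of the standard isocrystal satisfies `F^h M = p^d M`. -/
theorem latImg_stdIsoc (hτ : PreservesW τ) (d : ℤ) (n : ℕ) :
    Isoc.latImg (Isoc.stdIsoc τ d (n + 1)) (n + 1) (stdLat (Pi.basisFun K(p, k) (Fin (n + 1)))) =
      Isoc.pPow d (stdLat (Pi.basisFun K(p, k) (Fin (n + 1)))) := by
  unfold stdLat
  rw [latImg_span hτ, pPow_span, ← Set.range_comp, ← Set.range_comp]
  congr 2
  ext1 i
  simp only [Function.comp_apply, Pi.basisFun_apply]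
  exact stdIsoc_iterate_single d n i

end Std

end Groth.Agent.Lib.Helper22.IsocF
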