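import Mathlib
import Groth.Prelude.Def_Isoc
import Groth.Agent.Lib.helper10.IsocLattice
import Groth.Agent.Lib.Helper22.IsocFekete
import Groth.Agent.Lib.Helper22.IsocFekete2
import Groth.Agent.Lib.Helper22.IsocDet
import Groth.Agent.Lib.Helper22.IsocDet2
import Groth.Agent.Lib.Helper22.IsocStd

/-!
# Basis independence of `orddet` and the equality case `F^m M = p^t M` (helper22)
-/

set_option autoImplicit false
set_option linter.unusedSectionVars false

open scoped Pointwise Isocrystal

universe u v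

noncomputable section

namespace Groth.Agent.Lib.Helper22.IsocF

open Groth.Agent.Lib.helper10.IsocL

section

variable {p : ℕ} [Fact p.Prime] {k : Type u} [Field k] [CharP k p] [PerfectRing k p]
variable {N : Type v} [AddCommGroup N] [Module (WittVector p k) N] [Module K(p, k) N]
  [IsScalarTower (WittVector p k) K(p, k) N]
variable {τ : K(p, k) →+* K(p, k)} {h : ℕ}

theorem toMatrix_mul_iterMat (b e : Module.Basis (Fin h) K(p, k) N) (F : N →ₛₗ[τ] N) :
    b.toMatrix e * iterMat e F 1 = iterMat b F 1 * (b.toMatrix e).map τ := by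
  ext l j
  simp only [Matrix.mul_apply, iterMat, Matrix.of_apply, Matrix.map_apply,
    Module.Basis.toMatrix_apply, Function.iterate_one]
  rw [Module.Basis.sum_repr_mul_repr b e (F (e j)) l]
  exact repr_map b F (e j) l

theorem det_toMatrix_ne_zero (b e : Module.Basis (Fin h) K(p, k) N) :
    (b.toMatrix e).det ≠ 0 := by
  intro h0
  have := congrArg Matrix.det (Module.Basis.toMatrix_mul_toMatrix_flip b e)
  rw [Matrix.det_mul, h0, zero_mul, Matrix.det_one] at this
  exact zero_ne_one this

/-- The order of the determinant coefficient does not depend on the basis. -/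
theorem isOrdP_detCoeff_of_basis (hτU : PreservesUnits τ) (b e : Module.Basis (Fin h) K(p, k) N)
    (F : N →ₛₗ[τ] N) {d : ℤ} (hd : Isoc.IsOrdP (Isoc.detCoeff b F) d) :
    Isoc.IsOrdP (Isoc.detCoeff e F) d := by
  have hP0 := det_toMatrix_ne_zero b e
  obtain ⟨m, hm⟩ := exists_isOrdP_of_ne_zero hP0
  have hdet := congrArg Matrix.det (toMatrix_mul_iterMat b e F)
  rw [Matrix.det_mul, Matrix.det_mul, ← detCoeff_eq, ← detCoeff_eq,
    ← RingHom.mapMatrix_apply, ← RingHom.map_det] at hdet
  have hx0 : Isoc.detCoeff e F ≠ 0 := by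
    intro h0
    rw [h0, mul_zero] at hdet
    exact mul_ne_zero (isOrdP_ne_zero hd) (isOrdP_ne_zero (isOrdP_map hτU hm)) hdet.symm
  obtain ⟨x, hx⟩ := exists_isOrdP_of_ne_zero hx0
  have h1 := isOrdP_mul hm hx
  have h2 := isOrdP_mul hd (isOrdP_map hτU hm)
  rw [hdet] at h1
  have := isOrdP_unique h1 h2
  have hxd : x = d := by omega
  rw [← hxd]
  exact hx

/-- A lattice is the standard lattice of some basis. -/
theorem exists_basis_stdLat_eq (M : Submodule (WittVector p k) N) [hM : M.IsLattice K(p, k)]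
    (hh : Module.finrank K(p, k) N = h) :
    ∃ e : Module.Basis (Fin h) K(p, k) N, stdLat e = M := by
  have hfr : Module.finrank (WittVector p k) M = h := by
    rw [← hh]
    exact congrArg Cardinal.toNat (Submodule.IsLattice.rank' K(p, k) M)
  let bW : Module.Basis (Fin h) (WittVector p k) M :=
    (Module.finBasis (WittVector p k) M).reindex (finCongr hfr)
  refine ⟨bW.extendOfIsLattice K(p, k), ?_⟩
  unfold stdLat
  have h1 : Set.range (bW.extendOfIsLattice K(p, k)) = M.subtype '' Set.range bW := by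
    rw [← Set.range_comp]
    congr 1
    ext1 i
    simp
  rw [h1, ← Submodule.map_span, bW.span_eq, Submodule.map_subtype_top]

theorem exists_matrix_of_latImg_le (b : Module.Basis (Fin h) K(p, k) N) (F : N →ₛₗ[τ] N)
    {m : ℕ} {t : ℤ}
    (hle : Isoc.latImg F m (stdLat b) ≤ Isoc.pPow t (stdLat b)) :
    ∃ Wm : Matrix (Fin h) (Fin h) (WittVector p k), iterMat b F m =
      ((p : K(p, k)) ^ t) • Wm.map (algebraMap (WittVector p k) K(p, k)) := by
  have h1 : ∀ j, ∃ x ∈ stdLat b, ((p : K(p, k)) ^ t) • x = (⇑F)^[m] (b j) := by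
    intro j
    apply (mem_pPow_iff _ _ _).mp
    apply hle
    exact Submodule.subset_span ⟨b j, Submodule.subset_span (Set.mem_range_self j), rfl⟩
  choose x hx hxe using h1
  have h2 : ∀ j i, ∃ w : WittVector p k, b.repr (x j) i = algebraMap (WittVector p k) K(p, k) w :=
    fun j i => repr_mem_of_mem_stdLat b (hx j) i
  choose Wm hWm using h2
  refine ⟨Matrix.of fun i j => Wm j i, ?_⟩
  ext i j
  simp only [iterMat, Matrix.of_apply, Matrix.smul_apply, Matrix.map_apply, smul_eq_mul]
  rw [← hxe j, map_smul, Finsupp.smul_apply, smul_eq_mul, hWm]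

/-- Equality case: if `F^m M ⊆ p^t M` and `t h = m · orddet F` then `F^m M = p^t M`. -/
theorem latImg_eq_pPow_of_le (hτW : PreservesW τ) (hτU : PreservesUnits τ)
    (b : Module.Basis (Fin h) K(p, k) N) (F : N →ₛₗ[τ] N) {d : ℤ}
    (hd : Isoc.IsOrdP (Isoc.detCoeff b F) d) (M : Submodule (WittVector p k) N)
    [hM : M.IsLattice K(p, k)] {m : ℕ} {t : ℤ}
    (hle : Isoc.latImg F m M ≤ Isoc.pPow t M) (htm : t * h = m * d) :
    Isoc.latImg F m M = Isoc.pPow t M := by
  have hh : Module.finrank K(p, k) N = h :=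
    (Module.finrank_eq_card_basis b).trans (Fintype.card_fin h)
  obtain ⟨e, rfl⟩ := exists_basis_stdLat_eq M hh
  have hd' := isOrdP_detCoeff_of_basis hτU b e F hd
  obtain ⟨Wm, hWm⟩ := exists_matrix_of_latImg_le e F hle
  obtain ⟨u, hu⟩ := isOrdP_det_iterMat e hτU F hd' m
  have hdet : (iterMat e F m).det = (p : K(p, k)) ^ (t * h) *
      algebraMap (WittVector p k) K(p, k) Wm.det := by
    rw [hWm, Matrix.det_smul, Fintype.card_fin, RingHom.map_det, RingHom.mapMatrix_apply,
      zpow_mul, zpow_natCast]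
  have hunit : IsUnit Wm.det := by
    rw [hdet, htm] at hu
    have := mul_left_cancel₀ (zpow_ne_zero _ p_ne_zero) hu
    rw [IsFractionRing.injective (WittVector p k) K(p, k) this]
    exact u.isUnit
  have hinv : Wm * Wm⁻¹ = 1 := Matrix.mul_nonsing_inv Wm hunit
  apply le_antisymm hle
  unfold stdLat
  rw [pPow_span, Submodule.span_le]
  rintro _ ⟨_, ⟨l, rfl⟩, rfl⟩
  have hmem : ∑ j, (Wm⁻¹ j l) • (⇑F)^[m] (e j) ∈
      Isoc.latImg F m (Submodule.span (WittVector p k) (Set.range e)) := by
    refine Submodule.sum_mem _ fun j _ => Submodule.smul_mem _ _ ?_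
    exact Submodule.subset_span ⟨e j, Submodule.subset_span (Set.mem_range_self j), rfl⟩
  suffices heq : ((p : K(p, k)) ^ t) • e l = ∑ j, (Wm⁻¹ j l) • (⇑F)^[m] (e j) by
    change ((p : K(p, k)) ^ t) • e l ∈ _
    rw [heq]
    exact hmem
  apply e.repr.injective
  ext i
  rw [map_smul, Finsupp.smul_apply, Module.Basis.repr_self, smul_eq_mul, map_sum,
    Finsupp.finsetSum_apply]
  have e1 : ∀ j, e.repr ((Wm⁻¹ j l) • (⇑F)^[m] (e j)) i =
      (p : K(p, k)) ^ t * algebraMap (WittVector p k) K(p, k) (Wm i j * Wm⁻¹ j l) := by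
    intro j
    rw [← algebraMap_smul K(p, k) (Wm⁻¹ j l), map_smul, Finsupp.smul_apply, smul_eq_mul]
    have : e.repr ((⇑F)^[m] (e j)) i = (iterMat e F m) i j := rfl
    rw [this, hWm, Matrix.smul_apply, Matrix.map_apply, smul_eq_mul, map_mul]
    ring
  simp only [e1]
  rw [← Finset.mul_sum, ← map_sum, ← Matrix.mul_apply, hinv, Matrix.one_apply,
    Finsupp.single_apply]
  by_cases hil : l = i
  · subst hil; simp
  · have : ¬ i = l := fun hc => hil hc.symm
    simp [hil, this]

end

end Groth.Agent.Lib.Helper22.IsocF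

end
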