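import Mathlib
import Groth.Prelude.Def_Isoc
import Groth.Agent.Lib.helper10.IsocLattice
import Groth.Agent.Lib.Helper22.IsocFekete
import Groth.Agent.Lib.Helper22.IsocFekete2

/-!
# Chains of `W`-submodules between `p X` and `X` for a lattice `X` (helper22)
-/

set_option autoImplicit false
set_option linter.unusedSectionVars false

open scoped Pointwise Isocrystal

universe u v

noncomputable section

namespace Groth.Agent.Lib.Helper22.IsocF

open Groth.Agent.Lib.helper10.IsocL

section

variable {p : ℕ} [Fact p.Prime] {k : Type u} [Field k] [CharP k p] [PerfectRing k p]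
variable {N : Type v} [AddCommGroup N] [Module (WittVector p k) N] [Module K(p, k) N]
  [IsScalarTower (WittVector p k) K(p, k) N]

theorem maximalIdeal_eq_span_p :
    IsLocalRing.maximalIdeal (WittVector p k) = Ideal.span {(p : WittVector p k)} :=
  (WittVector.irreducible p).maximalIdeal_eq

/-- Membership in `𝔪 • ⊤` inside the lattice `X` is membership in `p X`. -/
theorem mem_maximalIdeal_smul_top_iff (X : Submodule (WittVector p k) N) (z : X) :
    z ∈ (IsLocalRing.maximalIdeal (WittVector p k) • (⊤ : Submodule (WittVector p k) X)) ↔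
      (z : N) ∈ Isoc.pPow 1 X := by
  rw [maximalIdeal_eq_span_p, Submodule.ideal_span_singleton_smul, mem_pPow_iff]
  constructor
  · intro hz
    obtain ⟨y, -, rfl⟩ := (Submodule.mem_smul_pointwise_iff_exists _ _ _).mp hz
    refine ⟨y, y.2, ?_⟩
    rw [show (1 : ℤ) = ((1 : ℕ) : ℤ) from rfl, natCast_pow_smul, pow_one]
    rfl
  · rintro ⟨m, hm, hme⟩
    refine (Submodule.mem_smul_pointwise_iff_exists _ _ _).mpr ⟨⟨m, hm⟩, trivial, ?_⟩
    apply Subtype.ext
    rw [← hme, show (1 : ℤ) = ((1 : ℕ) : ℤ) from rfl, natCast_pow_smul, pow_one]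
    rfl

/-- The residue quotient of a lattice has length the dimension of the ambient space. -/
theorem length_quotient_lattice (X : Submodule (WittVector p k) N) [hX : X.IsLattice K(p, k)] :
    Module.length (WittVector p k)
      (X ⧸ (IsLocalRing.maximalIdeal (WittVector p k) • (⊤ : Submodule (WittVector p k) X))) =
      Module.finrank K(p, k) N := by
  have h1 := IsLocalRing.spanFinrank_eq_finrank_quotient X hX.fg
  have h2 : X.spanFinrank = Module.finrank K(p, k) N := by
    rw [← Submodule.spanFinrank_top, ← Module.finrank_eq_spanFinrank_of_free]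
    exact congrArg Cardinal.toNat (Submodule.IsLattice.rank' K(p, k) X)
  let : Module (IsLocalRing.ResidueField (WittVector p k))
      (X ⧸ (IsLocalRing.maximalIdeal (WittVector p k) • (⊤ : Submodule (WittVector p k) X))) :=
    inferInstanceAs (Module (WittVector p k ⧸ IsLocalRing.maximalIdeal (WittVector p k)) _)
  let : IsScalarTower (WittVector p k) (IsLocalRing.ResidueField (WittVector p k))
      (X ⧸ (IsLocalRing.maximalIdeal (WittVector p k) • (⊤ : Submodule (WittVector p k) X))) :=
    inferInstanceAs (IsScalarTower (WittVector p k)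
      (WittVector p k ⧸ IsLocalRing.maximalIdeal (WittVector p k)) _)
  have : Module.Finite (IsLocalRing.ResidueField (WittVector p k))
      (X ⧸ (IsLocalRing.maximalIdeal (WittVector p k) • (⊤ : Submodule (WittVector p k) X))) :=
    Module.Finite.of_restrictScalars_finite (WittVector p k) _ _
  rw [Module.length_eq_of_surjective (R := IsLocalRing.ResidueField (WittVector p k))
    IsLocalRing.residue_surjective, Module.length_eq_finrank]
  congr 1
  exact h1.symm.trans h2

/-- Pigeonhole: a chain of `h + 1` submodules between `p X` and `X` with all steps strict, where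
`h = dim N`, starts at `p X`. -/
theorem chain_bottom (X : Submodule (WittVector p k) N) [hX : X.IsLattice K(p, k)] (h : ℕ)
    (hh : Module.finrank K(p, k) N = h) (Lc : ℕ → Submodule (WittVector p k) N)
    (hlow : ∀ j, Isoc.pPow 1 X ≤ Lc j) (hup : ∀ j, j ≤ h → Lc j ≤ X)
    (hmono : ∀ j, j < h → Lc j ≤ Lc (j + 1)) (hne : ∀ j, j < h → Lc j ≠ Lc (j + 1)) :
    Lc 0 ≤ Isoc.pPow 1 X := by
  let U : ℕ → Submodule (WittVector p k)
      (X ⧸ (IsLocalRing.maximalIdeal (WittVector p k) • (⊤ : Submodule (WittVector p k) X))) :=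
    fun j =>
    ((Lc j).comap X.subtype).map (Submodule.mkQ _)
  have hmk : ∀ z : X, Submodule.mkQ
      (IsLocalRing.maximalIdeal (WittVector p k) • (⊤ : Submodule (WittVector p k) X)) z = 0 ↔
      (z : N) ∈ Isoc.pPow 1 X := fun z => by
    rw [Submodule.mkQ_apply, Submodule.Quotient.mk_eq_zero, mem_maximalIdeal_smul_top_iff]
  -- strictness
  have hlt : ∀ j, j < h → U j < U (j + 1) := by
    intro j hj
    refine lt_of_le_of_ne (Submodule.map_mono (Submodule.comap_mono (hmono j hj))) ?_
    intro heq
    apply hne j hj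
    apply le_antisymm (hmono j hj)
    intro x hx
    have hxX : x ∈ X := hup (j + 1) (by omega) hx
    have h1 : Submodule.mkQ _ (⟨x, hxX⟩ : X) ∈ U (j + 1) := ⟨⟨x, hxX⟩, hx, rfl⟩
    rw [← heq] at h1
    obtain ⟨y, hy, hye⟩ := h1
    have h2 : ((⟨x, hxX⟩ - y : X) : N) ∈ Isoc.pPow 1 X := by
      rw [← hmk, map_sub, hye, sub_self]
    have h3 : x - (y : N) ∈ Lc j := hlow j h2
    have h4 : x = (x - (y : N)) + (y : N) := by abel
    rw [h4]
    exact (Lc j).add_mem h3 hy
  -- heights
  have hfin : Module.length (WittVector p k)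
      (X ⧸ (IsLocalRing.maximalIdeal (WittVector p k) • (⊤ : Submodule (WittVector p k) X))) =
      h := by
    rw [length_quotient_lattice X, hh]
  have hheight : ∀ j, j ≤ h → Order.height (U 0) + (j : ℕ∞) ≤ Order.height (U j) := by
    intro j
    induction j with
    | zero => intro _; simp
    | succ j ih =>
      intro hj
      have := Order.height_add_one_le (hlt j (by omega))
      calc Order.height (U 0) + ((j + 1 : ℕ) : ℕ∞) = Order.height (U 0) + (j : ℕ∞) + 1 := by
            push_cast; rw [add_assoc]
        _ ≤ Order.height (U j) + 1 := by gcongr; exact ih (by omega)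
        _ ≤ Order.height (U (j + 1)) := this
  have htop : Order.height (U h) ≤ (h : ℕ∞) := by
    rw [← hfin, Module.length_eq_height]
    exact Order.height_mono le_top
  have h0 : Order.height (U 0) = 0 := by
    have h1 := (hheight h le_rfl).trans htop
    by_contra hne0
    have hpos : 1 ≤ Order.height (U 0) := Order.one_le_iff_pos.mpr (pos_iff_ne_zero.mpr hne0)
    have : (1 : ℕ∞) + (h : ℕ∞) ≤ (h : ℕ∞) := (add_le_add_left hpos _).trans h1
    have h2 : ((1 + h : ℕ) : ℕ∞) ≤ (h : ℕ∞) := by push_cast; exact this
    have := ENat.natCast_le_natCast.mp h2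
    omega
  have hbot : U 0 = ⊥ := by
    rw [Order.height_eq_zero, isMin_iff_eq_bot] at h0
    exact h0
  intro x hx
  have hxX : x ∈ X := hup 0 (Nat.zero_le h) hx
  have h1 : Submodule.mkQ _ (⟨x, hxX⟩ : X) ∈ U 0 := ⟨⟨x, hxX⟩, hx, rfl⟩
  rw [hbot, Submodule.mem_bot, hmk] at h1
  exact h1

end

end Groth.Agent.Lib.Helper22.IsocF

end
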