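import Mathlib
import Groth.Prelude.Def_Isoc
import Groth.Agent.Lib.helper10.IsocLattice
import Groth.Agent.Lib.Helper22.IsocFekete
import Groth.Agent.Lib.Helper22.IsocFekete2
import Groth.Agent.Lib.Helper22.IsocDet2

/-!
# The slope of an isoclinic lattice equation, its uniqueness, and transport along morphisms
(helper22)
-/

set_option autoImplicit false
set_option linter.unusedSectionVars false

open scoped Pointwise Isocrystal

universe u v w

namespace Groth.Agent.Lib.Helper22.IsocF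

open Groth.Agent.Lib.helper10.IsocL

section

variable {p : ℕ} [Fact p.Prime] {k : Type u} [Field k] [CharP k p] [PerfectRing k p]
variable {N : Type v} [AddCommGroup N] [Module (WittVector p k) N] [Module K(p, k) N]
  [IsScalarTower (WittVector p k) K(p, k) N]
variable {τ : K(p, k) →+* K(p, k)}

theorem isOrd_unique {M : Submodule (WittVector p k) N} {F : N →ₛₗ[τ] N} {n : ℕ} {o o' : ℤ}
    (h : Isoc.IsOrd M F n o) (h' : Isoc.IsOrd M F n o') : o = o' :=
  le_antisymm (le_of_isOrd h' h.1) (le_of_isOrd h h'.1)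

/-- If `F^s M = p^r M` on a non-zero space then `ord_M(F^(s j)) = r j`. -/
theorem isOrd_mul_of_latImg_eq [Nontrivial N] (hτW : PreservesW τ) (F : N →ₛₗ[τ] N)
    {M : Submodule (WittVector p k) N} (hfg : M.FG)
    (hspan : Submodule.span K(p, k) (M : Set N) = ⊤) {r : ℤ} {s : ℕ}
    (hFM : Isoc.latImg F s M = Isoc.pPow r M) (j : ℕ) : Isoc.IsOrd M F (s * j) (r * j) := by
  refine ⟨latImg_mul_le hτW F hFM.le j, fun hcon => ?_⟩
  have h1 : Isoc.pPow (r * j) M ≤ Isoc.pPow (r * j + 1) M :=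
    (pPow_mul_le_latImg_mul hτW F hFM.ge j).trans hcon
  have h2 : M ≤ Isoc.pPow 1 M := by
    have := pPow_mono (-(r * (j : ℤ))) h1
    rwa [pPow_pPow, pPow_pPow, neg_add_cancel, pPow_zero, neg_add_cancel_left] at this
  have := le_zero_of_le_pPow hfg hspan h2
  omega

/-- If `F^s M = p^r M` on a non-zero space, the orders of iterates exist and `o n / n → r / s`. -/
theorem exists_tendsto_of_latImg_eq [Nontrivial N] (hτW : PreservesW τ) (F : N →ₛₗ[τ] N)
    (hF : Function.Surjective F)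
    {M : Submodule (WittVector p k) N} (hfg : M.FG)
    (hspan : Submodule.span K(p, k) (M : Set N) = ⊤) {r : ℤ} {s : ℕ} (hs : 0 < s)
    (hFM : Isoc.latImg F s M = Isoc.pPow r M) :
    ∃ o : ℕ → ℤ, (∀ n : ℕ, Isoc.IsOrd M F n (o n)) ∧
      Filter.Tendsto (fun n : ℕ => (o n : ℝ) / n) Filter.atTop (nhds ((r : ℝ) / s)) := by
  obtain ⟨c, o, ho⟩ := exists_isOrd_le hτW F hF hfg hspan
  obtain ⟨lam, hlam⟩ := exists_tendsto_div_of_superadditive
    (fun m n => isOrd_add_le hτW F (ho m).1 (ho n).1 (ho (m + n)).1) (fun n => (ho n).2)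
  refine ⟨o, fun n => (ho n).1, ?_⟩
  have ho_eq : ∀ j : ℕ, o (s * j) = r * j := fun j =>
    isOrd_unique (ho (s * j)).1 (isOrd_mul_of_latImg_eq hτW F hfg hspan hFM j)
  have hsub : Filter.Tendsto (fun j : ℕ => s * j) Filter.atTop Filter.atTop :=
    Filter.tendsto_atTop_mono (fun j => Nat.le_mul_of_pos_left j hs) Filter.tendsto_id
  have h1 := hlam.comp hsub
  have h2 : Filter.Tendsto ((fun n : ℕ => (o n : ℝ) / n) ∘ fun j : ℕ => s * j) Filter.atTop
      (nhds ((r : ℝ) / s)) := by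
    refine tendsto_const_nhds.congr' ?_
    filter_upwards [Filter.eventually_ge_atTop 1] with j hj
    simp only [Function.comp_apply]
    rw [ho_eq j]
    have hj0 : (j : ℝ) ≠ 0 := by exact_mod_cast (by omega : j ≠ 0)
    have hs0 : (s : ℝ) ≠ 0 := by exact_mod_cast (by omega : s ≠ 0)
    push_cast
    field_simp
  rw [← tendsto_nhds_unique h1 h2]
  exact hlam

/-- Uniqueness of the slope of a non-zero isoclinic isocrystal. -/
theorem slope_unique [Nontrivial N] (hτW : PreservesW τ) (F : N →ₛₗ[τ] N)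
    (hF : Function.Surjective F)
    {M₁ M₂ : Submodule (WittVector p k) N} (hfg₁ : M₁.FG)
    (hspan₁ : Submodule.span K(p, k) (M₁ : Set N) = ⊤) (hfg₂ : M₂.FG)
    (hspan₂ : Submodule.span K(p, k) (M₂ : Set N) = ⊤)
    {r₁ r₂ : ℤ} {s₁ s₂ : ℕ} (hs₁ : 0 < s₁) (hs₂ : 0 < s₂)
    (h₁ : Isoc.latImg F s₁ M₁ = Isoc.pPow r₁ M₁) (h₂ : Isoc.latImg F s₂ M₂ = Isoc.pPow r₂ M₂) :
    (r₁ : ℚ) / s₁ = (r₂ : ℚ) / s₂ := by
  obtain ⟨o₁, ho₁, hl₁⟩ := exists_tendsto_of_latImg_eq hτW F hF hfg₁ hspan₁ hs₁ h₁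
  obtain ⟨o₂, ho₂, hl₂⟩ := exists_tendsto_of_latImg_eq hτW F hF hfg₂ hspan₂ hs₂ h₂
  obtain ⟨c₁, hc₁⟩ := exists_pPow_le (p := p) (k := k) hfg₁ hspan₂
  obtain ⟨c₂, hc₂⟩ := exists_pPow_le (p := p) (k := k) hfg₂ hspan₁
  have key : (r₁ : ℝ) / s₁ = (r₂ : ℝ) / s₂ := by
    refine lim_eq_of_abs_sub_le (C := (c₁ : ℤ) + c₂) (fun n _ => ?_) hl₁ hl₂
    have e1 := ord_sub_le hc₁ hc₂ (ho₁ n) (ho₂ n)
    have e2 := ord_sub_le hc₂ hc₁ (ho₂ n) (ho₁ n)
    rw [abs_le]
    constructor <;> linarith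
  have : (((r₁ : ℚ) / s₁ : ℚ) : ℝ) = (((r₂ : ℚ) / s₂ : ℚ) : ℝ) := by
    push_cast
    exact key
  exact Rat.cast_injective this

end

section Map

variable {p : ℕ} [Fact p.Prime] {k : Type u} [Field k] [CharP k p]
variable {N₁ : Type v} [AddCommGroup N₁] [Module (WittVector p k) N₁] [Module K(p, k) N₁]
  [IsScalarTower (WittVector p k) K(p, k) N₁]
variable {N₂ : Type w} [AddCommGroup N₂] [Module (WittVector p k) N₂] [Module K(p, k) N₂]
  [IsScalarTower (WittVector p k) K(p, k) N₂]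
variable {τ : K(p, k) →+* K(p, k)}

theorem iterate_intertwine {F₁ : N₁ →ₛₗ[τ] N₁} {F₂ : N₂ →ₛₗ[τ] N₂} (g : N₁ →ₗ[K(p, k)] N₂)
    (hg : ∀ x, g (F₁ x) = F₂ (g x)) (j : ℕ) (x : N₁) :
    (⇑F₂)^[j] (g x) = g ((⇑F₁)^[j] x) := by
  induction j with
  | zero => rfl
  | succ j ih => rw [Function.iterate_succ_apply', ih, Function.iterate_succ_apply', hg]

theorem latImg_map {F₁ : N₁ →ₛₗ[τ] N₁} {F₂ : N₂ →ₛₗ[τ] N₂} (g : N₁ →ₗ[K(p, k)] N₂)
    (hg : ∀ x, g (F₁ x) = F₂ (g x)) (j : ℕ) (M : Submodule (WittVector p k) N₁) :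
    Isoc.latImg F₂ j (M.map (g.restrictScalars (WittVector p k))) =
      (Isoc.latImg F₁ j M).map (g.restrictScalars (WittVector p k)) := by
  unfold Isoc.latImg
  rw [Submodule.map_span]
  congr 1
  ext y
  constructor
  · rintro ⟨_, ⟨x, hx, rfl⟩, rfl⟩
    exact ⟨(⇑F₁)^[j] x, ⟨x, hx, rfl⟩, (iterate_intertwine g hg j x).symm⟩
  · rintro ⟨_, ⟨x, hx, rfl⟩, rfl⟩
    exact ⟨g x, ⟨x, hx, rfl⟩, iterate_intertwine g hg j x⟩

theorem pPow_map (g : N₁ →ₗ[K(p, k)] N₂) (t : ℤ) (M : Submodule (WittVector p k) N₁) :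
    (Isoc.pPow t M).map (g.restrictScalars (WittVector p k)) =
      Isoc.pPow t (M.map (g.restrictScalars (WittVector p k))) := by
  ext y
  constructor
  · rintro ⟨x, hx, rfl⟩
    obtain ⟨x', hx', rfl⟩ := (Submodule.mem_smul_pointwise_iff_exists _ _ _).mp hx
    refine (Submodule.mem_smul_pointwise_iff_exists _ _ _).mpr ⟨g x', ⟨x', hx', rfl⟩, ?_⟩
    exact (map_smul g _ x').symm
  · intro hy
    obtain ⟨_, ⟨x', hx', rfl⟩, rfl⟩ := (Submodule.mem_smul_pointwise_iff_exists _ _ _).mp hy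
    refine ⟨((p : K(p, k)) ^ t) • x', Submodule.smul_mem_pointwise_smul _ _ _ hx', ?_⟩
    exact map_smul g _ x'

theorem span_map_eq_top (g : N₁ →ₗ[K(p, k)] N₂) (hg : Function.Surjective g)
    {M : Submodule (WittVector p k) N₁} (hM : Submodule.span K(p, k) (M : Set N₁) = ⊤) :
    Submodule.span K(p, k)
      ((M.map (g.restrictScalars (WittVector p k)) : Submodule (WittVector p k) N₂) : Set N₂) =
      ⊤ := by
  have h1 : ((M.map (g.restrictScalars (WittVector p k)) : Submodule (WittVector p k) N₂) :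
      Set N₂) = g '' (M : Set N₁) := rfl
  rw [h1, ← Submodule.map_span, hM, Submodule.map_top, LinearMap.range_eq_top.mpr hg]

end Map

end Groth.Agent.Lib.Helper22.IsocF
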