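import Mathlib
import Groth.Prelude.Def_Isoc
import Groth.Agent.Lib.helper10.IsocLattice
import Groth.Agent.Lib.Helper22.IsocFekete
import Groth.Agent.Lib.Helper22.IsocFekete2
import Groth.Agent.Lib.Helper22.IsocDet2
import Groth.Agent.Lib.Helper22.IsocSub
import Groth.Agent.Lib.Helper22.IsocSlope

/-!
# Sums of isoclinic sub-isocrystals of the same slope (helper22)
-/

set_option autoImplicit false
set_option linter.unusedSectionVars false

open scoped Pointwise Isocrystal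

universe u v

namespace Groth.Agent.Lib.Helper22.IsocF

open Groth.Agent.Lib.helper10.IsocL

section

variable {p : ℕ} [Fact p.Prime] {k : Type u} [Field k] [CharP k p] [PerfectRing k p]
variable {N : Type v} [AddCommGroup N] [Module (WittVector p k) N] [Module K(p, k) N]
  [IsScalarTower (WittVector p k) K(p, k) N]
variable {τ : K(p, k) →+* K(p, k)}

/-- The subspace `P` of `N` is spanned by a finitely generated `W`-submodule `M` of `N` with
`F^s M = p^r M`, `r = μ s`. -/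
def IsoIn (F : N →ₛₗ[τ] N) (μ : ℚ) (P : Submodule K(p, k) N) : Prop :=
  ∃ M : Submodule (WittVector p k) N, M.FG ∧ Submodule.span K(p, k) (M : Set N) = P ∧
    ∃ (r : ℤ) (s : ℕ), 0 < s ∧ (r : ℚ) = μ * s ∧ Isoc.latImg F s M = Isoc.pPow r M

theorem isoIn_of_isIsoclinic (F : N →ₛₗ[τ] N) (μ : ℚ) (P : Submodule K(p, k) N)
    (hP : ∀ x ∈ P, F x ∈ P) (h : Isoc.IsIsoclinic (F.restrict hP) μ) : IsoIn F μ P := by
  obtain ⟨M, hM, r, s, hs, hrs, hFM⟩ := h
  have hg : ∀ x : P, P.subtype ((F.restrict hP) x) = F (P.subtype x) := fun x => rfl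
  refine ⟨M.map (P.subtype.restrictScalars (WittVector p k)),
    hM.fg.map _, ?_, r, s, hs, ?_, ?_⟩
  · have h1 : ((M.map (P.subtype.restrictScalars (WittVector p k)) :
        Submodule (WittVector p k) N) : Set N) = P.subtype '' (M : Set P) := rfl
    rw [h1, ← Submodule.map_span, hM.span_eq_top, Submodule.map_top, Submodule.range_subtype]
  · have hs0 : (s : ℚ) ≠ 0 := by exact_mod_cast (by omega : s ≠ 0)
    rw [← hrs]
    field_simp
  · rw [latImg_map P.subtype hg, hFM, pPow_map]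

theorem isIsoclinic_of_isoIn [IsNoetherian K(p, k) N] (hτ : SurjW τ) (F : N →ₛₗ[τ] N)
    (hF : Function.Surjective F) (μ : ℚ) (P : Submodule K(p, k) N)
    (hP : ∀ x ∈ P, F x ∈ P) (h : IsoIn F μ P) : Isoc.IsIsoclinic (F.restrict hP) μ := by
  obtain ⟨M, hfg, hspan, r, s, hs, hrs, hFM⟩ := h
  refine ⟨restrictLat P M, ⟨restrictLat_fg P hfg, ?_⟩, r, s, hs, ?_,
    latImg_restrict_eq hτ F hF P hP hFM⟩
  · apply Submodule.map_injective_of_injective P.injective_subtype
    rw [Submodule.map_span, Submodule.map_top, Submodule.range_subtype]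
    have h1 : P.subtype '' (restrictLat P M : Set P) = (M : Set N) := by
      ext x
      constructor
      · rintro ⟨y, hy, rfl⟩
        exact hy
      · intro hx
        have hxP : x ∈ P := hspan ▸ Submodule.subset_span hx
        exact ⟨⟨x, hxP⟩, hx, rfl⟩
    rw [h1, hspan]
  · have hs0 : (s : ℚ) ≠ 0 := by exact_mod_cast (by omega : s ≠ 0)
    rw [hrs]
    field_simp

theorem latImg_sup (F : N →ₛₗ[τ] N) (s : ℕ) (A B : Submodule (WittVector p k) N) :
    Isoc.latImg F s (A ⊔ B) = Isoc.latImg F s A ⊔ Isoc.latImg F s B := by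
  apply le_antisymm
  · unfold Isoc.latImg
    rw [Submodule.span_le]
    rintro _ ⟨x, hx, rfl⟩
    obtain ⟨a, ha, b, hb, rfl⟩ := Submodule.mem_sup.mp hx
    have : (⇑F)^[s] (a + b) = (⇑F)^[s] a + (⇑F)^[s] b := (Isoc.iter F s).map_add a b
    rw [this]
    exact Submodule.add_mem _
      (Submodule.mem_sup_left (Submodule.subset_span ⟨a, ha, rfl⟩))
      (Submodule.mem_sup_right (Submodule.subset_span ⟨b, hb, rfl⟩))
  · exact sup_le (latImg_mono F s le_sup_left) (latImg_mono F s le_sup_right)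

theorem latImg_mul_eq (hτ : PreservesW τ) (F : N →ₛₗ[τ] N) {M : Submodule (WittVector p k) N}
    {s : ℕ} {r : ℤ} (h : Isoc.latImg F s M = Isoc.pPow r M) (j : ℕ) :
    Isoc.latImg F (s * j) M = Isoc.pPow (r * j) M :=
  le_antisymm (latImg_mul_le hτ F h.le j) (pPow_mul_le_latImg_mul hτ F h.ge j)

theorem IsoIn.sup (hτ : PreservesW τ) {F : N →ₛₗ[τ] N} {μ : ℚ} {P Q : Submodule K(p, k) N}
    (hP : IsoIn F μ P) (hQ : IsoIn F μ Q) : IsoIn F μ (P ⊔ Q) := by
  obtain ⟨M₁, hfg₁, hspan₁, r₁, s₁, hs₁, hrs₁, hFM₁⟩ := hP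
  obtain ⟨M₂, hfg₂, hspan₂, r₂, s₂, hs₂, hrs₂, hFM₂⟩ := hQ
  refine ⟨M₁ ⊔ M₂, hfg₁.sup hfg₂, ?_, r₁ * s₂, s₁ * s₂, Nat.mul_pos hs₁ hs₂, ?_, ?_⟩
  · rw [← hspan₁, ← hspan₂]
    apply le_antisymm
    · rw [Submodule.span_le]
      intro x hx
      obtain ⟨a, ha, b, hb, rfl⟩ := Submodule.mem_sup.mp hx
      exact Submodule.add_mem _ (Submodule.mem_sup_left (Submodule.subset_span ha))
        (Submodule.mem_sup_right (Submodule.subset_span hb))
    · exact sup_le (Submodule.span_mono (SetLike.coe_subset_coe.mpr le_sup_left))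
        (Submodule.span_mono (SetLike.coe_subset_coe.mpr le_sup_right))
  · push_cast
    rw [hrs₁]
    ring
  · have e : r₂ * (s₁ : ℤ) = r₁ * s₂ := by
      have : ((r₂ * (s₁ : ℤ) : ℤ) : ℚ) = ((r₁ * (s₂ : ℤ) : ℤ) : ℚ) := by
        push_cast
        rw [hrs₁, hrs₂]
        ring
      exact_mod_cast this
    have h1 := latImg_mul_eq hτ F hFM₁ s₂
    have h2 := latImg_mul_eq hτ F hFM₂ s₁
    rw [Nat.mul_comm s₂ s₁, e] at h2
    rw [latImg_sup, h1, h2]
    unfold Isoc.pPow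
    exact (Submodule.smul_sup' _ _ _).symm

theorem isoIn_bot (F : N →ₛₗ[τ] N) (μ : ℚ) : IsoIn F μ ⊥ := by
  refine ⟨⊥, Submodule.fg_bot, by simp, μ.num, μ.den, μ.den_pos, (Rat.mul_den_eq_num μ).symm, ?_⟩
  have h1 : Isoc.latImg F μ.den (⊥ : Submodule (WittVector p k) N) = ⊥ := by
    unfold Isoc.latImg
    rw [Submodule.span_eq_bot]
    rintro _ ⟨x, hx, rfl⟩
    rw [(Submodule.mem_bot _).mp hx]
    exact (Isoc.iter F μ.den).map_zero
  rw [h1]
  unfold Isoc.pPow
  exact (Submodule.smul_bot' _).symm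

theorem isoIn_finset_sup (hτ : PreservesW τ) (F : N →ₛₗ[τ] N) (μ : ℚ)
    (t : Finset (Submodule K(p, k) N)) (ht : ∀ P ∈ t, IsoIn F μ P) : IsoIn F μ (t.sup id) := by
  classical
  induction t using Finset.induction_on with
  | empty => rw [Finset.sup_empty]; exact isoIn_bot F μ
  | insert P t _ ih =>
    rw [Finset.sup_insert]
    exact (ht P (Finset.mem_insert_self P t)).sup hτ
      (ih fun Q hQ => ht Q (Finset.mem_insert_of_mem hQ))

/-- The slope-`μ` part is stable under `F`. -/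
theorem slopePart_stable (F : N →ₛₗ[τ] N) (μ : ℚ) :
    ∀ x ∈ Isoc.slopePart F μ, F x ∈ Isoc.slopePart F μ := by
  have : Isoc.slopePart F μ ≤ Submodule.comap F (Isoc.slopePart F μ) := by
    unfold Isoc.slopePart
    apply sSup_le
    rintro P ⟨hP, hiso⟩ x hx
    have hmem : P ∈ {P : Submodule K(p, k) N |
        ∃ hP : ∀ x ∈ P, F x ∈ P, Isoc.IsIsoclinic (F.restrict hP) μ} := ⟨hP, hiso⟩
    exact (le_sSup hmem) (hP x hx)
  exact fun x hx => this hx

theorem isoIn_slopePart [IsNoetherian K(p, k) N] (hτ : PreservesW τ) (F : N →ₛₗ[τ] N) (μ : ℚ) :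
    IsoIn F μ (Isoc.slopePart F μ) := by
  unfold Isoc.slopePart
  obtain ⟨t, hts, hsup⟩ := CompleteLattice.WellFoundedGT.isSupFiniteCompact
    (α := Submodule K(p, k) N)
    {P : Submodule K(p, k) N | ∃ hP : ∀ x ∈ P, F x ∈ P, Isoc.IsIsoclinic (F.restrict hP) μ}
  rw [hsup]
  apply isoIn_finset_sup hτ
  intro P hP
  obtain ⟨hPs, hiso⟩ := hts hP
  exact isoIn_of_isIsoclinic F μ P hPs hiso

end

end Groth.Agent.Lib.Helper22.IsocF
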