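import Mathlib
import Groth.Prelude.Def_Isoc
import Groth.Agent.Lib.helper10.IsocLattice
import Groth.Agent.Lib.Helper22.IsocFekete
import Groth.Agent.Lib.Helper22.IsocFekete2
import Groth.Agent.Lib.Helper22.IsocSum
import Groth.Agent.Lib.Helper22.IsocChain

/-!
# The lemma `F^(h+1) M ⊆ p⁻¹ M ⟹ effective` (helper22)
-/

set_option autoImplicit false
set_option linter.unusedSectionVars false

open scoped Pointwise Isocrystal

universe u v

noncomputable section

namespace Groth.Agent.Lib.Helper22.IsocF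

open Groth.Agent.Lib.helper10.IsocL

section

variable {p : ℕ} [Fact p.Prime] {k : Type u} [Field k] [CharP k p] [PerfectRing k p]
variable {N : Type v} [AddCommGroup N] [Module (WittVector p k) N] [Module K(p, k) N]
  [IsScalarTower (WittVector p k) K(p, k) N]
variable {τ : K(p, k) →+* K(p, k)}

theorem latImg_bot (F : N →ₛₗ[τ] N) (s : ℕ) :
    Isoc.latImg F s (⊥ : Submodule (WittVector p k) N) = ⊥ := by
  unfold Isoc.latImg
  rw [Submodule.span_eq_bot]
  rintro _ ⟨x, hx, rfl⟩
  rw [(Submodule.mem_bot _).mp hx]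
  exact (Isoc.iter F s).map_zero

theorem pPow_bot (r : ℤ) : Isoc.pPow r (⊥ : Submodule (WittVector p k) N) = ⊥ := by
  unfold Isoc.pPow
  exact Submodule.smul_bot' _

theorem pPow_sup (r : ℤ) (A B : Submodule (WittVector p k) N) :
    Isoc.pPow r (A ⊔ B) = Isoc.pPow r A ⊔ Isoc.pPow r B := by
  unfold Isoc.pPow
  exact Submodule.smul_sup' _ _ _

theorem pPow_fg (r : ℤ) {M : Submodule (WittVector p k) N} (hM : M.FG) : (Isoc.pPow r M).FG := by
  unfold Isoc.pPow
  rw [Submodule.pointwise_smul_def]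
  exact hM.map _

theorem latImg_finset_sup {ι : Type*} (F : N →ₛₗ[τ] N) (s : ℕ) (t : Finset ι)
    (f : ι → Submodule (WittVector p k) N) :
    Isoc.latImg F s (t.sup f) = t.sup (fun j => Isoc.latImg F s (f j)) := by
  classical
  induction t using Finset.induction_on with
  | empty => simp [latImg_bot]
  | insert a t _ ih => rw [Finset.sup_insert, Finset.sup_insert, latImg_sup, ih]

/-- `M + F M + ... + F^i M`. -/
def acc (F : N →ₛₗ[τ] N) (M : Submodule (WittVector p k) N) (i : ℕ) :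
    Submodule (WittVector p k) N :=
  (Finset.range (i + 1)).sup (fun j => Isoc.latImg F j M)

theorem le_acc (F : N →ₛₗ[τ] N) (M : Submodule (WittVector p k) N) {j i : ℕ} (hji : j ≤ i) :
    Isoc.latImg F j M ≤ acc F M i :=
  Finset.le_sup (f := fun j => Isoc.latImg F j M) (Finset.mem_range.mpr (by omega))

theorem self_le_acc (F : N →ₛₗ[τ] N) (M : Submodule (WittVector p k) N) (i : ℕ) :
    M ≤ acc F M i := by
  have := le_acc F M (Nat.zero_le i)
  rwa [latImg_zero] at this

theorem acc_le_iff (F : N →ₛₗ[τ] N) (M : Submodule (WittVector p k) N) (i : ℕ)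
    (Y : Submodule (WittVector p k) N) :
    acc F M i ≤ Y ↔ ∀ j, j ≤ i → Isoc.latImg F j M ≤ Y := by
  unfold acc
  rw [Finset.sup_le_iff]
  constructor
  · intro h j hj
    exact h j (Finset.mem_range.mpr (by omega))
  · intro h j hj
    exact h j (by have := Finset.mem_range.mp hj; omega)

theorem acc_mono_index (F : N →ₛₗ[τ] N) (M : Submodule (WittVector p k) N) {i i' : ℕ}
    (h : i ≤ i') : acc F M i ≤ acc F M i' :=
  (acc_le_iff F M i _).mpr fun _ hj => le_acc F M (hj.trans h)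

theorem acc_zero (F : N →ₛₗ[τ] N) (M : Submodule (WittVector p k) N) : acc F M 0 = M := by
  apply le_antisymm
  · rw [acc_le_iff]
    intro j hj
    obtain rfl : j = 0 := by omega
    rw [latImg_zero]
  · exact self_le_acc F M 0

theorem acc_succ (F : N →ₛₗ[τ] N) (M : Submodule (WittVector p k) N) (i : ℕ) :
    acc F M (i + 1) = acc F M i ⊔ Isoc.latImg F (i + 1) M := by
  unfold acc
  rw [Finset.range_add_one (n := i + 1), Finset.sup_insert, sup_comm]

theorem acc_fg (hτ : PreservesW τ) (F : N →ₛₗ[τ] N) {M : Submodule (WittVector p k) N}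
    (hM : M.FG) (i : ℕ) : (acc F M i).FG := by
  induction i with
  | zero => rw [acc_zero]; exact hM
  | succ i ih => rw [acc_succ]; exact ih.sup (latImg_fg hτ F _ hM)

theorem span_acc (F : N →ₛₗ[τ] N) {M : Submodule (WittVector p k) N}
    (hM : Submodule.span K(p, k) (M : Set N) = ⊤) (i : ℕ) :
    Submodule.span K(p, k) (acc F M i : Set N) = ⊤ := by
  rw [eq_top_iff, ← hM]
  exact Submodule.span_mono (SetLike.coe_subset_coe.mpr (self_le_acc F M i))

theorem latImg_acc (hτ : PreservesW τ) (F : N →ₛₗ[τ] N) (M : Submodule (WittVector p k) N)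
    (s i : ℕ) :
    Isoc.latImg F s (acc F M i) =
      (Finset.range (i + 1)).sup (fun j => Isoc.latImg F (s + j) M) := by
  unfold acc
  rw [latImg_finset_sup]
  congr 1
  ext1 j
  rw [latImg_add hτ]

theorem latImg_acc_le (hτ : PreservesW τ) (F : N →ₛₗ[τ] N) (M : Submodule (WittVector p k) N)
    (s i : ℕ) : Isoc.latImg F s (acc F M i) ≤ acc F M (s + i) := by
  rw [latImg_acc hτ]
  apply Finset.sup_le
  intro j hj
  exact le_acc F M (by have := Finset.mem_range.mp hj; omega)

theorem acc_acc_le (hτ : PreservesW τ) (F : N →ₛₗ[τ] N) (M : Submodule (WittVector p k) N)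
    (i j : ℕ) : acc F (acc F M i) j ≤ acc F M (i + j) := by
  rw [acc_le_iff]
  intro l hl
  exact (latImg_acc_le hτ F M l i).trans (acc_mono_index F M (by omega))

theorem acc_add_le (hτ : PreservesW τ) (F : N →ₛₗ[τ] N) (M : Submodule (WittVector p k) N)
    (i h : ℕ) : acc F M (i + (h + 1)) ≤ acc F M h ⊔ Isoc.latImg F (h + 1) (acc F M i) := by
  rw [acc_le_iff]
  intro j hj
  by_cases hjh : j ≤ h
  · exact (le_acc F M hjh).trans le_sup_left
  · obtain ⟨j', rfl⟩ : ∃ j', j = (h + 1) + j' := ⟨j - (h + 1), by omega⟩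
    rw [latImg_add hτ]
    exact (latImg_mono F _ (le_acc F M (by omega))).trans le_sup_right

theorem hyp_acc (hτ : PreservesW τ) (F : N →ₛₗ[τ] N) {M : Submodule (WittVector p k) N} {h : ℕ}
    (H : Isoc.latImg F (h + 1) M ≤ Isoc.pPow (-1) M) (i : ℕ) :
    Isoc.latImg F (h + 1) (acc F M i) ≤ Isoc.pPow (-1) (acc F M i) := by
  rw [latImg_acc hτ]
  apply Finset.sup_le
  intro j hj
  rw [add_comm, latImg_add hτ]
  calc Isoc.latImg F j (Isoc.latImg F (h + 1) M) ≤ Isoc.latImg F j (Isoc.pPow (-1) M) :=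
        latImg_mono F j H
    _ = Isoc.pPow (-1) (Isoc.latImg F j M) := latImg_pPow F j _ M
    _ ≤ Isoc.pPow (-1) (acc F M i) :=
        pPow_mono _ (le_acc F M (by have := Finset.mem_range.mp hj; omega))

/-- Dichotomy: either there is a stable lattice or `M ⊆ p (M + F M + ... + F^h M)`. -/
theorem stable_or_le (hτ : PreservesW τ) (F : N →ₛₗ[τ] N) (h : ℕ)
    (hh : Module.finrank K(p, k) N = h) {M : Submodule (WittVector p k) N} (hfg : M.FG)
    (hspan : Submodule.span K(p, k) (M : Set N) = ⊤)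
    (H : Isoc.latImg F (h + 1) M ≤ Isoc.pPow (-1) M) :
    (∃ M'' : Submodule (WittVector p k) N, M''.FG ∧
      Submodule.span K(p, k) (M'' : Set N) = ⊤ ∧ Isoc.latImg F 1 M'' ≤ M'') ∨
    M ≤ Isoc.pPow 1 (acc F M h) := by
  have hX : (acc F M h).IsLattice K(p, k) := ⟨acc_fg hτ F hfg h, span_acc F hspan h⟩
  have hstep : ∀ j, Isoc.latImg F 1 (Isoc.pPow 1 (acc F M h) ⊔ acc F M j) ≤
      Isoc.pPow 1 (acc F M h) ⊔ acc F M (j + 1) := by
    intro j
    rw [latImg_sup]
    apply sup_le
    · rw [latImg_pPow]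
      have h1 : Isoc.latImg F 1 (acc F M h) ≤ acc F M h ⊔ Isoc.pPow (-1) M := by
        calc Isoc.latImg F 1 (acc F M h) ≤ acc F M (1 + h) := latImg_acc_le hτ F M 1 h
          _ = acc F M (0 + (h + 1)) := by congr 1; omega
          _ ≤ acc F M h ⊔ Isoc.latImg F (h + 1) (acc F M 0) := acc_add_le hτ F M 0 h
          _ ≤ acc F M h ⊔ Isoc.pPow (-1) M := by
              rw [acc_zero]; exact sup_le_sup_left H _
      calc Isoc.pPow 1 (Isoc.latImg F 1 (acc F M h))
          ≤ Isoc.pPow 1 (acc F M h ⊔ Isoc.pPow (-1) M) := pPow_mono 1 h1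
        _ = Isoc.pPow 1 (acc F M h) ⊔ M := by
            rw [pPow_sup, pPow_pPow]; norm_num [pPow_zero]
        _ ≤ Isoc.pPow 1 (acc F M h) ⊔ acc F M (j + 1) :=
            sup_le_sup_left (self_le_acc F M (j + 1)) _
    · calc Isoc.latImg F 1 (acc F M j) ≤ acc F M (1 + j) := latImg_acc_le hτ F M 1 j
        _ = acc F M (j + 1) := by rw [add_comm]
        _ ≤ _ := le_sup_right
  by_cases hex : ∃ j, j < h ∧ Isoc.pPow 1 (acc F M h) ⊔ acc F M j =
      Isoc.pPow 1 (acc F M h) ⊔ acc F M (j + 1)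
  · left
    obtain ⟨j, _, he⟩ := hex
    refine ⟨Isoc.pPow 1 (acc F M h) ⊔ acc F M j,
      (pPow_fg 1 (acc_fg hτ F hfg h)).sup (acc_fg hτ F hfg j), ?_, ?_⟩
    · rw [eq_top_iff, ← hspan]
      exact Submodule.span_mono (SetLike.coe_subset_coe.mpr
        ((self_le_acc F M j).trans le_sup_right))
    · exact (hstep j).trans he.ge
  · right
    push Not at hex
    have key := chain_bottom (acc F M h) h hh
      (fun j => Isoc.pPow 1 (acc F M h) ⊔ acc F M j) (fun j => le_sup_left)
      (fun j hj => sup_le (by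
        have := pPow_natCast_le 1 (acc F M h)
        simpa using this) (acc_mono_index F M hj))
      (fun j _ => sup_le_sup_left (acc_mono_index F M (Nat.le_succ j)) _)
      (fun j hj => hex j hj)
    exact ((self_le_acc F M 0).trans le_sup_right).trans key

/-- If `F^(h+1) M ⊆ p⁻¹ M` for a lattice `M`, `h = dim N`, there is an `F`-stable lattice. -/
theorem exists_stable_of_latImg_succ_le (hτ : PreservesW τ) (F : N →ₛₗ[τ] N) (h : ℕ)
    (hh : Module.finrank K(p, k) N = h) {M : Submodule (WittVector p k) N} (hfg : M.FG)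
    (hspan : Submodule.span K(p, k) (M : Set N) = ⊤)
    (H : Isoc.latImg F (h + 1) M ≤ Isoc.pPow (-1) M) :
    ∃ M'' : Submodule (WittVector p k) N, M''.FG ∧
      Submodule.span K(p, k) (M'' : Set N) = ⊤ ∧ Isoc.latImg F 1 M'' ≤ M'' := by
  rcases subsingleton_or_nontrivial N with hsub | hnt
  · refine ⟨M, hfg, hspan, fun x _ => ?_⟩
    rw [Subsingleton.elim x 0]
    exact M.zero_mem
  by_contra hno
  have bad : ∀ i, acc F M i ≤ Isoc.pPow 1 (acc F M (i + h)) := fun i =>
    ((stable_or_le hτ F h hh (acc_fg hτ F hfg i) (span_acc F hspan i)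
      (hyp_acc hτ F H i)).resolve_left hno).trans (pPow_mono 1 (acc_acc_le hτ F M i h))
  have step1 : ∀ n : ℕ, M ≤ Isoc.pPow (n : ℤ) (acc F M (n * h)) := by
    intro n
    induction n with
    | zero => simpa [pPow_zero] using self_le_acc F M 0
    | succ n ih =>
      calc M ≤ Isoc.pPow (n : ℤ) (acc F M (n * h)) := ih
        _ ≤ Isoc.pPow (n : ℤ) (Isoc.pPow 1 (acc F M (n * h + h))) := pPow_mono _ (bad _)
        _ = Isoc.pPow ((n + 1 : ℕ) : ℤ) (acc F M ((n + 1) * h)) := by
            rw [pPow_pPow, Nat.succ_mul]; push_cast; rfl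
  have step2 : ∀ q : ℕ, acc F M (q * (h + 1) + h) ≤ Isoc.pPow (-(q : ℤ)) (acc F M h) := by
    intro q
    induction q with
    | zero => simp [pPow_zero]
    | succ q ih =>
      have e : (q + 1) * (h + 1) + h = (q * (h + 1) + h) + (h + 1) := by ring
      rw [e]
      refine (acc_add_le hτ F M _ h).trans (sup_le ?_ ?_)
      · have := pPow_anti (show -(((q + 1 : ℕ) : ℤ)) ≤ 0 by omega) (acc F M h)
        rwa [pPow_zero] at this
      · calc Isoc.latImg F (h + 1) (acc F M (q * (h + 1) + h))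
            ≤ Isoc.latImg F (h + 1) (Isoc.pPow (-(q : ℤ)) (acc F M h)) := latImg_mono F _ ih
          _ = Isoc.pPow (-(q : ℤ)) (Isoc.latImg F (h + 1) (acc F M h)) := latImg_pPow F _ _ _
          _ ≤ Isoc.pPow (-(q : ℤ)) (Isoc.pPow (-1) (acc F M h)) :=
              pPow_mono _ (hyp_acc hτ F H h)
          _ = Isoc.pPow (-(((q + 1 : ℕ) : ℤ))) (acc F M h) := by
              rw [pPow_pPow]; congr 1; push_cast; ring
  have step3 : ∀ m : ℕ, M ≤ Isoc.pPow (m : ℤ) (acc F M h) := by
    intro m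
    calc M ≤ Isoc.pPow (((h + 1) * m : ℕ) : ℤ) (acc F M ((h + 1) * m * h)) := step1 _
      _ ≤ Isoc.pPow (((h + 1) * m : ℕ) : ℤ) (acc F M ((m * h) * (h + 1) + h)) :=
          pPow_mono _ (acc_mono_index F M (by nlinarith))
      _ ≤ Isoc.pPow (((h + 1) * m : ℕ) : ℤ) (Isoc.pPow (-((m * h : ℕ) : ℤ)) (acc F M h)) :=
          pPow_mono _ (step2 _)
      _ = Isoc.pPow (m : ℤ) (acc F M h) := by
          rw [pPow_pPow]; congr 1; push_cast; ring
  obtain ⟨c, hc⟩ := exists_pPow_le (p := p) (k := k) (acc_fg hτ F hfg h) hspan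
  have h1 : Isoc.pPow (c : ℤ) (acc F M h) ≤ Isoc.pPow ((c + 1 : ℕ) : ℤ) (acc F M h) :=
    hc.trans (step3 (c + 1))
  have h2 : acc F M h ≤ Isoc.pPow 1 (acc F M h) := by
    have := pPow_mono (-(c : ℤ)) h1
    rw [pPow_pPow, pPow_pPow, neg_add_cancel, pPow_zero] at this
    convert this using 2
    push_cast; ring
  have := le_zero_of_le_pPow (acc_fg hτ F hfg h) (span_acc F hspan h) h2
  omega

end

end Groth.Agent.Lib.Helper22.IsocF

end
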