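import Mathlib
import Groth.Prelude.Def_Isoc
import Groth.Agent.Lib.helper10.IsocLattice
import Groth.Agent.Lib.Helper22.IsocFekete
import Groth.Agent.Lib.Helper22.IsocFekete2
import Groth.Agent.Lib.Helper22.IsocSub
import Groth.Agent.Lib.Helper22.IsocSum
import Groth.Agent.Lib.Helper22.IsocKatz
import Groth.Agent.Lib.Helper22.DimOneCoker

/-!
# Fitting decomposition modulo `p^e` for a semilinear endomorphism of a lattice (helper22)
-/

set_option autoImplicit false
set_option linter.unusedSectionVars false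

open scoped Pointwise Isocrystal

universe u v

noncomputable section

namespace Groth.Agent.Lib.Helper22.IsocF

open Groth.Agent.Lib.helper10.IsocL

section

variable {p : ℕ} [Fact p.Prime] {k : Type u} [Field k] [CharP k p] [PerfectRing k p]
variable {N : Type v} [AddCommGroup N] [Module (WittVector p k) N] [Module K(p, k) N]
  [IsScalarTower (WittVector p k) K(p, k) N]
variable {τ : K(p, k) →+* K(p, k)}

theorem natCast_pow_smul_mem_pPow (e : ℕ) {M : Submodule (WittVector p k) N} {x : N}
    (hx : x ∈ M) : ((p : WittVector p k) ^ e) • x ∈ Isoc.pPow (e : ℤ) M := by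
  rw [← natCast_pow_smul]
  exact (mem_pPow_iff _ _ _).mpr ⟨x, hx, rfl⟩

/-- `M / p^e M` is an Artinian `W`-module. -/
theorem isArtinian_quotient_pPow (M : Submodule (WittVector p k) N) (hfg : M.FG) (e : ℕ) :
    IsArtinian (WittVector p k) (M ⧸ (Isoc.pPow (e : ℤ) M).comap M.subtype) := by
  have : Module.Finite (WittVector p k) M := Module.Finite.iff_fg.mpr hfg
  have hfl : IsFiniteLength (WittVector p k) (M ⧸ (Isoc.pPow (e : ℤ) M).comap M.subtype) := by
    apply Groth.Agent.Lib.Helper22.DimOneCoker.isFiniteLength_of_supportDim_le_zero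
    apply Groth.Agent.Lib.Helper22.DimOneCoker.supportDim_le_zero_of_forall_eq
      (IsLocalRing.closedPoint (WittVector p k))
    intro q hq
    rw [Module.mem_support_iff_of_finite] at hq
    have hpe : (p : WittVector p k) ^ e ∈ Module.annihilator (WittVector p k)
        (M ⧸ (Isoc.pPow (e : ℤ) M).comap M.subtype) := by
      rw [Module.mem_annihilator]
      intro y
      obtain ⟨x, rfl⟩ := Submodule.Quotient.mk_surjective _ y
      rw [← Submodule.Quotient.mk_smul, Submodule.Quotient.mk_eq_zero]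
      exact natCast_pow_smul_mem_pPow e x.2
    have hpq : (p : WittVector p k) ∈ q.asIdeal := q.isPrime.mem_of_pow_mem e (hq hpe)
    apply PrimeSpectrum.ext
    have hle : IsLocalRing.maximalIdeal (WittVector p k) ≤ q.asIdeal := by
      rw [maximalIdeal_eq_span_p, Ideal.span_singleton_le_iff_mem]
      exact hpq
    exact ((IsLocalRing.maximalIdeal.isMaximal (WittVector p k)).eq_of_le
      q.isPrime.ne_top hle).symm
  exact (isFiniteLength_iff_isNoetherian_isArtinian.mp hfl).2

/-- Submodules between `P` and `M` are determined by their image in `M / P`. -/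
theorem le_of_map_mkQ_le {M P A B : Submodule (WittVector p k) N} (hA' : A ≤ M) (hB : P ≤ B)
    (h : (A.comap M.subtype).map (Submodule.mkQ (P.comap M.subtype)) ≤
      (B.comap M.subtype).map (Submodule.mkQ (P.comap M.subtype))) : A ≤ B := by
  intro x hx
  have hxM : x ∈ M := hA' hx
  have h1 : Submodule.mkQ (P.comap M.subtype) (⟨x, hxM⟩ : M) ∈
      (A.comap M.subtype).map (Submodule.mkQ (P.comap M.subtype)) := ⟨⟨x, hxM⟩, hx, rfl⟩
  obtain ⟨y, hy, hye⟩ := h h1
  have h2 : (⟨x, hxM⟩ - y : M) ∈ P.comap M.subtype := by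
    rw [← Submodule.Quotient.mk_eq_zero, Submodule.Quotient.mk_sub]
    have : Submodule.Quotient.mk (p := P.comap M.subtype) y =
        Submodule.Quotient.mk (p := P.comap M.subtype) (⟨x, hxM⟩ : M) := hye
    rw [this, sub_self]
  have h3 : x - (y : N) ∈ B := hB h2
  have h4 : x = (x - (y : N)) + (y : N) := by abel
  rw [h4]
  exact B.add_mem h3 hy

/-- Decreasing chains of submodules between `p^e M` and `M` stabilise. -/
theorem antitone_chain_stabilizes (M : Submodule (WittVector p k) N) (hfg : M.FG) (e : ℕ)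
    (Y : ℕ → Submodule (WittVector p k) N) (hanti : ∀ n, Y (n + 1) ≤ Y n)
    (hup : ∀ n, Y n ≤ M) (hlow : ∀ n, Isoc.pPow (e : ℤ) M ≤ Y n) :
    ∃ n₀, ∀ n, n₀ ≤ n → Y n = Y n₀ := by
  have := isArtinian_quotient_pPow M hfg e
  have hanti' : Antitone Y := antitone_nat_of_succ_le hanti
  let f : ℕ →o (Submodule (WittVector p k)
      (M ⧸ (Isoc.pPow (e : ℤ) M).comap M.subtype))ᵒᵈ :=
    ⟨fun n => OrderDual.toDual (((Y n).comap M.subtype).map (Submodule.mkQ _)), by
      intro a b hab
      exact Submodule.map_mono (Submodule.comap_mono (hanti' hab))⟩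
  obtain ⟨n₀, hn₀⟩ := IsArtinian.monotone_stabilizes f
  refine ⟨n₀, fun n hn => ?_⟩
  have h1 : ((Y n₀).comap M.subtype).map (Submodule.mkQ _) =
      ((Y n).comap M.subtype).map
        (Submodule.mkQ ((Isoc.pPow (e : ℤ) M).comap M.subtype)) := hn₀ n hn
  exact le_antisymm (hanti' hn) (le_of_map_mkQ_le (hup n₀) (hlow n) h1.le)

/-- Increasing chains of submodules of a finitely generated `M` stabilise. -/
theorem monotone_chain_stabilizes (M : Submodule (WittVector p k) N) (hfg : M.FG)
    (Kc : ℕ → Submodule (WittVector p k) N) (hmono : ∀ n, Kc n ≤ Kc (n + 1))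
    (hup : ∀ n, Kc n ≤ M) : ∃ n₀, ∀ n, n₀ ≤ n → Kc n = Kc n₀ := by
  have : Module.Finite (WittVector p k) M := Module.Finite.iff_fg.mpr hfg
  have : IsNoetherian (WittVector p k) M := inferInstance
  have hmono' : Monotone Kc := monotone_nat_of_le_succ hmono
  let f : ℕ →o Submodule (WittVector p k) M :=
    ⟨fun n => (Kc n).comap M.subtype, fun a b hab => Submodule.comap_mono (hmono' hab)⟩
  obtain ⟨n₀, hn₀⟩ := monotone_stabilizes_iff_noetherian.mpr inferInstance f
  refine ⟨n₀, fun n hn => ?_⟩
  refine le_antisymm ?_ (hmono' hn)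
  intro x hx
  have hxM : x ∈ M := hup n hx
  have h1 : (⟨x, hxM⟩ : M) ∈ (Kc n).comap M.subtype := hx
  have h2 : (Kc n₀).comap M.subtype = (Kc n).comap M.subtype := hn₀ n hn
  rw [← h2] at h1
  exact h1

end

end Groth.Agent.Lib.Helper22.IsocF

end
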