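import Mathlib
import Groth.Prelude.Def_Isoc
import Groth.Agent.Lib.helper10.IsocLattice
import Groth.Agent.Lib.Helper22.IsocFekete
import Groth.Agent.Lib.Helper22.IsocFekete2
import Groth.Agent.Lib.Helper22.IsocSub
import Groth.Agent.Lib.Helper22.IsocFit1

/-!
# Fitting decomposition modulo `p^e`, continued (helper22)
-/

set_option autoImplicit false
set_option linter.unusedSectionVars false

open scoped Pointwise Isocrystal

universe u v

noncomputable section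

namespace Groth.Agent.Lib.Helper22.IsocF

open Groth.Agent.Lib.helper10.IsocL

section

variable {p : ℕ} [Fact p.Prime] {k : Type u} [Field k] [CharP k p] [PerfectRing k p]
variable {N : Type v} [AddCommGroup N] [Module (WittVector p k) N] [Module K(p, k) N]
  [IsScalarTower (WittVector p k) K(p, k) N]
variable {τ : K(p, k) →+* K(p, k)}

theorem map_mem_of_stable {G : N →ₛₗ[τ] N} {M : Submodule (WittVector p k) N}
    (hst : Isoc.latImg G 1 M ≤ M) {x : N} (hx : x ∈ M) : G x ∈ M :=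
  hst (Submodule.subset_span ⟨x, hx, by simp⟩)

theorem iterate_mem_of_stable {G : N →ₛₗ[τ] N} {M : Submodule (WittVector p k) N}
    (hst : Isoc.latImg G 1 M ≤ M) (n : ℕ) {x : N} (hx : x ∈ M) : (⇑G)^[n] x ∈ M := by
  induction n with
  | zero => exact hx
  | succ n ih => rw [Function.iterate_succ_apply']; exact map_mem_of_stable hst ih

theorem iterate_mem_pPow_of_stable {G : N →ₛₗ[τ] N} {M : Submodule (WittVector p k) N}
    (hst : Isoc.latImg G 1 M ≤ M) (n : ℕ) (r : ℤ) {x : N} (hx : x ∈ Isoc.pPow r M) :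
    (⇑G)^[n] x ∈ Isoc.pPow r M := by
  obtain ⟨m, hm, rfl⟩ := (mem_pPow_iff _ _ _).mp hx
  rw [iterate_smul]
  exact (mem_pPow_iff _ _ _).mpr ⟨_, iterate_mem_of_stable hst n hm, rfl⟩

theorem latImg_le_of_stable {G : N →ₛₗ[τ] N} {M : Submodule (WittVector p k) N}
    (hst : Isoc.latImg G 1 M ≤ M) (n : ℕ) : Isoc.latImg G n M ≤ M := by
  unfold Isoc.latImg
  rw [Submodule.span_le]
  rintro _ ⟨x, hx, rfl⟩
  exact iterate_mem_of_stable hst n hx

theorem latImg_succ_le_of_stable (hτW : PreservesW τ) {G : N →ₛₗ[τ] N}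
    {M : Submodule (WittVector p k) N}
    (hst : Isoc.latImg G 1 M ≤ M) (n : ℕ) : Isoc.latImg G (n + 1) M ≤ Isoc.latImg G n M := by
  rw [latImg_add hτW]
  exact latImg_mono G n hst

theorem latImg_antitone_of_stable (hτW : PreservesW τ) {G : N →ₛₗ[τ] N}
    {M : Submodule (WittVector p k) N}
    (hst : Isoc.latImg G 1 M ≤ M) : Antitone (fun n => Isoc.latImg G n M) :=
  antitone_nat_of_succ_le (latImg_succ_le_of_stable hτW hst)

/-- `{x ∈ M | G^n x ∈ p^e M}`. -/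
def Kn (hτW : PreservesW τ) (G : N →ₛₗ[τ] N) (M : Submodule (WittVector p k) N) (e n : ℕ) :
    Submodule (WittVector p k) N where
  carrier := {x | x ∈ M ∧ (⇑G)^[n] x ∈ Isoc.pPow (e : ℤ) M}
  add_mem' := by
    rintro a b ⟨ha, ha'⟩ ⟨hb, hb'⟩
    refine ⟨M.add_mem ha hb, ?_⟩
    have : (⇑G)^[n] (a + b) = (⇑G)^[n] a + (⇑G)^[n] b := (Isoc.iter G n).map_add a b
    rw [this]
    exact Submodule.add_mem _ ha' hb'
  zero_mem' := by
    refine ⟨M.zero_mem, ?_⟩
    have : (⇑G)^[n] (0 : N) = 0 := (Isoc.iter G n).map_zero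
    rw [this]
    exact Submodule.zero_mem _
  smul_mem' := by
    rintro w x ⟨hx, hx'⟩
    refine ⟨M.smul_mem w hx, ?_⟩
    obtain ⟨w', hw'⟩ := (hτW.pow n) w
    have : (⇑G)^[n] (w • x) = w' • (⇑G)^[n] x := by
      rw [← algebraMap_smul K(p, k) w x, ← Isoc.iter_apply, map_smulₛₗ, hw', algebraMap_smul]
      rfl
    rw [this]
    exact Submodule.smul_mem _ _ hx'

theorem mem_Kn (hτW : PreservesW τ) (G : N →ₛₗ[τ] N) (M : Submodule (WittVector p k) N)
    (e n : ℕ) (x : N) :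
    x ∈ Kn hτW G M e n ↔ x ∈ M ∧ (⇑G)^[n] x ∈ Isoc.pPow (e : ℤ) M := Iff.rfl

theorem Kn_le (hτW : PreservesW τ) (G : N →ₛₗ[τ] N) (M : Submodule (WittVector p k) N)
    (e n : ℕ) : Kn hτW G M e n ≤ M := fun _ hx => hx.1

theorem Kn_mono (hτW : PreservesW τ) {G : N →ₛₗ[τ] N} {M : Submodule (WittVector p k) N}
    (hst : Isoc.latImg G 1 M ≤ M) (e n : ℕ) : Kn hτW G M e n ≤ Kn hτW G M e (n + 1) := by
  rintro x ⟨hx, hx'⟩
  refine ⟨hx, ?_⟩
  rw [Function.iterate_succ_apply']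
  exact iterate_mem_pPow_of_stable hst 1 _ hx'

theorem pPow_le_Kn (hτW : PreservesW τ) {G : N →ₛₗ[τ] N} {M : Submodule (WittVector p k) N}
    (hst : Isoc.latImg G 1 M ≤ M) (e n : ℕ) : Isoc.pPow (e : ℤ) M ≤ Kn hτW G M e n :=
  fun _ hx => ⟨pPow_natCast_le e M hx, iterate_mem_pPow_of_stable hst n _ hx⟩

theorem Kn_anti_e (hτW : PreservesW τ) (G : N →ₛₗ[τ] N) (M : Submodule (WittVector p k) N)
    (e n : ℕ) : Kn hτW G M (e + 1) n ≤ Kn hτW G M e n := by
  rintro x ⟨hx, hx'⟩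
  exact ⟨hx, pPow_anti (by push_cast; omega) M hx'⟩

/-- Fitting, sum part. -/
theorem le_latImg_sup_Kn (hτW : PreservesW τ) (hτS : SurjW τ) {G : N →ₛₗ[τ] N}
    {M : Submodule (WittVector p k) N} (hst : Isoc.latImg G 1 M ≤ M) (e m : ℕ)
    (hY : Isoc.latImg G m M ⊔ Isoc.pPow (e : ℤ) M ≤
      Isoc.latImg G (m + m) M ⊔ Isoc.pPow (e : ℤ) M) :
    M ≤ Isoc.latImg G m M ⊔ Kn hτW G M e m := by
  intro x hx
  have h1 : (⇑G)^[m] x ∈ Isoc.latImg G m M ⊔ Isoc.pPow (e : ℤ) M :=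
    Submodule.mem_sup_left (Submodule.subset_span ⟨x, hx, rfl⟩)
  obtain ⟨a, ha, b, hb, hab⟩ := Submodule.mem_sup.mp (hY h1)
  obtain ⟨y, hy, rfl⟩ := (mem_latImg_iff hτS G (m + m) M a).mp ha
  have hy' : (⇑G)^[m] y ∈ M := iterate_mem_of_stable hst m hy
  have hx' : x - (⇑G)^[m] y ∈ Kn hτW G M e m := by
    refine ⟨M.sub_mem hx hy', ?_⟩
    have : (⇑G)^[m] (x - (⇑G)^[m] y) = (⇑G)^[m] x - (⇑G)^[m + m] y := by
      rw [Function.iterate_add_apply]
      exact (Isoc.iter G m).map_sub x _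
    rw [this, ← hab, add_sub_cancel_left]
    exact hb
  have : x = (⇑G)^[m] y + (x - (⇑G)^[m] y) := by abel
  rw [this]
  exact Submodule.add_mem _
    (Submodule.mem_sup_left (Submodule.subset_span ⟨y, hy, rfl⟩))
    (Submodule.mem_sup_right hx')

/-- Fitting, intersection part. -/
theorem latImg_sup_inf_Kn_le (hτW : PreservesW τ) (hτS : SurjW τ) {G : N →ₛₗ[τ] N}
    {M : Submodule (WittVector p k) N} (hst : Isoc.latImg G 1 M ≤ M) (e m : ℕ)
    (hK : Kn hτW G M e (m + m) ≤ Kn hτW G M e m) :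
    (Isoc.latImg G m M ⊔ Isoc.pPow (e : ℤ) M) ⊓ Kn hτW G M e m ≤ Isoc.pPow (e : ℤ) M := by
  rintro x ⟨hx1, hx2⟩
  obtain ⟨a, ha, b, hb, rfl⟩ := Submodule.mem_sup.mp hx1
  obtain ⟨y, hy, rfl⟩ := (mem_latImg_iff hτS G m M a).mp ha
  have h1 : (⇑G)^[m] ((⇑G)^[m] y + b) = (⇑G)^[m + m] y + (⇑G)^[m] b := by
    rw [Function.iterate_add_apply]
    exact (Isoc.iter G m).map_add _ b
  have h2 : (⇑G)^[m + m] y ∈ Isoc.pPow (e : ℤ) M := by
    have h3 := hx2.2
    rw [h1] at h3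
    have h4 := iterate_mem_pPow_of_stable hst m _ hb
    have := Submodule.sub_mem _ h3 h4
    rwa [add_sub_cancel_right] at this
  have h5 : y ∈ Kn hτW G M e m := hK ⟨hy, h2⟩
  exact Submodule.add_mem _ h5.2 hb

/-- The unit-root part `⋂ G^n M`. -/
def unitPart (G : N →ₛₗ[τ] N) (M : Submodule (WittVector p k) N) : Submodule (WittVector p k) N :=
  ⨅ n : ℕ, Isoc.latImg G n M

theorem unitPart_le (G : N →ₛₗ[τ] N) (M : Submodule (WittVector p k) N) : unitPart G M ≤ M := by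
  have := iInf_le (fun n : ℕ => Isoc.latImg G n M) 0
  rwa [latImg_zero] at this

theorem latImg_unitPart (hτW : PreservesW τ) (hτS : SurjW τ) {G : N →ₛₗ[τ] N}
    (hG : Function.Injective G)
    {M : Submodule (WittVector p k) N} (hst : Isoc.latImg G 1 M ≤ M) :
    Isoc.latImg G 1 (unitPart G M) = unitPart G M := by
  apply le_antisymm
  · intro x hx
    obtain ⟨u, hu, rfl⟩ := (mem_latImg_iff hτS G 1 _ x).mp hx
    unfold unitPart
    rw [Submodule.mem_iInf]
    intro n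
    have hun : u ∈ Isoc.latImg G n M := (Submodule.mem_iInf _).mp hu n
    obtain ⟨m, hm, rfl⟩ := (mem_latImg_iff hτS G n M u).mp hun
    apply latImg_succ_le_of_stable hτW hst n
    rw [Function.iterate_one, ← Function.iterate_succ_apply' (⇑G) n m]
    exact Submodule.subset_span ⟨m, hm, rfl⟩
  · intro x hx
    have hx1 : x ∈ Isoc.latImg G 1 M := (Submodule.mem_iInf _).mp hx 1
    obtain ⟨y, hy, rfl⟩ := (mem_latImg_iff hτS G 1 M x).mp hx1
    have hyU : y ∈ unitPart G M := by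
      unfold unitPart
      rw [Submodule.mem_iInf]
      intro n
      have hxn : (⇑G)^[1] y ∈ Isoc.latImg G (n + 1) M := (Submodule.mem_iInf _).mp hx (n + 1)
      obtain ⟨m, hm, hme⟩ := (mem_latImg_iff hτS G (n + 1) M _).mp hxn
      rw [Function.iterate_succ_apply', Function.iterate_one] at hme
      rw [← hG hme]
      exact Submodule.subset_span ⟨m, hm, rfl⟩
    exact Submodule.subset_span ⟨y, hyU, rfl⟩

end

end Groth.Agent.Lib.Helper22.IsocF

end
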