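import Mathlib
import Groth.Prelude.Def_Isoc
import Groth.Agent.Lib.helper10.IsocLattice
import Groth.Agent.Lib.Helper22.IsocFekete
import Groth.Agent.Lib.Helper22.IsocFekete2
import Groth.Agent.Lib.Helper22.IsocDet
import Groth.Agent.Lib.Helper22.IsocSub
import Groth.Agent.Lib.Helper22.IsocBasis
import Groth.Agent.Lib.Helper22.IsocFit1
import Groth.Agent.Lib.Helper22.IsocFit2

/-!
# Completeness of lattices and the Fitting decomposition in the limit (helper22)
-/

set_option autoImplicit false
set_option linter.unusedSectionVars false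

open scoped Pointwise Isocrystal

universe u v

noncomputable section

namespace Groth.Agent.Lib.Helper22.IsocF

open Groth.Agent.Lib.helper10.IsocL

section

variable {p : ℕ} [Fact p.Prime] {k : Type u} [Field k] [CharP k p] [PerfectRing k p]
variable {N : Type v} [AddCommGroup N] [Module (WittVector p k) N] [Module K(p, k) N]
  [IsScalarTower (WittVector p k) K(p, k) N]
variable {τ : K(p, k) →+* K(p, k)}

/-- `p`-adic Cauchy sequences in `W` converge. -/
theorem exists_limit_witt (f : ℕ → WittVector p k)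
    (hf : ∀ e, (p : WittVector p k) ^ e ∣ f (e + 1) - f e) :
    ∃ a : WittVector p k, ∀ e, (p : WittVector p k) ^ e ∣ a - f e := by
  have hmem : ∀ (e : ℕ) (x : WittVector p k),
      x ∈ ((Ideal.span {(p : WittVector p k)}) ^ e • (⊤ : Submodule (WittVector p k) (WittVector p k))) ↔
      (p : WittVector p k) ^ e ∣ x := by
    intro e x
    rw [smul_eq_mul, Ideal.mul_top, Ideal.span_singleton_pow, Ideal.mem_span_singleton]
  have hcauchy : ∀ {m n : ℕ}, m ≤ n → f m ≡ f n
      [SMOD ((Ideal.span {(p : WittVector p k)}) ^ m •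
        (⊤ : Submodule (WittVector p k) (WittVector p k)))] := by
    intro m n hmn
    rw [SModEq.sub_mem, hmem]
    induction hmn with
    | refl => simp
    | step hmn ih =>
      rename_i n'
      have h1 : (p : WittVector p k) ^ m ∣ f (n' + 1) - f n' :=
        (pow_dvd_pow _ hmn).trans (hf n')
      have : f m - f (n' + 1) = (f m - f n') - (f (n' + 1) - f n') := by ring
      rw [this]
      exact dvd_sub ih h1
  obtain ⟨a, ha⟩ := IsPrecomplete.prec' (I := Ideal.span {(p : WittVector p k)})
    (M := WittVector p k) f hcauchy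
  refine ⟨a, fun e => ?_⟩
  have := ha e
  rw [SModEq.sub_mem, hmem] at this
  have h2 : a - f e = -(f e - a) := by ring
  rw [h2]
  exact (dvd_neg).mpr this

/-- Lattices are `p`-adically complete. -/
theorem exists_limit_of_cauchy [Module.Finite K(p, k) N] (M : Submodule (WittVector p k) N)
    [hM : M.IsLattice K(p, k)]
    (i : ℕ → N) (hi : ∀ e, i e ∈ M) (hd : ∀ e : ℕ, i (e + 1) - i e ∈ Isoc.pPow (e : ℤ) M) :
    ∃ u ∈ M, ∀ e : ℕ, u - i e ∈ Isoc.pPow (e : ℤ) M := by
  obtain ⟨b, rfl⟩ := exists_basis_stdLat_eq (h := Module.finrank K(p, k) N) M rfl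
  have h1 : ∀ e j, ∃ w : WittVector p k, b.repr (i e) j = algebraMap (WittVector p k) K(p, k) w :=
    fun e j => repr_mem_of_mem_stdLat b (hi e) j
  choose w hw using h1
  have hie : ∀ e, i e = ∑ j, w e j • b j := by
    intro e
    conv_lhs => rw [← b.sum_repr (i e)]
    refine Finset.sum_congr rfl fun j _ => ?_
    rw [hw, algebraMap_smul]
  have hdiff : ∀ e j, (p : WittVector p k) ^ e ∣ w (e + 1) j - w e j := by
    intro e j
    obtain ⟨m, hm, hme⟩ := (mem_pPow_iff _ _ _).mp (hd e)
    obtain ⟨c, hc⟩ := repr_mem_of_mem_stdLat b hm j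
    refine ⟨c, ?_⟩
    apply IsFractionRing.injective (WittVector p k) K(p, k)
    have h2 := congrArg (fun y => b.repr y j) hme
    simp only [map_smul, map_sub, Finsupp.smul_apply, Finsupp.sub_apply, smul_eq_mul, hw, hc] at h2
    rw [map_sub, map_mul, map_pow, map_natCast, ← h2, zpow_natCast]
  have hlim : ∀ j, ∃ a : WittVector p k, ∀ e, (p : WittVector p k) ^ e ∣ a - w e j :=
    fun j => exists_limit_witt (fun e => w e j) (fun e => hdiff e j)
  choose a ha using hlim
  refine ⟨∑ j, a j • b j, ?_, fun e => ?_⟩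
  · exact Submodule.sum_mem _ fun j _ =>
      Submodule.smul_mem _ _ (Submodule.subset_span (Set.mem_range_self j))
  · have hc : ∀ j, ∃ c : WittVector p k, a j - w e j = (p : WittVector p k) ^ e * c := fun j => ha j e
    choose c hc using hc
    have : ∑ j, a j • b j - i e = ((p : WittVector p k) ^ e) • ∑ j, c j • b j := by
      rw [hie e, ← Finset.sum_sub_distrib, Finset.smul_sum]
      refine Finset.sum_congr rfl fun j _ => ?_
      rw [← sub_smul, hc j, mul_smul]
    rw [this]
    apply natCast_pow_smul_mem_pPow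
    exact Submodule.sum_mem _ fun j _ =>
      Submodule.smul_mem _ _ (Submodule.subset_span (Set.mem_range_self j))

theorem span_latImg_eq_top (hτW : PreservesW τ) (G : N →ₛₗ[τ] N) (hG : Function.Surjective G)
    {M : Submodule (WittVector p k) N} (hM : Submodule.span K(p, k) (M : Set N) = ⊤) (n : ℕ) :
    Submodule.span K(p, k) (Isoc.latImg G n M : Set N) = ⊤ := by
  induction n with
  | zero => rwa [latImg_zero]
  | succ n ih =>
    rw [add_comm, latImg_add hτW]
    exact span_latImg_one_eq_top G hG ih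

/-- Fitting decomposition in the limit: every element of a `G`-stable lattice is the sum of an
element of `⋂ G^n M` and an element on which the iterates of `G` tend to zero. -/
theorem exists_unitPart_add_contracting [Module.Finite K(p, k) N] (hτW : PreservesW τ)
    (hτS : SurjW τ) {G : N →ₛₗ[τ] N}
    (hGs : Function.Surjective G) (M : Submodule (WittVector p k) N) [hM : M.IsLattice K(p, k)]
    (hst : Isoc.latImg G 1 M ≤ M) {x : N} (hx : x ∈ M) :
    ∃ u ∈ unitPart G M, ∀ e : ℕ, ∃ n, (⇑G)^[n] (x - u) ∈ Isoc.pPow (e : ℤ) M := by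
  have hfg := hM.fg
  have hspan := hM.span_eq_top
  set Yn : ℕ → ℕ → Submodule (WittVector p k) N :=
    fun e n => Isoc.latImg G n M ⊔ Isoc.pPow (e : ℤ) M with hYn
  have hYanti1 : ∀ e n, Yn e (n + 1) ≤ Yn e n := fun e n =>
    sup_le_sup_right (latImg_succ_le_of_stable hτW hst n) _
  have hYanti : ∀ e, Antitone (Yn e) := fun e => antitone_nat_of_succ_le (hYanti1 e)
  have hYup : ∀ e n, Yn e n ≤ M := fun e n =>
    sup_le (latImg_le_of_stable hst n) (pPow_natCast_le e M)
  have hYlow : ∀ (e n : ℕ), Isoc.pPow (e : ℤ) M ≤ Yn e n := fun e n => le_sup_right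
  have hKmono : ∀ e, Monotone (fun n => Kn hτW G M e n) :=
    fun e => monotone_nat_of_le_succ (Kn_mono hτW hst e)
  -- stabilisation
  have hstab : ∀ e, ∃ m, (∀ n, m ≤ n → Yn e n = Yn e m) ∧
      (∀ n, m ≤ n → Kn hτW G M e n = Kn hτW G M e m) := by
    intro e
    obtain ⟨n₁, hn₁⟩ := antitone_chain_stabilizes M hfg e (Yn e) (hYanti1 e) (hYup e) (hYlow e)
    obtain ⟨n₀, hn₀⟩ := monotone_chain_stabilizes M hfg (fun n => Kn hτW G M e n)
      (Kn_mono hτW hst e) (Kn_le hτW G M e)
    refine ⟨max n₀ n₁, fun n hn => ?_, fun n hn => ?_⟩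
    · rw [hn₁ n ((le_max_right _ _).trans hn), hn₁ _ (le_max_right _ _)]
    · rw [hn₀ n ((le_max_left _ _).trans hn), hn₀ _ (le_max_left _ _)]
  choose m hmY hmK using hstab
  set I : ℕ → Submodule (WittVector p k) N := fun e => Yn e (m e) with hI
  set Kc : ℕ → Submodule (WittVector p k) N := fun e => Kn hτW G M e (m e) with hKc
  have hIle : ∀ e n, I e ≤ Yn e n := by
    intro e n
    rcases le_total n (m e) with h | h
    · exact hYanti e h
    · exact (hmY e n h).ge
  have hKle : ∀ e n, Kn hτW G M e n ≤ Kc e := by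
    intro e n
    rcases le_total n (m e) with h | h
    · exact hKmono e h
    · exact (hmK e n h).le
  have hIanti : ∀ e, I (e + 1) ≤ I e := by
    intro e
    calc I (e + 1) ≤ Yn (e + 1) (m e) := hIle (e + 1) (m e)
      _ ≤ Yn e (m e) := sup_le_sup_left (pPow_anti (by push_cast; omega) M) _
  have hKanti : ∀ e, Kc (e + 1) ≤ Kc e := fun e =>
    (Kn_anti_e hτW G M e (m (e + 1))).trans (hKle e _)
  have hsum : ∀ e, M ≤ I e ⊔ Kc e := by
    intro e
    refine (le_latImg_sup_Kn hτW hτS hst e (m e) ?_).trans (sup_le_sup_right le_sup_left _)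
    exact (hmY e (m e + m e) (Nat.le_add_right _ _)).ge
  have hinf : ∀ e : ℕ, I e ⊓ Kc e ≤ Isoc.pPow (e : ℤ) M := fun e =>
    latImg_sup_inf_Kn_le hτW hτS hst e (m e) (hmK e (m e + m e) (Nat.le_add_right _ _)).le
  have hpI : ∀ e : ℕ, Isoc.pPow (e : ℤ) M ≤ I e := fun e => hYlow e (m e)
  have hpK : ∀ e : ℕ, Isoc.pPow (e : ℤ) M ≤ Kc e := fun e => pPow_le_Kn hτW hst e (m e)
  -- decompositions at each level
  have hdec : ∀ e, ∃ i ∈ I e, ∃ c ∈ Kc e, i + c = x := fun e => Submodule.mem_sup.mp (hsum e hx)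
  choose i hiI c hcK hic using hdec
  have hdiff : ∀ e : ℕ, i (e + 1) - i e ∈ Isoc.pPow (e : ℤ) M := by
    intro e
    apply hinf e
    refine ⟨Submodule.sub_mem _ (hIanti e (hiI (e + 1))) (hiI e), ?_⟩
    have : i (e + 1) - i e = c e - c (e + 1) := by
      have h1 := hic e
      have h2 := hic (e + 1)
      rw [sub_eq_sub_iff_add_eq_add, h2, add_comm, h1]
    rw [this]
    exact Submodule.sub_mem _ (hcK e) (hKanti e (hcK (e + 1)))
  obtain ⟨u, huM, hu⟩ := exists_limit_of_cauchy M i (fun e => hYup e (m e) (hiI e)) hdiff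
  have huI : ∀ e, u ∈ I e := by
    intro e
    have : u = i e + (u - i e) := by abel
    rw [this]
    exact Submodule.add_mem _ (hiI e) (hpI e (hu e))
  refine ⟨u, ?_, fun e => ?_⟩
  · unfold unitPart
    rw [Submodule.mem_iInf]
    intro n
    obtain ⟨cc, hcc⟩ := exists_pPow_le (p := p) (k := k) hfg
      (span_latImg_eq_top hτW G hGs hspan n)
    have h1 : u ∈ Yn cc n := hIle cc n (huI cc)
    have h2 : Yn cc n = Isoc.latImg G n M := sup_eq_left.mpr hcc
    rwa [h2] at h1
  · have hxu : x - u ∈ Kc e := by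
      have : x - u = c e - (u - i e) := by
        rw [← hic e]; abel
      rw [this]
      exact Submodule.sub_mem _ (hcK e) (hpK e (hu e))
    exact ⟨m e, hxu.2⟩

end

end Groth.Agent.Lib.Helper22.IsocF

end
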