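import Mathlib
import Groth.Agent.Lib.Helper22.IsocFit3

/-!
# `p`-adic lifting of solutions of `x - A θ(x) = c` over the Witt vectors (helper22)
-/

set_option autoImplicit false
set_option linter.unusedSectionVars false

noncomputable section

namespace Groth.Agent.Lib.Helper22.Lang

open Groth.Agent.Lib.Helper22.IsocF

section Witt

variable {p : ℕ} [Fact p.Prime] {k : Type*} [Field k] [CharP k p] [PerfectRing k p]

theorem dvd_of_coeff_zero_eq_zero {w : WittVector p k} (hw : w.coeff 0 = 0) :
    (p : WittVector p k) ∣ w := by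
  have hnu : ¬ IsUnit w := by
    intro hu
    have := hu.map (WittVector.constantCoeff (p := p) (R := k))
    rw [WittVector.constantCoeff_apply, hw] at this
    exact not_isUnit_zero this
  have hmem : w ∈ IsLocalRing.maximalIdeal (WittVector p k) :=
    (IsLocalRing.mem_maximalIdeal w).mpr hnu
  rw [(WittVector.irreducible p).maximalIdeal_eq, Ideal.mem_span_singleton] at hmem
  exact hmem

theorem coeff_zero_p_mul (w : WittVector p k) : ((p : WittVector p k) * w).coeff 0 = 0 := by
  rw [← WittVector.constantCoeff_apply, map_mul, WittVector.constantCoeff_apply,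
    WittVector.coeff_p_zero, zero_mul]

theorem eq_zero_of_forall_pow_dvd {w : WittVector p k}
    (hw : ∀ j : ℕ, (p : WittVector p k) ^ j ∣ w) : w = 0 := by
  by_contra hne
  obtain ⟨m, b, hb, rfl⟩ := WittVector.exists_eq_pow_p_mul w hne
  obtain ⟨c, hc⟩ := hw (m + 1)
  have hp0 : (p : WittVector p k) ^ m ≠ 0 := pow_ne_zero _ (WittVector.irreducible p).ne_zero
  rw [pow_succ, mul_assoc] at hc
  have := mul_left_cancel₀ hp0 hc
  apply hb
  rw [this, coeff_zero_p_mul]

end Witt

section Lift

variable {p : ℕ} [Fact p.Prime] {k : Type*} [Field k] [CharP k p] [PerfectRing k p]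
variable {n : ℕ}

/-- Reduction modulo `p` of a vector. -/
def red (x : Fin n → WittVector p k) : Fin n → k := fun i => WittVector.constantCoeff (x i)

/-- The operator `x ↦ x - A θ(x)`. -/
def Lop (θ : WittVector p k →+* WittVector p k) (A : Matrix (Fin n) (Fin n) (WittVector p k))
    (x : Fin n → WittVector p k) : Fin n → WittVector p k :=
  x - A.mulVec (fun j => θ (x j))

/-- Its reduction modulo `p`. -/
def LopBar (e : k →+* k) (A : Matrix (Fin n) (Fin n) (WittVector p k)) (x : Fin n → k) :
    Fin n → k :=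
  x - (A.map (WittVector.constantCoeff (p := p) (R := k))).mulVec (fun j => e (x j))

theorem red_add (x y : Fin n → WittVector p k) : red (x + y) = red x + red y := by
  ext i; simp only [red, Pi.add_apply, map_add]

theorem red_sub (x y : Fin n → WittVector p k) : red (x - y) = red x - red y := by
  ext i; simp only [red, Pi.sub_apply, map_sub]

theorem red_p_smul (z : Fin n → WittVector p k) : red ((p : WittVector p k) • z) = 0 := by
  ext i
  simp only [red, Pi.smul_apply, smul_eq_mul, Pi.zero_apply, WittVector.constantCoeff_apply]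
  exact coeff_zero_p_mul _

theorem red_p_pow_smul (j : ℕ) (z : Fin n → WittVector p k) :
    red ((p : WittVector p k) ^ (j + 1) • z) = 0 := by
  rw [pow_succ', mul_smul]
  exact red_p_smul _

variable (θ : WittVector p k →+* WittVector p k) (e : k →+* k)
  (A : Matrix (Fin n) (Fin n) (WittVector p k))

theorem Lop_add (x y : Fin n → WittVector p k) : Lop θ A (x + y) = Lop θ A x + Lop θ A y := by
  unfold Lop
  have : (fun j => θ ((x + y) j)) = (fun j => θ (x j)) + fun j => θ (y j) := by
    ext j; simp
  rw [this, Matrix.mulVec_add]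
  abel

theorem Lop_smul (j : ℕ) (y : Fin n → WittVector p k) :
    Lop θ A ((p : WittVector p k) ^ j • y) = (p : WittVector p k) ^ j • Lop θ A y := by
  unfold Lop
  have : (fun i => θ (((p : WittVector p k) ^ j • y) i)) =
      (p : WittVector p k) ^ j • fun i => θ (y i) := by
    ext i; simp
  rw [this, Matrix.mulVec_smul, smul_sub]

theorem red_Lop (hθ : ∀ w, (θ w).coeff 0 = e (w.coeff 0)) (x : Fin n → WittVector p k) :
    red (Lop θ A x) = LopBar e A (red x) := by
  unfold Lop LopBar
  rw [red_sub]
  congr 1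
  ext i
  simp only [red]
  rw [RingHom.map_mulVec]
  congr 1
  ext j
  simp only [Function.comp_apply, WittVector.constantCoeff_apply]
  exact hθ _

/-- `p`-adic lifting of solutions of `x - A θ(x) = c`. -/
theorem exists_lift (hθ : ∀ w, (θ w).coeff 0 = e (w.coeff 0))
    (hsurj : ∀ c' : Fin n → k, ∃ y : Fin n → k, LopBar e A y = c')
    (c : Fin n → WittVector p k) (x₀' : Fin n → k) (h0 : LopBar e A x₀' = red c) :
    ∃ x : Fin n → WittVector p k, Lop θ A x = c ∧ red x = x₀' := by
  have lift : ∀ y' : Fin n → k, ∃ y : Fin n → WittVector p k, red y = y' := fun y' =>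
    ⟨fun i => WittVector.teichmuller p (y' i), funext fun i => by
      simp only [red, WittVector.constantCoeff_apply]
      exact WittVector.teichmuller_coeff_zero p _⟩
  have div : ∀ z : Fin n → WittVector p k, red z = 0 →
      ∃ z' : Fin n → WittVector p k, z = (p : WittVector p k) • z' := by
    intro z hz
    have h1 : ∀ i, ∃ w, z i = (p : WittVector p k) * w := fun i =>
      dvd_of_coeff_zero_eq_zero (by
        have := congrFun hz i
        simpa [red] using this)
    choose z' hz' using h1
    exact ⟨z', funext fun i => by rw [Pi.smul_apply, smul_eq_mul, hz']⟩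
  -- one step of the approximation
  have step : ∀ (j : ℕ) (x E : Fin n → WittVector p k),
      Lop θ A x - c = (p : WittVector p k) ^ (j + 1) • E →
      ∃ y E' : Fin n → WittVector p k,
        Lop θ A (x + (p : WittVector p k) ^ (j + 1) • y) - c =
          (p : WittVector p k) ^ (j + 1 + 1) • E' := by
    intro j x E hE
    obtain ⟨y', hy'⟩ := hsurj (-(red E))
    obtain ⟨y, hy⟩ := lift y'
    have hred : red (E + Lop θ A y) = 0 := by
      rw [red_add, red_Lop θ e A hθ, hy, hy']
      abel
    obtain ⟨E', hE'⟩ := div _ hred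
    refine ⟨y, E', ?_⟩
    rw [Lop_add, Lop_smul, add_sub_right_comm, hE, ← smul_add, hE', pow_succ _ (j + 1), mul_smul]
  -- the start
  obtain ⟨x₀, hx₀⟩ := lift x₀'
  have hstart : red (Lop θ A x₀ - c) = 0 := by
    rw [red_sub, red_Lop θ e A hθ, hx₀, h0, sub_self]
  obtain ⟨E₀, hE₀⟩ := div _ hstart
  -- the sequence
  let S : ℕ → Type _ := fun j =>
    {x : Fin n → WittVector p k // ∃ E, Lop θ A x - c = (p : WittVector p k) ^ (j + 1) • E}
  have stepS : ∀ (j : ℕ) (s : S j), ∃ s' : S (j + 1), ∃ y : Fin n → WittVector p k,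
      s'.1 = s.1 + (p : WittVector p k) ^ (j + 1) • y := by
    intro j s
    obtain ⟨E, hE⟩ := s.2
    obtain ⟨y, E', hy⟩ := step j s.1 E hE
    exact ⟨⟨_, E', hy⟩, y, rfl⟩
  choose nxt hnxt using stepS
  let s0 : S 0 := ⟨x₀, E₀, by rw [hE₀, zero_add, pow_one]⟩
  let F : (j : ℕ) → S j := fun j => Nat.rec s0 (fun j s => nxt j s) j
  have hF0 : (F 0).1 = x₀ := rfl
  have hFs : ∀ j, ∃ y : Fin n → WittVector p k,
      (F (j + 1)).1 = (F j).1 + (p : WittVector p k) ^ (j + 1) • y := fun j => hnxt j (F j)
  -- the limit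
  have hlim : ∀ i : Fin n, ∃ a : WittVector p k,
      ∀ j : ℕ, (p : WittVector p k) ^ j ∣ a - (F j).1 i := by
    intro i
    apply exists_limit_witt (fun j => (F j).1 i)
    intro j
    obtain ⟨y, hy⟩ := hFs j
    rw [hy, Pi.add_apply, add_sub_cancel_left, Pi.smul_apply, smul_eq_mul, pow_succ, mul_assoc]
    exact dvd_mul_right _ _
  choose a ha using hlim
  have hdecomp : ∀ j : ℕ, ∃ z : Fin n → WittVector p k,
      a = (F j).1 + (p : WittVector p k) ^ j • z := by
    intro j
    have h1 : ∀ i, ∃ w, a i - (F j).1 i = (p : WittVector p k) ^ j * w := fun i => ha i j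
    choose z hz using h1
    refine ⟨z, funext fun i => ?_⟩
    rw [Pi.add_apply, Pi.smul_apply, smul_eq_mul, ← hz]
    ring
  refine ⟨a, ?_, ?_⟩
  · have hzero : Lop θ A a - c = 0 := by
      funext i
      show (Lop θ A a - c) i = 0
      apply eq_zero_of_forall_pow_dvd
      intro j
      obtain ⟨z, hz⟩ := hdecomp j
      obtain ⟨E, hE⟩ := (F j).2
      have : Lop θ A a - c = (p : WittVector p k) ^ (j + 1) • E +
          (p : WittVector p k) ^ j • Lop θ A z := by
        rw [hz, Lop_add, Lop_smul, add_sub_right_comm, hE]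
      rw [this, Pi.add_apply, Pi.smul_apply, Pi.smul_apply, smul_eq_mul, smul_eq_mul, pow_succ,
        mul_assoc]
      exact dvd_add (dvd_mul_right _ _) (dvd_mul_right _ _)
    exact sub_eq_zero.mp hzero
  · obtain ⟨z, hz⟩ := hdecomp 1
    obtain ⟨y, hy⟩ := hFs 0
    have hy' : (F 1).1 = x₀ + (p : WittVector p k) ^ 1 • y := hy
    rw [hz, hy', red_add, red_add, hx₀, pow_one, red_p_smul, red_p_smul, add_zero,
      add_zero]

end Lift

end Groth.Agent.Lib.Helper22.Lang
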