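import Mathlib

/-!
# Semilinear endomorphisms of finite-dimensional vector spaces: stable part, cyclic fixed vectors
(helper22)
-/

set_option autoImplicit false
set_option linter.unusedSectionVars false

noncomputable section

namespace Groth.Agent.Lib.Helper22.SigmaLin

section General

variable {k : Type*} [Field k] {σ : k →+* k} {V : Type*} [AddCommGroup V] [Module k V]

theorem span_range_iterate_succ_le (T : V →ₛₗ[σ] V) (n : ℕ) :
    Submodule.span k (Set.range ((⇑T)^[n + 1])) ≤ Submodule.span k (Set.range ((⇑T)^[n])) := by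
  apply Submodule.span_le.mpr
  rintro _ ⟨y, rfl⟩
  exact Submodule.subset_span ⟨T y, (Function.iterate_succ_apply (⇑T) n y).symm⟩

theorem span_range_iterate_antitone (T : V →ₛₗ[σ] V) :
    Antitone fun n : ℕ => Submodule.span k (Set.range ((⇑T)^[n])) :=
  antitone_nat_of_succ_le (span_range_iterate_succ_le T)

theorem map_mem_span_range_iterate (T : V →ₛₗ[σ] V) (n : ℕ) {x : V}
    (hx : x ∈ Submodule.span k (Set.range ((⇑T)^[n]))) :
    T x ∈ Submodule.span k (Set.range ((⇑T)^[n + 1])) := by
  induction hx using Submodule.span_induction with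
  | mem x hx =>
    obtain ⟨y, rfl⟩ := hx
    exact Submodule.subset_span ⟨y, Function.iterate_succ_apply' (⇑T) n y⟩
  | zero => rw [map_zero]; exact Submodule.zero_mem _
  | add x y _ _ hx hy => rw [map_add]; exact Submodule.add_mem _ hx hy
  | smul c x _ hx => rw [map_smulₛₗ]; exact Submodule.smul_mem _ _ hx

theorem map_mem_span_image (T : V →ₛₗ[σ] V) (S : Set V) {x : V}
    (hx : x ∈ Submodule.span k S) : T x ∈ Submodule.span k (T '' S) := by
  induction hx using Submodule.span_induction with
  | mem x hx => exact Submodule.subset_span ⟨x, hx, rfl⟩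
  | zero => rw [map_zero]; exact Submodule.zero_mem _
  | add x y _ _ hx hy => rw [map_add]; exact Submodule.add_mem _ hx hy
  | smul c x _ hx => rw [map_smulₛₗ]; exact Submodule.smul_mem _ _ hx

theorem iterate_map_add (T : V →ₛₗ[σ] V) (n : ℕ) (x y : V) :
    (⇑T)^[n] (x + y) = (⇑T)^[n] x + (⇑T)^[n] y := by
  induction n generalizing x y with
  | zero => rfl
  | succ n ih => rw [Function.iterate_succ_apply, map_add, ih, Function.iterate_succ_apply,
      Function.iterate_succ_apply]

theorem iterate_map_zero (T : V →ₛₗ[σ] V) (n : ℕ) : (⇑T)^[n] 0 = 0 := by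
  induction n with
  | zero => rfl
  | succ n ih => rw [Function.iterate_succ_apply, map_zero, ih]

theorem iterate_map_smul (T : V →ₛₗ[σ] V) (n : ℕ) (c : k) (x : V) :
    (⇑T)^[n] (c • x) = ((⇑σ)^[n] c) • (⇑T)^[n] x := by
  induction n generalizing c x with
  | zero => rfl
  | succ n ih => rw [Function.iterate_succ_apply, map_smulₛₗ, ih, Function.iterate_succ_apply,
      Function.iterate_succ_apply]

/-- The stable ("semisimple") part: the intersection of the spans of the images of the iterates. -/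
def ssPart (T : V →ₛₗ[σ] V) : Submodule k V :=
  ⨅ n : ℕ, Submodule.span k (Set.range ((⇑T)^[n]))

variable [FiniteDimensional k V]

theorem exists_ssPart_eq (T : V →ₛₗ[σ] V) :
    ∃ N : ℕ, ∀ m, N ≤ m → Submodule.span k (Set.range ((⇑T)^[m])) = ssPart T := by
  obtain ⟨N, hN⟩ := IsArtinian.monotone_stabilizes
    (⟨fun n => OrderDual.toDual (Submodule.span k (Set.range ((⇑T)^[n]))),
      fun a b hab => span_range_iterate_antitone T hab⟩ : ℕ →o (Submodule k V)ᵒᵈ)
  have hN' : ∀ m, N ≤ m → Submodule.span k (Set.range ((⇑T)^[N])) =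
      Submodule.span k (Set.range ((⇑T)^[m])) := fun m hm => congrArg OrderDual.ofDual (hN m hm)
  have hS : ssPart T = Submodule.span k (Set.range ((⇑T)^[N])) := by
    apply le_antisymm (iInf_le _ N)
    apply le_iInf
    intro n
    rcases le_total n N with h | h
    · exact span_range_iterate_antitone T h
    · rw [hN' n h]
  refine ⟨N, fun m hm => ?_⟩
  rw [hS, hN' m hm]

theorem map_mem_ssPart (T : V →ₛₗ[σ] V) {x : V} (hx : x ∈ ssPart T) : T x ∈ ssPart T := by
  obtain ⟨N, hN⟩ := exists_ssPart_eq T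
  rw [← hN N le_rfl] at hx
  rw [← hN (N + 1) (Nat.le_succ N)]
  exact map_mem_span_range_iterate T N hx

theorem iterate_mem_ssPart_of_mem (T : V →ₛₗ[σ] V) (n : ℕ) {x : V} (hx : x ∈ ssPart T) :
    (⇑T)^[n] x ∈ ssPart T := by
  induction n with
  | zero => exact hx
  | succ n ih =>
    rw [Function.iterate_succ_apply']
    exact map_mem_ssPart T ih

theorem ssPart_le_span_image (T : V →ₛₗ[σ] V) :
    ssPart T ≤ Submodule.span k (T '' (ssPart T : Set V)) := by
  obtain ⟨N, hN⟩ := exists_ssPart_eq T
  intro x hx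
  rw [← hN (N + 1) (Nat.le_succ N)] at hx
  refine Submodule.span_mono ?_ hx
  rintro _ ⟨y, rfl⟩
  refine ⟨(⇑T)^[N] y, ?_, (Function.iterate_succ_apply' (⇑T) N y).symm⟩
  rw [SetLike.mem_coe, ← hN N le_rfl]
  exact Submodule.subset_span ⟨y, rfl⟩

theorem exists_iterate_mem_ssPart (T : V →ₛₗ[σ] V) : ∃ N : ℕ, ∀ c : V, (⇑T)^[N] c ∈ ssPart T := by
  obtain ⟨N, hN⟩ := exists_ssPart_eq T
  refine ⟨N, fun c => ?_⟩
  rw [← hN N le_rfl]
  exact Submodule.subset_span ⟨c, rfl⟩

/-- A semilinear map is injective on a subspace spanned by its own image. -/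
theorem eq_zero_of_map_eq_zero (T : V →ₛₗ[σ] V) (W : Submodule k V)
    (hspan : W ≤ Submodule.span k (T '' (W : Set V))) {x : V} (hx : x ∈ W) (hTx : T x = 0) :
    x = 0 := by
  classical
  set b := Module.finBasis k W with hb
  set u : Fin (Module.finrank k W) → V := fun i => T (b i : V) with hu
  have hxsum : ∀ y : W, (y : V) = ∑ i, b.repr y i • (b i : V) := by
    intro y
    have h1 := congrArg Subtype.val (b.sum_repr y)
    rw [Submodule.coe_sum] at h1
    simp only [Submodule.coe_smul] at h1
    exact h1.symm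
  have hle : Submodule.span k (T '' (W : Set V)) ≤ Submodule.span k (Set.range u) := by
    apply Submodule.span_le.mpr
    rintro _ ⟨y, hy, rfl⟩
    have hy' : y = ∑ i, b.repr ⟨y, hy⟩ i • (b i : V) := hxsum ⟨y, hy⟩
    rw [SetLike.mem_coe, hy', map_sum]
    refine Submodule.sum_mem _ fun i _ => ?_
    rw [map_smulₛₗ]
    exact Submodule.smul_mem _ _ (Submodule.subset_span ⟨i, rfl⟩)
  have hli : LinearIndependent k u := by
    rw [linearIndependent_iff_card_eq_finrank_span, Fintype.card_fin]
    apply le_antisymm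
    · exact Submodule.finrank_mono (hspan.trans hle)
    · have := finrank_range_le_card (R := k) u
      rwa [Fintype.card_fin] at this
  have hx' : x = ∑ i, b.repr ⟨x, hx⟩ i • (b i : V) := hxsum ⟨x, hx⟩
  have h2 : ∑ i, σ (b.repr ⟨x, hx⟩ i) • u i = 0 := by
    rw [← hTx]
    conv_rhs => rw [hx', map_sum]
    exact Finset.sum_congr rfl fun i _ => by rw [map_smulₛₗ]
  have h3 := Fintype.linearIndependent_iff.mp hli _ h2
  rw [hx']
  apply Finset.sum_eq_zero
  intro i _
  rw [(map_eq_zero σ).mp (h3 i), zero_smul]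

theorem eq_zero_of_map_eq_zero_of_mem_ssPart (T : V →ₛₗ[σ] V) {x : V} (hx : x ∈ ssPart T)
    (hTx : T x = 0) : x = 0 :=
  eq_zero_of_map_eq_zero T (ssPart T) (ssPart_le_span_image T) hx hTx

theorem eq_zero_of_iterate_eq_zero_of_mem_ssPart (T : V →ₛₗ[σ] V) (n : ℕ) {x : V}
    (hx : x ∈ ssPart T) (hTx : (⇑T)^[n] x = 0) : x = 0 := by
  induction n generalizing x with
  | zero => exact hTx
  | succ n ih =>
    rw [Function.iterate_succ_apply] at hTx
    exact eq_zero_of_map_eq_zero_of_mem_ssPart T hx (ih (map_mem_ssPart T hx) hTx)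

/-- In a finite-dimensional space the orbit of a vector becomes linearly dependent. -/
theorem exists_first_dependence (w : ℕ → V) :
    ∃ m : ℕ, LinearIndependent k (fun i : Fin m => w i) ∧
      w m ∈ Submodule.span k (Set.range fun i : Fin m => w i) := by
  by_contra hcon
  push Not at hcon
  have hli : ∀ m : ℕ, LinearIndependent k (fun i : Fin m => w i) := by
    intro m
    induction m with
    | zero => exact linearIndependent_empty_type
    | succ m ih =>
      have h1 : (fun i : Fin (m + 1) => w i) = Fin.snoc (fun i : Fin m => w i) (w m) := by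
        ext i
        refine Fin.lastCases ?_ (fun j => ?_) i
        · simp
        · simp
      rw [h1, linearIndependent_finSnoc]
      exact ⟨ih, hcon m ih⟩
  have := (hli (Module.finrank k V + 1)).fintype_card_le_finrank
  rw [Fintype.card_fin] at this
  omega

/-- The solvability condition (i) of the source. -/
def Cond2 (σ : k →+* k) : Prop :=
  ∀ (n : ℕ) (b : Fin (n + 1) → k), b ≠ 0 →
    ∃ x : k, x ≠ 0 ∧ x = ∑ i : Fin (n + 1), (⇑σ)^[i.val + 1] x * (⇑σ)^[i.val] (b (Fin.rev i))

/-- A vector not killed by any iterate has a non-zero fixed vector in the span of its orbit. -/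
theorem exists_ne_zero_fixed_mem_span_orbit (T : V →ₛₗ[σ] V) (h2 : Cond2 σ)
    (e : V) (he : ∀ m : ℕ, (⇑T)^[m] e ≠ 0) :
    ∃ v ∈ Submodule.span k (Set.range (fun m : ℕ => (⇑T)^[m] e)), v ≠ 0 ∧ T v = v := by
  classical
  set w : ℕ → V := fun i => (⇑T)^[i] e with hw
  have hw_succ : ∀ i, w (i + 1) = T (w i) := fun i => Function.iterate_succ_apply' _ _ _
  obtain ⟨m, hli, hmem⟩ := exists_first_dependence (k := k) w
  obtain ⟨c, hc⟩ := (Submodule.mem_span_range_iff_exists_fun k).mp hmem
  obtain ⟨m', rfl⟩ : ∃ m', m = m' + 1 := by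
    rcases m with _ | m'
    · exfalso
      simp at hc
      exact he 0 hc.symm
    · exact ⟨m', rfl⟩
  have hc0 : c ≠ 0 := by
    rintro rfl
    simp at hc
    exact he (m' + 1) hc.symm
  obtain ⟨x, hx0, hx⟩ := h2 m' c hc0
  set c' : ℕ → k := fun i => if h : i < m' + 1 then c ⟨i, h⟩ else 0 with hc'
  have hc'i : ∀ i : Fin (m' + 1), c' i = c i := fun i => by
    simp only [hc', dif_pos i.2]
  have hsum : w (m' + 1) = ∑ i ∈ Finset.range (m' + 1), c' i • w i := by
    rw [← hc, ← Fin.sum_univ_eq_sum_range (fun i => c' i • w i) (m' + 1)]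
    exact Finset.sum_congr rfl fun i _ => by rw [hc'i]
  -- the coefficients
  set Y : ℕ → k := fun j => ∑ l ∈ Finset.range (j + 1), (⇑σ)^[l + 1] x * (⇑σ)^[l] (c' (j - l))
    with hY
  have hY0 : Y 0 = c' 0 * σ x := by
    simp [hY, mul_comm]
  have hYs : ∀ j, Y (j + 1) = σ (Y j) + c' (j + 1) * σ x := by
    intro j
    simp only [hY]
    rw [Finset.sum_range_succ' _ (j + 1), map_sum]
    congr 1
    · refine Finset.sum_congr rfl fun l _ => ?_
      rw [map_mul, ← Function.iterate_succ_apply' (⇑σ), ← Function.iterate_succ_apply' (⇑σ),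
        Nat.succ_sub_succ]
    · simp [mul_comm]
  have hYm : Y m' = x := by
    rw [hx]
    simp only [hY]
    rw [← Fin.sum_univ_eq_sum_range
      (fun l => (⇑σ)^[l + 1] x * (⇑σ)^[l] (c' (m' - l))) (m' + 1)]
    refine Finset.sum_congr rfl fun i _ => ?_
    congr 2
    rw [← hc'i]
    congr 1
    simp [Fin.rev]
  refine ⟨∑ i ∈ Finset.range (m' + 1), Y i • w i, ?_, ?_, ?_⟩
  · exact Submodule.sum_mem _ fun i _ =>
      Submodule.smul_mem _ _ (Submodule.subset_span ⟨i, rfl⟩)
  · intro h0
    rw [← Fin.sum_univ_eq_sum_range (fun i => Y i • w i) (m' + 1)] at h0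
    have := (Fintype.linearIndependent_iff.mp hli) (fun i : Fin (m' + 1) => Y i) h0 (Fin.last m')
    rw [Fin.val_last, hYm] at this
    exact hx0 this
  · rw [map_sum]
    have h1 : ∀ i ∈ Finset.range (m' + 1), T (Y i • w i) = σ (Y i) • w (i + 1) := fun i _ => by
      rw [map_smulₛₗ, hw_succ]
    rw [Finset.sum_congr rfl h1, Finset.sum_range_succ, hsum, Finset.smul_sum,
      Finset.sum_range_succ' (fun i => σ (Y m') • c' i • w i),
      Finset.sum_range_succ' (fun i => Y i • w i), hY0, hYm, ← add_assoc,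
      ← Finset.sum_add_distrib]
    congr 1
    · refine Finset.sum_congr rfl fun j _ => ?_
      rw [hYs, add_smul, smul_smul, mul_comm]
    · rw [smul_smul, mul_comm]

end General

end Groth.Agent.Lib.Helper22.SigmaLin
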