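import Mathlib
import Groth.Agent.Lib.Helper22.LangModP
import Groth.Agent.Lib.Helper22.SigmaLin1

/-!
# Semilinear endomorphisms: fixed bases, surjectivity of `1 - T`, Fitting decomposition (helper22)
-/

set_option autoImplicit false
set_option linter.unusedSectionVars false

noncomputable section

namespace Groth.Agent.Lib.Helper22.SigmaLin

open Groth.Agent.Lib.Helper22.Lang

section General

variable {k : Type*} [Field k] {σ : k →+* k} {V : Type*} [AddCommGroup V] [Module k V]

/-- The solvability condition (ii) of the source. -/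
def Cond3 (σ : k →+* k) : Prop := ∀ c : k, ∃ y : k, σ y - y + c = 0

theorem Cond3.sub (h3 : Cond3 σ) : ∀ c : k, ∃ x : k, σ x - x = c := by
  intro c
  obtain ⟨y, hy⟩ := h3 (-c)
  exact ⟨y, by linear_combination hy⟩

variable [FiniteDimensional k V]

/-- A spanning set defined by a predicate contains a basis indexed by `Fin (finrank)`. -/
theorem exists_fin_basis_of_span_eq_top (P : V → Prop)
    (h : Submodule.span k {v : V | P v} = ⊤) :
    ∃ b : Module.Basis (Fin (Module.finrank k V)) k V, ∀ i, P (b i) := by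
  classical
  have hv : Submodule.span k (Set.range (Subtype.val : {m : V // P m} → V)) = ⊤ := by
    rw [Subtype.range_coe_subtype]
    exact h
  haveI : Module.FinitePresentation k V := Module.finitePresentation_of_projective _ _
  obtain ⟨κ, a, b, hb⟩ := Module.exists_basis_of_span_of_flat
    (Subtype.val : {m : V // P m} → V) hv
  haveI : Finite κ := Module.Finite.finite_basis b
  letI : Fintype κ := Fintype.ofFinite κ
  have hcard : Fintype.card κ = Module.finrank k V := (Module.finrank_eq_card_basis b).symm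
  refine ⟨b.reindex (Fintype.equivFinOfCardEq hcard), ?_⟩
  intro i
  rw [Module.Basis.reindex_apply, hb]
  exact (a _).2

/-- If the image of `T` spans, the fixed vectors span. -/
theorem span_fixed_eq_top_of_span_range (T : V →ₛₗ[σ] V)
    (h1 : Submodule.span k (Set.range ⇑T) = ⊤) (h2 : Cond2 σ) (h3 : Cond3 σ) :
    Submodule.span k {v | T v = v} = ⊤ := by
  apply span_fixed_eq_top σ h3.sub T
  intro U hU hne
  have hUc : U ≤ U.comap T := fun x hx => hU x hx
  haveI : Nontrivial (V ⧸ U) := Submodule.Quotient.nontrivial_iff.mpr hne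
  set Tq : (V ⧸ U) →ₛₗ[σ] (V ⧸ U) := U.mapQ U T hUc with hTq
  have hTq_mk : ∀ x : V, Tq (Submodule.Quotient.mk x) = Submodule.Quotient.mk (T x) :=
    fun x => rfl
  have hspanq : (⊤ : Submodule k (V ⧸ U)) ≤
      Submodule.span k (Tq '' ((⊤ : Submodule k (V ⧸ U)) : Set (V ⧸ U))) := by
    intro z _
    obtain ⟨x, rfl⟩ := Submodule.Quotient.mk_surjective U z
    have hx : x ∈ Submodule.span k (Set.range ⇑T) := by rw [h1]; trivial
    have h4 : U.mkQ x ∈ Submodule.span k (U.mkQ '' Set.range ⇑T) :=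
      Submodule.apply_mem_span_image_of_mem_span U.mkQ hx
    refine Submodule.span_mono ?_ h4
    rintro _ ⟨_, ⟨y, rfl⟩, rfl⟩
    exact ⟨Submodule.Quotient.mk y, trivial, rfl⟩
  have hinj : ∀ z : V ⧸ U, Tq z = 0 → z = 0 := fun z hz =>
    eq_zero_of_map_eq_zero Tq ⊤ hspanq trivial hz
  obtain ⟨e, he⟩ := exists_ne (0 : V ⧸ U)
  have hiter : ∀ m : ℕ, (⇑Tq)^[m] e ≠ 0 := by
    intro m
    induction m with
    | zero => exact he
    | succ m ih =>
      rw [Function.iterate_succ_apply']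
      exact fun h0 => ih (hinj _ h0)
  obtain ⟨v, -, hv0, hv⟩ := exists_ne_zero_fixed_mem_span_orbit Tq h2 e hiter
  obtain ⟨x, rfl⟩ := Submodule.Quotient.mk_surjective U v
  refine ⟨x, ?_, ?_⟩
  · intro hx
    exact hv0 ((Submodule.Quotient.mk_eq_zero U).mpr hx)
  · rw [← Submodule.Quotient.mk_eq_zero U, Submodule.Quotient.mk_sub, ← hTq_mk, hv, sub_self]

/-- S19233 in library form. -/
theorem exists_basis_fixed_and_sub_surjective (T : V →ₛₗ[σ] V)
    (h1 : Submodule.span k (Set.range ⇑T) = ⊤) (h2 : Cond2 σ) (h3 : Cond3 σ) :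
    (∃ b : Module.Basis (Fin (Module.finrank k V)) k V, ∀ i, T (b i) = b i) ∧
    Function.Surjective (fun v : V => v - T v) := by
  have hspan := span_fixed_eq_top_of_span_range T h1 h2 h3
  refine ⟨exists_fin_basis_of_span_eq_top (fun v => T v = v) hspan, ?_⟩
  intro c
  have hc : -c ∈ Submodule.span k {v | T v = v} := by rw [hspan]; trivial
  obtain ⟨y, -, hy⟩ := surj_on_span_fixed σ h3.sub T (-c) hc
  refine ⟨y, ?_⟩
  show y - T y = c
  rw [← neg_sub, hy, neg_neg]

/-- The restriction of `T` to its stable part. -/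
def ssRestrict (T : V →ₛₗ[σ] V) : ssPart T →ₛₗ[σ] ssPart T :=
  T.restrict (fun _ hx => map_mem_ssPart T hx)

theorem span_range_ssRestrict (T : V →ₛₗ[σ] V) :
    Submodule.span k (Set.range ⇑(ssRestrict T)) = ⊤ := by
  rw [eq_top_iff]
  intro z _
  have hz : (z : V) ∈ Submodule.span k (T '' (ssPart T : Set V)) := ssPart_le_span_image T z.2
  have himg : T '' (ssPart T : Set V) = (ssPart T).subtype '' Set.range ⇑(ssRestrict T) := by
    ext y
    constructor
    · rintro ⟨x, hx, rfl⟩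
      exact ⟨ssRestrict T ⟨x, hx⟩, ⟨⟨x, hx⟩, rfl⟩, rfl⟩
    · rintro ⟨_, ⟨x, rfl⟩, rfl⟩
      exact ⟨x, x.2, rfl⟩
  rw [himg, ← Submodule.map_span] at hz
  obtain ⟨z', hz', hzz⟩ := hz
  have : z' = z := Subtype.ext hzz
  rw [← this]
  exact hz'

/-- S19234 in library form. -/
theorem sub_surjective_and_exists_fixed_basis_ssPart (T : V →ₛₗ[σ] V)
    (h2 : Cond2 σ) (h3 : Cond3 σ) :
    Function.Surjective (fun v : V => v - T v) ∧
    ∃ b : Module.Basis (Fin (Module.finrank k ↥(ssPart T))) k ↥(ssPart T),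
      ∀ i, T (b i : V) = (b i : V) := by
  obtain ⟨⟨b, hb⟩, hsurj⟩ :=
    exists_basis_fixed_and_sub_surjective (ssRestrict T) (span_range_ssRestrict T) h2 h3
  refine ⟨?_, b, fun i => congrArg Subtype.val (hb i)⟩
  obtain ⟨N, hN⟩ := exists_iterate_mem_ssPart T
  intro c
  obtain ⟨y, hy⟩ := hsurj ⟨(⇑T)^[N] c, hN c⟩
  have hy' : (y : V) - T (y : V) = (⇑T)^[N] c := congrArg Subtype.val hy
  refine ⟨∑ i ∈ Finset.range N, (⇑T)^[i] c + (y : V), ?_⟩
  show (∑ i ∈ Finset.range N, (⇑T)^[i] c + (y : V)) -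
    T (∑ i ∈ Finset.range N, (⇑T)^[i] c + (y : V)) = c
  rw [map_add, map_sum]
  have h1 : ∑ i ∈ Finset.range N, T ((⇑T)^[i] c) = ∑ i ∈ Finset.range N, (⇑T)^[i + 1] c :=
    Finset.sum_congr rfl fun i _ => (Function.iterate_succ_apply' (⇑T) i c).symm
  have h4 : ∑ x ∈ Finset.range N, (⇑T)^[x + 1] c - ∑ x ∈ Finset.range N, (⇑T)^[x] c =
      (⇑T)^[N] c - c := by
    rw [← Finset.sum_sub_distrib]
    exact Finset.sum_range_sub (fun i => (⇑T)^[i] c) N
  rw [h1]
  have h5 : ∑ i ∈ Finset.range N, (⇑T)^[i + 1] c =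
      ∑ i ∈ Finset.range N, (⇑T)^[i] c + ((⇑T)^[N] c - c) := by
    rw [← h4]; abel
  rw [h5, ← hy']
  abel

end General

section Fitting

variable {k : Type*} [Field k] {σ : k →+* k} {V : Type*} [AddCommGroup V] [Module k V]

theorem exists_of_mem_span_range_iterate (hσ : Function.Surjective σ) (T : V →ₛₗ[σ] V) (n : ℕ)
    {x : V} (hx : x ∈ Submodule.span k (Set.range ((⇑T)^[n]))) : ∃ y, (⇑T)^[n] y = x := by
  induction hx using Submodule.span_induction with
  | mem x hx => exact hx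
  | zero => exact ⟨0, iterate_map_zero T n⟩
  | add x y _ _ hx hy =>
    obtain ⟨a, rfl⟩ := hx
    obtain ⟨b, rfl⟩ := hy
    exact ⟨a + b, iterate_map_add T n a b⟩
  | smul c x _ hx =>
    obtain ⟨a, rfl⟩ := hx
    obtain ⟨c', rfl⟩ := hσ.iterate n c
    exact ⟨c' • a, iterate_map_smul T n c' a⟩

/-- The kernel of the `n`-th iterate, a subspace. -/
def iterKer (T : V →ₛₗ[σ] V) (n : ℕ) : Submodule k V where
  carrier := {v | (⇑T)^[n] v = 0}
  add_mem' := fun {a b} ha hb => by
    rw [Set.mem_setOf_eq] at ha hb ⊢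
    rw [iterate_map_add, ha, hb, add_zero]
  zero_mem' := iterate_map_zero T n
  smul_mem' := fun c x hx => by
    rw [Set.mem_setOf_eq] at hx ⊢
    rw [iterate_map_smul, hx, smul_zero]

theorem mem_iterKer (T : V →ₛₗ[σ] V) (n : ℕ) (v : V) : v ∈ iterKer T n ↔ (⇑T)^[n] v = 0 :=
  Iff.rfl

theorem iterKer_mono (T : V →ₛₗ[σ] V) : Monotone (iterKer T) := by
  apply monotone_nat_of_le_succ
  intro n v hv
  rw [mem_iterKer] at hv ⊢
  rw [Function.iterate_succ_apply', hv, map_zero]

variable [FiniteDimensional k V]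

/-- S19230 in library form: the Fitting decomposition. -/
theorem fitting_decomposition (hσ : Function.Surjective σ) (T : V →ₛₗ[σ] V) :
    (∃ W : Submodule k V, (W : Set V) = {v : V | ∃ n : ℕ, (⇑T)^[n] v = 0} ∧
      (∃ N : ℕ, ∀ v ∈ W, (⇑T)^[N] v = 0) ∧ IsCompl W (ssPart T)) ∧
    Set.BijOn (⇑T) (ssPart T : Set V) (ssPart T : Set V) := by
  obtain ⟨N₁, hN₁⟩ := monotone_stabilizes_iff_noetherian.mpr
    (inferInstance : IsNoetherian k V) ⟨iterKer T, iterKer_mono T⟩
  obtain ⟨N₂, hN₂⟩ := exists_ssPart_eq T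
  have hker : ∀ n v, (⇑T)^[n] v = 0 → v ∈ iterKer T N₁ := by
    intro n v hv
    rcases le_total n N₁ with h | h
    · exact iterKer_mono T h hv
    · have := hN₁ n h
      simp only [OrderHom.coe_mk] at this
      rw [this]
      exact hv
  constructor
  · refine ⟨iterKer T N₁, ?_, ⟨N₁, fun v hv => hv⟩, ?_, ?_⟩
    · ext v
      exact ⟨fun hv => ⟨N₁, hv⟩, fun ⟨n, hn⟩ => hker n v hn⟩
    · rw [Submodule.disjoint_def]
      intro x hx hxs
      exact eq_zero_of_iterate_eq_zero_of_mem_ssPart T N₁ hxs hx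
    · rw [codisjoint_iff, eq_top_iff]
      intro x _
      set N := max N₁ N₂ with hNdef
      have h1 : (⇑T)^[N] x ∈ Submodule.span k (Set.range ((⇑T)^[N + N])) := by
        rw [hN₂ (N + N) (by omega), ← hN₂ N (le_max_right _ _)]
        exact Submodule.subset_span ⟨x, rfl⟩
      obtain ⟨y, hy⟩ := exists_of_mem_span_range_iterate hσ T (N + N) h1
      have h2 : x = (x - (⇑T)^[N] y) + (⇑T)^[N] y := by abel
      rw [h2]
      refine Submodule.add_mem _ (Submodule.mem_sup_left ?_) (Submodule.mem_sup_right ?_)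
      · apply hker N
        have h3 : (⇑T)^[N] (x - (⇑T)^[N] y) + (⇑T)^[N] ((⇑T)^[N] y) = (⇑T)^[N] x := by
          rw [← iterate_map_add, sub_add_cancel]
        rw [← Function.iterate_add_apply, hy] at h3
        exact add_eq_right.mp h3
      · rw [← hN₂ N (le_max_right _ _)]
        exact Submodule.subset_span ⟨y, rfl⟩
  · refine ⟨fun x hx => map_mem_ssPart T hx, ?_, ?_⟩
    · intro x hx y hy hxy
      have h1 : T (x - y) = 0 := by rw [map_sub, hxy, sub_self]
      exact sub_eq_zero.mp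
        (eq_zero_of_map_eq_zero_of_mem_ssPart T ((ssPart T).sub_mem hx hy) h1)
    · intro z hz
      have hz' : z ∈ Submodule.span k (Set.range ((⇑T)^[N₂ + 1])) := by
        rw [hN₂ (N₂ + 1) (Nat.le_succ _)]
        exact hz
      obtain ⟨y, rfl⟩ := exists_of_mem_span_range_iterate hσ T (N₂ + 1) hz'
      refine ⟨(⇑T)^[N₂] y, ?_, (Function.iterate_succ_apply' (⇑T) N₂ y).symm⟩
      rw [SetLike.mem_coe, ← hN₂ N₂ le_rfl]
      exact Submodule.subset_span ⟨y, rfl⟩

end Fitting

end Groth.Agent.Lib.Helper22.SigmaLin
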