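import Mathlib
import Groth.Agent.Lib.Helper22.LangModP
import Groth.Agent.Lib.Helper22.SigmaLin1
import Groth.Agent.Lib.Helper22.SigmaLin2

/-!
# Semilinear endomorphisms of finite modules over a ring with principal nilpotent maximal ideal
(helper22)
-/

set_option autoImplicit false
set_option linter.unusedSectionVars false

open scoped Pointwise

universe uF uR w

noncomputable section

namespace Groth.Agent.Lib.Helper22.SigmaLin

section Tele

variable {k : Type*} [Field k] {σ : k →+* k} {V : Type*} [AddCommGroup V] [Module k V]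
  [FiniteDimensional k V]

/-- If `1 - T` is onto on the stable part, it is onto. -/
theorem sub_surjective_of_ssRestrict (T : V →ₛₗ[σ] V)
    (hsurj : Function.Surjective (fun y : ssPart T => y - ssRestrict T y)) :
    Function.Surjective (fun v : V => v - T v) := by
  obtain ⟨N, hN⟩ := exists_iterate_mem_ssPart T
  intro c
  obtain ⟨y, hy⟩ := hsurj ⟨(⇑T)^[N] c, hN c⟩
  have hy' : (y : V) - T (y : V) = (⇑T)^[N] c := congrArg Subtype.val hy
  refine ⟨∑ i ∈ Finset.range N, (⇑T)^[i] c + (y : V), ?_⟩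
  show (∑ i ∈ Finset.range N, (⇑T)^[i] c + (y : V)) -
    T (∑ i ∈ Finset.range N, (⇑T)^[i] c + (y : V)) = c
  rw [map_add, map_sum]
  have h1 : ∑ i ∈ Finset.range N, T ((⇑T)^[i] c) = ∑ i ∈ Finset.range N, (⇑T)^[i + 1] c :=
    Finset.sum_congr rfl fun i _ => (Function.iterate_succ_apply' (⇑T) i c).symm
  have h4 : ∑ x ∈ Finset.range N, (⇑T)^[x + 1] c - ∑ x ∈ Finset.range N, (⇑T)^[x] c =
      (⇑T)^[N] c - c := by
    rw [← Finset.sum_sub_distrib]
    exact Finset.sum_range_sub (fun i => (⇑T)^[i] c) N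
  rw [h1]
  have h5 : ∑ i ∈ Finset.range N, (⇑T)^[i + 1] c =
      ∑ i ∈ Finset.range N, (⇑T)^[i] c + ((⇑T)^[N] c - c) := by
    rw [← h4]; abel
  rw [h5, ← hy']
  abel

end Tele

/-- The conclusion of the "Lang–Dieudonné" statement for all finite-dimensional spaces (in a fixed
universe) over `F` with twist `σF`. -/
def Good {F : Type uF} [Field F] (σF : F →+* F) : Prop :=
  ∀ (V : Type w) [AddCommGroup V] [Module F V] [FiniteDimensional F V] (T : V →ₛₗ[σF] V),
    Function.Surjective (fun v : V => v - T v) ∧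
    ∃ b : Module.Basis (Fin (Module.finrank F ↥(ssPart T))) F ↥(ssPart T),
      ∀ i, T (b i : V) = (b i : V)

theorem good_of_cond {F : Type uF} [Field F] {σF : F →+* F} (h2 : Cond2 σF) (h3 : Cond3 σF) :
    Good.{uF, w} σF :=
  fun _ _ _ _ T => sub_surjective_and_exists_fixed_basis_ssPart T h2 h3

section Nilp

attribute [local instance] Ideal.Quotient.field

variable {R : Type uR} [CommRing R] (I : Ideal R) [I.IsMaximal]
variable {M : Type w} [AddCommGroup M] [Module R M]

theorem mem_smul_top_iff (p₀ : R) (hI : I = Ideal.span {p₀}) (x : M) :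
    x ∈ (I • ⊤ : Submodule R M) ↔ ∃ c : M, p₀ • c = x := by
  rw [hI, Submodule.ideal_span_singleton_smul, Submodule.mem_smul_pointwise_iff_exists]
  constructor
  · rintro ⟨c, -, hc⟩
    exact ⟨c, hc⟩
  · rintro ⟨c, hc⟩
    exact ⟨c, trivial, hc⟩

theorem map_mem_of_span_singleton (p₀ : R) (hI : I = Ideal.span {p₀}) (σ : R →+* R)
    (hσp : σ p₀ = p₀) {r : R} (hr : r ∈ I) : σ r ∈ I := by
  rw [hI, Ideal.mem_span_singleton'] at hr ⊢
  obtain ⟨a, rfl⟩ := hr
  exact ⟨σ a, by rw [map_mul, hσp]⟩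

/-- The reduction of a semilinear endomorphism modulo the maximal ideal. -/
def redT (p₀ : R) (hI : I = Ideal.span {p₀}) (σ : R →+* R) (hσp : σ p₀ = p₀)
    (σF : R ⧸ I →+* R ⧸ I) (hσF : ∀ r, σF (Ideal.Quotient.mk I r) = Ideal.Quotient.mk I (σ r))
    (T : M →ₛₗ[σ] M) :
    (M ⧸ (I • ⊤ : Submodule R M)) →ₛₗ[σF] (M ⧸ (I • ⊤ : Submodule R M)) where
  toFun := (I • ⊤ : Submodule R M).mapQ (I • ⊤ : Submodule R M) T (by
    rw [Submodule.smul_le]
    intro r hr m _
    rw [Submodule.mem_comap, map_smulₛₗ]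
    exact Submodule.smul_mem_smul (map_mem_of_span_singleton I p₀ hI σ hσp hr) Submodule.mem_top)
  map_add' := map_add _
  map_smul' := fun c x => by
    obtain ⟨r, rfl⟩ := Ideal.Quotient.mk_surjective c
    obtain ⟨m, rfl⟩ := Submodule.Quotient.mk_surjective _ x
    rw [Module.Quotient.mk_smul_mk, hσF]
    show Submodule.Quotient.mk (T (r • m)) = Ideal.Quotient.mk I (σ r) • Submodule.Quotient.mk (T m)
    rw [map_smulₛₗ, Module.Quotient.mk_smul_mk]

theorem redT_mk (p₀ : R) (hI : I = Ideal.span {p₀}) (σ : R →+* R) (hσp : σ p₀ = p₀)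
    (σF : R ⧸ I →+* R ⧸ I) (hσF : ∀ r, σF (Ideal.Quotient.mk I r) = Ideal.Quotient.mk I (σ r))
    (T : M →ₛₗ[σ] M) (m : M) :
    redT I p₀ hI σ hσp σF hσF T (Submodule.Quotient.mk m) = Submodule.Quotient.mk (T m) := rfl

/-- `M / I M` is finite-dimensional over `R / I`. -/
theorem finite_quotient_smul_top [Module.Finite R M] :
    Module.Finite (R ⧸ I) (M ⧸ (I • ⊤ : Submodule R M)) := by
  haveI : RingHomSurjective (Ideal.Quotient.mk I) := ⟨Ideal.Quotient.mk_surjective⟩
  let q : M →ₛₗ[Ideal.Quotient.mk I] (M ⧸ (I • ⊤ : Submodule R M)) :=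
    { toFun := Submodule.Quotient.mk
      map_add' := fun _ _ => rfl
      map_smul' := fun _ _ => rfl }
  exact Module.Finite.of_surjective q (Submodule.Quotient.mk_surjective _)

/-- **Surjectivity of `1 - T`** on a finite module killed by a power of the generator of the
maximal ideal. -/
theorem sub_surjective_of_nilpotent (p₀ : R) (hI : I = Ideal.span {p₀}) (σ : R →+* R)
    (hσp : σ p₀ = p₀) (σF : R ⧸ I →+* R ⧸ I)
    (hσF : ∀ r, σF (Ideal.Quotient.mk I r) = Ideal.Quotient.mk I (σ r))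
    (hgood : Good.{uR, w} (F := R ⧸ I) σF) [Module.Finite R M] (n : ℕ) (hn : ∀ m : M, p₀ ^ n • m = 0)
    (T : M →ₛₗ[σ] M) : Function.Surjective (fun m : M => m - T m) := by
  haveI := finite_quotient_smul_top I (M := M)
  have hstep : ∀ c : M, ∃ m c' : M, c = (m - T m) + p₀ • c' := by
    intro c
    obtain ⟨y, hy⟩ := (hgood (M ⧸ (I • ⊤ : Submodule R M))
      (redT I p₀ hI σ hσp σF hσF T)).1 (Submodule.Quotient.mk c)
    obtain ⟨m, rfl⟩ := Submodule.Quotient.mk_surjective _ y
    have h1 : (Submodule.Quotient.mk (m - T m) : M ⧸ (I • ⊤ : Submodule R M)) =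
        Submodule.Quotient.mk c := hy
    have h2 : c - (m - T m) ∈ (I • ⊤ : Submodule R M) := by
      rw [← Submodule.Quotient.mk_eq_zero, Submodule.Quotient.mk_sub, h1, sub_self]
    obtain ⟨c', hc'⟩ := (mem_smul_top_iff I p₀ hI _).mp h2
    exact ⟨m, c', by rw [hc']; abel⟩
  have hpow : ∀ (j : ℕ) (x : M), T (p₀ ^ j • x) = p₀ ^ j • T x := fun j x => by
    rw [map_smulₛₗ, map_pow, hσp]
  have hind : ∀ j : ℕ, ∀ c : M, ∃ m c' : M, c = (m - T m) + p₀ ^ j • c' := by
    intro j
    induction j with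
    | zero => intro c; exact ⟨0, c, by simp⟩
    | succ j ih =>
      intro c
      obtain ⟨m, c', hc⟩ := ih c
      obtain ⟨m', c'', hc'⟩ := hstep c'
      refine ⟨m + p₀ ^ j • m', c'', ?_⟩
      rw [map_add, hpow, hc, hc', smul_add, smul_sub, pow_succ, mul_smul]
      abel
  intro c
  obtain ⟨m, c', hc⟩ := hind n c
  exact ⟨m, by show m - T m = c; rw [hc, hn, add_zero]⟩

end Nilp

end Groth.Agent.Lib.Helper22.SigmaLin
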