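import Mathlib
import Groth.Agent.Lib.Helper22.SigmaLin1
import Groth.Agent.Lib.Helper22.SigmaLin2
import Groth.Agent.Lib.Helper22.SigmaLin3

/-!
# Fixed points of semilinear endomorphisms of finite modules over a ring with principal nilpotent
maximal ideal are finitely generated over the fixed subring (helper22)
-/

set_option autoImplicit false
set_option linter.unusedSectionVars false

open scoped Pointwise

universe uF uR w

noncomputable section

namespace Groth.Agent.Lib.Helper22.SigmaLin

section Fixed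

attribute [local instance] Ideal.Quotient.field

variable {R : Type uR} [CommRing R] (I : Ideal R) [I.IsMaximal]

theorem coe_mem_span_image {S : Subring R} {M : Type*} [AddCommGroup M] [Module R M]
    (N : Submodule R M) (t : Set N) {x : N} (hx : x ∈ Submodule.span S t) :
    (x : M) ∈ Submodule.span S (N.subtype '' t) := by
  induction hx using Submodule.span_induction with
  | mem x hx => exact Submodule.subset_span ⟨x, hx, rfl⟩
  | zero => exact Submodule.zero_mem _
  | add x y _ _ hx hy => exact Submodule.add_mem _ hx hy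
  | smul a x _ hx => exact Submodule.smul_mem _ a hx

/-- The fixed points are finitely generated over the fixed subring. -/
theorem fixedPoints_fg (p₀ : R) (hI : I = Ideal.span {p₀}) (σ : R →+* R)
    (hσp : σ p₀ = p₀) (σF : R ⧸ I →+* R ⧸ I)
    (hσF : ∀ r, σF (Ideal.Quotient.mk I r) = Ideal.Quotient.mk I (σ r))
    (hgood : Good.{uR, w} (F := R ⧸ I) σF)
    (hlift : ∀ x : R ⧸ I, σF x = x → ∃ r : R, σ r = r ∧ Ideal.Quotient.mk I r = x) (n : ℕ) :
    ∀ (M : Type w) [AddCommGroup M] [Module R M] [Module.Finite R M]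
      (_ : ∀ m : M, p₀ ^ n • m = 0) (T : M →ₛₗ[σ] M),
      ∃ s : Finset M, (∀ m ∈ s, T m = m) ∧
        ∀ m : M, T m = m → m ∈ Submodule.span (σ.eqLocus (RingHom.id R)) (s : Set M) := by
  classical
  induction n with
  | zero =>
    intro M _ _ _ hn T
    refine ⟨∅, by simp, fun m _ => ?_⟩
    have h0 : m = 0 := by simpa using hn m
    rw [h0]
    exact Submodule.zero_mem _
  | succ n ih =>
    intro M _ _ _ hn T
    have hNmem : ∀ x : M, x ∈ (I • ⊤ : Submodule R M) ↔ ∃ c : M, p₀ • c = x :=
      mem_smul_top_iff I p₀ hI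
    have hNst : ∀ x ∈ (I • ⊤ : Submodule R M), T x ∈ (I • ⊤ : Submodule R M) := by
      intro x hx
      obtain ⟨c, rfl⟩ := (hNmem x).mp hx
      rw [map_smulₛₗ, hσp]
      exact (hNmem _).mpr ⟨T c, rfl⟩
    haveI : Module.Finite R (I • ⊤ : Submodule R M) := by
      have h1 : (I • ⊤ : Submodule R M) = (⊤ : Submodule R M).map (LinearMap.lsmul R M p₀) := by
        ext x
        rw [hNmem, Submodule.mem_map]
        constructor
        · rintro ⟨c, rfl⟩
          exact ⟨c, trivial, rfl⟩
        · rintro ⟨c, -, rfl⟩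
          exact ⟨c, rfl⟩
      rw [Module.Finite.iff_fg, h1]
      exact Module.Finite.fg_top.map _
    have hnN : ∀ x : (I • ⊤ : Submodule R M), p₀ ^ n • x = 0 := by
      rintro ⟨x, hx⟩
      obtain ⟨c, rfl⟩ := (hNmem x).mp hx
      apply Subtype.ext
      show p₀ ^ n • p₀ • c = 0
      rw [smul_smul, ← pow_succ, hn]
    obtain ⟨sN, hsNfix, hsNspan⟩ := ih (I • ⊤ : Submodule R M) hnN (T.restrict hNst)
    have hsurjN := sub_surjective_of_nilpotent I p₀ hI σ hσp σF hσF hgood n hnN
      (T.restrict hNst)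
    haveI := finite_quotient_smul_top I (M := M)
    obtain ⟨b, hb⟩ := (hgood (M ⧸ (I • ⊤ : Submodule R M))
      (redT I p₀ hI σ hσp σF hσF T)).2
    -- lifting the basis
    have hliftb : ∀ i, ∃ m : M, T m = m ∧
        (Submodule.Quotient.mk m : M ⧸ (I • ⊤ : Submodule R M)) = (b i : M ⧸ _) := by
      intro i
      obtain ⟨m', hm'⟩ := Submodule.Quotient.mk_surjective (I • ⊤ : Submodule R M)
        (b i : M ⧸ (I • ⊤ : Submodule R M))
      have hd : T m' - m' ∈ (I • ⊤ : Submodule R M) := by
        rw [← Submodule.Quotient.mk_eq_zero, Submodule.Quotient.mk_sub,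
          ← redT_mk I p₀ hI σ hσp σF hσF, hm', hb i, sub_self]
      obtain ⟨y, hy⟩ := hsurjN ⟨T m' - m', hd⟩
      have hy' : (y : M) - T (y : M) = T m' - m' := congrArg Subtype.val hy
      refine ⟨m' + y, ?_, ?_⟩
      · rw [map_add]
        have h2 : T (y : M) = (y : M) - (T m' - m') := by rw [← hy']; abel
        rw [h2]
        abel
      · rw [Submodule.Quotient.mk_add, hm',
          (Submodule.Quotient.mk_eq_zero (I • ⊤ : Submodule R M)).mpr y.2, add_zero]
    choose mm hmmfix hmmmk using hliftb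
    refine ⟨sN.image (I • ⊤ : Submodule R M).subtype ∪ Finset.univ.image mm, ?_, ?_⟩
    · intro m hm
      rcases Finset.mem_union.mp hm with h | h
      · obtain ⟨x, hx, rfl⟩ := Finset.mem_image.mp h
        exact congrArg Subtype.val (hsNfix x hx)
      · obtain ⟨i, -, rfl⟩ := Finset.mem_image.mp h
        exact hmmfix i
    · intro m hm
      have hmqfix : redT I p₀ hI σ hσp σF hσF T (Submodule.Quotient.mk m) =
          Submodule.Quotient.mk m := by rw [redT_mk, hm]
      have hmqss : (Submodule.Quotient.mk m : M ⧸ (I • ⊤ : Submodule R M)) ∈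
          ssPart (redT I p₀ hI σ hσp σF hσF T) := by
        unfold ssPart
        rw [Submodule.mem_iInf]
        intro j
        exact Submodule.subset_span ⟨_, Function.iterate_fixed hmqfix j⟩
      have hsum : (Submodule.Quotient.mk m : M ⧸ (I • ⊤ : Submodule R M)) =
          ∑ i, b.repr ⟨_, hmqss⟩ i • (b i : M ⧸ (I • ⊤ : Submodule R M)) := by
        have h1 := congrArg Subtype.val (b.sum_repr ⟨_, hmqss⟩)
        rw [Submodule.coe_sum] at h1
        simp only [Submodule.coe_smul] at h1
        exact h1.symm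
      have hcfix : ∀ i, σF (b.repr ⟨_, hmqss⟩ i) = b.repr ⟨_, hmqss⟩ i := by
        have h1 : (∑ i, σF (b.repr ⟨_, hmqss⟩ i) • b i :
            ssPart (redT I p₀ hI σ hσp σF hσF T)) = ⟨_, hmqss⟩ := by
          apply Subtype.ext
          rw [Submodule.coe_sum]
          simp only [Submodule.coe_smul]
          conv_rhs => rw [← hmqfix, hsum, map_sum]
          exact Finset.sum_congr rfl fun i _ => by rw [map_smulₛₗ, hb i]
        intro i
        have h2 := congrArg (fun z => b.repr z i) h1
        simp only [Module.Basis.repr_sum_self] at h2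
        exact h2
      choose r hrfix hrmk using fun i => hlift (b.repr ⟨_, hmqss⟩ i) (hcfix i)
      have hm'N : m - ∑ i, r i • mm i ∈ (I • ⊤ : Submodule R M) := by
        rw [← Submodule.Quotient.mk_eq_zero, Submodule.Quotient.mk_sub, sub_eq_zero]
        have h6 : (Submodule.Quotient.mk (∑ i, r i • mm i) : M ⧸ (I • ⊤ : Submodule R M)) =
            ∑ i, (Submodule.Quotient.mk (r i • mm i) : M ⧸ (I • ⊤ : Submodule R M)) :=
          map_sum (Submodule.mkQ (I • ⊤ : Submodule R M)) _ _
        rw [h6]
        conv_lhs => rw [hsum]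
        refine Finset.sum_congr rfl fun i _ => ?_
        rw [← hrmk i, ← hmmmk i, Module.Quotient.mk_smul_mk]
      have hm'fix : T (m - ∑ i, r i • mm i) = m - ∑ i, r i • mm i := by
        rw [map_sub, map_sum, hm]
        congr 1
        exact Finset.sum_congr rfl fun i _ => by rw [map_smulₛₗ, hrfix, hmmfix]
      have h3 := hsNspan ⟨_, hm'N⟩ (Subtype.ext hm'fix)
      have h4 : m - ∑ i, r i • mm i ∈ Submodule.span (σ.eqLocus (RingHom.id R))
          ((sN.image (I • ⊤ : Submodule R M).subtype : Finset M) : Set M) := by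
        rw [Finset.coe_image]
        exact coe_mem_span_image (I • ⊤ : Submodule R M) _ h3
      have hsplit : m = (m - ∑ i, r i • mm i) + ∑ i, r i • mm i := by abel
      rw [hsplit]
      refine Submodule.add_mem _ (Submodule.span_mono ?_ h4) ?_
      · rw [Finset.coe_union]
        exact Set.subset_union_left
      · refine Submodule.sum_mem _ fun i _ => ?_
        have h5 : r i • mm i = (⟨r i, hrfix i⟩ : σ.eqLocus (RingHom.id R)) • mm i := rfl
        rw [h5]
        refine Submodule.smul_mem _ _ (Submodule.subset_span ?_)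
        rw [Finset.coe_union]
        right
        simp

/-- Explicit form of the previous statement. -/
theorem fixedPoints_fg' (p₀ : R) (hI : I = Ideal.span {p₀}) (σ : R →+* R)
    (hσp : σ p₀ = p₀) (σF : R ⧸ I →+* R ⧸ I)
    (hσF : ∀ r, σF (Ideal.Quotient.mk I r) = Ideal.Quotient.mk I (σ r))
    (hgood : Good.{uR, w} (F := R ⧸ I) σF)
    (hlift : ∀ x : R ⧸ I, σF x = x → ∃ r : R, σ r = r ∧ Ideal.Quotient.mk I r = x) (n : ℕ)
    (M : Type w) [AddCommGroup M] [Module R M] [Module.Finite R M]
    (hn : ∀ m : M, p₀ ^ n • m = 0) (T : M →ₛₗ[σ] M) :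
    ∃ s : Finset M, (∀ m ∈ s, T m = m) ∧
      ∀ m : M, T m = m → ∃ c : M → R, (∀ x ∈ s, σ (c x) = c x) ∧ m = ∑ x ∈ s, c x • x := by
  obtain ⟨s, hs, hspan⟩ := fixedPoints_fg I p₀ hI σ hσp σF hσF hgood hlift n M hn T
  refine ⟨s, hs, fun m hm => ?_⟩
  obtain ⟨f, -, hf⟩ := Submodule.mem_span_finset.mp (hspan m hm)
  refine ⟨fun x => (f x : R), fun x _ => (f x).2, ?_⟩
  rw [← hf]
  rfl

end Fixed

end Groth.Agent.Lib.Helper22.SigmaLin
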