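import Mathlib
import Groth.Prelude.Def_WittGrp
import Groth.Agent.Lib.Helper22.LangModP
import Groth.Agent.Lib.Helper22.LangFitting
import Groth.Agent.Lib.Helper22.LangWitt
import Groth.Agent.Lib.Helper22.SigmaLin3
import Groth.Agent.Lib.Helper22.SigmaLin4

/-!
# Semilinear endomorphisms of finite modules over truncated Witt vectors (helper22)
-/

set_option autoImplicit false
set_option linter.unusedSectionVars false

universe uF w u v

noncomputable section

namespace Groth.Agent.Lib.Helper22.SigmaLin

open Groth.Agent.Lib.Helper22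

/-- Lang's theorem gives `Good` for an automorphism which is a `q`-Frobenius or its inverse. -/
theorem good_of_lang {F : Type uF} [Field F] [IsAlgClosed F] (e : F ≃+* F) (q : ℕ) (hq : 2 ≤ q)
    (he : (∀ x, e x = x ^ q) ∨ (∀ x, e.symm x = x ^ q)) : Good.{uF, w} (e : F →+* F) := by
  intro V _ _ _ T
  have hspan := span_range_ssRestrict T
  have hsurj : Function.Surjective (ssRestrict T) := by
    intro y
    have hy : y ∈ Submodule.span F (Set.range ((⇑(ssRestrict T))^[1])) := by
      rw [Function.iterate_one, hspan]; trivial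
    obtain ⟨x, hx⟩ := exists_of_mem_span_range_iterate (σ := (e : F →+* F)) e.surjective
      (ssRestrict T) 1 hy
    exact ⟨x, by simpa using hx⟩
  have hinj := Lang.injective_of_surjective_semilinear (ssRestrict T) hsurj
  obtain ⟨hsp, hsub⟩ := Lang.lang e q hq he (ssRestrict T) ⟨hinj, hsurj⟩
  refine ⟨sub_surjective_of_ssRestrict T ?_, ?_⟩
  · intro c
    obtain ⟨y, hy⟩ := hsub (-c)
    exact ⟨y, by show y - ssRestrict T y = c; rw [← neg_sub, hy, neg_neg]⟩
  · obtain ⟨b, hb⟩ := exists_fin_basis_of_span_eq_top (fun v => ssRestrict T v = v) hsp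
    exact ⟨b, fun i => congrArg Subtype.val (hb i)⟩

/-- `Good` for a ring endomorphism of an algebraically closed field which is a `q`-power map or an
inverse of it. -/
theorem good_of_pow {F : Type uF} [Field F] [IsAlgClosed F] (q : ℕ) (hq : 2 ≤ q) (σF : F →+* F)
    (h : (∀ x, σF x = x ^ q) ∨ (∀ x, (σF x) ^ q = x)) : Good.{uF, w} σF := by
  have hbij : Function.Bijective σF := by
    refine ⟨σF.injective, fun x => ?_⟩
    rcases h with h | h
    · obtain ⟨z, hz⟩ := IsAlgClosed.exists_pow_nat_eq x (by omega : 0 < q)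
      exact ⟨z, by rw [h, hz]⟩
    · exact ⟨x ^ q, by rw [map_pow, h]⟩
  let e : F ≃+* F := RingEquiv.ofBijective σF hbij
  have hee : (e : F →+* F) = σF := by ext x; rfl
  rw [← hee]
  refine good_of_lang e q hq ?_
  rcases h with h | h
  · left; intro x; exact h x
  · right
    intro x
    rw [RingEquiv.symm_apply_eq]
    show x = σF (x ^ q)
    rw [map_pow, h]

section Witt

variable (p : ℕ) [Fact p.Prime] (k : Type u) [Field k] [CharP k p] (n : ℕ)

/-- The zeroth component as a ring homomorphism `W_{n+1}(k) → k`. -/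
def pi0 : TruncatedWittVector p (n + 1) k →+* k where
  toFun x := x.coeff 0
  map_one' := by
    rw [← map_one (WittVector.truncate (p := p) (R := k) (n + 1)), WittVector.coeff_truncate]
    exact WittVector.one_coeff_zero p k
  map_zero' := by
    rw [← map_zero (WittVector.truncate (p := p) (R := k) (n + 1)), WittVector.coeff_truncate]
    exact WittVector.zero_coeff p k _
  map_mul' x y := by
    obtain ⟨X, rfl⟩ := WittVector.truncate_surjective p (n + 1) k x
    obtain ⟨Y, rfl⟩ := WittVector.truncate_surjective p (n + 1) k y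
    rw [← map_mul, WittVector.coeff_truncate, WittVector.coeff_truncate, WittVector.coeff_truncate]
    exact WittVector.mul_coeff_zero X Y
  map_add' x y := by
    obtain ⟨X, rfl⟩ := WittVector.truncate_surjective p (n + 1) k x
    obtain ⟨Y, rfl⟩ := WittVector.truncate_surjective p (n + 1) k y
    rw [← map_add, WittVector.coeff_truncate, WittVector.coeff_truncate, WittVector.coeff_truncate]
    exact WittVector.add_coeff_zero X Y

theorem pi0_apply (x : TruncatedWittVector p (n + 1) k) : pi0 p k n x = x.coeff 0 := rfl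

theorem pi0_truncate (X : WittVector p k) :
    pi0 p k n (WittVector.truncate (n + 1) X) = X.coeff 0 := by
  rw [pi0_apply, WittVector.coeff_truncate]
  rfl

theorem pi0_surjective : Function.Surjective (pi0 p k n) := fun a =>
  ⟨WittVector.truncate (n + 1) (WittVector.teichmuller p a), by
    rw [pi0_truncate, WittVector.teichmuller_coeff_zero]⟩

theorem p_pow_eq_zero : (p : TruncatedWittVector p (n + 1) k) ^ (n + 1) = 0 := by
  have h1 : (p : TruncatedWittVector p (n + 1) k) ^ (n + 1) =
      WittVector.truncate (n + 1) ((p : WittVector p k) ^ (n + 1)) := by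
    rw [map_pow, map_natCast]
  rw [h1]
  apply TruncatedWittVector.ext
  intro i
  rw [WittVector.coeff_truncate, WittVector.coeff_p_pow_eq_zero p k (by omega),
    TruncatedWittVector.coeff_zero]

theorem pi0_truncMap (f : k →+* k) (x : TruncatedWittVector p (n + 1) k) :
    pi0 p k n (WittGrp.truncMap p (n + 1) f x) = f (pi0 p k n x) := by
  rw [pi0_apply, pi0_apply, WittGrp.coeff_truncMap]

theorem ker_pi0 [PerfectRing k p] :
    RingHom.ker (pi0 p k n) = Ideal.span {(p : TruncatedWittVector p (n + 1) k)} := by
  apply le_antisymm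
  · intro x hx
    rw [RingHom.mem_ker] at hx
    obtain ⟨X, rfl⟩ := WittVector.truncate_surjective p (n + 1) k x
    rw [pi0_truncate] at hx
    obtain ⟨Y, rfl⟩ := Lang.dvd_of_coeff_zero_eq_zero hx
    rw [Ideal.mem_span_singleton]
    exact ⟨WittVector.truncate (n + 1) Y, by rw [map_mul, map_natCast]⟩
  · rw [Ideal.span_singleton_le_iff_mem, RingHom.mem_ker]
    have : (p : TruncatedWittVector p (n + 1) k) = WittVector.truncate (n + 1) (p : WittVector p k) := by
      rw [map_natCast]
    rw [this, pi0_truncate, WittVector.coeff_p_zero]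

end Witt

section Main

attribute [local instance] Ideal.Quotient.field

variable (p : ℕ) [Fact p.Prime] (k : Type u) [Field k] [CharP k p] [IsAlgClosed k] (n : ℕ)

instance ker_pi0_isMaximal : (RingHom.ker (pi0 p k n)).IsMaximal :=
  RingHom.ker_isMaximal_of_surjective _ (pi0_surjective p k n)

/-- The endomorphism of the residue field induced by `truncMap f`. -/
def sigmaF (f : k →+* k) :
    (TruncatedWittVector p (n + 1) k ⧸ RingHom.ker (pi0 p k n)) →+*
      (TruncatedWittVector p (n + 1) k ⧸ RingHom.ker (pi0 p k n)) :=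
  Ideal.quotientMap _ (WittGrp.truncMap p (n + 1) f) (by
    intro x hx
    rw [Ideal.mem_comap, RingHom.mem_ker, pi0_truncMap, (RingHom.mem_ker).mp hx, map_zero])

theorem sigmaF_mk (f : k →+* k) (r : TruncatedWittVector p (n + 1) k) :
    sigmaF p k n f (Ideal.Quotient.mk _ r) =
      Ideal.Quotient.mk _ (WittGrp.truncMap p (n + 1) f r) :=
  Ideal.quotientMap_mk

theorem mk_eq_mk_iff (a b : TruncatedWittVector p (n + 1) k) :
    Ideal.Quotient.mk (RingHom.ker (pi0 p k n)) a = Ideal.Quotient.mk _ b ↔
      pi0 p k n a = pi0 p k n b := by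
  rw [Ideal.Quotient.eq, RingHom.mem_ker, map_sub, sub_eq_zero]

theorem isAlgClosed_quot :
    IsAlgClosed (TruncatedWittVector p (n + 1) k ⧸ RingHom.ker (pi0 p k n)) :=
  IsAlgClosed.of_ringEquiv k _ (RingHom.quotientKerEquivOfSurjective (pi0_surjective p k n)).symm

theorem good_sigmaF (f : k →+* k) (hf : (∀ x, f x = x ^ p) ∨ (∀ x, (f x) ^ p = x)) :
    Good.{u, v} (sigmaF p k n f) := by
  haveI := isAlgClosed_quot p k n
  refine good_of_pow p (Fact.out : p.Prime).two_le _ ?_
  rcases hf with hf | hf
  · left
    intro x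
    obtain ⟨r, rfl⟩ := Ideal.Quotient.mk_surjective x
    rw [sigmaF_mk, ← map_pow, mk_eq_mk_iff, pi0_truncMap, map_pow, hf]
  · right
    intro x
    obtain ⟨r, rfl⟩ := Ideal.Quotient.mk_surjective x
    rw [sigmaF_mk, ← map_pow, mk_eq_mk_iff, map_pow, pi0_truncMap, hf]

theorem hlift_sigmaF (f : k →+* k) :
    ∀ x : TruncatedWittVector p (n + 1) k ⧸ RingHom.ker (pi0 p k n), sigmaF p k n f x = x →
      ∃ r : TruncatedWittVector p (n + 1) k, WittGrp.truncMap p (n + 1) f r = r ∧
        Ideal.Quotient.mk _ r = x := by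
  intro x hx
  obtain ⟨r₀, rfl⟩ := Ideal.Quotient.mk_surjective x
  rw [sigmaF_mk, mk_eq_mk_iff, pi0_truncMap] at hx
  refine ⟨WittVector.truncate (n + 1) (WittVector.teichmuller p (pi0 p k n r₀)), ?_, ?_⟩
  · rw [WittGrp.truncMap_truncate, WittVector.map_teichmuller, hx]
  · rw [mk_eq_mk_iff, pi0_truncate, WittVector.teichmuller_coeff_zero]

theorem witt_sub_surjective_succ (f : k →+* k) (hf : (∀ x, f x = x ^ p) ∨ (∀ x, (f x) ^ p = x))
    (M : Type v) [AddCommGroup M] [Module (TruncatedWittVector p (n + 1) k) M]
    [Module.Finite (TruncatedWittVector p (n + 1) k) M]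
    (T : M →ₛₗ[WittGrp.truncMap p (n + 1) f] M) :
    Function.Surjective (fun m : M => T m - m) := by
  have h := sub_surjective_of_nilpotent (RingHom.ker (pi0 p k n))
    (p : TruncatedWittVector p (n + 1) k) (ker_pi0 p k n) (WittGrp.truncMap p (n + 1) f)
    (map_natCast _ p) (sigmaF p k n f) (sigmaF_mk p k n f) (good_sigmaF p k n f hf) (n + 1)
    (fun m => by rw [p_pow_eq_zero, zero_smul]) T
  intro c
  obtain ⟨m, hm⟩ := h (-c)
  have hm' : m - T m = -c := hm
  exact ⟨m, by show T m - m = c; rw [← neg_sub, hm', neg_neg]⟩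

theorem fixed_coeff_finite (f : k →+* k) (hf : (∀ x, f x = x ^ p) ∨ (∀ x, (f x) ^ p = x)) :
    {a : k | f a = a}.Finite := by
  have hsub : {a : k | f a = a} ⊆ {a | (Polynomial.X ^ p - Polynomial.X : Polynomial k).IsRoot a} := by
    intro a ha
    have ha' : f a = a := ha
    have : a ^ p = a := by
      rcases hf with hf | hf
      · rw [← hf, ha']
      · have := hf a
        rw [ha'] at this
        exact this
    show (Polynomial.X ^ p - Polynomial.X : Polynomial k).IsRoot a
    rw [Polynomial.IsRoot.def, Polynomial.eval_sub, Polynomial.eval_pow, Polynomial.eval_X, this,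
      sub_self]
  exact (Polynomial.finite_setOf_isRoot
    (FiniteField.X_pow_card_sub_X_ne_zero k (Fact.out : p.Prime).one_lt)).subset hsub

theorem eqLocus_finite (f : k →+* k) (hf : (∀ x, f x = x ^ p) ∨ (∀ x, (f x) ^ p = x)) :
    Finite ((WittGrp.truncMap p (n + 1) f).eqLocus (RingHom.id _)) := by
  have hfin := fixed_coeff_finite p k f hf
  have hsub : (((WittGrp.truncMap p (n + 1) f).eqLocus (RingHom.id _) :
      Subring (TruncatedWittVector p (n + 1) k)) : Set (TruncatedWittVector p (n + 1) k)) ⊆
      (fun c : Fin (n + 1) → k => TruncatedWittVector.mk p c) ''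
        (Set.pi Set.univ (fun _ => {a : k | f a = a})) := by
    intro r hr
    have hr' : WittGrp.truncMap p (n + 1) f r = r := hr
    refine ⟨fun i => r.coeff i, fun i _ => ?_, TruncatedWittVector.mk_coeff r⟩
    have := congrArg (fun y => TruncatedWittVector.coeff i y) hr'
    simpa [WittGrp.coeff_truncMap] using this
  exact Set.finite_coe_iff.mpr (((Set.Finite.pi (fun _ => hfin)).image _).subset hsub)

theorem witt_fixed_finite_succ (f : k →+* k) (hf : (∀ x, f x = x ^ p) ∨ (∀ x, (f x) ^ p = x))
    (M : Type v) [AddCommGroup M] [Module (TruncatedWittVector p (n + 1) k) M]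
    [Module.Finite (TruncatedWittVector p (n + 1) k) M]
    (T : M →ₛₗ[WittGrp.truncMap p (n + 1) f] M) :
    {m : M | T m = m}.Finite := by
  obtain ⟨s, -, hspan⟩ := fixedPoints_fg (RingHom.ker (pi0 p k n))
    (p : TruncatedWittVector p (n + 1) k) (ker_pi0 p k n) (WittGrp.truncMap p (n + 1) f)
    (map_natCast _ p) (sigmaF p k n f) (sigmaF_mk p k n f) (good_sigmaF p k n f hf)
    (hlift_sigmaF p k n f) (n + 1) M (fun m => by rw [p_pow_eq_zero, zero_smul]) T
  haveI := eqLocus_finite p k n f hf
  haveI : Module.Finite ((WittGrp.truncMap p (n + 1) f).eqLocus (RingHom.id _))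
      (Submodule.span ((WittGrp.truncMap p (n + 1) f).eqLocus (RingHom.id _)) (s : Set M)) :=
    Module.Finite.span_finset _ s
  haveI : Finite (Submodule.span ((WittGrp.truncMap p (n + 1) f).eqLocus (RingHom.id _))
      (s : Set M)) :=
    Module.finite_of_finite ((WittGrp.truncMap p (n + 1) f).eqLocus (RingHom.id _))
  exact Set.Finite.subset (Set.toFinite
    ((Submodule.span ((WittGrp.truncMap p (n + 1) f).eqLocus (RingHom.id _)) (s : Set M) :
      Submodule _ M) : Set M)) (fun m hm => hspan m hm)

theorem subsingleton_of_zero (M : Type v) [AddCommGroup M] [Module (TruncatedWittVector p 0 k) M] :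
    Subsingleton M := by
  haveI : Subsingleton (TruncatedWittVector p 0 k) :=
    ⟨fun a b => TruncatedWittVector.ext (fun i => i.elim0)⟩
  exact Module.subsingleton (TruncatedWittVector p 0 k) M

theorem frob_cases (f : k →+* k)
    (hf : f = frobenius k p ∨ f = (frobeniusEquiv k p).symm.toRingHom) :
    (∀ x, f x = x ^ p) ∨ (∀ x, (f x) ^ p = x) := by
  rcases hf with rfl | rfl
  · left; intro x; exact frobenius_def p x
  · right; intro x; exact frobeniusEquiv_symm_pow_p k p x

/-- S19237 in library form. -/
theorem witt_sub_surjective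
    (σ : TruncatedWittVector p n k →+* TruncatedWittVector p n k)
    (hσ : σ = WittGrp.truncMap p n (frobenius k p) ∨
      σ = WittGrp.truncMap p n (frobeniusEquiv k p).symm.toRingHom)
    (M : Type v) [AddCommGroup M] [Module (TruncatedWittVector p n k) M]
    [Module.Finite (TruncatedWittVector p n k) M] (T : M →ₛₗ[σ] M) :
    Function.Surjective (fun m : M => T m - m) := by
  cases n with
  | zero =>
    haveI := subsingleton_of_zero p k M
    intro c
    exact ⟨c, Subsingleton.elim _ _⟩
  | succ n =>
    rcases hσ with rfl | rfl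
    · exact witt_sub_surjective_succ p k n _ (frob_cases p k _ (Or.inl rfl)) M T
    · exact witt_sub_surjective_succ p k n _ (frob_cases p k _ (Or.inr rfl)) M T

/-- S19238 in library form. -/
theorem witt_fixed_finite
    (σ : TruncatedWittVector p n k →+* TruncatedWittVector p n k)
    (hσ : σ = WittGrp.truncMap p n (frobenius k p) ∨
      σ = WittGrp.truncMap p n (frobeniusEquiv k p).symm.toRingHom)
    (M : Type v) [AddCommGroup M] [Module (TruncatedWittVector p n k) M]
    [Module.Finite (TruncatedWittVector p n k) M] (T : M →ₛₗ[σ] M) :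
    {m : M | T m = m}.Finite := by
  cases n with
  | zero =>
    haveI := subsingleton_of_zero p k M
    exact Set.toFinite _
  | succ n =>
    rcases hσ with rfl | rfl
    · exact witt_fixed_finite_succ p k n _ (frob_cases p k _ (Or.inl rfl)) M T
    · exact witt_fixed_finite_succ p k n _ (frob_cases p k _ (Or.inr rfl)) M T

end Main

end Groth.Agent.Lib.Helper22.SigmaLin
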