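import Mathlib
import Groth.Agent.Lib.Helper22.SigmaLin5

/-!
# Fixed vectors of a Frobenius-semilinear map under extension of algebraically closed fields
(helper22)
-/

set_option autoImplicit false
set_option linter.unusedSectionVars false

universe u

noncomputable section

namespace Groth.Agent.Lib.Helper22.FrobBaseChange

open TensorProduct Groth.Agent.Lib.Helper22

/-- In a field extension `k ⊆ k'` of characteristic `p` with `k` algebraically closed, the roots
of `X^p - X` in `k'` come from `k`. -/
theorem exists_of_pow_eq_self {k k' : Type*} [Field k] [IsAlgClosed k] [Field k'] [Algebra k k']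
    (p : ℕ) [Fact p.Prime] [CharP k p] (y : k') (hy : y ^ p = y) :
    ∃ z : k, z ^ p = z ∧ algebraMap k k' z = y := by
  classical
  haveI : CharP k' p := charP_of_injective_algebraMap (algebraMap k k').injective p
  let c : ZMod p →+* k' := ZMod.castHom (dvd_refl p) k'
  let c₀ : ZMod p →+* k := ZMod.castHom (dvd_refl p) k
  have hcc : ∀ a, algebraMap k k' (c₀ a) = c a := fun a => by
    have : (algebraMap k k').comp c₀ = c := Subsingleton.elim _ _
    exact RingHom.congr_fun this a
  have hp1 : 1 < p := (Fact.out : p.Prime).one_lt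
  have hne : (Polynomial.X ^ p - Polynomial.X : Polynomial k') ≠ 0 :=
    FiniteField.X_pow_card_sub_X_ne_zero k' hp1
  have hsub : Finset.univ.image c ⊆ (Polynomial.X ^ p - Polynomial.X : Polynomial k').roots.toFinset := by
    intro x hx
    obtain ⟨a, -, rfl⟩ := Finset.mem_image.mp hx
    rw [Multiset.mem_toFinset, Polynomial.mem_roots hne]
    simp only [Polynomial.IsRoot, Polynomial.eval_sub, Polynomial.eval_pow, Polynomial.eval_X]
    rw [← map_pow, ZMod.pow_card, sub_self]
  have hcard : (Polynomial.X ^ p - Polynomial.X : Polynomial k').roots.toFinset.card ≤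
      (Finset.univ.image c).card := by
    rw [Finset.card_image_of_injective _ c.injective, Finset.card_univ, ZMod.card]
    calc (Polynomial.X ^ p - Polynomial.X : Polynomial k').roots.toFinset.card
        ≤ Multiset.card (Polynomial.X ^ p - Polynomial.X : Polynomial k').roots :=
          Multiset.toFinset_card_le _
      _ ≤ (Polynomial.X ^ p - Polynomial.X : Polynomial k').natDegree :=
          Polynomial.card_roots' _
      _ = p := FiniteField.X_pow_card_sub_X_natDegree_eq k' hp1
  have heq := Finset.eq_of_subset_of_card_le hsub hcard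
  have hyroot : y ∈ (Polynomial.X ^ p - Polynomial.X : Polynomial k').roots.toFinset := by
    rw [Multiset.mem_toFinset, Polynomial.mem_roots hne]
    simp only [Polynomial.IsRoot, Polynomial.eval_sub, Polynomial.eval_pow, Polynomial.eval_X]
    rw [hy, sub_self]
  rw [← heq] at hyroot
  obtain ⟨a, -, rfl⟩ := Finset.mem_image.mp hyroot
  exact ⟨c₀ a, by rw [← map_pow, ZMod.pow_card], hcc a⟩

theorem bijOn_fixed {k k' V : Type u} [Field k] [IsAlgClosed k] [Field k']
    [IsAlgClosed k'] [Algebra k k'] (p : ℕ) [Fact p.Prime] [CharP k p]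
    [AddCommGroup V] [Module k V] [FiniteDimensional k V] (F : V →+ V)
    (hF : ∀ (c : k) (v : V), F (c • v) = c ^ p • F v)
    (F' : k' ⊗[k] V →+ k' ⊗[k] V) (hF' : ∀ (c : k') (v : V), F' (c ⊗ₜ[k] v) = (c ^ p) ⊗ₜ[k] F v) :
    Set.BijOn (fun v : V => (1 : k') ⊗ₜ[k] v) {v : V | F v = v} {w : k' ⊗[k] V | F' w = w} := by
  classical
  let T : V →ₛₗ[frobenius k p] V :=
    { toFun := F
      map_add' := map_add F
      map_smul' := fun c v => by
        show F (c • v) = frobenius k p c • F v
        rw [hF, frobenius_def] }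
  have hgood : SigmaLin.Good.{u, u} (frobenius k p) :=
    SigmaLin.good_of_pow p (Fact.out : p.Prime).two_le _ (Or.inl (fun x => frobenius_def p x))
  obtain ⟨b, hb⟩ := (hgood V T).2
  obtain ⟨N, hN⟩ := SigmaLin.exists_iterate_mem_ssPart T
  have hFb : ∀ i, F (b i : V) = (b i : V) := hb
  -- semilinearity of F'
  have hF'smul : ∀ (c : k') (w : k' ⊗[k] V), F' (c • w) = c ^ p • F' w := by
    intro c w
    induction w using TensorProduct.induction_on with
    | zero => simp
    | tmul c' v =>
      rw [TensorProduct.smul_tmul', smul_eq_mul, hF', hF', mul_pow, TensorProduct.smul_tmul',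
        smul_eq_mul]
    | add x y hx hy => rw [smul_add, map_add, hx, hy, map_add, smul_add]
  have hF'iter : ∀ (n : ℕ) (c : k') (v : V),
      (⇑F')^[n] (c ⊗ₜ[k] v) = (c ^ p ^ n) ⊗ₜ[k] (⇑F)^[n] v := by
    intro n
    induction n with
    | zero => intro c v; simp
    | succ n ih =>
      intro c v
      rw [Function.iterate_succ_apply', ih, hF', Function.iterate_succ_apply', ← pow_mul,
        pow_succ]
  have hli : LinearIndependent k' (fun i => (1 : k') ⊗ₜ[k] ((b i : SigmaLin.ssPart T) : V)) := by
    have h1 : LinearIndependent k (fun i => ((b i : SigmaLin.ssPart T) : V)) :=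
      b.linearIndependent.map' (SigmaLin.ssPart T).subtype (Submodule.ker_subtype _)
    exact Module.Flat.linearIndependent_one_tmul h1
  refine ⟨?_, ?_, ?_⟩
  · intro v hv
    show F' ((1 : k') ⊗ₜ[k] v) = (1 : k') ⊗ₜ[k] v
    have hv' : F v = v := hv
    rw [hF', one_pow, hv']
  · intro v _ v' _ h
    exact Module.Flat.tensorProduct_mk_injective k V k' h
  · intro w hw
    have hw' : F' w = w := hw
    have hwN : (⇑F')^[N] w = w := Function.iterate_fixed hw' N
    -- w lies in the span of the `1 ⊗ b i`
    have hiteradd' : ∀ (n : ℕ) (x y : k' ⊗[k] V),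
        (⇑F')^[n] (x + y) = (⇑F')^[n] x + (⇑F')^[n] y := by
      intro n
      induction n with
      | zero => intro x y; rfl
      | succ n ih =>
        intro x y
        rw [Function.iterate_succ_apply, map_add, ih, Function.iterate_succ_apply,
          Function.iterate_succ_apply]
    have hiteradd : ∀ x y, (⇑F')^[N] (x + y) = (⇑F')^[N] x + (⇑F')^[N] y := hiteradd' N
    have hmem : ∀ x : k' ⊗[k] V, (⇑F')^[N] x ∈
        Submodule.span k' (Set.range fun i => (1 : k') ⊗ₜ[k] ((b i : SigmaLin.ssPart T) : V)) := by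
      intro x
      induction x using TensorProduct.induction_on with
      | zero =>
        have : (⇑F')^[N] 0 = 0 := Function.iterate_fixed (map_zero F') N
        rw [this]
        exact Submodule.zero_mem _
      | tmul c v =>
        rw [hF'iter]
        have h1 : (⇑F)^[N] v ∈ SigmaLin.ssPart T := hN v
        have h2 := b.sum_repr ⟨(⇑F)^[N] v, h1⟩
        have h3 : (⇑F)^[N] v = ∑ i, (b.repr ⟨(⇑F)^[N] v, h1⟩ i) • ((b i : SigmaLin.ssPart T) : V) := by
          have := congrArg Subtype.val h2
          simp only [Submodule.coe_sum, Submodule.coe_smul] at this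
          exact this.symm
        rw [h3, TensorProduct.tmul_sum]
        refine Submodule.sum_mem _ fun i _ => ?_
        rw [TensorProduct.tmul_smul, TensorProduct.smul_tmul']
        have h4 : (b.repr ⟨(⇑F)^[N] v, h1⟩ i • c ^ p ^ N) ⊗ₜ[k] ((b i : SigmaLin.ssPart T) : V) =
            (b.repr ⟨(⇑F)^[N] v, h1⟩ i • c ^ p ^ N) • ((1 : k') ⊗ₜ[k] ((b i : SigmaLin.ssPart T) : V)) := by
          rw [TensorProduct.smul_tmul', smul_eq_mul, mul_one]
        rw [h4]
        exact Submodule.smul_mem _ _ (Submodule.subset_span ⟨i, rfl⟩)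
      | add x y hx hy =>
        rw [hiteradd]
        exact Submodule.add_mem _ hx hy
    have hwmem := hmem w
    rw [hwN] at hwmem
    obtain ⟨y, hy⟩ := (Submodule.mem_span_range_iff_exists_fun k').mp hwmem
    -- coefficients are fixed by Frobenius
    have hF'w : F' w = ∑ i, (y i) ^ p • ((1 : k') ⊗ₜ[k] ((b i : SigmaLin.ssPart T) : V)) := by
      rw [← hy, map_sum]
      refine Finset.sum_congr rfl fun i _ => ?_
      rw [hF'smul, hF', one_pow, hFb]
    have hcoef : ∀ i, (y i) ^ p = y i := by
      have h0 : ∑ i, ((y i) ^ p - y i) • ((1 : k') ⊗ₜ[k] ((b i : SigmaLin.ssPart T) : V)) = 0 := by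
        have hsub : ∀ i, ((y i) ^ p - y i) • ((1 : k') ⊗ₜ[k] ((b i : SigmaLin.ssPart T) : V)) =
            (y i) ^ p • ((1 : k') ⊗ₜ[k] ((b i : SigmaLin.ssPart T) : V)) -
              y i • ((1 : k') ⊗ₜ[k] ((b i : SigmaLin.ssPart T) : V)) := fun i =>
          sub_smul (R := k') (M := k' ⊗[k] V) ((y i) ^ p) (y i) _
        rw [Finset.sum_congr rfl (fun i _ => hsub i), Finset.sum_sub_distrib, ← hF'w, hy, hw',
          sub_self]
      intro i
      exact sub_eq_zero.mp (Fintype.linearIndependent_iff.mp hli _ h0 i)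
    choose z hz hzy using fun i => exists_of_pow_eq_self (k := k) (k' := k') p (y i) (hcoef i)
    refine ⟨∑ i, z i • ((b i : SigmaLin.ssPart T) : V), ?_, ?_⟩
    · show F (∑ i, z i • ((b i : SigmaLin.ssPart T) : V)) = ∑ i, z i • ((b i : SigmaLin.ssPart T) : V)
      rw [map_sum]
      refine Finset.sum_congr rfl fun i _ => ?_
      rw [hF, hz, hFb]
    · show (1 : k') ⊗ₜ[k] (∑ i, z i • ((b i : SigmaLin.ssPart T) : V)) = w
      rw [← hy, TensorProduct.tmul_sum]
      refine Finset.sum_congr rfl fun i _ => ?_
      rw [TensorProduct.tmul_smul, TensorProduct.smul_tmul', ← hzy i, Algebra.smul_def, mul_one,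
        TensorProduct.smul_tmul', smul_eq_mul, mul_one]

end Groth.Agent.Lib.Helper22.FrobBaseChange
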