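import Mathlib
import Groth.Agent.S0517

/-!
# Frobenius-semilinear systems are étale (helper22)
-/

set_option autoImplicit false
set_option linter.unusedSectionVars false

universe u

noncomputable section

namespace Groth.Agent.Lib.Helper22.FrobHensel

open MvPolynomial

variable (p : ℕ) [Fact p.Prime] {R : Type u} [CommRing R] {n : ℕ}

/-- The polynomial system `A x^(p) - x - b = 0`. -/
def sys (A : Matrix (Fin n) (Fin n) R) (b : Fin n → R) (i : Fin n) : MvPolynomial (Fin n) R :=
  ∑ j, C (A i j) * X j ^ p - X i - C (b i)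

theorem eval_sys (A : Matrix (Fin n) (Fin n) R) (b : Fin n → R) (x : Fin n → R) (i : Fin n) :
    MvPolynomial.eval x (sys p A b i) = ∑ j, A i j * x j ^ p - x i - b i := by
  simp [sys]

theorem map_sys {S : Type*} [CommRing S] (φ : R →+* S) (A : Matrix (Fin n) (Fin n) R)
    (b : Fin n → R) (i : Fin n) :
    MvPolynomial.map φ (sys p A b i) = sys p (A.map φ) (φ ∘ b) i := by
  simp [sys]

theorem pderiv_sys [CharP R p] (A : Matrix (Fin n) (Fin n) R) (b : Fin n → R) (i k : Fin n) :
    pderiv k (sys p A b i) = if i = k then -1 else 0 := by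
  classical
  have hp0 : (p : MvPolynomial (Fin n) R) = 0 := by
    rw [← map_natCast (C : R →+* MvPolynomial (Fin n) R), CharP.cast_eq_zero, map_zero]
  have h1 : ∀ j, pderiv k (C (A i j) * X j ^ p : MvPolynomial (Fin n) R) = 0 := by
    intro j
    rw [Derivation.leibniz, pderiv_C, smul_zero, add_zero, Derivation.leibniz_pow, nsmul_eq_mul,
      hp0, zero_mul, smul_zero]
  simp only [sys, map_sub, map_sum, h1, Finset.sum_const_zero, pderiv_C, sub_zero, zero_sub,
    pderiv_X, Pi.single_apply]
  by_cases h : i = k
  · subst h; simp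
  · simp [h]

instance sys_etale [CharP R p] (A : Matrix (Fin n) (Fin n) R) (b : Fin n → R) :
    Algebra.Etale R (MvPolynomial (Fin n) R ⧸ Ideal.span (Set.range (sys p A b))) := by
  classical
  let P0 : Algebra.PreSubmersivePresentation R
      (MvPolynomial (Fin n) R ⧸ Ideal.span (Set.range (sys p A b))) (Fin n) (Fin n) :=
    Algebra.PreSubmersivePresentation.naive (v := sys p A b) id Function.injective_id
  have hmat : P0.jacobiMatrix = -1 := by
    ext i j
    rw [Algebra.PreSubmersivePresentation.jacobiMatrix_naive, pderiv_sys]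
    simp only [id_eq, Matrix.neg_apply, Matrix.one_apply]
    by_cases h : j = i
    · subst h; simp
    · rw [if_neg h, if_neg (fun h' => h h'.symm)]; simp
  have hunit : IsUnit P0.jacobian := by
    rw [Algebra.PreSubmersivePresentation.jacobian_eq_jacobiMatrix_det, hmat]
    apply IsUnit.map
    rw [Matrix.det_neg, Matrix.det_one, mul_one]
    exact (isUnit_one.neg).pow _
  let S0 : Algebra.SubmersivePresentation R
      (MvPolynomial (Fin n) R ⧸ Ideal.span (Set.range (sys p A b))) (Fin n) (Fin n) :=
    ⟨P0, hunit⟩
  haveI : Algebra.IsStandardSmoothOfRelativeDimension 0 R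
      (MvPolynomial (Fin n) R ⧸ Ideal.span (Set.range (sys p A b))) :=
    S0.isStandardSmoothOfRelativeDimension (by simp [Algebra.Presentation.dimension])
  infer_instance

end Groth.Agent.Lib.Helper22.FrobHensel
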