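import Mathlib
import Groth.Agent.S0078
import Groth.Agent.Lib.Helper22.SigmaLin5

/-!
# Counting fixed points of bijective Frobenius-semilinear maps over an algebraically closed field
(helper22)
-/

set_option autoImplicit false
set_option linter.unusedSectionVars false

universe u

noncomputable section

namespace Groth.Agent.Lib.Helper22.FrobHensel

open Groth.Agent.Lib.Helper22

section Field

variable {F V : Type u} [Field F] [IsAlgClosed F] (p : ℕ) [Fact p.Prime] [CharP F p]
  [AddCommGroup V] [Module F V] [FiniteDimensional F V]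

theorem sub_surjective_field (T : V →ₛₗ[frobenius F p] V) :
    Function.Surjective (fun v : V => T v - v) := by
  have hgood : SigmaLin.Good.{u, u} (frobenius F p) :=
    SigmaLin.good_of_pow p (Fact.out : p.Prime).two_le _ (Or.inl (fun x => frobenius_def p x))
  intro c
  obtain ⟨m, hm⟩ := (hgood V T).1 (-c)
  have hm' : m - T m = -c := hm
  exact ⟨m, by show T m - m = c; rw [← neg_sub, hm', neg_neg]⟩

theorem exists_fixed_basis (T : V →ₛₗ[frobenius F p] V) (hT : Function.Bijective T) :
    ∃ b : Module.Basis (Fin (Module.finrank F V)) F V, ∀ i, T (b i) = b i := by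
  have hbij : Function.Bijective (frobenius F p) :=
    ⟨(frobenius F p).injective, fun x => by
      obtain ⟨z, hz⟩ := IsAlgClosed.exists_pow_nat_eq x (Fact.out : p.Prime).pos
      exact ⟨z, by rw [frobenius_def, hz]⟩⟩
  let e : F ≃+* F := RingEquiv.ofBijective (frobenius F p) hbij
  let φ : V →ₛₗ[(e : F →+* F)] V :=
    { toFun := T
      map_add' := map_add T
      map_smul' := fun c x => T.map_smulₛₗ c x }
  obtain ⟨hsp, -⟩ := Lang.lang e p (Fact.out : p.Prime).two_le
    (Or.inl (fun x => frobenius_def p x)) φ hT
  exact SigmaLin.exists_fin_basis_of_span_eq_top (fun v => T v = v) hsp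

theorem card_fixed_field (T : V →ₛₗ[frobenius F p] V) (hT : Function.Bijective T) :
    Nat.card {v : V | T v = v} = p ^ Module.finrank F V := by
  classical
  obtain ⟨hfin, hle⟩ := Groth.Agent.S0078.result (k := F) (V := V) p T.toAddMonoidHom
    (fun c v => by
      show T (c • v) = c ^ p • T v
      rw [map_smulₛₗ, frobenius_def])
  have hfin' : Set.Finite {v : V | T v = v} := hfin
  have hle' : Nat.card {v : V | T v = v} ≤ p ^ Module.finrank F V := hle
  refine le_antisymm hle' ?_
  obtain ⟨b, hb⟩ := exists_fixed_basis p T hT
  haveI : Finite {v : V | T v = v} := hfin'.to_subtype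
  let cast : ZMod p →+* F := ZMod.castHom (dvd_refl p) F
  have hcast : ∀ c : ZMod p, (cast c) ^ p = cast c := fun c => by
    rw [← map_pow, ZMod.pow_card]
  let ι : (Fin (Module.finrank F V) → ZMod p) → {v : V | T v = v} := fun c =>
    ⟨∑ i, cast (c i) • b i, by
      show T (∑ i, cast (c i) • b i) = ∑ i, cast (c i) • b i
      rw [map_sum]
      refine Finset.sum_congr rfl fun i _ => ?_
      rw [map_smulₛₗ, frobenius_def, hcast, hb]⟩
  have hι : Function.Injective ι := by
    intro c c' h
    have h1 : ∑ i, cast (c i) • b i = ∑ i, cast (c' i) • b i := congrArg Subtype.val h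
    have h2 : ∑ i, (cast (c i) - cast (c' i)) • b i = 0 := by
      simp only [sub_smul, Finset.sum_sub_distrib, h1, sub_self]
    have h3 := Fintype.linearIndependent_iff.mp b.linearIndependent _ h2
    funext i
    exact cast.injective (sub_eq_zero.mp (h3 i))
  have := Nat.card_le_card_of_injective ι hι
  rwa [Nat.card_fun, Nat.card_zmod, Nat.card_fin] at this

end Field

end Groth.Agent.Lib.Helper22.FrobHensel
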