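import Mathlib
import Groth.Agent.S0517
import Groth.Agent.Lib.Helper22.FrobHensel1
import Groth.Agent.Lib.Helper22.FrobHensel2

/-!
# Frobenius-semilinear systems over a strictly henselian local ring (helper22)
-/

set_option autoImplicit false
set_option linter.unusedSectionVars false

universe u

noncomputable section

namespace Groth.Agent.Lib.Helper22.FrobHensel

open MvPolynomial IsLocalRing

section Main

variable (p : ℕ) [Fact p.Prime] (R : Type u) [CommRing R] [HenselianLocalRing R]
  [IsSepClosed (IsLocalRing.ResidueField R)] [CharP R p] {n : ℕ}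

/-- The algebraic closure of the residue field. -/
abbrev Kbar : Type u := AlgebraicClosure (IsLocalRing.ResidueField R)

/-- The map to the algebraic closure of the residue field. -/
def phi : R →+* Kbar R :=
  (algebraMap (IsLocalRing.ResidueField R) (Kbar R)).comp (IsLocalRing.residue R)

instance phi_isLocalHom : IsLocalHom (phi R) := by
  refine ⟨fun a ha => ?_⟩
  by_contra hna
  have h1 : IsLocalRing.residue R a = 0 := by
    rw [IsLocalRing.residue_eq_zero_iff]
    exact (IsLocalRing.mem_maximalIdeal a).mpr hna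
  have h2 : phi R a = 0 := by
    show algebraMap (IsLocalRing.ResidueField R) (Kbar R) (IsLocalRing.residue R a) = 0
    rw [h1, map_zero]
  rw [h2] at ha
  exact not_isUnit_zero ha

instance kbar_sepClosed : IsSepClosed (IsLocalRing.ResidueField (Kbar R)) :=
  Groth.Agent.Lib.Helper12.isSepClosed_of_ringEquiv
    (RingEquiv.ofBijective (IsLocalRing.residue (Kbar R))
      ⟨(IsLocalRing.residue (Kbar R)).injective, IsLocalRing.residue_surjective⟩)

instance kbar_charP : CharP (Kbar R) p := by
  rw [CharP.charP_iff_prime_eq_zero (Fact.out : p.Prime)]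
  rw [← map_natCast (phi R), CharP.cast_eq_zero, map_zero]

/-- The semilinear map on `κ̄ⁿ` attached to a matrix. -/
def Tbar (B : Matrix (Fin n) (Fin n) (Kbar R)) :
    (Fin n → Kbar R) →ₛₗ[frobenius (Kbar R) p] (Fin n → Kbar R) where
  toFun y := fun i => ∑ j, B i j * y j ^ p
  map_add' y y' := by
    funext i
    simp only [Pi.add_apply, add_pow_char, mul_add, Finset.sum_add_distrib]
  map_smul' c y := by
    funext i
    simp only [Pi.smul_apply, smul_eq_mul, mul_pow, frobenius_def, Finset.mul_sum]
    refine Finset.sum_congr rfl fun j _ => ?_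
    ring

theorem Tbar_apply (B : Matrix (Fin n) (Fin n) (Kbar R)) (y : Fin n → Kbar R) (i : Fin n) :
    Tbar p R B y i = ∑ j, B i j * y j ^ p := rfl

theorem bijOn_sys (A : Matrix (Fin n) (Fin n) R) (b : Fin n → R) :
    Set.BijOn (fun r : Fin n → R => phi R ∘ r)
      {r : Fin n → R | ∀ i, MvPolynomial.eval r (sys p A b i) = 0}
      {s : Fin n → Kbar R | ∀ i, Tbar p R (A.map (phi R)) s i - s i - phi R (b i) = 0} := by
  have h := Groth.Agent.S0517.result R (Kbar R) (phi R) n (sys p A b)
  have hset : {s : Fin n → Kbar R | ∀ i,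
      MvPolynomial.eval s (MvPolynomial.map (phi R) (sys p A b i)) = 0} =
      {s : Fin n → Kbar R | ∀ i, Tbar p R (A.map (phi R)) s i - s i - phi R (b i) = 0} := by
    ext s
    simp only [Set.mem_ofPred_eq, map_sys, eval_sys, Tbar_apply, Function.comp_apply]
  rw [hset] at h
  exact h

theorem exists_sol (A : Matrix (Fin n) (Fin n) R) (b : Fin n → R) :
    ∃ x : Fin n → R, ∀ i, ∑ j, A i j * x j ^ p - x i - b i = 0 := by
  obtain ⟨y, hy⟩ := sub_surjective_field p (Tbar p R (A.map (phi R))) (phi R ∘ b)
  have hy' : ∀ i, Tbar p R (A.map (phi R)) y i - y i - phi R (b i) = 0 := by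
    intro i
    have := congrFun hy i
    simp only [Pi.sub_apply, Function.comp_apply] at this
    rw [this, sub_self]
  obtain ⟨x, hx, -⟩ := (bijOn_sys p R A b).surjOn hy'
  refine ⟨x, fun i => ?_⟩
  have := hx i
  rwa [eval_sys] at this

theorem card_sol (A B : Matrix (Fin n) (Fin n) R) (hAB : A * B = 1) :
    Nat.card {x : Fin n → R | ∀ i, ∑ j, A i j * x j ^ p - x i = 0} = p ^ n := by
  have hBA : B * A = 1 := mul_eq_one_comm.mp hAB
  have hAB' : (A.map (phi R)) * (B.map (phi R)) = 1 := by
    rw [← Matrix.map_mul, hAB, Matrix.map_one _ (map_zero _) (map_one _)]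
  have hBA' : (B.map (phi R)) * (A.map (phi R)) = 1 := by
    rw [← Matrix.map_mul, hBA, Matrix.map_one _ (map_zero _) (map_one _)]
  have hTmul : ∀ y, Tbar p R (A.map (phi R)) y = (A.map (phi R)).mulVec (fun j => y j ^ p) := by
    intro y
    funext i
    rw [Tbar_apply, Matrix.mulVec, dotProduct]
  have hsurj : Function.Surjective (Tbar p R (A.map (phi R))) := by
    intro z
    choose w hw using fun j =>
      IsAlgClosed.exists_pow_nat_eq ((B.map (phi R)).mulVec z j) (Fact.out : p.Prime).pos
    refine ⟨w, ?_⟩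
    rw [hTmul]
    have : (fun j => w j ^ p) = (B.map (phi R)).mulVec z := funext hw
    rw [this, Matrix.mulVec_mulVec, hAB', Matrix.one_mulVec]
  have hbij : Function.Bijective (Tbar p R (A.map (phi R))) :=
    ⟨Lang.injective_of_surjective_semilinear _ hsurj, hsurj⟩
  have hcard := card_fixed_field p (Tbar p R (A.map (phi R))) hbij
  rw [Module.finrank_fin_fun] at hcard
  rw [← hcard]
  have hbo := bijOn_sys p R A (0 : Fin n → R)
  have hs1 : {r : Fin n → R | ∀ i, MvPolynomial.eval r (sys p A 0 i) = 0} =
      {x : Fin n → R | ∀ i, ∑ j, A i j * x j ^ p - x i = 0} := by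
    ext x
    simp only [Set.mem_ofPred_eq, eval_sys, Pi.zero_apply, sub_zero]
  have hs2 : {s : Fin n → Kbar R | ∀ i,
      Tbar p R (A.map (phi R)) s i - s i - phi R ((0 : Fin n → R) i) = 0} =
      {v : Fin n → Kbar R | Tbar p R (A.map (phi R)) v = v} := by
    ext s
    simp only [Set.mem_ofPred_eq, Pi.zero_apply, map_zero, sub_zero]
    constructor
    · intro h
      funext i
      exact sub_eq_zero.mp (h i)
    · intro h i
      rw [h, sub_self]
  rw [hs1, hs2] at hbo
  exact Nat.card_congr hbo.equiv

end Main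

end Groth.Agent.Lib.Helper22.FrobHensel
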