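import Mathlib
import Groth.Agent.Lib.Helper22.FrobHensel3

/-!
# Frobenius-semilinear maps of free modules over a strictly henselian local ring (helper22)
-/

set_option autoImplicit false
set_option linter.unusedSectionVars false

universe u v

noncomputable section

namespace Groth.Agent.Lib.Helper22.FrobHensel

section Free

variable (p : ℕ) [Fact p.Prime] {R : Type u} [CommRing R] [HenselianLocalRing R]
  [IsSepClosed (IsLocalRing.ResidueField R)] [CharP R p]
  {M : Type v} [AddCommGroup M] [Module R M]

/-- Coordinates of `T m` for a Frobenius-semilinear additive map. -/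
theorem repr_map {ι : Type*} [Fintype ι] (e : Module.Basis ι R M) (T : M →+ M)
    (hT : ∀ (r : R) (m : M), T (r • m) = r ^ p • T m) (m : M) (i : ι) :
    e.repr (T m) i = ∑ j, e.repr (T (e j)) i * (e.repr m j) ^ p := by
  have hTsum : T m = ∑ j, (e.repr m j) ^ p • T (e j) := by
    conv_lhs => rw [← e.sum_repr m]
    rw [map_sum]
    exact Finset.sum_congr rfl (fun j _ => hT _ _)
  rw [hTsum, map_sum, Finsupp.finset_sum_apply]
  refine Finset.sum_congr rfl fun j _ => ?_
  rw [map_smul, Finsupp.smul_apply, smul_eq_mul, mul_comm]

/-- Surjectivity of `T - 1` on a finite free module (no condition on `T`). -/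
theorem sub_surjective_of_basis {n : ℕ} (e : Module.Basis (Fin n) R M) (T : M →+ M)
    (hT : ∀ (r : R) (m : M), T (r • m) = r ^ p • T m) :
    Function.Surjective (fun m => T m - m) := by
  intro c
  obtain ⟨x, hx⟩ := exists_sol p R (fun i j => e.repr (T (e j)) i) (fun i => e.repr c i)
  refine ⟨∑ j, x j • e j, ?_⟩
  show T (∑ j, x j • e j) - ∑ j, x j • e j = c
  apply e.repr.injective
  ext i
  rw [map_sub, Finsupp.sub_apply, repr_map p e T hT, e.repr_sum_self]
  have := hx i
  linear_combination this

/-- The number of fixed points when the values of `T` span. -/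
theorem card_fixed_of_basis {n : ℕ} (e : Module.Basis (Fin n) R M) (T : M →+ M)
    (hT : ∀ (r : R) (m : M), T (r • m) = r ^ p • T m)
    (hspan : Submodule.span R (Set.range T) = ⊤) :
    Nat.card {m : M // T m = m} = p ^ n := by
  classical
  let A : Matrix (Fin n) (Fin n) R := fun i j => e.repr (T (e j)) i
  have hspan' : Submodule.span R (Set.range (fun j => T (e j))) = ⊤ := by
    rw [eq_top_iff, ← hspan, Submodule.span_le]
    rintro _ ⟨m, rfl⟩
    have hTsum : T m = ∑ j, (e.repr m j) ^ p • T (e j) := by
      conv_lhs => rw [← e.sum_repr m]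
      rw [map_sum]
      exact Finset.sum_congr rfl (fun j _ => hT _ _)
    rw [hTsum]
    exact Submodule.sum_mem _ fun j _ =>
      Submodule.smul_mem _ _ (Submodule.subset_span ⟨j, rfl⟩)
  have hex : ∀ i, ∃ c : Fin n → R, ∑ j, c j • T (e j) = e i := fun i =>
    (Submodule.mem_span_range_iff_exists_fun R).mp (by rw [hspan']; trivial)
  choose B' hB' using hex
  let B : Matrix (Fin n) (Fin n) R := fun j i => B' i j
  have hAB : A * B = 1 := by
    ext k i
    rw [Matrix.mul_apply, Matrix.one_apply]
    have h1 := congrArg (fun m => e.repr m k) (hB' i)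
    simp only [map_sum, map_smul, Finsupp.finset_sum_apply, Finsupp.smul_apply, smul_eq_mul,
      Module.Basis.repr_self, Finsupp.single_apply] at h1
    have h2 : ∑ j, A k j * B j i = ∑ x, B' i x * (e.repr (T (e x))) k :=
      Finset.sum_congr rfl fun j _ => mul_comm _ _
    rw [h2, h1]
    by_cases hki : k = i
    · subst hki; simp
    · rw [if_neg hki, if_neg (Ne.symm hki)]
  rw [← card_sol p R A B hAB]
  refine Nat.card_congr (e.equivFun.toEquiv.subtypeEquiv fun m => ?_)
  show T m = m ↔ ∀ i, ∑ j, A i j * (e.equivFun m j) ^ p - e.equivFun m i = 0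
  constructor
  · intro h i
    rw [Module.Basis.equivFun_apply, ← repr_map p e T hT, h, sub_self]
  · intro h
    apply e.repr.injective
    ext i
    have := h i
    rw [Module.Basis.equivFun_apply, ← repr_map p e T hT] at this
    exact sub_eq_zero.mp this

/-- S13366 in library form. -/
theorem free_main [Module.Free R M] [Module.Finite R M] (T : M →+ M)
    (hT : ∀ (r : R) (m : M), T (r • m) = r ^ p • T m)
    (hspan : Submodule.span R (Set.range T) = ⊤) :
    Function.Surjective (fun m => T m - m) ∧
      Nat.card {m : M // T m = m} = p ^ Module.finrank R M :=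
  ⟨sub_surjective_of_basis p (Module.finBasis R M) T hT,
    card_fixed_of_basis p (Module.finBasis R M) T hT hspan⟩

end Free

end Groth.Agent.Lib.Helper22.FrobHensel
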