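import Mathlib
import Groth.Agent.Lib.Helper22.FrobHensel4

/-!
# Frobenius-semilinear surjections of finite modules over a strictly henselian PID (helper22)
-/

set_option autoImplicit false
set_option linter.unusedSectionVars false

universe u v

noncomputable section

namespace Groth.Agent.Lib.Helper22.FrobHensel

open IsLocalRing

section FG

variable (p : ℕ) [Fact p.Prime] {R : Type u} [CommRing R] [IsDomain R] [IsPrincipalIdealRing R]
  [HenselianLocalRing R] [IsSepClosed (IsLocalRing.ResidueField R)] [CharP R p]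
  {M : Type v} [AddCommGroup M] [Module R M]

theorem fg_main {n : ℕ} (g : Fin n → M) (hg : Submodule.span R (Set.range g) = ⊤)
    (hmin : ∀ x : Fin n → R, ∑ j, x j • g j = 0 → ∀ j, x j ∈ maximalIdeal R)
    (T : M →+ M) (hT : ∀ (r : R) (m : M), T (r • m) = r ^ p • T m)
    (hsurj : Function.Surjective T) :
    Function.Surjective (fun m => T m - m) ∧ Nat.card {m : M // T m = m} = p ^ n := by
  classical
  let π : (Fin n → R) →ₗ[R] M := Fintype.linearCombination R g
  have hπ : ∀ x, π x = ∑ j, x j • g j := fun x => Fintype.linearCombination_apply R g x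
  have hπsurj : Function.Surjective π := by
    rw [← LinearMap.range_eq_top, Fintype.range_linearCombination, hg]
  choose A' hA' using fun j => hπsurj (T (g j))
  let A : Matrix (Fin n) (Fin n) R := fun i j => A' j i
  let Tt : (Fin n → R) →+ (Fin n → R) :=
    { toFun := fun x i => ∑ j, A i j * x j ^ p
      map_zero' := by
        funext i
        simp [zero_pow (Fact.out : p.Prime).ne_zero]
      map_add' := fun x y => by
        funext i
        simp only [Pi.add_apply, add_pow_char, mul_add, Finset.sum_add_distrib] }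
  have hTt_apply : ∀ x i, Tt x i = ∑ j, A i j * x j ^ p := fun x i => rfl
  have hTt : ∀ (r : R) (x : Fin n → R), Tt (r • x) = r ^ p • Tt x := by
    intro r x
    funext i
    simp only [hTt_apply, Pi.smul_apply, smul_eq_mul, mul_pow, Finset.mul_sum]
    refine Finset.sum_congr rfl fun j _ => ?_
    ring
  have hcomm : ∀ x, π (Tt x) = T (π x) := by
    intro x
    rw [hπ, hπ, map_sum]
    have h1 : ∀ j, T (x j • g j) = ∑ i, (A i j * x j ^ p) • g i := by
      intro j
      rw [hT, ← hA' j, hπ, Finset.smul_sum]
      refine Finset.sum_congr rfl fun i _ => ?_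
      rw [smul_smul, mul_comm]
    simp only [h1, hTt_apply, Finset.sum_smul]
    exact Finset.sum_comm
  -- surjectivity
  have hsub : Function.Surjective (fun m => T m - m) := by
    intro c
    obtain ⟨b, rfl⟩ := hπsurj c
    obtain ⟨x, hx⟩ := sub_surjective_of_basis p (Pi.basisFun R (Fin n)) Tt hTt b
    have hx' : Tt x - x = b := hx
    refine ⟨π x, ?_⟩
    show T (π x) - π x = π b
    rw [← hcomm, ← map_sub, hx']
  refine ⟨hsub, ?_⟩
  -- the kernel
  let N : Submodule R (Fin n → R) := LinearMap.ker π
  have hNmem : ∀ x, x ∈ N ↔ π x = 0 := fun x => LinearMap.mem_ker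
  have hNm : ∀ x ∈ N, ∀ j, x j ∈ maximalIdeal R := by
    intro x hx
    apply hmin
    rw [← hπ]
    exact (hNmem x).mp hx
  have hNst : ∀ x ∈ N, Tt x ∈ N := by
    intro x hx
    rw [hNmem, hcomm, (hNmem x).mp hx, map_zero]
  -- no fixed points in the kernel
  have hfix0 : ∀ d : Fin n → R, d ∈ N → Tt d = d → d = 0 := by
    intro d hdN hd
    have hpow : ∀ k : ℕ, ∀ j, d j ∈ maximalIdeal R ^ k := by
      intro k
      induction k with
      | zero => intro j; simp
      | succ k ih =>
        intro j
        by_cases hk : k = 0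
        · subst hk
          rw [zero_add, pow_one]
          exact hNm d hdN j
        · rw [← hd, hTt_apply]
          refine Ideal.sum_mem _ fun i _ => Ideal.mul_mem_left _ _ ?_
          have h1 : d i ^ p ∈ (maximalIdeal R ^ k) ^ p := Ideal.pow_mem_pow (ih i) p
          rw [← pow_mul] at h1
          refine Ideal.pow_le_pow_right ?_ h1
          have hp2 : 2 ≤ p := (Fact.out : p.Prime).two_le
          nlinarith [Nat.pos_of_ne_zero hk]
    funext j
    have hj : d j ∈ ⨅ k : ℕ, maximalIdeal R ^ k := by
      rw [Ideal.mem_iInf]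
      exact fun k => hpow k j
    rw [Ideal.iInf_pow_eq_bot_of_isLocalRing (maximalIdeal R) Ideal.IsPrime.ne_top'] at hj
    exact hj
  -- the restriction to the kernel
  let TN : N →+ N :=
    { toFun := fun x => ⟨Tt x, hNst x x.2⟩
      map_zero' := Subtype.ext (map_zero Tt)
      map_add' := fun x y => Subtype.ext (map_add Tt (x : Fin n → R) (y : Fin n → R)) }
  have hTN : ∀ (r : R) (x : N), TN (r • x) = r ^ p • TN x := fun r x =>
    Subtype.ext (hTt r (x : Fin n → R))
  have hNsurj : Function.Surjective (fun x : N => TN x - x) :=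
    sub_surjective_of_basis p (Submodule.basisOfPid (Pi.basisFun R (Fin n)) N).2 TN hTN
  -- the values of `Tt` span
  have hspanT : Submodule.span R (Set.range Tt) = ⊤ := by
    rw [eq_top_iff]
    refine Submodule.le_of_le_smul_of_le_jacobson_bot (I := maximalIdeal R)
      (Module.Finite.fg_top) (maximalIdeal_le_jacobson _) ?_
    intro x _
    obtain ⟨m', hm'⟩ := hsurj (π x)
    obtain ⟨x', rfl⟩ := hπsurj m'
    have hxN : x - Tt x' ∈ N := by
      rw [hNmem, map_sub, hcomm, hm', sub_self]
    have hdec : x = Tt x' + (x - Tt x') := by abel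
    rw [hdec]
    refine Submodule.add_mem_sup (Submodule.subset_span ⟨x', rfl⟩) ?_
    have h2 : x - Tt x' = ∑ j, (x - Tt x') j • (Pi.basisFun R (Fin n)) j :=
      ((Pi.basisFun R (Fin n)).sum_repr (x - Tt x')).symm
    rw [h2]
    exact Submodule.sum_mem _ fun j _ =>
      Submodule.smul_mem_smul (hNm _ hxN j) Submodule.mem_top
  have hcardT : Nat.card {x : Fin n → R // Tt x = x} = p ^ n :=
    card_fixed_of_basis p (Pi.basisFun R (Fin n)) Tt hTt hspanT
  rw [← hcardT]
  symm
  -- bijection of fixed points
  let ψ : {x : Fin n → R // Tt x = x} → {m : M // T m = m} := fun x =>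
    ⟨π x, by rw [← hcomm, x.2]⟩
  refine Nat.card_congr (Equiv.ofBijective ψ ⟨?_, ?_⟩)
  · intro x y hxy
    have h1 : π (x : Fin n → R) = π (y : Fin n → R) := congrArg Subtype.val hxy
    have h2 : (x : Fin n → R) - y ∈ N := by rw [hNmem, map_sub, h1, sub_self]
    have h3 : Tt ((x : Fin n → R) - y) = (x : Fin n → R) - y := by
      rw [map_sub, x.2, y.2]
    exact Subtype.ext (sub_eq_zero.mp (hfix0 _ h2 h3))
  · intro m
    obtain ⟨x, hx⟩ := hπsurj m
    have hyN : Tt x - x ∈ N := by
      rw [hNmem, map_sub, hcomm, hx, m.2, sub_self]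
    obtain ⟨z, hz⟩ := hNsurj ⟨Tt x - x, hyN⟩
    have hz' : Tt (z : Fin n → R) - z = Tt x - x := congrArg Subtype.val hz
    refine ⟨⟨x - z, ?_⟩, Subtype.ext ?_⟩
    · rw [map_sub]
      have h4 : Tt x - Tt (z : Fin n → R) - (x - z) = (Tt x - x) - (Tt (z : Fin n → R) - z) := by
        abel
      have : Tt x - Tt (z : Fin n → R) - (x - z) = 0 := by
        rw [h4, hz', sub_self]
      exact sub_eq_zero.mp this
    · show π (x - z) = m
      rw [map_sub, hx, (hNmem _).mp z.2, sub_zero]

end FG

end Groth.Agent.Lib.Helper22.FrobHensel
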