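import Mathlib
import Groth.Agent.Lib.Helper22.FrobHensel5

/-!
# S13367 in library form (helper22)
-/

set_option autoImplicit false
set_option linter.unusedSectionVars false

universe u v

noncomputable section

namespace Groth.Agent.Lib.Helper22.FrobHensel

open IsLocalRing TensorProduct

theorem dvr_main (p : ℕ) [Fact p.Prime] {R : Type u} [CommRing R] [IsDomain R]
    [IsDiscreteValuationRing R] [HenselianLocalRing R]
    [IsSepClosed (IsLocalRing.ResidueField R)] [CharP R p]
    {M : Type v} [AddCommGroup M] [Module R M] [Module.Finite R M]
    (T : M →+ M) (hT : ∀ (r : R) (m : M), T (r • m) = r ^ p • T m)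
    (hsurj : Function.Surjective T) :
    Function.Surjective (fun m => T m - m) ∧
      Nat.card {m : M // T m = m} =
        p ^ Module.finrank (IsLocalRing.ResidueField R)
          (TensorProduct R (IsLocalRing.ResidueField R) M) := by
  classical
  let b := Module.finBasis (ResidueField R) (ResidueField R ⊗[R] M)
  choose g hg using fun i =>
    TensorProduct.mk_surjective R M (ResidueField R) (IsLocalRing.residue_surjective) (b i)
  have hg' : ∀ i, (1 : ResidueField R) ⊗ₜ[R] g i = b i := hg
  have hspan : Submodule.span R (Set.range g) = ⊤ :=
    IsLocalRing.span_eq_top_of_tmul_eq_basis g b hg'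
  refine fg_main p g hspan ?_ T hT hsurj
  intro x hx j
  have h1 := congrArg (TensorProduct.mk R (ResidueField R) M 1) hx
  rw [map_sum, map_zero] at h1
  have h2 : ∑ i, (IsLocalRing.residue R (x i)) • b i = 0 := by
    rw [← h1]
    refine Finset.sum_congr rfl fun i _ => ?_
    rw [map_smul, hg i]
    exact algebraMap_smul (ResidueField R) (x i) (b i)
  have h3 := Fintype.linearIndependent_iff.mp b.linearIndependent _ h2 j
  exact (IsLocalRing.residue_eq_zero_iff _).mp h3

end Groth.Agent.Lib.Helper22.FrobHensel
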