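import Mathlib

set_option autoImplicit false
set_option linter.unusedSectionVars false
universe u v w z
noncomputable section
namespace Groth.Agent.Lib.Helper22.FrobRigid

variable {A : Type u} [CommRing A] (σ : A →+* A)
  {P₁ : Type v} [AddCommGroup P₁] [Module A P₁] {P₂ : Type w} [AddCommGroup P₂] [Module A P₂]
  {ι₁ : Type z} [Finite ι₁] (b₁ : Module.Basis ι₁ A P₁)
  (F₁ : P₁ →ₛₗ[σ] P₁) (F₂ : P₂ →ₛₗ[σ] P₂)
  (hF₁ : LinearIndependent A (fun i => F₁ (b₁ i)) ∧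
      Submodule.span A (Set.range fun i => F₁ (b₁ i)) = ⊤)

/-- the basis `F₁ b₁` -/
def B₁ : Module.Basis ι₁ A P₁ := Module.Basis.mk hF₁.1 (le_of_eq hF₁.2.symm)

theorem B₁_apply (i : ι₁) : B₁ σ b₁ F₁ hF₁ i = F₁ (b₁ i) := by
  rw [B₁, Module.Basis.mk_apply]

/-- the operator `β ↦ F₂ β F₁⁻¹` -/
def U : (P₁ →ₗ[A] P₂) →+ (P₁ →ₗ[A] P₂) :=
  AddMonoidHom.mk' (fun β => (B₁ σ b₁ F₁ hF₁).constr ℕ (fun i => F₂ (β (b₁ i)))) (by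
    intro β γ
    apply (B₁ σ b₁ F₁ hF₁).ext
    intro i
    simp [Module.Basis.constr_basis])

theorem U_apply_B₁ (β : P₁ →ₗ[A] P₂) (i : ι₁) :
    U σ b₁ F₁ F₂ hF₁ β (F₁ (b₁ i)) = F₂ (β (b₁ i)) := by
  rw [← B₁_apply σ b₁ F₁ hF₁ i]
  simp [U, Module.Basis.constr_basis]

theorem U_apply_F₁ (β : P₁ →ₗ[A] P₂) (x : P₁) :
    U σ b₁ F₁ F₂ hF₁ β (F₁ x) = F₂ (β x) := by
  classical
  have : Fintype ι₁ := Fintype.ofFinite ι₁
  conv_lhs => rw [← b₁.sum_repr x]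
  conv_rhs => rw [← b₁.sum_repr x]
  simp only [map_sum, map_smulₛₗ, U_apply_B₁, RingHom.id_apply]

theorem comm_iff_U_eq (α : P₁ →ₗ[A] P₂) :
    (∀ x, F₂ (α x) = α (F₁ x)) ↔ U σ b₁ F₁ F₂ hF₁ α = α := by
  constructor
  · intro h
    apply (B₁ σ b₁ F₁ hF₁).ext
    intro i
    rw [B₁_apply, U_apply_B₁, h]
  · intro h x
    rw [← U_apply_F₁ σ b₁ F₁ F₂ hF₁ α x, h]

theorem F₂_mem (𝔠 : Ideal A) (z : P₂) (hz : z ∈ 𝔠 • (⊤ : Submodule A P₂)) :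
    F₂ z ∈ (Ideal.map σ 𝔠) • (⊤ : Submodule A P₂) := by
  refine Submodule.smul_induction_on hz ?_ ?_
  · intro c hc w _
    rw [map_smulₛₗ]
    exact Submodule.smul_mem_smul (Ideal.mem_map_of_mem σ hc) Submodule.mem_top
  · intro x y hx hy
    rw [map_add]; exact Submodule.add_mem _ hx hy

theorem U_values (𝔠 : Ideal A) (β : P₁ →ₗ[A] P₂) (hβ : ∀ x, β x ∈ 𝔠 • (⊤ : Submodule A P₂)) (y : P₁) :
    U σ b₁ F₁ F₂ hF₁ β y ∈ (Ideal.map σ 𝔠) • (⊤ : Submodule A P₂) := by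
  classical
  have : Fintype ι₁ := Fintype.ofFinite ι₁
  rw [← (B₁ σ b₁ F₁ hF₁).sum_repr y, map_sum]
  refine Submodule.sum_mem _ fun i _ => ?_
  rw [LinearMap.map_smul, B₁_apply, U_apply_B₁]
  exact Submodule.smul_mem _ _ (F₂_mem σ F₂ 𝔠 _ (hβ _))

theorem iterate_U_values (𝔠 : Ideal A) (β : P₁ →ₗ[A] P₂)
    (hβ : ∀ x, β x ∈ 𝔠 • (⊤ : Submodule A P₂)) (k : ℕ) (y : P₁) :
    (U σ b₁ F₁ F₂ hF₁)^[k] β y ∈ (Ideal.map (σ ^ k) 𝔠) • (⊤ : Submodule A P₂) := by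
  induction k generalizing y with
  | zero =>
    simp only [Function.iterate_zero, id_eq, pow_zero]
    have : Ideal.map (1 : A →+* A) 𝔠 = 𝔠 := Ideal.map_id 𝔠
    rw [this]
    exact hβ y
  | succ k ih =>
    rw [Function.iterate_succ_apply']
    have := U_values σ b₁ F₁ F₂ hF₁ _ _ ih y
    rwa [Ideal.map_map, ← RingHom.mul_def, ← pow_succ'] at this

theorem iterate_U_eq_zero (𝔠 : Ideal A) (k₀ : ℕ) (hk : ∀ x ∈ 𝔠, σ^[k₀] x = 0)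
    (β : P₁ →ₗ[A] P₂) (hβ : ∀ x, β x ∈ 𝔠 • (⊤ : Submodule A P₂)) :
    (U σ b₁ F₁ F₂ hF₁)^[k₀] β = 0 := by
  ext y
  have h1 := iterate_U_values σ b₁ F₁ F₂ hF₁ 𝔠 β hβ k₀ y
  have h2 : Ideal.map (σ ^ k₀) 𝔠 = ⊥ := by
    rw [eq_bot_iff, Ideal.map_le_iff_le_comap]
    intro x hx
    rw [Ideal.mem_comap, Ideal.mem_bot, RingHom.coe_pow]
    exact hk x hx
  rw [h2, Submodule.bot_smul, Submodule.mem_bot] at h1
  rw [h1, LinearMap.zero_apply]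

theorem iterate_U_values_stable (𝔠 : Ideal A) (h𝔠 : ∀ x ∈ 𝔠, σ x ∈ 𝔠) (β : P₁ →ₗ[A] P₂)
    (hβ : ∀ x, β x ∈ 𝔠 • (⊤ : Submodule A P₂)) (k : ℕ) (y : P₁) :
    (U σ b₁ F₁ F₂ hF₁)^[k] β y ∈ 𝔠 • (⊤ : Submodule A P₂) := by
  have hle : Ideal.map σ 𝔠 ≤ 𝔠 := by
    rw [Ideal.map_le_iff_le_comap]
    exact fun x hx => h𝔠 x hx
  induction k generalizing y with
  | zero => exact hβ y
  | succ k ih =>
    rw [Function.iterate_succ_apply']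
    exact Submodule.smul_mono_left hle (U_values σ b₁ F₁ F₂ hF₁ _ _ ih y)

include b₁ hF₁ in
/-- **Existence** of the `F`-equivariant lift. -/
theorem exists_lift (𝔠 : Ideal A) (h𝔠 : ∀ x ∈ 𝔠, σ x ∈ 𝔠) (k₀ : ℕ)
    (hk : ∀ x ∈ 𝔠, σ^[k₀] x = 0) (α₀ : P₁ →ₗ[A] P₂)
    (hα₀ : ∀ x : P₁, F₂ (α₀ x) - α₀ (F₁ x) ∈ 𝔠 • (⊤ : Submodule A P₂)) :
    ∃ α : P₁ →ₗ[A] P₂,
      (∀ x : P₁, α x - α₀ x ∈ 𝔠 • (⊤ : Submodule A P₂)) ∧ ∀ x : P₁, F₂ (α x) = α (F₁ x) := by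
  classical
  have : Fintype ι₁ := Fintype.ofFinite ι₁
  set Uop := U σ b₁ F₁ F₂ hF₁ with hU
  set η := Uop α₀ - α₀ with hη
  have hηv : ∀ y, η y ∈ 𝔠 • (⊤ : Submodule A P₂) := by
    intro y
    rw [← (B₁ σ b₁ F₁ hF₁).sum_repr y, map_sum]
    refine Submodule.sum_mem _ fun i _ => ?_
    rw [LinearMap.map_smul]
    refine Submodule.smul_mem _ _ ?_
    rw [hη, LinearMap.sub_apply, B₁_apply, hU, U_apply_B₁]
    exact hα₀ _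
  set ω := ∑ k ∈ Finset.range k₀, Uop^[k] η with hω
  have hUω : Uop ω + η = ω := by
    have h1 : Uop ω = ∑ k ∈ Finset.range k₀, Uop^[k + 1] η := by
      rw [hω, map_sum]
      refine Finset.sum_congr rfl fun k _ => ?_
      rw [Function.iterate_succ_apply']
    have h2 := Finset.sum_range_succ' (fun k => Uop^[k] η) k₀
    have h3 := Finset.sum_range_succ (fun k => Uop^[k] η) k₀
    rw [iterate_U_eq_zero σ b₁ F₁ F₂ hF₁ 𝔠 k₀ hk η hηv, add_zero] at h3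
    rw [h1]
    simp only [Function.iterate_zero, id_eq] at h2
    rw [← h2, h3]
  refine ⟨α₀ + ω, fun x => ?_, ?_⟩
  · rw [LinearMap.add_apply, add_sub_cancel_left, hω, LinearMap.sum_apply]
    exact Submodule.sum_mem _ fun k _ =>
      iterate_U_values_stable σ b₁ F₁ F₂ hF₁ 𝔠 h𝔠 η hηv k x
  · rw [comm_iff_U_eq σ b₁ F₁ F₂ hF₁, ← hU, map_add]
    have : Uop α₀ = α₀ + η := by rw [hη]; abel
    rw [this, add_assoc, add_comm η, hUω]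

include b₁ hF₁ in
/-- **Uniqueness** of the `F`-equivariant lift. -/
theorem lift_unique (𝔠 : Ideal A) (k₀ : ℕ) (hk : ∀ x ∈ 𝔠, σ^[k₀] x = 0)
    (α α' : P₁ →ₗ[A] P₂) (hα : ∀ x, F₂ (α x) = α (F₁ x)) (hα' : ∀ x, F₂ (α' x) = α' (F₁ x))
    (h : ∀ x, α x - α' x ∈ 𝔠 • (⊤ : Submodule A P₂)) : α = α' := by
  rw [comm_iff_U_eq σ b₁ F₁ F₂ hF₁] at hα hα'
  have hδ : U σ b₁ F₁ F₂ hF₁ (α - α') = α - α' := by rw [map_sub, hα, hα']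
  have hit : ∀ k, (U σ b₁ F₁ F₂ hF₁)^[k] (α - α') = α - α' := by
    intro k
    induction k with
    | zero => rfl
    | succ k ih => rw [Function.iterate_succ_apply', ih, hδ]
  have := iterate_U_eq_zero σ b₁ F₁ F₂ hF₁ 𝔠 k₀ hk (α - α') (fun x => by
    rw [LinearMap.sub_apply]; exact h x)
  rw [hit k₀] at this
  exact sub_eq_zero.mp this

end Groth.Agent.Lib.Helper22.FrobRigid
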