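import Mathlib

/-!
# Finite free algebras realizing a finite residue field extension (helper22)
-/

set_option autoImplicit false
set_option linter.unusedSectionVars false
set_option linter.style.haveILetI false
universe u

namespace Groth.Agent.Lib.Helper22.GFree

open Polynomial

/-- Given a ring map `R → K'` to a field such that every element of `K'` has an `R`-multiple
(by a scalar with nonzero image) which is integral over `R`, and a finite list of elements of `K'`,
there is a finite free `R`-algebra `S` with an `R`-algebra map to `K'` whose image contains a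
nonzero `R`-multiple of each element of the list. -/
theorem exists_finite_free_algHom (R : Type u) [CommRing R] (K' : Type u) [Field K'] [Algebra R K']
    (halg : ∀ z : K', ∃ r : R, algebraMap R K' r ≠ 0 ∧ IsIntegral R (algebraMap R K' r * z))
    (θ : List K') :
    ∃ (S : Type u) (_ : CommRing S) (_ : Algebra R S) (_ : Module.Finite R S)
      (_ : Module.Free R S) (φ : S →ₐ[R] K'),
      ∀ z ∈ θ, ∃ r : R, algebraMap R K' r ≠ 0 ∧ algebraMap R K' r * z ∈ φ.range := by
  induction θ with
  | nil =>
    exact ⟨R, inferInstance, inferInstance, inferInstance, inferInstance, Algebra.ofId R K',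
      by simp⟩
  | cons z θ ih =>
    obtain ⟨S, _, _, _, _, φ, hφ⟩ := ih
    obtain ⟨r, hr, G, hG, hroot⟩ := halg z
    have hmonic : (G.map (algebraMap R S)).Monic := hG.map _
    have h0 : (G.map (algebraMap R S)).eval₂ (φ : S →+* K') (algebraMap R K' r * z) = 0 := by
      rw [Polynomial.eval₂_map]
      have : (φ : S →+* K').comp (algebraMap R S) = algebraMap R K' := φ.comp_algebraMap
      rw [this]
      exact hroot
    haveI hfin1 : Module.Finite S (AdjoinRoot (G.map (algebraMap R S))) :=
      (AdjoinRoot.powerBasis' hmonic).finite
    haveI hfin : Module.Finite R (AdjoinRoot (G.map (algebraMap R S))) :=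
      Module.Finite.trans S _
    haveI hfree : Module.Free R (AdjoinRoot (G.map (algebraMap R S))) :=
      Module.Free.of_basis ((Module.Free.chooseBasis R S).smulTower
        (AdjoinRoot.powerBasis' hmonic).basis)
    refine ⟨AdjoinRoot (G.map (algebraMap R S)), inferInstance, inferInstance, hfin, hfree,
      AdjoinRoot.liftAlgHom _ φ _ h0, ?_⟩
    intro z' hz'
    rcases List.mem_cons.mp hz' with rfl | hz'
    · exact ⟨r, hr, AdjoinRoot.root _, AdjoinRoot.liftAlgHom_root _ _ _ _⟩
    · obtain ⟨r', hr', s, hs⟩ := hφ z' hz'
      refine ⟨r', hr', AdjoinRoot.of _ s, ?_⟩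
      rw [← hs]
      exact AdjoinRoot.liftAlgHom_of _ _ _ _ _

end Groth.Agent.Lib.Helper22.GFree
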