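import Mathlib
import Groth.Prelude.Def_EGA4b
import Groth.Agent.Lib.helper19.NodeEt1
import Groth.Agent.Lib.lead.CompleteQF
import Groth.Agent.Lib.Helper12.ComplIntClosure
import Groth.Agent.Lib.Helper12.AnUnramF

/-!
# Completion of a quasi-finite local algebra as a localization of the base change of the
completion (helper22), part A

`A → B` local homomorphism of Noetherian local rings.  In `C = B ⊗[A] Â` the ideal
`n = 𝔪_B C` is maximal.
-/

set_option autoImplicit false
set_option linter.unusedSectionVars false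
set_option linter.style.haveILetI false
universe u

namespace Groth.Agent.Lib.Helper22.QFFib

open IsLocalRing TensorProduct

variable (A B : Type u) [CommRing A] [CommRing B] [IsNoetherianRing A] [IsNoetherianRing B]
  [IsLocalRing A] [IsLocalRing B] [Algebra A B] [IsLocalHom (algebraMap A B)]

/-- the ideal generated by the maximal ideal of `B` in `B ⊗[A] Â` -/
noncomputable def nIdeal : Ideal (B ⊗[A] EGA4.Cpl A) :=
  (maximalIdeal B).map (algebraMap B (B ⊗[A] EGA4.Cpl A))

theorem one_tmul_mem (r : EGA4.Cpl A) (hr : r ∈ maximalIdeal (EGA4.Cpl A)) :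
    (1 : B) ⊗ₜ[A] r ∈ nIdeal A B := by
  have hle : maximalIdeal (EGA4.Cpl A) ≤ (nIdeal A B).comap
      (Algebra.TensorProduct.includeRight : EGA4.Cpl A →ₐ[A] B ⊗[A] EGA4.Cpl A).toRingHom := by
    rw [AdicCompletion.maximalIdeal_eq_map (R := A), Ideal.map_le_iff_le_comap]
    intro a ha
    rw [Ideal.mem_comap, Ideal.mem_comap]
    have h1 : (Algebra.TensorProduct.includeRight :
        EGA4.Cpl A →ₐ[A] B ⊗[A] EGA4.Cpl A).toRingHom (algebraMap A (EGA4.Cpl A) a) =
        algebraMap B (B ⊗[A] EGA4.Cpl A) (algebraMap A B a) := by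
      change (Algebra.TensorProduct.includeRight :
        EGA4.Cpl A →ₐ[A] B ⊗[A] EGA4.Cpl A) (algebraMap A (EGA4.Cpl A) a) = _
      rw [AlgHom.commutes, ← IsScalarTower.algebraMap_apply]
    rw [h1]
    exact Ideal.mem_map_of_mem _ (map_nonunit (algebraMap A B) a ha)
  exact hle hr

theorem exists_sub_mem (c : B ⊗[A] EGA4.Cpl A) :
    ∃ b : B, c - algebraMap B (B ⊗[A] EGA4.Cpl A) b ∈ nIdeal A B := by
  induction c using TensorProduct.induction_on with
  | zero => exact ⟨0, by simp⟩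
  | tmul b r =>
    obtain ⟨a, ha⟩ := Groth.Agent.Lib.Helper19.NodeEt1.exists_sub_mem A r
    refine ⟨a • b, ?_⟩
    have h1 : b ⊗ₜ[A] r - algebraMap B (B ⊗[A] EGA4.Cpl A) (a • b) =
        (b ⊗ₜ[A] (1 : EGA4.Cpl A)) *
          ((1 : B) ⊗ₜ[A] (r - algebraMap A (EGA4.Cpl A) a)) := by
      rw [Algebra.TensorProduct.tmul_mul_tmul, mul_one, one_mul, TensorProduct.tmul_sub,
        Algebra.TensorProduct.algebraMap_apply, Algebra.algebraMap_self, RingHom.id_apply,
        Algebra.algebraMap_eq_smul_one a, TensorProduct.tmul_smul, TensorProduct.smul_tmul']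
    rw [h1]
    exact Ideal.mul_mem_left _ _ (one_tmul_mem A B _ ha)
  | add x y hx hy =>
    obtain ⟨b₁, h₁⟩ := hx
    obtain ⟨b₂, h₂⟩ := hy
    refine ⟨b₁ + b₂, ?_⟩
    have : x + y - algebraMap B (B ⊗[A] EGA4.Cpl A) (b₁ + b₂) =
        (x - algebraMap B _ b₁) + (y - algebraMap B _ b₂) := by
      rw [map_add]; ring
    rw [this]
    exact Ideal.add_mem _ h₁ h₂

theorem nIdeal_ne_top : nIdeal A B ≠ ⊤ := by
  haveI hNA : IsNoetherianRing (EGA4.Cpl A) :=
    Groth.Agent.Lib.Helper12.AnUnram.isNoetherianRing_cpl A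
  haveI hff : Module.FaithfullyFlat A (EGA4.Cpl A) :=
    Groth.Agent.Lib.Helper12.AnUnram.faithfullyFlat_cpl A
  intro h
  have h1 := Ideal.comap_map_eq_self_of_faithfullyFlat (B := B ⊗[A] EGA4.Cpl A) (maximalIdeal B)
  have h2 : (maximalIdeal B).map (algebraMap B (B ⊗[A] EGA4.Cpl A)) = ⊤ := h
  rw [h2, Ideal.comap_top] at h1
  exact (maximalIdeal.isMaximal B).ne_top h1.symm

instance nIdeal_isMaximal : (nIdeal A B).IsMaximal := by
  rw [Ideal.isMaximal_iff]
  refine ⟨fun h => nIdeal_ne_top A B ((Ideal.eq_top_iff_one _).mpr h), ?_⟩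
  intro J x hnJ hxn hxJ
  obtain ⟨b, hb⟩ := exists_sub_mem A B x
  have hbu : IsUnit b := by
    by_contra hbn
    have hbm : b ∈ maximalIdeal B := (mem_maximalIdeal b).mpr hbn
    have h1 : algebraMap B (B ⊗[A] EGA4.Cpl A) b ∈ nIdeal A B := Ideal.mem_map_of_mem _ hbm
    apply hxn
    have : x = (x - algebraMap B (B ⊗[A] EGA4.Cpl A) b) + algebraMap B _ b := by ring
    rw [this]
    exact Ideal.add_mem _ hb h1
  have hJ : algebraMap B (B ⊗[A] EGA4.Cpl A) b ∈ J := by
    have : algebraMap B (B ⊗[A] EGA4.Cpl A) b = x - (x - algebraMap B _ b) := by ring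
    rw [this]
    exact Ideal.sub_mem _ hxJ (hnJ hb)
  have hu : IsUnit (algebraMap B (B ⊗[A] EGA4.Cpl A) b) := hbu.map _
  exact (Ideal.eq_top_iff_one J).mp (Ideal.eq_top_of_isUnit_mem _ hJ hu)

instance nIdeal_isPrime : (nIdeal A B).IsPrime := (nIdeal_isMaximal A B).isPrime

end Groth.Agent.Lib.Helper22.QFFib
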