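import Mathlib
import Groth.Prelude.Def_EGA4b
import Groth.Agent.Lib.Helper22.QFFibA

/-!
# Completion of a quasi-finite local algebra as a localization of the base change of the
completion (helper22), part B

`A → B` local, essentially of finite type and quasi-finite, both Noetherian local.  Then
`B̂ ≃ (B ⊗[A] Â)_n` as `B`-algebras, where `n = 𝔪_B (B ⊗[A] Â)`.
-/

set_option autoImplicit false
set_option linter.unusedSectionVars false
set_option linter.style.haveILetI false
universe u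

namespace Groth.Agent.Lib.Helper22.QFFib

open IsLocalRing TensorProduct

attribute [local instance] Algebra.TensorProduct.rightAlgebra

variable (A B : Type u) [CommRing A] [CommRing B] [IsNoetherianRing A] [IsNoetherianRing B]
  [IsLocalRing A] [IsLocalRing B] [Algebra A B] [IsLocalHom (algebraMap A B)]

theorem isNoetherianRing_tensor [Algebra.EssFiniteType A B] :
    IsNoetherianRing (B ⊗[A] EGA4.Cpl A) := by
  haveI hNA : IsNoetherianRing (EGA4.Cpl A) :=
    Groth.Agent.Lib.Helper12.AnUnram.isNoetherianRing_cpl A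
  haveI : Algebra.EssFiniteType (EGA4.Cpl A) (B ⊗[A] EGA4.Cpl A) :=
    (Algebra.EssFiniteType.iff_of_algEquiv
      (Algebra.TensorProduct.commRight A (EGA4.Cpl A) B)).mp inferInstance
  exact Algebra.EssFiniteType.isNoetherianRing (EGA4.Cpl A) _

theorem quasiFinite_tensor [Algebra.QuasiFinite A B] :
    Algebra.QuasiFinite (EGA4.Cpl A) (B ⊗[A] EGA4.Cpl A) := by
  have hq : Algebra.QuasiFinite (EGA4.Cpl A) (EGA4.Cpl A ⊗[A] B) := inferInstance
  exact Algebra.QuasiFinite.of_surjective_algHom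
    (Algebra.TensorProduct.commRight A (EGA4.Cpl A) B).toAlgHom
    (Algebra.TensorProduct.commRight A (EGA4.Cpl A) B).surjective

variable (Cn : Type u) [CommRing Cn] [Algebra (B ⊗[A] EGA4.Cpl A) Cn]
  [IsLocalization.AtPrime Cn (nIdeal A B)] [IsLocalRing Cn]
  [Algebra B Cn] [IsScalarTower B (B ⊗[A] EGA4.Cpl A) Cn]
  [Algebra (EGA4.Cpl A) Cn] [IsScalarTower (EGA4.Cpl A) (B ⊗[A] EGA4.Cpl A) Cn]

include A B

theorem map_maximalIdeal_eq :
    (maximalIdeal B).map (algebraMap B Cn) = maximalIdeal Cn := by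
  rw [IsScalarTower.algebraMap_eq B (B ⊗[A] EGA4.Cpl A) Cn, ← Ideal.map_map]
  exact IsLocalization.AtPrime.map_eq_maximalIdeal (nIdeal A B) Cn

theorem isLocalHom_algebraMap_Cn : IsLocalHom (algebraMap B Cn) :=
  ((IsLocalRing.local_hom_TFAE _).out 0 2).mpr (map_maximalIdeal_eq A B Cn).le

theorem residueField_surjective [IsLocalHom (algebraMap B Cn)] :
    Function.Surjective (algebraMap (ResidueField B) (ResidueField Cn)) := by
  intro x
  obtain ⟨y, rfl⟩ := (IsLocalization.AtPrime.equivQuotMaximalIdeal (nIdeal A B) Cn).surjective x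
  obtain ⟨c, rfl⟩ := Ideal.Quotient.mk_surjective y
  obtain ⟨b, hb⟩ := exists_sub_mem A B c
  refine ⟨residue B b, ?_⟩
  rw [IsLocalRing.ResidueField.algebraMap_residue,
    IsLocalization.AtPrime.equivQuotMaximalIdeal_apply_mk]
  symm
  change Ideal.Quotient.mk _ _ = Ideal.Quotient.mk _ _
  rw [Ideal.Quotient.eq, IsScalarTower.algebraMap_apply B (B ⊗[A] EGA4.Cpl A) Cn, ← map_sub,
    ← IsLocalization.AtPrime.map_eq_maximalIdeal (nIdeal A B) Cn]
  exact Ideal.mem_map_of_mem _ hb

theorem isLocalHom_cpl_Cn : IsLocalHom (algebraMap (EGA4.Cpl A) Cn) := by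
  refine ((IsLocalRing.local_hom_TFAE _).out 0 2).mpr ?_
  rw [Ideal.map_le_iff_le_comap]
  intro r hr
  rw [Ideal.mem_comap, IsScalarTower.algebraMap_apply (EGA4.Cpl A) (B ⊗[A] EGA4.Cpl A) Cn,
    ← IsLocalization.AtPrime.map_eq_maximalIdeal (nIdeal A B) Cn]
  exact Ideal.mem_map_of_mem _ (one_tmul_mem A B r hr)

variable [Algebra.EssFiniteType A B] [Algebra.QuasiFinite A B]

theorem finite_Cn : Module.Finite (EGA4.Cpl A) Cn := by
  haveI hNA : IsNoetherianRing (EGA4.Cpl A) :=
    Groth.Agent.Lib.Helper12.AnUnram.isNoetherianRing_cpl A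
  haveI := isNoetherianRing_tensor A B
  haveI : IsNoetherianRing Cn :=
    IsLocalization.isNoetherianRing (nIdeal A B).primeCompl _ inferInstance
  haveI := quasiFinite_tensor A B
  haveI : Algebra.QuasiFinite (EGA4.Cpl A) Cn :=
    Algebra.QuasiFinite.of_isLocalization (S := B ⊗[A] EGA4.Cpl A) (nIdeal A B).primeCompl
  haveI := isLocalHom_cpl_Cn A B Cn
  exact Groth.Agent.Lib.lead.CompleteQF.finite_of_quasiFinite_of_complete (EGA4.Cpl A) Cn

theorem isAdicComplete_Cn : IsAdicComplete (maximalIdeal Cn) Cn := by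
  haveI hNA : IsNoetherianRing (EGA4.Cpl A) :=
    Groth.Agent.Lib.Helper12.AnUnram.isNoetherianRing_cpl A
  haveI := finite_Cn A B Cn
  exact Groth.Agent.Lib.Helper12.ComplIntClosure.isAdicComplete_of_finite_local (EGA4.Cpl A) Cn

/-- **Key isomorphism**: the completion of `B` is the localization of `B ⊗[A] Â` at the maximal
ideal generated by `𝔪_B`. -/
theorem nonempty_cpl_algEquiv : Nonempty (EGA4.Cpl B ≃ₐ[B] Cn) := by
  haveI hNA : IsNoetherianRing (EGA4.Cpl A) :=
    Groth.Agent.Lib.Helper12.AnUnram.isNoetherianRing_cpl A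
  haveI hff : Module.FaithfullyFlat A (EGA4.Cpl A) :=
    Groth.Agent.Lib.Helper12.AnUnram.faithfullyFlat_cpl A
  haveI := isNoetherianRing_tensor A B
  haveI : IsNoetherianRing Cn :=
    IsLocalization.isNoetherianRing (nIdeal A B).primeCompl _ inferInstance
  haveI := isAdicComplete_Cn A B Cn
  haveI : Module.Flat (B ⊗[A] EGA4.Cpl A) Cn :=
    IsLocalization.flat _ (nIdeal A B).primeCompl
  haveI : Module.Flat B Cn := Module.Flat.trans B (B ⊗[A] EGA4.Cpl A) _
  haveI := isLocalHom_algebraMap_Cn A B Cn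
  have hbij := Groth.Agent.Lib.Helper19.NodeEt1.complMap_bijective B Cn
    (map_maximalIdeal_eq A B Cn) (residueField_surjective A B Cn)
  have hψ := Groth.Agent.Lib.Helper19.ComplMap.complMap_comp B Cn
  let e1 : EGA4.Cpl B ≃+* EGA4.Cpl Cn := RingEquiv.ofBijective _ hbij
  let e2 : Cn ≃ₐ[Cn] EGA4.Cpl Cn := AdicCompletion.ofAlgEquiv (maximalIdeal Cn)
  refine ⟨AlgEquiv.ofRingEquiv (f := e1.trans e2.symm.toRingEquiv) (fun b => ?_)⟩
  have h1 : e1 (algebraMap B (EGA4.Cpl B) b) = algebraMap Cn _ (algebraMap B _ b) :=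
    RingHom.congr_fun hψ b
  change e2.symm (e1 (algebraMap B (EGA4.Cpl B) b)) = _
  rw [h1, AlgEquiv.commutes]
  rfl

end Groth.Agent.Lib.Helper22.QFFib
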