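import Mathlib
import Groth.Prelude.Def_EGA4b
import Groth.Agent.Lib.Helper22.QFFibB

/-!
# Comparison of `S ⊗[R] Â` with `S_{𝔭'} ⊗[R_𝔭] Â` (helper22)
-/

set_option autoImplicit false
set_option linter.unusedSectionVars false
set_option linter.style.haveILetI false
universe u

namespace Groth.Agent.Lib.Helper22.GFree

open IsLocalRing TensorProduct

section Iota

variable (R : Type u) [CommRing R] (𝔭 : Ideal R) [𝔭.IsPrime] (A : Type u) [CommRing A]
  [Algebra R A] [IsLocalization.AtPrime A 𝔭]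
  (S : Type u) [CommRing S] [Algebra R S] (𝔭' : Ideal S) [𝔭'.IsPrime]
  (B : Type u) [CommRing B] [Algebra S B] [IsLocalization.AtPrime B 𝔭'] [Algebra R B]
  [IsScalarTower R S B] [Algebra A B] [IsScalarTower R A B]
  (E : Type u) [CommRing E] [Algebra A E] [Algebra R E] [IsScalarTower R A E]

/-- the comparison map `S ⊗[R] E → B ⊗[A] E` -/
noncomputable def iota : S ⊗[R] E →+* B ⊗[A] E :=
  ((IsLocalization.algebraTensorEquiv 𝔭.primeCompl A B E).symm.toRingEquiv.toRingHom).comp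
    (Algebra.TensorProduct.map (IsScalarTower.toAlgHom R S B) (AlgHom.id R E)).toRingHom

theorem iota_tmul (s : S) (e : E) :
    iota R 𝔭 A S B E (s ⊗ₜ e) = algebraMap S B s ⊗ₜ e := rfl

include 𝔭' in
theorem isLocalization_iota :
    letI := (iota R 𝔭 A S B E).toAlgebra
    IsLocalization (Algebra.algebraMapSubmonoid (S ⊗[R] E) 𝔭'.primeCompl) (B ⊗[A] E) := by
  letI alg1 : Algebra (S ⊗[R] E) (B ⊗[R] E) :=
    (Algebra.TensorProduct.map (IsScalarTower.toAlgHom R S B) (AlgHom.id R E)).toRingHom.toAlgebra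
  haveI : IsScalarTower S (S ⊗[R] E) (B ⊗[R] E) := .of_algebraMap_eq (fun s => by
    change _ = (Algebra.TensorProduct.map (IsScalarTower.toAlgHom R S B) (AlgHom.id R E))
      (s ⊗ₜ 1)
    rw [Algebra.TensorProduct.map_tmul]
    rfl)
  haveI h1 : IsLocalization (Algebra.algebraMapSubmonoid (S ⊗[R] E) 𝔭'.primeCompl)
      (B ⊗[R] E) :=
    IsLocalization.tensorProduct_tensorProduct R E 𝔭'.primeCompl B (by
      ext x
      change (Algebra.TensorProduct.map (IsScalarTower.toAlgHom R S B) (AlgHom.id R E))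
        (1 ⊗ₜ x) = 1 ⊗ₜ x
      rw [Algebra.TensorProduct.map_tmul, map_one]
      rfl)
  letI := (iota R 𝔭 A S B E).toAlgebra
  exact IsLocalization.isLocalization_of_algEquiv _
    (AlgEquiv.ofRingEquiv
      (f := (IsLocalization.algebraTensorEquiv 𝔭.primeCompl A B E).symm.toRingEquiv)
      (fun x => rfl))

end Iota

section W

variable (R : Type u) [CommRing R] (𝔭 : Ideal R) [𝔭.IsPrime] (A : Type u) [CommRing A]
  [Algebra R A] [IsLocalization.AtPrime A 𝔭]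
  (S : Type u) [CommRing S] [Algebra R S] (𝔭' : Ideal S) [𝔭'.IsPrime]
  (B : Type u) [CommRing B] [Algebra S B] [IsLocalization.AtPrime B 𝔭'] [Algebra R B]
  [IsScalarTower R S B] [Algebra A B] [IsScalarTower R A B]
  [IsNoetherianRing A] [IsNoetherianRing B] [IsLocalRing A] [IsLocalRing B]
  [IsLocalHom (algebraMap A B)]

open Groth.Agent.Lib.Helper22.QFFib in
/-- every element of `B ⊗[A] Â` outside `n = 𝔪_B (B ⊗[A] Â)` divides the image of an element of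
`S ⊗[R] Â` outside `𝔑`, for any prime `𝔑` of `S ⊗[R] Â` above `𝔭'`. -/
theorem exists_mul_eq_iota (𝔑 : Ideal (S ⊗[R] EGA4.Cpl A)) [h𝔑p : 𝔑.IsPrime]
    (h𝔑 : 𝔑.comap (Algebra.TensorProduct.includeLeft :
      S →ₐ[R] S ⊗[R] EGA4.Cpl A).toRingHom = 𝔭')
    (c : B ⊗[A] EGA4.Cpl A) (hc : c ∉ nIdeal A B) :
    ∃ x : S ⊗[R] EGA4.Cpl A, x ∉ 𝔑 ∧ ∃ u : B ⊗[A] EGA4.Cpl A,
      c * u = iota R 𝔭 A S B (EGA4.Cpl A) x := by
  letI alg := (iota R 𝔭 A S B (EGA4.Cpl A)).toAlgebra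
  haveI hloc := isLocalization_iota R 𝔭 A S 𝔭' B (EGA4.Cpl A)
  have hdisj : Disjoint
      ((Algebra.algebraMapSubmonoid (S ⊗[R] EGA4.Cpl A) 𝔭'.primeCompl : Submonoid _) :
        Set (S ⊗[R] EGA4.Cpl A)) (𝔑 : Set (S ⊗[R] EGA4.Cpl A)) := by
    rw [Set.disjoint_left]
    rintro _ ⟨s, hs, rfl⟩ hsN
    apply hs
    rw [← h𝔑]
    exact hsN
  have hprime : (𝔑.map (algebraMap (S ⊗[R] EGA4.Cpl A) (B ⊗[A] EGA4.Cpl A))).IsPrime :=
    IsLocalization.isPrime_of_isPrime_disjoint _ _ 𝔑 h𝔑p hdisj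
  have hle : nIdeal A B ≤ 𝔑.map (algebraMap (S ⊗[R] EGA4.Cpl A) (B ⊗[A] EGA4.Cpl A)) := by
    rw [nIdeal, ← IsLocalization.AtPrime.map_eq_maximalIdeal 𝔭' B, Ideal.map_map,
      Ideal.map_le_iff_le_comap]
    intro s hs
    rw [Ideal.mem_comap]
    have h1 : ((algebraMap B (B ⊗[A] EGA4.Cpl A)).comp (algebraMap S B)) s =
        algebraMap (S ⊗[R] EGA4.Cpl A) (B ⊗[A] EGA4.Cpl A) (s ⊗ₜ 1) := rfl
    rw [h1]
    apply Ideal.mem_map_of_mem
    have : s ∈ 𝔑.comap (Algebra.TensorProduct.includeLeft :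
      S →ₐ[R] S ⊗[R] EGA4.Cpl A).toRingHom := by rw [h𝔑]; exact hs
    exact this
  have heq : nIdeal A B = 𝔑.map (algebraMap (S ⊗[R] EGA4.Cpl A) (B ⊗[A] EGA4.Cpl A)) :=
    (nIdeal_isMaximal A B).eq_of_le hprime.ne_top hle
  obtain ⟨⟨x, m⟩, hxm⟩ := IsLocalization.surj
    (Algebra.algebraMapSubmonoid (S ⊗[R] EGA4.Cpl A) 𝔭'.primeCompl) c
  refine ⟨x, ?_, algebraMap _ _ (m : S ⊗[R] EGA4.Cpl A), hxm⟩
  intro hx
  have h2 : c * algebraMap (S ⊗[R] EGA4.Cpl A) (B ⊗[A] EGA4.Cpl A) m ∈ nIdeal A B := by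
    rw [hxm, heq]
    exact Ideal.mem_map_of_mem _ hx
  rcases (nIdeal_isPrime A B).mem_or_mem h2 with h3 | h3
  · exact hc h3
  · exact (nIdeal_isPrime A B).ne_top (Ideal.eq_top_of_isUnit_mem _ h3
      (IsLocalization.map_units _ m))

end W

end Groth.Agent.Lib.Helper22.GFree
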