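import Mathlib
import Groth.Prelude.Def_EGA4b
import Groth.Agent.Lib.Helper22.QFFibB
import Groth.Agent.Lib.Helper22.AdicSmOpenA

/-!
# Regularity of `Â ⊗[A] K'` at primes near `n`, from regularity of a formal fibre of a
quasi-finite local `A`-algebra `B` with `κ(Q') = K'` (helper22)
-/

set_option autoImplicit false
set_option linter.unusedSectionVars false
set_option linter.style.haveILetI false
universe u

namespace Groth.Agent.Lib.Helper22.GFree

open IsLocalRing TensorProduct Groth.Agent.Lib.Helper22.QFFib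

variable (A B : Type u) [CommRing A] [CommRing B] [IsNoetherianRing A] [IsNoetherianRing B]
  [IsLocalRing A] [IsLocalRing B] [Algebra A B] [IsLocalHom (algebraMap A B)]
  (K' : Type u) [Field K'] [Algebra B K']

section Sigma

variable [Algebra A K'] [IsScalarTower A B K']

/-- the map `B ⊗[A] Â → Â ⊗[A] K'` -/
noncomputable def sigma : B ⊗[A] EGA4.Cpl A →ₐ[A] EGA4.Cpl A ⊗[A] K' :=
  (Algebra.TensorProduct.comm A K' (EGA4.Cpl A)).toAlgHom.comp
    (Algebra.TensorProduct.map (IsScalarTower.toAlgHom A B K') (AlgHom.id A (EGA4.Cpl A)))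

theorem sigma_tmul (b : B) (a : EGA4.Cpl A) :
    sigma A B K' (b ⊗ₜ a) = a ⊗ₜ algebraMap B K' b := rfl

/-- the identification `(B ⊗[A] Â) ⊗[B] K' ≃ Â ⊗[A] K'` -/
noncomputable def eF : (B ⊗[A] EGA4.Cpl A) ⊗[B] K' ≃+* EGA4.Cpl A ⊗[A] K' :=
  (Algebra.TensorProduct.comm B (B ⊗[A] EGA4.Cpl A) K').toRingEquiv.trans
    ((Algebra.TensorProduct.cancelBaseChange A B K' K' (EGA4.Cpl A)).toRingEquiv.trans
      (Algebra.TensorProduct.comm A K' (EGA4.Cpl A)).toRingEquiv)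

theorem eF_tmul_one (c : B ⊗[A] EGA4.Cpl A) : eF A B K' (c ⊗ₜ 1) = sigma A B K' c := by
  induction c using TensorProduct.induction_on with
  | zero => rw [TensorProduct.zero_tmul, map_zero, map_zero]
  | tmul b a =>
    rw [sigma_tmul]
    change (Algebra.TensorProduct.comm A K' (EGA4.Cpl A))
      ((Algebra.TensorProduct.cancelBaseChange A B K' K' (EGA4.Cpl A))
        ((Algebra.TensorProduct.comm B (B ⊗[A] EGA4.Cpl A) K') ((b ⊗ₜ a) ⊗ₜ 1))) = _
    rw [Algebra.TensorProduct.comm_tmul, Algebra.TensorProduct.cancelBaseChange_tmul,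
      Algebra.TensorProduct.comm_tmul, Algebra.algebraMap_eq_smul_one]
  | add x y hx hy => rw [TensorProduct.add_tmul, map_add, map_add, hx, hy]

end Sigma

section CnTensor

attribute [local instance] Algebra.TensorProduct.rightAlgebra

variable [Algebra.EssFiniteType A B] [Algebra.QuasiFinite A B]
  (Cn : Type u) [CommRing Cn] [Algebra (B ⊗[A] EGA4.Cpl A) Cn]
  [IsLocalization.AtPrime Cn (nIdeal A B)] [IsLocalRing Cn]
  [Algebra B Cn] [IsScalarTower B (B ⊗[A] EGA4.Cpl A) Cn]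
  [Algebra (EGA4.Cpl A) Cn] [IsScalarTower (EGA4.Cpl A) (B ⊗[A] EGA4.Cpl A) Cn]

include A in
theorem isRegularRing_Cn_tensor (Q' : Ideal B) [Q'.IsPrime] (eK : Q'.ResidueField ≃ₐ[B] K')
    (h : IsRegularRing (EGA4.formalFibre B Q')) : IsRegularRing (Cn ⊗[B] K') := by
  obtain ⟨e⟩ := nonempty_cpl_algEquiv A B Cn
  let e5 : Q'.ResidueField ⊗[B] EGA4.Cpl B ≃ₐ[B] Cn ⊗[B] K' :=
    (Algebra.TensorProduct.congr eK e).trans (Algebra.TensorProduct.comm B K' _)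
  exact IsRegularRing.of_ringEquiv (R := Q'.ResidueField ⊗[B] EGA4.Cpl B) e5.toRingEquiv

end CnTensor

/-- transfer of `isRegularLocalRing_of_disjoint` along a ring isomorphism of the base -/
theorem isRegularLocalRing_of_ringEquiv_disjoint (X Z : Type u) [CommRing X] [CommRing Z]
    [IsNoetherianRing Z] (e : X ≃+* Z) (M : Submonoid X) (Y : Type u) [CommRing Y] [Algebra X Y]
    [IsLocalization M Y] [IsRegularRing Y] (𝔓 : Ideal Z) [𝔓.IsPrime]
    (h : ∀ m ∈ M, e m ∉ 𝔓) : IsRegularLocalRing (Localization.AtPrime 𝔓) := by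
  letI alg1 : Algebra Z Y := ((algebraMap X Y).comp e.symm.toRingHom).toAlgebra
  haveI hloc1 : IsLocalization (M.map e.toMonoidHom) Y :=
    IsLocalization.isLocalization_of_base_ringEquiv M Y e
  refine Groth.Agent.Lib.Helper22.AdicSmOpen.isRegularLocalRing_of_disjoint Z
    (M.map e.toMonoidHom) Y 𝔓 ?_
  rw [Set.disjoint_left]
  rintro _ ⟨m, hm, rfl⟩ hmP
  exact h m hm hmP

variable (Cn : Type u) [CommRing Cn] [Algebra (B ⊗[A] EGA4.Cpl A) Cn]
  [IsLocalization.AtPrime Cn (nIdeal A B)]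
  [Algebra B Cn] [IsScalarTower B (B ⊗[A] EGA4.Cpl A) Cn]

set_option maxHeartbeats 800000 in
theorem isRegularLocalRing_of_sigma [Algebra A K'] [IsScalarTower A B K']
    [IsNoetherianRing (EGA4.Cpl A ⊗[A] K')] [IsRegularRing (Cn ⊗[B] K')]
    (𝔓 : Ideal (EGA4.Cpl A ⊗[A] K')) [𝔓.IsPrime]
    (h𝔓 : ∀ c : B ⊗[A] EGA4.Cpl A, c ∉ nIdeal A B → sigma A B K' c ∉ 𝔓) :
    IsRegularLocalRing (Localization.AtPrime 𝔓) := by
  let f0 : (B ⊗[A] EGA4.Cpl A) ⊗[B] K' →+* Cn ⊗[B] K' :=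
    (Algebra.TensorProduct.map (IsScalarTower.toAlgHom B (B ⊗[A] EGA4.Cpl A) Cn)
      (AlgHom.id B K')).toRingHom
  letI alg0 : Algebra ((B ⊗[A] EGA4.Cpl A) ⊗[B] K') (Cn ⊗[B] K') := f0.toAlgebra
  haveI : IsScalarTower (B ⊗[A] EGA4.Cpl A) ((B ⊗[A] EGA4.Cpl A) ⊗[B] K') (Cn ⊗[B] K') := by
    refine IsScalarTower.of_algebraMap_eq (R := B ⊗[A] EGA4.Cpl A)
      (S := (B ⊗[A] EGA4.Cpl A) ⊗[B] K') (A := Cn ⊗[B] K') (fun c => ?_)
    change _ = (Algebra.TensorProduct.map (IsScalarTower.toAlgHom B (B ⊗[A] EGA4.Cpl A) Cn)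
      (AlgHom.id B K')) (c ⊗ₜ 1)
    rw [Algebra.TensorProduct.map_tmul]
    rfl
  haveI hloc0 :=
    IsLocalization.tensorProduct_tensorProduct B K' (nIdeal A B).primeCompl Cn (by
      ext x
      change (Algebra.TensorProduct.map (IsScalarTower.toAlgHom B (B ⊗[A] EGA4.Cpl A) Cn)
        (AlgHom.id B K')) (1 ⊗ₜ x) = 1 ⊗ₜ x
      rw [Algebra.TensorProduct.map_tmul, map_one]
      rfl)
  refine isRegularLocalRing_of_ringEquiv_disjoint ((B ⊗[A] EGA4.Cpl A) ⊗[B] K')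
    (EGA4.Cpl A ⊗[A] K') (eF A B K')
    (Algebra.algebraMapSubmonoid ((B ⊗[A] EGA4.Cpl A) ⊗[B] K') (nIdeal A B).primeCompl)
    (Cn ⊗[B] K') 𝔓 ?_
  rintro _ ⟨c, hc, rfl⟩ hcP
  refine h𝔓 c hc ?_
  rw [← eF_tmul_one]
  exact hcP

section Final

attribute [local instance] Algebra.TensorProduct.rightAlgebra

variable [Algebra.EssFiniteType A B] [Algebra.QuasiFinite A B]

theorem isRegularLocalRing_of_formalFibre_aux
    (Cn' : Type u) [CommRing Cn'] [Algebra (B ⊗[A] EGA4.Cpl A) Cn']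
    [IsLocalization.AtPrime Cn' (nIdeal A B)] [IsLocalRing Cn']
    [Algebra B Cn'] [IsScalarTower B (B ⊗[A] EGA4.Cpl A) Cn']
    [Algebra (EGA4.Cpl A) Cn'] [IsScalarTower (EGA4.Cpl A) (B ⊗[A] EGA4.Cpl A) Cn']
    [Algebra A K'] [IsScalarTower A B K']
    [IsNoetherianRing (EGA4.Cpl A ⊗[A] K')]
    (Q' : Ideal B) [Q'.IsPrime] (eK : Q'.ResidueField ≃ₐ[B] K')
    (h : IsRegularRing (EGA4.formalFibre B Q'))
    (𝔓 : Ideal (EGA4.Cpl A ⊗[A] K')) [𝔓.IsPrime]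
    (h𝔓 : ∀ c : B ⊗[A] EGA4.Cpl A, c ∉ nIdeal A B → sigma A B K' c ∉ 𝔓) :
    IsRegularLocalRing (Localization.AtPrime 𝔓) := by
  haveI := isRegularRing_Cn_tensor A B K' Cn' Q' eK h
  exact isRegularLocalRing_of_sigma A B K' Cn' 𝔓 h𝔓

theorem isRegularLocalRing_of_formalFibre
    [Algebra A K'] [IsScalarTower A B K']
    [IsNoetherianRing (EGA4.Cpl A ⊗[A] K')]
    (Q' : Ideal B) [Q'.IsPrime] (eK : Q'.ResidueField ≃ₐ[B] K')
    (h : IsRegularRing (EGA4.formalFibre B Q'))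
    (𝔓 : Ideal (EGA4.Cpl A ⊗[A] K')) [𝔓.IsPrime]
    (h𝔓 : ∀ c : B ⊗[A] EGA4.Cpl A, c ∉ nIdeal A B → sigma A B K' c ∉ 𝔓) :
    IsRegularLocalRing (Localization.AtPrime 𝔓) :=
  isRegularLocalRing_of_formalFibre_aux A B K' (Localization.AtPrime (nIdeal A B)) Q' eK h 𝔓 h𝔓

end Final

end Groth.Agent.Lib.Helper22.GFree
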