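import Mathlib

/-!
# Field-theoretic lemmas for residue fields of localizations (helper22)
-/

set_option autoImplicit false
set_option linter.unusedSectionVars false
set_option linter.style.haveILetI false
universe u

namespace Groth.Agent.Lib.Helper22.GFree

open IsLocalRing TensorProduct

/-- every element of an integral extension of the residue field `κ(Q)` of a localization `A` of `R`
has an `R`-multiple (by a scalar with nonzero image) which is integral over `R`. -/
theorem exists_integral_multiple (R : Type u) [CommRing R] (M : Submonoid R) (A : Type u)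
    [CommRing A] [Algebra R A] [IsLocalization M A] (Q : Ideal A) [Q.IsPrime]
    (K' : Type u) [Field K'] [Algebra Q.ResidueField K'] [Algebra.IsIntegral Q.ResidueField K']
    [Algebra A K'] [IsScalarTower A Q.ResidueField K'] [Algebra R K'] [IsScalarTower R A K']
    (z : K') : ∃ r : R, algebraMap R K' r ≠ 0 ∧ IsIntegral R (algebraMap R K' r * z) := by
  letI : Algebra (A ⧸ Q) K' :=
    ((algebraMap Q.ResidueField K').comp (algebraMap (A ⧸ Q) Q.ResidueField)).toAlgebra
  haveI : IsScalarTower (A ⧸ Q) Q.ResidueField K' := .of_algebraMap_eq (fun _ => rfl)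
  haveI : IsScalarTower A (A ⧸ Q) K' := .of_algebraMap_eq (fun a => by
    rw [IsScalarTower.algebraMap_apply A Q.ResidueField K']
    rfl)
  obtain ⟨⟨mb, hmb⟩, hint⟩ := IsIntegral.exists_multiple_integral_of_isLocalization
    (nonZeroDivisors (A ⧸ Q)) (Rₘ := Q.ResidueField) z (Algebra.IsIntegral.isIntegral z)
  obtain ⟨a, rfl⟩ := Ideal.Quotient.mk_surjective mb
  have ha : a ∉ Q := by
    intro h
    have h0 : (Ideal.Quotient.mk Q a) = 0 := Ideal.Quotient.eq_zero_iff_mem.mpr h
    exact (nonZeroDivisors.ne_zero hmb) h0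
  have haK : algebraMap A K' a ≠ 0 := by
    rw [IsScalarTower.algebraMap_apply A Q.ResidueField K']
    intro h0
    have := (map_eq_zero (algebraMap Q.ResidueField K')).mp h0
    exact ha (Ideal.algebraMap_residueField_eq_zero.mp this)
  have hint2 : IsIntegral A (algebraMap A K' a * z) := by
    haveI : Algebra.IsIntegral A (A ⧸ Q) :=
      Algebra.isIntegral_of_surjective Ideal.Quotient.mk_surjective
    have h1 : IsIntegral A ((⟨Ideal.Quotient.mk Q a, hmb⟩ : nonZeroDivisors (A ⧸ Q)) • z) :=
      isIntegral_trans (R := A) (A := A ⧸ Q) _ hint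
    have h2 : ((⟨Ideal.Quotient.mk Q a, hmb⟩ : nonZeroDivisors (A ⧸ Q)) • z) =
        algebraMap A K' a * z := by
      rw [Submonoid.smul_def, Algebra.smul_def,
        IsScalarTower.algebraMap_apply A (A ⧸ Q) K']
      rfl
    rw [← h2]
    exact h1
  obtain ⟨⟨m, hm⟩, hint3⟩ := IsIntegral.exists_multiple_integral_of_isLocalization M (Rₘ := A)
    (algebraMap A K' a * z) hint2
  obtain ⟨⟨r, t⟩, hrt⟩ := IsLocalization.surj M a
  have hmK : algebraMap R K' m ≠ 0 := by
    rw [IsScalarTower.algebraMap_apply R A K']
    exact ((IsLocalization.map_units A ⟨m, hm⟩).map (algebraMap A K')).ne_zero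
  have htK : algebraMap R K' t ≠ 0 := by
    rw [IsScalarTower.algebraMap_apply R A K']
    exact ((IsLocalization.map_units A t).map (algebraMap A K')).ne_zero
  have hrK : algebraMap R K' r = algebraMap A K' a * algebraMap R K' t := by
    rw [IsScalarTower.algebraMap_apply R A K' r, ← hrt, map_mul,
      ← IsScalarTower.algebraMap_apply R A K']
  refine ⟨m * r, ?_, ?_⟩
  · rw [map_mul, hrK]
    exact mul_ne_zero hmK (mul_ne_zero haK htK)
  · have h3 : algebraMap R K' (m * r) * z =
        (t : R) • ((⟨m, hm⟩ : M) • (algebraMap A K' a * z)) := by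
      rw [Submonoid.smul_def, Algebra.smul_def, Algebra.smul_def, map_mul, hrK]
      ring
    rw [h3]
    exact hint3.smul _

/-- a subfield of `K'` containing the image of `A` and a spanning set over `κ(Q)` is everything -/
theorem subfield_eq_top (A : Type u) [CommRing A] (Q : Ideal A) [Q.IsPrime]
    (K' : Type u) [Field K'] [Algebra Q.ResidueField K'] [Algebra A K']
    [IsScalarTower A Q.ResidueField K'] (F : Subfield K')
    (hA : ∀ a : A, algebraMap A K' a ∈ F) (θ : Set K')
    (hθ : Submodule.span Q.ResidueField θ = ⊤) (hθF : θ ⊆ F) : F = ⊤ := by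
  have hκ : ∀ c : Q.ResidueField, algebraMap Q.ResidueField K' c ∈ F := by
    intro c
    obtain ⟨x, y, hy, rfl⟩ := IsFractionRing.div_surjective (A := A ⧸ Q) c
    obtain ⟨a, rfl⟩ := Ideal.Quotient.mk_surjective x
    obtain ⟨b, rfl⟩ := Ideal.Quotient.mk_surjective y
    rw [map_div₀]
    refine F.div_mem ?_ ?_
    · have : algebraMap Q.ResidueField K' (algebraMap (A ⧸ Q) Q.ResidueField
          (Ideal.Quotient.mk Q a)) = algebraMap A K' a := by
        rw [IsScalarTower.algebraMap_apply A Q.ResidueField K']
        rfl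
      rw [this]
      exact hA a
    · have : algebraMap Q.ResidueField K' (algebraMap (A ⧸ Q) Q.ResidueField
          (Ideal.Quotient.mk Q b)) = algebraMap A K' b := by
        rw [IsScalarTower.algebraMap_apply A Q.ResidueField K']
        rfl
      rw [this]
      exact hA b
  have key : ∀ z : K', z ∈ Submodule.span Q.ResidueField θ → z ∈ F := by
    intro z hz
    induction hz using Submodule.span_induction with
    | mem x hx => exact hθF hx
    | zero => exact F.zero_mem
    | add x y _ _ hx hy => exact F.add_mem hx hy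
    | smul c x _ hx =>
      rw [Algebra.smul_def]
      exact F.mul_mem (hκ c) hx
  rw [eq_top_iff]
  intro z _
  exact key z (by rw [hθ]; trivial)

/-- if `K'` is generated as a field by the image of `B`, then `K'` is the residue field of the
kernel of `B → K'`. -/
theorem nonempty_residueField_algEquiv (B : Type u) [CommRing B] (K' : Type u) [Field K']
    [Algebra B K'] (Q' : Ideal B) [Q'.IsPrime] (hQ' : Q' = RingHom.ker (algebraMap B K'))
    (hF : ∀ F : Subfield K', (∀ b : B, algebraMap B K' b ∈ F) → F = ⊤) :
    Nonempty (Q'.ResidueField ≃ₐ[B] K') := by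
  have hf₁ : Q' ≤ RingHom.ker (Algebra.ofId B K') := by
    rw [hQ']
    exact le_rfl
  have hf₂ : Q'.primeCompl ≤ (IsUnit.submonoid K').comap (Algebra.ofId B K') := by
    intro b hb
    have hb0 : algebraMap B K' b ≠ 0 := by
      intro h0
      apply hb
      rw [hQ']
      exact h0
    exact IsUnit.mk0 _ hb0
  let f : Q'.ResidueField →ₐ[B] K' := Ideal.ResidueField.liftₐ Q' (Algebra.ofId B K') hf₁ hf₂
  have hsurj : Function.Surjective f := by
    have h1 : f.toRingHom.fieldRange = ⊤ := by
      apply hF
      intro b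
      refine ⟨algebraMap B Q'.ResidueField b, ?_⟩
      exact Ideal.ResidueField.liftₐ_algebraMap Q' (Algebra.ofId B K') hf₁ hf₂ b
    intro z
    have hz : z ∈ f.toRingHom.fieldRange := by rw [h1]; trivial
    obtain ⟨y, hy⟩ := hz
    exact ⟨y, hy⟩
  exact ⟨AlgEquiv.ofBijective f ⟨f.toRingHom.injective, hsurj⟩⟩

end Groth.Agent.Lib.Helper22.GFree
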