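import Mathlib

/-!
# The algebra structure between abstract localizations at primes lying over each other (helper22)
-/

set_option autoImplicit false
set_option linter.unusedSectionVars false
set_option linter.style.haveILetI false
universe u

namespace Groth.Agent.Lib.Helper22.GFree

open IsLocalRing

variable (R : Type u) [CommRing R] (𝔭 : Ideal R) [𝔭.IsPrime] (A : Type u) [CommRing A]
  [Algebra R A] [IsLocalization.AtPrime A 𝔭]
  (S : Type u) [CommRing S] [Algebra R S] (𝔭' : Ideal S) [𝔭'.IsPrime] [𝔭'.LiesOver 𝔭]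
  (B : Type u) [CommRing B] [Algebra S B] [IsLocalization.AtPrime B 𝔭'] [Algebra R B]
  [IsScalarTower R S B]

include S 𝔭' in
theorem isUnit_algebraMap_of_liesOver (y : 𝔭.primeCompl) : IsUnit (algebraMap R B (y : R)) := by
  rw [IsScalarTower.algebraMap_apply R S B]
  refine IsLocalization.map_units B (⟨algebraMap R S y, ?_⟩ : 𝔭'.primeCompl)
  intro h
  apply y.2
  have h0 : 𝔭 = 𝔭'.comap (algebraMap R S) := Ideal.LiesOver.over (p := 𝔭) (P := 𝔭')
  have h1 : (y : R) ∈ 𝔭'.comap (algebraMap R S) := h
  rw [← h0] at h1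
  exact h1

/-- the canonical algebra structure `A → B` -/
noncomputable def algebraLoc : Algebra A B :=
  (IsLocalization.lift (M := 𝔭.primeCompl) (g := algebraMap R B)
    (isUnit_algebraMap_of_liesOver R 𝔭 S 𝔭' B)).toAlgebra

theorem isScalarTower_algebraLoc :
    letI := algebraLoc R 𝔭 A S 𝔭' B
    IsScalarTower R A B := by
  letI := algebraLoc R 𝔭 A S 𝔭' B
  refine IsScalarTower.of_algebraMap_eq (fun r => ?_)
  exact (IsLocalization.lift_eq (isUnit_algebraMap_of_liesOver R 𝔭 S 𝔭' B) r).symm

include R 𝔭 S 𝔭' in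
theorem isLocalHom_of_liesOver' [Algebra A B] [IsScalarTower R A B] [IsLocalRing A]
    [IsLocalRing B] : IsLocalHom (algebraMap A B) := by
  refine ((IsLocalRing.local_hom_TFAE (algebraMap A B)).out 0 4).mpr ?_
  have e1 : (maximalIdeal B).comap (algebraMap S B) = 𝔭' :=
    IsLocalization.AtPrime.comap_maximalIdeal B 𝔭'
  have e2 : (maximalIdeal A).comap (algebraMap R A) = 𝔭 :=
    IsLocalization.AtPrime.comap_maximalIdeal A 𝔭
  have e3 : 𝔭 = 𝔭'.comap (algebraMap R S) := Ideal.LiesOver.over (p := 𝔭) (P := 𝔭')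
  have h1 : ((maximalIdeal B).comap (algebraMap A B)).comap (algebraMap R A) =
      (maximalIdeal A).comap (algebraMap R A) := by
    rw [Ideal.comap_comap, ← IsScalarTower.algebraMap_eq, IsScalarTower.algebraMap_eq R S B,
      ← Ideal.comap_comap, e1, e2, ← e3]
  have h2 : (((maximalIdeal B).comap (algebraMap A B)).comap (algebraMap R A)).map
      (algebraMap R A) = (maximalIdeal B).comap (algebraMap A B) :=
    IsLocalization.map_comap 𝔭.primeCompl A ((maximalIdeal B).comap (algebraMap A B))
  have h3 : ((maximalIdeal A).comap (algebraMap R A)).map (algebraMap R A) = maximalIdeal A :=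
    IsLocalization.map_comap 𝔭.primeCompl A (maximalIdeal A)
  rw [← h2, ← h3, h1]

end Groth.Agent.Lib.Helper22.GFree
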