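import Mathlib
import Groth.Prelude.Def_EGA4b
import Groth.Agent.Lib.Helper22.GFreeB
import Groth.Agent.Lib.Helper22.GFreeC
import Groth.Agent.Lib.Helper22.GFreeD
import Groth.Agent.Lib.Helper22.GFreeF
import Groth.Agent.Lib.Helper12.AnUnramF

/-!
# Regularity of `Â ⊗[A] K'` from regular formal fibres of local rings of a finite `R`-algebra
(helper22)
-/

set_option autoImplicit false
set_option linter.unusedSectionVars false
set_option linter.style.haveILetI false
universe u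

namespace Groth.Agent.Lib.Helper22.GFree

open IsLocalRing TensorProduct Groth.Agent.Lib.Helper22.QFFib

section Tau

variable (R : Type u) [CommRing R] (𝔭 : Ideal R) [𝔭.IsPrime] (A : Type u) [CommRing A]
  [Algebra R A] [IsLocalization.AtPrime A 𝔭]
  (S : Type u) [CommRing S] [Algebra R S]
  (K' : Type u) [Field K'] [Algebra A K'] [Algebra R K'] [IsScalarTower R A K']
  (E : Type u) [CommRing E] [Algebra A E] [Algebra R E] [IsScalarTower R A E]
  (φ : S →ₐ[R] K')

/-- the map `S ⊗[R] E → E ⊗[A] K'` induced by `φ : S → K'` -/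
noncomputable def tau0 : S ⊗[R] E →+* E ⊗[A] K' :=
  ((Algebra.TensorProduct.comm A K' E).toRingEquiv.toRingHom).comp
    (((IsLocalization.algebraTensorEquiv 𝔭.primeCompl A K' E).symm.toRingEquiv.toRingHom).comp
      (Algebra.TensorProduct.map φ (AlgHom.id R E)).toRingHom)

theorem tau0_tmul (s : S) (e : E) : tau0 R 𝔭 A S K' E φ (s ⊗ₜ e) = e ⊗ₜ φ s := rfl

end Tau

section Core

variable (R : Type u) [CommRing R] [IsNoetherianRing R] (𝔭 : Ideal R) [𝔭.IsPrime]
  (A : Type u) [CommRing A] [Algebra R A] [IsLocalization.AtPrime A 𝔭] [IsLocalRing A]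
  [IsNoetherianRing A]
  (K' : Type u) [Field K'] [Algebra A K'] [Algebra R K'] [IsScalarTower R A K']
  [IsNoetherianRing (EGA4.Cpl A ⊗[A] K')]
  (S : Type u) [CommRing S] [Algebra R S] [Module.Finite R S] (φ : S →ₐ[R] K')

set_option maxHeartbeats 1600000 in
theorem isRegularLocalRing_core1
    (hgen : ∀ F : Subfield K', (∀ s, φ s ∈ F) → F = ⊤)
    (𝔓 : Ideal (EGA4.Cpl A ⊗[A] K')) [𝔓.IsPrime]
    (𝔑 : Ideal (S ⊗[R] EGA4.Cpl A)) [𝔑.IsPrime]
    (h𝔑le : 𝔓.comap (tau0 R 𝔭 A S K' (EGA4.Cpl A) φ) ≤ 𝔑)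
    (𝔭' : Ideal S) [𝔭'.IsPrime]
    (h𝔭' : 𝔑.comap (Algebra.TensorProduct.includeLeft :
      S →ₐ[R] S ⊗[R] EGA4.Cpl A).toRingHom = 𝔭')
    (B : Type u) [CommRing B] [Algebra S B] [IsLocalization.AtPrime B 𝔭'] [IsLocalRing B]
    [Algebra R B] [IsScalarTower R S B] [Algebra A B] [IsScalarTower R A B]
    [IsNoetherianRing B] [IsLocalHom (algebraMap A B)]
    [Algebra.EssFiniteType A B] [Algebra.QuasiFinite A B]
    (HS : ∀ (p : Ideal B) [p.IsPrime], IsRegularRing (EGA4.formalFibre B p)) :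
    IsRegularLocalRing (Localization.AtPrime 𝔓) := by
  -- `K'` as an algebra over `B`
  have hunits : ∀ y : 𝔭'.primeCompl, IsUnit (φ.toRingHom y) := by
    rintro ⟨y, hy⟩
    apply IsUnit.mk0
    intro h0
    apply hy
    rw [← h𝔭']
    apply h𝔑le
    rw [Ideal.mem_comap]
    change tau0 R 𝔭 A S K' (EGA4.Cpl A) φ (y ⊗ₜ 1) ∈ 𝔓
    rw [tau0_tmul]
    have : φ y = 0 := h0
    rw [this, TensorProduct.tmul_zero]
    exact Ideal.zero_mem _
  letI algBK : Algebra B K' :=
    (IsLocalization.lift (M := 𝔭'.primeCompl) (g := φ.toRingHom) hunits).toAlgebra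
  have hBK : ∀ s, algebraMap B K' (algebraMap S B s) = φ s :=
    fun s => IsLocalization.lift_eq hunits s
  haveI : IsScalarTower A B K' := by
    refine IsScalarTower.of_algebraMap_eq' ?_
    refine IsLocalization.ringHom_ext 𝔭.primeCompl ?_
    ext r
    change algebraMap A K' (algebraMap R A r) = algebraMap B K'
      (algebraMap A B (algebraMap R A r))
    rw [← IsScalarTower.algebraMap_apply R A K',
      ← IsScalarTower.algebraMap_apply R A B,
      IsScalarTower.algebraMap_apply R S B, hBK, φ.commutes]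
  -- the prime `Q'` of `B` and its residue field
  haveI hQ'prime : (RingHom.ker (algebraMap B K')).IsPrime := RingHom.ker_isPrime _
  obtain ⟨eK⟩ := nonempty_residueField_algEquiv B K'
    (RingHom.ker (algebraMap B K')) rfl (by
      intro F hF
      apply hgen F
      intro s
      rw [← hBK]
      exact hF _)
  have hreg := HS (RingHom.ker (algebraMap B K'))
  refine isRegularLocalRing_of_formalFibre A B K' _ eK hreg 𝔓 ?_
  intro c hc hmem
  obtain ⟨x, hx, u, hu⟩ := exists_mul_eq_iota R 𝔭 A S 𝔭' B 𝔑 h𝔭' c hc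
  apply hx
  apply h𝔑le
  rw [Ideal.mem_comap]
  have hτ : ∀ x : S ⊗[R] EGA4.Cpl A,
      sigma A B K' (iota R 𝔭 A S B (EGA4.Cpl A) x) =
      tau0 R 𝔭 A S K' (EGA4.Cpl A) φ x := by
    intro x
    induction x using TensorProduct.induction_on with
    | zero => rw [map_zero, map_zero, map_zero]
    | tmul s a => rw [iota_tmul, sigma_tmul, tau0_tmul, hBK]
    | add x y hx hy => rw [map_add, map_add, map_add, hx, hy]
  rw [← hτ, ← hu, map_mul]
  exact Ideal.mul_mem_right _ _ hmem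

include 𝔭 in
set_option maxHeartbeats 1600000 in
theorem isRegularLocalRing_core2
    (hgen : ∀ F : Subfield K', (∀ s, φ s ∈ F) → F = ⊤)
    (HS : ∀ (q : Ideal S) [q.IsPrime] (p : Ideal (Localization.AtPrime q)) [p.IsPrime],
        IsRegularRing (EGA4.formalFibre (Localization.AtPrime q) p))
    (𝔓 : Ideal (EGA4.Cpl A ⊗[A] K')) [𝔓.IsPrime] :
    IsRegularLocalRing (Localization.AtPrime 𝔓) := by
  haveI hp𝔓 : (𝔓.comap (tau0 R 𝔭 A S K' (EGA4.Cpl A) φ)).IsPrime := Ideal.comap_isPrime _ _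
  obtain ⟨𝔑, h𝔑max, h𝔑le⟩ := Ideal.exists_le_maximal _ hp𝔓.ne_top
  haveI := h𝔑max
  haveI h𝔑prime : 𝔑.IsPrime := h𝔑max.isPrime
  obtain ⟨𝔭', h𝔭'⟩ : ∃ 𝔭' : Ideal S, 𝔑.comap (Algebra.TensorProduct.includeLeft :
      S →ₐ[R] S ⊗[R] EGA4.Cpl A).toRingHom = 𝔭' := ⟨_, rfl⟩
  haveI h𝔭'prime : 𝔭'.IsPrime := by rw [← h𝔭']; exact Ideal.comap_isPrime _ _
  -- lying over
  let g : EGA4.Cpl A →+* S ⊗[R] EGA4.Cpl A :=
    (Algebra.TensorProduct.includeRight : EGA4.Cpl A →ₐ[R] S ⊗[R] EGA4.Cpl A).toRingHom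
  have hg : g.IsIntegral := by
    haveI : Module.Finite (EGA4.Cpl A) (EGA4.Cpl A ⊗[R] S) := inferInstance
    have h1 : (algebraMap (EGA4.Cpl A) (EGA4.Cpl A ⊗[R] S)).IsIntegral :=
      algebraMap_isIntegral_iff.mpr inferInstance
    have h2 : ((Algebra.TensorProduct.comm R (EGA4.Cpl A) S).toRingEquiv.toRingHom).IsIntegral :=
      RingHom.isIntegral_of_surjective _ (fun x =>
        ⟨(Algebra.TensorProduct.comm R (EGA4.Cpl A) S).symm x,
          (Algebra.TensorProduct.comm R (EGA4.Cpl A) S).apply_symm_apply x⟩)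
    have h3 : g = ((Algebra.TensorProduct.comm R (EGA4.Cpl A) S).toRingEquiv.toRingHom).comp
        (algebraMap (EGA4.Cpl A) (EGA4.Cpl A ⊗[R] S)) := RingHom.ext (fun a => rfl)
    rw [h3]
    exact RingHom.IsIntegral.trans _ _ h1 h2
  have hmax : (𝔑.comap g).IsMaximal :=
    Ideal.isMaximal_comap_of_isIntegral_of_isMaximal' g hg 𝔑
  have hmaxeq : 𝔑.comap g = maximalIdeal (EGA4.Cpl A) := IsLocalRing.eq_maximalIdeal hmax
  have key : ∀ r : R, r ∈ 𝔭 ↔ algebraMap R S r ∈ 𝔭' := by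
    intro r
    rw [← h𝔭', Ideal.mem_comap]
    have e1 : (Algebra.TensorProduct.includeLeft : S →ₐ[R] S ⊗[R] EGA4.Cpl A).toRingHom
        (algebraMap R S r) = g (algebraMap R (EGA4.Cpl A) r) := by
      change (Algebra.TensorProduct.includeLeft : S →ₐ[R] S ⊗[R] EGA4.Cpl A) (algebraMap R S r) =
        (Algebra.TensorProduct.includeRight : EGA4.Cpl A →ₐ[R] S ⊗[R] EGA4.Cpl A)
          (algebraMap R (EGA4.Cpl A) r)
      rw [AlgHom.commutes, AlgHom.commutes]
    rw [e1, ← Ideal.mem_comap, hmaxeq, IsScalarTower.algebraMap_apply R A (EGA4.Cpl A),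
      ← IsLocalization.AtPrime.to_map_mem_maximal_iff A 𝔭 r, mem_maximalIdeal, mem_maximalIdeal,
      map_mem_nonunits_iff (algebraMap A (EGA4.Cpl A)) (algebraMap R A r)]
  haveI hlo : 𝔭'.LiesOver 𝔭 := ⟨Ideal.ext fun r => key r⟩
  -- the local ring `B`
  letI algAB : Algebra A (Localization.AtPrime 𝔭') :=
    algebraLoc R 𝔭 A S 𝔭' (Localization.AtPrime 𝔭')
  haveI tower : IsScalarTower R A (Localization.AtPrime 𝔭') :=
    isScalarTower_algebraLoc R 𝔭 A S 𝔭' _
  haveI : IsNoetherianRing S := IsNoetherianRing.of_finite R S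
  haveI : IsLocalHom (algebraMap A (Localization.AtPrime 𝔭')) :=
    isLocalHom_of_liesOver' R 𝔭 A S 𝔭' _
  haveI : Algebra.EssFiniteType A (Localization.AtPrime 𝔭') :=
    Algebra.EssFiniteType.of_comp R _ _
  haveI : Algebra.QuasiFinite A (Localization.AtPrime 𝔭') :=
    Algebra.QuasiFinite.of_restrictScalars R _ _
  exact isRegularLocalRing_core1 R 𝔭 A K' S φ hgen 𝔓 𝔑 h𝔑le 𝔭' h𝔭' (Localization.AtPrime 𝔭')
    (HS 𝔭')

end Core

end Groth.Agent.Lib.Helper22.GFree
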