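import Mathlib
import Groth.Prelude.Def_EGA4b
import Groth.Agent.Lib.Helper22.AdicSmOpenA
import Groth.Agent.Lib.Helper12.HensRegC

/-!
# Regular homomorphisms are detected on the local homomorphisms `A_p → B_q` (helper22)
-/

set_option autoImplicit false
set_option linter.unusedSectionVars false
set_option linter.style.haveILetI false
universe u

namespace Groth.Agent.Lib.Helper22.RegHomLoc

open IsLocalRing TensorProduct

section T2

variable (A B : Type u) [CommRing A] [CommRing B] [Algebra A B] (p : Ideal A) [p.IsPrime]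
  (K' : Type u) [Field K'] [Algebra p.ResidueField K'] [Algebra A K']
  [IsScalarTower A p.ResidueField K']

theorem isRegularRing_fiber_tensor_iff :
    IsRegularRing (K' ⊗[p.ResidueField] (p.Fiber B)) ↔ IsRegularRing (B ⊗[A] K') := by
  let e1 : K' ⊗[p.ResidueField] (p.ResidueField ⊗[A] B) ≃ₐ[K'] K' ⊗[A] B :=
    Algebra.TensorProduct.cancelBaseChange A p.ResidueField K' K' B
  let e2 : K' ⊗[A] B ≃ₐ[A] B ⊗[A] K' := Algebra.TensorProduct.comm A K' B
  constructor
  · intro h
    exact IsRegularRing.of_ringEquiv (R := K' ⊗[p.ResidueField] (p.ResidueField ⊗[A] B))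
      (e1.toRingEquiv.trans e2.toRingEquiv)
  · intro h
    exact IsRegularRing.of_ringEquiv (R := B ⊗[A] K')
      (e1.toRingEquiv.trans e2.toRingEquiv).symm

end T2

section T1

variable (A : Type u) [CommRing A] (p : Ideal A) [p.IsPrime]
  (Bq : Type u) [CommRing Bq] [Algebra A Bq] [Algebra (Localization.AtPrime p) Bq]
  [IsScalarTower A (Localization.AtPrime p) Bq]
  (K' : Type u) [Field K'] [Algebra A K'] [Algebra (Localization.AtPrime p) K']
  [IsScalarTower A (Localization.AtPrime p) K']
  [Algebra (maximalIdeal (Localization.AtPrime p)).ResidueField K']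
  [IsScalarTower (Localization.AtPrime p) (maximalIdeal (Localization.AtPrime p)).ResidueField K']

theorem isRegularRing_closedFiber_tensor_iff :
    IsRegularRing (K' ⊗[(maximalIdeal (Localization.AtPrime p)).ResidueField]
      ((maximalIdeal (Localization.AtPrime p)).Fiber Bq)) ↔ IsRegularRing (Bq ⊗[A] K') := by
  let e1 : K' ⊗[(maximalIdeal (Localization.AtPrime p)).ResidueField]
      ((maximalIdeal (Localization.AtPrime p)).ResidueField ⊗[Localization.AtPrime p] Bq) ≃ₐ[K']
      K' ⊗[Localization.AtPrime p] Bq :=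
    Algebra.TensorProduct.cancelBaseChange (Localization.AtPrime p)
      (maximalIdeal (Localization.AtPrime p)).ResidueField K' K' Bq
  let e2 : K' ⊗[Localization.AtPrime p] Bq ≃ₐ[Localization.AtPrime p] K' ⊗[A] Bq :=
    IsLocalization.algebraTensorEquiv p.primeCompl (Localization.AtPrime p) K' Bq
  let e3 : K' ⊗[A] Bq ≃ₐ[A] Bq ⊗[A] K' := Algebra.TensorProduct.comm A K' Bq
  constructor
  · intro h
    exact IsRegularRing.of_ringEquiv
      (R := K' ⊗[(maximalIdeal (Localization.AtPrime p)).ResidueField]
        ((maximalIdeal (Localization.AtPrime p)).ResidueField ⊗[Localization.AtPrime p] Bq))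
      ((e1.toRingEquiv.trans e2.toRingEquiv).trans e3.toRingEquiv)
  · intro h
    exact IsRegularRing.of_ringEquiv (R := Bq ⊗[A] K')
      ((e1.toRingEquiv.trans e2.toRingEquiv).trans e3.toRingEquiv).symm

end T1

section T34

variable (A B : Type u) [CommRing A] [CommRing B] [Algebra A B] (q : Ideal B) [q.IsPrime]
  (K' : Type u) [Field K'] [Algebra A K']

theorem isRegularRing_localization_tensor [IsRegularRing (B ⊗[A] K')] :
    IsRegularRing (Localization.AtPrime q ⊗[A] K') :=
  Groth.Agent.Lib.Helper12.HensReg.isRegularRing_tensor_of_isLocalization A B K'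
    (Localization.AtPrime q) q.primeCompl

theorem isRegularLocalRing_of_localization_tensor [IsNoetherianRing (B ⊗[A] K')]
    [IsRegularRing (Localization.AtPrime q ⊗[A] K')]
    (P : Ideal (B ⊗[A] K')) [P.IsPrime]
    (hP : P.comap (Algebra.TensorProduct.includeLeft : B →ₐ[A] B ⊗[A] K').toRingHom = q) :
    IsRegularLocalRing (Localization.AtPrime P) := by
  letI alg : Algebra (B ⊗[A] K') (Localization.AtPrime q ⊗[A] K') :=
    (Algebra.TensorProduct.map (IsScalarTower.toAlgHom A B (Localization.AtPrime q))
      (AlgHom.id A K')).toRingHom.toAlgebra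
  haveI : IsScalarTower B (B ⊗[A] K') (Localization.AtPrime q ⊗[A] K') :=
    .of_algebraMap_eq (fun b => by
      change _ = (Algebra.TensorProduct.map (IsScalarTower.toAlgHom A B (Localization.AtPrime q))
        (AlgHom.id A K')) (b ⊗ₜ 1)
      rw [Algebra.TensorProduct.map_tmul]
      rfl)
  haveI : IsLocalization (Algebra.algebraMapSubmonoid (B ⊗[A] K') q.primeCompl)
      (Localization.AtPrime q ⊗[A] K') :=
    IsLocalization.tensorProduct_tensorProduct A K' q.primeCompl (Localization.AtPrime q) (by
      ext x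
      change (Algebra.TensorProduct.map (IsScalarTower.toAlgHom A B (Localization.AtPrime q))
        (AlgHom.id A K')) (1 ⊗ₜ x) = 1 ⊗ₜ x
      rw [Algebra.TensorProduct.map_tmul, map_one]
      rfl)
  refine Groth.Agent.Lib.Helper22.AdicSmOpen.isRegularLocalRing_of_disjoint (B ⊗[A] K')
    (Algebra.algebraMapSubmonoid (B ⊗[A] K') q.primeCompl) (Localization.AtPrime q ⊗[A] K') P ?_
  rw [Set.disjoint_left]
  rintro _ ⟨b, hb, rfl⟩ hbP
  apply hb
  rw [← hP]
  exact hbP

end T34

end Groth.Agent.Lib.Helper22.RegHomLoc
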