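import Mathlib
import Groth.Prelude.Def_EGA4b
import Groth.Agent.Lib.Helper22.GFreeA
import Groth.Agent.Lib.Helper22.GFreeE
import Groth.Agent.Lib.Helper22.RegHomLocA
import Groth.Agent.Lib.Helper5.GorFibreA

/-!
# Formal fibres of `R_𝔭` are geometrically regular if the formal fibres of all local rings of finite
free `R`-algebras are regular (helper22)
-/

set_option autoImplicit false
set_option linter.unusedSectionVars false
set_option linter.style.haveILetI false
universe u

namespace Groth.Agent.Lib.Helper22.GFree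

open IsLocalRing TensorProduct

variable (R : Type u) [CommRing R] [IsNoetherianRing R] (𝔭 : Ideal R) [𝔭.IsPrime]
  (A : Type u) [CommRing A] [Algebra R A] [IsLocalization.AtPrime A 𝔭] [IsLocalRing A]
  [IsNoetherianRing A]

include 𝔭 in
set_option maxHeartbeats 1600000 in
theorem isGeometricallyRegular_formalFibre_of_finite_free
    (H : ∀ (S : Type u) [CommRing S] [Algebra R S] [Module.Finite R S] [Module.Free R S]
        (q : Ideal S) [q.IsPrime] (p : Ideal (Localization.AtPrime q)) [p.IsPrime],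
        IsRegularRing (EGA4.formalFibre (Localization.AtPrime q) p))
    (Q : Ideal A) [Q.IsPrime] :
    CAlg.IsGeometricallyRegular Q.ResidueField (Q.Fiber (EGA4.Cpl A)) := by
  intro K' _ _ hfin
  haveI := hfin
  letI : Algebra A K' := ((algebraMap Q.ResidueField K').comp (algebraMap A _)).toAlgebra
  haveI : IsScalarTower A Q.ResidueField K' := .of_algebraMap_eq (fun _ => rfl)
  letI : Algebra R K' := ((algebraMap A K').comp (algebraMap R A)).toAlgebra
  haveI : IsScalarTower R A K' := .of_algebraMap_eq (fun _ => rfl)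
  -- Noetherianity
  haveI hNA : IsNoetherianRing (EGA4.Cpl A) :=
    Groth.Agent.Lib.Helper12.AnUnram.isNoetherianRing_cpl A
  haveI hNF := Groth.Agent.Lib.Helper5.GorFibre.isNoetherianRing_fiber A (EGA4.Cpl A) Q
  haveI : IsNoetherianRing (K' ⊗[Q.ResidueField] (Q.Fiber (EGA4.Cpl A))) := by
    haveI : IsNoetherianRing ((Q.Fiber (EGA4.Cpl A)) ⊗[Q.ResidueField] K') :=
      IsNoetherianRing.of_finite (Q.Fiber (EGA4.Cpl A))
        ((Q.Fiber (EGA4.Cpl A)) ⊗[Q.ResidueField] K')
    exact isNoetherianRing_of_ringEquiv _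
      (Algebra.TensorProduct.comm Q.ResidueField (Q.Fiber (EGA4.Cpl A)) K').toRingEquiv
  haveI : IsNoetherianRing (EGA4.Cpl A ⊗[A] K') := by
    let e1 : K' ⊗[Q.ResidueField] (Q.ResidueField ⊗[A] EGA4.Cpl A) ≃ₐ[K'] K' ⊗[A] EGA4.Cpl A :=
      Algebra.TensorProduct.cancelBaseChange A Q.ResidueField K' K' (EGA4.Cpl A)
    let e2 : K' ⊗[A] EGA4.Cpl A ≃ₐ[A] EGA4.Cpl A ⊗[A] K' :=
      Algebra.TensorProduct.comm A K' (EGA4.Cpl A)
    exact isNoetherianRing_of_ringEquiv _ (e1.toRingEquiv.trans e2.toRingEquiv)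
  rw [Groth.Agent.Lib.Helper22.RegHomLoc.isRegularRing_fiber_tensor_iff A (EGA4.Cpl A) Q K',
    isRegularRing_iff]
  intro 𝔓 h𝔓
  -- the finite free algebra `S`
  have halg := exists_integral_multiple R 𝔭.primeCompl A Q K'
  obtain ⟨s, hs⟩ := (Module.Finite.fg_top : (⊤ : Submodule Q.ResidueField K').FG)
  obtain ⟨S, _, _, _, _, φ, hφ⟩ := exists_finite_free_algHom R K' halg s.toList
  refine isRegularLocalRing_core2 R 𝔭 A K' S φ ?_ (fun q _ p _ => H S q p) 𝔓
  intro F hF
  have hR : ∀ r : R, algebraMap R K' r ∈ F := fun r => by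
    rw [← φ.commutes]
    exact hF _
  have hA : ∀ a : A, algebraMap A K' a ∈ F := by
    intro a
    obtain ⟨⟨r, t⟩, hrt⟩ := IsLocalization.surj 𝔭.primeCompl a
    have ht : algebraMap R K' t ≠ 0 := by
      rw [IsScalarTower.algebraMap_apply R A K']
      exact ((IsLocalization.map_units A t).map (algebraMap A K')).ne_zero
    have h1 : algebraMap A K' a = algebraMap R K' r / algebraMap R K' t := by
      rw [eq_div_iff ht, IsScalarTower.algebraMap_apply R A K' t, ← map_mul, hrt,
        ← IsScalarTower.algebraMap_apply]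
    rw [h1]
    exact F.div_mem (hR r) (hR t)
  refine subfield_eq_top A Q K' F hA (↑s) hs ?_
  intro z hz
  obtain ⟨r, hr, s', hs'⟩ := hφ z (Finset.mem_toList.mpr hz)
  have hs'' : φ s' = algebraMap R K' r * z := hs'
  have h2 : z = φ s' / algebraMap R K' r := by
    rw [hs'', mul_div_assoc, mul_comm, div_mul_cancel₀ _ hr]
  rw [h2]
  exact F.div_mem (hF s') (hR r)

end Groth.Agent.Lib.Helper22.GFree
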