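import Mathlib
import Groth.Agent.Lib.Helper22.GLocC
import Groth.Agent.Lib.Helper12.PairNoethB
import Groth.Agent.Lib.Helper12.PairUniv
import Groth.Agent.Lib.Helper12.PairUnique

/-!
# The henselization of a pair over a G-ring is a G-ring (helper22)
-/

set_option autoImplicit false
set_option linter.style.haveILetI false
set_option linter.unusedSectionVars false
universe u

namespace Groth.Agent.Lib.Helper22.GRing

open TensorProduct IsLocalRing
open Groth.Agent.Lib.Helper12 Groth.Agent.Lib.Helper12.IndEtaleFibre
open Groth.Agent.Lib.Helper12.PairNbhd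

variable (A : Type u) [CommRing A] (I : Ideal A)

/-- the limit of the pointed étale neighbourhoods is ind-étale -/
theorem isIndEssEtale_lim : IsIndEssEtale A (Lim A I) := by
  classical
  intro s
  have hrep : ∀ x : Lim A I, ∃ (i : PNbhd A I) (a : i.G), Lim.of A I i a = x := Lim.exists_of
  choose idx elt helt using hrep
  obtain ⟨j, hj⟩ := (s.image idx).exists_le
  haveI : Algebra.FiniteType A j.Ring := inferInstance
  haveI : Algebra.EssFiniteType A j.Ring := inferInstance
  haveI : Algebra.EssFiniteType j.Ring j.G :=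
    Algebra.EssFiniteType.of_isLocalization _ (unitSub j.Ring j.σ)
  haveI hft : Algebra.EssFiniteType A j.G := Algebra.EssFiniteType.comp A j.Ring j.G
  haveI : Algebra.FormallyEtale j.Ring j.G :=
    Algebra.FormallyEtale.of_isLocalization (unitSub j.Ring j.σ)
  haveI het : Algebra.FormallyEtale A j.G := Algebra.FormallyEtale.comp A j.Ring j.G
  refine ⟨j.G, inferInstance, inferInstance, hft, het, Lim.ofₐ A I j, ?_⟩
  intro x hx
  have hle : idx x ≤ j := hj _ (Finset.mem_image_of_mem _ hx)
  refine ⟨PNbhd.trans (idx x) j hle (elt x), ?_⟩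
  change Lim.of A I j (PNbhd.trans (idx x) j hle (elt x)) = x
  rw [Lim.of_trans, helt]

/-- transfer of ind-étaleness along an isomorphism of the target -/
theorem isIndEssEtale_of_algEquiv {R S S' : Type u} [CommRing R] [CommRing S] [CommRing S']
    [Algebra R S] [Algebra R S'] (e : S ≃ₐ[R] S') (h : IsIndEssEtale R S) :
    IsIndEssEtale R S' := by
  classical
  intro s
  obtain ⟨G, i1, i2, hft, het, ψ, hψ⟩ := h (s.image e.symm)
  refine ⟨G, i1, i2, hft, het, (e : S →ₐ[R] S').comp ψ, ?_⟩
  intro x hx
  obtain ⟨g, hg⟩ := hψ (e.symm x) (Finset.mem_image_of_mem _ hx)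
  refine ⟨g, ?_⟩
  change e (ψ g) = x
  have : ψ g = e.symm x := hg
  rw [this, AlgEquiv.apply_symm_apply]

/-- **the henselization of a pair `(A, I)` with `A` a G-ring is a G-ring** -/
theorem isGRing_of_isPairHenselization (hA : CAlg.IsGRing A) (B : Type u) [CommRing B]
    [Algebra A B] (hB : Hens2.IsPairHenselization A I B) : CAlg.IsGRing B := by
  haveI := hA.1
  haveI : IsNoetherianRing B := isNoetherianRing_of_isPairHenselization hB
  obtain ⟨e⟩ := PairUnique.nonempty_algEquiv (Lim.isPairHenselization A I) hB
  haveI : Module.Flat A B := Module.Flat.of_linearEquiv e.symm.toLinearEquiv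
  exact isGRing_of_isIndEssEtale_global A B
    (isIndEssEtale_of_algEquiv e (isIndEssEtale_lim A I)) hA

end Groth.Agent.Lib.Helper22.GRing
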