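import Mathlib
import Groth.Agent.Lib.Helper22.GRingQ

/-!
# `QG` over finite type algebras over power series rings (helper22)

Bounded derivations extend from a ring to a finitely generated extension ring.
-/

set_option autoImplicit false
set_option linter.style.haveILetI false
set_option linter.unusedSectionVars false
universe u

namespace Groth.Agent.Lib.Helper22.GRing

open Polynomial TensorProduct IsLocalRing Module
open scoped nonZeroDivisors

/-- boundedness of a derivation on `A₀` implies boundedness on a ring generated over `A₀` by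
finitely many elements -/
theorem bounded_of_closure {A₀ A E : Type*} [CommRing A₀] [CommRing A] [CommRing E]
    (ι : A₀ →+* A) (φ : A →+* E) {m : ℕ} (g : Fin m → A)
    (hG : Subring.closure (Set.range ι ∪ Set.range g) = ⊤)
    (D : Derivation ℤ E E) (J : Type) [Fintype J] (ν : J → E)
    (hb : ∀ a : A₀, ∃ c : J → A₀, D (φ (ι a)) = ∑ j, φ (ι (c j)) * ν j) :
    ∃ (J' : Type) (_ : Fintype J') (ν' : J' → E),
      ∀ a : A, ∃ c : J' → A, D (φ a) = ∑ j, φ (c j) * ν' j := by
  classical
  refine ⟨J ⊕ Fin m, inferInstance, Sum.elim ν (fun i => D (φ (g i))), ?_⟩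
  intro a
  have ha : a ∈ Subring.closure (Set.range ι ∪ Set.range g) := by rw [hG]; trivial
  induction ha using Subring.closure_induction with
  | mem x hx =>
    rcases hx with ⟨a₀, rfl⟩ | ⟨i, rfl⟩
    · obtain ⟨c, hc⟩ := hb a₀
      refine ⟨Sum.elim (fun j => ι (c j)) (fun _ => 0), ?_⟩
      rw [Fintype.sum_sum_type]
      simp only [Sum.elim_inl, Sum.elim_inr, map_zero, zero_mul, Finset.sum_const_zero, add_zero]
      exact hc
    · refine ⟨Sum.elim (fun _ => 0) (fun i' => if i' = i then 1 else 0), ?_⟩
      rw [Fintype.sum_sum_type]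
      simp only [Sum.elim_inl, Sum.elim_inr, map_zero, zero_mul, Finset.sum_const_zero, zero_add]
      rw [Finset.sum_eq_single i]
      · rw [if_pos rfl, map_one, one_mul]
      · intro i' _ hi'
        rw [if_neg hi', map_zero, zero_mul]
      · intro h
        exact absurd (Finset.mem_univ _) h
  | zero =>
    refine ⟨fun _ => 0, ?_⟩
    rw [map_zero, map_zero]
    symm
    apply Finset.sum_eq_zero
    intro j _
    rw [map_zero, zero_mul]
  | one =>
    refine ⟨fun _ => 0, ?_⟩
    rw [map_one, Derivation.map_one_eq_zero]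
    symm
    apply Finset.sum_eq_zero
    intro j _
    rw [map_zero, zero_mul]
  | add x y _ _ hx hy =>
    obtain ⟨cx, hcx⟩ := hx
    obtain ⟨cy, hcy⟩ := hy
    refine ⟨fun j => cx j + cy j, ?_⟩
    rw [map_add, map_add, hcx, hcy, ← Finset.sum_add_distrib]
    refine Finset.sum_congr rfl (fun j _ => ?_)
    rw [map_add, add_mul]
  | neg x _ hx =>
    obtain ⟨cx, hcx⟩ := hx
    refine ⟨fun j => - cx j, ?_⟩
    rw [map_neg, map_neg, hcx, ← Finset.sum_neg_distrib]
    refine Finset.sum_congr rfl (fun j _ => ?_)
    rw [map_neg, neg_mul]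
  | mul x y _ _ hx hy =>
    obtain ⟨cx, hcx⟩ := hx
    obtain ⟨cy, hcy⟩ := hy
    refine ⟨fun j => x * cy j + y * cx j, ?_⟩
    rw [map_mul, Derivation.leibniz, hcx, hcy, smul_eq_mul, smul_eq_mul, Finset.mul_sum,
      Finset.mul_sum, ← Finset.sum_add_distrib]
    refine Finset.sum_congr rfl (fun j _ => ?_)
    rw [map_add, map_mul, map_mul]
    ring

end Groth.Agent.Lib.Helper22.GRing
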