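import Mathlib
import Groth.Agent.Lib.Helper22.GPolyA

/-!
# `QG` over finite type domains over power series rings (helper22)
-/

set_option autoImplicit false
set_option linter.style.haveILetI false
set_option linter.unusedSectionVars false
universe u

namespace Groth.Agent.Lib.Helper22.GRing

open Polynomial TensorProduct IsLocalRing Module
open scoped nonZeroDivisors

theorem qg_finiteType_of_adicSmooth (Λ : Type u) [CommRing Λ]
    (hΛ : IsField Λ ∨ CAlg.IsCohenRing Λ) (n : ℕ)
    (A : Type u) [CommRing A] [IsDomain A] [Algebra (MvPowerSeries (Fin n) Λ) A]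
    [Algebra.FiniteType (MvPowerSeries (Fin n) Λ) A]
    (hA₀A : Function.Injective (algebraMap (MvPowerSeries (Fin n) Λ) A))
    (C₀ : Type u) [CommRing C₀] [Algebra A C₀] [IsNoetherianRing C₀] [IsLocalRing C₀]
    [IsAdicComplete (maximalIdeal C₀) C₀] [IsRegularRing C₀]
    (hfs : CAlgX.IsAdicFormallySmooth A C₀ (maximalIdeal C₀))
    (L : Type u) [Field L] [Algebra A L] (hAL : Function.Injective (algebraMap A L))
    [Algebra (FractionRing A) L] [IsScalarTower A (FractionRing A) L]
    [Module.Finite (FractionRing A) L] :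
    QG A C₀ L := by
  classical
  haveI := J0Root.isDomain_of_field_or_cohen Λ hΛ
  haveI hrl : IsRegularLocalRing (MvPowerSeries (Fin n) Λ) :=
    J0Root.isRegularLocalRing_mvPowerSeries Λ hΛ n
  haveI : IsNoetherianRing (MvPowerSeries (Fin n) Λ) := inferInstance
  haveI : IsNoetherianRing A := Algebra.FiniteType.isNoetherianRing (MvPowerSeries (Fin n) Λ) A
  have hbase := QG.base A C₀
  obtain ⟨p, hp⟩ := CharP.exists L
  rcases CharP.char_is_prime_or_zero L p with hpp | rfl
  · haveI : Fact p.Prime := ⟨hpp⟩
    have hA₀L : Function.Injective ((algebraMap A L).comp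
        (algebraMap (MvPowerSeries (Fin n) Λ) A)) := hAL.comp hA₀A
    have hfield : IsField Λ := by
      rcases hΛ with h | h
      · exact h
      · exfalso
        obtain ⟨_, _, hchar0⟩ :=
          Groth.Agent.Lib.Helper12.CompleteNagata.charZero_of_isCohenRing Λ h
        have h1 : ((algebraMap A L).comp (algebraMap (MvPowerSeries (Fin n) Λ) A))
            (MvPowerSeries.C ((p : ℕ) : Λ)) = 0 := by
          rw [map_natCast, map_natCast]
          exact CharP.cast_eq_zero _ p
        have h2 : ((p : ℕ) : Λ) = 0 := by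
          apply MvPowerSeries.C_injective (σ := Fin n)
          apply hA₀L
          rw [h1, map_zero, map_zero]
        exact hpp.ne_zero (Nat.cast_injective (R := Λ) (h2.trans Nat.cast_zero.symm))
    letI := hfield.toField
    haveI : CharP Λ p :=
      RingHom.charP (((algebraMap A L).comp (algebraMap (MvPowerSeries (Fin n) Λ) A)).comp
        (MvPowerSeries.C : Λ →+* MvPowerSeries (Fin n) Λ))
        (hA₀L.comp MvPowerSeries.C_injective) p
    refine QG.of_finite hfs p ?_ (FractionRing A) L hAL hbase
    intro E _ _ _ _ hE f hf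
    letI algA₀E : Algebra (MvPowerSeries (Fin n) Λ) E :=
      ((algebraMap A E).comp (algebraMap (MvPowerSeries (Fin n) Λ) A)).toAlgebra
    haveI : IsScalarTower (MvPowerSeries (Fin n) Λ) A E := IsScalarTower.of_algebraMap_eq' rfl
    haveI : Algebra.FiniteType (MvPowerSeries (Fin n) Λ) E :=
      Algebra.FiniteType.trans (S := A) inferInstance inferInstance
    obtain ⟨s, hs⟩ := (Algebra.FiniteType.out : (⊤ : Subalgebra (MvPowerSeries (Fin n) Λ) E).FG)
    have hG : Subring.closure (Set.range (algebraMap (MvPowerSeries (Fin n) Λ) E) ∪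
        (s : Set E)) = ⊤ := by
      rw [← Algebra.adjoin_eq_ring_closure, hs]
      rfl
    have hE₀ : Function.Injective (algebraMap (MvPowerSeries (Fin n) Λ) E) := hE.comp hA₀A
    obtain ⟨D, J, hJ, ν, hDf, hb⟩ :=
      Groth.Agent.Lib.Helper22.PthDer.exists_bounded_derivation_core p n
        (algebraMap (MvPowerSeries (Fin n) Λ) E) hE₀ s hG f hf
    obtain ⟨t, ht⟩ := (Algebra.FiniteType.out : (⊤ : Subalgebra (MvPowerSeries (Fin n) Λ) A).FG)
    have hGA : Subring.closure (Set.range (algebraMap (MvPowerSeries (Fin n) Λ) A) ∪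
        Set.range (fun i : Fin t.card => ((t.equivFin.symm i : t) : A))) = ⊤ := by
      have hr : Set.range (fun i : Fin t.card => ((t.equivFin.symm i : t) : A)) = (t : Set A) := by
        ext x
        constructor
        · rintro ⟨i, rfl⟩
          exact (t.equivFin.symm i).2
        · intro hx
          exact ⟨t.equivFin ⟨x, hx⟩, by simp⟩
      rw [hr, ← Algebra.adjoin_eq_ring_closure, ht]
      rfl
    obtain ⟨J', hJ', ν', hb'⟩ := bounded_of_closure (algebraMap (MvPowerSeries (Fin n) Λ) A)
      (algebraMap A E) (fun i : Fin t.card => ((t.equivFin.symm i : t) : A)) hGA D J ν hb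
    exact ⟨D, J', hJ', ν', hDf, hb'⟩
  · haveI : CharZero L := CharP.charP_to_charZero _
    haveI : CharZero (FractionRing A) := (algebraMap (FractionRing A) L).charZero
    haveI : Algebra.IsSeparable (FractionRing A) L := inferInstance
    exact QG.of_separable (FractionRing A) L hbase

end Groth.Agent.Lib.Helper22.GRing
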