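import Mathlib
import Groth.Agent.Lib.Helper5.ComplFreeF

/-!
# Freeness of a finite module over a local domain from fibre and generic ranks; fibre of the module
of differentials of a formally smooth local algebra with given Cartier data (helper22)
-/

set_option autoImplicit false
set_option linter.style.haveILetI false
set_option linter.unusedSectionVars false
universe u

namespace Groth.Agent.Lib.Helper22.GRFree

open TensorProduct IsLocalRing KaehlerDifferential

section Free

variable {R : Type u} [CommRing R] [IsLocalRing R] (N : Type u) [AddCommGroup N] [Module R N]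
  [Module.Finite R N] (F : Type u) [Field F] [Algebra R F]

/-- a finite module over a local ring `R` mapping injectively to a field `F`, generated at the
closed point by at most `n` elements and of rank at least `n` over `F`, is free of rank `n`. -/
theorem free_of_finrank_le (hinj : Function.Injective (algebraMap R F)) (n : ℕ)
    (hU : Module.finrank (ResidueField R) (ResidueField R ⊗[R] N) ≤ n)
    (hL : n ≤ Module.finrank F (F ⊗[R] N)) :
    Module.Free R N ∧ Module.finrank R N = n := by
  classical
  haveI : Nontrivial R := inferInstance
  set m := Module.finrank (ResidueField R) (ResidueField R ⊗[R] N) with hm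
  let b : Module.Basis (Fin m) (ResidueField R) (ResidueField R ⊗[R] N) := Module.finBasis _ _
  have hsurj : Function.Surjective (TensorProduct.mk R (ResidueField R) N 1) :=
    TensorProduct.mk_surjective R N (ResidueField R) Ideal.Quotient.mk_surjective
  choose f hf using fun i => hsurj (b i)
  have hspan : Submodule.span R (Set.range f) = ⊤ :=
    IsLocalRing.span_eq_top_of_tmul_eq_basis f b hf
  -- the images span `F ⊗ N`
  have key : ∀ y ∈ Submodule.span R (Set.range f),
      (1 : F) ⊗ₜ[R] y ∈ Submodule.span F (Set.range fun i => (1 : F) ⊗ₜ[R] f i) := by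
    intro y hy
    induction hy using Submodule.span_induction with
    | mem z hz =>
      obtain ⟨i, rfl⟩ := hz
      exact Submodule.subset_span ⟨i, rfl⟩
    | zero => rw [TensorProduct.tmul_zero]; exact Submodule.zero_mem _
    | add z w _ _ hz hw => rw [TensorProduct.tmul_add]; exact Submodule.add_mem _ hz hw
    | smul r z _ hz =>
      rw [TensorProduct.tmul_smul]
      have : r • ((1 : F) ⊗ₜ[R] z) = (algebraMap R F r) • ((1 : F) ⊗ₜ[R] z) := by
        rw [algebraMap_smul]
      rw [this]
      exact Submodule.smul_mem _ _ hz
  have hspanF : Submodule.span F (Set.range fun i => (1 : F) ⊗ₜ[R] f i) = ⊤ := by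
    rw [eq_top_iff]
    rintro x -
    induction x using TensorProduct.induction_on with
    | zero => exact Submodule.zero_mem _
    | add x y hx hy => exact Submodule.add_mem _ hx hy
    | tmul c y =>
      have hy : y ∈ Submodule.span R (Set.range f) := by rw [hspan]; trivial
      have : c ⊗ₜ[R] y = c • ((1 : F) ⊗ₜ[R] y) := by
        rw [TensorProduct.smul_tmul', smul_eq_mul, mul_one]
      rw [this]
      exact Submodule.smul_mem _ _ (key y hy)
  have hle : Module.finrank F (F ⊗[R] N) ≤ m := by
    have h3 := finrank_range_le_card (R := F) (fun i => (1 : F) ⊗ₜ[R] f i)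
    rw [Set.finrank, hspanF, finrank_top, Fintype.card_fin] at h3
    exact h3
  have hmn : m = n := le_antisymm hU (hL.trans hle)
  have hcard : Fintype.card (Fin m) = Module.finrank F (F ⊗[R] N) := by
    rw [Fintype.card_fin]
    omega
  have hliF : LinearIndependent F (fun i => (1 : F) ⊗ₜ[R] f i) :=
    linearIndependent_of_top_le_span_of_card_eq_finrank hspanF.ge hcard
  have hli : LinearIndependent R f := by
    rw [Fintype.linearIndependent_iff]
    intro g hg i
    have h1 : ∑ i, algebraMap R F (g i) • ((1 : F) ⊗ₜ[R] f i) = 0 := by
      have h2 : (1 : F) ⊗ₜ[R] (∑ i, g i • f i) = 0 := by rw [hg, TensorProduct.tmul_zero]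
      rw [TensorProduct.tmul_sum] at h2
      rw [← h2]
      refine Finset.sum_congr rfl fun i _ => ?_
      rw [TensorProduct.tmul_smul, algebraMap_smul]
    have h3 := Fintype.linearIndependent_iff.mp hliF _ h1 i
    exact hinj (h3.trans (map_zero _).symm)
  let B : Module.Basis (Fin m) R N := Module.Basis.mk hli hspan.ge
  refine ⟨Module.Free.of_basis B, ?_⟩
  rw [Module.finrank_eq_card_basis B, Fintype.card_fin, hmn]

end Free

section Fibre

open Groth.Agent.Lib.Helper5.ComplFree Groth.Agent.Lib.Helper5.Cartier

variable {k₀ A : Type u} [Field k₀] [CommRing A] [IsLocalRing A] [Algebra k₀ A]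

/-- the dimension of the fibre of the module of differentials of a formally smooth local algebra
over a field, in terms of the Cartier data of the residue field -/
theorem finrank_tensor_kaehler' [IsNoetherianRing A]
    (hfs : CAlgX.IsAdicFormallySmooth k₀ A (maximalIdeal A)) {m : ℕ}
    (hcd : CData k₀ (ResidueField A) m) :
    Module.Finite (ResidueField A) ((ResidueField A) ⊗[A] Ω[A⁄k₀]) ∧
    Module.finrank (ResidueField A) ((ResidueField A) ⊗[A] Ω[A⁄k₀]) =
      Module.finrank (ResidueField A) (CotangentSpace A) + m := by
  have hfinΩ : Module.Finite (ResidueField A) Ω[ResidueField A⁄k₀] := hcd.finite_kaehler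
  have hfinΥ := hcd.finKer
  have hcartier := hcd.finrank_eq
  have hrange := range_cotToTensor k₀ A
  have hsurj : Function.Surjective (KaehlerDifferential.mapBaseChange k₀ A (ResidueField A)) :=
    KaehlerDifferential.mapBaseChange_surjective k₀ A (ResidueField A) residue_surjective
  have hfinV : Module.Finite (ResidueField A) ((ResidueField A) ⊗[A] Ω[A⁄k₀]) := by
    have hk : Module.Finite (ResidueField A)
        (LinearMap.ker (KaehlerDifferential.mapBaseChange k₀ A (ResidueField A))) := by
      rw [← hrange]
      exact Module.Finite.range _
    have hq : Module.Finite (ResidueField A) (((ResidueField A) ⊗[A] Ω[A⁄k₀]) ⧸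
        LinearMap.ker (KaehlerDifferential.mapBaseChange k₀ A (ResidueField A))) :=
      Module.Finite.equiv
        ((KaehlerDifferential.mapBaseChange k₀ A (ResidueField A)).quotKerEquivOfSurjective
          hsurj).symm
    exact Module.Finite.of_submodule_quotient
      (LinearMap.ker (KaehlerDifferential.mapBaseChange k₀ A (ResidueField A)))
  refine ⟨hfinV, ?_⟩
  have hV := LinearMap.finrank_range_add_finrank_ker
    (KaehlerDifferential.mapBaseChange k₀ A (ResidueField A))
  rw [LinearMap.range_eq_top.mpr hsurj, finrank_top, ← hrange] at hV
  have hC := LinearMap.finrank_range_add_finrank_ker (cotToTensor k₀ A)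
  have hker1 : LinearMap.ker (cotToTensor k₀ A) =
      Submodule.comap (cotToTensor ℤ A) (LinearMap.range (baseToTensor k₀ A)) := by
    rw [← absToRel_comp_cotToTensor k₀ A, LinearMap.ker_comp, ker_absToRel]
  have hker2 : LinearMap.ker (KaehlerDifferential.mapBaseChange ℤ k₀ (ResidueField A)) =
      Submodule.comap (baseToTensor k₀ A) (LinearMap.range (cotToTensor ℤ A)) := by
    rw [← mapBaseChange_comp_baseToTensor k₀ A, LinearMap.ker_comp, range_cotToTensor]
  have hΥ : Module.finrank (ResidueField A) (LinearMap.ker (cotToTensor k₀ A)) =
      Module.finrank (ResidueField A)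
        (LinearMap.ker (KaehlerDifferential.mapBaseChange ℤ k₀ (ResidueField A))) := by
    rw [hker1, hker2]
    exact finrank_comap_range _ _ (cotToTensor_int_injective k₀) (baseToTensor_injective hfs)
  rw [hΥ] at hC
  have e1 : (Module.finrank (ResidueField A) Ω[ResidueField A⁄k₀] : ℤ) -
      Module.finrank (ResidueField A)
        (LinearMap.ker (KaehlerDifferential.mapBaseChange ℤ k₀ (ResidueField A))) = m := hcartier
  have e2 : Module.finrank (ResidueField A) Ω[ResidueField A⁄k₀] +
      Module.finrank (ResidueField A) (LinearMap.range (cotToTensor k₀ A)) =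
      Module.finrank (ResidueField A) ((ResidueField A) ⊗[A] Ω[A⁄k₀]) := hV
  have e3 : Module.finrank (ResidueField A) (LinearMap.range (cotToTensor k₀ A)) +
      Module.finrank (ResidueField A)
        (LinearMap.ker (KaehlerDifferential.mapBaseChange ℤ k₀ (ResidueField A))) =
      Module.finrank (ResidueField A) (CotangentSpace A) := hC
  omega

end Fibre

end Groth.Agent.Lib.Helper22.GRFree
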