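import Mathlib
import Groth.Prelude.Def_CAlgX

set_option autoImplicit false
set_option linter.style.haveILetI false
set_option linter.unusedSectionVars false

namespace Groth.Agent.Lib.Helper22.NagJac

open IsLocalRing

universe u

/-- Jacobian criterion, sufficiency: a quotient of a localization which is adically formally smooth
is adically formally smooth if the ideal is generated by elements with invertible Jacobian. -/
theorem adicSmooth_of_jacobian {k A : Type u} [Field k] [CommRing A] [Algebra k A]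
    (q p : Ideal A) [p.IsPrime] (hqp : q ≤ p) [hP : (p.map (Ideal.Quotient.mk q)).IsPrime]
    (hAp : CAlgX.IsAdicFormallySmooth k (Localization.AtPrime p)
      (maximalIdeal (Localization.AtPrime p)))
    (m : ℕ) (D : Fin m → Derivation k A A) (f : Fin m → A) (hf : ∀ i, f i ∈ q)
    (hspan : q.map (algebraMap A (Localization.AtPrime p)) =
      Ideal.span (Set.range fun i => algebraMap A (Localization.AtPrime p) (f i)))
    (hdet : Matrix.det (Matrix.of fun i j => D i (f j)) ∉ p) :
    CAlgX.IsAdicFormallySmooth k (Localization.AtPrime (p.map (Ideal.Quotient.mk q)))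
      (maximalIdeal (Localization.AtPrime (p.map (Ideal.Quotient.mk q)))) := by
  classical
  intro C _ _ J hJ ψ hψ
  obtain ⟨n, hn⟩ := hψ
  set P' : Ideal (A ⧸ q) := p.map (Ideal.Quotient.mk q) with hP'
  have hJnil : IsNilpotent J := ⟨2, hJ⟩
  have hJ2 : ∀ x ∈ J, ∀ y ∈ J, x * y = 0 := by
    intro x hx y hy
    have : x * y ∈ J ^ 2 := by rw [pow_two]; exact Ideal.mul_mem_mul hx hy
    rw [hJ] at this
    exact this
  have hmemP' : ∀ a : A, Ideal.Quotient.mk q a ∈ P' ↔ a ∈ p := fun a =>
    Ideal.mem_quotient_iff_mem hqp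
  -- the maps from `A`
  let ιA : A →ₐ[k] Localization.AtPrime P' :=
    (IsScalarTower.toAlgHom k (A ⧸ q) (Localization.AtPrime P')).comp (Ideal.Quotient.mkₐ k q)
  have hιA : ∀ a, ιA a = algebraMap (A ⧸ q) (Localization.AtPrime P') (Ideal.Quotient.mk q a) :=
    fun a => rfl
  have hιunit : ∀ y : p.primeCompl, IsUnit (ιA y) := by
    intro y
    rw [hιA]
    exact IsLocalization.map_units (Localization.AtPrime P')
      (⟨Ideal.Quotient.mk q y, fun h => y.2 ((hmemP' y).mp h)⟩ : P'.primeCompl)
  let ιR : Localization.AtPrime p →ₐ[k] Localization.AtPrime P' :=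
    IsLocalization.liftAlgHom (M := p.primeCompl) (f := ιA) hιunit
  have hιR : ∀ a, ιR (algebraMap A (Localization.AtPrime p) a) = ιA a := fun a => by
    rw [IsLocalization.liftAlgHom_apply]
    exact IsLocalization.lift_eq _ a
  have hιRmax : maximalIdeal (Localization.AtPrime p) ≤
      (maximalIdeal (Localization.AtPrime P')).comap ιR.toRingHom := by
    rw [← Localization.AtPrime.map_eq_maximalIdeal, Ideal.map_le_iff_le_comap]
    intro a ha
    rw [Ideal.mem_comap, Ideal.mem_comap]
    change ιR (algebraMap A _ a) ∈ _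
    rw [hιR, hιA, IsLocalization.AtPrime.to_map_mem_maximal_iff (Localization.AtPrime P') P']
    exact (hmemP' a).mpr ha
  let ψR : Localization.AtPrime p →ₐ[k] C ⧸ J := ψ.comp ιR
  have hψR : ∃ n', ∀ x ∈ maximalIdeal (Localization.AtPrime p) ^ n', ψR x = 0 := by
    refine ⟨n, fun x hx => ?_⟩
    have h1 : maximalIdeal (Localization.AtPrime p) ^ n ≤
        ((maximalIdeal (Localization.AtPrime P')) ^ n).comap ιR.toRingHom :=
      (Ideal.pow_right_mono hιRmax n).trans (Ideal.le_comap_pow _ n)
    exact hn _ (h1 hx)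
  obtain ⟨χR, hχR⟩ := hAp C J hJ ψR hψR
  let χA : A →ₐ[k] C := χR.comp (IsScalarTower.toAlgHom k A (Localization.AtPrime p))
  have hχA : ∀ a, Ideal.Quotient.mk J (χA a) = ψ (ιA a) := by
    intro a
    have := congrArg (fun g : Localization.AtPrime p →ₐ[k] C ⧸ J =>
      g (algebraMap A (Localization.AtPrime p) a)) hχR
    simp only [AlgHom.comp_apply, Ideal.Quotient.mkₐ_eq_mk] at this
    rw [← hιR]
    exact this
  have hιAq : ∀ a ∈ q, ιA a = 0 := by
    intro a ha
    rw [hιA, Ideal.Quotient.eq_zero_iff_mem.mpr ha, map_zero]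
  let b : Fin m → C := fun j => χA (f j)
  have hb : ∀ j, b j ∈ J := by
    intro j
    rw [← Ideal.Quotient.eq_zero_iff_mem, hχA, hιAq _ (hf j), map_zero]
  let M : Matrix (Fin m) (Fin m) C := Matrix.of fun i j => χA (D i (f j))
  have hMdet : IsUnit M.det := by
    have h1 : M = χA.toRingHom.mapMatrix (Matrix.of fun i j => D i (f j)) := by
      ext i j; rfl
    rw [h1, ← RingHom.map_det]
    have h2 : IsUnit (algebraMap A (Localization.AtPrime p)
        (Matrix.det (Matrix.of fun i j => D i (f j)))) :=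
      IsLocalization.map_units (Localization.AtPrime p)
        (⟨_, hdet⟩ : p.primeCompl)
    exact h2.map χR
  let c : Fin m → C := fun i => - ∑ j, b j * M⁻¹ j i
  have hc : ∀ i, c i ∈ J := by
    intro i
    refine J.neg_mem (J.sum_mem fun j _ => J.mul_mem_right _ (hb j))
  have hcM : ∀ j, ∑ i, c i * M i j = - b j := by
    intro j
    have h1 : Matrix.vecMul c M = - b := by
      have hc' : c = - Matrix.vecMul b M⁻¹ := by
        funext i
        simp only [c, Matrix.vecMul, dotProduct, Pi.neg_apply]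
      rw [hc', Matrix.neg_vecMul, Matrix.vecMul_vecMul, Matrix.nonsing_inv_mul _ hMdet,
        Matrix.vecMul_one]
    have := congrFun h1 j
    simpa [Matrix.vecMul, dotProduct] using this
  -- the corrected map
  let δ : A →ₗ[k] C := ∑ i, (c i) • (χA.toLinearMap ∘ₗ (D i).toLinearMap)
  have hδ : ∀ a, δ a = ∑ i, c i * χA (D i a) := by
    intro a
    simp only [δ, LinearMap.sum_apply, LinearMap.smul_apply, LinearMap.comp_apply, smul_eq_mul]
    rfl
  have hδJ : ∀ a, δ a ∈ J := by
    intro a
    rw [hδ]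
    exact J.sum_mem fun i _ => J.mul_mem_right _ (hc i)
  let χ' : A →ₐ[k] C := AlgHom.ofLinearMap (χA.toLinearMap + δ)
    (by
      change χA 1 + δ 1 = 1
      rw [hδ, map_one]
      simp)
    (by
      intro x y
      change χA (x * y) + δ (x * y) = (χA x + δ x) * (χA y + δ y)
      have h1 : δ (x * y) = χA x * δ y + χA y * δ x := by
        rw [hδ, hδ, hδ, Finset.mul_sum, Finset.mul_sum, ← Finset.sum_add_distrib]
        refine Finset.sum_congr rfl fun i _ => ?_
        rw [Derivation.leibniz, map_add, smul_eq_mul, smul_eq_mul, map_mul, map_mul]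
        ring
      rw [h1, map_mul]
      have h2 : δ x * δ y = 0 := hJ2 _ (hδJ x) _ (hδJ y)
      linear_combination -h2)
  have hχ' : ∀ a, χ' a = χA a + δ a := fun a => rfl
  have hχ'f : ∀ j, χ' (f j) = 0 := by
    intro j
    rw [hχ', hδ]
    have := hcM j
    change χA (f j) + ∑ i, c i * χA (D i (f j)) = 0
    change ∑ i, c i * χA (D i (f j)) = - χA (f j) at this
    rw [this, add_neg_cancel]
  have hχ'mk : ∀ a, Ideal.Quotient.mk J (χ' a) = ψ (ιA a) := by
    intro a
    rw [hχ', map_add, Ideal.Quotient.eq_zero_iff_mem.mpr (hδJ a), add_zero, hχA]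
  have hχ'unit : ∀ y : p.primeCompl, IsUnit (χ' y) := by
    intro y
    rw [← hJnil.isUnit_quotient_mk_iff, hχ'mk]
    exact (hιunit y).map ψ
  let χ'R : Localization.AtPrime p →ₐ[k] C :=
    IsLocalization.liftAlgHom (M := p.primeCompl) (f := χ') hχ'unit
  have hχ'R : ∀ a, χ'R (algebraMap A (Localization.AtPrime p) a) = χ' a := fun a => by
    rw [IsLocalization.liftAlgHom_apply]
    exact IsLocalization.lift_eq _ a
  have hχ'q : ∀ a ∈ q, χ' a = 0 := by
    intro a ha
    have h1 : algebraMap A (Localization.AtPrime p) a ∈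
        q.map (algebraMap A (Localization.AtPrime p)) := Ideal.mem_map_of_mem _ ha
    rw [hspan] at h1
    have h2 : Ideal.span (Set.range fun i => algebraMap A (Localization.AtPrime p) (f i)) ≤
        RingHom.ker χ'R.toRingHom := by
      rw [Ideal.span_le]
      rintro _ ⟨i, rfl⟩
      rw [SetLike.mem_coe, RingHom.mem_ker]
      change χ'R (algebraMap A _ (f i)) = 0
      rw [hχ'R, hχ'f]
    have h3 := h2 h1
    rw [RingHom.mem_ker] at h3
    rw [← hχ'R]
    exact h3
  let χB : A ⧸ q →ₐ[k] C := Ideal.Quotient.liftₐ q χ' hχ'q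
  have hχB : ∀ a, χB (Ideal.Quotient.mk q a) = χ' a := fun a => rfl
  have hχBunit : ∀ y : P'.primeCompl, IsUnit (χB y) := by
    rintro ⟨y, hy⟩
    obtain ⟨a, rfl⟩ := Ideal.Quotient.mk_surjective y
    rw [hχB]
    exact hχ'unit ⟨a, fun h => hy ((hmemP' a).mpr h)⟩
  let χ : Localization.AtPrime P' →ₐ[k] C :=
    IsLocalization.liftAlgHom (M := P'.primeCompl) (f := χB) hχBunit
  refine ⟨χ, ?_⟩
  apply IsLocalization.algHom_ext P'.primeCompl
  apply Ideal.Quotient.algHom_ext
  ext a
  simp only [AlgHom.comp_apply, Ideal.Quotient.mkₐ_eq_mk]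
  have h1 : χ ((Algebra.algHom k (A ⧸ q) (Localization.AtPrime P')) (Ideal.Quotient.mk q a)) =
      χ' a := by
    change χ (algebraMap (A ⧸ q) _ (Ideal.Quotient.mk q a)) = _
    rw [IsLocalization.liftAlgHom_apply, IsLocalization.lift_eq]
    rfl
  rw [h1, hχ'mk]
  rfl

end Groth.Agent.Lib.Helper22.NagJac
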