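import Mathlib
import Groth.Agent.Lib.Helper22.UnramPSD

set_option autoImplicit false
set_option linter.style.haveILetI false
set_option linter.unusedSectionVars false

namespace Groth.Agent.Lib.Helper22.NagJac

open IsLocalRing TensorProduct KaehlerDifferential
open Groth.Agent.Lib.Helper22.UnramPS

universe u

section QuotDer

variable {k A : Type*} [CommRing k] [CommRing A] [Algebra k A] (p : Ideal A)
  {M : Type*} [AddCommGroup M] [Module k M] [Module A M] [Module (A ⧸ p) M]
  [IsScalarTower k A M] [IsScalarTower A (A ⧸ p) M] [IsScalarTower k (A ⧸ p) M]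

/-- A derivation killing `p` descends to the quotient. -/
noncomputable def quotDer (D : Derivation k A M) (hD : ∀ a ∈ p, D a = 0) :
    Derivation k (A ⧸ p) M :=
  Derivation.mk' ((p.restrictScalars k).liftQ D.toLinearMap (fun a ha => hD a ha)) (by
    intro x y
    obtain ⟨a, rfl⟩ := Ideal.Quotient.mk_surjective x
    obtain ⟨b, rfl⟩ := Ideal.Quotient.mk_surjective y
    change D (a * b) = Ideal.Quotient.mk p a • D b + Ideal.Quotient.mk p b • D a
    rw [Derivation.leibniz]
    congr 1
    · exact (algebraMap_smul (A ⧸ p) a (D b)).symm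
    · exact (algebraMap_smul (A ⧸ p) b (D a)).symm)

theorem quotDer_mk (D : Derivation k A M) (hD : ∀ a ∈ p, D a = 0) (a : A) :
    quotDer p D hD (Ideal.Quotient.mk p a) = D a := rfl

end QuotDer

section Main

variable {k : Type u} [Field k] {A : Type u} [CommRing A] [Algebra k A] (p : Ideal A) [p.IsPrime]

/-- The derivation `Σ v_l ∂_l` with values in the fraction field of `A ⧸ p`. -/
noncomputable def derL {r : ℕ} (dd : Fin r → Derivation k A A)
    (v : Fin r → FractionRing (A ⧸ p)) : Derivation k A (FractionRing (A ⧸ p)) :=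
  ∑ l, v l • ((Algebra.linearMap A (FractionRing (A ⧸ p))).compDer (dd l))

theorem derL_apply {r : ℕ} (dd : Fin r → Derivation k A A)
    (v : Fin r → FractionRing (A ⧸ p)) (a : A) :
    derL p dd v a = ∑ l, v l * algebraMap A (FractionRing (A ⧸ p)) (dd l a) := by
  unfold derL
  rw [Groth.Agent.Lib.Helper22.BoundedDer.derivation_sum_apply]
  rfl

theorem algebraMap_eq_zero_of_mem {g : A} (hg : g ∈ p) :
    algebraMap A (FractionRing (A ⧸ p)) g = 0 := by
  rw [IsScalarTower.algebraMap_apply A (A ⧸ p) (FractionRing (A ⧸ p))]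
  have : algebraMap A (A ⧸ p) g = 0 := Ideal.Quotient.eq_zero_iff_mem.mpr hg
  rw [this, map_zero]

theorem algebraMap_ne_zero_of_notMem {g : A} (hg : g ∉ p) :
    algebraMap A (FractionRing (A ⧸ p)) g ≠ 0 := by
  rw [IsScalarTower.algebraMap_apply A (A ⧸ p) (FractionRing (A ⧸ p)), Ne,
    FaithfulSMul.algebraMap_eq_zero_iff]
  intro h
  exact hg (Ideal.Quotient.eq_zero_iff_mem.mp h)

theorem der_eq_zero_of_mem {ι : Type*} (a : ι → A) (ha : ∀ i, a i ∈ p)
    (hgen : Ideal.span (Set.range fun i => algebraMap A (Localization.AtPrime p) (a i)) =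
      maximalIdeal (Localization.AtPrime p))
    (D : Derivation k A (FractionRing (A ⧸ p))) (hDa : ∀ i, D (a i) = 0) :
    ∀ g ∈ p, D g = 0 := by
  let K : Ideal A :=
    { carrier := {g | g ∈ p ∧ D g = 0}
      add_mem' := fun {x y} hx hy => ⟨p.add_mem hx.1 hy.1, by rw [map_add, hx.2, hy.2, add_zero]⟩
      zero_mem' := ⟨p.zero_mem, map_zero _⟩
      smul_mem' := fun c x hx => by
        refine ⟨p.mul_mem_left _ hx.1, ?_⟩
        rw [smul_eq_mul, Derivation.leibniz, hx.2, smul_zero, zero_add, Algebra.smul_def,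
          algebraMap_eq_zero_of_mem p hx.1, zero_mul] }
  have hK : maximalIdeal (Localization.AtPrime p) ≤
      K.map (algebraMap A (Localization.AtPrime p)) := by
    rw [← hgen, Ideal.span_le]
    rintro _ ⟨i, rfl⟩
    exact Ideal.mem_map_of_mem _ (show a i ∈ K from ⟨ha i, hDa i⟩)
  intro g hg
  have h1 : algebraMap A (Localization.AtPrime p) g ∈ maximalIdeal (Localization.AtPrime p) :=
    (IsLocalization.AtPrime.to_map_mem_maximal_iff (Localization.AtPrime p) p g).mpr hg
  have h2 := hK h1
  rw [IsLocalization.mem_map_algebraMap_iff p.primeCompl] at h2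
  obtain ⟨⟨x, s'⟩, hx⟩ := h2
  rw [← map_mul, IsLocalization.eq_iff_exists p.primeCompl] at hx
  obtain ⟨t, ht⟩ := hx
  -- (t s') g = t x ∈ K
  have h3 : ((t : A) * (s' : A)) * g ∈ K := by
    have : ((t : A) * (s' : A)) * g = (t : A) * (x : A) := by
      have h4 : (t : A) * (g * (s' : A)) = (t : A) * (x : A) := ht
      rw [← h4]; ring
    rw [this]
    exact K.mul_mem_left _ x.2
  have h5 : D (((t : A) * (s' : A)) * g) = 0 := h3.2
  rw [Derivation.leibniz, Algebra.smul_def, Algebra.smul_def, algebraMap_eq_zero_of_mem p hg,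
    zero_mul, add_zero, mul_eq_zero] at h5
  refine h5.resolve_left (algebraMap_ne_zero_of_notMem p ?_)
  exact (p.primeCompl.mul_mem t.2 s'.2)

end Main

end Groth.Agent.Lib.Helper22.NagJac
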