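import Mathlib
import Groth.Agent.Lib.Helper22.NagJacB

set_option autoImplicit false
set_option linter.style.haveILetI false
set_option linter.unusedSectionVars false

namespace Groth.Agent.Lib.Helper22.NagJac

open IsLocalRing TensorProduct KaehlerDifferential
open Groth.Agent.Lib.Helper22.UnramPS

universe u

/-- The number of linearly independent bounded derivations of a complete domain into its
fraction field is at most the rank of the completed module of differentials. -/
theorem card_le_of_derivations {k B : Type u} [Field k] [CommRing B] [IsDomain B] [Algebra k B]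
    [IsNoetherianRing B] (I : Ideal B) [IsAdicComplete I B]
    [Module.Finite B (AdicCompletion I Ω[B⁄k])]
    (d : ℕ) (Δ : Fin d → Derivation k B (FractionRing B))
    (hΔ : LinearIndependent (FractionRing B) Δ)
    (hΦ : ∀ i, ∃ Φ : Submodule B (FractionRing B), Φ.FG ∧ ∀ b, Δ i b ∈ Φ) :
    d ≤ Module.finrank (FractionRing B) (FractionRing B ⊗[B] AdicCompletion I Ω[B⁄k]) := by
  classical
  obtain ⟨Λ, hΛ⟩ := exists_functionals (k := k) I B Function.surjective_id d Δ hΔ hΦ
  set E := FractionRing B
  set W := AdicCompletion I Ω[B⁄k]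
  let Λ' : Fin d → Module.Dual E (E ⊗[B] W) := fun i => LinearMap.liftBaseChange E (Λ i)
  have hli : LinearIndependent E Λ' := by
    rw [Fintype.linearIndependent_iff]
    intro c hc
    apply hΛ c
    intro x
    have := LinearMap.congr_fun hc ((1 : E) ⊗ₜ[B] x)
    simpa [Λ', LinearMap.liftBaseChange_tmul] using this
  have h1 := hli.fintype_card_le_finrank
  rw [Fintype.card_fin, Subspace.dual_finrank_eq] at h1
  exact h1

section Main

variable {k : Type u} [Field k] {A : Type u} [CommRing A] [Algebra k A] (p : Ideal A) [p.IsPrime]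

/-- The Jacobian matrix of a system of generators of `p A_p` has full row rank over the residue
field, provided `ht p + rk Ω̂ = r`. -/
theorem surjective_jacobian [IsNoetherianRing (A ⧸ p)]
    (I : Ideal (A ⧸ p)) [IsAdicComplete I (A ⧸ p)]
    [Module.Finite (A ⧸ p) (AdicCompletion I Ω[(A ⧸ p)⁄k])]
    {r s : ℕ} (hs : Module.finrank (FractionRing (A ⧸ p))
      (FractionRing (A ⧸ p) ⊗[A ⧸ p] AdicCompletion I Ω[(A ⧸ p)⁄k]) = s)
    (dd : Fin r → Derivation k A A) (t : Fin r → A)
    (hdt : ∀ l l', dd l (t l') = if l = l' then 1 else 0)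
    {ι : Type*} [Fintype ι] (a : ι → A) (ha : ∀ i, a i ∈ p)
    (hgen : Ideal.span (Set.range fun i => algebraMap A (Localization.AtPrime p) (a i)) =
      maximalIdeal (Localization.AtPrime p))
    (hcard : Fintype.card ι + s = r) :
    Function.Surjective (fun (v : Fin r → FractionRing (A ⧸ p)) (i : ι) =>
      ∑ l, v l * algebraMap A (FractionRing (A ⧸ p)) (dd l (a i))) := by
  classical
  set L := FractionRing (A ⧸ p) with hL
  let G : Matrix ι (Fin r) L := Matrix.of fun i l => algebraMap A L (dd l (a i))
  let T : (Fin r → L) →ₗ[L] (ι → L) := Matrix.mulVecLin G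
  have hT : ∀ v i, T v i = ∑ l, v l * algebraMap A L (dd l (a i)) := by
    intro v i
    simp only [T, Matrix.mulVecLin_apply, Matrix.mulVec, dotProduct, G, Matrix.of_apply]
    exact Finset.sum_congr rfl fun l _ => mul_comm _ _
  suffices hsurj : Function.Surjective T by
    intro w
    obtain ⟨v, hv⟩ := hsurj w
    exact ⟨v, by funext i; exact (hT v i).symm.trans (congrFun hv i)⟩
  rw [← LinearMap.range_eq_top]
  -- kernel dimension
  set d := Module.finrank L (LinearMap.ker T) with hd
  let b : Module.Basis (Fin d) L (LinearMap.ker T) := Module.finBasis L _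
  let v : Fin d → (Fin r → L) := fun j => (b j : Fin r → L)
  have hv : ∀ j i, ∑ l, v j l * algebraMap A L (dd l (a i)) = 0 := by
    intro j i
    rw [← hT]
    have : T (v j) = 0 := (b j).2
    rw [this]; rfl
  let Δ : Fin d → Derivation k (A ⧸ p) L := fun j =>
    quotDer p (derL p dd (v j)) (der_eq_zero_of_mem p a ha hgen _
      (fun i => by rw [derL_apply]; exact hv j i))
  have hΔmk : ∀ j x, Δ j (Ideal.Quotient.mk p x) = ∑ l, v j l * algebraMap A L (dd l x) := by
    intro j x
    change quotDer p (derL p dd (v j)) _ (Ideal.Quotient.mk p x) = _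
    rw [quotDer_mk, derL_apply]
  have hΔ : LinearIndependent L Δ := by
    rw [Fintype.linearIndependent_iff]
    intro c hc
    have h1 : ∑ j, c j • v j = 0 := by
      funext l'
      have h2 := congrArg (fun D : Derivation k (A ⧸ p) L => D (Ideal.Quotient.mk p (t l'))) hc
      rw [Groth.Agent.Lib.Helper22.BoundedDer.derivation_sum_apply] at h2
      simp only [hΔmk, hdt] at h2
      rw [Finset.sum_apply]
      simp only [Pi.smul_apply, smul_eq_mul, Pi.zero_apply]
      rw [Derivation.coe_zero, Pi.zero_apply] at h2
      rw [← h2]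
      refine Finset.sum_congr rfl fun j _ => ?_
      congr 1
      rw [Finset.sum_eq_single l']
      · rw [if_pos rfl, map_one, mul_one]
      · intro l _ hl
        rw [if_neg hl, map_zero, mul_zero]
      · intro h
        exact absurd (Finset.mem_univ _) h
    have h3 : ∑ j, c j • b j = 0 := by
      apply Subtype.ext
      simpa using h1
    exact Fintype.linearIndependent_iff.mp b.linearIndependent c h3
  have hΦ : ∀ j, ∃ Φ : Submodule (A ⧸ p) L, Φ.FG ∧ ∀ x, Δ j x ∈ Φ := by
    intro j
    refine ⟨Submodule.span (A ⧸ p) (Set.range (v j)), Submodule.fg_span (Set.finite_range _), ?_⟩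
    intro x
    obtain ⟨x, rfl⟩ := Ideal.Quotient.mk_surjective x
    rw [hΔmk]
    refine Submodule.sum_mem _ fun l _ => ?_
    have : v j l * algebraMap A L (dd l x) = (Ideal.Quotient.mk p (dd l x)) • v j l := by
      rw [Algebra.smul_def, mul_comm, IsScalarTower.algebraMap_apply A (A ⧸ p) L]
      rfl
    rw [this]
    exact Submodule.smul_mem _ _ (Submodule.subset_span ⟨l, rfl⟩)
  have hdle : d ≤ s := hs ▸ card_le_of_derivations I d Δ hΔ hΦ
  have hrn := LinearMap.finrank_range_add_finrank_ker T
  rw [Module.finrank_fin_fun] at hrn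
  apply Submodule.eq_top_of_finrank_eq
  rw [Module.finrank_fintype_fun_eq_card]
  have h4 : Module.finrank L (LinearMap.range T) ≤ Fintype.card ι := by
    have := Submodule.finrank_le (LinearMap.range T)
    rwa [Module.finrank_fintype_fun_eq_card] at this
  omega

end Main

end Groth.Agent.Lib.Helper22.NagJac
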