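import Mathlib
import Groth.Agent.Lib.Helper22.NagJacC
import Groth.Agent.Lib.Helper5.RegAdjoinRoot2
import Groth.Agent.Lib.helper19.RegularLocalQuot

set_option autoImplicit false
set_option linter.style.haveILetI false
set_option linter.unusedSectionVars false

namespace Groth.Agent.Lib.Helper22.NagJac

open IsLocalRing TensorProduct KaehlerDifferential

universe u

theorem span_range_eq_of_units {R : Type*} [CommRing R] {ι : Type*} (x y u : ι → R)
    (hu : ∀ i, IsUnit (u i)) (h : ∀ i, x i * u i = y i) :
    Ideal.span (Set.range y) = Ideal.span (Set.range x) := by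
  apply le_antisymm
  · rw [Ideal.span_le]
    rintro _ ⟨i, rfl⟩
    rw [← h i]
    exact Ideal.mul_mem_right _ _ (Ideal.subset_span ⟨i, rfl⟩)
  · rw [Ideal.span_le]
    rintro _ ⟨i, rfl⟩
    obtain ⟨w, hw⟩ := hu i
    have : x i = y i * (w⁻¹ : Rˣ) := by
      rw [← h i, ← hw, mul_assoc, Units.mul_inv, mul_one]
    rw [this]
    exact Ideal.mul_mem_right _ _ (Ideal.subset_span ⟨i, rfl⟩)

theorem derivation_sum_apply' {k A M ι : Type*} [CommRing k] [CommRing A] [Algebra k A]
    [AddCommGroup M] [Module A M] [Module k M] (s : Finset ι) (D : ι → Derivation k A M) (x : A) :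
    (∑ i ∈ s, D i) x = ∑ i ∈ s, D i x := by
  classical
  induction s using Finset.induction_on with
  | empty => simp
  | insert i s hi ih =>
    rw [Finset.sum_insert hi, Finset.sum_insert hi, Derivation.add_apply, ih]

/-- Necessity of the Jacobian criterion, abstract version. -/
theorem exists_jacobian {k A : Type u} [Field k] [CommRing A] [Algebra k A]
    (q p : Ideal A) [p.IsPrime] (hqp : q ≤ p) [(p.map (Ideal.Quotient.mk q)).IsPrime]
    [IsRegularLocalRing (Localization.AtPrime p)]
    (hreg : IsRegularLocalRing (Localization.AtPrime (p.map (Ideal.Quotient.mk q))))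
    [IsNoetherianRing (A ⧸ p)] (I : Ideal (A ⧸ p)) [IsAdicComplete I (A ⧸ p)]
    [Module.Finite (A ⧸ p) (AdicCompletion I Ω[(A ⧸ p)⁄k])]
    {r s d : ℕ} (hs : Module.finrank (FractionRing (A ⧸ p))
      (FractionRing (A ⧸ p) ⊗[A ⧸ p] AdicCompletion I Ω[(A ⧸ p)⁄k]) = s)
    (hd : ringKrullDim (Localization.AtPrime p) = d) (hds : d + s = r)
    (dd : Fin r → Derivation k A A) (t : Fin r → A)
    (hdt : ∀ l l', dd l (t l') = if l = l' then 1 else 0) :
    ∃ (m : ℕ) (D : Fin m → Derivation k A A) (f : Fin m → A), (∀ i, f i ∈ q) ∧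
      q.map (algebraMap A (Localization.AtPrime p)) =
        Ideal.span (Set.range fun i => algebraMap A (Localization.AtPrime p) (f i)) ∧
      Matrix.det (Matrix.of fun i j => D i (f j)) ∉ p := by
  classical
  set R := Localization.AtPrime p with hR
  set Iq : Ideal R := q.map (algebraMap A R) with hIq
  haveI : IsRegularLocalRing (R ⧸ Iq) :=
    IsRegularLocalRing.of_ringEquiv (Groth.Agent.Lib.Helper5.RegAdjoinRoot.quotLocEquiv q p hqp)
  obtain ⟨l₁, l₂, hlen, hmax, hI⟩ :=
    Groth.Agent.Lib.helper19.exists_lists_of_quotient_regular_aux d R Iq hd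
  have hx₁ : ∀ i : Fin l₁.length, l₁.get i ∈ Iq := fun i => by
    rw [hI]; exact Ideal.subset_span (List.get_mem _ _)
  have hx₂ : ∀ i : Fin l₂.length, l₂.get i ∈ maximalIdeal R := fun i => by
    rw [← hmax]; exact Ideal.subset_span (List.mem_append_right _ (List.get_mem _ _))
  have h1 : ∀ i : Fin l₁.length, ∃ (a : A) (s : A), a ∈ q ∧ s ∉ p ∧
      l₁.get i * algebraMap A R s = algebraMap A R a := by
    intro i
    obtain ⟨⟨a, s⟩, h⟩ := (IsLocalization.mem_map_algebraMap_iff p.primeCompl R).mp (hx₁ i)
    exact ⟨a, s, a.2, s.2, h⟩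
  choose f sf hfq hsf hfs using h1
  have h2 : ∀ i : Fin l₂.length, ∃ (a : A) (s : A), a ∈ p ∧ s ∉ p ∧
      l₂.get i * algebraMap A R s = algebraMap A R a := by
    intro i
    have := hx₂ i
    rw [← Localization.AtPrime.map_eq_maximalIdeal] at this
    obtain ⟨⟨a, s⟩, h⟩ := (IsLocalization.mem_map_algebraMap_iff p.primeCompl R).mp this
    exact ⟨a, s, a.2, s.2, h⟩
  choose g sg hgp hsg hgs using h2
  have hunit : ∀ s : A, s ∉ p → IsUnit (algebraMap A R s) := fun s hs =>
    IsLocalization.map_units R (⟨s, hs⟩ : p.primeCompl)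
  have hspan₁ : Ideal.span (Set.range fun i => algebraMap A R (f i)) = Iq := by
    rw [span_range_eq_of_units l₁.get (fun i => algebraMap A R (f i))
      (fun i => algebraMap A R (sf i)) (fun i => hunit _ (hsf i)) hfs, hI, Set.range_list_get]
  have hspan₂ : Ideal.span (Set.range fun i => algebraMap A R (g i)) = Ideal.ofList l₂ := by
    rw [span_range_eq_of_units l₂.get (fun i => algebraMap A R (g i))
      (fun i => algebraMap A R (sg i)) (fun i => hunit _ (hsg i)) hgs, Set.range_list_get]
  let a : Fin l₁.length ⊕ Fin l₂.length → A := Sum.elim f g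
  have ha : ∀ i, a i ∈ p := by
    rintro (i | i)
    · exact hqp (hfq i)
    · exact hgp i
  have hgen : Ideal.span (Set.range fun i => algebraMap A R (a i)) = maximalIdeal R := by
    have : (fun i => algebraMap A R (a i)) =
        Sum.elim (fun i => algebraMap A R (f i)) (fun i => algebraMap A R (g i)) := by
      funext i
      rcases i with i | i <;> rfl
    rw [this, Set.Sum.elim_range, Ideal.span_union, hspan₁, hspan₂, ← hmax, Ideal.ofList_append,
      ← hI]
  have hcard : Fintype.card (Fin l₁.length ⊕ Fin l₂.length) + s = r := by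
    rw [Fintype.card_sum, Fintype.card_fin, Fintype.card_fin, hlen, hds]
  have hsurj := surjective_jacobian p I hs dd t hdt a ha hgen hcard
  set L := FractionRing (A ⧸ p) with hL
  -- choose preimages of the standard basis vectors
  have h3 : ∀ j : Fin l₁.length, ∃ v : Fin r → L, ∀ i : Fin l₁.length,
      ∑ l, v l * algebraMap A L (dd l (f i)) = if i = j then 1 else 0 := by
    intro j
    obtain ⟨v, hv⟩ := hsurj (Pi.single (Sum.inl j) 1)
    refine ⟨v, fun i => ?_⟩
    have := congrFun hv (Sum.inl i)
    have h' : ∑ l, v l * algebraMap A L (dd l (f i)) =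
        (Pi.single (Sum.inl j) (1 : L) : Fin l₁.length ⊕ Fin l₂.length → L) (Sum.inl i) := this
    rw [h', Pi.single_apply]
    simp only [Sum.inl.injEq]
  choose v hv using h3
  -- clear denominators
  obtain ⟨σ, hσ⟩ := IsLocalization.exist_integer_multiples (nonZeroDivisors (A ⧸ p))
    (Finset.univ : Finset (Fin l₁.length × Fin r)) (fun jl => v jl.1 jl.2)
  have h4 : ∀ j l, ∃ c : A, algebraMap A L c = algebraMap (A ⧸ p) L σ * v j l := by
    intro j l
    obtain ⟨c, hc⟩ := hσ (j, l) (Finset.mem_univ _)
    obtain ⟨c, rfl⟩ := Ideal.Quotient.mk_surjective c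
    refine ⟨c, ?_⟩
    rw [IsScalarTower.algebraMap_apply A (A ⧸ p) L]
    change algebraMap (A ⧸ p) L (Ideal.Quotient.mk p c) = _
    rw [hc, Algebra.smul_def]
  choose c hc using h4
  have hσ0 : algebraMap (A ⧸ p) L σ ≠ 0 := by
    intro h
    rw [FaithfulSMul.algebraMap_eq_zero_iff] at h
    exact nonZeroDivisors.coe_ne_zero σ h
  let D : Fin l₁.length → Derivation k A A := fun j => ∑ l, c j l • dd l
  have hD : ∀ j x, D j x = ∑ l, c j l * dd l x := by
    intro j x
    change (∑ l, c j l • dd l) x = _
    rw [derivation_sum_apply']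
    rfl
  refine ⟨l₁.length, D, f, hfq, ?_, ?_⟩
  · rw [hspan₁]
  · intro hdet
    have h5 := algebraMap_eq_zero_of_mem p hdet
    rw [RingHom.map_det] at h5
    have h6 : (algebraMap A L).mapMatrix (Matrix.of fun i j => D i (f j)) =
        Matrix.diagonal (fun _ => algebraMap (A ⧸ p) L σ) := by
      ext i j
      rw [RingHom.mapMatrix_apply, Matrix.map_apply, Matrix.of_apply, hD, map_sum,
        Matrix.diagonal_apply]
      simp only [map_mul, hc, mul_assoc]
      rw [← Finset.mul_sum, hv i j]
      split_ifs with h1 h2 h2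
      · rw [mul_one]
      · exact absurd h1.symm h2
      · exact absurd h2.symm h1
      · rw [mul_zero]
    rw [h6, Matrix.det_diagonal, Finset.prod_const] at h5
    exact pow_ne_zero _ hσ0 h5

end Groth.Agent.Lib.Helper22.NagJac
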