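import Mathlib
import Groth.Agent.Lib.Helper22.NagJacA
import Groth.Agent.Lib.Helper22.NagJacD
import Groth.Agent.Lib.Helper22.UnramPSG
import Groth.Agent.Lib.Helper22.BoundedDerE
import Groth.Agent.Lib.Helper5.SerreLoc
import Groth.Agent.Lib.Helper1.RegPS
import Groth.Agent.Lib.Helper12.CMCatC
import Groth.Agent.Lib.Helper7.NoetherNormInt
import Groth.Agent.Lib.Helper5.AdicRegE
import Groth.Agent.S4557
import Groth.Agent.S4574
import Groth.Agent.S10834

set_option autoImplicit false
set_option linter.style.haveILetI false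
set_option linter.unusedSectionVars false

namespace Groth.Agent.Lib.Helper22.NagJac

open IsLocalRing TensorProduct KaehlerDifferential

universe u

theorem finite_residueField_ps (k : Type u) [Field k] (σ : Type*) :
    Module.Finite k (ResidueField (MvPowerSeries σ k)) := by
  apply Module.Finite.of_surjective (Algebra.linearMap k (ResidueField (MvPowerSeries σ k)))
  intro y
  obtain ⟨f, rfl⟩ := residue_surjective y
  refine ⟨MvPowerSeries.constantCoeff f, ?_⟩
  rw [Algebra.linearMap_apply,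
    IsScalarTower.algebraMap_apply k (MvPowerSeries σ k) (ResidueField (MvPowerSeries σ k)),
    ResidueField.algebraMap_eq, ← sub_eq_zero, ← map_sub, residue_eq_zero_iff,
    mem_maximalIdeal, mem_nonunits_iff, MvPowerSeries.isUnit_iff_constantCoeff, map_sub,
    MvPowerSeries.algebraMap_apply, MvPowerSeries.constantCoeff_C]
  simp

theorem exists_sep_poly {𝔅 B L' L : Type u} [CommRing 𝔅] [IsDomain 𝔅] [IsIntegrallyClosed 𝔅]
    [CommRing B] [IsDomain B] [Algebra 𝔅 B] [Module.Finite 𝔅 B] [Field L'] [Field L]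
    [Algebra 𝔅 L'] [IsFractionRing 𝔅 L'] [Algebra B L] [Algebra L' L] [Algebra 𝔅 L]
    [IsScalarTower 𝔅 B L] [IsScalarTower 𝔅 L' L] [Algebra.IsSeparable L' L] (a : B) :
    ∃ P : Polynomial 𝔅, Polynomial.aeval a P = 0 ∧
      (P.map (algebraMap 𝔅 (FractionRing 𝔅))).Separable := by
  refine ⟨minpoly 𝔅 a, minpoly.aeval 𝔅 a, ?_⟩
  have h : (minpoly L' (algebraMap B L a)).Separable :=
    Algebra.IsSeparable.isSeparable L' (algebraMap B L a)
  rw [minpoly.isIntegrallyClosed_eq_field_fractions L' L (Algebra.IsIntegral.isIntegral (R := 𝔅) a)] at h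
  let e : FractionRing 𝔅 ≃ₐ[𝔅] L' := FractionRing.algEquiv 𝔅 L'
  have h2 : ((minpoly 𝔅 a).map (algebraMap 𝔅 (FractionRing 𝔅))).map
      (e : FractionRing 𝔅 →+* L') = (minpoly 𝔅 a).map (algebraMap 𝔅 L') := by
    rw [Polynomial.map_map]
    congr 1
    ext x
    exact e.commutes x
  rw [← h2] at h
  exact (Polynomial.separable_map _).mp h

section PS

variable {k : Type u} [Field k] (r : ℕ) (p : Ideal (MvPowerSeries (Fin r) k)) [p.IsPrime]
  (s : ℕ) [Algebra (MvPowerSeries (Fin s) k) (MvPowerSeries (Fin r) k ⧸ p)]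
  [Module.Finite (MvPowerSeries (Fin s) k) (MvPowerSeries (Fin r) k ⧸ p)]

theorem dim_atPrime
    (hinj : Function.Injective
      (algebraMap (MvPowerSeries (Fin s) k) (MvPowerSeries (Fin r) k ⧸ p))) :
    ∃ d : ℕ, ringKrullDim (Localization.AtPrime p) = d ∧ d + s = r := by
  set A := MvPowerSeries (Fin r) k
  haveI : IsRegularLocalRing A := Groth.Agent.Lib.Helper1.RegPS.isRegularLocalRing_ps r
  haveI : LocCoh.IsCohenMacaulayLocalRing A :=
    { supportDim_eq_depth := Groth.Agent.S10834.isCM_of_isRegularLocalRing A }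
  have h1 := Groth.Agent.Lib.Helper12.CMCat.height_add_dim_eq_of_isCMLocalRing A ⟨p, inferInstance⟩
  have h2 : ringKrullDim A = r := Groth.Agent.Lib.Helper1.RegPS.ringKrullDim_ps r
  have h3 : ringKrullDim (A ⧸ p) = s := by
    rw [Groth.Agent.Lib.Helper7.NNInt.ringKrullDim_eq_of_injective_isIntegral
      (algebraMap (MvPowerSeries (Fin s) k) (A ⧸ p)) hinj
      (algebraMap_isIntegral_iff.mpr inferInstance)]
    exact Groth.Agent.Lib.Helper1.RegPS.ringKrullDim_ps s
  obtain ⟨d, hd⟩ := Groth.Agent.Lib.Helper5.SerreLoc.exists_finite_ringKrullDim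
    (Localization.AtPrime p)
  refine ⟨d, hd, ?_⟩
  rw [IsLocalization.AtPrime.ringKrullDim_eq_height p (Localization.AtPrime p)] at hd
  change ((p.height : ℕ∞) : WithBot ℕ∞) + _ = _ at h1
  rw [hd, h2, h3] at h1
  exact_mod_cast h1

end PS

end Groth.Agent.Lib.Helper22.NagJac
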