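import Mathlib
import Groth.Agent.Lib.Helper22.NagJacE

set_option autoImplicit false
set_option linter.style.haveILetI false
set_option linter.unusedSectionVars false

namespace Groth.Agent.Lib.Helper22.NagJac

open IsLocalRing TensorProduct KaehlerDifferential

universe u

theorem finite_completedKaehler_of_finite_residueField (k B : Type u) [Field k] [CommRing B]
    [IsLocalRing B] [IsNoetherianRing B] [Algebra k B] [IsAdicComplete (maximalIdeal B) B]
    [Module.Finite k (ResidueField B)] :
    Module.Finite B (AdicCompletion (maximalIdeal B) (Ω[B⁄k])) := by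
  have hfk : Module.Finite (B ⧸ maximalIdeal B) (Ω[B ⧸ maximalIdeal B⁄k]) := by
    have h1 : Algebra.FiniteType k (ResidueField B) := inferInstance
    exact inferInstanceAs (Module.Finite (ResidueField B) (Ω[ResidueField B⁄k]))
  have hcot : Module.Finite (B ⧸ maximalIdeal B) (maximalIdeal B).Cotangent :=
    inferInstanceAs (Module.Finite (ResidueField B) (CotangentSpace B))
  exact Groth.Agent.Lib.Helper5.ComplKaehler.finite_completedKaehler (A := k) (maximalIdeal B)

/-- Nagata's Jacobian criterion for quotients of power series rings. -/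
theorem tfae {k : Type u} [Field k] (r : ℕ)
    (q p : Ideal (MvPowerSeries (Fin r) k)) [p.IsPrime] (hqp : q ≤ p)
    [(p.map (Ideal.Quotient.mk q)).IsPrime]
    (s : ℕ) [Algebra (MvPowerSeries (Fin s) k) (MvPowerSeries (Fin r) k ⧸ p)]
    [IsScalarTower k (MvPowerSeries (Fin s) k) (MvPowerSeries (Fin r) k ⧸ p)]
    [Module.Finite (MvPowerSeries (Fin s) k) (MvPowerSeries (Fin r) k ⧸ p)]
    (hinj : Function.Injective
      (algebraMap (MvPowerSeries (Fin s) k) (MvPowerSeries (Fin r) k ⧸ p)))
    {L' L : Type u} [Field L'] [Field L]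
    [Algebra (MvPowerSeries (Fin s) k) L'] [IsFractionRing (MvPowerSeries (Fin s) k) L']
    [Algebra (MvPowerSeries (Fin r) k ⧸ p) L] [IsFractionRing (MvPowerSeries (Fin r) k ⧸ p) L]
    [Algebra L' L] [Algebra (MvPowerSeries (Fin s) k) L]
    [IsScalarTower (MvPowerSeries (Fin s) k) (MvPowerSeries (Fin r) k ⧸ p) L]
    [IsScalarTower (MvPowerSeries (Fin s) k) L' L] [Algebra.IsSeparable L' L] :
    [CAlgX.IsAdicFormallySmooth k (Localization.AtPrime (p.map (Ideal.Quotient.mk q)))
        (maximalIdeal (Localization.AtPrime (p.map (Ideal.Quotient.mk q)))),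
     ∃ (m : ℕ) (D : Fin m → Derivation k (MvPowerSeries (Fin r) k) (MvPowerSeries (Fin r) k))
        (f : Fin m → MvPowerSeries (Fin r) k), (∀ i, f i ∈ q) ∧
        q.map (algebraMap (MvPowerSeries (Fin r) k) (Localization.AtPrime p)) =
          Ideal.span (Set.range fun i =>
            algebraMap (MvPowerSeries (Fin r) k) (Localization.AtPrime p) (f i)) ∧
        Matrix.det (Matrix.of fun i j => D i (f j)) ∉ p,
     IsRegularLocalRing (Localization.AtPrime (p.map (Ideal.Quotient.mk q)))].TFAE := by
  classical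
  haveI : IsRegularLocalRing (MvPowerSeries (Fin r) k) :=
    Groth.Agent.Lib.Helper1.RegPS.isRegularLocalRing_ps r
  haveI : IsRegularLocalRing (Localization.AtPrime p) :=
    Groth.Agent.Lib.Helper5.SerreLoc.localization_regular (MvPowerSeries (Fin r) k) p
  have hAp : CAlgX.IsAdicFormallySmooth k (Localization.AtPrime p)
      (maximalIdeal (Localization.AtPrime p)) :=
    Groth.Agent.S4574.result (Groth.Agent.Lib.Helper5.PowSer.adicSmooth_of_formallySmooth _
      (by rw [Groth.Agent.Lib.Helper5.PowSer.maximalIdeal_eq_span_X])) p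
  tfae_have 1 → 3 := fun h => Groth.Agent.Lib.Helper5.AdicReg.isRegularLocalRing_of_adicSmooth h
  tfae_have 2 → 1 := by
    rintro ⟨m, D, f, hf, hspan, hdet⟩
    exact adicSmooth_of_jacobian q p hqp hAp m D f hf hspan hdet
  tfae_have 3 → 2 := by
    intro hreg
    set A := MvPowerSeries (Fin r) k with hA
    haveI : IsLocalRing (A ⧸ p) :=
      IsLocalRing.of_surjective' (Ideal.Quotient.mk p) Ideal.Quotient.mk_surjective
    haveI : IsAdicComplete (maximalIdeal (A ⧸ p)) (A ⧸ p) :=
      Groth.Agent.Lib.Helper5.FlatCohen.isAdicComplete_quotient p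
    haveI : Module.Finite k (ResidueField A) := finite_residueField_ps k (Fin r)
    haveI : Module.Finite k (ResidueField (A ⧸ p)) :=
      Groth.Agent.Lib.Helper22.BoundedDer.finite_residueField_quotient k A p
    haveI hW : Module.Finite (A ⧸ p) (AdicCompletion (maximalIdeal (A ⧸ p)) (Ω[(A ⧸ p)⁄k])) :=
      finite_completedKaehler_of_finite_residueField k (A ⧸ p)
    haveI : IsDomain (MvPowerSeries (Fin s) k) := NoZeroDivisors.to_isDomain _
    haveI : IsIntegrallyClosed (MvPowerSeries (Fin s) k) :=
      Groth.Agent.Lib.Helper22.UnramPS.isIntegrallyClosed_ps k s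
    have hsep : ∀ a : A ⧸ p, ∃ P : Polynomial (MvPowerSeries (Fin s) k),
        Polynomial.aeval a P = 0 ∧ (P.map (algebraMap (MvPowerSeries (Fin s) k)
          (FractionRing (MvPowerSeries (Fin s) k)))).Separable :=
      fun a => exists_sep_poly (L' := L') (L := L) a
    have hs := Groth.Agent.S4557.result k s (A ⧸ p) hinj hsep
    obtain ⟨d, hd, hds⟩ := dim_atPrime r p s hinj
    exact exists_jacobian q p hqp hreg (maximalIdeal (A ⧸ p)) hs hd hds
      (fun l => MvPowerSeries.pderiv k l) (fun l => MvPowerSeries.X l) (by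
        intro l l'
        by_cases h : l = l'
        · subst h
          rw [if_pos rfl, MvPowerSeries.pderiv_X_self]
        · rw [if_neg h, MvPowerSeries.pderiv_X_of_ne (Ne.symm h)])
  tfae_finish

end Groth.Agent.Lib.Helper22.NagJac
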