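import Mathlib
import Groth.Agent.Lib.Helper22.GRFreeA
import Groth.Agent.Lib.Helper22.BoundedDerE
import Groth.Agent.Lib.Helper22.NagJacF

/-!
# Generic rank of the localized completed differentials (helper22)
-/

set_option autoImplicit false
set_option linter.style.haveILetI false
set_option linter.unusedSectionVars false
universe u

namespace Groth.Agent.Lib.Helper22.GRFree

open TensorProduct IsLocalRing KaehlerDifferential

section Gen

variable {A : Type u} [CommRing A] (P q : Ideal A) [P.IsPrime] [q.IsPrime] (hqP : q ≤ P)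

/-- the canonical map `A_P → κ(q)` for `q ≤ P` -/
noncomputable def toResidue : Localization.AtPrime P →+* q.ResidueField :=
  IsLocalization.lift (M := P.primeCompl) (g := algebraMap A q.ResidueField) (by
    rintro ⟨s, hs⟩
    have hsq : s ∉ q := fun h => hs (hqP h)
    rw [isUnit_iff_ne_zero, Ne, Ideal.algebraMap_residueField_eq_zero]
    exact hsq)

theorem toResidue_algebraMap (a : A) :
    toResidue P q hqP (algebraMap A (Localization.AtPrime P) a) = algebraMap A q.ResidueField a :=
  IsLocalization.lift_eq _ a

theorem toResidue_injective [IsDomain (Localization.AtPrime P)] (hq : q ∈ minimalPrimes A) :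
    Function.Injective (toResidue P q hqP) := by
  rw [injective_iff_map_eq_zero]
  intro x hx
  obtain ⟨a, s, rfl⟩ := IsLocalization.exists_mk'_eq P.primeCompl x
  have h1 : toResidue P q hqP (algebraMap A _ a) = 0 := by
    have h2 : IsLocalization.mk' (Localization.AtPrime P) a s * algebraMap A _ (s : A) =
        algebraMap A _ a := IsLocalization.mk'_spec _ a s
    rw [← h2, map_mul, hx, zero_mul]
  rw [toResidue_algebraMap, Ideal.algebraMap_residueField_eq_zero] at h1
  -- elements of `q` vanish in `A_P`
  have hker : (RingHom.ker (algebraMap A (Localization.AtPrime P))) = q := by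
    have hprime : (RingHom.ker (algebraMap A (Localization.AtPrime P))).IsPrime :=
      RingHom.ker_isPrime _
    have hle : RingHom.ker (algebraMap A (Localization.AtPrime P)) ≤ q := by
      intro b hb
      rw [RingHom.mem_ker, IsLocalization.map_eq_zero_iff P.primeCompl] at hb
      obtain ⟨t, ht⟩ := hb
      have htq : (t : A) ∉ q := fun h => t.2 (hqP h)
      have : (t : A) * b ∈ q := by rw [ht]; exact q.zero_mem
      exact (Ideal.IsPrime.mem_or_mem inferInstance this).resolve_left htq
    exact le_antisymm hle (hq.2 ⟨hprime, bot_le⟩ hle)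
  have h3 : algebraMap A (Localization.AtPrime P) a = 0 := by
    have : a ∈ RingHom.ker (algebraMap A (Localization.AtPrime P)) := by rw [hker]; exact h1
    exact this
  rw [IsLocalization.mk'_eq_zero_iff]
  rw [IsLocalization.map_eq_zero_iff P.primeCompl] at h3
  exact h3

end Gen

section Main

variable (k A : Type u) [Field k] [CommRing A] [IsLocalRing A] [IsNoetherianRing A] [Algebra k A]
  [IsAdicComplete (maximalIdeal A) A] [Module.Finite k (ResidueField A)]
  (P q : Ideal A) [P.IsPrime] [q.IsPrime] (hqP : q ≤ P)

local notation "Ŵ" => AdicCompletion (maximalIdeal A) (Ω[A⁄k])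
local notation "Rp" => Localization.AtPrime P
local notation "Np" => LocalizedModule P.primeCompl (AdicCompletion (maximalIdeal A) (Ω[A⁄k]))

/-- the rank of `Ω̂_P` over `κ(q)` is at least `dim A/q` -/
theorem le_finrank_generic (n : ℕ) (hn : ringKrullDim (A ⧸ q) = n) :
    letI : Algebra Rp q.ResidueField := (toResidue P q hqP).toAlgebra
    n ≤ Module.finrank q.ResidueField (q.ResidueField ⊗[Rp] Np) := by
  letI : Algebra Rp q.ResidueField := (toResidue P q hqP).toAlgebra
  haveI : IsScalarTower A Rp q.ResidueField :=
    IsScalarTower.of_algebraMap_eq (fun a => (toResidue_algebraMap P q hqP a).symm)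
  haveI hW : Module.Finite A Ŵ :=
    Groth.Agent.Lib.Helper22.NagJac.finite_completedKaehler_of_finite_residueField k A
  have h1 := Groth.Agent.Lib.Helper22.BoundedDer.main k A q q le_rfl
  rw [hn, ← Module.finrank_eq_rank, Cardinal.toENat_nat] at h1
  have h2 : n ≤ Module.finrank q.ResidueField (q.ResidueField ⊗[A] Ŵ) := by exact_mod_cast h1
  let e1 : Np ≃ₗ[Rp] Rp ⊗[A] Ŵ := LocalizedModule.equivTensorProduct P.primeCompl Ŵ
  let e2 : q.ResidueField ⊗[Rp] (Rp ⊗[A] Ŵ) ≃ₗ[q.ResidueField] q.ResidueField ⊗[A] Ŵ :=
    AlgebraTensorModule.cancelBaseChange A Rp q.ResidueField q.ResidueField Ŵ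
  let e3 : q.ResidueField ⊗[Rp] Np ≃ₗ[q.ResidueField] q.ResidueField ⊗[Rp] (Rp ⊗[A] Ŵ) :=
    AlgebraTensorModule.congr (LinearEquiv.refl q.ResidueField q.ResidueField) e1
  rw [(e3.trans e2).finrank_eq]
  exact h2

end Main

end Groth.Agent.Lib.Helper22.GRFree
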