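import Mathlib
import Groth.Agent.Lib.Helper22.GRFreeB
import Groth.Agent.Lib.Helper22.FFinC
import Groth.Agent.Lib.Helper22.UnramPSB
import Groth.Agent.Lib.Helper5.FlatSmoothD
import Groth.Agent.Lib.Helper12.FEquiC
import Groth.Agent.Lib.Helper21.CatKit2
import Groth.Agent.Lib.helper19.RegularLocal
import Groth.Agent.S9405

/-!
# The fibre of the completed differentials at a geometrically regular point, characteristic `p`
(helper22)
-/

set_option autoImplicit false
set_option linter.style.haveILetI false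
set_option linter.unusedSectionVars false
universe u

namespace Groth.Agent.Lib.Helper22.GRFree

open TensorProduct IsLocalRing KaehlerDifferential
open Groth.Agent.Lib.Helper22.FFin Groth.Agent.Lib.Helper5.Cartier

section Ker

variable {A : Type u} [CommRing A] (P q : Ideal A) [P.IsPrime]

theorem ker_algebraMap_eq_of_minimal [IsDomain (Localization.AtPrime P)]
    (hq : q ∈ minimalPrimes A) (hqP : q ≤ P) :
    RingHom.ker (algebraMap A (Localization.AtPrime P)) = q := by
  haveI : q.IsPrime := hq.1.1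
  have hprime : (RingHom.ker (algebraMap A (Localization.AtPrime P))).IsPrime :=
    RingHom.ker_isPrime _
  have hle : RingHom.ker (algebraMap A (Localization.AtPrime P)) ≤ q := by
    intro b hb
    rw [RingHom.mem_ker, IsLocalization.map_eq_zero_iff P.primeCompl] at hb
    obtain ⟨t, ht⟩ := hb
    have htq : (t : A) ∉ q := fun h => t.2 (hqP h)
    have : (t : A) * b ∈ q := by rw [ht]; exact q.zero_mem
    exact (Ideal.IsPrime.mem_or_mem inferInstance this).resolve_left htq
  exact le_antisymm hle (hq.2 ⟨hprime, bot_le⟩ hle)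

end Ker

/-- differentials of a complete local ring over an `F`-finite field are finite -/
theorem finite_kaehler_of_complete (p : ℕ) [Fact p.Prime] (k A : Type u) [Field k] [CharP k p]
    (hk : (frobenius k p).Finite) [CommRing A] [IsNoetherianRing A] [IsLocalRing A]
    [Algebra k A] [IsAdicComplete (maximalIdeal A) A] [Module.Finite k (ResidueField A)] :
    Module.Finite A Ω[A⁄k] := by
  obtain ⟨n', w, -, -, hfin, -⟩ :=
    Groth.Agent.Lib.Helper12.CohenFin.exists_finite_injective_of_field (k₀ := k) (A := A)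
  letI algQC : Algebra (MvPowerSeries (Fin n') k) A := w.toRingHom.toAlgebra
  haveI finQC : Module.Finite (MvPowerSeries (Fin n') k) A := hfin
  obtain ⟨ι, hι, b, hb⟩ := exists_pow_decomp p n' hk
  obtain ⟨κ, hκ, g, hg⟩ :=
    exists_pow_decomp_of_finite (Q := MvPowerSeries (Fin n') k) (C := A) p b hb
  haveI : CharP A p := charP_of_injective_algebraMap (algebraMap k A).injective p
  exact finite_kaehler_of_pow_decomp (R := k) p g hg

section Main

variable (p : ℕ) [Fact p.Prime] (k A : Type u) [Field k] [CharP k p] [CommRing A] [IsLocalRing A]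
  [IsNoetherianRing A] [Algebra k A]
  [IsAdicComplete (maximalIdeal A) A] [Module.Finite k (ResidueField A)]
  (P q : Ideal A) [P.IsPrime]

local notation "Ŵ" => AdicCompletion (maximalIdeal A) (Ω[A⁄k])
local notation "Rp" => Localization.AtPrime P
local notation "Np" => LocalizedModule P.primeCompl (AdicCompletion (maximalIdeal A) (Ω[A⁄k]))
local notation "Kp" => ResidueField (Localization.AtPrime P)

theorem finrank_fibre_le_charP (hk : (frobenius k p).Finite)
    (hP : CAlg.IsGeometricallyRegular k (Localization.AtPrime P))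
    (hq : q ∈ minimalPrimes A) (hqP : q ≤ P) (n : ℕ) (hn : ringKrullDim (A ⧸ q) = n) :
    Module.finrank Kp (Kp ⊗[Rp] Np) ≤ n := by
  classical
  haveI hNoeth : IsNoetherianRing Rp :=
    IsLocalization.isNoetherianRing P.primeCompl Rp inferInstance
  have hfs : CAlgX.IsAdicFormallySmooth k Rp (maximalIdeal Rp) :=
    (Groth.Agent.Lib.Helper5.FlatSmooth.geomRegular_iff_adicSmooth k Rp).mp hP
  haveI hreg : IsRegularLocalRing Rp :=
    Groth.Agent.Lib.Helper5.AdicReg.isRegularLocalRing_of_adicSmooth hfs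
  haveI hdom : IsDomain Rp := Groth.Agent.Lib.helper19.isDomain_of_isRegularLocalRing Rp
  haveI : IsLocalRing (A ⧸ P) :=
    IsLocalRing.of_surjective' (Ideal.Quotient.mk P) Ideal.Quotient.mk_surjective
  haveI : IsAdicComplete (maximalIdeal (A ⧸ P)) (A ⧸ P) :=
    Groth.Agent.Lib.Helper5.FlatCohen.isAdicComplete_quotient P
  haveI : Module.Finite k (ResidueField (A ⧸ P)) :=
    Groth.Agent.Lib.Helper22.BoundedDer.finite_residueField_quotient k A P
  obtain ⟨m, hm⟩ := Groth.Agent.Lib.Helper5.SerreLoc.exists_finite_ringKrullDim (A ⧸ P)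
  have hcd := (cdata_fractionField p k (A ⧸ P) P.ResidueField hk m hm).1
  obtain ⟨hfinV, hrk⟩ := finrank_tensor_kaehler' hfs hcd
  have hcot : (Module.finrank Kp (CotangentSpace Rp) : WithBot ℕ∞) = ringKrullDim Rp :=
    (IsRegularLocalRing.iff_finrank_cotangentSpace Rp).mp hreg
  have hht := IsLocalization.AtPrime.ringKrullDim_eq_height P Rp
  have hcat := Groth.Agent.Lib.Helper12.FEqui.isCatenary_of_isAdicComplete A
  obtain ⟨p₀, hp₀min, hp₀le, hformula⟩ :=
    Groth.Agent.Lib.Helper21.CatKit.exists_minimalPrimes_height_add_dim hcat ⟨P, inferInstance⟩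
  have hp₀q : p₀.asIdeal = q := by
    rw [← ker_algebraMap_eq_of_minimal P q hq hqP,
      ← ker_algebraMap_eq_of_minimal P p₀.asIdeal hp₀min hp₀le]
  have hsum : Module.finrank Kp (CotangentSpace Rp) + m = n := by
    change ((P.height : ℕ∞) : WithBot ℕ∞) + ringKrullDim (A ⧸ P) = _ at hformula
    rw [hp₀q, hn, hm, ← hht, ← hcot] at hformula
    exact_mod_cast hformula
  -- identify the modules
  haveI hΩfin : Module.Finite A Ω[A⁄k] := finite_kaehler_of_complete p k A hk
  haveI hW : Module.Finite A Ŵ :=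
    Groth.Agent.Lib.Helper22.NagJac.finite_completedKaehler_of_finite_residueField k A
  let eof : Ω[A⁄k] ≃ₗ[A] Ŵ := LinearEquiv.ofBijective (AdicCompletion.of (maximalIdeal A) Ω[A⁄k])
    (Groth.Agent.S9405.of_bijective_of_finite (maximalIdeal A) Ω[A⁄k])
  haveI : Algebra.FormallyEtale A Rp := Algebra.FormallyEtale.of_isLocalization P.primeCompl
  let e1 : Kp ⊗[A] Ŵ ≃ₗ[Kp] Kp ⊗[A] Ω[A⁄k] :=
    AlgebraTensorModule.congr (LinearEquiv.refl Kp Kp) eof.symm
  let e2 : Kp ⊗[Rp] (Rp ⊗[A] Ω[A⁄k]) ≃ₗ[Kp] Kp ⊗[A] Ω[A⁄k] :=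
    AlgebraTensorModule.cancelBaseChange A Rp Kp Kp Ω[A⁄k]
  let e3 : Kp ⊗[Rp] (Rp ⊗[A] Ω[A⁄k]) ≃ₗ[Kp] Kp ⊗[Rp] Ω[Rp⁄k] :=
    AlgebraTensorModule.congr (LinearEquiv.refl Kp Kp)
      (KaehlerDifferential.tensorKaehlerEquivOfFormallyEtale k A Rp)
  rw [← Groth.Agent.Lib.Helper22.UnramPS.finrank_fibre_eq k A P,
    (e1.trans (e2.symm.trans e3)).finrank_eq, hrk, hsum]

end Main

end Groth.Agent.Lib.Helper22.GRFree
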