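import Mathlib
import Groth.Agent.Lib.Helper22.NagJacC
import Groth.Agent.Lib.Helper22.ComplKaehlerGen

/-!
# An upper bound for the fibre of the completed differentials at a prime, by counting bounded
derivations of the quotient (helper22)
-/

set_option autoImplicit false
set_option linter.style.haveILetI false
set_option linter.unusedSectionVars false
universe u

namespace Groth.Agent.Lib.Helper22.GRFree

open TensorProduct IsLocalRing KaehlerDifferential
open Groth.Agent.Lib.Helper22.NagJac

section Count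

variable (k A : Type u) [Field k] [CommRing A] [Algebra k A] [IsLocalRing A] [IsNoetherianRing A]
  [Module.Finite A (AdicCompletion (maximalIdeal A) (Ω[A⁄k]))] (P : Ideal A) [P.IsPrime]

local notation "Ŵ" => AdicCompletion (maximalIdeal A) (Ω[A⁄k])
local notation "L" => FractionRing (A ⧸ P)

/-- the completed universal derivation -/
noncomputable def dcompl : Derivation k A Ŵ :=
  (AdicCompletion.of (maximalIdeal A) (Ω[A⁄k])).compDer (D k A)

theorem dcompl_apply (a : A) :
    dcompl k A a = AdicCompletion.of (maximalIdeal A) (Ω[A⁄k]) (D k A a) := rfl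

theorem span_tmul_dcompl :
    Submodule.span L (Set.range fun a : A => (1 : L) ⊗ₜ[A] dcompl k A a) = ⊤ := by
  have h0 := Groth.Agent.Lib.Helper22.ComplKaehlerGen.span_of_D_eq_top (k := k) (A := A)
  have key : ∀ w ∈ Submodule.span A (Set.range fun a : A =>
      AdicCompletion.of (maximalIdeal A) (Ω[A⁄k]) (D k A a)),
      (1 : L) ⊗ₜ[A] w ∈ Submodule.span L (Set.range fun a : A => (1 : L) ⊗ₜ[A] dcompl k A a) := by
    intro w hw
    induction hw using Submodule.span_induction with
    | mem z hz =>
      obtain ⟨a, rfl⟩ := hz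
      exact Submodule.subset_span ⟨a, rfl⟩
    | zero => rw [TensorProduct.tmul_zero]; exact Submodule.zero_mem _
    | add z w _ _ hz hw => rw [TensorProduct.tmul_add]; exact Submodule.add_mem _ hz hw
    | smul r z _ hz =>
      rw [TensorProduct.tmul_smul]
      have : r • ((1 : L) ⊗ₜ[A] z) = (algebraMap A L r) • ((1 : L) ⊗ₜ[A] z) := by
        rw [algebraMap_smul]
      rw [this]
      exact Submodule.smul_mem _ _ hz
  rw [eq_top_iff]
  rintro x -
  induction x using TensorProduct.induction_on with
  | zero => exact Submodule.zero_mem _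
  | add x y hx hy => exact Submodule.add_mem _ hx hy
  | tmul c y =>
    have hy : y ∈ Submodule.span A (Set.range fun a : A =>
        AdicCompletion.of (maximalIdeal A) (Ω[A⁄k]) (D k A a)) := by rw [h0]; trivial
    have : c ⊗ₜ[A] y = c • ((1 : L) ⊗ₜ[A] y) := by
      rw [TensorProduct.smul_tmul', smul_eq_mul, mul_one]
    rw [this]
    exact Submodule.smul_mem _ _ (key y hy)

/-- the derivation `A → L` attached to a functional on `L ⊗ Ω̂` -/
noncomputable def derOf (Φ : L ⊗[A] Ŵ →ₗ[L] L) : Derivation k A L :=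
  ((Φ.restrictScalars A).comp (TensorProduct.mk A L Ŵ 1)).compDer (dcompl k A)

theorem derOf_apply (Φ : L ⊗[A] Ŵ →ₗ[L] L) (a : A) :
    derOf k A P Φ a = Φ ((1 : L) ⊗ₜ[A] dcompl k A a) := rfl

theorem derOf_eq_zero (Φ : L ⊗[A] Ŵ →ₗ[L] L) (h : ∀ a, derOf k A P Φ a = 0) : Φ = 0 := by
  apply LinearMap.ext_on (span_tmul_dcompl k A P)
  rintro _ ⟨a, rfl⟩
  rw [LinearMap.zero_apply]
  exact h a

theorem derOf_bounded (Φ : L ⊗[A] Ŵ →ₗ[L] L) :
    ∃ Ψ : Submodule (A ⧸ P) L, Ψ.FG ∧ ∀ a, derOf k A P Φ a ∈ Ψ := by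
  classical
  obtain ⟨S, hS⟩ := (Module.finite_def.mp (inferInstance : Module.Finite A Ŵ))
  let lam : Ŵ →ₗ[A] L := (Φ.restrictScalars A).comp (TensorProduct.mk A L Ŵ 1)
  refine ⟨Submodule.span (A ⧸ P) (lam '' (S : Set Ŵ)),
    Submodule.fg_span (S.finite_toSet.image _), fun a => ?_⟩
  have key : ∀ w ∈ Submodule.span A (S : Set Ŵ),
      lam w ∈ Submodule.span (A ⧸ P) (lam '' (S : Set Ŵ)) := by
    intro w hw
    induction hw using Submodule.span_induction with
    | mem z hz => exact Submodule.subset_span ⟨z, hz, rfl⟩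
    | zero => rw [map_zero]; exact Submodule.zero_mem _
    | add z w _ _ hz hw => rw [map_add]; exact Submodule.add_mem _ hz hw
    | smul r z _ hz =>
      rw [map_smul]
      have : r • lam z = (Ideal.Quotient.mk P r) • lam z :=
        (algebraMap_smul (A ⧸ P) r (lam z)).symm
      rw [this]
      exact Submodule.smul_mem _ _ hz
  exact key _ (by rw [hS]; trivial)

variable [IsNoetherianRing (A ⧸ P)] (I : Ideal (A ⧸ P)) [IsAdicComplete I (A ⧸ P)]
  [Module.Finite (A ⧸ P) (AdicCompletion I Ω[(A ⧸ P)⁄k])]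

/-- **Counting derivations**: the fibre of `Ω̂_A` at `P` has dimension at most the number of
generators of `P A_P` plus the generic rank of `Ω̂_{A/P}`. -/
theorem finrank_le_add {e s : ℕ}
    (hs : Module.finrank L (L ⊗[A ⧸ P] AdicCompletion I Ω[(A ⧸ P)⁄k]) ≤ s)
    (a : Fin e → A) (ha : ∀ i, a i ∈ P)
    (hgen : Ideal.span (Set.range fun i => algebraMap A (Localization.AtPrime P) (a i)) =
      maximalIdeal (Localization.AtPrime P)) :
    Module.finrank L (L ⊗[A] Ŵ) ≤ e + s := by
  classical
  set N := Module.finrank L (L ⊗[A] Ŵ) with hN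
  let b : Module.Basis (Fin N) L (L ⊗[A] Ŵ) := Module.finBasis L _
  -- evaluation at the generators
  let ρ : (Fin N → L) →ₗ[L] (Fin e → L) :=
    LinearMap.pi fun i => (LinearMap.applyₗ ((1 : L) ⊗ₜ[A] dcompl k A (a i))).comp
      (b.constr L).toLinearMap
  have hρ : ∀ c i, ρ c i = derOf k A P (b.constr L c) (a i) := fun c i => rfl
  set d := Module.finrank L (LinearMap.ker ρ) with hd
  let bk : Module.Basis (Fin d) L (LinearMap.ker ρ) := Module.finBasis L _
  let v : Fin d → (Fin N → L) := fun t => (bk t : Fin N → L)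
  have hv : ∀ t i, derOf k A P (b.constr L (v t)) (a i) = 0 := by
    intro t i
    rw [← hρ]
    have : ρ (v t) = 0 := (bk t).2
    rw [this]; rfl
  let Δ : Fin d → Derivation k (A ⧸ P) L := fun t =>
    quotDer P (derOf k A P (b.constr L (v t)))
      (der_eq_zero_of_mem P a ha hgen _ (hv t))
  have hΔmk : ∀ t x, Δ t (Ideal.Quotient.mk P x) = derOf k A P (b.constr L (v t)) x :=
    fun t x => rfl
  have hΔ : LinearIndependent L Δ := by
    rw [Fintype.linearIndependent_iff]
    intro c hc
    have h1 : b.constr L (∑ t, c t • v t) = 0 := by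
      apply derOf_eq_zero k A P
      intro x
      have h2 := congrArg (fun D : Derivation k (A ⧸ P) L => D (Ideal.Quotient.mk P x)) hc
      rw [Groth.Agent.Lib.Helper22.BoundedDer.derivation_sum_apply] at h2
      simp only [hΔmk, derOf_apply] at h2
      rw [derOf_apply, map_sum, LinearMap.sum_apply]
      rw [Derivation.coe_zero, Pi.zero_apply] at h2
      rw [← h2]
      refine Finset.sum_congr rfl fun t _ => ?_
      rw [map_smul, LinearMap.smul_apply, smul_eq_mul]
    have h3 : ∑ t, c t • v t = 0 := (b.constr L).injective (h1.trans (map_zero _).symm)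
    have h4 : ∑ t, c t • bk t = 0 := by
      apply Subtype.ext
      simpa using h3
    exact Fintype.linearIndependent_iff.mp bk.linearIndependent c h4
  have hΦ : ∀ t, ∃ Ψ : Submodule (A ⧸ P) L, Ψ.FG ∧ ∀ x, Δ t x ∈ Ψ := by
    intro t
    obtain ⟨Ψ, hΨ, h⟩ := derOf_bounded k A P (b.constr L (v t))
    refine ⟨Ψ, hΨ, fun x => ?_⟩
    obtain ⟨x, rfl⟩ := Ideal.Quotient.mk_surjective x
    rw [hΔmk]
    exact h x
  have hdle : d ≤ s := (card_le_of_derivations I d Δ hΔ hΦ).trans hs
  have hrn := LinearMap.finrank_range_add_finrank_ker ρ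
  rw [Module.finrank_fin_fun] at hrn
  have h4 : Module.finrank L (LinearMap.range ρ) ≤ e := by
    have := Submodule.finrank_le (LinearMap.range ρ)
    rwa [Module.finrank_fin_fun] at this
  omega

end Count

end Groth.Agent.Lib.Helper22.GRFree
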