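import Mathlib
import Groth.Agent.Lib.Helper22.GRFreeC
import Groth.Agent.Lib.Helper22.GRFreeD
import Groth.Agent.Lib.Helper22.NagJacE
import Groth.Agent.Lib.Helper12.RegSecD

/-!
# The fibre of the completed differentials at a regular point, characteristic zero (helper22)
-/

set_option autoImplicit false
set_option linter.style.haveILetI false
set_option linter.unusedSectionVars false
universe u

namespace Groth.Agent.Lib.Helper22.GRFree

open TensorProduct IsLocalRing KaehlerDifferential
open scoped nonZeroDivisors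

/-- generic rank of the completed differentials of a complete local domain in characteristic `0` -/
theorem finrank_generic_charZero (k C : Type u) [Field k] [CharZero k] [CommRing C] [IsDomain C]
    [IsLocalRing C] [IsNoetherianRing C] [Algebra k C] [IsAdicComplete (maximalIdeal C) C]
    [Module.Finite k (ResidueField C)] (m : ℕ) (hm : ringKrullDim C = m) :
    Module.finrank (FractionRing C)
      (FractionRing C ⊗[C] AdicCompletion (maximalIdeal C) (Ω[C⁄k])) = m := by
  classical
  obtain ⟨r, w, hinj, -, hfin, hdim⟩ :=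
    Groth.Agent.Lib.Helper12.CohenFin.exists_finite_injective_of_field (k₀ := k) (A := C)
  have hrm : r = m := by
    rw [hm] at hdim
    exact_mod_cast hdim.symm
  subst hrm
  letI algQC : Algebra (MvPowerSeries (Fin r) k) C := w.toRingHom.toAlgebra
  haveI tkQC : IsScalarTower k (MvPowerSeries (Fin r) k) C :=
    IsScalarTower.of_algebraMap_eq (fun c => (w.commutes c).symm)
  haveI finQC : Module.Finite (MvPowerSeries (Fin r) k) C := hfin
  haveI fsQC : FaithfulSMul (MvPowerSeries (Fin r) k) C :=
    (faithfulSMul_iff_algebraMap_injective _ _).mpr hinj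
  haveI : IsDomain (MvPowerSeries (Fin r) k) := NoZeroDivisors.to_isDomain _
  haveI : IsIntegrallyClosed (MvPowerSeries (Fin r) k) :=
    Groth.Agent.Lib.Helper22.UnramPS.isIntegrallyClosed_ps k r
  letI : Algebra (FractionRing (MvPowerSeries (Fin r) k)) (FractionRing C) :=
    FractionRing.liftAlgebra (MvPowerSeries (Fin r) k) (FractionRing C)
  have hT1 : IsScalarTower (MvPowerSeries (Fin r) k) (FractionRing (MvPowerSeries (Fin r) k))
      (FractionRing C) :=
    FractionRing.isScalarTower_liftAlgebra (MvPowerSeries (Fin r) k) (FractionRing C)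
  have hInt : Algebra.IsIntegral (MvPowerSeries (Fin r) k) C := Algebra.IsIntegral.of_finite _ _
  have hAlg : Algebra.IsAlgebraic (MvPowerSeries (Fin r) k) C := inferInstance
  have hLoc : IsLocalization (Algebra.algebraMapSubmonoid C (MvPowerSeries (Fin r) k)⁰)
      (FractionRing C) := inferInstance
  have hFD : FiniteDimensional (FractionRing (MvPowerSeries (Fin r) k)) (FractionRing C) :=
    Module.Finite.of_isLocalization (MvPowerSeries (Fin r) k) C (MvPowerSeries (Fin r) k)⁰
  haveI : CharZero (FractionRing (MvPowerSeries (Fin r) k)) := by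
    have h1 : Function.Injective (algebraMap k (FractionRing (MvPowerSeries (Fin r) k))) :=
      (algebraMap k (FractionRing (MvPowerSeries (Fin r) k))).injective
    exact charZero_of_injective_algebraMap h1
  haveI : Algebra.IsSeparable (FractionRing (MvPowerSeries (Fin r) k)) (FractionRing C) :=
    inferInstance
  have hsep : ∀ a : C, ∃ P : Polynomial (MvPowerSeries (Fin r) k),
      Polynomial.aeval a P = 0 ∧ (P.map (algebraMap (MvPowerSeries (Fin r) k)
        (FractionRing (MvPowerSeries (Fin r) k)))).Separable :=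
    fun a => Groth.Agent.Lib.Helper22.NagJac.exists_sep_poly
      (L' := FractionRing (MvPowerSeries (Fin r) k)) (L := FractionRing C) a
  exact Groth.Agent.S4557.result k r C hinj hsep

section Dim

variable (A : Type u) [CommRing A] [IsLocalRing A] [IsNoetherianRing A]
  [IsAdicComplete (maximalIdeal A) A] (P q : Ideal A) [P.IsPrime]

/-- `ht P + dim A/P = dim A/q` when `A_P` is a domain and `q ≤ P` is a minimal prime -/
theorem height_add_dim_eq [IsDomain (Localization.AtPrime P)]
    (hq : q ∈ minimalPrimes A) (hqP : q ≤ P) :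
    ((P.height : ℕ∞) : WithBot ℕ∞) + ringKrullDim (A ⧸ P) = ringKrullDim (A ⧸ q) := by
  have hcat := Groth.Agent.Lib.Helper12.FEqui.isCatenary_of_isAdicComplete A
  obtain ⟨p₀, hp₀min, hp₀le, hformula⟩ :=
    Groth.Agent.Lib.Helper21.CatKit.exists_minimalPrimes_height_add_dim hcat ⟨P, inferInstance⟩
  have hp₀q : p₀.asIdeal = q := by
    rw [← ker_algebraMap_eq_of_minimal P q hq hqP,
      ← ker_algebraMap_eq_of_minimal P p₀.asIdeal hp₀min hp₀le]
  rw [← hp₀q]
  exact hformula

end Dim

section Main

variable (k A : Type u) [Field k] [CharZero k] [CommRing A] [IsLocalRing A]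
  [IsNoetherianRing A] [Algebra k A]
  [IsAdicComplete (maximalIdeal A) A] [Module.Finite k (ResidueField A)]
  (P q : Ideal A) [P.IsPrime]

local notation "Ŵ" => AdicCompletion (maximalIdeal A) (Ω[A⁄k])
local notation "Rp" => Localization.AtPrime P
local notation "Np" => LocalizedModule P.primeCompl (AdicCompletion (maximalIdeal A) (Ω[A⁄k]))
local notation "Kp" => ResidueField (Localization.AtPrime P)

theorem finrank_fibre_le_charZero [IsRegularLocalRing (Localization.AtPrime P)]
    (hq : q ∈ minimalPrimes A) (hqP : q ≤ P) (n : ℕ) (hn : ringKrullDim (A ⧸ q) = n) :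
    Module.finrank Kp (Kp ⊗[Rp] Np) ≤ n := by
  classical
  haveI hdom : IsDomain Rp := Groth.Agent.Lib.helper19.isDomain_of_isRegularLocalRing Rp
  haveI : IsLocalRing (A ⧸ P) :=
    IsLocalRing.of_surjective' (Ideal.Quotient.mk P) Ideal.Quotient.mk_surjective
  haveI : IsAdicComplete (maximalIdeal (A ⧸ P)) (A ⧸ P) :=
    Groth.Agent.Lib.Helper5.FlatCohen.isAdicComplete_quotient P
  haveI : Module.Finite k (ResidueField (A ⧸ P)) :=
    Groth.Agent.Lib.Helper22.BoundedDer.finite_residueField_quotient k A P
  haveI hW : Module.Finite A Ŵ :=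
    Groth.Agent.Lib.Helper22.NagJac.finite_completedKaehler_of_finite_residueField k A
  haveI hWC : Module.Finite (A ⧸ P)
      (AdicCompletion (maximalIdeal (A ⧸ P)) (Ω[(A ⧸ P)⁄k])) :=
    Groth.Agent.Lib.Helper22.NagJac.finite_completedKaehler_of_finite_residueField k (A ⧸ P)
  obtain ⟨m, hm⟩ := Groth.Agent.Lib.Helper5.SerreLoc.exists_finite_ringKrullDim (A ⧸ P)
  have hs := finrank_generic_charZero k (A ⧸ P) m hm
  obtain ⟨e, x, he, hxP, hspan⟩ := Groth.Agent.Lib.Helper12.RegSec.exists_gens_atPrime P
  have hle := finrank_le_add k A P (maximalIdeal (A ⧸ P)) hs.le x hxP hspan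
  have hedim : (e : WithBot ℕ∞) = ringKrullDim Rp := by
    rw [he]
    exact IsRegularLocalRing.spanFinrank_maximalIdeal
  have hht := IsLocalization.AtPrime.ringKrullDim_eq_height P Rp
  have hsum : e + m = n := by
    have h1 := height_add_dim_eq A P q hq hqP
    rw [hn, hm, ← hht, ← hedim] at h1
    exact_mod_cast h1
  -- transfer from `Frac(A/P)` to `κ(P)`
  letI : Algebra (FractionRing (A ⧸ P)) Kp := FractionRing.liftAlgebra (A ⧸ P) Kp
  haveI hT1 : IsScalarTower (A ⧸ P) (FractionRing (A ⧸ P)) Kp :=
    FractionRing.isScalarTower_liftAlgebra (A ⧸ P) Kp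
  haveI hT2 : IsScalarTower A (FractionRing (A ⧸ P)) Kp :=
    IsScalarTower.of_algebraMap_eq (fun c => by
      rw [IsScalarTower.algebraMap_apply A (A ⧸ P) (FractionRing (A ⧸ P)),
        ← IsScalarTower.algebraMap_apply (A ⧸ P) (FractionRing (A ⧸ P)) Kp,
        ← IsScalarTower.algebraMap_apply A (A ⧸ P) Kp])
  let e2 : Kp ⊗[FractionRing (A ⧸ P)] (FractionRing (A ⧸ P) ⊗[A] Ŵ) ≃ₗ[Kp] Kp ⊗[A] Ŵ :=
    AlgebraTensorModule.cancelBaseChange A (FractionRing (A ⧸ P)) Kp Kp Ŵ
  rw [← Groth.Agent.Lib.Helper22.UnramPS.finrank_fibre_eq k A P, ← e2.finrank_eq,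
    Module.finrank_baseChange]
  omega

end Main

end Groth.Agent.Lib.Helper22.GRFree
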