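import Mathlib
import Groth.Agent.Lib.Helper22.GRFreeE

/-!
# Freeness of the localized completed differentials at a geometrically regular point
(helper22; EGA 0_IV 22.7.2, (d) ⇒ (b))
-/

set_option autoImplicit false
set_option linter.style.haveILetI false
set_option linter.unusedSectionVars false
universe u

namespace Groth.Agent.Lib.Helper22.GRFree

open TensorProduct IsLocalRing KaehlerDifferential

variable (k A : Type u) [Field k] [CommRing A] [IsLocalRing A]
  [IsNoetherianRing A] [Algebra k A]
  [IsAdicComplete (maximalIdeal A) A] [Module.Finite k (ResidueField A)]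
  (P q : Ideal A) [P.IsPrime]

local notation "Ŵ" => AdicCompletion (maximalIdeal A) (Ω[A⁄k])
local notation "Rp" => Localization.AtPrime P
local notation "Np" => LocalizedModule P.primeCompl (AdicCompletion (maximalIdeal A) (Ω[A⁄k]))
local notation "Kp" => ResidueField (Localization.AtPrime P)

/-- freeness from the bound on the closed fibre -/
theorem free_of_fibre_le [IsDomain (Localization.AtPrime P)]
    (hq : q ∈ minimalPrimes A) (hqP : q ≤ P) (n : ℕ) (hn : ringKrullDim (A ⧸ q) = n)
    (hU : Module.finrank Kp (Kp ⊗[Rp] Np) ≤ n) :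
    Module.Free Rp Np ∧ Module.finrank Rp Np = n := by
  haveI : q.IsPrime := hq.1.1
  haveI hW : Module.Finite A Ŵ :=
    Groth.Agent.Lib.Helper22.NagJac.finite_completedKaehler_of_finite_residueField k A
  letI : Algebra Rp q.ResidueField := (toResidue P q hqP).toAlgebra
  have hL := le_finrank_generic k A P q hqP n hn
  exact free_of_finrank_le Np q.ResidueField (toResidue_injective P q hqP hq) n hU hL

theorem free_of_geomRegular (p : ℕ) [ExpChar k p] (hk : (frobenius k p).Finite)
    (hP : CAlg.IsGeometricallyRegular k (Localization.AtPrime P))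
    (hq : q ∈ minimalPrimes A) (hqP : q ≤ P) (n : ℕ) (hn : ringKrullDim (A ⧸ q) = n) :
    Module.Free Rp Np ∧ Module.finrank Rp Np = n := by
  haveI hNoeth : IsNoetherianRing Rp :=
    IsLocalization.isNoetherianRing P.primeCompl Rp inferInstance
  have hfs : CAlgX.IsAdicFormallySmooth k Rp (maximalIdeal Rp) :=
    (Groth.Agent.Lib.Helper5.FlatSmooth.geomRegular_iff_adicSmooth k Rp).mp hP
  haveI hreg : IsRegularLocalRing Rp :=
    Groth.Agent.Lib.Helper5.AdicReg.isRegularLocalRing_of_adicSmooth hfs
  haveI hdom : IsDomain Rp := Groth.Agent.Lib.helper19.isDomain_of_isRegularLocalRing Rp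
  apply free_of_fibre_le k A P q hq hqP n hn
  cases ‹ExpChar k p› with
  | zero => exact finrank_fibre_le_charZero k A P q hq hqP n hn
  | prime hp =>
    haveI : Fact p.Prime := ⟨hp⟩
    exact finrank_fibre_le_charP p k A P q hk hP hq hqP n hn

end Groth.Agent.Lib.Helper22.GRFree
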