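import Mathlib
import Groth.Agent.S0598
import Groth.Agent.Lib.Helper22.RegLocal
import Groth.Agent.Lib.Helper22.CplDescent
import Groth.Agent.Lib.Helper22.CplTransfer
import Groth.Agent.Lib.Helper12.AnUnramD

/-!
# A Noetherian local ring with regular completion map is a G-ring; G-rings can be tested at
maximal ideals (helper22)
-/

set_option autoImplicit false
set_option linter.style.haveILetI false
set_option linter.unusedSectionVars false
universe u

namespace Groth.Agent.Lib.Helper22.GRing

open TensorProduct IsLocalRing

/-- a Noetherian local ring whose completion map is regular is a G-ring -/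
theorem isGRing_of_isRegularHom_cpl (A : Type u) [CommRing A] [IsLocalRing A] [IsNoetherianRing A]
    (hA : CAlg.IsRegularHom A (EGA4.Cpl A)) : CAlg.IsGRing A := by
  refine ⟨inferInstance, fun P hP => ?_⟩
  haveI : IsNoetherianRing (EGA4.Cpl A) := Groth.Agent.Lib.Helper12.AnUnram.isNoetherianRing_cpl A
  haveI : Module.FaithfullyFlat A (EGA4.Cpl A) :=
    Groth.Agent.Lib.Helper12.AnUnram.faithfullyFlat_cpl A
  obtain ⟨Q, hQ, hover⟩ := Ideal.exists_isPrime_liesOver_of_faithfullyFlat (B := EGA4.Cpl A) P
  have hPQ : P = Q.comap (algebraMap A (EGA4.Cpl A)) := hover.over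
  subst hPQ
  letI := (Localization.localRingHom (Ideal.comap (algebraMap A (EGA4.Cpl A)) Q) Q
    (algebraMap A (EGA4.Cpl A)) rfl).toAlgebra
  have h1 := Groth.Agent.Lib.Helper22.RegLocal.isRegularHom_local A (EGA4.Cpl A) hA Q
  haveI : IsAdicComplete (maximalIdeal (AdicCompletion (maximalIdeal A) A))
      (AdicCompletion (maximalIdeal A) A) := inferInstance
  have hG : CAlg.IsGRing (EGA4.Cpl A) := Groth.Agent.S0598.result (EGA4.Cpl A)
  have h2 := hG.2 Q
  haveI : IsLocalHom (algebraMap
      (Localization.AtPrime (Ideal.comap (algebraMap A (EGA4.Cpl A)) Q))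
      (Localization.AtPrime Q)) :=
    Localization.isLocalHom_localRingHom _ _ _ rfl
  haveI : IsNoetherianRing (Localization.AtPrime (Ideal.comap (algebraMap A (EGA4.Cpl A)) Q)) :=
    IsLocalization.isNoetherianRing (Ideal.comap (algebraMap A (EGA4.Cpl A)) Q).primeCompl _
      inferInstance
  haveI : IsNoetherianRing (Localization.AtPrime Q) :=
    IsLocalization.isNoetherianRing Q.primeCompl _ inferInstance
  exact Groth.Agent.Lib.Helper22.CplDescent.isRegularHom_cpl _ _ h1 h2

/-- the G-ring property can be tested at the maximal ideals -/
theorem isGRing_of_forall_maximal (R : Type u) [CommRing R] [IsNoetherianRing R]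
    (H : ∀ (m : Ideal R) [m.IsMaximal],
      CAlg.IsRegularHom (Localization.AtPrime m) (EGA4.Cpl (Localization.AtPrime m))) :
    CAlg.IsGRing R := by
  refine ⟨inferInstance, fun p hp => ?_⟩
  obtain ⟨m, hm, hpm⟩ := Ideal.exists_le_maximal p hp.ne_top
  haveI := hm
  haveI : IsNoetherianRing (Localization.AtPrime m) :=
    IsLocalization.isNoetherianRing m.primeCompl _ inferInstance
  have hG := isGRing_of_isRegularHom_cpl (Localization.AtPrime m) (H m)
  have hdisj : Disjoint (m.primeCompl : Set R) (p : Set R) := by
    rw [Set.disjoint_left]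
    intro x hx hxp
    exact hx (hpm hxp)
  haveI hp' : (p.map (algebraMap R (Localization.AtPrime m))).IsPrime :=
    IsLocalization.isPrime_of_isPrime_disjoint m.primeCompl _ p hp hdisj
  have hcomap : (p.map (algebraMap R (Localization.AtPrime m))).comap
      (algebraMap R (Localization.AtPrime m)) = p :=
    IsLocalization.under_map_of_isPrime_disjoint m.primeCompl _ hp hdisj
  haveI hloc : IsLocalization.AtPrime
      (Localization.AtPrime (p.map (algebraMap R (Localization.AtPrime m)))) p := by
    have this : IsLocalization ((p.map (algebraMap R (Localization.AtPrime m))).comap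
        (algebraMap R (Localization.AtPrime m))).primeCompl
        (Localization.AtPrime (p.map (algebraMap R (Localization.AtPrime m)))) :=
      IsLocalization.isLocalization_isLocalization_atPrime_isLocalization m.primeCompl _ _
    have hpc : ((p.map (algebraMap R (Localization.AtPrime m))).comap
        (algebraMap R (Localization.AtPrime m))).primeCompl = p.primeCompl := by
      ext x
      change x ∉ (p.map (algebraMap R (Localization.AtPrime m))).comap _ ↔ x ∉ p
      rw [hcomap]
    rw [hpc] at this
    exact this
  let e : Localization.AtPrime p ≃ₐ[R]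
      Localization.AtPrime (p.map (algebraMap R (Localization.AtPrime m))) :=
    IsLocalization.algEquiv p.primeCompl _ _
  haveI : IsNoetherianRing
      (Localization.AtPrime (p.map (algebraMap R (Localization.AtPrime m)))) :=
    IsLocalization.isNoetherianRing
      (p.map (algebraMap R (Localization.AtPrime m))).primeCompl _ inferInstance
  exact Groth.Agent.Lib.Helper22.CplTransfer.isRegularHom_cpl_of_ringEquiv
    e.symm.toRingEquiv (hG.2 (p.map (algebraMap R (Localization.AtPrime m))))

end Groth.Agent.Lib.Helper22.GRing
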