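import Mathlib
import Groth.Agent.S2038
import Groth.Agent.S4537
import Groth.Agent.Lib.Helper22.RegLocal
import Groth.Agent.Lib.Helper22.CplTransfer

/-!
# Formal smoothness of the local rings of a regular homomorphism (helper22)
-/

set_option autoImplicit false
set_option linter.style.haveILetI false
set_option linter.unusedSectionVars false
universe u

namespace Groth.Agent.Lib.Helper22.GRing

open TensorProduct IsLocalRing

variable (B D : Type u) [CommRing B] [CommRing D] [IsNoetherianRing B] [IsNoetherianRing D]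
  [Algebra B D] (q : Ideal D) [q.IsPrime]
  (Br : Type u) [CommRing Br] [Algebra B Br]
  [IsLocalization.AtPrime Br (q.comap (algebraMap B D))]
  (Dq : Type u) [CommRing Dq] [Algebra D Dq] [IsLocalization.AtPrime Dq q]
  [Algebra B Dq] [IsScalarTower B D Dq] [Algebra Br Dq] [IsScalarTower B Br Dq]

include B D q in
theorem isLocalHom_of_localizations [IsLocalRing Br] [IsLocalRing Dq] :
    IsLocalHom (algebraMap Br Dq) := by
  constructor
  intro x hx
  obtain ⟨b, s, rfl⟩ := IsLocalization.exists_mk'_eq (q.comap (algebraMap B D)).primeCompl x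
  rw [IsLocalization.AtPrime.isUnit_mk'_iff Br (q.comap (algebraMap B D))]
  intro hb
  have hbq : algebraMap B D b ∈ q := hb
  have h1 : algebraMap D Dq (algebraMap B D b) ∈ maximalIdeal Dq :=
    (IsLocalization.AtPrime.to_map_mem_maximal_iff Dq q _).mpr hbq
  have hsu : IsUnit (algebraMap Br Dq (algebraMap B Br s)) :=
    (IsLocalization.map_units Br s).map _
  have h2 : algebraMap D Dq (algebraMap B D b) =
      algebraMap Br Dq (IsLocalization.mk' Br b s) * algebraMap Br Dq (algebraMap B Br s) := by
    rw [← map_mul, IsLocalization.mk'_spec, ← IsScalarTower.algebraMap_apply,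
      ← IsScalarTower.algebraMap_apply]
  rw [h2] at h1
  exact (mem_maximalIdeal _).mp h1 (hx.mul hsu)

include B D q in
theorem adicSmooth_of_isRegularHom [IsLocalRing Br] [IsLocalRing Dq]
    (hB : CAlg.IsRegularHom B D) :
    CAlgX.IsAdicFormallySmooth Br Dq (maximalIdeal Dq) := by
  haveI : IsNoetherianRing Dq := IsLocalization.isNoetherianRing q.primeCompl Dq inferInstance
  haveI : IsNoetherianRing Br :=
    IsLocalization.isNoetherianRing (q.comap (algebraMap B D)).primeCompl Br inferInstance
  have h2 : CAlg.IsRegularHom D Dq :=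
    Groth.Agent.Lib.Helper22.RegLocal.isRegularHom_of_isLocalization D q.primeCompl Dq
  have h3 : CAlg.IsRegularHom B Dq :=
    Groth.Agent.Lib.Helper5.RegHom.isRegularHom_comp B D Dq hB h2
      (fun p _ => Groth.Agent.Lib.Helper21.FlatLocal.isNoetherianRing_fiber p)
  have h4 : CAlg.IsRegularHom Br Dq :=
    Groth.Agent.Lib.Helper22.CplTransfer.isRegularHom_of_isLocalization_source B Dq Br
      (q.comap (algebraMap B D)).primeCompl h3
  haveI := isLocalHom_of_localizations B D q Br Dq
  haveI : Module.Flat Br Dq := h4.1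
  exact Groth.Agent.S2038.result.mp ⟨h4.1, (h4.2 (maximalIdeal Br)).2⟩

include B D q in
theorem formallySmoothAdic_of_isRegularHom [IsLocalRing Br] [IsLocalRing Dq]
    (hB : CAlg.IsRegularHom B D) (𝔞 : Ideal Br) :
    EGA41.IsFormallySmoothAdic Br 𝔞 Dq (maximalIdeal Dq) := by
  have h1 := adicSmooth_of_isRegularHom B D q Br Dq hB
  have h2 := (Groth.Agent.S4537.result (maximalIdeal Dq)).mp h1
  intro C _ _ J hJ _ u hu
  exact h2 C J hJ ⟨1, by simp⟩ u hu

end Groth.Agent.Lib.Helper22.GRing
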