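import Mathlib
import Groth.Prelude.Def_EGA4b
import Groth.Agent.Lib.Helper22.CplTransfer

set_option autoImplicit false
set_option linter.style.haveILetI false
universe u
open CategoryTheory AlgebraicGeometry TensorProduct IsLocalRing

namespace Groth.Agent.Lib.Helper22.GScheme

theorem isGRing_of_cover (X : Scheme.{u})
    (h : ∀ x : X, ∃ U : X.Opens, x ∈ U ∧ IsAffineOpen U ∧ CAlg.IsGRing Γ(X, U))
    (U : X.Opens) (hU : IsAffineOpen U) : CAlg.IsGRing Γ(X, U) := by
  choose V hxV hV hG using h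
  haveI : IsLocallyNoetherian X := by
    refine isLocallyNoetherian_of_affine_cover (S := fun x : X => ⟨V x, hV x⟩) ?_
      (fun x => (hG x).1)
    rw [eq_top_iff]
    intro x _
    exact TopologicalSpace.Opens.mem_iSup.mpr ⟨x, hxV x⟩
  haveI hN : IsNoetherianRing Γ(X, U) := IsLocallyNoetherian.component_noetherian ⟨U, hU⟩
  refine ⟨hN, ?_⟩
  intro p hp
  let y : PrimeSpectrum Γ(X, U) := ⟨p, hp⟩
  have hx : hU.fromSpec y ∈ U := by
    have : hU.fromSpec y ∈ Set.range hU.fromSpec := ⟨y, rfl⟩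
    rw [hU.range_fromSpec] at this
    exact this
  set x := hU.fromSpec y with hxdef
  letI algU := TopCat.Presheaf.algebra_section_stalk X.presheaf ⟨x, hx⟩
  haveI locU : IsLocalization.AtPrime (X.presheaf.stalk x) p := hU.isLocalization_stalk' y hx
  letI algV := TopCat.Presheaf.algebra_section_stalk X.presheaf ⟨x, hxV x⟩
  haveI locV := (hV x).isLocalization_stalk ⟨x, hxV x⟩
  let q := ((hV x).primeIdealOf ⟨x, hxV x⟩).asIdeal
  let e1 : Localization.AtPrime q ≃ₐ[Γ(X, V x)] X.presheaf.stalk x :=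
    IsLocalization.algEquiv q.primeCompl _ _
  let e2 : Localization.AtPrime p ≃ₐ[Γ(X, U)] X.presheaf.stalk x :=
    IsLocalization.algEquiv p.primeCompl _ _
  haveI := (hG x).1
  exact Groth.Agent.Lib.Helper22.CplTransfer.isRegularHom_cpl_of_ringEquiv
    (e1.toRingEquiv.trans e2.toRingEquiv.symm) ((hG x).2 q)

end Groth.Agent.Lib.Helper22.GScheme
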