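import Mathlib
import Groth.Prelude.Def_CAlg2
import Groth.Prelude.Def_AlgSpMor5
import Groth.Agent.Lib.Helper22.GUFlatDescent
import Groth.Agent.Lib.Helper3.AlgSpChartPts
import Groth.Agent.Lib.Helper3.AlgSpHasAtMor

/-!
# Geometric unibranchness descends along morphisms of algebraic spaces flat at a point
-/

set_option autoImplicit false
set_option linter.style.haveILetI false
set_option linter.unusedSectionVars false
universe u

namespace Groth.Agent.Lib.Helper22.GUAlgSpFlat

open CategoryTheory CategoryTheory.Limits AlgebraicGeometry AlgSp Groth.Agent.Lib.Helper3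

/-- scheme version: flat stalk map descends geometric unibranchness -/
theorem gu_of_flat_stalkMap {W V : Scheme.{u}} (g : W ⟶ V) (v : W)
    (hflat : (g.stalkMap v).hom.Flat) (h : CAlg2.IsGeomUnibranch (W.presheaf.stalk v)) :
    CAlg2.IsGeomUnibranch (V.presheaf.stalk (g v)) := by
  letI : Algebra (V.presheaf.stalk (g v)) (W.presheaf.stalk v) := (g.stalkMap v).hom.toAlgebra
  haveI : Module.Flat (V.presheaf.stalk (g v)) (W.presheaf.stalk v) := hflat
  haveI : IsLocalHom (algebraMap (V.presheaf.stalk (g v)) (W.presheaf.stalk v)) :=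
    inferInstanceAs (IsLocalHom (g.stalkMap v).hom)
  exact Groth.Agent.Lib.Helper22.GUFlatDescent.flat_descent _ _ h

theorem main {S : Scheme.{u}} {X Y : AlgSp.Space S} (f : X ⟶ Y) (x : AlgSp.Points X.obj)
    (hf : AlgSp.IsFlatAtMor f.hom x)
    (hX : ∀ (U : Over S) (a : (AlgSp.yon S).obj U ⟶ X.obj) (v : ↥U.left), AlgSp.RepWith @Etale a →
      AlgSp.Points.ofPt a v = x → CAlg2.IsGeomUnibranch ↥(U.left.presheaf.stalk v))
    (V : Over S) (b : (AlgSp.yon S).obj V ⟶ Y.obj) (w : ↥V.left) (hb : AlgSp.RepWith @Etale b)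
    (hw : AlgSp.Points.ofPt b w = AlgSp.Points.map f.hom x) :
    CAlg2.IsGeomUnibranch ↥(V.left.presheaf.stalk w) := by
  obtain ⟨U₀, a₀, ha₀e, ha₀s⟩ := X.property.atlas
  obtain ⟨u₀, hu₀⟩ := exists_ofPt_eq a₀ ha₀s x
  obtain ⟨W, pV, pU, sq⟩ := exists_pullback_charts b hb.1 (a₀ ≫ f.hom)
  have hpU : Etale pU.left := hb.2 (a₀ ≫ f.hom) ((yon S).map pV) pU sq
  have ha : RepWith @Etale ((yon S).map pU ≫ a₀) := by
    haveI : (RepWith (S := S) @Etale).IsMultiplicative := repWith_isMultiplicative (S := S) (@Etale)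
    refine (RepWith @Etale).comp_mem _ _ ?_ ha₀e
    exact (repWith_yon_map_iff (@Etale) pU).mpr hpU
  have hpt : Points.ofPt b w = Points.ofPt (a₀ ≫ f.hom) u₀ := by
    rw [hw, ← hu₀, Points.map_ofPt]
  obtain ⟨v, hv1, hv2⟩ := exists_of_ofPt_eq_of_isPullback sq w u₀ hpt
  have hcomm : ((yon S).map pU ≫ a₀) ≫ f.hom = (yon S).map pV ≫ b := by
    rw [Category.assoc]
    exact sq.w.symm
  have hx : Points.ofPt ((yon S).map pU ≫ a₀) v = x := by
    rw [Points.ofPt_yon_map_comp, hv2, hu₀]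
  have hflat := hf ((yon S).map pU ≫ a₀) b pV v ha hb hcomm hx
  have hGU := hX W ((yon S).map pU ≫ a₀) v ha hx
  have := gu_of_flat_stalkMap pV.left v hflat hGU
  rw [hv1] at this
  exact this

end Groth.Agent.Lib.Helper22.GUAlgSpFlat
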