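import Mathlib

set_option autoImplicit false
universe u
open CategoryTheory CategoryTheory.Limits AlgebraicGeometry

namespace Groth.Agent.Lib.Helper22.GenEtale

variable {X Y : Scheme.{u}} [IsIntegral X] [IsIntegral Y] (f : X ⟶ Y)
  (e : f (genericPoint X) = genericPoint Y)

/-- the map of function fields induced by a dominant morphism -/
noncomputable abbrev ffMap : Y.functionField ⟶ X.functionField :=
  Y.presheaf.stalkSpecializes (specializes_of_eq e) ≫ f.stalkMap (genericPoint X)

omit [IsIntegral Y] in
theorem isIso_stalkSpecializes_of_eq {x y : Y} (h : x = y) (h' : x ⤳ y) :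
    IsIso (Y.presheaf.stalkSpecializes h') := by
  subst h
  rw [TopCat.Presheaf.stalkSpecializes_refl]
  infer_instance

theorem mem_of_nonempty (U : X.Opens) (hU : (U : Set X).Nonempty) : genericPoint X ∈ U :=
  ((genericPoint_spec X).mem_open_set_iff U.isOpen).mpr (by simpa using hU)

/-- generically unramified implies separable function field extension -/
theorem isSeparable_of_formallyUnramified [LocallyOfFiniteType f] (U : X.Opens)
    (hU : (U : Set X).Nonempty) [FormallyUnramified (U.ι ≫ f)] :
    letI := (ffMap f e).hom.toAlgebra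
    Algebra.IsSeparable Y.functionField X.functionField := by
  letI := (ffMap f e).hom.toAlgebra
  haveI := isIso_stalkSpecializes_of_eq e (specializes_of_eq e)
  have hξ := mem_of_nonempty U hU
  let ξ' : U.toScheme := ⟨genericPoint X, hξ⟩
  have h1 : ((U.ι ≫ f).stalkMap ξ').hom.FormallyUnramified :=
    FormallyUnramified.stalkMap (U.ι ≫ f) ξ'
  rw [Scheme.Hom.stalkMap_comp U.ι f ξ'] at h1
  have h2 : (f.stalkMap (genericPoint X)).hom.FormallyUnramified :=
    (RingHom.FormallyUnramified.respectsIso.cancel_right_isIso (f.stalkMap (U.ι ξ'))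
      (U.ι.stalkMap ξ')).mp h1
  have h3 : (ffMap f e).hom.FormallyUnramified := by
    exact (RingHom.FormallyUnramified.respectsIso.cancel_left_isIso
      (Y.presheaf.stalkSpecializes (specializes_of_eq e)) (f.stalkMap (genericPoint X))).mpr h2
  have h4 : (ffMap f e).hom.EssFiniteType := by
    change ((f.stalkMap (genericPoint X)).hom.comp
      (Y.presheaf.stalkSpecializes (specializes_of_eq e)).hom).EssFiniteType
    refine RingHom.EssFiniteType.comp ?_ (LocallyOfFiniteType.stalkMap f _)
    exact RingHom.FiniteType.essFiniteType (RingHom.FiniteType.of_surjective _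
      (ConcreteCategory.bijective_of_isIso
        (Y.presheaf.stalkSpecializes (specializes_of_eq e))).2)
  haveI : Algebra.FormallyUnramified Y.functionField X.functionField := h3
  haveI : Algebra.EssFiniteType Y.functionField X.functionField := h4
  exact Algebra.FormallyUnramified.isSeparable _ _

omit [IsIntegral X] [IsIntegral Y] in
/-- étaleness of `U → Y` from étaleness of the ring map on affine charts -/
theorem etale_of_appLE {V : Y.Opens} (hV : IsAffineOpen V) {U : X.Opens} (hU : IsAffineOpen U)
    (h : U ≤ f ⁻¹ᵁ V) (hE : (f.appLE V U h).hom.Etale) : Etale (U.ι ≫ f) := by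
  rw [← Scheme.Hom.resLE_comp_ι f h]
  haveI : IsAffine U.toScheme := hU
  haveI : IsAffine V.toScheme := hV
  haveI : Etale (f.resLE V U h) := by
    rw [HasRingHomProperty.iff_of_isAffine (P := @Etale)]
    exact (RingHom.Etale.respectsIso.arrow_mk_iso_iff (AlgebraicGeometry.arrowResLEAppIso f V U h)).mpr hE
  infer_instance

/-- separable function field extension implies generically étale -/
theorem exists_etale_open_of_isSeparable [LocallyOfFinitePresentation f]
    (hsep : letI := (ffMap f e).hom.toAlgebra
      Algebra.IsSeparable Y.functionField X.functionField) :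
    ∃ U : X.Opens, (U : Set X).Nonempty ∧ Etale (U.ι ≫ f) := by
  obtain ⟨_, ⟨V, hV, rfl⟩, hηV, -⟩ :=
    Y.isBasis_affineOpens.exists_subset_of_mem_open (Set.mem_univ (f (genericPoint X))) isOpen_univ
  obtain ⟨_, ⟨W, hW, rfl⟩, hξW, hWV⟩ :=
    X.isBasis_affineOpens.exists_subset_of_mem_open hηV (V.2.preimage f.continuous)
  have hfp := f.finitePresentation_appLE hV hW hWV
  haveI : Nonempty W := ⟨⟨genericPoint X, hξW⟩⟩
  haveI : Nonempty V := ⟨⟨f (genericPoint X), hηV⟩⟩
  letI algBA : Algebra Γ(Y, V) Γ(X, W) := (f.appLE V W hWV).hom.toAlgebra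
  haveI : Algebra.FinitePresentation Γ(Y, V) Γ(X, W) := hfp
  letI algKL : Algebra Y.functionField X.functionField := (ffMap f e).hom.toAlgebra
  letI algBL : Algebra Γ(Y, V) X.functionField :=
    ((algebraMap Γ(X, W) X.functionField).comp (algebraMap Γ(Y, V) Γ(X, W))).toAlgebra
  haveI : IsScalarTower Γ(Y, V) Γ(X, W) X.functionField := IsScalarTower.of_algebraMap_eq' rfl
  haveI : IsScalarTower Γ(Y, V) Y.functionField X.functionField := by
    apply IsScalarTower.of_algebraMap_eq'
    have hcat : f.appLE V W hWV ≫ X.germToFunctionField W =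
        Y.germToFunctionField V ≫ ffMap f e := by
      unfold ffMap Scheme.germToFunctionField
      rw [Y.presheaf.germ_stalkSpecializes_assoc (U := V) (x := f (genericPoint X))
        (y := genericPoint Y) _ (specializes_of_eq e), Scheme.Hom.germ_stalkMap]
      simp only [Scheme.Hom.appLE, Category.assoc, X.presheaf.germ_res]
    exact congrArg CommRingCat.Hom.hom hcat
  haveI := functionField_isFractionRing_of_isAffineOpen Y V hV
  haveI := functionField_isFractionRing_of_isAffineOpen X W hW
  haveI : Algebra.FormallyEtale Γ(Y, V) Y.functionField :=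
    Algebra.FormallyEtale.of_isLocalization (nonZeroDivisors Γ(Y, V))
  haveI : Algebra.FormallyEtale Y.functionField X.functionField :=
    Algebra.FormallyEtale.of_isSeparable _ _
  haveI : Algebra.FormallyEtale Γ(Y, V) X.functionField :=
    Algebra.FormallyEtale.comp Γ(Y, V) Y.functionField X.functionField
  haveI hloc : IsLocalization (⊥ : Ideal Γ(X, W)).primeCompl X.functionField := by
    rw [Ideal.primeCompl_bot]; infer_instance
  let eA : Localization.AtPrime (⊥ : Ideal Γ(X, W)) ≃ₐ[Γ(X, W)] X.functionField :=
    IsLocalization.algEquiv (⊥ : Ideal Γ(X, W)).primeCompl _ _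
  haveI : Algebra.IsEtaleAt Γ(Y, V) (⊥ : Ideal Γ(X, W)) :=
    Algebra.FormallyEtale.of_equiv (eA.restrictScalars Γ(Y, V)).symm
  obtain ⟨g, hg, hE⟩ := Algebra.exists_etale_of_isEtaleAt (R := Γ(Y, V)) (⊥ : Ideal Γ(X, W))
  refine ⟨X.basicOpen g, ?_, ?_⟩
  · rw [Set.nonempty_iff_ne_empty]
    intro h0
    apply hg
    have : X.basicOpen g = ⊥ := TopologicalSpace.Opens.ext h0
    rw [AlgebraicGeometry.basicOpen_eq_bot_iff] at this
    rw [this]; exact Ideal.zero_mem _
  · refine etale_of_appLE f hV (hW.basicOpen g) ((X.basicOpen_le g).trans hWV) ?_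
    have := hW.isLocalization_basicOpen g
    rw [← RingHom.etale_algebraMap] at hE
    convert!
      RingHom.Etale.propertyIsLocal.respectsIso.1 _
        (IsLocalization.algEquiv (.powers g) _ Γ(X, X.basicOpen g)).toRingEquiv hE
    ext
    dsimp
    simp only [IsScalarTower.algebraMap_apply Γ(Y, V) Γ(X, W) (Localization _)]
    rw [AlgEquiv.commutes]
    simp only [RingHom.algebraMap_toAlgebra, ← CommRingCat.comp_apply]
    exact (congrArg (fun φ : Γ(Y, V) ⟶ Γ(X, X.basicOpen g) => φ.hom _)
      (Scheme.Hom.appLE_map f hWV (homOfLE (X.basicOpen_le g)).op)).symm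

end Groth.Agent.Lib.Helper22.GenEtale
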