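import Mathlib
import Groth.Agent.Lib.Helper22.GenFibC
import Groth.Agent.Lib.Helper22.CplLocGlob
import Groth.Agent.Lib.Helper5.SerreLoc

/-!
# Generic formal fibres of finite extensions of regular local rings of characteristic zero:
the general case (helper22)
-/

set_option autoImplicit false
set_option linter.style.haveILetI false
set_option linter.unusedSectionVars false
universe u

namespace Groth.Agent.Lib.Helper22.GenFib

open IsLocalRing TensorProduct

/-- transport along a ring isomorphism of local rings -/
theorem generic_regular_of_ringEquiv {C C' : Type u} [CommRing C] [CommRing C'] [IsLocalRing C]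
    [IsLocalRing C'] [IsNoetherianRing C] (φ : C ≃+* C')
    (h : ∀ (q' : Ideal (EGA4.Cpl C')) [q'.IsPrime],
      q'.comap (algebraMap C' (EGA4.Cpl C')) = ⊥ → IsRegularLocalRing (Localization.AtPrime q'))
    (q : Ideal (EGA4.Cpl C)) [q.IsPrime] (hq : q.comap (algebraMap C (EGA4.Cpl C)) = ⊥) :
    IsRegularLocalRing (Localization.AtPrime q) := by
  haveI : IsNoetherianRing C' := isNoetherianRing_of_ringEquiv C φ
  letI : Algebra C C' := φ.toRingHom.toAlgebra
  haveI : IsLocalHom (algebraMap C C') := by
    rw [RingHom.algebraMap_toAlgebra]
    exact ⟨fun a ha => by simpa using ha.map φ.symm.toRingHom⟩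
  haveI : Module.Flat C C' :=
    RingHom.flat_algebraMap_iff.mp (RingHom.Flat.of_bijective φ.bijective)
  have hm : Ideal.map (algebraMap C C') (maximalIdeal C) = maximalIdeal C' :=
    IsLocalRing.map_ringEquiv_maximalIdeal φ
  have hk : Function.Surjective (IsLocalRing.ResidueField.map (algebraMap C C')) := by
    intro z
    obtain ⟨r', rfl⟩ := IsLocalRing.residue_surjective z
    obtain ⟨r, rfl⟩ := φ.surjective r'
    exact ⟨IsLocalRing.residue C r, rfl⟩
  obtain ⟨ε⟩ := Groth.Agent.Lib.Helper22.CplLocGlob.nonempty_cpl_algEquiv C C' hm hk
  haveI : IsScalarTower C C' (EGA4.Cpl C') := .of_algebraMap_eq (fun _ => rfl)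
  let ψ : EGA4.Cpl C' ≃+* EGA4.Cpl C := ε.symm.toRingEquiv
  apply isRegularLocalRing_localization_of_ringEquiv ψ q
  apply h
  rw [eq_bot_iff]
  intro x' hx'
  obtain ⟨x, rfl⟩ := φ.surjective x'
  rw [Ideal.mem_comap, Ideal.mem_comap] at hx'
  have h1 : (ψ : EGA4.Cpl C' →+* EGA4.Cpl C) (algebraMap C' (EGA4.Cpl C') (φ x)) =
      algebraMap C (EGA4.Cpl C) x := by
    change ε.symm (algebraMap C' (EGA4.Cpl C') (algebraMap C C' x)) = _
    rw [← IsScalarTower.algebraMap_apply, ε.symm.commutes]
  rw [h1] at hx'
  have h2 : x ∈ q.comap (algebraMap C (EGA4.Cpl C)) := hx'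
  rw [hq, Ideal.mem_bot] at h2
  rw [Ideal.mem_bot, h2, map_zero]

variable (A : Type u) [CommRing A] [IsRegularLocalRing A] [CharZero A]
  (B : Type u) [CommRing B] [IsDomain B] [Algebra A B] [Module.Finite A B]

theorem isRegularLocalRing_localization_cpl
    (hinj : Function.Injective (algebraMap A B)) (n : Ideal B) [hn : n.IsPrime]
    (q : Ideal (EGA4.Cpl (Localization.AtPrime n))) [q.IsPrime]
    (hq : q.comap (algebraMap (Localization.AtPrime n) (EGA4.Cpl (Localization.AtPrime n))) = ⊥) :
    IsRegularLocalRing (Localization.AtPrime q) := by
  classical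
  haveI : IsDomain A := (hinj.isDomain (algebraMap A B))
  haveI : IsNoetherianRing B := IsNoetherianRing.of_finite A B
  set p : Ideal A := n.comap (algebraMap A B) with hp
  haveI : p.IsPrime := Ideal.comap_isPrime _ _
  haveI hRreg : IsRegularLocalRing (Localization.AtPrime p) :=
    Groth.Agent.Lib.Helper5.SerreLoc.localization_regular A p
  have hinjAR : Function.Injective (algebraMap A (Localization.AtPrime p)) :=
    IsLocalization.injective (Localization.AtPrime p) p.primeCompl_le_nonZeroDivisors
  haveI : CharZero (Localization.AtPrime p) :=
    charZero_of_injective_algebraMap hinjAR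
  have hM0 : Algebra.algebraMapSubmonoid B p.primeCompl ≤ nonZeroDivisors B := by
    rintro _ ⟨a, ha, rfl⟩
    apply mem_nonZeroDivisors_of_ne_zero
    intro h0
    apply ha
    have : a = 0 := hinj (h0.trans (map_zero _).symm)
    rw [this]
    exact zero_mem _
  haveI : IsDomain (Localization (Algebra.algebraMapSubmonoid B p.primeCompl)) :=
    IsLocalization.isDomain_localization hM0
  have hinjBB' : Function.Injective
      (algebraMap B (Localization (Algebra.algebraMapSubmonoid B p.primeCompl))) :=
    IsLocalization.injective _ hM0
  have hinj' : Function.Injective (algebraMap (Localization.AtPrime p)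
      (Localization (Algebra.algebraMapSubmonoid B p.primeCompl))) := by
    rw [injective_iff_map_eq_zero]
    intro x hx
    obtain ⟨a, s, rfl⟩ := IsLocalization.exists_mk'_eq p.primeCompl x
    have h1 : algebraMap (Localization.AtPrime p)
        (Localization (Algebra.algebraMapSubmonoid B p.primeCompl))
        (IsLocalization.mk' (Localization.AtPrime p) a s) *
        algebraMap (Localization.AtPrime p)
        (Localization (Algebra.algebraMapSubmonoid B p.primeCompl))
        (algebraMap A (Localization.AtPrime p) s) =
        algebraMap (Localization.AtPrime p)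
        (Localization (Algebra.algebraMapSubmonoid B p.primeCompl))
        (algebraMap A (Localization.AtPrime p) a) := by
      rw [← map_mul, IsLocalization.mk'_spec]
    rw [hx, zero_mul, ← IsScalarTower.algebraMap_apply,
      IsScalarTower.algebraMap_apply A B] at h1
    have ha0 : a = 0 :=
      hinj ((hinjBB' (h1.symm.trans (map_zero _).symm)).trans (map_zero _).symm)
    rw [ha0]
    exact IsLocalization.mk'_zero s
  have hdisj : Disjoint (Algebra.algebraMapSubmonoid B p.primeCompl : Set B) (n : Set B) := by
    rw [Set.disjoint_left]
    rintro _ ⟨a, ha, rfl⟩ hmem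
    exact ha hmem
  set n' : Ideal (Localization (Algebra.algebraMapSubmonoid B p.primeCompl)) :=
    n.map (algebraMap B _) with hn'
  haveI hn'prime : n'.IsPrime :=
    IsLocalization.isPrime_of_isPrime_disjoint (Algebra.algebraMapSubmonoid B p.primeCompl) _ n hn
      hdisj
  have hcomap : n'.comap (algebraMap B _) = n :=
    IsLocalization.under_map_of_isPrime_disjoint (Algebra.algebraMapSubmonoid B p.primeCompl) _ hn
      hdisj
  haveI hn'max : n'.IsMaximal := by
    apply Ideal.isMaximal_of_isIntegral_of_isMaximal_comap (R := Localization.AtPrime p) n'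
    have hle : maximalIdeal (Localization.AtPrime p) ≤
        n'.comap (algebraMap (Localization.AtPrime p) _) := by
      intro x hx
      obtain ⟨a, s, rfl⟩ := IsLocalization.exists_mk'_eq p.primeCompl x
      rw [IsLocalization.AtPrime.mk'_mem_maximal_iff (Localization.AtPrime p) p] at hx
      rw [Ideal.mem_comap]
      have h1 : algebraMap (Localization.AtPrime p)
          (Localization (Algebra.algebraMapSubmonoid B p.primeCompl))
          (IsLocalization.mk' (Localization.AtPrime p) a s) *
          algebraMap (Localization.AtPrime p)
          (Localization (Algebra.algebraMapSubmonoid B p.primeCompl))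
          (algebraMap A (Localization.AtPrime p) s) =
          algebraMap B
          (Localization (Algebra.algebraMapSubmonoid B p.primeCompl))
          (algebraMap A B a) := by
        rw [← map_mul, IsLocalization.mk'_spec, ← IsScalarTower.algebraMap_apply,
          IsScalarTower.algebraMap_apply A B]
      have h2 : algebraMap B (Localization (Algebra.algebraMapSubmonoid B p.primeCompl))
          (algebraMap A B a) ∈ n' := Ideal.mem_map_of_mem _ hx
      rw [← h1] at h2
      rcases hn'prime.mem_or_mem h2 with h3 | h3
      · exact h3
      · exfalso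
        rw [← IsScalarTower.algebraMap_apply, IsScalarTower.algebraMap_apply A B] at h3
        have h4 : algebraMap A B s ∈ n'.comap (algebraMap B _) := h3
        rw [hcomap] at h4
        exact s.2 h4
    have hne : n'.comap (algebraMap (Localization.AtPrime p) _) ≠ ⊤ :=
      (Ideal.comap_isPrime _ _).ne_top
    rw [← (IsLocalRing.maximalIdeal.isMaximal _).eq_of_le hne hle]
    infer_instance
  -- the maximal case
  have hmaxcase := fun (q' : Ideal (EGA4.Cpl (Localization.AtPrime n'))) (_ : q'.IsPrime)
    (hq' : q'.comap (algebraMap (Localization.AtPrime n') (EGA4.Cpl (Localization.AtPrime n'))) = ⊥) =>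
    isRegularLocalRing_localization_cpl_maximal (Localization.AtPrime p)
      (Localization (Algebra.algebraMapSubmonoid B p.primeCompl)) hinj' n' q' hq'
  -- the isomorphism of localizations
  haveI hloc : IsLocalization.AtPrime (Localization.AtPrime n') n := by
    have this : IsLocalization (n'.comap (algebraMap B _)).primeCompl (Localization.AtPrime n') :=
      IsLocalization.isLocalization_isLocalization_atPrime_isLocalization
        (Algebra.algebraMapSubmonoid B p.primeCompl) (Localization.AtPrime n') n'
    have hpc : (n'.comap (algebraMap B _)).primeCompl = n.primeCompl := by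
      ext x
      change x ∉ n'.comap (algebraMap B _) ↔ x ∉ n
      rw [hcomap]
    rw [hpc] at this
    exact this
  let φ : Localization.AtPrime n ≃+* Localization.AtPrime n' :=
    (IsLocalization.algEquiv n.primeCompl (Localization.AtPrime n)
      (Localization.AtPrime n')).toRingEquiv
  haveI : IsNoetherianRing (Localization.AtPrime n) :=
    IsLocalization.isNoetherianRing n.primeCompl _ inferInstance
  exact generic_regular_of_ringEquiv φ (fun q' _ hq' => hmaxcase q' inferInstance hq') q hq

end Groth.Agent.Lib.Helper22.GenFib
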