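import Mathlib
import Groth.Agent.S1486
import Groth.Agent.S18056
import Groth.Agent.Lib.Helper28.RatFunIrr

set_option autoImplicit false
set_option linter.style.haveILetI false
set_option linter.unusedSectionVars false
universe u
open CategoryTheory CategoryTheory.Limits AlgebraicGeometry Opposite TopologicalSpace

namespace Groth.Agent.Lib.Helper22.GenStalk

theorem map_genericPoint {X' X : Scheme.{u}} (f : X' ⟶ X) [IrreducibleSpace X']
    [IrreducibleSpace X] [Flat f] : f (genericPoint X') = genericPoint X := by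
  have h1 : genericPoint X ⤳ f (genericPoint X') := genericPoint_specializes _
  obtain ⟨x', hx', hfx'⟩ := (Flat.generalizingMap f) h1
  have h2 : genericPoint X' ⤳ x' := genericPoint_specializes x'
  have : x' = genericPoint X' := (hx'.antisymm h2).eq
  rw [← hfx', this]

theorem formallySmooth_of_chart {R S Rp Sq : Type*} [CommRing R] [CommRing S] [CommRing Rp]
    [CommRing Sq] [Algebra R S] [Algebra R Rp] [Algebra S Sq] [Algebra Rp Sq] [Algebra R Sq]
    [IsScalarTower R S Sq] [IsScalarTower R Rp Sq]
    (M : Submonoid R) (N : Submonoid S) [IsLocalization M Rp] [IsLocalization N Sq]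
    [Algebra.FormallySmooth R S] : Algebra.FormallySmooth Rp Sq := by
  haveI : Algebra.FormallySmooth S Sq := Algebra.FormallySmooth.of_isLocalization N
  haveI : Algebra.FormallySmooth R Sq := Algebra.FormallySmooth.comp R S Sq
  exact Algebra.FormallySmooth.localization_base M

set_option backward.defeqAttrib.useBackward true in
set_option backward.isDefEq.respectTransparency false in
theorem formallySmooth_stalk {X' X : Scheme.{u}} (f : X' ⟶ X)
    (hf : MoreMor.IsFormallySmoothHom f) (x' : X') :
    letI := (f.stalkMap x').hom.toAlgebra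
    Algebra.FormallySmooth (X.presheaf.stalk (f x')) (X'.presheaf.stalk x') := by
  letI algRS := (f.stalkMap x').hom.toAlgebra
  obtain ⟨_, ⟨V₀, hV₀, rfl⟩, hxV₀, -⟩ :=
    X.isBasis_affineOpens.exists_subset_of_mem_open (Set.mem_univ (f x')) isOpen_univ
  obtain ⟨_, ⟨W, hW, rfl⟩, huW, hWV⟩ :=
    X'.isBasis_affineOpens.exists_subset_of_mem_open hxV₀ (V₀.2.preimage f.continuous)
  have hfs := (Groth.Agent.S1486.result f).mp hf W V₀ hW hV₀ hWV
  letI := (f.appLE V₀ W hWV).hom.toAlgebra
  haveI : Algebra.FormallySmooth Γ(X, V₀) Γ(X', W) := hfs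
  let algR := X.presheaf.algebra_section_stalk ⟨f x', hWV huW⟩
  have hlocR := hV₀.isLocalization_stalk ⟨f x', hWV huW⟩
  let algS := X'.presheaf.algebra_section_stalk ⟨x', huW⟩
  have hlocS := hW.isLocalization_stalk ⟨x', huW⟩
  letI algA₀S : Algebra Γ(X, V₀) (X'.presheaf.stalk x') :=
    ((algebraMap Γ(X', W) (X'.presheaf.stalk x')).comp (algebraMap Γ(X, V₀) Γ(X', W))).toAlgebra
  haveI : IsScalarTower Γ(X, V₀) Γ(X', W) (X'.presheaf.stalk x') :=
    IsScalarTower.of_algebraMap_eq (fun _ => rfl)
  have hnat : ∀ y : Γ(X, V₀), f.stalkMap x' (algebraMap Γ(X, V₀) (X.presheaf.stalk (f x')) y) =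
      algebraMap Γ(X', W) (X'.presheaf.stalk x') (algebraMap Γ(X, V₀) Γ(X', W) y) := by
    intro y
    change f.stalkMap x' (X.presheaf.germ V₀ (f x') (hWV huW) y) =
      X'.presheaf.germ W x' huW ((f.appLE V₀ W hWV) y)
    rw [Scheme.Hom.germ_stalkMap_apply, Scheme.Hom.appLE, CommRingCat.comp_apply,
      TopCat.Presheaf.germ_res_apply]
  haveI : IsScalarTower Γ(X, V₀) (X.presheaf.stalk (f x')) (X'.presheaf.stalk x') :=
    IsScalarTower.of_algebraMap_eq (fun y => (hnat y).symm)
  exact formallySmooth_of_chart (R := Γ(X, V₀)) (S := Γ(X', W))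
    (hV₀.primeIdealOf ⟨f x', hWV huW⟩).asIdeal.primeCompl
    (hW.primeIdealOf ⟨x', huW⟩).asIdeal.primeCompl

theorem exists_field_subring_of_ringHom {A B : Type*} [CommRing A] [CommRing B] [Nontrivial B]
    (φ : A →+* B) (hK : ∃ K : Subring A, IsField K) : ∃ K : Subring B, IsField K := by
  obtain ⟨K, hK⟩ := hK
  letI := hK.toField
  let ψ : K →+* B := φ.comp K.subtype
  have hinj : Function.Injective ψ := ψ.injective
  refine ⟨ψ.range, ?_⟩
  have hbij : Function.Bijective ψ.rangeRestrict :=
    ⟨by
      intro a b hab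
      apply hinj
      exact congrArg Subtype.val hab, ψ.rangeRestrict_surjective⟩
  exact MulEquiv.isField hK (RingEquiv.ofBijective _ hbij).symm.toMulEquiv

theorem length_eq_of_point {X' X : Scheme.{u}} (f : X' ⟶ X) [Flat f]
    (hf : MoreMor.IsFormallySmoothHom f) (x' : X')
    [IsArtinianRing (X'.presheaf.stalk x')] [IsArtinianRing (X.presheaf.stalk (f x'))]
    (hK : ∃ K : Subring Γ(X, ⊤), IsField K) :
    Module.length (X'.presheaf.stalk x') (X'.presheaf.stalk x') =
      Module.length (X.presheaf.stalk (f x')) (X.presheaf.stalk (f x')) := by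
  letI algRS := (f.stalkMap x').hom.toAlgebra
  haveI : Module.Flat (X.presheaf.stalk (f x')) (X'.presheaf.stalk x') :=
    AlgebraicGeometry.Flat.stalkMap f x'
  haveI : Algebra.FormallySmooth (X.presheaf.stalk (f x')) (X'.presheaf.stalk x') :=
    formallySmooth_stalk f hf x'
  have hK' : ∃ K : Subring (X.presheaf.stalk (f x')), IsField K :=
    exists_field_subring_of_ringHom (X.presheaf.germ ⊤ (f x') trivial).hom hK
  exact (Groth.Agent.S18056.result (X.presheaf.stalk (f x')) (X'.presheaf.stalk x') hK').symm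

theorem length_congr {X : Scheme.{u}} {x y : X} (h : x = y) :
    Module.length (X.presheaf.stalk x) (X.presheaf.stalk x) =
      Module.length (X.presheaf.stalk y) (X.presheaf.stalk y) := by
  subst h; rfl

theorem main {X' X : Scheme.{u}} (f : X' ⟶ X)
    [IrreducibleSpace ↥X'] [IrreducibleSpace ↥X] [IsNoetherian X'] [IsNoetherian X] [Flat f]
    (hf : MoreMor.IsFormallySmoothHom f) (hK : ∃ K : Subring Γ(X, ⊤), IsField K) :
    Module.length (X'.presheaf.stalk (genericPoint X')) (X'.presheaf.stalk (genericPoint X'))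
      = Module.length (X.presheaf.stalk (genericPoint X)) (X.presheaf.stalk (genericPoint X)) := by
  have h := map_genericPoint f
  haveI : IsArtinianRing (X'.presheaf.stalk (genericPoint X')) :=
    Groth.Agent.Lib.Helper28.RatFunLib.isArtinianRing_stalk_genericPoint X'
  haveI : IsArtinianRing (X.presheaf.stalk (f (genericPoint X'))) := by
    rw [h]
    exact Groth.Agent.Lib.Helper28.RatFunLib.isArtinianRing_stalk_genericPoint X
  rw [length_eq_of_point f hf (genericPoint X') hK]
  exact length_congr h

end Groth.Agent.Lib.Helper22.GenStalk
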