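import Mathlib
import Groth.Agent.Lib.Helper22.GeomConn

set_option autoImplicit false
set_option linter.style.haveILetI false
universe u
noncomputable section
namespace Groth.Agent.Lib.Helper22.GeomConn2

open TensorProduct Topology Groth.Agent.Lib.Helper22.GeomConn

/-- idempotents of `R ⊗ S` come from `R` when `S` is geometrically connected -/
theorem exists_idempotent_of_geomConn {k R S : Type u} [Field k] [CommRing R] [CommRing S]
    [Algebra k R] [Algebra k S]
    (hS : ∀ (k' : Type u) [Field k'] [Algebra k k'], ConnectedSpace (PrimeSpectrum (k' ⊗[k] S)))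
    (x : R ⊗[k] S) (hx : IsIdempotentElem x) :
    ∃ e : R, IsIdempotentElem e ∧ algebraMap R (R ⊗[k] S) e = x := by
  let f := PrimeSpectrum.comap (algebraMap R (R ⊗[k] S))
  have hopen : IsOpenMap f := PrimeSpectrum.isOpenMap_comap_algebraMap_tensorProduct_of_field
  have hfib : ∀ p, IsConnected (f ⁻¹' {p}) := by
    intro p
    have e1 := PrimeSpectrum.preimageHomeomorphFiber R (R ⊗[k] S) p
    have e2 := PrimeSpectrum.homeomorphOfRingEquiv (fiberEquiv (k := k) R S p).toRingEquiv
    haveI := hS p.asIdeal.ResidueField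
    have h3 : ConnectedSpace (f ⁻¹' {p}) := (e1.trans e2).symm.surjective.connectedSpace
      (e1.trans e2).symm.continuous
    exact isConnected_iff_connectedSpace.mpr h3
  let U : Set (PrimeSpectrum (R ⊗[k] S)) := PrimeSpectrum.basicOpen x
  have hU : IsClopen U := PrimeSpectrum.isClopen_iff.mpr ⟨x, hx, rfl⟩
  have hsat : ∀ q q', q' ∈ U → f q = f q' → q ∈ U := by
    intro q q' hq' hqq'
    have h1 : f ⁻¹' {f q'} ⊆ U :=
      (hfib (f q')).isPreconnected.subset_isClopen hU ⟨q', rfl, hq'⟩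
    exact h1 hqq'
  have hsatc : ∀ q q', q' ∈ Uᶜ → f q = f q' → q ∈ Uᶜ := by
    intro q q' hq' hqq' hq
    exact hq' (hsat q' q hq hqq'.symm)
  have hcompl : (f '' U)ᶜ = f '' Uᶜ := by
    ext p
    constructor
    · intro hp
      obtain ⟨q, hq⟩ := (hfib p).nonempty
      refine ⟨q, ?_, hq⟩
      intro hqU
      exact hp ⟨q, hqU, hq⟩
    · rintro ⟨q, hq, rfl⟩ ⟨q', hq', hqq'⟩
      exact hsatc q' q hq hqq' hq'
  have hclopen : IsClopen (f '' U) := by
    refine ⟨?_, hopen U hU.isOpen⟩
    rw [← isOpen_compl_iff, hcompl]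
    exact hopen _ hU.compl.isOpen
  obtain ⟨e, he, hfe⟩ := PrimeSpectrum.isClopen_iff.mp hclopen
  refine ⟨e, he, ?_⟩
  apply PrimeSpectrum.basicOpen_injOn_isIdempotentElem (he.map (algebraMap R (R ⊗[k] S))) hx
  apply SetLike.coe_injective
  show f ⁻¹' (PrimeSpectrum.basicOpen e : Set _) = U
  rw [← hfe]
  ext q
  constructor
  · rintro ⟨q', hq', hqq'⟩
    exact hsat q q' hq' hqq'.symm
  · intro hq
    exact ⟨q, hq, rfl⟩

end Groth.Agent.Lib.Helper22.GeomConn2
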