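import Mathlib
import Groth.Agent.Lib.Helper22.GeomIrr

set_option autoImplicit false
universe u
noncomputable section
namespace Groth.Agent.Lib.Helper22.GeomIrr2

open TensorProduct

theorem existsUnique_minimalPrime_iff {A : Type*} [CommRing A] :
    (∃! p : Ideal A, p ∈ minimalPrimes A) ↔ IrreducibleSpace (PrimeSpectrum A) := by
  rw [PrimeSpectrum.irreducibleSpace_iff_isPrime_nilradical]
  constructor
  · rintro ⟨p, hp, huniq⟩
    have : nilradical A = p := by
      rw [nilradical, ← Ideal.sInf_minimalPrimes]
      apply le_antisymm
      · exact sInf_le hp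
      · apply le_sInf
        intro q hq
        rw [huniq q hq]
    rw [this]
    exact hp.1.1
  · intro h
    refine ⟨nilradical A, ?_, ?_⟩
    · refine ⟨⟨h, bot_le⟩, ?_⟩
      intro q hq _
      have := hq.1
      exact nilradical_le_prime q
    · intro q hq
      have h1 : nilradical A ≤ q := by
        have := hq.1.1
        exact nilradical_le_prime q
      exact le_antisymm (hq.2 ⟨h, bot_le⟩ h1) h1

end Groth.Agent.Lib.Helper22.GeomIrr2
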