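import Mathlib
import Groth.Agent.Lib.Helper22.GeomConn

set_option autoImplicit false
set_option linter.style.haveILetI false
universe u
noncomputable section
namespace Groth.Agent.Lib.Helper22.GeomIrr5

open TensorProduct Groth.Agent.Lib.Helper22.GeomConn Groth.Agent.S9627

theorem mem_minimalPrimes_iff' {A : Type*} [CommRing A] {p : Ideal A} :
    p ∈ minimalPrimes A ↔ p.IsPrime ∧ ∀ q : Ideal A, q.IsPrime → q ≤ p → p ≤ q := by
  constructor
  · intro h
    exact ⟨h.1.1, fun q hq hqp => h.2 ⟨hq, bot_le⟩ hqp⟩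
  · rintro ⟨hp, h⟩
    exact ⟨⟨hp, bot_le⟩, fun q hq hqp => h q hq.1 hqp⟩

variable {k R S : Type u} [Field k] [CommRing R] [CommRing S] [Algebra k R] [Algebra k S]

/-- each fibre of `Spec (R ⊗ S) → Spec R` has a least element when `S` is geometrically
irreducible. -/
theorem exists_least_in_fibre
    (hS : ∀ (k' : Type u) [Field k'] [Algebra k k'], IrreducibleSpace (PrimeSpectrum (k' ⊗[k] S)))
    (p : Ideal R) [hp : p.IsPrime] :
    ∃ P₀ : Ideal (R ⊗[k] S), P₀.IsPrime ∧ P₀.comap (algebraMap R (R ⊗[k] S)) = p ∧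
      ∀ Q : Ideal (R ⊗[k] S), Q.IsPrime → Q.comap (algebraMap R (R ⊗[k] S)) = p → P₀ ≤ Q := by
  let pp : PrimeSpectrum R := ⟨p, hp⟩
  have hirr : IrreducibleSpace (PrimeSpectrum (pp.asIdeal.Fiber (R ⊗[k] S))) :=
    haveI := hS pp.asIdeal.ResidueField
    irr_of_equiv (fiberEquiv (k := k) R S pp).toRingEquiv
  have hN := PrimeSpectrum.irreducibleSpace_iff_isPrime_nilradical.mp hirr
  let o := PrimeSpectrum.preimageOrderIsoFiber R (R ⊗[k] S) pp
  let N : PrimeSpectrum (pp.asIdeal.Fiber (R ⊗[k] S)) := ⟨nilradical _, hN⟩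
  let P₀ := o.symm N
  refine ⟨P₀.1.asIdeal, P₀.1.2, ?_, ?_⟩
  · have := P₀.2
    simp only [Set.mem_preimage, Set.mem_singleton_iff] at this
    exact congrArg PrimeSpectrum.asIdeal this
  · intro Q hQ hQp
    let Q' : (PrimeSpectrum.comap (algebraMap R (R ⊗[k] S))) ⁻¹' {pp} :=
      ⟨⟨Q, hQ⟩, by
        simp only [Set.mem_preimage, Set.mem_singleton_iff]
        exact PrimeSpectrum.ext hQp⟩
    have h1 : N ≤ o Q' := by
      show nilradical _ ≤ (o Q').asIdeal
      exact nilradical_le_prime _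
    have h2 : P₀ ≤ Q' := by
      rw [← o.le_iff_le]
      simpa [P₀] using h1
    exact h2

theorem bijOn_minimalPrimes
    (hS : ∀ (k' : Type u) [Field k'] [Algebra k k'], IrreducibleSpace (PrimeSpectrum (k' ⊗[k] S))) :
    Set.BijOn (Ideal.comap (algebraMap R (R ⊗[k] S))) (minimalPrimes (R ⊗[k] S))
      (minimalPrimes R) := by
  refine ⟨?_, ?_, ?_⟩
  · -- MapsTo
    intro P hP
    rw [mem_minimalPrimes_iff'] at hP ⊢
    obtain ⟨hPp, hPmin⟩ := hP
    refine ⟨Ideal.comap_isPrime _ _, ?_⟩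
    intro q hq hqP
    haveI : P.LiesOver (P.comap (algebraMap R (R ⊗[k] S))) := ⟨rfl⟩
    obtain ⟨Q, hQP, hQ, hQq⟩ := Ideal.exists_ideal_le_liesOver_of_le (p := q) P hqP
    have h1 : P ≤ Q := hPmin Q hQ hQP
    have h2 : Q = P := le_antisymm hQP h1
    rw [← h2, ← Ideal.under_def, ← hQq.over]
  · -- InjOn
    intro P hP P' hP' heq
    rw [mem_minimalPrimes_iff'] at hP hP'
    haveI := hP.1
    obtain ⟨P₀, hP₀, hP₀p, hleast⟩ :=
      exists_least_in_fibre hS (P.comap (algebraMap R (R ⊗[k] S)))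
    have h1 : P₀ ≤ P := hleast P hP.1 rfl
    have h2 : P₀ ≤ P' := hleast P' hP'.1 heq.symm
    have h3 : P = P₀ := le_antisymm (hP.2 P₀ hP₀ h1) h1
    have h4 : P' = P₀ := le_antisymm (hP'.2 P₀ hP₀ h2) h2
    rw [h3, h4]
  · -- SurjOn
    intro p hp
    rw [mem_minimalPrimes_iff'] at hp
    haveI := hp.1
    obtain ⟨P₀, hP₀, hP₀p, hleast⟩ := exists_least_in_fibre hS p
    refine ⟨P₀, ?_, hP₀p⟩
    rw [mem_minimalPrimes_iff']
    refine ⟨hP₀, ?_⟩
    intro Q hQ hQP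
    apply hleast Q hQ
    have h1 : Q.comap (algebraMap R (R ⊗[k] S)) ≤ p := hP₀p ▸ Ideal.comap_mono hQP
    exact le_antisymm h1 (hp.2 _ (Ideal.comap_isPrime _ _) h1)

end Groth.Agent.Lib.Helper22.GeomIrr5
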