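import Mathlib
import Groth.Prelude.Def_FDesc
import Groth.Agent.Lib.Helper22.SchGeomConn8
import Groth.Agent.Lib.Helper18.GeomIrrGen

/-!
# Geometric irreducibility via a geometrically irreducible generic fibre (helper22)
-/

set_option autoImplicit false
set_option linter.style.haveILetI false
universe u
noncomputable section
namespace Groth.Agent.Lib.Helper22.GeomIrrFib

open TensorProduct CategoryTheory CategoryTheory.Limits AlgebraicGeometry
open Groth.Agent.Lib.Helper22.SchGeomConn Groth.Agent.Lib.Helper18

variable {k : Type u} [Field k]

/-- The generic residue field of a geometrically irreducible irreducible `k`-scheme is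
geometrically irreducible over `k`. -/
theorem geometricallyIrreducible_specMap_resMap_generic {C : Scheme.{u}}
    (fC : C ⟶ Spec (CommRingCat.of k)) [IrreducibleSpace ↥C] [GeometricallyIrreducible fC] :
    GeometricallyIrreducible (Spec.map (CommRingCat.ofHom
      (GeomIrrGen.resMap fC (genericPoint C)))) := by
  letI := (GeomIrrGen.resMap fC (genericPoint C)).toAlgebra
  change GeometricallyIrreducible (Spec.map (CommRingCat.ofHom
    (algebraMap k (C.residueField (genericPoint C)))))
  rw [GeometricallyIrreducible.eq_geometrically,
    geometrically_iff_of_commRing_of_isClosedUnderIsomorphisms]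
  intro K' _ _
  haveI : IrreducibleSpace ↥(pullback fC (Spec.map (CommRingCat.ofHom (algebraMap k K')))) :=
    pullback_of_geometrically
      (GeometricallyIrreducible.geometrically_irreducibleSpace (f := fC)) K' _
  haveI h1 : IrreducibleSpace (PrimeSpectrum (C.residueField (genericPoint C) ⊗[k] K')) :=
    GeomIrrGen.irreducibleSpace_tensor_of_bc fC K'
  rw [(pullbackSpecIso k (C.residueField (genericPoint C)) K').hom.homeomorph.irreducibleSpace_iff]
  exact inferInstanceAs (IrreducibleSpace (PrimeSpectrum (C.residueField (genericPoint C) ⊗[k] K')))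

/-- If `X → C` is flat, `X` and `C` irreducible, `C` geometrically irreducible over `k` and the
generic fibre geometrically irreducible over `κ(η)`, then `X` is geometrically irreducible over
`k`. -/
theorem geometricallyIrreducible_of_generic_fibre {X C : Scheme.{u}}
    (fX : X ⟶ Spec (CommRingCat.of k)) (fC : C ⟶ Spec (CommRingCat.of k)) (f : X ⟶ C)
    (hf : f ≫ fC = fX) [IrreducibleSpace ↥X] [IrreducibleSpace ↥C]
    [GeometricallyIrreducible fC] [Flat f]
    [GeometricallyIrreducible (f.fiberToSpecResidueField (genericPoint C))] :
    GeometricallyIrreducible fX := by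
  set η := genericPoint C with hη
  set ξ := genericPoint X with hξ
  -- `f ξ = η`
  have hfξ : f ξ = η := by
    have h1 : η ⤳ f ξ := (genericPoint_spec C).specializes (Set.mem_univ _)
    obtain ⟨x', hx', hx'η⟩ := Flat.generalizingMap f h1
    have h2 : ξ ⤳ x' := (genericPoint_spec X).specializes (Set.mem_univ _)
    rw [← (hx'.antisymm h2).eq]
    exact hx'η
  let g := f.fiberι η
  haveI hres : GeometricallyIrreducible (C.fromSpecResidueField η ≫ fC) := by
    rw [GeomIrrGen.fromSpecResidueField_comp fC η]
    exact geometricallyIrreducible_specMap_resMap_generic fC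
  haveI : Subsingleton ↥(Spec (CommRingCat.of k)) :=
    Groth.Agent.Lib.Helper22.SchGeomIrr.subsingleton_spec_field
  haveI : Subsingleton ↥(Spec (C.residueField η)) :=
    inferInstanceAs (Subsingleton (PrimeSpectrum (C.residueField η)))
  haveI : UniversallyOpen (f.fiberToSpecResidueField η) := inferInstance
  haveI : UniversallyOpen (C.fromSpecResidueField η ≫ fC) := inferInstance
  haveI hcomp : GeometricallyIrreducible (g ≫ fX) := by
    have h1 : g ≫ fX = f.fiberToSpecResidueField η ≫ (C.fromSpecResidueField η ≫ fC) := by
      rw [← hf, ← Category.assoc, ← Category.assoc]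
      congr 1
      exact f.fiber_fac η
    rw [h1]
    exact GeometricallyIrreducible.comp _ _
  have hdense : closure (Set.range g) = Set.univ := by
    have hξr : ξ ∈ Set.range g := by
      rw [Scheme.Hom.range_fiberι]
      exact hfξ
    rw [Set.eq_univ_iff_forall]
    intro x
    have h2 : ξ ⤳ x := (genericPoint_spec X).specializes (Set.mem_univ _)
    exact closure_mono (Set.singleton_subset_iff.mpr hξr) h2.mem_closure
  rw [GeometricallyIrreducible.eq_geometrically, geometrically_iff_of_isClosedUnderIsomorphisms]
  intro K _ y
  obtain ⟨φ, rfl⟩ := Spec.map_surjective y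
  algebraize [φ.hom]
  have h3 := isIrreducible_preimage_closure_range fX g K
  rw [hdense, Set.preimage_univ] at h3
  exact (irreducibleSpace_def _).mpr h3

end Groth.Agent.Lib.Helper22.GeomIrrFib
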