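import Mathlib
import Groth.Prelude.Def_FDesc
import Groth.Agent.S4630
import Groth.Agent.S4631
import Groth.Agent.S2535
import Groth.Agent.Lib.Helper22.SchGeomConn2
import Groth.Agent.Lib.Helper13.IntegralNhd

/-!
# Geometric pointwise integrality vs. counting components (helper22)
-/

set_option autoImplicit false
set_option linter.style.haveILetI false
universe u
noncomputable section
namespace Groth.Agent.Lib.Helper22.GeomPtIntCard

open CategoryTheory CategoryTheory.Limits AlgebraicGeometry
open Groth.Agent.Lib.Helper22.SchGeomConn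

section Topology

variable {T : Type*} [TopologicalSpace T]

/-- The map from irreducible components to connected components. -/
def compMap (Z : irreducibleComponents T) : ConnectedComponents T :=
  ConnectedComponents.mk Z.2.1.nonempty.some

theorem compMap_eq_mk (Z : irreducibleComponents T) {z : T} (hz : z ∈ Z.1) :
    compMap Z = ConnectedComponents.mk z := by
  unfold compMap
  rw [ConnectedComponents.coe_eq_coe']
  exact Z.2.1.isConnected.isPreconnected.subset_connectedComponent hz Z.2.1.nonempty.some_mem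

theorem compMap_surjective : Function.Surjective (compMap (T := T)) := by
  intro c
  obtain ⟨x, rfl⟩ := ConnectedComponents.surjective_coe c
  exact ⟨⟨irreducibleComponent x, irreducibleComponent_mem_irreducibleComponents x⟩,
    compMap_eq_mk _ mem_irreducibleComponent⟩

/-- If the irreducible components of a Noetherian space are pairwise disjoint, there are as many
as connected components. -/
theorem card_eq_of_disjoint [TopologicalSpace.NoetherianSpace T]
    (hdisj : ∀ Z ∈ irreducibleComponents T, ∀ Z' ∈ irreducibleComponents T, ∀ x, x ∈ Z → x ∈ Z' →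
      Z = Z') :
    Nat.card ↥(irreducibleComponents T) = Nat.card (ConnectedComponents T) := by
  apply Nat.card_eq_of_bijective compMap
  refine ⟨?_, compMap_surjective⟩
  rintro ⟨Z, hZ⟩ ⟨Z', hZ'⟩ h
  have hfin : (irreducibleComponents T).Finite :=
    TopologicalSpace.NoetherianSpace.finite_irreducibleComponents
  -- `Z` is clopen
  have hZcl : IsClosed Z := isClosed_of_mem_irreducibleComponents Z hZ
  have hothers : IsClosed (⋃₀ (irreducibleComponents T \ {Z})) := by
    rw [Set.sUnion_eq_biUnion]
    exact hfin.sdiff.isClosed_biUnion fun W hW => isClosed_of_mem_irreducibleComponents W hW.1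
  have hZeq : Z = (⋃₀ (irreducibleComponents T \ {Z}))ᶜ := by
    ext y
    constructor
    · rintro hy ⟨W, ⟨hW, hne⟩, hyW⟩
      exact hne (hdisj W hW Z hZ y hyW hy)
    · intro hy
      by_contra hyZ
      apply hy
      refine ⟨irreducibleComponent y, ⟨irreducibleComponent_mem_irreducibleComponents y, ?_⟩,
        mem_irreducibleComponent⟩
      intro heq
      rw [Set.mem_singleton_iff] at heq
      exact hyZ (heq ▸ mem_irreducibleComponent)
  have hZopen : IsOpen Z := by rw [hZeq]; exact hothers.isOpen_compl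
  have hclopen : IsClopen Z := ⟨hZcl, hZopen⟩
  obtain ⟨z, hz⟩ := hZ.1.nonempty
  obtain ⟨z', hz'⟩ := hZ'.1.nonempty
  have h1 : compMap ⟨Z, hZ⟩ = ConnectedComponents.mk z := compMap_eq_mk ⟨Z, hZ⟩ hz
  have h2 : compMap ⟨Z', hZ'⟩ = ConnectedComponents.mk z' := compMap_eq_mk ⟨Z', hZ'⟩ hz'
  rw [h1, h2, ConnectedComponents.coe_eq_coe'] at h
  have hz'Z : z' ∈ Z := by
    have := hclopen.connectedComponent_subset hz
    rw [← connectedComponent_eq h] at this
    exact this mem_connectedComponent
  exact Subtype.ext (hdisj Z hZ Z' hZ' z' hz'Z hz')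

/-- Conversely, if a Noetherian space has as many irreducible as connected components, the
irreducible components are pairwise disjoint. -/
theorem disjoint_of_card_eq [TopologicalSpace.NoetherianSpace T]
    (hcard : Nat.card ↥(irreducibleComponents T) = Nat.card (ConnectedComponents T)) :
    ∀ Z ∈ irreducibleComponents T, ∀ Z' ∈ irreducibleComponents T, ∀ x, x ∈ Z → x ∈ Z' →
      Z = Z' := by
  haveI : Finite ↥(irreducibleComponents T) :=
    (TopologicalSpace.NoetherianSpace.finite_irreducibleComponents (α := T)).to_subtype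
  have hbij : Function.Bijective (compMap (T := T)) :=
    compMap_surjective.bijective_of_nat_card_le hcard.le
  intro Z hZ Z' hZ' x hxZ hxZ'
  have h1 : compMap ⟨Z, hZ⟩ = ConnectedComponents.mk x := compMap_eq_mk ⟨Z, hZ⟩ hxZ
  have h2 : compMap ⟨Z', hZ'⟩ = ConnectedComponents.mk x := compMap_eq_mk ⟨Z', hZ'⟩ hxZ'
  exact congrArg Subtype.val (hbij.1 (h1.trans h2.symm))

end Topology

/-- Lemma B: in a reduced scheme with finitely many irreducible components, a point lying on a
unique irreducible component has a domain as local ring. -/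
theorem isDomain_stalk_of_unique_component {X : Scheme.{u}} [AlgebraicGeometry.IsReduced X]
    (hfin : (irreducibleComponents X).Finite) (x : X)
    (huniq : ∀ Z ∈ irreducibleComponents X, ∀ Z' ∈ irreducibleComponents X, x ∈ Z → x ∈ Z' →
      Z = Z') : IsDomain (X.presheaf.stalk x) := by
  classical
  let C₂ : Set (Set X) := {Z ∈ irreducibleComponents X | x ∉ Z}
  have hC₂fin : C₂.Finite := hfin.subset (fun Z hZ => hZ.1)
  have hclosed : IsClosed (⋃₀ C₂) := by
    rw [Set.sUnion_eq_biUnion]
    exact hC₂fin.isClosed_biUnion (fun Z hZ => isClosed_of_mem_irreducibleComponents Z hZ.1)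
  let X₀ : X.Opens := ⟨(⋃₀ C₂)ᶜ, hclosed.isOpen_compl⟩
  have hxX₀ : x ∈ X₀ := by
    show x ∈ (⋃₀ C₂)ᶜ
    rintro ⟨Z, hZ, hxZ⟩
    exact hZ.2 hxZ
  let Z₁ := irreducibleComponent x
  have hZ₁ : Z₁ ∈ irreducibleComponents X := irreducibleComponent_mem_irreducibleComponents x
  have hxZ₁ : x ∈ Z₁ := mem_irreducibleComponent
  have hsub : (X₀ : Set X) ⊆ Z₁ := by
    intro y hy
    have hyZ : irreducibleComponent y ∈ irreducibleComponents X :=
      irreducibleComponent_mem_irreducibleComponents y
    by_cases hx : x ∈ irreducibleComponent y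
    · rw [huniq Z₁ hZ₁ _ hyZ hxZ₁ hx]
      exact mem_irreducibleComponent
    · exact absurd ⟨irreducibleComponent y, ⟨hyZ, hx⟩, mem_irreducibleComponent⟩ hy
  have hirr : IsIrreducible (X₀ : Set X) := by
    refine ⟨⟨x, hxX₀⟩, ?_⟩
    intro A B hA hB ⟨a, haX₀, haA⟩ ⟨b, hbX₀, hbB⟩
    have h := hZ₁.1.2 (A ∩ X₀) (B ∩ X₀) (hA.inter X₀.isOpen) (hB.inter X₀.isOpen)
      ⟨a, hsub haX₀, haA, haX₀⟩ ⟨b, hsub hbX₀, hbB, hbX₀⟩
    obtain ⟨c, -, ⟨hcA, hcX₀⟩, ⟨hcB, -⟩⟩ := h
    exact ⟨c, hcX₀, hcA, hcB⟩
  haveI : IrreducibleSpace X₀.toScheme := Subtype.irreducibleSpace hirr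
  haveI : IsIntegral X₀.toScheme := isIntegral_of_irreducibleSpace_of_isReduced _
  let x₀ : X₀.toScheme := ⟨x, hxX₀⟩
  haveI : IsDomain (X₀.toScheme.presheaf.stalk x₀) := inferInstance
  exact (X₀.stalkIso x₀).commRingCatIsoToRingEquiv.symm.toMulEquiv.isDomain _

variable {k : Type u} [Field k] {X : Scheme.{u}} (f : X ⟶ Spec (CommRingCat.of k))

/-- EGA IV 4.6.x. -/
theorem forall_isGeomPtIntegralAt_iff {Ω : Type u} [Field Ω] [Algebra k Ω] [IsAlgClosed Ω]
    [LocallyOfFiniteType f] [QuasiCompact f] :
    (∀ x : X, FBase.IsGeomPtIntegralAt f x) ↔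
      (GeometricallyReduced f ∧
        Nat.card ↥(irreducibleComponents ↥(FBase.bc f Ω)) =
          Nat.card (_root_.ConnectedComponents ↥(FBase.bc f Ω))) := by
  haveI : LocallyOfFiniteType (FBase.bcStr f Ω) := by
    change LocallyOfFiniteType (pullback.snd f _)
    infer_instance
  haveI : QuasiCompact (FBase.bcStr f Ω) := by
    change QuasiCompact (pullback.snd f _)
    infer_instance
  haveI : IsLocallyNoetherian (FBase.bc f Ω) :=
    LocallyOfFiniteType.isLocallyNoetherian (FBase.bcStr f Ω)
  haveI : CompactSpace ↥(FBase.bc f Ω) :=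
    QuasiCompact.compactSpace_of_compactSpace (FBase.bcStr f Ω)
  haveI : IsNoetherian (FBase.bc f Ω) := ⟨⟩
  constructor
  · intro H
    have hdom : ∀ x' : ↥(FBase.bc f Ω), IsDomain ((FBase.bc f Ω).presheaf.stalk x') :=
      fun x' => H _ Ω x' rfl
    refine ⟨?_, ?_⟩
    · haveI : AlgebraicGeometry.IsReduced (FBase.bc f Ω) := by
        haveI : ∀ x' : ↥(FBase.bc f Ω), _root_.IsReduced ((FBase.bc f Ω).presheaf.stalk x') :=
          fun x' => by haveI := hdom x'; infer_instance
        exact isReduced_of_isReduced_stalk _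
      exact Groth.Agent.S2535.result (Ω := Ω) f
    · apply card_eq_of_disjoint
      intro Z hZ Z' hZ' x hxZ hxZ'
      haveI := hdom x
      exact Groth.Agent.Lib.Helper13.IntegralNhd.irreducibleComponent_unique x hZ hZ' hxZ hxZ'
  · rintro ⟨hred, hcard⟩ x
    haveI : AlgebraicGeometry.IsReduced (FBase.bc f Ω) :=
      pullback_of_geometrically
        (GeometricallyReduced.geometrically_isReduced (f := f)) Ω _
    have hdisj := disjoint_of_card_eq hcard
    obtain ⟨x', rfl⟩ := surjective_bcπ f Ω x
    rw [Groth.Agent.S4630.result f x', Groth.Agent.S4631.result (FBase.bcStr f Ω) x']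
    exact isDomain_stalk_of_unique_component
      TopologicalSpace.NoetherianSpace.finite_irreducibleComponents x'
      (fun Z hZ Z' hZ' h1 h2 => hdisj Z hZ Z' hZ' x' h1 h2)

end Groth.Agent.Lib.Helper22.GeomPtIntCard
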