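import Mathlib
import Groth.Agent.Lib.Helper22.RegTensorFields
import Groth.Agent.Lib.Helper12.AnUnDvrA

/-!
# A local principal ideal domain with separable residue field stays regular after finite purely
inseparable base field extensions
-/

set_option autoImplicit false
set_option linter.style.haveILetI false
set_option linter.unusedSectionVars false
universe u

namespace Groth.Agent.Lib.Helper22.GeomRegDVR

open TensorProduct IsLocalRing Groth.Agent.Lib.Helper22.RegTensorFields

variable (k : Type u) [Field k] (O : Type u) [CommRing O] [IsDomain O] [IsLocalRing O]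
  [IsNoetherianRing O] [IsPrincipalIdealRing O] [Algebra k O]
  (F : Type u) [Field F] [Algebra k F] [Algebra.IsGeometricallyReduced k F]
  (g : O →ₐ[k] F) (hg : Function.Surjective g)
  (k₁ : Type u) [Field k₁] [Algebra k k₁] [Module.Finite k k₁] [IsPurelyInseparable k k₁]

include hg in
/-- `O ⊗[k] k₁` is a domain and a regular ring. -/
theorem isDomain_and_isRegularRing_tensor :
    IsDomain (O ⊗[k] k₁) ∧ IsRegularRing (O ⊗[k] k₁) := by
  let R₁ := O ⊗[k] k₁
  haveI : Module.Finite O R₁ := inferInstance
  haveI : IsNoetherianRing R₁ := IsNoetherianRing.of_finite O R₁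
  haveI : Algebra.IsIntegral O R₁ := inferInstance
  -- the map onto the field `F ⊗ k₁`
  let φ : R₁ →ₐ[k] F ⊗[k] k₁ := Algebra.TensorProduct.map g (AlgHom.id k k₁)
  have hφ : Function.Surjective φ :=
    Algebra.TensorProduct.map_surjective g (AlgHom.id k k₁) hg Function.surjective_id
  have hFf : IsField (F ⊗[k] k₁) := by
    have h1 := isField_tensor_of_isPurelyInseparable k k₁ F
    exact (Algebra.TensorProduct.comm k F k₁).toMulEquiv.isField h1
  letI : Field (F ⊗[k] k₁) := hFf.toField
  have hkerg : RingHom.ker g = maximalIdeal O := by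
    haveI : (RingHom.ker g.toRingHom).IsMaximal := RingHom.ker_isMaximal_of_surjective g.toRingHom hg
    exact IsLocalRing.eq_maximalIdeal ‹_›
  let I : Ideal R₁ := (maximalIdeal O).map (algebraMap O R₁)
  have hker : RingHom.ker φ = I := by
    have h1 := Algebra.TensorProduct.rTensor_ker (R := k) (S := k) (C := k₁) g hg
    rw [hkerg] at h1
    exact h1
  haveI hImax : I.IsMaximal := by
    rw [← hker]
    exact RingHom.ker_isMaximal_of_surjective φ.toRingHom hφ
  have huniq : ∀ M : Ideal R₁, M.IsMaximal → M = I := by
    intro M hM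
    haveI := hM
    haveI : (M.comap (algebraMap O R₁)).IsMaximal :=
      Ideal.isMaximal_comap_of_isIntegral_of_isMaximal M
    have h1 : M.comap (algebraMap O R₁) = maximalIdeal O := IsLocalRing.eq_maximalIdeal ‹_›
    have h2 : I ≤ M := by
      rw [Ideal.map_le_iff_le_comap, h1]
    exact (hImax.eq_of_le hM.ne_top h2).symm
  haveI : IsLocalRing R₁ := IsLocalRing.of_unique_max_ideal ⟨I, hImax, fun M hM => huniq M hM⟩
  have hmaxI : maximalIdeal R₁ = I := huniq _ (maximalIdeal.isMaximal R₁)
  obtain ⟨t, ht⟩ := (IsPrincipalIdealRing.principal (maximalIdeal O)).principal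
  have hIt : I = Ideal.span {algebraMap O R₁ t} := by
    change (maximalIdeal O).map (algebraMap O R₁) = _
    rw [ht]
    change (Ideal.span {t}).map _ = _
    rw [Ideal.map_span, Set.image_singleton]
  by_cases ht0 : t = 0
  · -- `O` is a field, so `R₁` is a field
    have hI0 : maximalIdeal R₁ = ⊥ := by
      rw [hmaxI, hIt, ht0, map_zero]
      exact Ideal.span_singleton_eq_bot.mpr rfl
    have hf : IsField R₁ := IsLocalRing.isField_iff_maximalIdeal_eq.mpr hI0
    letI := hf.toField
    exact ⟨inferInstance, isRegularRing_of_isField hf⟩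
  · have hreg : ∀ w : R₁, algebraMap O R₁ t * w = 0 → w = 0 := by
      intro w hw
      have h1 : IsSMulRegular R₁ t :=
        Module.Flat.isSMulRegular_of_nonZeroDivisors (mem_nonZeroDivisors_of_ne_zero ht0)
      apply h1
      change t • w = t • 0
      rw [smul_zero, Algebra.smul_def]
      exact hw
    obtain ⟨hdom, hdvr⟩ :=
      Groth.Agent.Lib.Helper12.AnUnDvr.isDiscreteValuationRing_of_maximalIdeal_eq_span
        (algebraMap O R₁ t) (hmaxI.trans hIt) hreg
    haveI := hdom
    haveI := hdvr
    exact ⟨hdom, inferInstance⟩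

end Groth.Agent.Lib.Helper22.GeomRegDVR
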