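import Mathlib
import Groth.Prelude.Def_EGA4b
import Groth.Prelude.Def_Pi1
import Groth.Agent.Lib.Helper22.NormalLocal

/-!
# Normal schemes and normal rings: dictionary (helper22)
-/

set_option autoImplicit false
universe u
noncomputable section
namespace Groth.Agent.Lib.Helper22.SchNormal

open CategoryTheory CategoryTheory.Limits AlgebraicGeometry TopologicalSpace
open Groth.Agent.Lib.Helper22.NormalLocal Groth.Agent.Lib.Helper22.NormalGood

/-- the stalk of `Spec R` at a prime is a normal domain if `R` is a normal ring -/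
theorem qn_stalk_spec (R : CommRingCat.{u}) (hR : EGA4.IsNormalRing R) (z : Spec R) :
    QN ((Spec R).presheaf.stalk z) := by
  letI : Algebra ↑R ↑((Spec R).presheaf.stalk z) := StructureSheaf.stalkAlgebra (↑R) z
  haveI : IsLocalization.AtPrime (↑((Spec R).presheaf.stalk z)) z.asIdeal :=
    StructureSheaf.IsLocalization.to_stalk R z
  exact QN_iso _ _ (IsLocalization.algEquiv z.asIdeal.primeCompl
    (Localization.AtPrime z.asIdeal) ((Spec R).presheaf.stalk z)).toRingEquiv (hR z.asIdeal)

/-- stalks at points in the image of an open immersion from the spectrum of a normal ring -/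
theorem qn_stalk_of_openImmersion_spec {X : Scheme.{u}} (R : CommRingCat.{u}) (j : Spec R ⟶ X)
    [IsOpenImmersion j] (hR : EGA4.IsNormalRing R) (z : Spec R) :
    QN (X.presheaf.stalk (j z)) :=
  QN_iso _ _ (asIso (j.stalkMap z)).commRingCatIsoToRingEquiv.symm (qn_stalk_spec R hR z)

/-- sections of a normal scheme over an affine open form a normal ring -/
theorem isNormalRing_sections {X : Scheme.{u}} (hX : Pi1.IsNormalScheme X) (U : X.Opens)
    (hU : IsAffineOpen U) : EGA4.IsNormalRing Γ(X, U) := by
  intro p hp
  let y : PrimeSpectrum Γ(X, U) := ⟨p, hp⟩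
  have hy : hU.fromSpec y ∈ U := by
    have := hU.range_fromSpec
    rw [← SetLike.mem_coe, ← this]
    exact ⟨y, rfl⟩
  letI := TopCat.Presheaf.algebra_section_stalk X.presheaf ⟨hU.fromSpec y, hy⟩
  haveI : IsLocalization.AtPrime (X.presheaf.stalk (hU.fromSpec y)) y.asIdeal :=
    hU.isLocalization_stalk' y hy
  exact QN_iso _ _ (IsLocalization.algEquiv y.asIdeal.primeCompl
    (X.presheaf.stalk (hU.fromSpec y)) (Localization.AtPrime p)).toRingEquiv (hX (hU.fromSpec y))

end Groth.Agent.Lib.Helper22.SchNormal
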