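import Mathlib
import Groth.Agent.Lib.Helper22.SchNormal
import Groth.Agent.Lib.Helper22.RedBC
import Groth.Agent.S2690

/-!
# Base change of normal schemes along separable field extensions (helper22)
-/

set_option autoImplicit false
set_option linter.style.haveILetI false
universe u
noncomputable section
namespace Groth.Agent.Lib.Helper22.SchNormal

open CategoryTheory CategoryTheory.Limits AlgebraicGeometry TopologicalSpace TensorProduct
open Groth.Agent.Lib.Helper22.NormalLocal Groth.Agent.Lib.Helper22.NormalGood
open Groth.Agent.Lib.Helper22.RedBC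

/-- scheme-level geometric reducedness of `Spec K → Spec k` gives the algebra-level one -/
theorem isGeometricallyReduced_of_specMap {k K : Type u} [Field k] [CommRing K] [Algebra k K]
    [h : GeometricallyReduced (Spec.map (CommRingCat.ofHom (algebraMap k K)))] :
    Algebra.IsGeometricallyReduced k K := by
  rw [Algebra.isGeometricallyReduced_field_iff]
  haveI h1 : AlgebraicGeometry.IsReduced (pullback (Spec.map (CommRingCat.ofHom (algebraMap k K)))
      (Spec.map (CommRingCat.ofHom (algebraMap k (AlgebraicClosure k))))) :=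
    pullback_of_geometrically
      (GeometricallyReduced.geometrically_isReduced
        (f := Spec.map (CommRingCat.ofHom (algebraMap k K)))) (AlgebraicClosure k) _
  haveI h2 : AlgebraicGeometry.IsReduced (Spec (CommRingCat.of (K ⊗[k] AlgebraicClosure k))) :=
    isReduced_of_isOpenImmersion (pullbackSpecIso k K (AlgebraicClosure k)).inv
  haveI h3 : _root_.IsReduced (K ⊗[k] AlgebraicClosure k) :=
    (affine_isReduced_iff (CommRingCat.of (K ⊗[k] AlgebraicClosure k))).1 h2
  exact isReduced_of_injective (Algebra.TensorProduct.comm k (AlgebraicClosure k) K)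
    (Algebra.TensorProduct.comm k (AlgebraicClosure k) K).injective

variable (k : Type u) [Field k] (X : Scheme.{u}) [X.Over (Spec (CommRingCat.of k))]

/-- if `K ⊗ Γ(X, U)` is normal for all affine opens `U`, then `X_K` is normal -/
theorem isNormalScheme_bc_of_forall (K : Type u) [Field K] [Algebra k K]
    (h : ∀ (U : X.Opens) (hU : IsAffineOpen U),
      letI := secAlgebra k X U hU
      EGA4.IsNormalRing (K ⊗[k] Γ(X, U))) :
    Pi1.IsNormalScheme (Curv2.bc k X K) := by
  intro x'
  obtain ⟨U, hU, hxU, -⟩ := exists_isAffineOpen_mem_and_subset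
    (x := Curv2.bcFst k X K x') (U := ⊤) trivial
  letI := secAlgebra k X U hU
  obtain ⟨d, -⟩ := exists_iso_spec_tensor k X U hU K
  let W : (Curv2.bc k X K).Opens := (Curv2.bcFst k X K) ⁻¹ᵁ U
  have hx'W : x' ∈ W := hxU
  let j : Spec (CommRingCat.of (K ⊗[k] Γ(X, U))) ⟶ Curv2.bc k X K := d.inv ≫ W.ι
  let z : Spec (CommRingCat.of (K ⊗[k] Γ(X, U))) := d.hom ⟨x', hx'W⟩
  have hz : j z = x' := by
    change (d.inv ≫ W.ι) (d.hom ⟨x', hx'W⟩) = x'
    rw [← Scheme.Hom.comp_apply, Iso.hom_inv_id_assoc]
    rfl
  have := qn_stalk_of_openImmersion_spec (CommRingCat.of (K ⊗[k] Γ(X, U))) j (h U hU) z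
  rw [hz] at this
  exact this

/-- **Separable base change of a normal scheme is normal.** -/
theorem isNormalScheme_bc_of_isGeometricallyReduced (hX : Pi1.IsNormalScheme X)
    (K : Type u) [Field K] [Algebra k K] [Algebra.IsGeometricallyReduced k K] :
    Pi1.IsNormalScheme (Curv2.bc k X K) := by
  apply isNormalScheme_bc_of_forall
  intro U hU
  letI := secAlgebra k X U hU
  exact Groth.Agent.S2690.result k Γ(X, U) K (isNormalRing_sections hX U hU)

end Groth.Agent.Lib.Helper22.SchNormal
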