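import Mathlib
import Groth.Agent.Lib.Helper22.GeomRegDVR
import Groth.Agent.Lib.Helper22.DeltaInvG
import Groth.Agent.Lib.Helper22.SchNormal2
import Groth.Agent.Lib.Helper3.QuasiFiniteDim
import Groth.Agent.S1585
import Groth.Agent.Lib.Helper5.StalkBCH
import Groth.Agent.Lib.Helper5.GeomRegFG3
import Groth.Agent.Lib.Helper22.GeomRed2

/-!
# Points of the normalization over a codimension one point with separable residue fields
-/

set_option autoImplicit false
set_option linter.style.haveILetI false
set_option linter.unusedSectionVars false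
universe u

namespace Groth.Agent.Lib.Helper22.GeomRegNorm

open CategoryTheory CategoryTheory.Limits AlgebraicGeometry TensorProduct IsLocalRing
open Groth.Agent.Lib.Helper13.NormDimOne Groth.Agent.Lib.Helper13.BranchAlg
  Groth.Agent.Lib.Helper13.BranchGeom

attribute [local instance] Curv2.stalkAlgebra

variable (k : Type u) [Field k] (X : Scheme.{u}) [X.Over (Spec (CommRingCat.of k))]
  [IsIntegral X] [LocallyOfFiniteType (X ↘ (Spec (CommRingCat.of k)))]
  [QuasiCompact (X.fromSpecStalk (genericPoint X))] [QuasiSeparated (X.fromSpecStalk (genericPoint X))]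

/-- the structure of a `k`-scheme on the normalization -/
@[reducible] noncomputable def overN : (Xn X).Over (Spec (CommRingCat.of k)) :=
  ⟨nu X ≫ (X ↘ (Spec (CommRingCat.of k)))⟩

attribute [local instance] overN

include k in
theorem isFinite_nu : IsFinite (nu X) := (Groth.Agent.S1585.result k X).1

include k in
theorem locallyOfFiniteType_N :
    LocallyOfFiniteType ((Xn X) ↘ (Spec (CommRingCat.of k))) := by
  haveI := isFinite_nu k X
  change LocallyOfFiniteType (nu X ≫ (X ↘ (Spec (CommRingCat.of k))))
  infer_instance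

theorem stalk_tensor (x' : Xn X) (hdim : ringKrullDim (X.presheaf.stalk (nu X x')) = 1)
    (hsep : GeometricallyReduced (Spec.map (CommRingCat.ofHom (Curv2.resMap k (Xn X) x'))))
    (k₁ : Type u) [Field k₁] [Algebra k k₁] [Module.Finite k k₁] [IsPurelyInseparable k k₁] :
    IsDomain (((Xn X).presheaf.stalk x') ⊗[k] k₁) ∧
      IsRegularRing (((Xn X).presheaf.stalk x') ⊗[k] k₁) := by
  haveI := isFinite_nu k X
  haveI := locallyOfFiniteType_N k X
  obtain ⟨-, -, -, -, hnorm⟩ := Groth.Agent.S1585.result k X
  obtain ⟨hdom, hic⟩ := hnorm x'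
  haveI : IsDomain ((Xn X).presheaf.stalk x') := hdom
  haveI : IsIntegrallyClosed ((Xn X).presheaf.stalk x') := hic
  haveI : IsNoetherianRing ((Xn X).presheaf.stalk x') :=
    Groth.Agent.Lib.Helper22.CurveStalk.isNoetherianRing_stalk k (Xn X) x'
  have hle : ringKrullDim ((Xn X).presheaf.stalk x') ≤ 1 := by
    rw [← hdim]
    exact Groth.Agent.Lib.Helper3.ringKrullDim_stalk_le_of_locallyQuasiFinite (nu X) x'
  haveI : Ring.KrullDimLE 1 ((Xn X).presheaf.stalk x') :=
    Ring.krullDimLE_iff.2 (by exact_mod_cast hle)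
  have htfae : (IsIntegrallyClosed ((Xn X).presheaf.stalk x') ∧
      ∀ P : Ideal ((Xn X).presheaf.stalk x'), P ≠ ⊥ → P.IsPrime →
        P = maximalIdeal ((Xn X).presheaf.stalk x')) ↔
      IsPrincipalIdealRing ((Xn X).presheaf.stalk x') :=
    (tfae_of_isNoetherianRing_of_isLocalRing_of_isDomain ((Xn X).presheaf.stalk x')).out 3 0
  haveI : IsPrincipalIdealRing ((Xn X).presheaf.stalk x') := htfae.1 ⟨inferInstance, fun P hP hP' =>
    IsLocalRing.eq_maximalIdeal (hP'.isMaximal_of_ne_bot hP)⟩
  letI : Algebra k ((Xn X).residueField x') := (Curv2.resMap k (Xn X) x').toAlgebra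
  haveI : GeometricallyReduced (Spec.map (CommRingCat.ofHom
      (algebraMap k ((Xn X).residueField x')))) := hsep
  haveI : Algebra.IsGeometricallyReduced k ((Xn X).residueField x') :=
    Groth.Agent.Lib.Helper22.SchNormal.isGeometricallyReduced_of_specMap
  let g : (Xn X).presheaf.stalk x' →ₐ[k] (Xn X).residueField x' :=
    { ((Xn X).residue x').hom with commutes' := fun c => rfl }
  have hg : Function.Surjective g := IsLocalRing.residue_surjective
  exact Groth.Agent.Lib.Helper22.GeomRegDVR.isDomain_and_isRegularRing_tensor k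
    ((Xn X).presheaf.stalk x') ((Xn X).residueField x') g hg k₁


omit [X.Over (Spec (CommRingCat.of k))] in
theorem stalkMap_injective (x' : Xn X) : Function.Injective ((nu X).stalkMap x').hom := by
  obtain ⟨_, ⟨U, hU, rfl⟩, hxU, -⟩ := X.isBasis_affineOpens.exists_subset_of_mem_open
    (Set.mem_univ (nu X x')) isOpen_univ
  haveI : Nonempty U := ⟨⟨_, hxU⟩⟩
  obtain ⟨e, he⟩ := exists_sectionsEquiv X hU
  intro a b hab
  have h1 := iota_stalkMap X hU e he x' hxU hxU a
  have h2 := iota_stalkMap X hU e he x' hxU hxU b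
  have h3 : algebraMap (X.presheaf.stalk (nu X x')) X.functionField a =
      algebraMap (X.presheaf.stalk (nu X x')) X.functionField b := by
    rw [← h1, ← h2]
    exact congrArg _ hab
  exact IsFractionRing.injective (X.presheaf.stalk (nu X x')) X.functionField h3

theorem isGeomRegularAt (x' : Xn X) (hdim : ringKrullDim (X.presheaf.stalk (nu X x')) = 1)
    (hsep : GeometricallyReduced (Spec.map (CommRingCat.ofHom (Curv2.resMap k (Xn X) x')))) :
    Curv2.IsGeomRegularAt k (Xn X) x' := by
  intro k' _ _ hfg y hy
  haveI : Algebra.EssFiniteType k k' := IntermediateField.fg_top_iff.mp hfg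
  have h1 : IsRegularRing (k' ⊗[k] ((Xn X).presheaf.stalk x')) := by
    apply Groth.Agent.Lib.Helper5.GeomRegFG.regular_tensor_of_fg k k' _
    intro k₁ _ _ hfin hpi
    haveI := hfin
    haveI := hpi
    haveI := (stalk_tensor k X x' hdim hsep k₁).2
    exact IsRegularRing.of_ringEquiv
      (Algebra.TensorProduct.comm k ((Xn X).presheaf.stalk x') k₁).toRingEquiv
  haveI := h1
  have h2 : IsRegularRing (((Xn X).presheaf.stalk x') ⊗[k] k') :=
    IsRegularRing.of_ringEquiv
      (Algebra.TensorProduct.comm k k' ((Xn X).presheaf.stalk x')).toRingEquiv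
  exact Groth.Agent.Lib.Helper5.StalkBC.regular_point_of_regular_tensor k (Xn X) k' x' h2 y hy

theorem isGeomReducedAt (x' : Xn X) (hdim : ringKrullDim (X.presheaf.stalk (nu X x')) = 1)
    (hsep : GeometricallyReduced (Spec.map (CommRingCat.ofHom (Curv2.resMap k (Xn X) x')))) :
    Curv2.IsGeomReducedAt k X (nu X x') := by
  rw [Groth.Agent.Lib.Helper5.StalkBC.isGeomReducedAt_iff]
  apply Groth.Agent.Lib.Helper22.GeomRed2.isGeometricallyReduced_of_forall_purelyInseparable
  intro k₁ _ _ _ _
  haveI := (stalk_tensor k X x' hdim hsep k₁).1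
  -- the k-algebra map on stalks
  let f : X.presheaf.stalk (nu X x') →ₐ[k] (Xn X).presheaf.stalk x' :=
    { ((nu X).stalkMap x').hom with
      commutes' := fun c => by
        have := Groth.Agent.Lib.Helper5.StalkBC.stalkMap_comp k (Xn X) X (nu X) rfl x'
        exact congr($this c) }
  have hf : Function.Injective f := stalkMap_injective X x'
  have h1 : Function.Injective (Algebra.TensorProduct.map (AlgHom.id k k₁) f) := by
    have := Module.Flat.lTensor_preserves_injective_linearMap (M := k₁) f.toLinearMap hf
    exact this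
  have h2 : Function.Injective ((Algebra.TensorProduct.comm k k₁ _).toAlgHom.comp
      (Algebra.TensorProduct.map (AlgHom.id k k₁) f)) :=
    (Algebra.TensorProduct.comm k k₁ _).injective.comp h1
  exact isReduced_of_injective _ h2

end Groth.Agent.Lib.Helper22.GeomRegNorm
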