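import Mathlib
import Groth.Agent.S2045
import Groth.Agent.S2653
import Groth.Agent.S0507
import Groth.Agent.Lib.Helper12.HenselizationUniv
import Groth.Agent.Lib.Helper22.GPolyH
import Groth.Agent.Lib.Helper22.ExcLoc

/-!
# Henselizations: ring-hom form of the universal property, and finite type `ℤ`-algebras are G-rings
-/

set_option autoImplicit false
set_option linter.style.haveILetI false
set_option linter.unusedSectionVars false
universe u

namespace Groth.Agent.Lib.Helper22.HColim

open IsLocalRing Groth.Agent.Lib.Helper12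

theorem isGRing_ulift_int : CAlg.IsGRing (ULift.{u} ℤ) := by
  haveI : IsDomain (ULift.{u} ℤ) := MulEquiv.isDomain ℤ (ULift.ringEquiv : ULift.{u} ℤ ≃+* ℤ).toMulEquiv
  haveI : IsPrincipalIdealRing (ULift.{u} ℤ) :=
    IsPrincipalIdealRing.of_surjective (ULift.ringEquiv : ULift.{u} ℤ ≃+* ℤ).symm.toRingHom
      (ULift.ringEquiv : ULift.{u} ℤ ≃+* ℤ).symm.surjective
  haveI : CharZero (ULift.{u} ℤ) :=
    charZero_of_injective_ringHom (f := (ULift.ringEquiv : ULift.{u} ℤ ≃+* ℤ).symm.toRingHom)
      (ULift.ringEquiv : ULift.{u} ℤ ≃+* ℤ).symm.injective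
  exact (Groth.Agent.S2653.result (ULift.{u} ℤ)).2.2.1

theorem isGRing_of_finiteType_int (S : Type u) [CommRing S] [Algebra.FiniteType ℤ S] :
    CAlg.IsGRing S := by
  letI : Algebra (ULift.{u} ℤ) S := ULift.algebra' ℤ S
  haveI : IsScalarTower ℤ (ULift.{u} ℤ) S := ⟨fun x y z => by
    rw [Algebra.smul_def y z, Algebra.smul_def (x • y) z, zsmul_eq_mul, zsmul_eq_mul, map_mul,
      map_intCast, mul_assoc]⟩
  haveI : Algebra.FiniteType (ULift.{u} ℤ) S :=
    Algebra.FiniteType.of_restrictScalars_finiteType ℤ (ULift.{u} ℤ) S
  exact Groth.Agent.Lib.Helper22.GRing.isGRing_of_finiteType (ULift.{u} ℤ) isGRing_ulift_int S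

section general

variable {A : Type u} [CommRing A] [IsLocalRing A]

/-- ring-hom form of the universal map out of the henselization -/
noncomputable def liftHom {B : Type u} [CommRing B] [HenselianLocalRing B] (g : A →+* B)
    (hg : IsLocalHom g) : Henselization A →+* B :=
  letI := g.toAlgebra
  haveI : IsLocalHom (algebraMap A B) := hg
  (Henselization.lift A B).toRingHom

theorem liftHom_comp {B : Type u} [CommRing B] [HenselianLocalRing B] (g : A →+* B)
    (hg : IsLocalHom g) : (liftHom g hg).comp (algebraMap A (Henselization A)) = g := by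
  letI := g.toAlgebra
  haveI : IsLocalHom (algebraMap A B) := hg
  exact (Henselization.lift A B).comp_algebraMap

theorem liftHom_apply {B : Type u} [CommRing B] [HenselianLocalRing B] (g : A →+* B)
    (hg : IsLocalHom g) (a : A) : liftHom g hg (algebraMap A (Henselization A) a) = g a :=
  congrArg (fun k : A →+* B => k a) (liftHom_comp g hg)

theorem hom_ext_of_local {B : Type u} [CommRing B] [IsLocalRing B] (h₁ h₂ : Henselization A →+* B)
    (hl : IsLocalHom (h₁.comp (algebraMap A (Henselization A))))
    (e : h₁.comp (algebraMap A (Henselization A)) = h₂.comp (algebraMap A (Henselization A))) :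
    h₁ = h₂ := by
  letI := (h₁.comp (algebraMap A (Henselization A))).toAlgebra
  haveI : IsLocalHom (algebraMap A B) := hl
  let g₁ : Henselization A →ₐ[A] B := { h₁ with commutes' := fun a => rfl }
  let g₂ : Henselization A →ₐ[A] B :=
    { h₂ with commutes' := fun a => (congrArg (fun k : A →+* B => k a) e).symm }
  have h : g₁ = g₂ := Subsingleton.elim _ _
  exact RingHom.ext fun x => congrArg (fun k : Henselization A →ₐ[A] B => k x) h

theorem isLocalHom_of_comp {B : Type u} [CommRing B] [IsLocalRing B] (h : Henselization A →+* B)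
    (hl : IsLocalHom (h.comp (algebraMap A (Henselization A)))) : IsLocalHom h := by
  refine ⟨fun x hx => ?_⟩
  by_contra hnu
  have hxm : x ∈ maximalIdeal (Henselization A) := hnu
  rw [← Groth.Agent.S0507.result A (Henselization A)] at hxm
  have h1 : (maximalIdeal A).map (algebraMap A (Henselization A)) ≤ (maximalIdeal B).comap h := by
    rw [Ideal.map_le_iff_le_comap]
    intro a ha
    change h (algebraMap A _ a) ∈ maximalIdeal B
    intro hu
    exact ha (hl.map_nonunit a hu)
  exact h1 hxm hx

end general

end Groth.Agent.Lib.Helper22.HColim
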