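import Mathlib
import Groth.Agent.Lib.Helper22.HColimA

/-!
# A henselian local ring as a directed colimit of henselian local G-rings: the system
-/

set_option autoImplicit false
set_option linter.style.haveILetI false
set_option linter.unusedSectionVars false
universe u

namespace Groth.Agent.Lib.Helper22.HColim

open IsLocalRing Groth.Agent.Lib.Helper12

variable (A : Type u) [CommRing A] [IsLocalRing A]

/-- the finitely generated subring generated by `s` -/
abbrev Rs (s : Finset A) : Subalgebra ℤ A := Algebra.adjoin ℤ (s : Set A)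

/-- contraction of the maximal ideal -/
def Ps (s : Finset A) : Ideal (Rs A s) := (maximalIdeal A).comap (Rs A s).val.toRingHom

instance Ps_isPrime (s : Finset A) : (Ps A s).IsPrime := by
  unfold Ps; infer_instance

abbrev Ls (s : Finset A) : Type u := Localization.AtPrime (Ps A s)

abbrev Hs (s : Finset A) : Type u := Henselization (Ls A s)

variable {A}

/-- inclusion of subrings -/
def incl {s t : Finset A} (h : s ≤ t) : Rs A s →+* Rs A t :=
  (Subalgebra.inclusion (Algebra.adjoin_mono (Finset.coe_subset.mpr h))).toRingHom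

theorem incl_val {s t : Finset A} (h : s ≤ t) (x : Rs A s) : ((incl h x : Rs A t) : A) = x := rfl

theorem Ps_comap {s t : Finset A} (h : s ≤ t) : Ps A s = (Ps A t).comap (incl h) :=
  Ideal.ext fun _ => Iff.rfl

variable (A)

theorem isUnit_val_of_mem_primeCompl (s : Finset A) (y : (Ps A s).primeCompl) :
    IsUnit ((Rs A s).val.toRingHom (y : Rs A s)) := by
  have h : (y : Rs A s) ∉ Ps A s := y.2
  exact IsLocalRing.notMem_maximalIdeal.mp h

/-- the map from the localization to `A` -/
noncomputable def toA (s : Finset A) : Ls A s →+* A :=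
  IsLocalization.lift (M := (Ps A s).primeCompl) (g := (Rs A s).val.toRingHom)
    (isUnit_val_of_mem_primeCompl A s)

theorem toA_algebraMap (s : Finset A) (x : Rs A s) :
    toA A s (algebraMap (Rs A s) (Ls A s) x) = (x : A) :=
  IsLocalization.lift_eq _ x

theorem toA_isLocalHom (s : Finset A) : IsLocalHom (toA A s) := by
  refine ⟨fun x hx => ?_⟩
  obtain ⟨r, u, rfl⟩ := IsLocalization.exists_mk'_eq (Ps A s).primeCompl x
  have h1 : toA A s (IsLocalization.mk' (Ls A s) r u) * (u : Rs A s).1 = (r : A) := by
    rw [← toA_algebraMap A s u, ← map_mul, IsLocalization.mk'_spec, toA_algebraMap]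
  have h2 : IsUnit (r : A) := by
    rw [← h1]
    exact hx.mul (isUnit_val_of_mem_primeCompl A s u)
  have h3 : r ∈ (Ps A s).primeCompl := fun hr =>
    (IsLocalRing.mem_maximalIdeal _).mp hr h2
  exact (IsLocalization.AtPrime.isUnit_mk'_iff (Ls A s) (Ps A s) r u).mpr h3

variable {A}

/-- transition maps of the localizations -/
noncomputable def trans {s t : Finset A} (h : s ≤ t) : Ls A s →+* Ls A t :=
  Localization.localRingHom (Ps A s) (Ps A t) (incl h) (Ps_comap h)

theorem trans_isLocalHom {s t : Finset A} (h : s ≤ t) : IsLocalHom (trans h) :=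
  Localization.isLocalHom_localRingHom _ _ _ _

theorem trans_algebraMap {s t : Finset A} (h : s ≤ t) (x : Rs A s) :
    trans h (algebraMap (Rs A s) (Ls A s) x) = algebraMap (Rs A t) (Ls A t) (incl h x) :=
  Localization.localRingHom_to_map _ _ _ _ x

theorem toA_trans {s t : Finset A} (h : s ≤ t) : (toA A t).comp (trans h) = toA A s := by
  refine IsLocalization.ringHom_ext (Ps A s).primeCompl ?_
  ext x
  simp only [RingHom.comp_apply]
  rw [trans_algebraMap, toA_algebraMap, toA_algebraMap, incl_val]

theorem trans_trans {s t r : Finset A} (h : s ≤ t) (h' : t ≤ r) :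
    (trans h').comp (trans h) = trans (h.trans h') := by
  refine IsLocalization.ringHom_ext (Ps A s).primeCompl ?_
  ext x
  simp only [RingHom.comp_apply]
  rw [trans_algebraMap, trans_algebraMap, trans_algebraMap]
  rfl

theorem trans_self (s : Finset A) : trans (le_refl s) = RingHom.id (Ls A s) := by
  refine IsLocalization.ringHom_ext (Ps A s).primeCompl ?_
  ext x
  simp only [RingHom.comp_apply, RingHom.id_apply]
  rw [trans_algebraMap]
  rfl

/-- the map into the henselization at level `t` -/
noncomputable def toH {s t : Finset A} (h : s ≤ t) : Ls A s →+* Hs A t :=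
  (algebraMap (Ls A t) (Hs A t)).comp (trans h)

theorem toH_isLocalHom {s t : Finset A} (h : s ≤ t) : IsLocalHom (toH h) := by
  haveI := trans_isLocalHom h
  haveI : IsLocalHom (algebraMap (Ls A t) (Hs A t)) := Henselization.isLocalHom_algebraMap _
  exact RingHom.isLocalHom_comp _ _

/-- transition maps of the system -/
noncomputable def fH {s t : Finset A} (h : s ≤ t) : Hs A s →+* Hs A t :=
  liftHom (toH h) (toH_isLocalHom h)

theorem fH_comp {s t : Finset A} (h : s ≤ t) :
    (fH h).comp (algebraMap (Ls A s) (Hs A s)) = toH h := liftHom_comp _ _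

theorem fH_isLocalHom {s t : Finset A} (h : s ≤ t) : IsLocalHom (fH h) :=
  isLocalHom_of_comp _ (by rw [fH_comp]; exact toH_isLocalHom h)

theorem fH_self (s : Finset A) : fH (le_refl s) = RingHom.id (Hs A s) := by
  refine hom_ext_of_local _ _ (by rw [fH_comp]; exact toH_isLocalHom _) ?_
  rw [fH_comp, toH, trans_self]
  rfl

theorem fH_fH {s t r : Finset A} (h : s ≤ t) (h' : t ≤ r) :
    (fH h').comp (fH h) = fH (h.trans h') := by
  have e : ((fH h').comp (fH h)).comp (algebraMap (Ls A s) (Hs A s)) = toH (h.trans h') := by
    rw [RingHom.comp_assoc, fH_comp, toH, ← RingHom.comp_assoc, fH_comp, toH,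
      RingHom.comp_assoc, trans_trans]
    rfl
  refine hom_ext_of_local _ _ (by rw [e]; exact toH_isLocalHom _) ?_
  rw [e, fH_comp]

variable (A)

/-- the canonical map from the subring into the henselization -/
noncomputable def cs (s : Finset A) : Rs A s →+* Hs A s :=
  (algebraMap (Ls A s) (Hs A s)).comp (algebraMap (Rs A s) (Ls A s))

variable {A}

theorem fH_cs {s t : Finset A} (h : s ≤ t) (x : Rs A s) : fH h (cs A s x) = cs A t (incl h x) := by
  have := congrArg (fun k : Ls A s →+* Hs A t => k (algebraMap (Rs A s) (Ls A s) x)) (fH_comp h)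
  simp only [RingHom.comp_apply, toH] at this
  rw [trans_algebraMap] at this
  exact this

variable (A)

section hens

variable [HenselianLocalRing A]

/-- the map from the henselization to `A` -/
noncomputable def phi (s : Finset A) : Hs A s →+* A := liftHom (toA A s) (toA_isLocalHom A s)

theorem phi_comp (s : Finset A) : (phi A s).comp (algebraMap (Ls A s) (Hs A s)) = toA A s :=
  liftHom_comp _ _

theorem phi_isLocalHom (s : Finset A) : IsLocalHom (phi A s) :=
  isLocalHom_of_comp _ (by rw [phi_comp]; exact toA_isLocalHom A s)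

theorem phi_cs (s : Finset A) (x : Rs A s) : phi A s (cs A s x) = (x : A) := by
  have := congrArg (fun k : Ls A s →+* A => k (algebraMap (Rs A s) (Ls A s) x)) (phi_comp A s)
  simp only [RingHom.comp_apply] at this
  rw [toA_algebraMap] at this
  exact this

variable {A}

theorem phi_fH {s t : Finset A} (h : s ≤ t) : (phi A t).comp (fH h) = phi A s := by
  have e : ((phi A t).comp (fH h)).comp (algebraMap (Ls A s) (Hs A s)) = toA A s := by
    rw [RingHom.comp_assoc, fH_comp, toH, ← RingHom.comp_assoc, phi_comp, toA_trans]
  refine hom_ext_of_local _ _ (by rw [e]; exact toA_isLocalHom A s) ?_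
  rw [e, phi_comp]

end hens

theorem isGRing_Hs (s : Finset A) : CAlg.IsGRing (Hs A s) := by
  haveI : Algebra.FiniteType ℤ (Rs A s) :=
    (Subalgebra.fg_iff_finiteType _).mp (Subalgebra.fg_adjoin_finset s)
  haveI : IsNoetherianRing (Rs A s) := Algebra.FiniteType.isNoetherianRing ℤ (Rs A s)
  have h1 : CAlg.IsGRing (Rs A s) := isGRing_of_finiteType_int (Rs A s)
  have h2 : CAlg.IsGRing (Ls A s) :=
    Groth.Agent.Lib.Helper22.ExcLoc.isGRing_of_isLocalization (Rs A s) h1 (Ps A s).primeCompl
      (Ls A s)
  haveI : IsNoetherianRing (Ls A s) := h2.1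
  haveI : IsLocalHom (algebraMap (Ls A s) (Hs A s)) := Henselization.isLocalHom_algebraMap _
  exact Groth.Agent.S2045.result (R := Ls A s) (S := Hs A s) h2

instance directedSystem : DirectedSystem (Hs A) (fun (i j : Finset A) (h : i ≤ j) => ⇑(fH h)) where
  map_self i x := by
    have := congrArg (fun k : Hs A i →+* Hs A i => k x) (fH_self i)
    exact this
  map_map k j i hij hjk x := by
    have := congrArg (fun k' : Hs A i →+* Hs A k => k' x) (fH_fH hij hjk)
    exact this

end Groth.Agent.Lib.Helper22.HColim
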