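import Mathlib
import Groth.Agent.Lib.Helper22.HColimB

/-!
# A henselian local ring as a directed colimit of henselian local G-rings: the isomorphism
-/

set_option autoImplicit false
set_option linter.style.haveILetI false
set_option linter.unusedSectionVars false
universe u

namespace Groth.Agent.Lib.Helper22.HColim

open IsLocalRing Groth.Agent.Lib.Helper12

variable (A : Type u) [CommRing A] [HenselianLocalRing A]

/-- the transition maps as a family -/
noncomputable def fF : ∀ i j : Finset A, i ≤ j → (Hs A i →+* Hs A j) := fun _ _ h => fH h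

instance directedSystem' : DirectedSystem (Hs A) (fun (i j : Finset A) (h : i ≤ j) => ⇑(fF A i j h)) :=
  directedSystem A

/-- the colimit -/
abbrev Lim : Type u := DirectLimit (Hs A) (fF A)

/-- canonical maps into the colimit -/
noncomputable abbrev io (s : Finset A) : Hs A s →+* Lim A := DirectLimit.Ring.of (Hs A) (fF A) s

theorem io_fH {s t : Finset A} (h : s ≤ t) (x : Hs A s) : io A t (fH h x) = io A s x :=
  DirectLimit.Ring.of_f (G := Hs A) (f := fF A) h x

/-- the comparison map to `A` -/
noncomputable def Phi : Lim A →+* A :=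
  DirectLimit.Ring.lift (Hs A) (fF A) A (fun s => phi A s) (fun s t h x =>
    congrArg (fun k : Hs A s →+* A => k x) (phi_fH h))

theorem Phi_io (s : Finset A) (x : Hs A s) : Phi A (io A s x) = phi A s x := rfl

theorem exists_io (x : Lim A) : ∃ (s : Finset A) (h : Hs A s), io A s h = x := by
  induction x using DirectLimit.induction with
  | _ s h => exact ⟨s, h, rfl⟩

theorem Phi_isLocalHom : IsLocalHom (Phi A) := by
  refine ⟨fun x hx => ?_⟩
  obtain ⟨s, h, rfl⟩ := exists_io A x
  rw [Phi_io] at hx
  haveI := phi_isLocalHom A s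
  exact ((isUnit_map_iff (phi A s) h).mp hx).map (io A s)

theorem Lim_isLocalRing : IsLocalRing (Lim A) := by
  haveI := Phi_isLocalHom A
  exact RingHom.domain_isLocalRing (Phi A)

theorem io_isLocalHom (s : Finset A) : IsLocalHom (io A s) := by
  refine ⟨fun h hu => ?_⟩
  haveI := phi_isLocalHom A s
  have : IsUnit (phi A s h) := by
    rw [← Phi_io]
    exact hu.map (Phi A)
  exact (isUnit_map_iff (phi A s) h).mp this

theorem mem_Rs_singleton (a : A) : a ∈ Rs A {a} :=
  Algebra.subset_adjoin (by simp)

/-- the inverse map, as a function -/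
noncomputable def psiFun (a : A) : Lim A := io A {a} (cs A {a} ⟨a, mem_Rs_singleton A a⟩)

theorem psiFun_eq (s : Finset A) (a : A) (ha : a ∈ Rs A s) :
    psiFun A a = io A s (cs A s ⟨a, ha⟩) := by
  classical
  have h1 : ({a} : Finset A) ≤ s ∪ {a} := Finset.subset_union_right
  have h2 : s ≤ s ∪ {a} := Finset.subset_union_left
  unfold psiFun
  rw [← io_fH A h1, ← io_fH A h2, fH_cs, fH_cs]
  rfl

/-- the inverse map -/
noncomputable def Psi : A →+* Lim A where
  toFun := psiFun A
  map_one' := by
    rw [psiFun_eq A ∅ 1 (one_mem _)]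
    have : (⟨1, one_mem _⟩ : Rs A ∅) = 1 := rfl
    rw [this, map_one, map_one]
  map_zero' := by
    rw [psiFun_eq A ∅ 0 (zero_mem _)]
    have : (⟨0, zero_mem _⟩ : Rs A ∅) = 0 := rfl
    rw [this, map_zero, map_zero]
  map_mul' a b := by
    classical
    have ha : a ∈ Rs A {a, b} := Algebra.subset_adjoin (by simp)
    have hb : b ∈ Rs A {a, b} := Algebra.subset_adjoin (by simp)
    rw [psiFun_eq A {a, b} a ha, psiFun_eq A {a, b} b hb,
      psiFun_eq A {a, b} (a * b) (mul_mem ha hb), ← map_mul, ← map_mul]
    rfl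
  map_add' a b := by
    classical
    have ha : a ∈ Rs A {a, b} := Algebra.subset_adjoin (by simp)
    have hb : b ∈ Rs A {a, b} := Algebra.subset_adjoin (by simp)
    rw [psiFun_eq A {a, b} a ha, psiFun_eq A {a, b} b hb,
      psiFun_eq A {a, b} (a + b) (add_mem ha hb), ← map_add, ← map_add]
    rfl

theorem Psi_val (s : Finset A) (x : Rs A s) : Psi A (x : A) = io A s (cs A s x) :=
  psiFun_eq A s x x.2

theorem Phi_Psi : (Phi A).comp (Psi A) = RingHom.id A := by
  ext a
  simp only [RingHom.comp_apply, RingHom.id_apply]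
  change Phi A (psiFun A a) = a
  unfold psiFun
  rw [Phi_io, phi_cs]

theorem Psi_Phi : (Psi A).comp (Phi A) = RingHom.id (Lim A) := by
  haveI := Lim_isLocalRing A
  refine DirectLimit.Ring.hom_ext (Lim A) fun s => ?_
  -- two maps `Hs A s → Lim A`
  have e : (io A s).comp (algebraMap (Ls A s) (Hs A s)) =
      (((Psi A).comp (Phi A)).comp (io A s)).comp (algebraMap (Ls A s) (Hs A s)) := by
    refine IsLocalization.ringHom_ext (Ps A s).primeCompl ?_
    ext x
    simp only [RingHom.comp_apply]
    rw [Phi_io]
    change io A s (cs A s x) = Psi A (phi A s (cs A s x))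
    rw [phi_cs, Psi_val]
  have hl : IsLocalHom ((io A s).comp (algebraMap (Ls A s) (Hs A s))) := by
    haveI := io_isLocalHom A s
    haveI : IsLocalHom (algebraMap (Ls A s) (Hs A s)) := Henselization.isLocalHom_algebraMap _
    exact RingHom.isLocalHom_comp _ _
  have := hom_ext_of_local (io A s) (((Psi A).comp (Phi A)).comp (io A s)) hl e
  rw [← this]
  rfl

/-- the isomorphism -/
noncomputable def equivLim : A ≃+* Lim A :=
  RingEquiv.ofRingHom (Psi A) (Phi A) (Psi_Phi A) (Phi_Psi A)

/-- **Every henselian local ring is a directed colimit of henselian local G-rings.** -/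
theorem exists_system :
    ∃ (ι : Type u) (_ : Preorder ι) (_ : IsDirectedOrder ι) (_ : Nonempty ι) (G : ι → Type u)
      (_ : ∀ i, CommRing (G i)) (f : ∀ i j : ι, i ≤ j → (G i →+* G j))
      (_ : DirectedSystem G (fun i j h => f i j h)),
      (∀ i, HenselianLocalRing (G i) ∧ CAlg.IsGRing (G i)) ∧
      (∀ (i j : ι) (h : i ≤ j), IsLocalHom (f i j h)) ∧
      Nonempty (A ≃+* DirectLimit G f) :=
  ⟨Finset A, inferInstance, inferInstance, inferInstance, Hs A, fun _ => inferInstance, fF A,
    directedSystem' A, fun i => ⟨inferInstance, isGRing_Hs A i⟩, fun _ _ h => fH_isLocalHom h,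
    ⟨equivLim A⟩⟩

end Groth.Agent.Lib.Helper22.HColim
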