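import Mathlib
import Groth.Prelude.Def_EGA4b
import Groth.Agent.Lib.Helper22.J0RootF
import Groth.Agent.Lib.Helper22.GLocA
import Groth.Agent.Lib.Helper22.ExcLoc
import Groth.Agent.Lib.Helper22.GPolyH
import Groth.Agent.Lib.Helper5.RegHomBasic
import Groth.Agent.Lib.Helper12.AnUnramF

/-!
# A Noetherian local G-ring is J-2 (hence quasi-excellent) (helper22)
-/

set_option autoImplicit false
set_option linter.unusedSectionVars false
set_option linter.style.haveILetI false
universe u

namespace Groth.Agent.Lib.Helper22.HensExc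

open IsLocalRing TensorProduct

/-- pointwise ascent of regularity along a regular homomorphism -/
theorem mem_regLocus_of_isRegularHom (R S : Type u) [CommRing R] [CommRing S] [Algebra R S]
    [IsNoetherianRing S] (h : CAlg.IsRegularHom R S) (r : PrimeSpectrum S)
    (hr : PrimeSpectrum.comap (algebraMap R S) r ∈ EGA4.regLocus R) : r ∈ EGA4.regLocus S := by
  have hflat : Module.Flat R S := h.1
  haveI hrp := r.isPrime
  have hp : (r.asIdeal.comap (algebraMap R S)).IsPrime := Ideal.comap_isPrime _ _
  haveI : IsRegularLocalRing (Localization.AtPrime (r.asIdeal.comap (algebraMap R S))) := hr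
  have hfib : IsRegularRing ((r.asIdeal.comap (algebraMap R S)).Fiber S) :=
    Groth.Agent.Lib.Helper5.RegHom.isRegularRing_of_geomRegular _ _
      (h.2 (r.asIdeal.comap (algebraMap R S))).2
  let q := PrimeSpectrum.preimageEquivFiber R S ⟨r.asIdeal.comap (algebraMap R S), hp⟩
    ⟨⟨r.asIdeal, hrp⟩, rfl⟩
  have hq : q.asIdeal.comap (Algebra.TensorProduct.includeRight :
      S →ₐ[R] (r.asIdeal.comap (algebraMap R S)).Fiber S) = r.asIdeal := by
    have := (PrimeSpectrum.preimageEquivFiber R S
      ⟨r.asIdeal.comap (algebraMap R S), hp⟩).left_inv ⟨⟨r.asIdeal, hrp⟩, rfl⟩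
    exact congrArg (fun z => z.1.asIdeal) this
  have key : ∀ (r' : Ideal S) (hr' : r'.IsPrime), r' = r.asIdeal →
      IsRegularLocalRing (Localization.AtPrime r') →
      IsRegularLocalRing (Localization.AtPrime r.asIdeal) := by
    intro r' hr' heq h
    subst heq
    exact h
  have hq' : (q.asIdeal.comap (Algebra.TensorProduct.includeRight :
      S →ₐ[R] (r.asIdeal.comap (algebraMap R S)).Fiber S)).IsPrime := Ideal.comap_isPrime _ _
  have h1 := Groth.Agent.Lib.Helper5.RegHom.regular_localization_of_fiber R S
    (r.asIdeal.comap (algebraMap R S)) q.asIdeal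
  exact key _ hq' hq h1

/-- the regular locus of a Noetherian local ring with regular completion map is open -/
theorem isOpen_regLocus_of_isRegularHom_cpl (L : Type u) [CommRing L] [IsLocalRing L]
    [IsNoetherianRing L] (h : CAlg.IsRegularHom L (EGA4.Cpl L)) : IsOpen (EGA4.regLocus L) := by
  haveI hNA : IsNoetherianRing (EGA4.Cpl L) :=
    Groth.Agent.Lib.Helper12.AnUnram.isNoetherianRing_cpl L
  haveI hff : Module.FaithfullyFlat L (EGA4.Cpl L) :=
    Groth.Agent.Lib.Helper12.AnUnram.faithfullyFlat_cpl L
  have hq : Topology.IsQuotientMap (PrimeSpectrum.comap (algebraMap L (EGA4.Cpl L))) :=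
    PrimeSpectrum.isQuotientMap_of_generalizingMap
      PrimeSpectrum.comap_surjective_of_faithfullyFlat
      (RingHom.Flat.generalizingMap_comap (RingHom.flat_algebraMap_iff.mpr inferInstance))
  rw [← hq.isOpen_preimage]
  have hpre : PrimeSpectrum.comap (algebraMap L (EGA4.Cpl L)) ⁻¹' EGA4.regLocus L =
      EGA4.regLocus (EGA4.Cpl L) := by
    ext P
    constructor
    · intro hP
      exact mem_regLocus_of_isRegularHom L (EGA4.Cpl L) h P hP
    · intro hP
      haveI := P.isPrime
      exact Groth.Agent.Lib.Helper22.J0.mem_regLocus_of_flat L (EGA4.Cpl L) P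
        (Module.Flat.trans L (EGA4.Cpl L) _) hP
  rw [hpre]
  exact Groth.Agent.Lib.Helper22.J0Root.isJ2_of_complete_local (EGA4.Cpl L) (EGA4.Cpl L)
    inferInstance

end Groth.Agent.Lib.Helper22.HensExc
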