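import Mathlib
import Groth.Prelude.Def_EGA4b
import Groth.Agent.Lib.Helper22.HensExcA
import Groth.Agent.Lib.Helper22.J2Crit

/-!
# A Noetherian local G-ring is J-2 (hence quasi-excellent) (helper22), part B
-/

set_option autoImplicit false
set_option linter.unusedSectionVars false
set_option linter.style.haveILetI false
universe u

namespace Groth.Agent.Lib.Helper22.HensExc

open IsLocalRing TensorProduct
open Groth.Agent.Lib.Helper22.J0

/-- for a G-ring domain `A'` and a prime `P`, the regular locus of `A'` contains the trace on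
`Spec A'_P` of a nonempty basic open set -/
theorem exists_ne_zero_forall_le (A' : Type u) [CommRing A'] [IsDomain A']
    (hG : CAlg.IsGRing A') (P : Ideal A') [P.IsPrime] :
    ∃ f : A', f ≠ 0 ∧ ∀ q : PrimeSpectrum A', q.asIdeal ≤ P → f ∉ q.asIdeal →
      q ∈ EGA4.regLocus A' := by
  haveI := hG.1
  have hGL : CAlg.IsGRing (Localization.AtPrime P) :=
    Groth.Agent.Lib.Helper22.ExcLoc.isGRing_of_isLocalization A' hG P.primeCompl _
  haveI := hGL.1
  have hopen : IsOpen (EGA4.regLocus (Localization.AtPrime P)) :=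
    isOpen_regLocus_of_isRegularHom_cpl _
      (Groth.Agent.Lib.Helper22.GRing.isRegularHom_cpl_of_isGRing _ hGL)
  haveI : IsDomain (Localization.AtPrime P) :=
    IsLocalization.isDomain_localization P.primeCompl_le_nonZeroDivisors
  obtain ⟨_, ⟨g, rfl⟩, hgmem, hgsub⟩ :=
    PrimeSpectrum.isTopologicalBasis_basic_opens.exists_subset_of_mem_open
      (bot_mem_regLocus (Localization.AtPrime P)) hopen
  obtain ⟨a, s, rfl⟩ := IsLocalization.exists_mk'_eq P.primeCompl g
  refine ⟨a, ?_, ?_⟩
  · rintro rfl
    apply hgmem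
    change IsLocalization.mk' (Localization.AtPrime P) (0 : A') s ∈ (⊥ : Ideal _)
    rw [IsLocalization.mk'_zero]
    exact Ideal.zero_mem _
  · intro q hqP haq
    haveI := q.isPrime
    have hdisj : Disjoint (P.primeCompl : Set A') (q.asIdeal : Set A') := by
      rw [Set.disjoint_left]
      intro x hx hxq
      exact hx (hqP hxq)
    have hprime : (q.asIdeal.map (algebraMap A' (Localization.AtPrime P))).IsPrime :=
      IsLocalization.isPrime_of_isPrime_disjoint P.primeCompl _ _ q.isPrime hdisj
    have hcomap : (q.asIdeal.map (algebraMap A' (Localization.AtPrime P))).comap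
        (algebraMap A' (Localization.AtPrime P)) = q.asIdeal :=
      IsLocalization.comap_map_of_isPrime_disjoint P.primeCompl _ q.isPrime hdisj
    let q' : PrimeSpectrum (Localization.AtPrime P) := ⟨_, hprime⟩
    have hq'mem : q' ∈ (PrimeSpectrum.basicOpen
        (IsLocalization.mk' (Localization.AtPrime P) a s) : Set _) := by
      change IsLocalization.mk' (Localization.AtPrime P) a s ∉ q'.asIdeal
      intro hmem
      apply haq
      rw [← hcomap, Ideal.mem_comap]
      have : algebraMap A' (Localization.AtPrime P) a =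
          IsLocalization.mk' (Localization.AtPrime P) a s * algebraMap A' _ (s : A') := by
        rw [IsLocalization.mk'_spec]
      rw [this]
      exact Ideal.mul_mem_right _ _ hmem
    have h1 : q' ∈ EGA4.regLocus (Localization.AtPrime P) := hgsub hq'mem
    rw [Groth.Agent.Lib.Helper22.ExcLoc.regLocus_of_isLocalization A' P.primeCompl] at h1
    have h2 : PrimeSpectrum.comap (algebraMap A' (Localization.AtPrime P)) q' = q :=
      PrimeSpectrum.ext hcomap
    rw [Set.mem_preimage, h2] at h1
    exact h1

/-- a domain finite over a Noetherian local G-ring is J-0 -/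
theorem isJ0_of_finite_local_isGRing (A : Type u) [CommRing A] [IsLocalRing A]
    (hG : CAlg.IsGRing A) (A' : Type u) [CommRing A'] [IsDomain A'] [Algebra A A']
    [Module.Finite A A'] : IsJ0 A' := by
  classical
  haveI := hG.1
  have hG' : CAlg.IsGRing A' := Groth.Agent.Lib.Helper22.GRing.isGRing_of_finiteType A hG A'
  have hfin : ((maximalIdeal A).primesOver A').Finite :=
    Algebra.QuasiFinite.finite_primesOver (maximalIdeal A)
  choose! f hf0 hf using fun P : Ideal A' => fun hP : P ∈ (maximalIdeal A).primesOver A' =>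
    (haveI := hP.1; exists_ne_zero_forall_le A' hG' P)
  refine ⟨PrimeSpectrum.basicOpen (∏ P ∈ hfin.toFinset, f P),
    (PrimeSpectrum.basicOpen _).isOpen, ⟨⟨⊥, Ideal.isPrime_bot⟩, ?_⟩, ?_⟩
  · change (∏ P ∈ hfin.toFinset, f P) ∉ (⊥ : Ideal A')
    rw [Ideal.mem_bot, Finset.prod_eq_zero_iff]
    rintro ⟨P, hP, hP0⟩
    exact hf0 P (hfin.mem_toFinset.mp hP) hP0
  · intro q hq
    haveI := q.isPrime
    obtain ⟨M, hM, hqM⟩ := Ideal.exists_le_maximal q.asIdeal q.isPrime.ne_top
    have hMover : M ∈ (maximalIdeal A).primesOver A' := by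
      refine ⟨hM.isPrime, ⟨?_⟩⟩
      haveI : (M.comap (algebraMap A A')).IsMaximal :=
        Ideal.isMaximal_comap_of_isIntegral_of_isMaximal M
      exact (IsLocalRing.eq_maximalIdeal ‹_›).symm
    apply hf M hMover q hqM
    intro hfq
    apply hq
    change (∏ P ∈ hfin.toFinset, f P) ∈ q.asIdeal
    exact Ideal.mem_of_dvd _ (Finset.dvd_prod_of_mem f (hfin.mem_toFinset.mpr hMover)) hfq

/-- **A Noetherian local G-ring is J-2.** -/
theorem isJ2_of_local_isGRing (A : Type u) [CommRing A] [IsLocalRing A]
    (hG : CAlg.IsGRing A) : EGA4.IsJ2 A := by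
  haveI := hG.1
  apply Groth.Agent.Lib.Helper22.J0.isJ2_of_finite_domains_J0 A
  intro A' _ _ _ hfin
  haveI := hfin
  exact isJ0_of_finite_local_isGRing A hG A'

end Groth.Agent.Lib.Helper22.HensExc
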