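import Mathlib

/-!
# Nil-extensions of henselian local rings

If `p : C →+* S` is surjective with nil kernel and `S` is henselian local, then so is `C`, and `p`
is a local homomorphism.
-/

set_option autoImplicit false
universe u v
open Polynomial IsLocalRing

namespace Groth.Agent.Lib.Helper22.HenselNilExt

variable {C : Type u} {S : Type v} [CommRing C] [CommRing S]

theorem isLocalHom_of_surjective_of_ker_nil (p : C →+* S) (hp : Function.Surjective p)
    (hk : ∀ x, p x = 0 → IsNilpotent x) : IsLocalHom p where
  map_nonunit c hc := by
    obtain ⟨u, hu⟩ := hc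
    obtain ⟨d, hd⟩ := hp (↑u⁻¹ : S)
    have h0 : p (c * d - 1) = 0 := by
      rw [map_sub, map_mul, map_one, hd, ← hu, Units.mul_inv, sub_self]
    have h1 : IsUnit (c * d - 1 + 1) := (hk _ h0).isUnit_add_one
    rw [sub_add_cancel] at h1
    exact isUnit_of_mul_isUnit_left h1

theorem isLocalRing_of_surjective_of_ker_nil [IsLocalRing S] (p : C →+* S)
    (hp : Function.Surjective p) (hk : ∀ x, p x = 0 → IsNilpotent x) : IsLocalRing C :=
  haveI := isLocalHom_of_surjective_of_ker_nil p hp hk
  p.domain_isLocalRing

theorem henselianLocalRing_of_surjective_of_ker_nil [HenselianLocalRing S] (p : C →+* S)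
    (hp : Function.Surjective p) (hk : ∀ x, p x = 0 → IsNilpotent x) : HenselianLocalRing C :=
  haveI hloc := isLocalHom_of_surjective_of_ker_nil p hp hk
  haveI : IsLocalRing C := p.domain_isLocalRing
  { is_henselian := by
      intro f hf a₀ h₁ h₂
      have h1 : (f.map p).eval (p a₀) ∈ maximalIdeal S := by
        rw [eval_map_apply]
        exact map_nonunit p _ h₁
      have h2 : IsUnit ((f.map p).derivative.eval (p a₀)) := by
        rw [derivative_map, eval_map_apply]
        exact h₂.map p
      obtain ⟨s, hs, hs'⟩ := HenselianLocalRing.is_henselian (f.map p) (hf.map p) (p a₀) h1 h2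
      obtain ⟨c₁, rfl⟩ := hp s
      have hn : IsNilpotent (aeval c₁ f) := by
        apply hk
        rw [coe_aeval_eq_eval, ← eval_map_apply]
        exact hs
      have hu : IsUnit (aeval c₁ (derivative f)) := by
        rw [coe_aeval_eq_eval]
        apply hloc.map_nonunit
        rw [← eval_map_apply, ← derivative_map]
        -- f'(p c₁) ≡ f'(p a₀) mod m
        have hsub : (f.map p).derivative.eval (p c₁) - (f.map p).derivative.eval (p a₀) ∈
            maximalIdeal S := by
          have := Polynomial.sub_dvd_eval_sub (p c₁) (p a₀) (f.map p).derivative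
          exact Ideal.mem_of_dvd _ this hs'
        by_contra hnu
        have hmem : (f.map p).derivative.eval (p c₁) ∈ maximalIdeal S := hnu
        have : (f.map p).derivative.eval (p a₀) ∈ maximalIdeal S := by
          have := Ideal.sub_mem _ hmem hsub
          simpa using this
        exact this h2
      obtain ⟨r, ⟨hr1, hr2⟩, -⟩ := existsUnique_nilpotent_sub_and_aeval_eq_zero hn hu
      refine ⟨r, ?_, ?_⟩
      · rw [IsRoot.def, ← coe_aeval_eq_eval]; exact hr2
      · rw [mem_maximalIdeal, mem_nonunits_iff]
        intro hur
        have h3 : IsUnit (p (r - a₀)) := hur.map p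
        have h4 : p (r - a₀) = (p c₁ - p a₀) - p (c₁ - r) := by
          simp only [map_sub]; ring
        have h5 : p (c₁ - r) ∈ maximalIdeal S := by
          rw [mem_maximalIdeal, mem_nonunits_iff]
          exact (hr1.map p).not_isUnit
        have h6 : p (r - a₀) ∈ maximalIdeal S := by
          rw [h4]; exact Ideal.sub_mem _ hs' h5
        exact h6 h3 }

end Groth.Agent.Lib.Helper22.HenselNilExt
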