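import Mathlib
import Groth.Prelude.Def_Isoc
import Groth.Agent.Lib.helper10.IsocLattice
import Groth.Agent.Lib.Helper22.IsocFekete
import Groth.Agent.Lib.Helper22.IsocFekete2
import Groth.Agent.Lib.Helper22.IsocDet
import Groth.Agent.Lib.Helper22.IsocBasis
import Groth.Agent.Lib.Helper22.CharpolySum

/-!
# Eigenvalues of lattice automorphisms are units of the integral closure (helper22)
-/

set_option autoImplicit false
set_option linter.unusedSectionVars false

open scoped Pointwise Isocrystal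

universe u v w

noncomputable section

namespace Groth.Agent.Lib.Helper22.IsocF

open Groth.Agent.Lib.helper10.IsocL Groth.Agent.Lib.Helper22.CharpolySum Polynomial

section

variable {p : ℕ} [Fact p.Prime] {k : Type u} [Field k] [CharP k p] [PerfectRing k p]
variable {V : Type v} [AddCommGroup V] [Module (WittVector p k) V] [Module K(p, k) V]
  [IsScalarTower (WittVector p k) K(p, k) V]

theorem exists_matrix_of_stable {h : ℕ} (e : Module.Basis (Fin h) K(p, k) V)
    (g : V →ₗ[K(p, k)] V) (hg : ∀ x ∈ stdLat e, g x ∈ stdLat e) :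
    ∃ A : Matrix (Fin h) (Fin h) (WittVector p k),
      LinearMap.toMatrix e e g = A.map (algebraMap (WittVector p k) K(p, k)) := by
  have : ∀ i j, ∃ w : WittVector p k,
      e.repr (g (e j)) i = algebraMap (WittVector p k) K(p, k) w := fun i j =>
    repr_mem_of_mem_stdLat e (hg _ (Submodule.subset_span (Set.mem_range_self j))) i
  choose A hA using this
  refine ⟨Matrix.of A, ?_⟩
  ext i j
  rw [LinearMap.toMatrix_apply, Matrix.map_apply, Matrix.of_apply, hA]

theorem isUnit_det_of_surj {h : ℕ} (e : Module.Basis (Fin h) K(p, k) V)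
    (g : V →ₗ[K(p, k)] V) (A : Matrix (Fin h) (Fin h) (WittVector p k))
    (hA : LinearMap.toMatrix e e g = A.map (algebraMap (WittVector p k) K(p, k)))
    (hsurj : ∀ y ∈ stdLat e, ∃ x ∈ stdLat e, g x = y) : IsUnit A.det := by
  have h1 : ∀ j, ∃ x ∈ stdLat e, g x = e j := fun j =>
    hsurj (e j) (Submodule.subset_span (Set.mem_range_self j))
  choose m hm hgm using h1
  have h2 : ∀ i j, ∃ w : WittVector p k,
      e.repr (m j) i = algebraMap (WittVector p k) K(p, k) w := fun i j =>
    repr_mem_of_mem_stdLat e (hm j) i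
  choose A' hA' using h2
  have hmul : A * Matrix.of A' = 1 := by
    apply Matrix.map_injective (IsFractionRing.injective (WittVector p k) K(p, k))
    dsimp only
    rw [Matrix.map_mul, ← hA, Matrix.map_one _ (map_zero _) (map_one _)]
    ext l j
    rw [Matrix.mul_apply]
    simp only [LinearMap.toMatrix_apply, Matrix.map_apply, Matrix.of_apply, ← hA']
    have := repr_map e g (m j) l
    simp only [RingHom.id_apply] at this
    rw [← this, hgm j, Module.Basis.repr_self, Finsupp.single_apply, Matrix.one_apply]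
    simp [eq_comm]
  exact IsUnit.of_mul_eq_one _ (by rw [← Matrix.det_mul, hmul, Matrix.det_one])

/-- The eigenvalues of an automorphism of a lattice are units of the integral closure of `W`. -/
theorem unit_roots_of_lattice_auto [Module.Finite K(p, k) V] (g : V →ₗ[K(p, k)] V)
    (M : Submodule (WittVector p k) V) [M.IsLattice K(p, k)]
    (hg : ∀ x ∈ M, g x ∈ M) (hsurj : ∀ y ∈ M, ∃ x ∈ M, g x = y)
    {Ω : Type w} [Field Ω] [Algebra (WittVector p k) Ω] [Algebra K(p, k) Ω]
    [IsScalarTower (WittVector p k) K(p, k) Ω] (β : Ω)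
    (hβ : ((g.charpoly).map (algebraMap K(p, k) Ω)).IsRoot β) :
    β ≠ 0 ∧ IsIntegral (WittVector p k) β ∧ IsIntegral (WittVector p k) β⁻¹ := by
  obtain ⟨e, rfl⟩ := exists_basis_stdLat_eq M rfl
  obtain ⟨A, hA⟩ := exists_matrix_of_stable e g hg
  have hdet := isUnit_det_of_surj e g A hA hsurj
  have hcp : g.charpoly = A.charpoly.map (algebraMap (WittVector p k) K(p, k)) := by
    rw [← LinearMap.charpoly_toMatrix g e, hA, Matrix.charpoly_map]
  apply isIntegral_inv_of_root A.charpoly (Matrix.charpoly_monic A) ?_ β ?_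
  · have h1 := Matrix.det_eq_sign_charpoly_coeff A
    have h2 : A.charpoly.coeff 0 =
        (-1) ^ Fintype.card (Fin (Module.finrank K(p, k) V)) * A.det := by
      rw [h1, ← mul_assoc, ← pow_add, ← two_mul, pow_mul]
      simp
    rw [h2]
    exact (IsUnit.pow _ isUnit_one.neg).mul hdet
  · rw [hcp, Polynomial.map_map, ← IsScalarTower.algebraMap_eq] at hβ
    rwa [Polynomial.IsRoot, Polynomial.eval_map, ← Polynomial.aeval_def] at hβ

end

section Excl

variable {p : ℕ} [Fact p.Prime] {k : Type u} [Field k] [CharP k p] [PerfectRing k p]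
variable {Ω : Type w} [Field Ω] [Algebra (WittVector p k) Ω] [Algebra K(p, k) Ω]
    [IsScalarTower (WittVector p k) K(p, k) Ω]

theorem not_isUnit_p : ¬ IsUnit (p : WittVector p k) :=
  (WittVector.irreducible p).not_isUnit

theorem not_isIntegral_zpow_neg (n : ℕ) (hn : 0 < n) :
    ¬ IsIntegral (WittVector p k) ((algebraMap K(p, k) Ω (p : K(p, k))) ^ (-(n : ℤ))) := by
  intro hint
  rw [← map_zpow₀, isIntegral_algebraMap_iff (algebraMap K(p, k) Ω).injective,
    IsIntegrallyClosed.isIntegral_iff] at hint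
  obtain ⟨w, hw⟩ := hint
  have h1 : algebraMap (WittVector p k) K(p, k) ((p : WittVector p k) ^ n * w) = 1 := by
    rw [map_mul, hw, map_pow, map_natCast, zpow_neg, zpow_natCast,
      mul_inv_cancel₀ (pow_ne_zero n p_ne_zero)]
  have h2 : (p : WittVector p k) ^ n * w = 1 :=
    IsFractionRing.injective (WittVector p k) K(p, k) (by rw [h1, map_one])
  have h3 : IsUnit ((p : WittVector p k) ^ n) := IsUnit.of_mul_eq_one _ h2
  exact not_isUnit_p ((isUnit_pow_iff hn.ne').mp h3)

theorem eq_zero_of_isIntegral_zpow (E : ℤ)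
    (h1 : IsIntegral (WittVector p k) ((algebraMap K(p, k) Ω (p : K(p, k))) ^ E))
    (h2 : IsIntegral (WittVector p k) ((algebraMap K(p, k) Ω (p : K(p, k))) ^ (-E))) : E = 0 := by
  by_contra hE
  rcases lt_or_gt_of_ne hE with hlt | hgt
  · apply not_isIntegral_zpow_neg (p := p) (k := k) (Ω := Ω) (-E).toNat (by omega)
    rw [Int.toNat_of_nonneg (by omega), neg_neg]
    exact h1
  · apply not_isIntegral_zpow_neg (p := p) (k := k) (Ω := Ω) E.toNat (by omega)
    rw [Int.toNat_of_nonneg (by omega)]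
    exact h2

/-- A non-zero element cannot have two different "slopes". -/
theorem unit_slope_unique (m : ℕ) (hm : 0 < m) (μ ν : ℚ) (α : Ω) (hα : α ≠ 0)
    (hμ1 : IsIntegral (WittVector p k)
      (α ^ μ.den * (algebraMap K(p, k) Ω (p : K(p, k))) ^ (-(μ.num * (m : ℤ)))))
    (hμ2 : IsIntegral (WittVector p k)
      (α ^ μ.den * (algebraMap K(p, k) Ω (p : K(p, k))) ^ (-(μ.num * (m : ℤ))))⁻¹)
    (hν1 : IsIntegral (WittVector p k)
      (α ^ ν.den * (algebraMap K(p, k) Ω (p : K(p, k))) ^ (-(ν.num * (m : ℤ)))))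
    (hν2 : IsIntegral (WittVector p k)
      (α ^ ν.den * (algebraMap K(p, k) Ω (p : K(p, k))) ^ (-(ν.num * (m : ℤ))))⁻¹) :
    μ = ν := by
  set P := algebraMap K(p, k) Ω (p : K(p, k)) with hPdef
  have hP : P ≠ 0 := by
    rw [hPdef]
    exact (_root_.map_ne_zero _).mpr p_ne_zero
  set E : ℤ := (ν.num * μ.den - μ.num * ν.den) * m with hE
  have e1 : (α ^ μ.den * P ^ (-(μ.num * (m : ℤ)))) ^ ν.den *
      ((α ^ ν.den * P ^ (-(ν.num * (m : ℤ))))⁻¹) ^ μ.den = P ^ E := by
    rw [mul_pow, mul_inv, mul_pow, ← zpow_natCast (P ^ _), ← zpow_mul, ← zpow_neg P,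
      ← zpow_natCast ((P ^ _)), ← zpow_mul, ← pow_mul, inv_pow, ← pow_mul,
      mul_mul_mul_comm, ← zpow_add₀ hP, mul_comm ν.den μ.den,
      mul_inv_cancel₀ (pow_ne_zero _ hα), one_mul]
    congr 1
    rw [hE]
    ring
  have e2 : ((α ^ μ.den * P ^ (-(μ.num * (m : ℤ))))⁻¹) ^ ν.den *
      (α ^ ν.den * P ^ (-(ν.num * (m : ℤ)))) ^ μ.den = P ^ (-E) := by
    rw [show P ^ (-E) = (P ^ E)⁻¹ from zpow_neg P E, ← e1]
    generalize α ^ μ.den * P ^ (-(μ.num * (m : ℤ))) = X
    generalize α ^ ν.den * P ^ (-(ν.num * (m : ℤ))) = Y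
    rw [mul_inv, inv_pow, inv_pow, inv_inv]
  have hE0 : E = 0 := by
    apply eq_zero_of_isIntegral_zpow (p := p) (k := k) (Ω := Ω) E
    · rw [← hPdef, ← e1]
      exact (hμ1.pow _).mul (hν2.pow _)
    · rw [← hPdef, ← e2]
      exact (hμ2.pow _).mul (hν1.pow _)
  have hm0 : (m : ℤ) ≠ 0 := by exact_mod_cast hm.ne'
  have h3 : ν.num * μ.den - μ.num * ν.den = 0 := by
    rcases mul_eq_zero.mp (hE ▸ hE0) with h | h
    · exact h
    · exact (hm0 h).elim
  rw [Rat.eq_iff_mul_eq_mul]
  linarith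

end Excl

end Groth.Agent.Lib.Helper22.IsocF
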