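import Mathlib
import Groth.Prelude.Def_Isoc
import Groth.Agent.Lib.helper10.IsocLattice
import Groth.Agent.Lib.Helper22.IsocFekete
import Groth.Agent.Lib.Helper22.IsocFekete2
import Groth.Agent.Lib.Helper22.IsocKatz

/-!
# Lattices adapted to slopes below the first slope (helper22)
-/

set_option autoImplicit false
set_option linter.unusedSectionVars false

open scoped Pointwise Isocrystal

universe u v

noncomputable section

namespace Groth.Agent.Lib.Helper22.IsocF

open Groth.Agent.Lib.helper10.IsocL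

section

variable {p : ℕ} [Fact p.Prime] {k : Type u} [Field k] [CharP k p] [PerfectRing k p]
variable {N : Type v} [AddCommGroup N] [Module (WittVector p k) N] [Module K(p, k) N]
  [IsScalarTower (WittVector p k) K(p, k) N]
variable {τ : K(p, k) →+* K(p, k)}

/-- If `G^j M ⊆ M` for some `j ≥ 1` then `M + G M + ... + G^(j-1) M` is `G`-stable. -/
theorem latImg_acc_pred_le (hτ : PreservesW τ) (G : N →ₛₗ[τ] N)
    {M : Submodule (WittVector p k) N} {j : ℕ} (hj : 1 ≤ j) (h : Isoc.latImg G j M ≤ M) :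
    Isoc.latImg G 1 (acc G M (j - 1)) ≤ acc G M (j - 1) := by
  obtain ⟨i, rfl⟩ : ∃ i, j = i + 1 := ⟨j - 1, by omega⟩
  simp only [Nat.add_sub_cancel]
  calc Isoc.latImg G 1 (acc G M i) ≤ acc G M (1 + i) := latImg_acc_le hτ G M 1 i
    _ = acc G M i ⊔ Isoc.latImg G (i + 1) M := by rw [add_comm, acc_succ]
    _ ≤ acc G M i := sup_le le_rfl (h.trans (self_le_acc G M i))

theorem latImg_smul_iter_one_le_iff (F : N →ₛₗ[τ] N) (R : ℤ) (S : ℕ)
    (M : Submodule (WittVector p k) N) :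
    Isoc.latImg (((p : K(p, k)) ^ (-R)) • Isoc.iter F S) 1 M ≤ M ↔
      Isoc.latImg F S M ≤ Isoc.pPow R M := by
  rw [latImg_smul_iter]
  simp only [Nat.cast_one, mul_one]
  constructor
  · intro h
    have := pPow_mono R h
    rwa [pPow_pPow, add_neg_cancel, pPow_zero] at this
  · intro h
    have := pPow_mono (-R) h
    rwa [pPow_pPow, neg_add_cancel, pPow_zero] at this

/-- Strictly below the first slope there is an adapted lattice. -/
theorem exists_latImg_le_of_lt_slope (hτ : PreservesW τ) (F : N →ₛₗ[τ] N)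
    {M₀ : Submodule (WittVector p k) N} (hfg : M₀.FG)
    (hspan : Submodule.span K(p, k) (M₀ : Set N) = ⊤) {o : ℕ → ℤ}
    (ho : ∀ n : ℕ, 1 ≤ n → Isoc.IsOrd M₀ F n (o n)) {lam : ℝ}
    (hl : Filter.Tendsto (fun n : ℕ => (o n : ℝ) / n) Filter.atTop (nhds lam))
    {R : ℤ} {S : ℕ} (hS : 0 < S) (hlt : (R : ℝ) / S < lam) :
    ∃ M₁ : Submodule (WittVector p k) N, M₁.FG ∧
      Submodule.span K(p, k) (M₁ : Set N) = ⊤ ∧ Isoc.latImg F S M₁ ≤ Isoc.pPow R M₁ := by
  -- find `j ≥ 1` with `o (S j) ≥ R j`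
  have hsub : Filter.Tendsto (fun j : ℕ => S * j) Filter.atTop Filter.atTop :=
    Filter.tendsto_atTop_mono (fun j => Nat.le_mul_of_pos_left j hS) Filter.tendsto_id
  have hev := (hl.comp hsub).eventually (lt_mem_nhds hlt)
  obtain ⟨j, hj1, hj⟩ := (hev.and (Filter.eventually_ge_atTop 1)).exists
  simp only [Function.comp_apply] at hj1
  have hS0 : (0 : ℝ) < S := by exact_mod_cast hS
  have hj0 : (0 : ℝ) < j := by exact_mod_cast hj
  have hoj : R * j ≤ o (S * j) := by
    have h1 : (R : ℝ) / S < (o (S * j) : ℝ) / ((S * j : ℕ) : ℝ) := hj1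
    rw [div_lt_div_iff₀ hS0 (by push_cast; positivity)] at h1
    push_cast at h1
    have h2 : (R : ℝ) * j < o (S * j) := by
      have : (R : ℝ) * j * S < (o (S * j) : ℝ) * S := by nlinarith
      exact lt_of_mul_lt_mul_right this hS0.le
    have h3 : ((R * j : ℤ) : ℝ) < ((o (S * j) : ℤ) : ℝ) := by push_cast; exact h2
    exact le_of_lt (by exact_mod_cast h3)
  -- the twisted iterate
  have hτS := hτ.pow S
  set G : N →ₛₗ[τ ^ S] N := ((p : K(p, k)) ^ (-R)) • Isoc.iter F S with hG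
  have hGj : Isoc.latImg G j M₀ ≤ M₀ := by
    rw [hG, latImg_smul_iter]
    calc Isoc.pPow (-R * j) (Isoc.latImg F (S * j) M₀)
        ≤ Isoc.pPow (-R * j) (Isoc.pPow (o (S * j)) M₀) :=
          pPow_mono _ (ho (S * j) (Nat.mul_pos hS hj)).1
      _ = Isoc.pPow (o (S * j) - R * j) M₀ := by rw [pPow_pPow]; congr 1; ring
      _ ≤ M₀ := by
          have := pPow_anti (show (0 : ℤ) ≤ o (S * j) - R * j by omega) M₀
          rwa [pPow_zero] at this
  refine ⟨acc G M₀ (j - 1), acc_fg hτS G hfg _, span_acc G hspan _, ?_⟩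
  exact (latImg_smul_iter_one_le_iff F R S _).mp (latImg_acc_pred_le hτS G hj hGj)

/-- At or below the first slope there is an adapted lattice. -/
theorem exists_latImg_le_of_le_slope (hτ : PreservesW τ) (F : N →ₛₗ[τ] N)
    {M₀ : Submodule (WittVector p k) N} (hfg : M₀.FG)
    (hspan : Submodule.span K(p, k) (M₀ : Set N) = ⊤) {o : ℕ → ℤ}
    (ho : ∀ n : ℕ, 1 ≤ n → Isoc.IsOrd M₀ F n (o n)) {lam : ℝ}
    (hl : Filter.Tendsto (fun n : ℕ => (o n : ℝ) / n) Filter.atTop (nhds lam))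
    {r : ℤ} {s : ℕ} (hs : 0 < s) (hle : (r : ℝ) / s ≤ lam) :
    ∃ M : Submodule (WittVector p k) N, M.FG ∧
      Submodule.span K(p, k) (M : Set N) = ⊤ ∧ Isoc.latImg F s M ≤ Isoc.pPow r M := by
  set h := Module.finrank K(p, k) N with hh
  have hS : 0 < s * (h + 1) := Nat.mul_pos hs (Nat.succ_pos h)
  have hlt : ((r * (h + 1) - 1 : ℤ) : ℝ) / ((s * (h + 1) : ℕ) : ℝ) < lam := by
    refine lt_of_lt_of_le ?_ hle
    have hs0 : (0 : ℝ) < s := by exact_mod_cast hs
    have hh0 : (0 : ℝ) < (h : ℝ) + 1 := by positivity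
    rw [div_lt_div_iff₀ (by push_cast; positivity) hs0]
    push_cast
    nlinarith
  obtain ⟨M₁, hfg₁, hspan₁, hM₁⟩ := exists_latImg_le_of_lt_slope hτ F hfg hspan ho hl hS hlt
  have hτs := hτ.pow s
  have hK : Isoc.latImg (((p : K(p, k)) ^ (-r)) • Isoc.iter F s) (h + 1) M₁ ≤
      Isoc.pPow (-1) M₁ := by
    rw [latImg_smul_iter]
    calc Isoc.pPow (-r * ((h + 1 : ℕ) : ℤ)) (Isoc.latImg F (s * (h + 1)) M₁)
        ≤ Isoc.pPow (-r * ((h + 1 : ℕ) : ℤ)) (Isoc.pPow (r * (h + 1) - 1) M₁) :=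
          pPow_mono _ hM₁
      _ = Isoc.pPow (-1) M₁ := by rw [pPow_pPow]; congr 1; push_cast; ring
  obtain ⟨M'', hfg'', hspan'', hst⟩ :=
    exists_stable_of_latImg_succ_le hτs _ h hh.symm hfg₁ hspan₁ hK
  exact ⟨M'', hfg'', hspan'', (latImg_smul_iter_one_le_iff F r s M'').mp hst⟩

end

end Groth.Agent.Lib.Helper22.IsocF

end
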