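import Mathlib
import Groth.Prelude.Def_Isoc
import Groth.Agent.Lib.helper10.IsocLattice
import Groth.Agent.Lib.Helper22.IsocFekete
import Groth.Agent.Lib.Helper22.IsocFekete2
import Groth.Agent.Lib.Helper22.IsocDet2
import Groth.Agent.Lib.Helper22.IsocKatz
import Groth.Agent.Lib.Helper22.IsocKatz2

/-!
# Rationality of the first slope (helper22)
-/

set_option autoImplicit false
set_option linter.unusedSectionVars false

open scoped Pointwise Isocrystal

universe u v

noncomputable section

namespace Groth.Agent.Lib.Helper22.IsocF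

open Groth.Agent.Lib.helper10.IsocL

section

variable {p : ℕ} [Fact p.Prime] {k : Type u} [Field k] [CharP k p] [PerfectRing k p]
variable {N : Type v} [AddCommGroup N] [Module (WittVector p k) N] [Module K(p, k) N]
  [IsScalarTower (WittVector p k) K(p, k) N]
variable {τ : K(p, k) →+* K(p, k)}

/-- An adapted lattice `F^s M ⊆ p^r M` bounds the first slope from below. -/
theorem div_le_slope (hτ : PreservesW τ) (F : N →ₛₗ[τ] N)
    {M₀ : Submodule (WittVector p k) N} (hfg₀ : M₀.FG)
    (hspan₀ : Submodule.span K(p, k) (M₀ : Set N) = ⊤) {o : ℕ → ℤ}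
    (ho : ∀ n : ℕ, 1 ≤ n → Isoc.IsOrd M₀ F n (o n)) {lam : ℝ}
    (hl : Filter.Tendsto (fun n : ℕ => (o n : ℝ) / n) Filter.atTop (nhds lam))
    {M : Submodule (WittVector p k) N} (hfg : M.FG)
    (hspan : Submodule.span K(p, k) (M : Set N) = ⊤) {r : ℤ} {s : ℕ} (hs : 0 < s)
    (hle : Isoc.latImg F s M ≤ Isoc.pPow r M) : (r : ℝ) / s ≤ lam := by
  obtain ⟨c₁, hc₁⟩ := exists_pPow_le (p := p) (k := k) hfg₀ hspan
  obtain ⟨c₂, hc₂⟩ := exists_pPow_le (p := p) (k := k) hfg hspan₀
  have key : ∀ j : ℕ, 1 ≤ j → r * j - c₁ - c₂ ≤ o (s * j) := by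
    intro j hj
    have h1 := latImg_le_of_commens F hc₁ hc₂ (latImg_mul_le hτ F hle j)
    exact le_of_isOrd (ho (s * j) (Nat.mul_pos hs hj)) h1
  have hsub : Filter.Tendsto (fun j : ℕ => s * j) Filter.atTop Filter.atTop :=
    Filter.tendsto_atTop_mono (fun j => Nat.le_mul_of_pos_left j hs) Filter.tendsto_id
  have hg := hl.comp hsub
  have hs0 : (0 : ℝ) < s := by exact_mod_cast hs
  have hf : Filter.Tendsto (fun j : ℕ => (r : ℝ) / s - (((c₁ : ℝ) + c₂) / s) / j) Filter.atTop
      (nhds ((r : ℝ) / s)) := by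
    have := (tendsto_const_div_atTop_nhds_zero_nat (((c₁ : ℝ) + c₂) / s))
    simpa using (tendsto_const_nhds (x := (r : ℝ) / s)).sub this
  refine le_of_tendsto_of_tendsto hf hg ?_
  filter_upwards [Filter.eventually_ge_atTop 1] with j hj
  have hj0 : (0 : ℝ) < j := by exact_mod_cast hj
  simp only [Function.comp_apply]
  have h1 : ((r * j - c₁ - c₂ : ℤ) : ℝ) ≤ (o (s * j) : ℝ) := by exact_mod_cast key j hj
  push_cast at h1
  rw [le_div_iff₀ (by push_cast; positivity)]
  push_cast
  have e : ((r : ℝ) / s - ((c₁ : ℝ) + c₂) / s / j) * (s * j) = r * j - c₁ - c₂ := by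
    field_simp
    ring
  rw [e]
  exact h1

/-- A stable lattice on which `G` is topologically nilpotent has `G^h M ⊆ p M`. -/
theorem latImg_height_le_of_nilpotent (hτ : PreservesW τ) (G : N →ₛₗ[τ] N)
    (M : Submodule (WittVector p k) N) [hM : M.IsLattice K(p, k)] (h : ℕ)
    (hh : Module.finrank K(p, k) N = h) (hst : Isoc.latImg G 1 M ≤ M) {n : ℕ}
    (hn : Isoc.latImg G n M ≤ Isoc.pPow 1 M) : Isoc.latImg G h M ≤ Isoc.pPow 1 M := by
  have hp1 : Isoc.pPow 1 M ≤ M := by simpa using pPow_natCast_le 1 M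
  have hanti1 : ∀ j, Isoc.latImg G (j + 1) M ≤ Isoc.latImg G j M := by
    intro j
    rw [latImg_add hτ]
    exact latImg_mono G j hst
  have hleM : ∀ j, Isoc.latImg G j M ≤ M := by
    intro j
    induction j with
    | zero => rw [latImg_zero]
    | succ j ih => exact (hanti1 j).trans ih
  set Y : ℕ → Submodule (WittVector p k) N := fun j => Isoc.latImg G j M ⊔ Isoc.pPow 1 M with hY
  have hYanti1 : ∀ j, Y (j + 1) ≤ Y j := fun j => sup_le_sup_right (hanti1 j) _
  have hYanti : ∀ {i j}, i ≤ j → Y j ≤ Y i := by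
    intro i j hij
    induction hij with
    | refl => exact le_rfl
    | step _ ih => exact (hYanti1 _).trans ih
  have hYrec : ∀ j, Y (j + 1) = Isoc.latImg G 1 (Y j) ⊔ Isoc.pPow 1 M := by
    intro j
    simp only [hY]
    rw [latImg_sup, ← latImg_add hτ, latImg_pPow, add_comm 1 j, sup_assoc]
    congr 1
    exact (sup_eq_right.mpr (pPow_mono 1 hst)).symm
  have hYn : Y n = Isoc.pPow 1 M := sup_eq_right.mpr hn
  have hgoal : Y h ≤ Isoc.pPow 1 M := by
    by_cases hex : ∃ j, j < h ∧ Y j = Y (j + 1)
    · obtain ⟨j, hj, he⟩ := hex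
      have hstep : ∀ i, Y i = Y (i + 1) → Y (i + 1) = Y (i + 1 + 1) := by
        intro i hi
        rw [hYrec (i + 1), ← hi, ← hYrec i]
        exact hi
      have hconst1 : ∀ t, Y (j + t) = Y (j + t + 1) := by
        intro t
        induction t with
        | zero => exact he
        | succ t ih => exact hstep (j + t) ih
      have hconst : ∀ t, Y j = Y (j + t) := by
        intro t
        induction t with
        | zero => rfl
        | succ t ih => exact ih.trans (hconst1 t)
      calc Y h ≤ Y j := hYanti hj.le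
        _ = Y (j + n) := hconst n
        _ ≤ Y n := hYanti (by omega)
        _ = Isoc.pPow 1 M := hYn
    · push Not at hex
      have := chain_bottom M h hh (fun i => Y (h - i)) (fun i => le_sup_right)
        (fun i _ => sup_le (hleM _) hp1)
        (fun i hi => by
          have : h - i = (h - (i + 1)) + 1 := by omega
          rw [this]
          exact hYanti1 _)
        (fun i hi => by
          have e : h - i = (h - (i + 1)) + 1 := by omega
          rw [e]
          exact (hex (h - (i + 1)) (by omega)).symm)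
      simpa using this
  exact le_sup_left.trans hgoal

end

end Groth.Agent.Lib.Helper22.IsocF

end
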