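import Mathlib
import Groth.Prelude.Def_Isoc
import Groth.Agent.Lib.helper10.IsocLattice
import Groth.Agent.Lib.Helper22.IsocFekete
import Groth.Agent.Lib.Helper22.IsocFekete2
import Groth.Agent.Lib.Helper22.IsocDet2
import Groth.Agent.Lib.Helper22.IsocKatz
import Groth.Agent.Lib.Helper22.IsocKatz2
import Groth.Agent.Lib.Helper22.IsocRat

/-!
# Rationality of the first slope, main statement (helper22)
-/

set_option autoImplicit false
set_option linter.unusedSectionVars false

open scoped Pointwise Isocrystal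

universe u v

noncomputable section

namespace Groth.Agent.Lib.Helper22.IsocF

open Groth.Agent.Lib.helper10.IsocL

section

variable {p : ℕ} [Fact p.Prime] {k : Type u} [Field k] [CharP k p] [PerfectRing k p]
variable {N : Type v} [AddCommGroup N] [Module (WittVector p k) N] [Module K(p, k) N]
  [IsScalarTower (WittVector p k) K(p, k) N]
variable {τ : K(p, k) →+* K(p, k)}

theorem latImg_smul_iter_le_iff (F : N →ₛₗ[τ] N) (R : ℤ) (S j : ℕ) (t : ℤ)
    (M : Submodule (WittVector p k) N) :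
    Isoc.latImg (((p : K(p, k)) ^ (-R)) • Isoc.iter F S) j M ≤ Isoc.pPow t M ↔
      Isoc.latImg F (S * j) M ≤ Isoc.pPow (R * j + t) M := by
  rw [latImg_smul_iter]
  constructor
  · intro h
    have := pPow_mono (R * j) h
    rwa [pPow_pPow, pPow_pPow, show R * (j : ℤ) + -R * j = 0 by ring, pPow_zero] at this
  · intro h
    have := pPow_mono (-R * j) h
    rwa [pPow_pPow, show -R * (j : ℤ) + (R * j + t) = t by ring] at this

/-- The first slope is `r / s` with `0 < s ≤ h`, attained as an order on some lattice. -/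
theorem slope_rational [Module.Finite K(p, k) N] [Nontrivial N] (hτ : PreservesW τ)
    (F : N →ₛₗ[τ] N)
    {M₀ : Submodule (WittVector p k) N} (hfg₀ : M₀.FG)
    (hspan₀ : Submodule.span K(p, k) (M₀ : Set N) = ⊤) {o : ℕ → ℤ}
    (ho : ∀ n : ℕ, 1 ≤ n → Isoc.IsOrd M₀ F n (o n)) {lam : ℝ}
    (hl : Filter.Tendsto (fun n : ℕ => (o n : ℝ) / n) Filter.atTop (nhds lam))
    (h : ℕ) (hh : Module.finrank K(p, k) N = h) :
    ∃ (r : ℤ) (s : ℕ) (M : Submodule (WittVector p k) N), 0 < s ∧ s ≤ h ∧ lam = (r : ℝ) / s ∧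
      M.FG ∧ Submodule.span K(p, k) (M : Set N) = ⊤ ∧ Isoc.IsOrd M F s r := by
  have hpos : 0 < h := hh ▸ Module.finrank_pos
  obtain ⟨r, s', hs'pos, hs'le, habs⟩ := Real.exists_int_int_abs_mul_sub_le lam hpos
  obtain ⟨s, rfl⟩ : ∃ s : ℕ, s' = (s : ℤ) := ⟨s'.toNat, (Int.toNat_of_nonneg hs'pos.le).symm⟩
  have hs : 0 < s := by exact_mod_cast hs'pos
  have hsh : s ≤ h := by exact_mod_cast hs'le
  have hs0 : (0 : ℝ) < s := by exact_mod_cast hs
  have hh0 : (0 : ℝ) < h := by exact_mod_cast hpos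
  push_cast at habs
  rw [abs_le] at habs
  obtain ⟨hab1, hab2⟩ := habs
  -- (A) an adapted lattice for `r / s`
  have hA : ((r * (h + 1) - 1 : ℤ) : ℝ) / ((s * (h + 1) : ℕ) : ℝ) ≤ lam := by
    rw [div_le_iff₀ (by push_cast; positivity)]
    push_cast
    have : (1 : ℝ) / (h + 1) * (h + 1) = 1 := by field_simp
    nlinarith
  obtain ⟨M₁, hfg₁, hspan₁, hM₁⟩ := exists_latImg_le_of_le_slope hτ F hfg₀ hspan₀ ho hl
    (Nat.mul_pos hs (Nat.succ_pos h)) hA
  have hτs := hτ.pow s
  have hK : Isoc.latImg (((p : K(p, k)) ^ (-r)) • Isoc.iter F s) (h + 1) M₁ ≤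
      Isoc.pPow (-1) M₁ := by
    rw [latImg_smul_iter_le_iff]
    convert hM₁ using 2
    push_cast; ring
  obtain ⟨M, hfg, hspan, hst⟩ := exists_stable_of_latImg_succ_le hτs _ h hh hfg₁ hspan₁ hK
  have hle : Isoc.latImg F s M ≤ Isoc.pPow r M := (latImg_smul_iter_one_le_iff F r s M).mp hst
  have hlow : (r : ℝ) / s ≤ lam := div_le_slope hτ F hfg₀ hspan₀ ho hl hfg hspan hs hle
  -- (B) the reverse inequality
  have hupp : lam ≤ (r : ℝ) / s := by
    by_contra hlt
    push Not at hlt
    obtain ⟨c₁, hc₁⟩ := exists_pPow_le (p := p) (k := k) hfg hspan₀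
    obtain ⟨c₂, hc₂⟩ := exists_pPow_le (p := p) (k := k) hfg₀ hspan
    -- `o (s n) - r n → ∞`
    set μ : ℝ := ((r : ℝ) / s + lam) / 2 with hμ
    have hμ1 : (r : ℝ) / s < μ := by rw [hμ]; linarith
    have hμ2 : μ < lam := by rw [hμ]; linarith
    have hsub : Filter.Tendsto (fun j : ℕ => s * j) Filter.atTop Filter.atTop :=
      Filter.tendsto_atTop_mono (fun j => Nat.le_mul_of_pos_left j hs) Filter.tendsto_id
    have hev := (hl.comp hsub).eventually (lt_mem_nhds hμ2)
    have hδ : 0 < μ * s - r := by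
      have := (div_lt_iff₀ hs0).mp hμ1
      linarith
    obtain ⟨K, hK'⟩ := exists_nat_gt ((1 + (c₁ : ℝ) + c₂) / (μ * s - r))
    obtain ⟨n, hn1, hn2⟩ := (hev.and (Filter.eventually_ge_atTop (max K 1))).exists
    simp only [Function.comp_apply] at hn1
    have hn0 : (0 : ℝ) < n := by
      have : 1 ≤ n := (le_max_right K 1).trans hn2
      exact_mod_cast this
    have hnK : (K : ℝ) ≤ n := by exact_mod_cast (le_max_left K 1).trans hn2
    have hbig : r * n + 1 + c₁ + c₂ ≤ o (s * n) := by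
      have h1 : μ * (s * n) < o (s * n) := by
        have := (lt_div_iff₀ (by push_cast; positivity)).mp hn1
        push_cast at this
        exact this
      have h2 : (1 + (c₁ : ℝ) + c₂) < (μ * s - r) * n := by
        have := (div_lt_iff₀ hδ).mp (hK'.trans_le hnK)
        linarith
      have h3 : ((r * n + 1 + c₁ + c₂ : ℤ) : ℝ) < ((o (s * n) : ℤ) : ℝ) := by
        push_cast
        nlinarith
      exact le_of_lt (by exact_mod_cast h3)
    have hn : Isoc.latImg (((p : K(p, k)) ^ (-r)) • Isoc.iter F s) n M ≤ Isoc.pPow 1 M := by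
      rw [latImg_smul_iter_le_iff]
      have h1 := latImg_le_of_commens F hc₁ hc₂ (ho (s * n) (Nat.mul_pos hs (by
        exact_mod_cast hn0))).1
      exact h1.trans (pPow_anti (by omega) M)
    have hM : M.IsLattice K(p, k) := ⟨hfg, hspan⟩
    have hh' := latImg_height_le_of_nilpotent hτs _ M h hh hst hn
    rw [latImg_smul_iter_le_iff] at hh'
    have := div_le_slope hτ F hfg₀ hspan₀ ho hl hfg hspan (Nat.mul_pos hs hpos) hh'
    rw [div_le_iff₀ (by push_cast; positivity)] at this
    push_cast at this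
    have e : (1 : ℝ) / (h + 1) * (h + 1) = 1 := by field_simp
    nlinarith
  have heq : lam = (r : ℝ) / s := le_antisymm hupp hlow
  refine ⟨r, s, M, hs, hsh, heq, hfg, hspan, hle, fun hcon => ?_⟩
  have := div_le_slope hτ F hfg₀ hspan₀ ho hl hfg hspan hs hcon
  rw [heq, div_le_div_iff_of_pos_right hs0] at this
  push_cast at this
  linarith

end

end Groth.Agent.Lib.Helper22.IsocF

end
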