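import Mathlib
import Groth.Prelude.Def_Isoc
import Groth.Agent.Lib.helper10.IsocLattice
import Groth.Agent.Lib.Helper22.IsocFekete
import Groth.Agent.Lib.Helper22.IsocFekete2
import Groth.Agent.Lib.Helper22.IsocSub
import Groth.Agent.Lib.Helper22.IsocSum
import Groth.Agent.Lib.Helper22.IsocKatz
import Groth.Agent.Lib.Helper22.IsocKatz2
import Groth.Agent.Lib.Helper22.IsocRat
import Groth.Agent.Lib.Helper22.IsocRat2
import Groth.Agent.Lib.Helper22.IsocFit2
import Groth.Agent.Lib.Helper22.IsocFit3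

/-!
# The unit-root part and the contracting part of a twisted iterate (helper22)
-/

set_option autoImplicit false
set_option linter.unusedSectionVars false

open scoped Pointwise Isocrystal

universe u v

noncomputable section

namespace Groth.Agent.Lib.Helper22.IsocF

open Groth.Agent.Lib.helper10.IsocL

section

variable {p : ℕ} [Fact p.Prime] {k : Type u} [Field k] [CharP k p] [PerfectRing k p]
variable {N : Type v} [AddCommGroup N] [Module (WittVector p k) N] [Module K(p, k) N]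
  [IsScalarTower (WittVector p k) K(p, k) N]
variable {τ : K(p, k) →+* K(p, k)}

theorem pPow_finset_sup {ι : Type*} (r : ℤ) (t : Finset ι)
    (f : ι → Submodule (WittVector p k) N) :
    Isoc.pPow r (t.sup f) = t.sup (fun j => Isoc.pPow r (f j)) := by
  classical
  induction t using Finset.induction_on with
  | empty => simp [pPow_bot]
  | insert a t _ ih => rw [Finset.sup_insert, Finset.sup_insert, pPow_sup, ih]

/-- If `F^s U = p^r U` then `U' = U + F U + ... + F^(s-1) U` also satisfies `F^s U' = p^r U'`. -/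
theorem latImg_acc_eq (hτW : PreservesW τ) (F : N →ₛₗ[τ] N) {U : Submodule (WittVector p k) N}
    {r : ℤ} {s : ℕ} (hU : Isoc.latImg F s U = Isoc.pPow r U) (i : ℕ) :
    Isoc.latImg F s (acc F U i) = Isoc.pPow r (acc F U i) := by
  rw [latImg_acc hτW]
  unfold acc
  rw [pPow_finset_sup]
  congr 1
  ext1 j
  rw [add_comm, latImg_add hτW, hU, latImg_pPow]

/-- `F U' ⊆ U' + p^r U` for `U' = U + ... + F^(s-1) U` when `F^s U = p^r U`. -/
theorem latImg_one_acc_le (hτW : PreservesW τ) (F : N →ₛₗ[τ] N)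
    {U : Submodule (WittVector p k) N}
    {r : ℤ} {s : ℕ} (hs : 0 < s) (hU : Isoc.latImg F s U = Isoc.pPow r U) :
    Isoc.latImg F 1 (acc F U (s - 1)) ≤ acc F U (s - 1) ⊔ Isoc.pPow r U := by
  obtain ⟨i, rfl⟩ : ∃ i, s = i + 1 := ⟨s - 1, by omega⟩
  simp only [Nat.add_sub_cancel]
  calc Isoc.latImg F 1 (acc F U i) ≤ acc F U (1 + i) := latImg_acc_le hτW F U 1 i
    _ = acc F U i ⊔ Isoc.latImg F (i + 1) U := by rw [add_comm, acc_succ]
    _ = acc F U i ⊔ Isoc.pPow r U := by rw [hU]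

theorem span_stable_of_latImg_le (F : N →ₛₗ[τ] N) {U' : Submodule (WittVector p k) N}
    (h : ∀ x ∈ U', F x ∈ Submodule.span K(p, k) (U' : Set N)) :
    ∀ x ∈ Submodule.span K(p, k) (U' : Set N), F x ∈ Submodule.span K(p, k) (U' : Set N) := by
  intro x hx
  induction hx using Submodule.span_induction with
  | mem x hx => exact h x hx
  | zero => rw [map_zero]; exact Submodule.zero_mem _
  | add x y _ _ hx hy => rw [map_add]; exact Submodule.add_mem _ hx hy
  | smul a x _ hx => rw [map_smulₛₗ]; exact Submodule.smul_mem _ _ hx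

/-- The unit-root subspace attached to `F^s U = p^r U` is `F`-stable and carries an isoclinic
lattice. -/
theorem unit_subspace (hτW : PreservesW τ) (F : N →ₛₗ[τ] N) {U : Submodule (WittVector p k) N}
    (hfg : U.FG) {r : ℤ} {s : ℕ} (hs : 0 < s) (hU : Isoc.latImg F s U = Isoc.pPow r U) :
    (∀ x ∈ Submodule.span K(p, k) (acc F U (s - 1) : Set N),
      F x ∈ Submodule.span K(p, k) (acc F U (s - 1) : Set N)) ∧
    IsoIn F ((r : ℚ) / s) (Submodule.span K(p, k) (acc F U (s - 1) : Set N)) ∧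
    (U : Set N) ⊆ Submodule.span K(p, k) (acc F U (s - 1) : Set N) := by
  have hUle : U ≤ acc F U (s - 1) := self_le_acc F U _
  refine ⟨?_, ?_, fun x hx => Submodule.subset_span (hUle hx)⟩
  · apply span_stable_of_latImg_le
    intro x hx
    have h1 : F x ∈ Isoc.latImg F 1 (acc F U (s - 1)) :=
      Submodule.subset_span ⟨x, hx, by simp⟩
    obtain ⟨a, ha, b, hb, hab⟩ := Submodule.mem_sup.mp (latImg_one_acc_le hτW F hs hU h1)
    rw [← hab]
    refine Submodule.add_mem _ (Submodule.subset_span ha) ?_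
    obtain ⟨m, hm, rfl⟩ := (mem_pPow_iff _ _ _).mp hb
    exact Submodule.smul_mem _ _ (Submodule.subset_span (hUle hm))
  · refine ⟨acc F U (s - 1), acc_fg hτW F hfg _, rfl, r, s, hs, ?_, latImg_acc_eq hτW F hU _⟩
    have hs0 : (s : ℚ) ≠ 0 := by exact_mod_cast (by omega : s ≠ 0)
    field_simp

/-- The contracting part of `G` relative to the lattice `M`. -/
def contracting (hτW : PreservesW τ) (G : N →ₛₗ[τ] N) (M : Submodule (WittVector p k) N)
    (hst : Isoc.latImg G 1 M ≤ M) : Submodule K(p, k) N where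
  carrier := {x | ∀ e : ℕ, ∃ n, (⇑G)^[n] x ∈ Isoc.pPow (e : ℤ) M}
  zero_mem' := fun e => ⟨0, by simp⟩
  add_mem' := by
    intro a b ha hb e
    obtain ⟨n₁, h₁⟩ := ha e
    obtain ⟨n₂, h₂⟩ := hb e
    refine ⟨n₁ + n₂, ?_⟩
    have : (⇑G)^[n₁ + n₂] (a + b) = (⇑G)^[n₂] ((⇑G)^[n₁] a) + (⇑G)^[n₁] ((⇑G)^[n₂] b) := by
      have e1 : (⇑G)^[n₁ + n₂] (a + b) = (⇑G)^[n₁ + n₂] a + (⇑G)^[n₁ + n₂] b :=
        (Isoc.iter G (n₁ + n₂)).map_add a b
      rw [e1, ← Function.iterate_add_apply, ← Function.iterate_add_apply, add_comm n₂ n₁]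
    rw [this]
    exact Submodule.add_mem _ (iterate_mem_pPow_of_stable hst n₂ _ h₁)
      (iterate_mem_pPow_of_stable hst n₁ _ h₂)
  smul_mem' := by
    intro a x hx e
    obtain ⟨j, w, hw⟩ := exists_pow_mul_eq_algebraMap (p := p) (k := k) a
    obtain ⟨n, hn⟩ := hx (e + j)
    refine ⟨n, ?_⟩
    obtain ⟨w', hw'⟩ := (hτW.pow n) w
    have h1 : (⇑G)^[n] (a • x) = ((τ ^ n) a) • (⇑G)^[n] x := (Isoc.iter G n).map_smulₛₗ a x
    have h2 : (τ ^ n) a = ((p : K(p, k)) ^ (-(j : ℤ))) * algebraMap (WittVector p k) K(p, k) w' := by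
      have h3 : (τ ^ n) ((p : K(p, k)) ^ j * a) = algebraMap (WittVector p k) K(p, k) w' := by
        rw [hw, hw']
      rw [map_mul, map_pow, map_natCast] at h3
      rw [← h3, zpow_neg, zpow_natCast, ← mul_assoc,
        inv_mul_cancel₀ (pow_ne_zero _ p_ne_zero), one_mul]
    rw [h1, h2, mul_smul, algebraMap_smul]
    have h4 : w' • (⇑G)^[n] x ∈ Isoc.pPow ((e + j : ℕ) : ℤ) M := Submodule.smul_mem _ _ hn
    have h5 := (mem_pPow_iff (-(j : ℤ)) _ _).mpr ⟨_, h4, rfl⟩
    rw [pPow_pPow] at h5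
    convert h5 using 2
    push_cast; ring

theorem mem_contracting (hτW : PreservesW τ) (G : N →ₛₗ[τ] N) (M : Submodule (WittVector p k) N)
    (hst : Isoc.latImg G 1 M ≤ M) (x : N) :
    x ∈ contracting hτW G M hst ↔ ∀ e : ℕ, ∃ n, (⇑G)^[n] x ∈ Isoc.pPow (e : ℤ) M := Iff.rfl

/-- `N = L·U + C`. -/
theorem span_unitPart_sup_contracting [Module.Finite K(p, k) N] (hτW : PreservesW τ)
    (hτS : SurjW τ) {G : N →ₛₗ[τ] N}
    (hGs : Function.Surjective G) (M : Submodule (WittVector p k) N) [hM : M.IsLattice K(p, k)]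
    (hst : Isoc.latImg G 1 M ≤ M) (P : Submodule K(p, k) N)
    (hP : (unitPart G M : Set N) ⊆ P) : P ⊔ contracting hτW G M hst = ⊤ := by
  rw [eq_top_iff]
  rintro x -
  obtain ⟨c, hc⟩ := exists_pow_smul_mem hM.span_eq_top x
  obtain ⟨u, hu, hk⟩ := exists_unitPart_add_contracting hτW hτS hGs M hst hc
  have hx : x = ((p : K(p, k)) ^ (c : ℤ))⁻¹ • (u + (((p : K(p, k)) ^ (c : ℤ)) • x - u)) := by
    rw [add_sub_cancel, smul_smul, inv_mul_cancel₀ (zpow_ne_zero _ p_ne_zero), one_smul]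
  rw [hx]
  apply Submodule.smul_mem
  exact Submodule.add_mem _ (Submodule.mem_sup_left (hP hu)) (Submodule.mem_sup_right hk)

/-- If the contracting part is everything, `G` is topologically nilpotent on `M`. -/
theorem exists_latImg_le_of_contracting_eq_top (hτW : PreservesW τ) {G : N →ₛₗ[τ] N}
    {M : Submodule (WittVector p k) N} (hfg : M.FG)
    (hst : Isoc.latImg G 1 M ≤ M) (htop : contracting hτW G M hst = ⊤) :
    ∃ n, Isoc.latImg G n M ≤ Isoc.pPow 1 M := by
  obtain ⟨t, rfl⟩ := hfg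
  have h1 : ∀ x : N, ∃ n, (⇑G)^[n] x ∈ Isoc.pPow ((1 : ℕ) : ℤ)
      (Submodule.span (WittVector p k) (t : Set N)) := by
    intro x
    have : x ∈ contracting hτW G _ hst := by rw [htop]; trivial
    exact this 1
  choose n hn using h1
  refine ⟨t.sum n, ?_⟩
  rw [latImg_span hτW, Submodule.span_le]
  rintro _ ⟨x, hx, rfl⟩
  have hle : n x ≤ t.sum n := Finset.single_le_sum (fun _ _ => Nat.zero_le _) hx
  obtain ⟨d, hd⟩ := Nat.exists_eq_add_of_le hle
  rw [hd, add_comm, Function.iterate_add_apply]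
  have := iterate_mem_pPow_of_stable hst d _ (hn x)
  simpa using this

end

end Groth.Agent.Lib.Helper22.IsocF

end
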