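import Mathlib
import Groth.Prelude.Def_Isoc
import Groth.Agent.Lib.helper10.IsocLattice
import Groth.Agent.Lib.Helper22.IsocFekete
import Groth.Agent.Lib.Helper22.IsocFekete2
import Groth.Agent.Lib.Helper22.IsocSub
import Groth.Agent.Lib.Helper22.IsocSlope
import Groth.Agent.Lib.Helper22.IsocSum
import Groth.Agent.Lib.Helper22.IsocKatz
import Groth.Agent.Lib.Helper22.IsocKatz2
import Groth.Agent.Lib.Helper22.IsocRat
import Groth.Agent.Lib.Helper22.IsocRat2
import Groth.Agent.Lib.Helper22.IsocFit2
import Groth.Agent.Lib.Helper22.IsocFit3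
import Groth.Agent.Lib.Helper22.IsocDecomp1

/-!
# Every isocrystal is the sum of its slope parts (helper22)
-/

set_option autoImplicit false
set_option linter.unusedSectionVars false

open scoped Pointwise Isocrystal

universe u v

noncomputable section

namespace Groth.Agent.Lib.Helper22.IsocF

open Groth.Agent.Lib.helper10.IsocL

section

variable {p : ℕ} [Fact p.Prime] {k : Type u} [Field k] [CharP k p] [PerfectRing k p]
variable {N : Type v} [AddCommGroup N] [Module (WittVector p k) N] [Module K(p, k) N]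
  [IsScalarTower (WittVector p k) K(p, k) N]
variable {τ : K(p, k) →+* K(p, k)}

/-- A stable subspace carrying an isoclinic lattice of slope `μ` lies in the slope-`μ` part. -/
theorem le_slopePart_of_isoIn [IsNoetherian K(p, k) N] (hτS : SurjW τ) (F : N →ₛₗ[τ] N)
    (hF : Function.Surjective F) (μ : ℚ) (P : Submodule K(p, k) N) (hP : ∀ x ∈ P, F x ∈ P)
    (h : IsoIn F μ P) : P ≤ Isoc.slopePart F μ := by
  unfold Isoc.slopePart
  have hmem : P ∈ {P : Submodule K(p, k) N |
      ∃ hP : ∀ x ∈ P, F x ∈ P, Isoc.IsIsoclinic (F.restrict hP) μ} :=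
    ⟨hP, isIsoclinic_of_isoIn hτS F hF μ P hP h⟩
  exact le_sSup hmem

theorem smul_iter_injective (F : N →ₛₗ[τ] N) (hF : Function.Injective F) (r : ℤ) (s : ℕ) :
    Function.Injective (((p : K(p, k)) ^ (-r)) • Isoc.iter F s) := by
  intro x y hxy
  simp only [LinearMap.smul_apply, Isoc.iter_apply] at hxy
  have h1 := smul_right_injective N (zpow_ne_zero (-r) (p_ne_zero (p := p) (k := k))) hxy
  exact hF.iterate s h1

theorem smul_iter_surjective (F : N →ₛₗ[τ] N) (hF : Function.Surjective F) (r : ℤ) (s : ℕ) :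
    Function.Surjective (((p : K(p, k)) ^ (-r)) • Isoc.iter F s) := by
  intro y
  obtain ⟨x, hx⟩ := hF.iterate s (((p : K(p, k)) ^ r) • y)
  refine ⟨x, ?_⟩
  simp only [LinearMap.smul_apply, Isoc.iter_apply, hx, smul_smul]
  rw [← zpow_add₀ p_ne_zero, neg_add_cancel, zpow_zero, one_smul]

theorem smul_iter_comm (F : N →ₛₗ[τ] N) (r : ℤ) (s : ℕ) (x : N) :
    (((p : K(p, k)) ^ (-r)) • Isoc.iter F s) (F x) =
      F ((((p : K(p, k)) ^ (-r)) • Isoc.iter F s) x) := by
  simp only [LinearMap.smul_apply, Isoc.iter_apply]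
  rw [map_smulₛₗ, map_p_zpow, ← Function.iterate_succ_apply, Function.iterate_succ_apply']

theorem smul_iter_iterate_comm (F : N →ₛₗ[τ] N) (r : ℤ) (s n : ℕ) (x : N) :
    (⇑(((p : K(p, k)) ^ (-r)) • Isoc.iter F s))^[n] (F x) =
      F ((⇑(((p : K(p, k)) ^ (-r)) • Isoc.iter F s))^[n] x) := by
  induction n generalizing x with
  | zero => rfl
  | succ n ih => rw [Function.iterate_succ_apply, Function.iterate_succ_apply, smul_iter_comm, ih]

/-- The contracting part of `p^(-r) F^s` is `F`-stable. -/
theorem contracting_stable (hτW : PreservesW τ) (F : N →ₛₗ[τ] N) (r : ℤ) (s : ℕ)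
    {M : Submodule (WittVector p k) N} (hfg : M.FG)
    (hspan : Submodule.span K(p, k) (M : Set N) = ⊤)
    (hst : Isoc.latImg (((p : K(p, k)) ^ (-r)) • Isoc.iter F s) 1 M ≤ M) :
    ∀ x ∈ contracting (hτW.pow s) (((p : K(p, k)) ^ (-r)) • Isoc.iter F s) M hst,
      F x ∈ contracting (hτW.pow s) (((p : K(p, k)) ^ (-r)) • Isoc.iter F s) M hst := by
  intro x hx e
  obtain ⟨c, hc⟩ := exists_pPow_le (p := p) (k := k) (latImg_fg hτW F 1 hfg) hspan
  obtain ⟨n, hn⟩ := hx (e + c)
  refine ⟨n, ?_⟩
  rw [smul_iter_iterate_comm]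
  have h1 : F ((⇑(((p : K(p, k)) ^ (-r)) • Isoc.iter F s))^[n] x) ∈
      Isoc.latImg F 1 (Isoc.pPow ((e + c : ℕ) : ℤ) M) :=
    Submodule.subset_span ⟨_, hn, by simp⟩
  rw [latImg_pPow] at h1
  have h2 : Isoc.pPow ((e + c : ℕ) : ℤ) (Isoc.latImg F 1 M) ≤ Isoc.pPow (e : ℤ) M := by
    calc Isoc.pPow ((e + c : ℕ) : ℤ) (Isoc.latImg F 1 M)
        = Isoc.pPow (e : ℤ) (Isoc.pPow (c : ℤ) (Isoc.latImg F 1 M)) := by
          rw [pPow_pPow, Nat.cast_add]
      _ ≤ Isoc.pPow (e : ℤ) M := pPow_mono _ hc
  exact h2 h1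

theorem restrict_bijective [IsNoetherian K(p, k) N] (F : N →ₛₗ[τ] N) (hF : Function.Bijective F)
    (P : Submodule K(p, k) N) (hP : ∀ x ∈ P, F x ∈ P) : Function.Bijective (F.restrict hP) := by
  constructor
  · intro x y hxy
    apply Subtype.ext
    apply hF.1
    exact congrArg Subtype.val hxy
  · intro y
    obtain ⟨x, hx⟩ := hF.2 (y : N)
    have hxP : x ∈ P := mem_of_map_mem F hF.2 P hP (by rw [hx]; exact y.2)
    exact ⟨⟨x, hxP⟩, Subtype.ext hx⟩

/-- Transport of slope parts of a stable subspace into the ambient space. -/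
theorem map_slopePart_restrict_le [IsNoetherian K(p, k) N] (hτW : PreservesW τ) (hτS : SurjW τ)
    (F : N →ₛₗ[τ] N) (hF : Function.Bijective F) (C : Submodule K(p, k) N)
    (hC : ∀ x ∈ C, F x ∈ C) (μ : ℚ) :
    (Isoc.slopePart (F.restrict hC) μ).map C.subtype ≤ Isoc.slopePart F μ := by
  have hiso := isoIn_slopePart hτW (F.restrict hC) μ
  have hstab := slopePart_stable (F.restrict hC) μ
  apply le_slopePart_of_isoIn hτS F hF.2 μ
  · rintro _ ⟨q, hq, rfl⟩
    exact ⟨(F.restrict hC) q, hstab q hq, rfl⟩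
  · obtain ⟨M, hfg, hspan, r, s, hs, hrs, hFM⟩ := hiso
    have hg : ∀ x : C, C.subtype ((F.restrict hC) x) = F (C.subtype x) := fun x => rfl
    refine ⟨M.map (C.subtype.restrictScalars (WittVector p k)), hfg.map _, ?_, r, s, hs, hrs, ?_⟩
    · have h1 : ((M.map (C.subtype.restrictScalars (WittVector p k)) :
          Submodule (WittVector p k) N) : Set N) = C.subtype '' (M : Set C) := rfl
      rw [h1, ← Submodule.map_span, hspan]
    · rw [latImg_map C.subtype hg, hFM, pPow_map]

/-- Every isocrystal is the sum of its slope parts. -/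
theorem iSup_slopePart_eq_top (hτW : PreservesW τ) (hτS : SurjW τ) :
    ∀ (h : ℕ) (N : Type v) [AddCommGroup N] [Module (WittVector p k) N] [Module K(p, k) N]
      [IsScalarTower (WittVector p k) K(p, k) N] [Module.Finite K(p, k) N]
      (F : N →ₛₗ[τ] N), Function.Bijective F → Module.finrank K(p, k) N = h →
      (⨆ μ : ℚ, Isoc.slopePart F μ) = ⊤ := by
  intro h
  induction h using Nat.strong_induction_on with
  | _ h ih =>
    intro N _ _ _ _ _ F hF hh
    rcases subsingleton_or_nontrivial N with hsub | hnt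
    · exact Subsingleton.elim _ _
    have hNoeth : IsNoetherian K(p, k) N := inferInstance
    -- an arbitrary lattice and its orders
    let b := Module.finBasis K(p, k) N
    obtain ⟨c, o, ho⟩ := exists_isOrd_le hτW F hF.2 (stdLat_fg b) (span_stdLat b)
    obtain ⟨lam, hlam⟩ := exists_tendsto_div_of_superadditive
      (fun m n => isOrd_add_le hτW F (ho m).1 (ho n).1 (ho (m + n)).1) (fun n => (ho n).2)
    obtain ⟨r, s, M, hs, -, heq, hfg, hspan, hord⟩ := slope_rational hτW F (stdLat_fg b)
      (span_stdLat b) (fun n _ => (ho n).1) hlam h hh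
    have hM : M.IsLattice K(p, k) := ⟨hfg, hspan⟩
    -- the twisted iterate
    have hτWs := hτW.pow s
    have hτSs := hτS.pow s
    have hst : Isoc.latImg (((p : K(p, k)) ^ (-r)) • Isoc.iter F s) 1 M ≤ M :=
      (latImg_smul_iter_one_le_iff F r s M).mpr hord.1
    have hGs := smul_iter_surjective F hF.2 r s
    have hGi := smul_iter_injective F hF.1 r s
    -- unit-root part
    have hU := latImg_unitPart hτWs hτSs hGi hst
    have hUfg : (unitPart (((p : K(p, k)) ^ (-r)) • Isoc.iter F s) M).FG :=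
      Submodule.FG.of_le hfg (unitPart_le _ M)
    have hU' : Isoc.latImg F s (unitPart (((p : K(p, k)) ^ (-r)) • Isoc.iter F s) M) =
        Isoc.pPow r (unitPart (((p : K(p, k)) ^ (-r)) • Isoc.iter F s) M) :=
      le_antisymm ((latImg_smul_iter_one_le_iff F r s _).mp hU.le) (by
        have h1 := hU.ge
        rw [latImg_smul_iter] at h1
        have := pPow_mono r h1
        rwa [pPow_pPow, show r + -r * ((1 : ℕ) : ℤ) = 0 by push_cast; ring, pPow_zero,
          mul_one] at this)
    obtain ⟨hPst, hPiso, hUsub⟩ := unit_subspace hτW F hUfg hs hU'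
    -- the contracting part
    have hCst := contracting_stable hτW F r s hfg hspan hst
    have hsum := span_unitPart_sup_contracting hτWs hτSs hGs M hst _ hUsub
    have hCne : contracting hτWs (((p : K(p, k)) ^ (-r)) • Isoc.iter F s) M hst ≠ ⊤ := by
      intro htop
      obtain ⟨n, hn⟩ := exists_latImg_le_of_contracting_eq_top hτWs hfg hst htop
      rw [latImg_smul_iter_le_iff] at hn
      rcases Nat.eq_zero_or_pos n with rfl | hnpos
      · simp only [latImg_zero, Nat.cast_zero, mul_zero, zero_add] at hn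
        have := le_zero_of_le_pPow hfg hspan hn
        omega
      · have h1 := div_le_slope hτW F (stdLat_fg b) (span_stdLat b) (fun n _ => (ho n).1) hlam
          hfg hspan (Nat.mul_pos hs hnpos) hn
        rw [heq] at h1
        have hs0 : (0 : ℝ) < s := by exact_mod_cast hs
        have hn0 : (0 : ℝ) < n := by exact_mod_cast hnpos
        rw [div_le_div_iff₀ (by push_cast; positivity) hs0] at h1
        push_cast at h1
        nlinarith
    have hlt : Module.finrank K(p, k)
        (contracting hτWs (((p : K(p, k)) ^ (-r)) • Isoc.iter F s) M hst) < h := by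
      rw [← hh]
      exact Submodule.finrank_lt hCne
    have hIH := ih _ hlt (contracting hτWs (((p : K(p, k)) ^ (-r)) • Isoc.iter F s) M hst)
      (F.restrict hCst) (restrict_bijective F hF _ hCst) rfl
    -- assemble
    rw [eq_top_iff, ← hsum]
    apply sup_le
    · exact (le_slopePart_of_isoIn hτS F hF.2 _ _ hPst hPiso).trans
        (le_iSup (fun μ : ℚ => Isoc.slopePart F μ) _)
    · have h1 : (contracting hτWs (((p : K(p, k)) ^ (-r)) • Isoc.iter F s) M hst) =
          (⊤ : Submodule K(p, k)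
            (contracting hτWs (((p : K(p, k)) ^ (-r)) • Isoc.iter F s) M hst)).map
            (contracting hτWs (((p : K(p, k)) ^ (-r)) • Isoc.iter F s) M hst).subtype := by
        rw [Submodule.map_subtype_top]
      rw [h1, ← hIH, Submodule.map_iSup]
      apply iSup_le
      intro μ
      exact (map_slopePart_restrict_le hτW hτS F hF _ hCst μ).trans
        (le_iSup (fun μ : ℚ => Isoc.slopePart F μ) μ)

end

end Groth.Agent.Lib.Helper22.IsocF

end
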