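import Mathlib
import Groth.Prelude.Def_Isoc
import Groth.Agent.Lib.helper10.IsocLattice
import Groth.Agent.Lib.Helper22.IsocFekete
import Groth.Agent.Lib.Helper22.IsocFekete2
import Groth.Agent.Lib.Helper22.IsocDet2
import Groth.Agent.Lib.Helper22.IsocSub
import Groth.Agent.Lib.Helper22.IsocSlope
import Groth.Agent.Lib.Helper22.IsocSum
import Groth.Agent.Lib.Helper22.IsocKatz
import Groth.Agent.Lib.Helper22.IsocRat
import Groth.Agent.Lib.Helper22.IsocDecomp2

/-!
# Independence of the slope parts (helper22)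
-/

set_option autoImplicit false
set_option linter.unusedSectionVars false

open scoped Pointwise Isocrystal

universe u v

noncomputable section

namespace Groth.Agent.Lib.Helper22.IsocF

open Groth.Agent.Lib.helper10.IsocL

section

variable {p : ℕ} [Fact p.Prime] {k : Type u} [Field k] [CharP k p] [PerfectRing k p]
variable {N : Type v} [AddCommGroup N] [Module (WittVector p k) N] [Module K(p, k) N]
  [IsScalarTower (WittVector p k) K(p, k) N]
variable {τ : K(p, k) →+* K(p, k)}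

/-- Every vector of the `L`-span of `M` lands in `M` after multiplication by a power of `p`. -/
theorem exists_pow_smul_mem' {M : Submodule (WittVector p k) N} {x : N}
    (hx : x ∈ Submodule.span K(p, k) (M : Set N)) :
    ∃ c : ℕ, ((p : K(p, k)) ^ (c : ℤ)) • x ∈ M := by
  induction hx using Submodule.span_induction with
  | mem x hx => exact ⟨0, by simpa using hx⟩
  | zero => exact ⟨0, by simp⟩
  | add x y _ _ hx hy =>
    obtain ⟨c, hc⟩ := hx
    obtain ⟨d, hd⟩ := hy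
    refine ⟨c + d, ?_⟩
    rw [smul_add]
    refine M.add_mem ?_ ?_
    · have : ((p : K(p, k)) ^ ((c + d : ℕ) : ℤ)) • x =
          ((p : WittVector p k) ^ d) • (((p : K(p, k)) ^ (c : ℤ)) • x) := by
        rw [← natCast_pow_smul, smul_smul, ← zpow_add₀ p_ne_zero,
          show ((c + d : ℕ) : ℤ) = (d : ℤ) + (c : ℤ) by push_cast; ring]
      rw [this]; exact M.smul_mem _ hc
    · have : ((p : K(p, k)) ^ ((c + d : ℕ) : ℤ)) • y =
          ((p : WittVector p k) ^ c) • (((p : K(p, k)) ^ (d : ℤ)) • y) := by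
        rw [← natCast_pow_smul, smul_smul, ← zpow_add₀ p_ne_zero,
          show ((c + d : ℕ) : ℤ) = (c : ℤ) + (d : ℤ) by push_cast; ring]
      rw [this]; exact M.smul_mem _ hd
  | smul a x _ hx =>
    obtain ⟨c, hc⟩ := hx
    obtain ⟨j, w, hw⟩ := exists_pow_mul_eq_algebraMap (p := p) (k := k) a
    refine ⟨j + c, ?_⟩
    have : ((p : K(p, k)) ^ ((j + c : ℕ) : ℤ)) • a • x =
        w • (((p : K(p, k)) ^ (c : ℤ)) • x) := by
      rw [← algebraMap_smul K(p, k) w, ← hw, smul_smul, smul_smul]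
      congr 1
      push_cast
      rw [zpow_add₀ p_ne_zero, zpow_natCast, zpow_natCast]
      ring
    rw [this]; exact M.smul_mem _ hc

theorem span_restrictLat' (P : Submodule K(p, k) N) {M : Submodule (WittVector p k) N}
    (hM : P ≤ Submodule.span K(p, k) (M : Set N)) :
    Submodule.span K(p, k) (restrictLat P M : Set P) = ⊤ := by
  rw [eq_top_iff]
  rintro x -
  obtain ⟨c, hc⟩ := exists_pow_smul_mem' (hM x.2)
  have h1 : ((p : K(p, k)) ^ (c : ℤ)) • x ∈ restrictLat P M := by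
    rw [mem_restrictLat]
    exact hc
  have h2 : x = ((p : K(p, k)) ^ (c : ℤ))⁻¹ • (((p : K(p, k)) ^ (c : ℤ)) • x) := by
    rw [smul_smul, inv_mul_cancel₀ (zpow_ne_zero _ p_ne_zero), one_smul]
  rw [h2]
  exact Submodule.smul_mem _ _ (Submodule.subset_span h1)

theorem latImg_restrict_le (F : N →ₛₗ[τ] N) (P : Submodule K(p, k) N) (hP : ∀ x ∈ P, F x ∈ P)
    {M : Submodule (WittVector p k) N} {r : ℤ} {s : ℕ}
    (hFM : Isoc.latImg F s M ≤ Isoc.pPow r M) :
    Isoc.latImg (F.restrict hP) s (restrictLat P M) ≤ Isoc.pPow r (restrictLat P M) := by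
  unfold Isoc.latImg
  rw [Submodule.span_le]
  rintro _ ⟨x, hx, rfl⟩
  have h1 : (⇑F)^[s] (x : N) ∈ Isoc.pPow r M := hFM (Submodule.subset_span ⟨x, hx, rfl⟩)
  obtain ⟨m, hm, hme⟩ := (mem_pPow_iff _ _ _).mp h1
  have hmP : m ∈ P := by
    have : m = ((p : K(p, k)) ^ r)⁻¹ • (⇑F)^[s] (x : N) := by
      rw [← hme, smul_smul, inv_mul_cancel₀ (zpow_ne_zero _ p_ne_zero), one_smul]
    rw [this, ← coe_restrict_iterate F P hP]
    exact P.smul_mem _ (Subtype.property _)
  refine (mem_pPow_iff _ _ _).mpr ⟨⟨m, hmP⟩, hm, ?_⟩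
  apply Subtype.ext
  rw [coe_restrict_iterate]
  exact hme

theorem span_sup_eq (M₁ M₂ : Submodule (WittVector p k) N) :
    Submodule.span K(p, k) ((M₁ ⊔ M₂ : Submodule (WittVector p k) N) : Set N) =
      Submodule.span K(p, k) (M₁ : Set N) ⊔ Submodule.span K(p, k) (M₂ : Set N) := by
  apply le_antisymm
  · rw [Submodule.span_le]
    intro x hx
    obtain ⟨a, ha, b, hb, rfl⟩ := Submodule.mem_sup.mp hx
    exact Submodule.add_mem _ (Submodule.mem_sup_left (Submodule.subset_span ha))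
      (Submodule.mem_sup_right (Submodule.subset_span hb))
  · exact sup_le (Submodule.span_mono (SetLike.coe_subset_coe.mpr le_sup_left))
      (Submodule.span_mono (SetLike.coe_subset_coe.mpr le_sup_right))

/-- The subspace `P` of `N` is spanned by a finitely generated `W`-submodule `M` of `N` with
`F^s M ⊆ p^r M`, `r ≥ c s`: "all slopes of `P` are at least `c`". -/
def GeIn (F : N →ₛₗ[τ] N) (c : ℚ) (P : Submodule K(p, k) N) : Prop :=
  ∃ M : Submodule (WittVector p k) N, M.FG ∧ Submodule.span K(p, k) (M : Set N) = P ∧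
    ∃ (r : ℤ) (s : ℕ), 0 < s ∧ c * s ≤ (r : ℚ) ∧ Isoc.latImg F s M ≤ Isoc.pPow r M

theorem geIn_of_isoIn {F : N →ₛₗ[τ] N} {μ c : ℚ} {P : Submodule K(p, k) N}
    (h : IsoIn F μ P) (hc : c ≤ μ) : GeIn F c P := by
  obtain ⟨M, hfg, hspan, r, s, hs, hrs, hFM⟩ := h
  refine ⟨M, hfg, hspan, r, s, hs, ?_, hFM.le⟩
  rw [hrs]
  exact mul_le_mul_of_nonneg_right hc (by positivity)

theorem GeIn.sup (hτ : PreservesW τ) {F : N →ₛₗ[τ] N} {c : ℚ} {P Q : Submodule K(p, k) N}
    (hP : GeIn F c P) (hQ : GeIn F c Q) : GeIn F c (P ⊔ Q) := by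
  obtain ⟨M₁, hfg₁, hspan₁, r₁, s₁, hs₁, hrs₁, hFM₁⟩ := hP
  obtain ⟨M₂, hfg₂, hspan₂, r₂, s₂, hs₂, hrs₂, hFM₂⟩ := hQ
  refine ⟨M₁ ⊔ M₂, hfg₁.sup hfg₂, ?_, min (r₁ * s₂) (r₂ * s₁), s₁ * s₂, Nat.mul_pos hs₁ hs₂,
    ?_, ?_⟩
  · rw [span_sup_eq, hspan₁, hspan₂]
  · push_cast
    rw [le_min_iff]
    constructor
    · calc c * ((s₁ : ℚ) * s₂) = (c * s₁) * s₂ := by ring
        _ ≤ r₁ * s₂ := mul_le_mul_of_nonneg_right hrs₁ (by positivity)
    · calc c * ((s₁ : ℚ) * s₂) = (c * s₂) * s₁ := by ring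
        _ ≤ r₂ * s₁ := mul_le_mul_of_nonneg_right hrs₂ (by positivity)
  · have h1 := latImg_mul_le hτ F hFM₁ s₂
    have h2 := latImg_mul_le hτ F hFM₂ s₁
    rw [Nat.mul_comm s₂ s₁] at h2
    rw [latImg_sup, pPow_sup]
    exact sup_le (h1.trans ((pPow_anti (min_le_left _ _) M₁).trans le_sup_left))
      (h2.trans ((pPow_anti (min_le_right _ _) M₂).trans le_sup_right))

theorem geIn_bot (F : N →ₛₗ[τ] N) (c : ℚ) : GeIn F c ⊥ := by
  refine ⟨⊥, Submodule.fg_bot, by simp, ⌈c⌉, 1, Nat.one_pos, ?_, ?_⟩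
  · simpa using Int.le_ceil c
  · rw [latImg_bot, pPow_bot]

theorem geIn_finset_sup (hτ : PreservesW τ) (F : N →ₛₗ[τ] N) (c : ℚ) {ι : Type*}
    (t : Finset ι) (f : ι → Submodule K(p, k) N) (ht : ∀ i ∈ t, GeIn F c (f i)) :
    GeIn F c (t.sup f) := by
  classical
  induction t using Finset.induction_on with
  | empty => rw [Finset.sup_empty]; exact geIn_bot F c
  | insert i t _ ih =>
    rw [Finset.sup_insert]
    exact (ht i (Finset.mem_insert_self i t)).sup hτ
      (ih fun j hj => ht j (Finset.mem_insert_of_mem hj))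

/-- A stable isoclinic subspace of slope `ν₀` meets trivially any stable subspace all of whose
slopes are at least `c > ν₀`. -/
theorem disjoint_of_isoIn_of_geIn [IsNoetherian K(p, k) N] (hτW : PreservesW τ) (hτS : SurjW τ)
    (F : N →ₛₗ[τ] N) (hF : Function.Bijective F) {ν₀ c : ℚ} (hνc : ν₀ < c)
    {A B : Submodule K(p, k) N} (hA : ∀ x ∈ A, F x ∈ A) (hB : ∀ x ∈ B, F x ∈ B)
    (hisoA : IsoIn F ν₀ A) (hgeB : GeIn F c B) : Disjoint A B := by
  rw [disjoint_iff]
  by_contra hne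
  have hP : ∀ x ∈ A ⊓ B, F x ∈ A ⊓ B := fun x hx => ⟨hA x hx.1, hB x hx.2⟩
  have hnt : Nontrivial ↥(A ⊓ B) := Submodule.nontrivial_iff_ne_bot.mpr hne
  have hbij := restrict_bijective F hF (A ⊓ B) hP
  obtain ⟨M₁, hfg₁, hspan₁, r₀, s₀, hs₀, hrs₀, hFM₁⟩ := hisoA
  obtain ⟨M₂, hfg₂, hspan₂, r, s, hs, hrs, hFM₂⟩ := hgeB
  have hsp₁ : Submodule.span K(p, k) (restrictLat (A ⊓ B) M₁ : Set ↥(A ⊓ B)) = ⊤ :=
    span_restrictLat' (A ⊓ B) (hspan₁ ▸ inf_le_left)
  have hsp₂ : Submodule.span K(p, k) (restrictLat (A ⊓ B) M₂ : Set ↥(A ⊓ B)) = ⊤ :=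
    span_restrictLat' (A ⊓ B) (hspan₂ ▸ inf_le_right)
  have heq := latImg_restrict_eq hτS F hF.2 (A ⊓ B) hP hFM₁
  have hle := latImg_restrict_le F (A ⊓ B) hP hFM₂
  obtain ⟨o, ho, hlim⟩ := exists_tendsto_of_latImg_eq hτW (F.restrict hP) hbij.2
    (restrictLat_fg _ hfg₁) hsp₁ hs₀ heq
  have key := div_le_slope hτW (F.restrict hP) (restrictLat_fg _ hfg₁) hsp₁
    (fun n _ => ho n) hlim (restrictLat_fg _ hfg₂) hsp₂ hs hle
  -- `c ≤ r / s ≤ r₀ / s₀ = ν₀ < c`
  have hs0 : (0 : ℚ) < s := by exact_mod_cast hs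
  have hs00 : (0 : ℚ) < s₀ := by exact_mod_cast hs₀
  have key' : (r : ℚ) / s ≤ (r₀ : ℚ) / s₀ := by
    have : (((r : ℚ) / s : ℚ) : ℝ) ≤ (((r₀ : ℚ) / s₀ : ℚ) : ℝ) := by
      push_cast
      exact key
    exact_mod_cast this
  have h1 : c ≤ (r : ℚ) / s := by
    rw [le_div_iff₀ hs0]
    exact hrs
  have h2 : (r₀ : ℚ) / s₀ = ν₀ := by
    rw [hrs₀]
    field_simp
  linarith

/-- The slope part of the smallest slope is disjoint from the sum of the others. -/
theorem disjoint_slopePart_sup [IsNoetherian K(p, k) N] (hτW : PreservesW τ) (hτS : SurjW τ)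
    (F : N →ₛₗ[τ] N) (hF : Function.Bijective F) (ν₀ : ℚ) (t : Finset ℚ)
    (ht : ∀ μ ∈ t, ν₀ < μ) :
    Disjoint (Isoc.slopePart F ν₀) (t.sup fun μ => Isoc.slopePart F μ) := by
  rcases t.eq_empty_or_nonempty with rfl | hne
  · rw [Finset.sup_empty]
    exact disjoint_bot_right
  · have hc : ν₀ < t.min' hne := ht _ (t.min'_mem hne)
    refine disjoint_of_isoIn_of_geIn hτW hτS F hF hc (slopePart_stable F ν₀) ?_
      (isoIn_slopePart hτW F ν₀) ?_
    · intro x hx
      have hle : (t.sup fun μ => Isoc.slopePart F μ) ≤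
          Submodule.comap F (t.sup fun μ => Isoc.slopePart F μ) := by
        apply Finset.sup_le
        intro μ hμ y hy
        exact (Finset.le_sup (f := fun μ => Isoc.slopePart F μ) hμ) (slopePart_stable F μ y hy)
      exact hle hx
    · apply geIn_finset_sup hτW
      intro μ hμ
      exact geIn_of_isoIn (isoIn_slopePart hτW F μ) (t.min'_le μ hμ)

/-- The slope parts are independent. -/
theorem iSupIndep_slopePart [IsNoetherian K(p, k) N] (hτW : PreservesW τ) (hτS : SurjW τ)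
    (F : N →ₛₗ[τ] N) (hF : Function.Bijective F) :
    iSupIndep (fun μ : ℚ => Isoc.slopePart F μ) := by
  classical
  rw [iSupIndep_iff_finsetSum_eq_zero_imp_eq_zero]
  intro s
  induction s using Finset.induction_on_min with
  | empty => intro v _ _ i hi; simp at hi
  | insert ν₀ t hlt ih =>
    intro v hv hsum i hi
    have hν₀ : ν₀ ∉ t := fun h => lt_irrefl _ (hlt ν₀ h)
    rw [Finset.sum_insert hν₀] at hsum
    have hmem : ∑ μ ∈ t, v μ ∈ t.sup fun μ => Isoc.slopePart F μ := by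
      apply Submodule.sum_mem
      intro μ hμ
      exact (Finset.le_sup (f := fun μ => Isoc.slopePart F μ) hμ)
        (hv μ (Finset.mem_insert_of_mem hμ))
    have hv0 : v ν₀ = 0 := by
      have h1 : v ν₀ ∈ t.sup fun μ => Isoc.slopePart F μ := by
        have : v ν₀ = -∑ μ ∈ t, v μ := eq_neg_of_add_eq_zero_left hsum
        rw [this]
        exact Submodule.neg_mem _ hmem
      have hd := disjoint_slopePart_sup hτW hτS F hF ν₀ t hlt
      exact (Submodule.disjoint_def.mp hd) _ (hv ν₀ (Finset.mem_insert_self ν₀ t)) h1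
    rw [hv0, zero_add] at hsum
    rcases Finset.mem_insert.mp hi with rfl | hit
    · exact hv0
    · exact ih v (fun j hj => hv j (Finset.mem_insert_of_mem hj)) hsum i hit

end

end Groth.Agent.Lib.Helper22.IsocF
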