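import Mathlib
import Groth.Prelude.Def_Isoc
import Groth.Agent.Lib.helper10.IsocLattice
import Groth.Agent.Lib.Helper22.IsocFekete
import Groth.Agent.Lib.Helper22.IsocFekete2
import Groth.Agent.Lib.Helper22.IsocDet
import Groth.Agent.Lib.Helper22.IsocBasis
import Groth.Agent.Lib.Helper22.IsocSub
import Groth.Agent.Lib.Helper22.IsocSum
import Groth.Agent.Lib.Helper22.IsocDecomp2
import Groth.Agent.Lib.Helper22.IsocIndep
import Groth.Agent.Lib.Helper22.CharpolySum
import Groth.Agent.Lib.Helper22.IsocCharpoly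

/-!
# Newton slopes and the characteristic polynomial of the linear Frobenius (helper22)
-/

set_option autoImplicit false
set_option linter.unusedSectionVars false

open scoped Pointwise Isocrystal

universe u v w

noncomputable section

namespace Groth.Agent.Lib.Helper22.IsocF

open Groth.Agent.Lib.helper10.IsocL Groth.Agent.Lib.Helper22.CharpolySum Polynomial

section

variable {p : ℕ} [Fact p.Prime] {k : Type u} [Field k] [CharP k p] [PerfectRing k p]
variable {N : Type v} [AddCommGroup N] [Module (WittVector p k) N] [Module K(p, k) N]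
  [IsScalarTower (WittVector p k) K(p, k) N]
variable {τ : K(p, k) →+* K(p, k)}
variable {Ω : Type w} [Field Ω] [Algebra (WittVector p k) Ω] [Algebra K(p, k) Ω]
    [IsScalarTower (WittVector p k) K(p, k) Ω]

theorem exists_mul_of_div_eq {r : ℤ} {s : ℕ} (hs : 0 < s) {ν : ℚ} (hrs : (r : ℚ) / s = ν) :
    ∃ j : ℕ, 0 < j ∧ s = ν.den * j ∧ r = ν.num * j := by
  have hs0 : (s : ℚ) ≠ 0 := by exact_mod_cast hs.ne'
  have hd0 : (ν.den : ℚ) ≠ 0 := by exact_mod_cast ν.den_ne_zero
  have h1 : r * (ν.den : ℤ) = ν.num * s := by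
    have h2 : (r : ℚ) / s = ν.num / ν.den := by rw [hrs, Rat.num_div_den]
    rw [div_eq_div_iff hs0 hd0] at h2
    exact_mod_cast h2
  have hcop : IsCoprime (ν.den : ℤ) ν.num := by
    rw [Int.isCoprime_iff_gcd_eq_one, Int.gcd_comm]
    have := ν.reduced
    simpa [Int.gcd, Nat.Coprime] using this
  have hdvd : (ν.den : ℤ) ∣ (s : ℤ) :=
    hcop.dvd_of_dvd_mul_left ⟨r, by rw [← h1]; ring⟩
  obtain ⟨j, hj⟩ := Int.natCast_dvd_natCast.mp hdvd
  refine ⟨j, ?_, hj, ?_⟩
  · rcases Nat.eq_zero_or_pos j with h0 | h0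
    · rw [h0, Nat.mul_zero] at hj
      omega
    · exact h0
  · have hd : (ν.den : ℤ) ≠ 0 := by exact_mod_cast ν.den_ne_zero
    apply mul_right_cancel₀ hd
    rw [h1, hj]
    push_cast
    ring

theorem iterate_mem_slopePart (F : N →ₛₗ[τ] N) (ν : ℚ) (n : ℕ) {x : N}
    (hx : x ∈ Isoc.slopePart F ν) : (⇑F)^[n] x ∈ Isoc.slopePart F ν := by
  induction n with
  | zero => exact hx
  | succ n ih =>
    rw [Function.iterate_succ_apply']
    exact slopePart_stable F ν _ ih

/-- The roots of the characteristic polynomial of `π = F^m` on the slope-`ν` part have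
"valuation" `ν · m`. -/
theorem unit_of_root_slopePart [Module.Finite K(p, k) N] (hτW : PreservesW τ) (hτS : SurjW τ)
    (F : N →ₛₗ[τ] N) (hF : Function.Bijective F) (m : ℕ)
    (π : N →ₗ[K(p, k)] N) (hπ : ∀ x, π x = (⇑F)^[m] x) (ν : ℚ)
    (hst : ∀ x ∈ Isoc.slopePart F ν, π x ∈ Isoc.slopePart F ν) (α : Ω)
    (hα : (((π.restrict hst).charpoly).map (algebraMap K(p, k) Ω)).IsRoot α) :
    α ≠ 0 ∧
    IsIntegral (WittVector p k)
      (α ^ ν.den * (algebraMap K(p, k) Ω (p : K(p, k))) ^ (-(ν.num * (m : ℤ)))) ∧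
    IsIntegral (WittVector p k)
      (α ^ ν.den * (algebraMap K(p, k) Ω (p : K(p, k))) ^ (-(ν.num * (m : ℤ))))⁻¹ := by
  have hNoeth : IsNoetherian K(p, k) N := inferInstance
  have hFst := slopePart_stable F ν
  have hiso : Isoc.IsIsoclinic (F.restrict hFst) ν :=
    isIsoclinic_of_isoIn hτS F hF.2 ν _ hFst (isoIn_slopePart hτW F ν)
  obtain ⟨M, hM, r, s, hs, hrs, hFM⟩ := hiso
  haveI := hM
  have hπν : ∀ x : Isoc.slopePart F ν, (π.restrict hst) x = (⇑(F.restrict hFst))^[m] x := by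
    intro x
    apply Subtype.ext
    rw [coe_restrict_iterate]
    exact hπ x
  have hpow : ∀ x : Isoc.slopePart F ν,
      ((π.restrict hst) ^ s) x = (⇑(F.restrict hFst))^[s * m] x := by
    intro x
    rw [Module.End.pow_apply]
    have : ⇑(π.restrict hst) = (⇑(F.restrict hFst))^[m] := funext hπν
    rw [this, ← Function.iterate_mul, Nat.mul_comm]
  have hFMm : Isoc.latImg (F.restrict hFst) (s * m) M = Isoc.pPow (r * m) M :=
    latImg_mul_eq hτW (F.restrict hFst) hFM m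
  have hgx : ∀ x, (((p : K(p, k)) ^ (-(r * (m : ℤ)))) • (π.restrict hst) ^ s :
      Module.End K(p, k) (Isoc.slopePart F ν)) x =
      ((p : K(p, k)) ^ (-(r * (m : ℤ)))) • (⇑(F.restrict hFst))^[s * m] x := fun x => by
    rw [LinearMap.smul_apply, hpow]
  have hg : ∀ x ∈ M, (((p : K(p, k)) ^ (-(r * (m : ℤ)))) • (π.restrict hst) ^ s :
      Module.End K(p, k) (Isoc.slopePart F ν)) x ∈ M := by
    intro x hx
    have h1 : (⇑(F.restrict hFst))^[s * m] x ∈ Isoc.pPow (r * m) M := by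
      rw [← hFMm]
      exact Submodule.subset_span ⟨x, hx, rfl⟩
    obtain ⟨y, hy, hye⟩ := (mem_pPow_iff _ _ _).mp h1
    rw [hgx, ← hye, smul_smul, ← zpow_add₀ p_ne_zero, neg_add_cancel, zpow_zero, one_smul]
    exact hy
  have hsurj : ∀ y ∈ M, ∃ x ∈ M, (((p : K(p, k)) ^ (-(r * (m : ℤ)))) • (π.restrict hst) ^ s :
      Module.End K(p, k) (Isoc.slopePart F ν)) x = y := by
    intro y hy
    have h1 : ((p : K(p, k)) ^ (r * (m : ℤ))) • y ∈ Isoc.latImg (F.restrict hFst) (s * m) M := by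
      rw [hFMm]
      exact (mem_pPow_iff _ _ _).mpr ⟨y, hy, rfl⟩
    obtain ⟨x, hx, hxe⟩ := (mem_latImg_iff hτS (F.restrict hFst) (s * m) M _).mp h1
    refine ⟨x, hx, ?_⟩
    rw [hgx, hxe, smul_smul, ← zpow_add₀ p_ne_zero, neg_add_cancel, zpow_zero, one_smul]
  have hβ := isRoot_charpoly_smul_pow (π.restrict hst) ((p : K(p, k)) ^ (-(r * (m : ℤ)))) s α hα
  obtain ⟨hβ0, hβ1, hβ2⟩ := unit_roots_of_lattice_auto _ M hg hsurj _ hβ
  obtain ⟨j, hj, hsj, hrj⟩ := exists_mul_of_div_eq hs hrs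
  have hβγ : algebraMap K(p, k) Ω ((p : K(p, k)) ^ (-(r * (m : ℤ)))) * α ^ s =
      (α ^ ν.den * (algebraMap K(p, k) Ω (p : K(p, k))) ^ (-(ν.num * (m : ℤ)))) ^ j := by
    rw [map_zpow₀, hsj, hrj, mul_pow, ← pow_mul, ← zpow_natCast (_ ^ (-(ν.num * (m : ℤ)))),
      ← zpow_mul, mul_comm]
    congr 2
    ring
  rw [hβγ] at hβ0 hβ1 hβ2
  refine ⟨?_, IsIntegral.of_pow hj hβ1, ?_⟩
  · rintro rfl
    apply hβ0
    rw [zero_pow ν.den_ne_zero, zero_mul, zero_pow hj.ne']
  · rw [← inv_pow] at hβ2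
    exact IsIntegral.of_pow hj hβ2

/-- Over a finite field: the multiplicity of the Newton slope `μ` is the number of roots of the
characteristic polynomial of `π = F^m` of "valuation" `μ · m`. -/
theorem newtonMult_eq_countP [Module.Finite K(p, k) N] [IsAlgClosed Ω] (hτW : PreservesW τ)
    (hτS : SurjW τ) (F : N →ₛₗ[τ] N) (hF : Function.Bijective F) (m : ℕ) (hm : 0 < m)
    (π : N →ₗ[K(p, k)] N) (hπ : ∀ x, π x = (⇑F)^[m] x) (μ : ℚ)
    (Pred : Ω → Prop) [DecidablePred Pred]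
    (hPred : ∀ α, Pred α ↔
      (IsIntegral (WittVector p k)
        (α ^ μ.den * (algebraMap K(p, k) Ω (p : K(p, k))) ^ (-(μ.num * (m : ℤ)))) ∧
      IsIntegral (WittVector p k)
        (α ^ μ.den * (algebraMap K(p, k) Ω (p : K(p, k))) ^ (-(μ.num * (m : ℤ))))⁻¹)) :
    Isoc.newtonMult F μ =
      Multiset.countP Pred ((π.charpoly.map (algebraMap K(p, k) Ω)).roots) := by
  have hNoeth : IsNoetherian K(p, k) N := inferInstance
  have hind := iSupIndep_slopePart hτW hτS F hF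
  have htop := iSup_slopePart_eq_top hτW hτS _ N F hF rfl
  have hfin : {μ : ℚ | Isoc.slopePart F μ ≠ ⊥}.Finite :=
    WellFoundedGT.finite_ne_bot_of_iSupIndep hind
  obtain ⟨S, hS⟩ : ∃ S : Finset ℚ, ∀ μ, μ ∈ S ↔ Isoc.slopePart F μ ≠ ⊥ :=
    ⟨hfin.toFinset, fun μ => by simp⟩
  have hstab : ∀ ν, ∀ x ∈ Isoc.slopePart F ν, π x ∈ Isoc.slopePart F ν := by
    intro ν x hx
    rw [hπ]
    exact iterate_mem_slopePart F ν m hx
  have hsup : S.sup (fun ν => Isoc.slopePart F ν) = ⊤ := by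
    rw [eq_top_iff, ← htop]
    apply iSup_le
    intro ν
    by_cases hν : ν ∈ S
    · exact Finset.le_sup (f := fun ν => Isoc.slopePart F ν) hν
    · rw [hS, not_not] at hν
      rw [hν]
      exact bot_le
  have hcp : π.charpoly = ∏ ν ∈ S, cp π (Isoc.slopePart F ν) := by
    rw [← cp_top, ← hsup, cp_finset_sup π S _ (fun ν _ => hstab ν) (hind.supIndep' S)]
  have hne : ∀ ν ∈ S, (cp π (Isoc.slopePart F ν)).map (algebraMap K(p, k) Ω) ≠ 0 := fun ν _ =>
    ((cp_monic π _).map _).ne_zero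
  rw [hcp, Polynomial.map_prod, countP_roots_prod Pred S _ hne]
  have hterm : ∀ ν ∈ S,
      Multiset.countP Pred ((cp π (Isoc.slopePart F ν)).map (algebraMap K(p, k) Ω)).roots =
        if ν = μ then Isoc.newtonMult F μ else 0 := by
    intro ν hν
    have hA : ∀ α ∈ ((cp π (Isoc.slopePart F ν)).map (algebraMap K(p, k) Ω)).roots,
        α ≠ 0 ∧
        IsIntegral (WittVector p k)
          (α ^ ν.den * (algebraMap K(p, k) Ω (p : K(p, k))) ^ (-(ν.num * (m : ℤ)))) ∧
        IsIntegral (WittVector p k)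
          (α ^ ν.den * (algebraMap K(p, k) Ω (p : K(p, k))) ^ (-(ν.num * (m : ℤ))))⁻¹ := by
      intro α hα
      have hroot := (Polynomial.mem_roots (hne ν hν)).mp hα
      rw [cp_eq π _ (hstab ν)] at hroot
      exact unit_of_root_slopePart hτW hτS F hF m π hπ ν (hstab ν) α hroot
    split_ifs with hνμ
    · subst hνμ
      rw [Multiset.countP_eq_card.mpr (fun α hα => (hPred α).mpr (hA α hα).2),
        IsAlgClosed.card_roots_eq_natDegree, Polynomial.natDegree_map,
        cp_natDegree π _ (hstab ν)]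
      rfl
    · rw [Multiset.countP_eq_zero]
      intro α hα hP
      obtain ⟨h0, h1, h2⟩ := hA α hα
      obtain ⟨h3, h4⟩ := (hPred α).mp hP
      exact hνμ (unit_slope_unique m hm ν μ α h0 h1 h2 h3 h4)
  rw [Finset.sum_congr rfl hterm, Finset.sum_ite_eq' S μ]
  split_ifs with hμS
  · rfl
  · rw [hS, not_not] at hμS
    unfold Isoc.newtonMult
    rw [hμS]
    exact finrank_bot _ _

end

end Groth.Agent.Lib.Helper22.IsocF
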