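import Mathlib
import Groth.Prelude.Def_Isoc
import Groth.Agent.Lib.helper10.IsocLattice
import Groth.Agent.Lib.Helper22.IsocFekete
import Groth.Agent.Lib.Helper22.IsocFekete2
import Groth.Agent.Lib.Helper22.IsocDet
import Groth.Agent.Lib.Helper22.IsocBasis
import Groth.Agent.Lib.Helper22.LangModP
import Groth.Agent.Lib.Helper22.LangWitt

/-!
# Unit-root crystals over an algebraically closed field are spanned by fixed vectors (helper22)
-/

set_option autoImplicit false
set_option linter.unusedSectionVars false

open scoped Pointwise Isocrystal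

universe u v

noncomputable section

namespace Groth.Agent.Lib.Helper22.IsocF

open Groth.Agent.Lib.helper10.IsocL Groth.Agent.Lib.Helper22.Lang

section

variable {p : ℕ} [Fact p.Prime] {k : Type u} [Field k] [CharP k p] [PerfectRing k p]
variable {N : Type v} [AddCommGroup N] [Module (WittVector p k) N] [Module K(p, k) N]
  [IsScalarTower (WittVector p k) K(p, k) N]

/-- The twist `τ` restricts to an endomorphism `θ` of `W` which is a non-trivial power of the
Frobenius modulo `p`. -/
def FrobLike (τ : K(p, k) →+* K(p, k)) : Prop :=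
  ∃ (θ : WittVector p k →+* WittVector p k) (e : k ≃+* k) (q : ℕ), 2 ≤ q ∧
    (∀ w, τ (algebraMap (WittVector p k) K(p, k) w) = algebraMap (WittVector p k) K(p, k) (θ w)) ∧
    (∀ w : WittVector p k, (θ w).coeff 0 = e (w.coeff 0)) ∧
    ((∀ x, e x = x ^ q) ∨ (∀ x, e.symm x = x ^ q))

variable {τ : K(p, k) →+* K(p, k)}

/-- The vector with coordinates `x` in the basis `b`. -/
def vecOf {h : ℕ} (b : Module.Basis (Fin h) K(p, k) N) (x : Fin h → WittVector p k) : N :=
  ∑ j, x j • b j

theorem vecOf_mem {h : ℕ} (b : Module.Basis (Fin h) K(p, k) N) (x : Fin h → WittVector p k) :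
    vecOf b x ∈ stdLat b :=
  Submodule.sum_mem _ fun j _ =>
    Submodule.smul_mem _ _ (Submodule.subset_span (Set.mem_range_self j))

theorem repr_vecOf {h : ℕ} (b : Module.Basis (Fin h) K(p, k) N) (x : Fin h → WittVector p k)
    (i : Fin h) : b.repr (vecOf b x) i = algebraMap (WittVector p k) K(p, k) (x i) := by
  unfold vecOf
  rw [map_sum, Finsupp.finsetSum_apply, Finset.sum_eq_single i]
  · rw [← algebraMap_smul K(p, k) (x i) (b i), map_smul, Finsupp.smul_apply, b.repr_self,
      Finsupp.single_eq_same, smul_eq_mul, mul_one]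
  · intro j _ hji
    rw [← algebraMap_smul K(p, k) (x j) (b j), map_smul, Finsupp.smul_apply, b.repr_self,
      Finsupp.single_apply, if_neg hji, smul_zero]
  · intro hi
    exact (hi (Finset.mem_univ i)).elim

theorem exists_vecOf_eq {h : ℕ} (b : Module.Basis (Fin h) K(p, k) N) {y : N}
    (hy : y ∈ stdLat b) : ∃ x : Fin h → WittVector p k, vecOf b x = y := by
  have h1 : ∀ i, ∃ w : WittVector p k, b.repr y i = algebraMap (WittVector p k) K(p, k) w :=
    fun i => repr_mem_of_mem_stdLat b hy i
  choose x hx using h1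
  refine ⟨x, ?_⟩
  apply b.repr.injective
  ext i
  rw [repr_vecOf, hx]

theorem vecOf_add {h : ℕ} (b : Module.Basis (Fin h) K(p, k) N) (x y : Fin h → WittVector p k) :
    vecOf b (x + y) = vecOf b x + vecOf b y := by
  unfold vecOf
  rw [← Finset.sum_add_distrib]
  exact Finset.sum_congr rfl fun j _ => by rw [Pi.add_apply, add_smul]

theorem vecOf_smul {h : ℕ} (b : Module.Basis (Fin h) K(p, k) N) (c : WittVector p k)
    (y : Fin h → WittVector p k) : vecOf b (c • y) = c • vecOf b y := by
  unfold vecOf
  rw [Finset.smul_sum]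
  exact Finset.sum_congr rfl fun j _ => by rw [Pi.smul_apply, smul_eq_mul, mul_smul]

/-- Semilinear image in coordinates: `G (vecOf b x) = vecOf b (A θ(x))`. -/
theorem map_vecOf {h : ℕ} (b : Module.Basis (Fin h) K(p, k) N) (G : N →ₛₗ[τ] N)
    (θ : WittVector p k →+* WittVector p k)
    (hθ : ∀ w, τ (algebraMap (WittVector p k) K(p, k) w) =
      algebraMap (WittVector p k) K(p, k) (θ w))
    (A : Matrix (Fin h) (Fin h) (WittVector p k))
    (hA : ∀ i j, b.repr (G (b j)) i = algebraMap (WittVector p k) K(p, k) (A i j))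
    (x : Fin h → WittVector p k) :
    G (vecOf b x) = vecOf b (A.mulVec fun j => θ (x j)) := by
  apply b.repr.injective
  ext i
  rw [repr_vecOf, repr_map b G (vecOf b x) i]
  simp only [repr_vecOf, hA, hθ, Matrix.mulVec, dotProduct, map_sum, map_mul]

theorem vecOf_injective {h : ℕ} (b : Module.Basis (Fin h) K(p, k) N) :
    Function.Injective (vecOf b) := by
  intro x y hxy
  funext i
  have := congrArg (fun v => b.repr v i) hxy
  simp only [repr_vecOf] at this
  exact IsFractionRing.injective (WittVector p k) K(p, k) this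

/-- **Unit-root crystals are spanned by fixed vectors** (over an algebraically closed field, for a
twist which is a non-trivial Frobenius power). -/
theorem le_span_fixed_of_lattice [IsAlgClosed k] (hτ : FrobLike τ) (G : N →ₛₗ[τ] N)
    (M : Submodule (WittVector p k) N) [hM : M.IsLattice K(p, k)]
    (hst : ∀ x ∈ M, G x ∈ M) (hsurj : ∀ y ∈ M, ∃ x ∈ M, G x = y) :
    M ≤ Submodule.span (WittVector p k) {v | G v = v ∧ v ∈ M} := by
  obtain ⟨θ, e, q, hq, hθ, hθe, he⟩ := hτ
  obtain ⟨b, rfl⟩ := exists_basis_stdLat_eq M rfl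
  -- the matrix of `G`
  have hAex : ∀ i j, ∃ w : WittVector p k,
      b.repr (G (b j)) i = algebraMap (WittVector p k) K(p, k) w := fun i j =>
    repr_mem_of_mem_stdLat b (hst _ (Submodule.subset_span (Set.mem_range_self j))) i
  choose A hA using hAex
  have hmap := map_vecOf b G θ hθ (Matrix.of A) hA
  -- a right inverse
  have h1 : ∀ j, ∃ x : Fin (Module.finrank K(p, k) N) → WittVector p k, G (vecOf b x) = b j := by
    intro j
    obtain ⟨m, hm, hGm⟩ := hsurj (b j) (Submodule.subset_span (Set.mem_range_self j))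
    obtain ⟨x, rfl⟩ := exists_vecOf_eq b hm
    exact ⟨x, hGm⟩
  choose X hX using h1
  have hX' : ∀ j, (Matrix.of A).mulVec (fun l => θ (X j l)) = Pi.single j 1 := by
    intro j
    apply vecOf_injective b
    rw [← hmap, hX]
    unfold vecOf
    rw [Finset.sum_eq_single j]
    · rw [Pi.single_eq_same, one_smul]
    · intro l _ hlj
      rw [Pi.single_eq_of_ne hlj, zero_smul]
    · intro hj
      exact (hj (Finset.mem_univ j)).elim
  have hAA' : Matrix.of A * Matrix.of (fun i j => θ (X j i)) = 1 := by
    ext i j
    rw [Matrix.mul_apply]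
    have := congrFun (hX' j) i
    simp only [Matrix.mulVec, dotProduct, Matrix.of_apply] at this ⊢
    rw [this, Matrix.one_apply, Pi.single_apply]
  -- reduction modulo `p`
  set Ab : Matrix (Fin (Module.finrank K(p, k) N)) (Fin (Module.finrank K(p, k) N)) k :=
    (Matrix.of A).map (WittVector.constantCoeff (p := p) (R := k)) with hAb
  set Bb : Matrix (Fin (Module.finrank K(p, k) N)) (Fin (Module.finrank K(p, k) N)) k :=
    (Matrix.of (fun i j => θ (X j i))).map (WittVector.constantCoeff (p := p) (R := k)) with hBb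
  have hAB : Ab * Bb = 1 := by
    rw [hAb, hBb, ← Matrix.map_mul, hAA', Matrix.map_one _ (map_zero _) (map_one _)]
  have hBA : Bb * Ab = 1 := mul_eq_one_comm.mp hAB
  let φ : (Fin (Module.finrank K(p, k) N) → k) →ₛₗ[(e : k →+* k)]
      (Fin (Module.finrank K(p, k) N) → k) :=
    { toFun := fun v => Ab.mulVec (fun j => e (v j))
      map_add' := fun v w => by
        have : (fun j => e ((v + w) j)) = (fun j => e (v j)) + fun j => e (w j) := by
          ext j; simp
        rw [this, Matrix.mulVec_add]
      map_smul' := fun c v => by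
        have : (fun j => e ((c • v) j)) = e c • fun j => e (v j) := by
          ext j; simp
        rw [this, Matrix.mulVec_smul]
        rfl }
  have hφ_apply : ∀ v, φ v = Ab.mulVec (fun j => e (v j)) := fun v => rfl
  have hφ : Function.Bijective φ := by
    constructor
    · intro v w hvw
      rw [hφ_apply, hφ_apply] at hvw
      have h2 := congrArg Bb.mulVec hvw
      rw [Matrix.mulVec_mulVec, Matrix.mulVec_mulVec, hBA, Matrix.one_mulVec,
        Matrix.one_mulVec] at h2
      funext j
      exact e.injective (congrFun h2 j)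
    · intro w
      refine ⟨fun j => e.symm (Bb.mulVec w j), ?_⟩
      rw [hφ_apply]
      simp only [RingEquiv.apply_symm_apply]
      rw [Matrix.mulVec_mulVec, hAB, Matrix.one_mulVec]
  obtain ⟨hspan, hsurjφ⟩ := lang e q hq he φ hφ
  have hLsurj : ∀ c' : Fin (Module.finrank K(p, k) N) → k,
      ∃ y, LopBar (e : k →+* k) (Matrix.of A) y = c' := by
    intro c'
    obtain ⟨y, hy⟩ := hsurjφ (-c')
    refine ⟨y, ?_⟩
    have : LopBar (e : k →+* k) (Matrix.of A) y = y - φ y := rfl
    rw [this, ← neg_sub, hy, neg_neg]
  -- lifting fixed vectors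
  have hfix : ∀ x' : Fin (Module.finrank K(p, k) N) → k, φ x' = x' →
      ∃ x : Fin (Module.finrank K(p, k) N) → WittVector p k,
        red x = x' ∧ G (vecOf b x) = vecOf b x := by
    intro x' hx'
    have h0 : LopBar (e : k →+* k) (Matrix.of A) x' = red (0 : Fin (Module.finrank K(p, k) N) → WittVector p k) := by
      have : LopBar (e : k →+* k) (Matrix.of A) x' = x' - φ x' := rfl
      rw [this, hx', sub_self]
      ext i
      simp [red]
    obtain ⟨x, hx, hred⟩ := exists_lift θ (e : k →+* k) (Matrix.of A) hθe hLsurj 0 x' h0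
    refine ⟨x, hred, ?_⟩
    rw [hmap]
    congr 1
    have : x - (Matrix.of A).mulVec (fun j => θ (x j)) = 0 := hx
    exact (sub_eq_zero.mp this).symm
  -- Nakayama
  have hdiv : ∀ z : Fin (Module.finrank K(p, k) N) → WittVector p k, red z = 0 →
      vecOf b z ∈ (Ideal.span {(p : WittVector p k)}) • stdLat b := by
    intro z hz
    have h1 : ∀ i, ∃ w, z i = (p : WittVector p k) * w := fun i =>
      dvd_of_coeff_zero_eq_zero (by
        have := congrFun hz i
        simpa [red] using this)
    choose z' hz' using h1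
    have : z = (p : WittVector p k) • z' := funext fun i => by
      rw [Pi.smul_apply, smul_eq_mul, hz']
    rw [this, vecOf_smul]
    exact Submodule.smul_mem_smul (Ideal.mem_span_singleton_self _) (vecOf_mem b z')
  have lift : ∀ y' : Fin (Module.finrank K(p, k) N) → k,
      ∃ y : Fin (Module.finrank K(p, k) N) → WittVector p k, red y = y' := fun y' =>
    ⟨fun i => WittVector.teichmuller p (y' i), funext fun i => by
      simp only [red, WittVector.constantCoeff_apply]
      exact WittVector.teichmuller_coeff_zero p _⟩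
  have key : ∀ x' ∈ Submodule.span k {v | φ v = v},
      ∀ x : Fin (Module.finrank K(p, k) N) → WittVector p k, red x = x' →
      vecOf b x ∈ Submodule.span (WittVector p k) {v | G v = v ∧ v ∈ stdLat b} ⊔
        (Ideal.span {(p : WittVector p k)}) • stdLat b := by
    intro x' hx'
    induction hx' using Submodule.span_induction with
    | mem x' hx' =>
      intro x hx
      obtain ⟨y, hy, hGy⟩ := hfix x' hx'
      have h2 : vecOf b x = vecOf b y + vecOf b (x - y) := by
        rw [← vecOf_add, add_sub_cancel]
      rw [h2]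
      refine Submodule.add_mem _ (Submodule.mem_sup_left
        (Submodule.subset_span ⟨hGy, vecOf_mem b y⟩)) (Submodule.mem_sup_right (hdiv _ ?_))
      rw [red_sub, hx, hy, sub_self]
    | zero =>
      intro x hx
      exact Submodule.mem_sup_right (hdiv x hx)
    | add x' y' _ _ hx hy =>
      intro z hz
      obtain ⟨x₁, hx₁⟩ := lift x'
      obtain ⟨y₁, hy₁⟩ := lift y'
      have h2 : vecOf b z = vecOf b x₁ + vecOf b y₁ + vecOf b (z - (x₁ + y₁)) := by
        rw [← vecOf_add, ← vecOf_add, add_sub_cancel]
      rw [h2]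
      refine Submodule.add_mem _ (Submodule.add_mem _ (hx x₁ hx₁) (hy y₁ hy₁))
        (Submodule.mem_sup_right (hdiv _ ?_))
      rw [red_sub, red_add, hz, hx₁, hy₁, sub_self]
    | smul c' x' _ hx =>
      intro z hz
      obtain ⟨x₁, hx₁⟩ := lift x'
      have h2 : vecOf b z = WittVector.teichmuller p c' • vecOf b x₁ +
          vecOf b (z - WittVector.teichmuller p c' • x₁) := by
        rw [← vecOf_smul, ← vecOf_add, add_sub_cancel]
      rw [h2]
      refine Submodule.add_mem _ (Submodule.smul_mem _ _ (hx x₁ hx₁))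
        (Submodule.mem_sup_right (hdiv _ ?_))
      rw [red_sub, hz]
      have : red (WittVector.teichmuller p c' • x₁) = c' • x' := by
        ext i
        simp only [red, Pi.smul_apply, smul_eq_mul, map_mul, WittVector.constantCoeff_apply,
          WittVector.teichmuller_coeff_zero]
        rw [← hx₁]
        rfl
      rw [this, sub_self]
  have hjac : Ideal.span {(p : WittVector p k)} ≤ Ideal.jacobson ⊥ := by
    rw [IsLocalRing.jacobson_eq_maximalIdeal ⊥ bot_ne_top, Ideal.span_singleton_le_iff_mem,
      IsLocalRing.mem_maximalIdeal]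
    exact (WittVector.irreducible p).not_isUnit
  apply Submodule.le_of_le_smul_of_le_jacobson_bot (stdLat_fg b) hjac
  intro y hy
  obtain ⟨x, rfl⟩ := exists_vecOf_eq b hy
  exact key (red x) (by rw [hspan]; trivial) x rfl

end

section FrobPow

variable {p : ℕ} [Fact p.Prime] {k : Type u} [Field k] [CharP k p] [PerfectRing k p]

theorem coeff_zero_frobeniusEquiv_zpow (b : ℤ) :
    ∀ w : WittVector p k, ((WittVector.frobeniusEquiv p k ^ b) w).coeff 0 =
      ((frobeniusEquiv k p) ^ b) (w.coeff 0) := by
  have hstep : ∀ w : WittVector p k, ((WittVector.frobeniusEquiv p k) w).coeff 0 =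
      (frobeniusEquiv k p) (w.coeff 0) := by
    intro w
    rw [WittVector.frobeniusEquiv_apply, WittVector.coeff_frobenius_charP, frobeniusEquiv_apply,
      frobenius_def]
  induction b using Int.induction_on with
  | zero => intro w; simp
  | succ n ih =>
    intro w
    rw [zpow_add_one, zpow_add_one, RingAut.mul_apply, RingAut.mul_apply, ih, hstep]
  | pred n ih =>
    intro w
    rw [zpow_sub_one, zpow_sub_one, RingAut.mul_apply, RingAut.mul_apply, ih]
    congr 1

theorem frobeniusEquiv_pow_apply (n : ℕ) (x : k) :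
    ((frobeniusEquiv k p) ^ n) x = x ^ p ^ n := by
  rw [RingAut.coe_pow, coe_frobeniusEquiv, iterate_frobenius]

theorem frob_pow_algebraMap (a : ℤ) (s : ℕ) :
    ∀ w : WittVector p k, ((Isoc.frob p k a) ^ s) (algebraMap (WittVector p k) K(p, k) w) =
      algebraMap (WittVector p k) K(p, k) ((WittVector.frobeniusEquiv p k ^ (a * s)) w) := by
  induction s with
  | zero => intro w; simp
  | succ s ih =>
    intro w
    rw [pow_succ, RingHom.mul_def, RingHom.comp_apply, Isoc.frob_algebraMap, ih,
      ← RingAut.mul_apply, ← zpow_add]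
    congr 3
    push_cast
    ring

theorem frobLike_frob_pow (a : ℤ) (ha : a ≠ 0) (s : ℕ) (hs : 0 < s) :
    FrobLike ((Isoc.frob p k a) ^ s) := by
  have hb : a * s ≠ 0 := mul_ne_zero ha (by exact_mod_cast hs.ne')
  have hp2 : 2 ≤ p ^ (a * s).natAbs := by
    have h1 : 0 < (a * s).natAbs := Int.natAbs_pos.mpr hb
    calc 2 ≤ p := (Fact.out : p.Prime).two_le
      _ = p ^ 1 := (pow_one p).symm
      _ ≤ p ^ (a * s).natAbs := Nat.pow_le_pow_right (Fact.out : p.Prime).pos h1
  refine ⟨((WittVector.frobeniusEquiv p k ^ (a * s) : WittVector p k ≃+* WittVector p k) :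
      WittVector p k →+* WittVector p k), (frobeniusEquiv k p) ^ (a * s), p ^ (a * s).natAbs, hp2,
    fun w => frob_pow_algebraMap a s w, fun w => coeff_zero_frobeniusEquiv_zpow (a * s) w, ?_⟩
  rcases le_or_gt 0 (a * s) with hpos | hneg
  · left
    intro x
    have : a * s = ((a * s).natAbs : ℤ) := (Int.natAbs_of_nonneg hpos).symm
    rw [this, zpow_natCast, frobeniusEquiv_pow_apply, Int.natAbs_natCast]
  · right
    intro x
    have : a * s = -((a * s).natAbs : ℤ) := by
      rw [Int.ofNat_natAbs_of_nonpos hneg.le, neg_neg]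
    rw [← RingAut.inv_apply, ← zpow_neg, this, neg_neg, zpow_natCast, frobeniusEquiv_pow_apply,
      Int.natAbs_neg, Int.natAbs_natCast]

end FrobPow

end Groth.Agent.Lib.Helper22.IsocF
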