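import Mathlib
import Groth.Prelude.Def_Isoc
import Groth.Agent.Lib.helper10.IsocLattice
import Groth.Agent.Lib.Helper22.IsocFekete
import Groth.Agent.Lib.Helper22.IsocSub

/-!
# Maschke-type averaging for isocrystals (helper22)
-/

set_option autoImplicit false
set_option linter.unusedSectionVars false

open scoped Pointwise Isocrystal

universe u v

noncomputable section

namespace Groth.Agent.Lib.Helper22.IsocF

open Groth.Agent.Lib.helper10.IsocL

section

variable {p : ℕ} [Fact p.Prime] {k : Type u} [Field k] [CharP k p] [PerfectRing k p]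
variable {N : Type v} [AddCommGroup N] [Module (WittVector p k) N] [Module K(p, k) N]
  [IsScalarTower (WittVector p k) K(p, k) N]
variable {τ : K(p, k) →+* K(p, k)}

theorem witt_natCast_ne_zero (n : ℕ) (hn : n ≠ 0) : (n : WittVector p k) ≠ 0 := by
  obtain ⟨m, u, hu, rfl⟩ := Nat.exists_eq_pow_mul_and_not_dvd hn p (Fact.out : p.Prime).ne_one
  push_cast
  refine mul_ne_zero (pow_ne_zero _ (WittVector.irreducible p).ne_zero) ?_
  intro h0
  have h1 : (WittVector.constantCoeff (p := p) (R := k)) (u : WittVector p k) = 0 := by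
    rw [h0, map_zero]
  rw [map_natCast] at h1
  exact hu ((CharP.cast_eq_zero_iff k p u).mp h1)

theorem frac_natCast_ne_zero (n : ℕ) (hn : n ≠ 0) : (n : K(p, k)) ≠ 0 := by
  rw [← map_natCast (algebraMap (WittVector p k) K(p, k))]
  intro h0
  exact witt_natCast_ne_zero (p := p) (k := k) n hn
    (IsFractionRing.injective (WittVector p k) K(p, k) (by rw [h0, map_zero]))

theorem pow_surjective (hτ : Function.Surjective τ) (i : ℕ) : Function.Surjective (τ ^ i) := by
  induction i with
  | zero => intro x; exact ⟨x, by simp⟩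
  | succ i ih =>
    intro x
    obtain ⟨y, rfl⟩ := ih x
    obtain ⟨z, rfl⟩ := hτ y
    exact ⟨z, by rw [pow_succ, RingHom.mul_def, RingHom.comp_apply]⟩

/-- The conjugate `F^i ∘ π ∘ F^{-i}` of a linear map by a bijective semilinear map. -/
def conjIter (hτ : Function.Surjective τ) (F : N →ₛₗ[τ] N) (hF : Function.Bijective F)
    (π : N →ₗ[K(p, k)] N) (i : ℕ) : N →ₗ[K(p, k)] N where
  toFun x := (⇑F)^[i] (π ((⇑(Equiv.ofBijective F hF).symm)^[i] x))
  map_add' x y := by
    have hinv : Function.RightInverse (⇑(Equiv.ofBijective F hF).symm)^[i] (⇑F)^[i] :=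
      Function.RightInverse.iterate (Equiv.ofBijective F hF).apply_symm_apply i
    have hinj : Function.Injective (⇑F)^[i] := hF.1.iterate i
    have hadd : ∀ a b : N, (⇑F)^[i] (a + b) = (⇑F)^[i] a + (⇑F)^[i] b := fun a b =>
      (Isoc.iter F i).map_add a b
    have h1 : (⇑(Equiv.ofBijective F hF).symm)^[i] (x + y) =
        (⇑(Equiv.ofBijective F hF).symm)^[i] x + (⇑(Equiv.ofBijective F hF).symm)^[i] y := by
      apply hinj
      rw [hinv (x + y), hadd, hinv x, hinv y]
    rw [h1, map_add, hadd]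
  map_smul' c x := by
    have hinv : Function.RightInverse (⇑(Equiv.ofBijective F hF).symm)^[i] (⇑F)^[i] :=
      Function.RightInverse.iterate (Equiv.ofBijective F hF).apply_symm_apply i
    have hinj : Function.Injective (⇑F)^[i] := hF.1.iterate i
    have hsmul : ∀ (d : K(p, k)) (a : N), (⇑F)^[i] (d • a) = (τ ^ i) d • (⇑F)^[i] a := fun d a =>
      (Isoc.iter F i).map_smulₛₗ d a
    obtain ⟨d, rfl⟩ := pow_surjective hτ i c
    have h1 : (⇑(Equiv.ofBijective F hF).symm)^[i] ((τ ^ i) d • x) =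
        d • (⇑(Equiv.ofBijective F hF).symm)^[i] x := by
      apply hinj
      rw [hinv _, hsmul, hinv x]
    rw [h1, map_smul, hsmul]
    rfl

theorem conjIter_apply (hτ : Function.Surjective τ) (F : N →ₛₗ[τ] N) (hF : Function.Bijective F)
    (π : N →ₗ[K(p, k)] N) (i : ℕ) (x : N) :
    conjIter hτ F hF π i x = (⇑F)^[i] (π ((⇑(Equiv.ofBijective F hF).symm)^[i] x)) := rfl

/-- **Maschke averaging**: a linear projection onto a stable subspace commuting with `F^s` can be
averaged to one commuting with `F`; its kernel is a stable complement. -/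
theorem exists_stable_isCompl_of_proj [IsNoetherian K(p, k) N] (hτ : Function.Surjective τ)
    (F : N →ₛₗ[τ] N) (hF : Function.Bijective F) (s : ℕ) (hs : 0 < s)
    (P : Submodule K(p, k) N) (hP : ∀ x ∈ P, F x ∈ P)
    (π₀ : N →ₗ[K(p, k)] N) (hrange : ∀ x, π₀ x ∈ P) (hid : ∀ x ∈ P, π₀ x = x)
    (hcomm : ∀ x, π₀ ((⇑F)^[s] x) = (⇑F)^[s] (π₀ x)) :
    ∃ Q : Submodule K(p, k) N, (∀ x ∈ Q, F x ∈ Q) ∧ IsCompl P Q := by
  set Finv : N → N := ⇑(Equiv.ofBijective F hF).symm with hFinv
  have hFFinv : ∀ x, F (Finv x) = x := (Equiv.ofBijective F hF).apply_symm_apply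
  have hFinvF : ∀ x, Finv (F x) = x := (Equiv.ofBijective F hF).symm_apply_apply
  have hPinv : ∀ x ∈ P, Finv x ∈ P := fun x hx =>
    mem_of_map_mem F hF.2 P hP (by rw [hFFinv]; exact hx)
  have hP_iter : ∀ (i : ℕ) (x : N), x ∈ P → (⇑F)^[i] x ∈ P := by
    intro i
    induction i with
    | zero => intro x hx; exact hx
    | succ i ih => intro x hx; rw [Function.iterate_succ_apply']; exact hP _ (ih x hx)
  have hPinv_iter : ∀ (i : ℕ) (x : N), x ∈ P → Finv^[i] x ∈ P := by
    intro i
    induction i with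
    | zero => intro x hx; exact hx
    | succ i ih => intro x hx; rw [Function.iterate_succ_apply']; exact hPinv _ (ih x hx)
  have hinv : ∀ i : ℕ, Function.RightInverse Finv^[i] (⇑F)^[i] := fun i =>
    Function.RightInverse.iterate hFFinv i
  have hs0 : (s : K(p, k)) ≠ 0 := frac_natCast_ne_zero s hs.ne'
  set π' : N →ₗ[K(p, k)] N :=
    (s : K(p, k))⁻¹ • ∑ i ∈ Finset.range s, conjIter hτ F hF π₀ i with hπ'
  have hπ'_apply : ∀ x, π' x = (s : K(p, k))⁻¹ •
      ∑ i ∈ Finset.range s, (⇑F)^[i] (π₀ (Finv^[i] x)) := by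
    intro x
    rw [hπ', LinearMap.smul_apply, LinearMap.sum_apply]
    rfl
  have h_range : ∀ x, π' x ∈ P := by
    intro x
    rw [hπ'_apply]
    exact P.smul_mem _ (Submodule.sum_mem _ fun i _ => hP_iter i _ (hrange _))
  have h_id : ∀ x ∈ P, π' x = x := by
    intro x hx
    rw [hπ'_apply]
    have h1 : ∀ i ∈ Finset.range s, (⇑F)^[i] (π₀ (Finv^[i] x)) = x := fun i _ => by
      rw [hid _ (hPinv_iter i x hx), hinv i x]
    rw [Finset.sum_congr rfl h1, Finset.sum_const, Finset.card_range,
      ← Nat.cast_smul_eq_nsmul K(p, k), inv_smul_smul₀ hs0]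
  have h_comm : ∀ x, π' (F x) = F (π' x) := by
    intro x
    rw [hπ'_apply, hπ'_apply, map_smulₛₗ, map_inv₀, map_natCast, map_sum]
    congr 1
    obtain ⟨s', rfl⟩ : ∃ s', s = s' + 1 := ⟨s - 1, by omega⟩
    rw [Finset.sum_range_succ', Finset.sum_range_succ]
    have h1 : ∀ i ∈ Finset.range s', (⇑F)^[i + 1] (π₀ (Finv^[i + 1] (F x))) =
        F ((⇑F)^[i] (π₀ (Finv^[i] x))) := fun i _ => by
      rw [Function.iterate_succ_apply Finv, hFinvF, Function.iterate_succ_apply' (⇑F)]
    rw [Finset.sum_congr rfl h1]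
    congr 1
    rw [Function.iterate_zero, id, Function.iterate_zero, id, ← Function.iterate_succ_apply' (⇑F),
      ← hcomm, Function.iterate_succ_apply', hinv s' x]
  refine ⟨LinearMap.ker π', ?_, ?_⟩
  · intro x hx
    rw [LinearMap.mem_ker] at hx ⊢
    rw [h_comm, hx, map_zero]
  · have := LinearMap.isCompl_of_proj (f := π'.codRestrict P h_range)
      (fun x => Subtype.ext (h_id x x.2))
    rwa [LinearMap.ker_codRestrict] at this

end

end Groth.Agent.Lib.Helper22.IsocF
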