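import Mathlib
import Groth.Prelude.Def_Isoc
import Groth.Agent.Lib.helper10.IsocLattice
import Groth.Agent.Lib.Helper22.IsocFekete
import Groth.Agent.Lib.Helper22.IsocFekete2
import Groth.Agent.Lib.Helper22.IsocSub
import Groth.Agent.Lib.Helper22.IsocSum
import Groth.Agent.Lib.Helper22.IsocDecomp2
import Groth.Agent.Lib.Helper22.IsocIndep
import Groth.Agent.Lib.Helper22.IsocFinite
import Groth.Agent.Lib.Helper22.IsocLang
import Groth.Agent.Lib.Helper22.IsocMaschke

/-!
# Semisimplicity of isocrystals over an algebraically closed field (helper22)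
-/

set_option autoImplicit false
set_option linter.unusedSectionVars false

open scoped Pointwise Isocrystal

universe u v

noncomputable section

namespace Groth.Agent.Lib.Helper22.IsocF

open Groth.Agent.Lib.helper10.IsocL

section LinAlg

/-- Choose part of a spanning set complementary to a given subspace. -/
theorem exists_subset_disjoint_span {K V : Type*} [Field K] [AddCommGroup V] [Module K V]
    [IsNoetherian K V] (P A : Submodule K V) (T : Set V) (hA : A ≤ Submodule.span K T) :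
    ∃ T₀ : Set V, T₀ ⊆ T ∧ Disjoint P (Submodule.span K T₀) ∧
      A ≤ P ⊔ Submodule.span K T₀ := by
  classical
  let 𝒮 : Set (Submodule K V) :=
    {Q | ∃ T₀ : Set V, T₀ ⊆ T ∧ Q = Submodule.span K T₀ ∧ Disjoint P Q}
  have hne : 𝒮.Nonempty :=
    ⟨⊥, ∅, Set.empty_subset _, Submodule.span_empty.symm, disjoint_bot_right⟩
  obtain ⟨Q, ⟨T₀, hT₀, rfl, hdisj⟩, hmax⟩ :=
    (wellFounded_gt (α := Submodule K V)).has_min 𝒮 hne
  refine ⟨T₀, hT₀, hdisj, hA.trans (Submodule.span_le.mpr ?_)⟩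
  intro v hv
  by_contra hvn
  have hvQ : v ∉ Submodule.span K T₀ := fun h => hvn (Submodule.mem_sup_right h)
  apply hmax (Submodule.span K (insert v T₀)) ⟨insert v T₀, Set.insert_subset hv hT₀, rfl, ?_⟩
  · refine lt_of_le_of_ne (Submodule.span_mono (Set.subset_insert _ _)) ?_
    intro heq
    apply hvQ
    rw [heq]
    exact Submodule.subset_span (Set.mem_insert _ _)
  · rw [Submodule.disjoint_def]
    intro x hxP hx
    obtain ⟨a, q, hq, rfl⟩ := Submodule.mem_span_insert.mp hx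
    by_cases ha : a = 0
    · subst ha
      rw [zero_smul, zero_add] at hxP ⊢
      exact Submodule.disjoint_def.mp hdisj q hxP hq
    · exfalso
      apply hvn
      have hv' : v = a⁻¹ • (a • v + q) - a⁻¹ • q := by
        rw [smul_add, smul_smul, inv_mul_cancel₀ ha, one_smul, add_sub_cancel_right]
      rw [hv']
      exact Submodule.sub_mem _ (Submodule.mem_sup_left (P.smul_mem _ hxP))
        (Submodule.mem_sup_right (Submodule.smul_mem _ _ hq))

theorem iSup_stable {K V : Type*} [Semiring K] [AddCommMonoid V] [Module K V] {σ : K →+* K}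
    {ι : Sort*} (G : V →ₛₗ[σ] V) (A : ι → Submodule K V) (h : ∀ i, ∀ x ∈ A i, G x ∈ A i) :
    ∀ x ∈ ⨆ i, A i, G x ∈ ⨆ i, A i := by
  intro x hx
  refine Submodule.iSup_induction A (motive := fun x => G x ∈ ⨆ i, A i) hx ?_ ?_ ?_
  · exact fun i x hx => Submodule.mem_iSup_of_mem i (h i x hx)
  · rw [map_zero]; exact Submodule.zero_mem _
  · intro x y hx hy
    rw [map_add]
    exact Submodule.add_mem _ hx hy

/-- A projection onto `P ⊓ A`, vanishing on a complement `C` of `A`, commuting with a semilinear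
map `G` whose eigenvectors (for a fixed eigenvalue) span `A`. -/
theorem exists_proj_comm {K V : Type*} [Field K] [AddCommGroup V] [Module K V]
    [IsNoetherian K V] {σ : K →+* K} (G : V →ₛₗ[σ] V) (P A C : Submodule K V)
    (hP : ∀ x ∈ P, G x ∈ P) (hA : ∀ x ∈ A, G x ∈ A) (hC : ∀ x ∈ C, G x ∈ C)
    (hAC : IsCompl A C) (c : K)
    (hT : A ≤ Submodule.span K {x | x ∈ A ∧ G x = c • x}) :
    ∃ π : V →ₗ[K] V, (∀ x, π x ∈ P ⊓ A) ∧ (∀ x ∈ P ⊓ A, π x = x) ∧ (∀ x ∈ C, π x = 0) ∧
      ∀ x, π (G x) = G (π x) := by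
  obtain ⟨T₀, hT₀, hdisj, hle⟩ := exists_subset_disjoint_span (P ⊓ A) A _ hT
  have hQ₀A : Submodule.span K T₀ ≤ A := Submodule.span_le.mpr fun v hv => (hT₀ hv).1
  have hQ₀G : ∀ x ∈ Submodule.span K T₀, G x ∈ Submodule.span K T₀ := by
    intro x hx
    induction hx using Submodule.span_induction with
    | mem v hv =>
      rw [(hT₀ hv).2]
      exact Submodule.smul_mem _ _ (Submodule.subset_span hv)
    | zero => rw [map_zero]; exact Submodule.zero_mem _
    | add x y _ _ hx hy => rw [map_add]; exact Submodule.add_mem _ hx hy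
    | smul a x _ hx => rw [map_smulₛₗ]; exact Submodule.smul_mem _ _ hx
  have hd2 : Disjoint (P ⊓ A ⊔ Submodule.span K T₀) C :=
    hAC.disjoint.mono_left (sup_le inf_le_right hQ₀A)
  have hc : IsCompl (P ⊓ A) (Submodule.span K T₀ ⊔ C) := by
    refine ⟨hdisj.disjoint_sup_right_of_disjoint_sup_left hd2, ?_⟩
    rw [codisjoint_iff, ← sup_assoc, eq_top_iff, ← hAC.sup_eq_top]
    exact sup_le_sup_right hle C
  refine ⟨(P ⊓ A).projection (Submodule.span K T₀ ⊔ C) hc,
    fun x => Submodule.projection_apply_mem hc x,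
    fun x hx => Submodule.projection_apply_of_mem_left hc hx,
    fun x hx => Submodule.projection_apply_of_mem_right hc (Submodule.mem_sup_right hx), ?_⟩
  intro x
  have hy : (P ⊓ A).projection (Submodule.span K T₀ ⊔ C) hc x ∈ P ⊓ A :=
    Submodule.projection_apply_mem hc x
  have hz : x - (P ⊓ A).projection (Submodule.span K T₀ ⊔ C) hc x ∈
      Submodule.span K T₀ ⊔ C := by
    rw [← Submodule.projection_apply_eq_zero_iff hc, map_sub,
      Submodule.projection_apply_of_mem_left hc hy, sub_self]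
  have hGy : G ((P ⊓ A).projection (Submodule.span K T₀ ⊔ C) hc x) ∈ P ⊓ A :=
    ⟨hP _ hy.1, hA _ hy.2⟩
  have hGz : G (x - (P ⊓ A).projection (Submodule.span K T₀ ⊔ C) hc x) ∈
      Submodule.span K T₀ ⊔ C := by
    obtain ⟨q, hq, c', hc', hqc⟩ := Submodule.mem_sup.mp hz
    rw [← hqc, map_add]
    exact Submodule.add_mem _ (Submodule.mem_sup_left (hQ₀G q hq))
      (Submodule.mem_sup_right (hC c' hc'))
  have hsplit : G x = G ((P ⊓ A).projection (Submodule.span K T₀ ⊔ C) hc x) +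
      G (x - (P ⊓ A).projection (Submodule.span K T₀ ⊔ C) hc x) := by
    rw [← map_add, add_sub_cancel]
  conv_lhs => rw [hsplit]
  rw [map_add, Submodule.projection_apply_of_mem_left hc hGy,
    Submodule.projection_apply_of_mem_right hc hGz, add_zero]

end LinAlg

section

variable {p : ℕ} [Fact p.Prime] {k : Type u} [Field k] [CharP k p] [PerfectRing k p]
variable {N : Type v} [AddCommGroup N] [Module (WittVector p k) N] [Module K(p, k) N]
  [IsScalarTower (WittVector p k) K(p, k) N]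
variable {τ : K(p, k) →+* K(p, k)}

/-- If `F^s M = p^t M` for a lattice `M`, then the vectors with `F^s x = p^t x` span (over an
algebraically closed field, for a Frobenius-like twist). -/
theorem top_le_span_fixed [IsAlgClosed k] (hτS : SurjW τ) (F : N →ₛₗ[τ] N)
    (M : Submodule (WittVector p k) N) [hM : M.IsLattice K(p, k)] (s : ℕ) (t : ℤ)
    (hFL : FrobLike (τ ^ s)) (hFM : Isoc.latImg F s M = Isoc.pPow t M) :
    ⊤ ≤ Submodule.span K(p, k) {x : N | (⇑F)^[s] x = ((p : K(p, k)) ^ t) • x} := by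
  set G : N →ₛₗ[τ ^ s] N := ((p : K(p, k)) ^ (-t)) • Isoc.iter F s with hG
  have hGx : ∀ x, G x = ((p : K(p, k)) ^ (-t)) • (⇑F)^[s] x := fun x => rfl
  have hst : ∀ x ∈ M, G x ∈ M := by
    intro x hx
    have h1 : (⇑F)^[s] x ∈ Isoc.pPow t M := by
      rw [← hFM]
      exact Submodule.subset_span ⟨x, hx, rfl⟩
    obtain ⟨y, hy, hye⟩ := (mem_pPow_iff _ _ _).mp h1
    rw [hGx, ← hye, smul_smul, ← zpow_add₀ p_ne_zero, neg_add_cancel, zpow_zero, one_smul]
    exact hy
  have hsurj : ∀ y ∈ M, ∃ x ∈ M, G x = y := by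
    intro y hy
    have h1 : ((p : K(p, k)) ^ t) • y ∈ Isoc.latImg F s M := by
      rw [hFM]
      exact (mem_pPow_iff _ _ _).mpr ⟨y, hy, rfl⟩
    obtain ⟨x, hx, hxe⟩ := (mem_latImg_iff hτS F s M _).mp h1
    refine ⟨x, hx, ?_⟩
    rw [hGx, hxe, smul_smul, ← zpow_add₀ p_ne_zero, neg_add_cancel, zpow_zero, one_smul]
  have hle := le_span_fixed_of_lattice hFL G M hst hsurj
  rw [← hM.span_eq_top]
  apply Submodule.span_le.mpr
  intro m hm
  have h1 := Submodule.span_le_restrictScalars (WittVector p k) K(p, k)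
    {v | G v = v ∧ v ∈ M} (hle hm)
  refine Submodule.span_mono ?_ h1
  rintro v ⟨hv, -⟩
  rw [hGx] at hv
  show (⇑F)^[s] v = ((p : K(p, k)) ^ t) • v
  conv_rhs => rw [← hv]
  rw [smul_smul, ← zpow_add₀ p_ne_zero, add_neg_cancel, zpow_zero, one_smul]

/-- **Semisimplicity**: every stable subspace of an isocrystal over an algebraically closed field
has a stable complement (general Frobenius-like twist). -/
theorem exists_stable_isCompl [IsAlgClosed k] [Module.Finite K(p, k) N] (hτW : PreservesW τ)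
    (hτS : SurjW τ) (hτsurj : Function.Surjective τ) (hFL : ∀ s : ℕ, 0 < s → FrobLike (τ ^ s))
    (F : N →ₛₗ[τ] N) (hF : Function.Bijective F)
    (P : Submodule K(p, k) N) (hP : ∀ x ∈ P, F x ∈ P) :
    ∃ Q : Submodule K(p, k) N, (∀ x ∈ Q, F x ∈ Q) ∧ IsCompl P Q := by
  classical
  have hNoeth : IsNoetherian K(p, k) N := inferInstance
  have hind := iSupIndep_slopePart hτW hτS F hF
  have htop := iSup_slopePart_eq_top hτW hτS _ N F hF rfl
  have hfin : {μ : ℚ | Isoc.slopePart F μ ≠ ⊥}.Finite :=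
    WellFoundedGT.finite_ne_bot_of_iSupIndep hind
  obtain ⟨S, hS⟩ : ∃ S : Finset ℚ, ∀ μ, μ ∈ S ↔ Isoc.slopePart F μ ≠ ⊥ :=
    ⟨hfin.toFinset, fun μ => by simp⟩
  have hFst := slopePart_stable F
  have hiso : ∀ μ : ℚ, Isoc.IsIsoclinic (F.restrict (hFst μ)) μ := fun μ =>
    isIsoclinic_of_isoIn hτS F hF.2 μ _ (hFst μ) (isoIn_slopePart hτW F μ)
  choose Mf hMf rf sf hs hrs hFM using hiso
  set s : ℕ := ∏ μ ∈ S, sf μ with hsdef
  have hspos : 0 < s := Finset.prod_pos fun μ _ => hs μ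
  set e : ℚ → ℕ := fun μ => ∏ ν ∈ S.erase μ, sf ν with hedef
  have hsplit : ∀ μ ∈ S, sf μ * e μ = s := fun μ hμ => Finset.mul_prod_erase S sf hμ
  set t : ℚ → ℤ := fun μ => rf μ * e μ with htdef
  have hFMs : ∀ μ ∈ S, Isoc.latImg (F.restrict (hFst μ)) s (Mf μ) =
      Isoc.pPow (t μ) (Mf μ) := by
    intro μ hμ
    have := latImg_mul_eq hτW (F.restrict (hFst μ)) (hFM μ) (e μ)
    rwa [hsplit μ hμ] at this
  -- fixed vectors span the slope parts
  have hT : ∀ μ, Isoc.slopePart F μ ≤ Submodule.span K(p, k)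
      {x | x ∈ Isoc.slopePart F μ ∧ (Isoc.iter F s) x = ((p : K(p, k)) ^ t μ) • x} := by
    intro μ
    by_cases hμ : μ ∈ S
    · have := hMf μ
      have h1 := top_le_span_fixed hτS (F.restrict (hFst μ)) (Mf μ) s (t μ) (hFL s hspos)
        (hFMs μ hμ)
      intro y hy
      have h2 : (⟨y, hy⟩ : Isoc.slopePart F μ) ∈ Submodule.span K(p, k)
          {x : Isoc.slopePart F μ |
            (⇑(F.restrict (hFst μ)))^[s] x = ((p : K(p, k)) ^ t μ) • x} :=
        h1 Submodule.mem_top
      have h3 := Submodule.apply_mem_span_image_of_mem_span (Isoc.slopePart F μ).subtype h2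
      refine Submodule.span_mono ?_ h3
      rintro _ ⟨x, hx, rfl⟩
      refine ⟨x.2, ?_⟩
      have h4 := congrArg Subtype.val hx
      rw [coe_restrict_iterate] at h4
      exact h4
    · rw [hS, not_not] at hμ
      rw [hμ]
      exact bot_le
  -- the complements of the slope parts
  set C : ℚ → Submodule K(p, k) N := fun μ => ⨆ ν, ⨆ (_ : ν ≠ μ), Isoc.slopePart F ν with hCdef
  have hAC : ∀ μ, IsCompl (Isoc.slopePart F μ) (C μ) := by
    intro μ
    refine ⟨hind μ, ?_⟩
    rw [codisjoint_iff, eq_top_iff, ← htop]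
    apply iSup_le
    intro ν
    by_cases hν : ν = μ
    · subst hν
      exact le_sup_left
    · exact le_trans (le_iSup₂ (f := fun ν (_ : ν ≠ μ) => Isoc.slopePart F ν) ν hν) le_sup_right
  have hiterst : ∀ μ, ∀ x ∈ Isoc.slopePart F μ, Isoc.iter F s x ∈ Isoc.slopePart F μ :=
    fun μ x hx => iterate_mem_slopePart F μ s hx
  have hCst : ∀ μ, ∀ x ∈ C μ, Isoc.iter F s x ∈ C μ := by
    intro μ
    apply iSup_stable
    intro ν
    apply iSup_stable
    intro _
    exact hiterst ν
  have hPit : ∀ (n : ℕ) (x : N), x ∈ P → (⇑F)^[n] x ∈ P := by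
    intro n
    induction n with
    | zero => exact fun x hx => hx
    | succ n ih =>
      intro x hx
      rw [Function.iterate_succ_apply']
      exact hP _ (ih x hx)
  have hPst : ∀ x ∈ P, Isoc.iter F s x ∈ P := fun x hx => hPit s x hx
  have hπex : ∀ μ, ∃ π : N →ₗ[K(p, k)] N, (∀ x, π x ∈ P ⊓ Isoc.slopePart F μ) ∧
      (∀ x ∈ P ⊓ Isoc.slopePart F μ, π x = x) ∧ (∀ x ∈ C μ, π x = 0) ∧
      ∀ x, π (Isoc.iter F s x) = Isoc.iter F s (π x) := fun μ =>
    exists_proj_comm (Isoc.iter F s) P (Isoc.slopePart F μ) (C μ) hPst (hiterst μ) (hCst μ)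
      (hAC μ) _ (hT μ)
  choose π hπmem hπid hπzero hπcomm using hπex
  set π₀ : N →ₗ[K(p, k)] N := ∑ μ ∈ S, π μ with hπ₀
  have hπ₀x : ∀ x, π₀ x = ∑ μ ∈ S, π μ x := fun x => by rw [hπ₀, LinearMap.sum_apply]
  -- `P` is graded
  have hPdec : P ≤ ⨆ μ, P ⊓ Isoc.slopePart F μ := by
    have htopP := iSup_slopePart_eq_top hτW hτS _ P (F.restrict hP)
      (restrict_bijective F hF P hP) rfl
    intro x hx
    have h1 : (⟨x, hx⟩ : P) ∈ ⨆ μ, Isoc.slopePart (F.restrict hP) μ := by
      rw [htopP]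
      exact Submodule.mem_top
    have h2 : x ∈ (⨆ μ, Isoc.slopePart (F.restrict hP) μ).map P.subtype := ⟨⟨x, hx⟩, h1, rfl⟩
    rw [Submodule.map_iSup] at h2
    have h3 : (⨆ μ, (Isoc.slopePart (F.restrict hP) μ).map P.subtype) ≤
        ⨆ μ, P ⊓ Isoc.slopePart F μ :=
      iSup_mono fun μ => le_inf (Submodule.map_subtype_le P _)
        (map_slopePart_restrict_le hτW hτS F hF P hP μ)
    exact h3 h2
  have hrange : ∀ x, π₀ x ∈ P := fun x => by
    rw [hπ₀x]
    exact Submodule.sum_mem _ fun μ _ => (hπmem μ x).1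
  have hid : ∀ x ∈ P, π₀ x = x := by
    have hle : (⨆ μ, P ⊓ Isoc.slopePart F μ) ≤ LinearMap.eqLocus π₀ LinearMap.id := by
      apply iSup_le
      intro μ x hx
      rw [LinearMap.mem_eqLocus, LinearMap.id_apply, hπ₀x]
      by_cases hμ : μ ∈ S
      · rw [Finset.sum_eq_single μ, hπid μ x hx]
        · intro ν _ hνμ
          apply hπzero ν
          exact Submodule.mem_iSup_of_mem μ (Submodule.mem_iSup_of_mem hνμ.symm hx.2)
        · intro h
          exact (h hμ).elim
      · rw [hS, not_not] at hμ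
        have hx0 : x = 0 := by
          have h1 := hx.2
          rw [hμ] at h1
          exact (Submodule.mem_bot _).mp h1
        rw [hx0]
        simp
    intro x hx
    exact hle (hPdec hx)
  have hcomm : ∀ x, π₀ ((⇑F)^[s] x) = (⇑F)^[s] (π₀ x) := by
    intro x
    rw [hπ₀x, hπ₀x]
    have h1 : (⇑F)^[s] (∑ μ ∈ S, π μ x) = ∑ μ ∈ S, (⇑F)^[s] (π μ x) :=
      map_sum (Isoc.iter F s) _ _
    rw [h1]
    exact Finset.sum_congr rfl fun μ _ => hπcomm μ x
  exact exists_stable_isCompl_of_proj hτsurj F hF s hspos P hP π₀ hrange hid hcomm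

end

end Groth.Agent.Lib.Helper22.IsocF
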