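import Mathlib
import Groth.Prelude.Def_Isoc
import Groth.Agent.Lib.helper10.IsocLattice
import Groth.Agent.Lib.Helper22.IsocFekete
import Groth.Agent.Lib.Helper22.IsocFekete2
import Groth.Agent.Lib.Helper22.IsocDet
import Groth.Agent.Lib.Helper22.IsocDet2
import Groth.Agent.Lib.Helper22.IsocKatz
import Groth.Agent.Lib.Helper22.IsocSub
import Groth.Agent.Lib.Helper22.IsocSum
import Groth.Agent.Lib.Helper22.IsocStd
import Groth.Agent.Lib.Helper22.IsocDecomp2
import Groth.Agent.Lib.Helper22.IsocIndep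
import Groth.Agent.Lib.Helper22.IsocFinite
import Groth.Agent.Lib.Helper22.IsocLang
import Groth.Agent.Lib.Helper22.IsocSemisimple

/-!
# Dieudonné–Manin, part 1: cyclic vectors and embeddings of standard isocrystals (helper22)
-/

set_option autoImplicit false
set_option linter.unusedSectionVars false

open scoped Pointwise Isocrystal

universe u v

noncomputable section

namespace Groth.Agent.Lib.Helper22.IsocF

open Groth.Agent.Lib.helper10.IsocL

section

variable {p : ℕ} [Fact p.Prime] {k : Type u} [Field k] [CharP k p] [PerfectRing k p]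
variable {N : Type v} [AddCommGroup N] [Module (WittVector p k) N] [Module K(p, k) N]
  [IsScalarTower (WittVector p k) K(p, k) N]
variable {τ : K(p, k) →+* K(p, k)}

/-- The standard isocrystal `N_{d/h}` with `gcd(d, h) = 1` is simple (general twist). -/
theorem stdIsoc_stable_eq_bot_or_top (hτW : PreservesW τ) (hτU : PreservesUnits τ)
    (hτS : SurjW τ) (hτsurj : Function.Surjective τ) (d : ℤ) (h : ℕ) (hh : 0 < h)
    (hdh : Int.gcd d h = 1) (P : Submodule K(p, k) (Fin h → K(p, k)))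
    (hP : ∀ x ∈ P, Isoc.stdIsoc τ d h x ∈ P) : P = ⊥ ∨ P = ⊤ := by
  obtain ⟨n, rfl⟩ : ∃ n, h = n + 1 := ⟨h - 1, by omega⟩
  have hFs : Function.Surjective (Isoc.stdIsoc τ d (n + 1)) := stdIsoc_surjective hτsurj d (n + 1)
  by_cases hbot : P = ⊥
  · exact Or.inl hbot
  right
  have hlat := latImg_stdIsoc (p := p) (k := k) hτW d n
  have e := latImg_restrict_eq hτS _ hFs P hP hlat
  have fg' := restrictLat_fg P (stdLat_fg (Pi.basisFun K(p, k) (Fin (n + 1))))
  have span' := span_restrictLat P (span_stdLat (Pi.basisFun K(p, k) (Fin (n + 1))))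
  obtain ⟨d', hd'⟩ := exists_isOrdP_detCoeff (Module.finBasis K(p, k) P) hτW
    ((Isoc.stdIsoc τ d (n + 1)).restrict hP) fg' span' (Nat.succ_pos n) e.ge
  have i1 := mul_height_le_of_latImg_le (Module.finBasis K(p, k) P) hτW hτU
    ((Isoc.stdIsoc τ d (n + 1)).restrict hP) hd' fg' span' e.le
  have i2 := le_mul_height_of_pPow_le (Module.finBasis K(p, k) P) hτW hτU
    ((Isoc.stdIsoc τ d (n + 1)).restrict hP) hd' fg' span' e.ge
  have heq : d * (Module.finrank K(p, k) P : ℤ) = ((n + 1 : ℕ) : ℤ) * d' :=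
    le_antisymm i1 i2
  have hcop : IsCoprime (((n + 1 : ℕ) : ℤ)) d :=
    (Int.isCoprime_iff_gcd_eq_one.mpr hdh).symm
  have hdvd : ((n + 1 : ℕ) : ℤ) ∣ (Module.finrank K(p, k) P : ℤ) :=
    hcop.dvd_of_dvd_mul_left ⟨d', heq⟩
  have hpos : 0 < Module.finrank K(p, k) P := by
    have : Nontrivial P := Submodule.nontrivial_iff_ne_bot.mpr hbot
    exact Module.finrank_pos
  have hle : n + 1 ≤ Module.finrank K(p, k) P :=
    Nat.le_of_dvd hpos (Int.natCast_dvd_natCast.mp hdvd)
  apply Submodule.eq_top_of_finrank_eq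
  have h1 : Module.finrank K(p, k) (Fin (n + 1) → K(p, k)) = n + 1 :=
    Module.finrank_fin_fun _
  have h2 := Submodule.finrank_le P
  omega

/-- A non-zero isocrystal over an algebraically closed field contains a non-zero vector `x` with
`F^h x = p^d x`, `gcd(d, h) = 1`. -/
theorem exists_cyclic [IsAlgClosed k] [Module.Finite K(p, k) N] [Nontrivial N]
    (hτW : PreservesW τ) (hτS : SurjW τ) (hFL : ∀ s : ℕ, 0 < s → FrobLike (τ ^ s))
    (F : N →ₛₗ[τ] N) (hF : Function.Bijective F) :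
    ∃ (d : ℤ) (h : ℕ) (x : N), 0 < h ∧ Int.gcd d h = 1 ∧ x ≠ 0 ∧
      (⇑F)^[h] x = ((p : K(p, k)) ^ d) • x := by
  have hNoeth : IsNoetherian K(p, k) N := inferInstance
  have htop := iSup_slopePart_eq_top hτW hτS _ N F hF rfl
  obtain ⟨μ, hμ⟩ : ∃ μ, Isoc.slopePart F μ ≠ ⊥ := by
    by_contra hcon
    push_neg at hcon
    rw [iSup_congr hcon, iSup_bot] at htop
    exact bot_ne_top htop
  have hFst := slopePart_stable F μ
  obtain ⟨M, hM, r, s, hs, hrs, hFM⟩ :=
    isIsoclinic_of_isoIn hτS F hF.2 μ _ hFst (isoIn_slopePart hτW F μ)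
  obtain ⟨j, hj, hsj, hrj⟩ := exists_mul_of_div_eq hs hrs
  have hden : 0 < μ.den := μ.den_pos
  set G := F.restrict hFst with hG
  set Φ : Isoc.slopePart F μ →ₛₗ[τ ^ μ.den] Isoc.slopePart F μ :=
    ((p : K(p, k)) ^ (-μ.num)) • Isoc.iter G μ.den with hΦ
  have hτWh := hτW.pow μ.den
  have hΦM : Isoc.latImg Φ j M = M := by
    have h1 : Isoc.latImg Φ j M = Isoc.pPow (-μ.num * j) (Isoc.latImg G (μ.den * j) M) :=
      latImg_smul_iter G (-μ.num) μ.den j M
    rw [h1, ← hsj, hFM, pPow_pPow, hrj,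
      show -μ.num * (j : ℤ) + μ.num * j = 0 by ring, pPow_zero]
  obtain ⟨i, rfl⟩ : ∃ i, j = i + 1 := ⟨j - 1, by omega⟩
  have hΦacc : Isoc.latImg Φ 1 (acc Φ M i) = acc Φ M i := by
    rw [latImg_acc hτWh]
    apply le_antisymm
    · apply Finset.sup_le
      intro l hl
      have hl' := Finset.mem_range.mp hl
      by_cases hli : l = i
      · subst hli
        rw [add_comm, hΦM]
        exact self_le_acc Φ M l
      · exact le_acc Φ M (by omega)
    · rw [acc_le_iff]
      intro l hl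
      rcases Nat.eq_zero_or_pos l with rfl | hlpos
      · rw [latImg_zero]
        calc M = Isoc.latImg Φ (1 + i) M := by rw [add_comm, hΦM]
          _ ≤ _ := Finset.le_sup (f := fun j => Isoc.latImg Φ (1 + j) M)
            (Finset.mem_range.mpr (by omega))
      · have hl1 : l = 1 + (l - 1) := by omega
        rw [hl1]
        exact Finset.le_sup (f := fun j => Isoc.latImg Φ (1 + j) M)
          (Finset.mem_range.mpr (by omega))
  have hM' : (acc Φ M i).IsLattice K(p, k) :=
    ⟨acc_fg hτWh Φ hM.fg i, span_acc Φ hM.span_eq_top i⟩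
  have hFM' : Isoc.latImg G μ.den (acc Φ M i) = Isoc.pPow μ.num (acc Φ M i) := by
    have h1 : Isoc.latImg Φ 1 (acc Φ M i) =
        Isoc.pPow (-μ.num * (1 : ℕ)) (Isoc.latImg G (μ.den * 1) (acc Φ M i)) :=
      latImg_smul_iter G (-μ.num) μ.den 1 (acc Φ M i)
    rw [hΦacc] at h1
    have h2 := congrArg (Isoc.pPow μ.num) h1
    rw [pPow_pPow, mul_one, Nat.cast_one, mul_one, add_neg_cancel, pPow_zero] at h2
    exact h2.symm
  have h1 := top_le_span_fixed hτS G (acc Φ M i) μ.den μ.num (hFL _ hden) hFM'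
  haveI : Nontrivial (Isoc.slopePart F μ) := Submodule.nontrivial_iff_ne_bot.mpr hμ
  obtain ⟨x, hx, hx0⟩ : ∃ x : Isoc.slopePart F μ,
      (⇑G)^[μ.den] x = ((p : K(p, k)) ^ μ.num) • x ∧ x ≠ 0 := by
    by_contra hcon
    push_neg at hcon
    have h2 : Submodule.span K(p, k)
        {x : Isoc.slopePart F μ | (⇑G)^[μ.den] x = ((p : K(p, k)) ^ μ.num) • x} ≤ ⊥ := by
      rw [Submodule.span_le]
      intro x hx
      exact (Submodule.mem_bot _).mpr (hcon x hx)
    exact top_ne_bot (le_bot_iff.mp (h1.trans h2))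
  refine ⟨μ.num, μ.den, (x : N), hden, ?_, ?_, ?_⟩
  · have := μ.reduced
    rwa [Nat.Coprime, ← Int.natAbs_natCast μ.den] at this
  · intro h0
    exact hx0 (Subtype.ext h0)
  · have h3 := congrArg Subtype.val hx
    rw [coe_restrict_iterate] at h3
    exact h3

/-- A vector `x ≠ 0` with `F^h x = p^d x`, `gcd(d, h) = 1`, spans a copy of the standard
isocrystal `N_{d/h}`. -/
theorem exists_stdIsoc_embedding (hτW : PreservesW τ) (hτU : PreservesUnits τ) (hτS : SurjW τ)
    (hτsurj : Function.Surjective τ) (F : N →ₛₗ[τ] N) (d : ℤ) (h : ℕ) (hh : 0 < h)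
    (hdh : Int.gcd d h = 1) (x : N) (hx0 : x ≠ 0)
    (hx : (⇑F)^[h] x = ((p : K(p, k)) ^ d) • x) :
    ∃ φ : (Fin h → K(p, k)) →ₗ[K(p, k)] N, Function.Injective φ ∧
      ∀ c, φ (Isoc.stdIsoc τ d h c) = F (φ c) := by
  obtain ⟨n, rfl⟩ : ∃ n, h = n + 1 := ⟨h - 1, by omega⟩
  set φ := Fintype.linearCombination K(p, k) (fun i : Fin (n + 1) => (⇑F)^[i.val] x) with hφ
  have hcompat : ∀ c, φ (Isoc.stdIsoc τ d (n + 1) c) = F (φ c) := by
    intro c
    rw [hφ, Fintype.linearCombination_apply, Fintype.linearCombination_apply, map_sum]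
    rw [← Equiv.sum_comp (finRotate (n + 1))]
    refine Finset.sum_congr rfl fun i _ => ?_
    rw [Isoc.stdIsoc_apply, Equiv.symm_apply_apply, map_smulₛₗ,
      ← Function.iterate_succ_apply' (⇑F)]
    by_cases hi : i = Fin.last n
    · subst hi
      rw [finRotate_last]
      simp only [Fin.val_zero, if_true, Function.iterate_zero, id, Fin.val_last]
      rw [hx, smul_smul, mul_comm]
    · have h1 := coe_finRotate_of_ne_last hi
      rw [h1, if_neg (Nat.succ_ne_zero _), one_mul]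
  refine ⟨φ, ?_, hcompat⟩
  have hker : ∀ c ∈ LinearMap.ker φ, Isoc.stdIsoc τ d (n + 1) c ∈ LinearMap.ker φ := by
    intro c hc
    rw [LinearMap.mem_ker] at hc ⊢
    rw [hcompat, hc, map_zero]
  rcases stdIsoc_stable_eq_bot_or_top hτW hτU hτS hτsurj d (n + 1) (Nat.succ_pos n) hdh _ hker
    with hb | ht
  · exact LinearMap.ker_eq_bot.mp hb
  · exfalso
    apply hx0
    have h0 : (Pi.single 0 1 : Fin (n + 1) → K(p, k)) ∈ LinearMap.ker φ := by
      rw [ht]
      exact Submodule.mem_top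
    rw [LinearMap.mem_ker, hφ, Fintype.linearCombination_apply_single, one_smul] at h0
    simpa using h0

end

end Groth.Agent.Lib.Helper22.IsocF
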