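import Mathlib
import Groth.Prelude.Def_Isoc
import Groth.Agent.Lib.helper10.IsocLattice
import Groth.Agent.Lib.Helper22.IsocFekete
import Groth.Agent.Lib.Helper22.IsocFekete2
import Groth.Agent.Lib.Helper22.IsocDet
import Groth.Agent.Lib.Helper22.IsocSlope
import Groth.Agent.Lib.Helper22.IsocSub
import Groth.Agent.Lib.Helper22.IsocSum
import Groth.Agent.Lib.Helper22.IsocStd
import Groth.Agent.Lib.Helper22.IsocDecomp2
import Groth.Agent.Lib.Helper22.IsocIndep

/-!
# Dieudonné–Manin, part 2: Newton multiplicities of a sum of standard isocrystals (helper22)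
-/

set_option autoImplicit false
set_option linter.unusedSectionVars false

open scoped Pointwise Isocrystal

universe u v

noncomputable section

namespace Groth.Agent.Lib.Helper22.IsocF

open Groth.Agent.Lib.helper10.IsocL

section

variable {p : ℕ} [Fact p.Prime] {k : Type u} [Field k] [CharP k p] [PerfectRing k p]
variable {N : Type v} [AddCommGroup N] [Module (WittVector p k) N] [Module K(p, k) N]
  [IsScalarTower (WittVector p k) K(p, k) N]
variable {τ : K(p, k) →+* K(p, k)}

theorem latImg_stdIsoc' (hτ : PreservesW τ) (d : ℤ) (h : ℕ) (hh : 0 < h) :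
    Isoc.latImg (Isoc.stdIsoc τ d h) h (stdLat (Pi.basisFun K(p, k) (Fin h))) =
      Isoc.pPow d (stdLat (Pi.basisFun K(p, k) (Fin h))) := by
  obtain ⟨n, rfl⟩ : ∃ n, h = n + 1 := ⟨h - 1, by omega⟩
  exact latImg_stdIsoc hτ d n

/-- The image of a standard isocrystal `N_{d/h}` lies in the slope-`d/h` part. -/
theorem range_le_slopePart [IsNoetherian K(p, k) N] (hτW : PreservesW τ) (hτS : SurjW τ)
    (F : N →ₛₗ[τ] N) (hF : Function.Surjective F) (d : ℤ) (h : ℕ) (hh : 0 < h)
    (ψ : (Fin h → K(p, k)) →ₗ[K(p, k)] N)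
    (hψ : ∀ c, ψ (Isoc.stdIsoc τ d h c) = F (ψ c)) :
    LinearMap.range ψ ≤ Isoc.slopePart F ((d : ℚ) / (h : ℚ)) := by
  apply le_slopePart_of_isoIn hτS F hF
  · rintro _ ⟨c, rfl⟩
    exact ⟨_, hψ c⟩
  · refine ⟨(stdLat (Pi.basisFun K(p, k) (Fin h))).map (ψ.restrictScalars (WittVector p k)),
      (stdLat_fg _).map _, ?_, d, h, hh, ?_, ?_⟩
    · have h1 : (((stdLat (Pi.basisFun K(p, k) (Fin h))).map
          (ψ.restrictScalars (WittVector p k)) : Submodule (WittVector p k) N) : Set N) =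
          ψ '' (stdLat (Pi.basisFun K(p, k) (Fin h)) : Set (Fin h → K(p, k))) := rfl
      rw [h1, ← Submodule.map_span, span_stdLat, Submodule.map_top]
    · have hh0 : (h : ℚ) ≠ 0 := by exact_mod_cast hh.ne'
      field_simp
    · rw [latImg_map ψ hψ, latImg_stdIsoc' hτW d h hh, pPow_map]

/-- **Newton multiplicities of a direct sum of standard isocrystals.** -/
theorem newtonMult_eq_sum [Module.Finite K(p, k) N] (hτW : PreservesW τ) (hτS : SurjW τ)
    (F : N →ₛₗ[τ] N) (hF : Function.Bijective F) {ι : Type} [Fintype ι]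
    (d : ι → ℤ) (h : ι → ℕ) (hh : ∀ i, 0 < h i)
    (e : N ≃ₗ[K(p, k)] ((i : ι) → (Fin (h i) → K(p, k))))
    (he : ∀ (x : N) (i : ι), e (F x) i = Isoc.stdIsoc τ (d i) (h i) (e x i)) (μ : ℚ) :
    Isoc.newtonMult F μ = ∑ i : ι, (if ((d i : ℚ) / (h i : ℚ)) = μ then h i else 0) := by
  classical
  have hNoeth : IsNoetherian K(p, k) N := inferInstance
  have hind := iSupIndep_slopePart hτW hτS F hF
  set φ : ι → Type u := fun i => Fin (h i) → K(p, k) with hφdef
  set ψ : (i : ι) → (Fin (h i) → K(p, k)) →ₗ[K(p, k)] N := fun i =>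
    e.symm.toLinearMap ∘ₗ LinearMap.single K(p, k) φ i with hψdef
  have hψ : ∀ i c, ψ i (Isoc.stdIsoc τ (d i) (h i) c) = F (ψ i c) := by
    intro i c
    apply e.injective
    funext j
    rw [he]
    simp only [hψdef, LinearMap.comp_apply, LinearEquiv.coe_coe, LinearEquiv.apply_symm_apply,
      LinearMap.single_apply]
    by_cases hji : j = i
    · subst hji
      rw [Pi.single_eq_same, Pi.single_eq_same]
    · rw [Pi.single_eq_of_ne hji, Pi.single_eq_of_ne hji, map_zero]
  have hle : ∀ i, LinearMap.range (ψ i) ≤ Isoc.slopePart F ((d i : ℚ) / (h i : ℚ)) := fun i =>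
    range_le_slopePart hτW hτS F hF.2 (d i) (h i) (hh i) (ψ i) (hψ i)
  set I : Set ι := {i | (d i : ℚ) / (h i : ℚ) = μ} with hI
  set A : Submodule K(p, k) ((i : ι) → φ i) :=
    ⨆ i ∈ I, LinearMap.range (LinearMap.single K(p, k) φ i) with hA
  set B : Submodule K(p, k) ((i : ι) → φ i) :=
    ⨆ i ∈ Iᶜ, LinearMap.range (LinearMap.single K(p, k) φ i) with hB
  have hAB : A ⊔ B = ⊤ := by
    rw [eq_top_iff, ← LinearMap.iSup_range_single K(p, k) φ]
    apply iSup_le
    intro i
    by_cases hi : i ∈ I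
    · exact le_sup_of_le_left
        (le_iSup₂ (f := fun i (_ : i ∈ I) => LinearMap.range (LinearMap.single K(p, k) φ i)) i hi)
    · exact le_sup_of_le_right
        (le_iSup₂ (f := fun i (_ : i ∈ Iᶜ) => LinearMap.range (LinearMap.single K(p, k) φ i)) i hi)
  have hmap : ∀ i, (LinearMap.range (LinearMap.single K(p, k) φ i)).map e.symm.toLinearMap =
      LinearMap.range (ψ i) := fun i => (LinearMap.range_comp _ _).symm
  have heA : A.map e.symm.toLinearMap ≤ Isoc.slopePart F μ := by
    rw [hA, Submodule.map_iSup]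
    apply iSup_le
    intro i
    rw [Submodule.map_iSup]
    apply iSup_le
    intro hi
    rw [hmap]
    have h1 := hle i
    rwa [show (d i : ℚ) / (h i : ℚ) = μ from hi] at h1
  have heB : B.map e.symm.toLinearMap ≤ ⨆ ν, ⨆ (_ : ν ≠ μ), Isoc.slopePart F ν := by
    rw [hB, Submodule.map_iSup]
    apply iSup_le
    intro i
    rw [Submodule.map_iSup]
    apply iSup_le
    intro hi
    rw [hmap]
    exact (hle i).trans
      (le_iSup₂ (f := fun ν (_ : ν ≠ μ) => Isoc.slopePart F ν) ((d i : ℚ) / (h i : ℚ)) hi)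
  have hd : Disjoint (Isoc.slopePart F μ) (⨆ ν, ⨆ (_ : ν ≠ μ), Isoc.slopePart F ν) := hind μ
  have heq : Isoc.slopePart F μ = A.map e.symm.toLinearMap := by
    apply le_antisymm _ heA
    have h1 : (A.map e.symm.toLinearMap ⊔ B.map e.symm.toLinearMap) ⊓ Isoc.slopePart F μ =
        A.map e.symm.toLinearMap ⊔ B.map e.symm.toLinearMap ⊓ Isoc.slopePart F μ :=
      sup_inf_assoc_of_le _ heA
    have h2 : A.map e.symm.toLinearMap ⊔ B.map e.symm.toLinearMap = ⊤ := by
      rw [← Submodule.map_sup, hAB, Submodule.map_top, LinearEquiv.range]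
    rw [h2, top_inf_eq] at h1
    rw [h1]
    apply sup_le le_rfl
    have h3 : B.map e.symm.toLinearMap ⊓ Isoc.slopePart F μ ≤ ⊥ := by
      rw [inf_comm]
      exact (hd.mono_right heB).le_bot
    exact h3.trans bot_le
  unfold Isoc.newtonMult
  rw [heq, LinearEquiv.finrank_map_eq e.symm A]
  have hA' : A = ⨅ i ∈ Iᶜ, LinearMap.ker
      (LinearMap.proj i : ((i : ι) → φ i) →ₗ[K(p, k)] φ i) :=
    LinearMap.iSup_range_single_eq_iInf_ker_proj K(p, k) φ isCompl_compl (Set.toFinite I)
  rw [hA', (LinearMap.iInfKerProjEquiv K(p, k) φ (I := I) (J := Iᶜ) disjoint_compl_right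
    (by simp)).finrank_eq, Module.finrank_pi_fintype]
  have hfr : ∀ i : I, Module.finrank K(p, k) (φ i) = h i := fun i => Module.finrank_fin_fun _
  rw [Finset.sum_congr rfl fun i _ => hfr i, ← Finset.sum_filter]
  exact (Finset.sum_subtype (Finset.univ.filter fun i => (d i : ℚ) / (h i : ℚ) = μ)
    (fun i => by simp [hI]) (fun i => h i)).symm

end

end Groth.Agent.Lib.Helper22.IsocF
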