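import Mathlib
import Groth.Prelude.Def_Isoc
import Groth.Agent.Lib.helper10.IsocLattice
import Groth.Agent.Lib.Helper22.IsocFekete
import Groth.Agent.Lib.Helper22.IsocFekete2
import Groth.Agent.Lib.Helper22.IsocDet
import Groth.Agent.Lib.Helper22.IsocSub
import Groth.Agent.Lib.Helper22.IsocDecomp2
import Groth.Agent.Lib.Helper22.IsocLang
import Groth.Agent.Lib.Helper22.IsocSemisimple
import Groth.Agent.Lib.Helper22.IsocManin1

/-!
# Dieudonné–Manin, part 3: the decomposition into standard isocrystals (helper22)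
-/

set_option autoImplicit false
set_option linter.unusedSectionVars false

open scoped Pointwise Isocrystal

universe u v

noncomputable section

namespace Groth.Agent.Lib.Helper22.IsocF

open Groth.Agent.Lib.helper10.IsocL

section

variable {p : ℕ} [Fact p.Prime] {k : Type u} [Field k] [CharP k p] [PerfectRing k p]
variable {τ : K(p, k) →+* K(p, k)}

/-- **Dieudonné–Manin** (decomposition part, indexed by a finite type). -/
theorem exists_equiv_pi_stdIsoc [IsAlgClosed k] (hτW : PreservesW τ) (hτU : PreservesUnits τ)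
    (hτS : SurjW τ) (hτsurj : Function.Surjective τ)
    (hFL : ∀ s : ℕ, 0 < s → FrobLike (τ ^ s)) :
    ∀ (n : ℕ) (N : Type v) [AddCommGroup N] [Module (WittVector p k) N] [Module K(p, k) N]
      [IsScalarTower (WittVector p k) K(p, k) N] [Module.Finite K(p, k) N]
      (F : N →ₛₗ[τ] N), Function.Bijective F → Module.finrank K(p, k) N = n →
      ∃ (ι : Type) (_ : Fintype ι) (d : ι → ℤ) (h : ι → ℕ)
        (e : N ≃ₗ[K(p, k)] ((i : ι) → (Fin (h i) → K(p, k)))),
        (∀ i, 0 < h i ∧ Int.gcd (d i) (h i) = 1) ∧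
        ∀ (x : N) (i : ι), e (F x) i = Isoc.stdIsoc τ (d i) (h i) (e x i) := by
  intro n
  induction n using Nat.strong_induction_on with
  | _ n ih =>
    intro N _ _ _ _ _ F hF hn
    rcases subsingleton_or_nontrivial N with hsub | hnt
    · refine ⟨Empty, inferInstance, fun i => i.elim, fun i => i.elim,
        LinearEquiv.ofSubsingleton _ _, fun i => i.elim, fun x i => i.elim⟩
    have hNoeth : IsNoetherian K(p, k) N := inferInstance
    obtain ⟨d₀, h₀, x, hh₀, hgcd, hx0, hx⟩ := exists_cyclic hτW hτS hFL F hF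
    obtain ⟨φ₀, hinj, hφ₀⟩ :=
      exists_stdIsoc_embedding hτW hτU hτS hτsurj F d₀ h₀ hh₀ hgcd x hx0 hx
    have hE : ∀ y ∈ LinearMap.range φ₀, F y ∈ LinearMap.range φ₀ := by
      rintro _ ⟨c, rfl⟩
      exact ⟨_, hφ₀ c⟩
    obtain ⟨Q, hQ, hc⟩ := exists_stable_isCompl hτW hτS hτsurj hFL F hF _ hE
    have hdimE : Module.finrank K(p, k) (LinearMap.range φ₀) = h₀ := by
      rw [LinearMap.finrank_range_of_inj hinj, Module.finrank_fin_fun]
    have hdim := Submodule.finrank_add_eq_of_isCompl hc
    obtain ⟨ι, hι, d, h, eQ, hdh, heQ⟩ := ih (Module.finrank K(p, k) Q) (by omega) Q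
      (F.restrict hQ) (restrict_bijective F hF Q hQ) rfl
    haveI := hι
    refine ⟨Option ι, inferInstance, fun o => Option.elim o d₀ d, fun o => Option.elim o h₀ h,
      (Submodule.prodEquivOfIsCompl _ Q hc).symm ≪≫ₗ
        (LinearEquiv.prodCongr (LinearEquiv.ofInjective φ₀ hinj).symm eQ) ≪≫ₗ
        (LinearEquiv.piOptionEquivProd K(p, k)
          (M := fun o : Option ι => Fin (Option.elim o h₀ h) → K(p, k))).symm, ?_, ?_⟩
    · rintro (_ | i)
      · exact ⟨hh₀, hgcd⟩
      · exact hdh i
    · intro y o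
      set u := (Submodule.prodEquivOfIsCompl _ Q hc).symm y with hu
      have hy : y = (u.1 : N) + (u.2 : N) := by
        have h1 := (Submodule.prodEquivOfIsCompl _ Q hc).apply_symm_apply y
        rw [← hu, Submodule.coe_prodEquivOfIsCompl'] at h1
        exact h1.symm
      have hFy : (Submodule.prodEquivOfIsCompl _ Q hc).symm (F y) =
          ((F.restrict hE) u.1, (F.restrict hQ) u.2) := by
        rw [LinearEquiv.symm_apply_eq, Submodule.coe_prodEquivOfIsCompl', hy, map_add]
        rfl
      cases o with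
      | none =>
        show (LinearEquiv.ofInjective φ₀ hinj).symm
            ((Submodule.prodEquivOfIsCompl _ Q hc).symm (F y)).1 =
          Isoc.stdIsoc τ d₀ h₀ ((LinearEquiv.ofInjective φ₀ hinj).symm u.1)
        rw [hFy, LinearEquiv.symm_apply_eq]
        apply Subtype.ext
        have h2 : φ₀ ((LinearEquiv.ofInjective φ₀ hinj).symm u.1) = (u.1 : N) :=
          congrArg Subtype.val ((LinearEquiv.ofInjective φ₀ hinj).apply_symm_apply u.1)
        show F (u.1 : N) = φ₀ (Isoc.stdIsoc τ d₀ h₀ ((LinearEquiv.ofInjective φ₀ hinj).symm u.1))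
        rw [hφ₀, h2]
      | some i =>
        show eQ ((Submodule.prodEquivOfIsCompl _ Q hc).symm (F y)).2 i =
          Isoc.stdIsoc τ (d i) (h i) (eQ u.2 i)
        rw [hFy]
        exact heQ u.2 i

end

end Groth.Agent.Lib.Helper22.IsocF
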