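import Mathlib
import Groth.Prelude.Def_Isoc
import Groth.Agent.Lib.Helper22.IsocManin2
import Groth.Agent.Lib.Helper22.IsocManin3

/-!
# Dieudonné–Manin, part 4: reindexing by `Fin t` and the final statement (helper22)
-/

set_option autoImplicit false
set_option linter.unusedSectionVars false

open scoped Pointwise Isocrystal

universe u v

noncomputable section

namespace Groth.Agent.Lib.Helper22.IsocF

open Groth.Agent.Lib.helper10.IsocL

section

variable {p : ℕ} [Fact p.Prime] {k : Type u} [Field k] [CharP k p] [PerfectRing k p]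
variable {N : Type v} [AddCommGroup N] [Module (WittVector p k) N] [Module K(p, k) N]
  [IsScalarTower (WittVector p k) K(p, k) N]
variable {τ : K(p, k) →+* K(p, k)}

theorem reindex_fin (F : N →ₛₗ[τ] N) {ι : Type} [Fintype ι] (d : ι → ℤ) (h : ι → ℕ)
    (e : N ≃ₗ[K(p, k)] ((i : ι) → (Fin (h i) → K(p, k))))
    (hdh : ∀ i, 0 < h i ∧ Int.gcd (d i) (h i) = 1)
    (he : ∀ (x : N) (i : ι), e (F x) i = Isoc.stdIsoc τ (d i) (h i) (e x i)) :
    ∃ (t : ℕ) (d' : Fin t → ℤ) (h' : Fin t → ℕ)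
      (e' : N ≃ₗ[K(p, k)] ((i : Fin t) → (Fin (h' i) → K(p, k)))),
      (∀ i, 0 < h' i ∧ Int.gcd (d' i) (h' i) = 1) ∧
      ∀ (x : N) (i : Fin t), e' (F x) i = Isoc.stdIsoc τ (d' i) (h' i) (e' x i) := by
  obtain ⟨σ⟩ : Nonempty (ι ≃ Fin (Fintype.card ι)) := ⟨Fintype.equivFin ι⟩
  refine ⟨Fintype.card ι, fun j => d (σ.symm j), fun j => h (σ.symm j),
    e ≪≫ₗ LinearEquiv.piCongrLeft' K(p, k) (fun i => Fin (h i) → K(p, k)) σ,
    fun j => hdh _, ?_⟩
  intro x j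
  have h1 : ∀ y, (e ≪≫ₗ LinearEquiv.piCongrLeft' K(p, k)
      (fun i => Fin (h i) → K(p, k)) σ) y j = e y (σ.symm j) := fun y => rfl
  rw [h1, h1]
  exact he x (σ.symm j)

/-- **Dieudonné–Manin classification** for a Frobenius-like twist. -/
theorem dieudonne_manin [IsAlgClosed k] [Module.Finite K(p, k) N] (hτW : PreservesW τ)
    (hτU : PreservesUnits τ) (hτS : SurjW τ) (hτsurj : Function.Surjective τ)
    (hFL : ∀ s : ℕ, 0 < s → FrobLike (τ ^ s)) (F : N →ₛₗ[τ] N) (hF : Function.Bijective F) :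
    ∃ (t : ℕ) (d : Fin t → ℤ) (h : Fin t → ℕ)
      (e : N ≃ₗ[K(p, k)] ((i : Fin t) → (Fin (h i) → K(p, k)))),
      (∀ i, 0 < h i ∧ Int.gcd (d i) (h i) = 1) ∧
      (∀ (x : N) (i : Fin t), e (F x) i = Isoc.stdIsoc τ (d i) (h i) (e x i)) ∧
      ∀ μ : ℚ, Isoc.newtonMult F μ =
        ∑ i : Fin t, (if ((d i : ℚ) / (h i : ℚ)) = μ then h i else 0) := by
  obtain ⟨ι, hι, d, h, e, hdh, he⟩ :=
    exists_equiv_pi_stdIsoc hτW hτU hτS hτsurj hFL _ N F hF rfl
  haveI := hι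
  obtain ⟨t, d', h', e', hdh', he'⟩ := reindex_fin F d h e hdh he
  exact ⟨t, d', h', e', hdh', he', fun μ =>
    newtonMult_eq_sum hτW hτS F hF d' h' (fun i => (hdh' i).1) e' he' μ⟩

end

end Groth.Agent.Lib.Helper22.IsocF
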