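import Mathlib
import Groth.Prelude.Def_Isoc
import Groth.Agent.Lib.helper10.IsocLattice
import Groth.Agent.Lib.Helper22.IsocFekete
import Groth.Agent.Lib.Helper22.IsocFekete2
import Groth.Agent.Lib.Helper22.IsocDet
import Groth.Agent.Lib.Helper22.IsocDet2
import Groth.Agent.Lib.Helper22.IsocSub
import Groth.Agent.Lib.Helper22.IsocSlope
import Groth.Agent.Lib.Helper22.IsocStd
import Groth.Agent.Lib.Helper22.IsocSum
import Groth.Agent.Lib.Helper22.IsocKatz
import Groth.Agent.Lib.Helper22.IsocDecomp2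
import Groth.Agent.Lib.Helper22.IsocIndep

/-!
# The Newton polygon ends at `(h, orddet F)` (helper22)
-/

set_option autoImplicit false
set_option linter.unusedSectionVars false

open scoped Pointwise Isocrystal

universe u v

noncomputable section

namespace Groth.Agent.Lib.Helper22.IsocF

open Groth.Agent.Lib.helper10.IsocL

section Diag

variable {R : Type*} [CommRing R] {M : Type*} [AddCommGroup M] [Module R M]
variable {ι : Type*} [Fintype ι] [DecidableEq ι]

/-- The endomorphism which is diagonal in the basis `B` with diagonal entries `c`. -/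
def diagEnd (B : Module.Basis ι R M) (c : ι → R) : M →ₗ[R] M :=
  B.constr R (fun a => c a • B a)

theorem diagEnd_basis (B : Module.Basis ι R M) (c : ι → R) (a : ι) :
    diagEnd B c (B a) = c a • B a :=
  B.constr_basis R _ a

theorem det_diagEnd (B : Module.Basis ι R M) (c : ι → R) :
    LinearMap.det (diagEnd B c) = ∏ a, c a := by
  rw [← LinearMap.det_toMatrix B]
  have : LinearMap.toMatrix B B (diagEnd B c) = Matrix.diagonal c := by
    ext i j
    rw [LinearMap.toMatrix_apply, diagEnd_basis, map_smul, Finsupp.smul_apply, B.repr_self,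
      Finsupp.single_apply, Matrix.diagonal_apply]
    by_cases hij : i = j
    · subst hij; simp
    · rw [if_neg (Ne.symm hij), if_neg hij, smul_zero]
  rw [this, Matrix.det_diagonal]

theorem diagEnd_diagEnd (B : Module.Basis ι R M) (c c' : ι → R) (hcc : ∀ a, c a * c' a = 1)
    (x : M) : diagEnd B c (diagEnd B c' x) = x := by
  have : (diagEnd B c).comp (diagEnd B c') = LinearMap.id := by
    apply B.ext
    intro a
    rw [LinearMap.comp_apply, diagEnd_basis, map_smul, diagEnd_basis, smul_smul, mul_comm, hcc,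
      one_smul, LinearMap.id_apply]
  exact LinearMap.congr_fun this x

end Diag

section Collected

variable {R : Type*} [CommRing R] {M : Type*} [AddCommGroup M] [Module R M]
variable {ι : Type*} [DecidableEq ι] {A : ι → Submodule R M} {α : ι → Type*}

theorem diagEnd_collectedBasis_apply (hint : DirectSum.IsInternal A)
    (v : ∀ i, Module.Basis (α i) R (A i)) [Fintype (Σ i, α i)] [DecidableEq (Σ i, α i)]
    (g : ι → R) (i : ι) (x : M) (hx : x ∈ A i) :
    diagEnd (hint.collectedBasis v) (fun a => g a.1) x = g i • x := by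
  have key : ∀ y : A i, diagEnd (hint.collectedBasis v) (fun a => g a.1) (y : M) = g i • (y : M) := by
    intro y
    have hy : y ∈ Submodule.span R (Set.range (v i)) := by rw [(v i).span_eq]; trivial
    induction hy using Submodule.span_induction with
    | mem y hy =>
      obtain ⟨j, rfl⟩ := hy
      have h1 : hint.collectedBasis v ⟨i, j⟩ = ((v i j : A i) : M) :=
        congrFun (hint.collectedBasis_coe v) ⟨i, j⟩
      rw [← h1, diagEnd_basis]
    | zero => simp
    | add y z _ _ hy hz => rw [Submodule.coe_add, map_add, hy, hz, smul_add]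
    | smul r y _ hy => rw [Submodule.coe_smul, map_smul, hy, smul_comm]
  exact key ⟨x, hx⟩

end Collected

section

variable {p : ℕ} [Fact p.Prime] {k : Type u} [Field k] [CharP k p] [PerfectRing k p]
variable {N : Type v} [AddCommGroup N] [Module (WittVector p k) N] [Module K(p, k) N]
  [IsScalarTower (WittVector p k) K(p, k) N]
variable {τ : K(p, k) →+* K(p, k)}

theorem PreservesUnits.pow (h : PreservesUnits τ) (n : ℕ) : PreservesUnits (τ ^ n) := by
  induction n with
  | zero => intro u; exact ⟨u, by simp⟩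
  | succ n ih =>
    intro u
    obtain ⟨u', hu'⟩ := ih u
    obtain ⟨u'', hu''⟩ := h u'
    exact ⟨u'', by rw [pow_succ', RingHom.mul_def, RingHom.comp_apply, hu', hu'']⟩

theorem isOrdP_zpow (n : ℤ) : Isoc.IsOrdP ((p : K(p, k)) ^ n) n := ⟨1, by simp⟩

theorem isOrdP_prod {ι : Type*} (U : Finset ι) (f : ι → K(p, k)) (e : ι → ℤ)
    (h : ∀ a ∈ U, Isoc.IsOrdP (f a) (e a)) : Isoc.IsOrdP (∏ a ∈ U, f a) (∑ a ∈ U, e a) := by
  classical
  induction U using Finset.induction_on with
  | empty => simpa using isOrdP_one (p := p) (k := k)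
  | insert a U ha ih =>
    rw [Finset.prod_insert ha, Finset.sum_insert ha]
    exact isOrdP_mul (h a (Finset.mem_insert_self a U))
      (ih fun b hb => h b (Finset.mem_insert_of_mem hb))

theorem span_finset_sup {ι : Type*} (t : Finset ι) (f : ι → Submodule (WittVector p k) N) :
    Submodule.span K(p, k) ((t.sup f : Submodule (WittVector p k) N) : Set N) =
      t.sup fun j => Submodule.span K(p, k) (f j : Set N) := by
  classical
  induction t using Finset.induction_on with
  | empty => simp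
  | insert a t _ ih => rw [Finset.sup_insert, Finset.sup_insert, span_sup_eq, ih]

/-- The sum of the Newton slopes with multiplicities is `orddet F`. -/
theorem finsum_mul_newtonMult [Module.Finite K(p, k) N] (hτW : PreservesW τ)
    (hτU : PreservesUnits τ) (hτS : SurjW τ) (F : N →ₛₗ[τ] N) (hF : Function.Bijective F)
    {h : ℕ} (b : Module.Basis (Fin h) K(p, k) N) {d : ℤ}
    (hd : Isoc.IsOrdP (Isoc.detCoeff b F) d) :
    ∑ᶠ μ : ℚ, μ * (Isoc.newtonMult F μ : ℚ) = d := by
  classical
  have hNoeth : IsNoetherian K(p, k) N := inferInstance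
  have hind := iSupIndep_slopePart hτW hτS F hF
  have htop := iSup_slopePart_eq_top hτW hτS _ N F hF rfl
  have hint : DirectSum.IsInternal (fun μ : ℚ => Isoc.slopePart F μ) :=
    (DirectSum.isInternal_submodule_iff_iSupIndep_and_iSup_eq_top _).mpr ⟨hind, htop⟩
  -- the finite support
  have hfin : {μ : ℚ | Isoc.slopePart F μ ≠ ⊥}.Finite :=
    WellFoundedGT.finite_ne_bot_of_iSupIndep hind
  obtain ⟨S, hS⟩ : ∃ S : Finset ℚ, ∀ μ, μ ∈ S ↔ Isoc.slopePart F μ ≠ ⊥ :=
    ⟨hfin.toFinset, fun μ => by simp⟩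
  -- the lattices
  have hiso : ∀ μ : ℚ, ∃ M : Submodule (WittVector p k) N, M.FG ∧
      Submodule.span K(p, k) (M : Set N) = Isoc.slopePart F μ ∧
      ∃ (r : ℤ) (s : ℕ), 0 < s ∧ (r : ℚ) = μ * s ∧ Isoc.latImg F s M = Isoc.pPow r M :=
    fun μ => isoIn_slopePart hτW F μ
  choose Mf hfg hspan rf sf hs hrs hFM using hiso
  -- the common exponent
  set s : ℕ := ∏ μ ∈ S, sf μ with hsdef
  have hspos : 0 < s := Finset.prod_pos fun μ _ => hs μ
  set e : ℚ → ℕ := fun μ => ∏ ν ∈ S.erase μ, sf ν with hedef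
  have hsplit : ∀ μ ∈ S, sf μ * e μ = s := fun μ hμ => Finset.mul_prod_erase S sf hμ
  set t : ℚ → ℤ := fun μ => rf μ * e μ with htdef
  have ht : ∀ μ ∈ S, (t μ : ℚ) = μ * s := by
    intro μ hμ
    rw [htdef, ← hsplit μ hμ]
    push_cast
    rw [hrs μ]
    ring
  have hFMs : ∀ μ ∈ S, Isoc.latImg F s (Mf μ) = Isoc.pPow (t μ) (Mf μ) := by
    intro μ hμ
    have := latImg_mul_eq hτW F (hFM μ) (e μ)
    rwa [hsplit μ hμ] at this
  -- the adapted basis and the diagonal twist
  let B := hint.collectedBasis (fun μ => Module.finBasis K(p, k) (Isoc.slopePart F μ))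
  haveI : Finite (Σ μ : ℚ, Fin (Module.finrank K(p, k) (Isoc.slopePart F μ))) :=
    Module.Finite.finite_basis B
  letI : Fintype (Σ μ : ℚ, Fin (Module.finrank K(p, k) (Isoc.slopePart F μ))) :=
    Fintype.ofFinite _
  let T : N →ₗ[K(p, k)] N := diagEnd B (fun a => (p : K(p, k)) ^ (t a.1))
  let T' : N →ₗ[K(p, k)] N := diagEnd B (fun a => (p : K(p, k)) ^ (-(t a.1)))
  have hT' : ∀ μ : ℚ, ∀ x ∈ Isoc.slopePart F μ, T' x = ((p : K(p, k)) ^ (-(t μ))) • x :=
    fun μ x hx => diagEnd_collectedBasis_apply hint _ (fun μ => (p : K(p, k)) ^ (-(t μ))) μ x hx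
  have hTT' : ∀ x, T (T' x) = x := by
    apply diagEnd_diagEnd
    intro a
    rw [← zpow_add₀ p_ne_zero, add_neg_cancel, zpow_zero]
  let G : N →ₛₗ[τ ^ s] N := T'.comp (Isoc.iter F s)
  have hG : ∀ x, G x = T' ((⇑F)^[s] x) := fun x => rfl
  have hTG : ∀ x, T (G x) = (⇑F)^[s] x := fun x => by rw [hG, hTT']
  -- the lattice
  set M : Submodule (WittVector p k) N := S.sup Mf with hMdef
  have hMfg : M.FG := Submodule.fg_finset_sup S Mf fun μ _ => hfg μ
  have hMspan : Submodule.span K(p, k) (M : Set N) = ⊤ := by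
    rw [hMdef, span_finset_sup, eq_top_iff, ← htop]
    apply iSup_le
    intro μ
    by_cases hμ : μ ∈ S
    · rw [← hspan μ]
      exact Finset.le_sup (f := fun j => Submodule.span K(p, k) (Mf j : Set N)) hμ
    · rw [hS, not_not] at hμ
      rw [hμ]
      exact bot_le
  have hGmem : ∀ μ ∈ S, ∀ m ∈ Mf μ, ∀ x : N, (⇑F)^[s] x = ((p : K(p, k)) ^ (t μ)) • m →
      G x = m := by
    intro μ hμ m hm x hx
    have hmN : m ∈ Isoc.slopePart F μ := hspan μ ▸ Submodule.subset_span hm
    rw [hG, hx, map_smul, hT' μ m hmN, smul_smul, ← zpow_add₀ p_ne_zero, add_neg_cancel,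
      zpow_zero, one_smul]
  have hGMf : ∀ μ ∈ S, Isoc.latImg G 1 (Mf μ) = Mf μ := by
    intro μ hμ
    apply le_antisymm
    · unfold Isoc.latImg
      rw [Submodule.span_le]
      rintro _ ⟨x, hx, rfl⟩
      have h1 : (⇑F)^[s] x ∈ Isoc.pPow (t μ) (Mf μ) := by
        rw [← hFMs μ hμ]
        exact Submodule.subset_span ⟨x, hx, rfl⟩
      obtain ⟨m, hm, hme⟩ := (mem_pPow_iff _ _ _).mp h1
      rw [Function.iterate_one, hGmem μ hμ m hm x hme.symm]
      exact hm
    · intro m hm
      have h1 : ((p : K(p, k)) ^ (t μ)) • m ∈ Isoc.latImg F s (Mf μ) := by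
        rw [hFMs μ hμ]
        exact (mem_pPow_iff _ _ _).mpr ⟨m, hm, rfl⟩
      obtain ⟨m', hm', hme⟩ := (mem_latImg_iff hτS F s (Mf μ) _).mp h1
      apply Submodule.subset_span
      refine ⟨m', hm', ?_⟩
      rw [Function.iterate_one]
      exact hGmem μ hμ m hm m' hme
  have hGM : Isoc.latImg G 1 M = M := by
    rw [hMdef, latImg_finset_sup]
    exact Finset.sup_congr rfl hGMf
  -- `orddet G = 0`
  have hτWs := hτW.pow s
  have hτUs := hτU.pow s
  have hle1 : Isoc.latImg G 1 M ≤ Isoc.pPow 0 M := by rw [hGM, pPow_zero]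
  have hle2 : Isoc.pPow 0 M ≤ Isoc.latImg G 1 M := by rw [hGM, pPow_zero]
  obtain ⟨dG, hdG⟩ := exists_isOrdP_detCoeff b hτWs G hMfg hMspan Nat.one_pos hle2
  have i1 := mul_height_le_of_latImg_le b hτWs hτUs G hdG hMfg hMspan hle1
  have i2 := le_mul_height_of_pPow_le b hτWs hτUs G hdG hMfg hMspan hle2
  have hdG0 : dG = 0 := by
    push_cast at i1 i2
    omega
  subst hdG0
  -- the determinant of `F^s`
  have hmat : iterMat b F s = LinearMap.toMatrix b b T * iterMat b G 1 := by
    ext i j
    simp only [iterMat, Matrix.of_apply, Matrix.mul_apply, Function.iterate_one]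
    rw [← hTG (b j)]
    have := congrFun (LinearMap.toMatrix_mulVec_repr b b T (G (b j))) i
    rw [← this]
    rfl
  have hdet : (iterMat b F s).det = LinearMap.det T * Isoc.detCoeff b G := by
    rw [hmat, Matrix.det_mul, LinearMap.det_toMatrix, detCoeff_eq]
  have hTord : Isoc.IsOrdP (LinearMap.det T)
      (∑ a : (Σ μ : ℚ, Fin (Module.finrank K(p, k) (Isoc.slopePart F μ))), t a.1) := by
    rw [det_diagEnd]
    exact isOrdP_prod _ _ _ fun a _ => isOrdP_zpow (t a.1)
  have hFord := isOrdP_det_iterMat b hτU F hd s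
  have hkey : (s : ℤ) * d = (∑ a : (Σ μ : ℚ, Fin (Module.finrank K(p, k) (Isoc.slopePart F μ))), t a.1) + 0 :=
    isOrdP_unique hFord (hdet ▸ isOrdP_mul hTord hdG)
  -- the sum over the basis
  have huniv : (Finset.univ :
      Finset (Σ μ : ℚ, Fin (Module.finrank K(p, k) (Isoc.slopePart F μ)))) =
      S.sigma (fun μ => Finset.univ) := by
    ext a
    simp only [Finset.mem_univ, Finset.mem_sigma, and_true, true_iff]
    rw [hS]
    intro hbot
    have h0 : Module.finrank K(p, k) (Isoc.slopePart F a.1) = 0 := by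
      rw [hbot]
      exact finrank_bot _ _
    have := a.2.pos
    omega
  have hsum : (∑ a : (Σ μ : ℚ, Fin (Module.finrank K(p, k) (Isoc.slopePart F μ))), t a.1) =
      ∑ μ ∈ S, (Isoc.newtonMult F μ : ℤ) * t μ := by
    rw [huniv, Finset.sum_sigma]
    refine Finset.sum_congr rfl fun μ _ => ?_
    dsimp only
    rw [Finset.sum_const, Finset.card_univ, Fintype.card_fin, nsmul_eq_mul]
    rfl
  -- conclusion
  have hsupp : (Function.support fun μ : ℚ => μ * (Isoc.newtonMult F μ : ℚ)) ⊆ ↑S := by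
    intro μ hμ
    rw [Finset.mem_coe, hS]
    intro hbot
    apply hμ
    have h0 : Isoc.newtonMult F μ = 0 := by
      unfold Isoc.newtonMult
      rw [hbot]
      exact finrank_bot _ _
    simp [h0]
  rw [finsum_eq_sum_of_support_subset _ hsupp]
  have hs0 : (s : ℚ) ≠ 0 := by exact_mod_cast hspos.ne'
  apply mul_left_cancel₀ hs0
  have h1 : ((s : ℤ) * d : ℚ) = ((∑ μ ∈ S, (Isoc.newtonMult F μ : ℤ) * t μ : ℤ) : ℚ) := by
    rw [← hsum]
    exact_mod_cast (by rw [hkey, add_zero] :
      (s : ℤ) * d = ∑ a : (Σ μ : ℚ, Fin (Module.finrank K(p, k) (Isoc.slopePart F μ))), t a.1)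
  push_cast at h1
  rw [Finset.mul_sum, h1]
  refine Finset.sum_congr rfl fun μ hμ => ?_
  rw [ht μ hμ]
  ring

end

end Groth.Agent.Lib.Helper22.IsocF
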