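import Mathlib
import Groth.Agent.Lib.Helper22.KAFinExt

/-!
# Primes over a height-one prime in a finite type algebraic extension of domains (Stacks 0AUK?)
-/

set_option autoImplicit false

namespace Groth.Agent.Lib.Helper22.KAHeightOne

open Groth.Agent.Lib.Helper22

universe u

variable (A B : Type u) [CommRing A] [IsDomain A] [IsNoetherianRing A] [CommRing B] [IsDomain B]
  [Algebra A B] [FaithfulSMul A B] [Algebra.FiniteType A B] [Algebra.IsAlgebraic A B]
  (p : Ideal A) [p.IsPrime]

local notation "Ap" => Localization.AtPrime p
local notation "Bp" => Localization (Algebra.algebraMapSubmonoid B p.primeCompl)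

theorem le_nonZeroDivisors :
    Algebra.algebraMapSubmonoid B p.primeCompl ≤ nonZeroDivisors B := by
  rintro _ ⟨t, ht, rfl⟩
  refine mem_nonZeroDivisors_of_ne_zero fun h0 => ht ?_
  rw [FaithfulSMul.algebraMap_injective A B (h0.trans (map_zero _).symm)]
  exact p.zero_mem

/-- the localized statement -/
theorem primesOver_loc (hp : p.height = 1) :
    (∀ n ∈ (IsLocalRing.maximalIdeal Ap).primesOver Bp, n.IsMaximal) ∧
      ((IsLocalRing.maximalIdeal Ap).primesOver Bp).Finite := by
  haveI : IsDomain Ap := IsLocalization.isDomain_localization p.primeCompl_le_nonZeroDivisors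
  haveI : IsDomain Bp := IsLocalization.isDomain_localization (le_nonZeroDivisors A B p)
  have hdim : ringKrullDim Ap = 1 := by
    rw [IsLocalization.AtPrime.ringKrullDim_eq_height p Ap, hp]
    rfl
  haveI : IsFractionRing Ap (FractionRing A) :=
    IsFractionRing.isFractionRing_of_isDomain_of_isLocalization p.primeCompl Ap (FractionRing A)
  letI algBpL : Algebra Bp (FractionRing B) :=
    IsLocalization.localizationAlgebraOfSubmonoidLe Bp (FractionRing B)
      (Algebra.algebraMapSubmonoid B p.primeCompl) (nonZeroDivisors B) (le_nonZeroDivisors A B p)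
  haveI : IsScalarTower B Bp (FractionRing B) :=
    IsLocalization.localization_isScalarTower_of_submonoid_le Bp (FractionRing B)
      (Algebra.algebraMapSubmonoid B p.primeCompl) (nonZeroDivisors B) (le_nonZeroDivisors A B p)
  haveI : IsFractionRing Bp (FractionRing B) :=
    IsFractionRing.isFractionRing_of_isDomain_of_isLocalization
      (Algebra.algebraMapSubmonoid B p.primeCompl) Bp (FractionRing B)
  haveI : FaithfulSMul A (FractionRing B) := by
    rw [faithfulSMul_iff_algebraMap_injective, IsScalarTower.algebraMap_eq A B (FractionRing B)]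
    exact (IsFractionRing.injective B (FractionRing B)).comp
      (FaithfulSMul.algebraMap_injective A B)
  letI algKL : Algebra (FractionRing A) (FractionRing B) :=
    FractionRing.liftAlgebra A (FractionRing B)
  haveI : IsScalarTower A (FractionRing A) (FractionRing B) :=
    FractionRing.isScalarTower_liftAlgebra A (FractionRing B)
  letI algApL : Algebra Ap (FractionRing B) :=
    ((algebraMap (FractionRing A) (FractionRing B)).comp (algebraMap Ap (FractionRing A))).toAlgebra
  haveI : IsScalarTower Ap (FractionRing A) (FractionRing B) :=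
    IsScalarTower.of_algebraMap_eq fun _ => rfl
  haveI : IsScalarTower Ap Bp (FractionRing B) := by
    refine IsScalarTower.of_algebraMap_eq' ?_
    apply IsLocalization.ringHom_ext p.primeCompl
    ext a
    simp only [RingHom.comp_apply]
    change algebraMap (FractionRing A) (FractionRing B) (algebraMap Ap (FractionRing A)
      (algebraMap A Ap a)) = algebraMap Bp (FractionRing B) (algebraMap Ap Bp (algebraMap A Ap a))
    rw [← IsScalarTower.algebraMap_apply A Ap (FractionRing A),
      ← IsScalarTower.algebraMap_apply A (FractionRing A) (FractionRing B),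
      ← IsScalarTower.algebraMap_apply A Ap Bp, IsScalarTower.algebraMap_apply A B Bp,
      ← IsScalarTower.algebraMap_apply B Bp (FractionRing B),
      ← IsScalarTower.algebraMap_apply A B (FractionRing B)]
  haveI : Algebra.IsAlgebraic A (FractionRing B) :=
    (IsFractionRing.isAlgebraic_iff' A B (FractionRing B)).mp inferInstance
  haveI : Algebra.IsAlgebraic (FractionRing A) (FractionRing B) :=
    IsFractionRing.comap_isAlgebraic_iff.mp (inferInstance : Algebra.IsAlgebraic A (FractionRing B))
  haveI : Algebra.EssFiniteType A (FractionRing B) :=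
    Algebra.EssFiniteType.comp A B (FractionRing B)
  haveI : Algebra.EssFiniteType (FractionRing A) (FractionRing B) :=
    Algebra.EssFiniteType.of_comp A (FractionRing A) (FractionRing B)
  haveI : FiniteDimensional (FractionRing A) (FractionRing B) :=
    Algebra.finite_of_essFiniteType_of_isAlgebraic
  obtain ⟨h1, h2, -⟩ := KAFinExt.primesOver_maximalIdeal Ap Bp (FractionRing A) (FractionRing B) hdim
  exact ⟨h1, h2⟩

omit [IsNoetherianRing A] [Algebra.FiniteType A B] [Algebra.IsAlgebraic A B] in
/-- a prime of `B` over `p` extends to a prime of `B_p` over the maximal ideal of `A_p` -/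
theorem map_mem_primesOver (q : Ideal B) (hq : q ∈ p.primesOver B) :
    q.map (algebraMap B Bp) ∈ (IsLocalRing.maximalIdeal Ap).primesOver Bp ∧
      (q.map (algebraMap B Bp)).comap (algebraMap B Bp) = q := by
  obtain ⟨hqp, hqo⟩ := hq
  have hqA : q.comap (algebraMap A B) = p := hqo.over.symm
  have hdisj : Disjoint (Algebra.algebraMapSubmonoid B p.primeCompl : Set B) q := by
    rw [Set.disjoint_left]
    rintro _ ⟨t, ht, rfl⟩ hmem
    apply ht
    rw [← hqA]
    exact hmem
  have hQ : (q.map (algebraMap B Bp)).IsPrime :=
    IsLocalization.isPrime_of_isPrime_disjoint _ Bp q hqp hdisj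
  have hcomap : (q.map (algebraMap B Bp)).comap (algebraMap B Bp) = q :=
    IsLocalization.under_map_of_isPrime_disjoint _ Bp hqp hdisj
  refine ⟨⟨hQ, ⟨?_⟩⟩, hcomap⟩
  symm
  rw [← Localization.AtPrime.eq_maximalIdeal_iff_under_eq]
  change ((q.map (algebraMap B Bp)).comap (algebraMap Ap Bp)).comap (algebraMap A Ap) = p
  rw [Ideal.comap_comap, ← IsScalarTower.algebraMap_eq,
    IsScalarTower.algebraMap_eq A B Bp, ← Ideal.comap_comap, hcomap, hqA]

/-- **main theorem** -/
theorem main (hp : p.height = 1) :
    (p.primesOver B).Finite ∧ ∀ q ∈ p.primesOver B, q.height = 1 := by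
  obtain ⟨hmax, hfin⟩ := primesOver_loc A B p hp
  haveI : IsNoetherianRing B := Algebra.FiniteType.isNoetherianRing A B
  refine ⟨?_, ?_⟩
  · refine (hfin.image (fun Q => Q.comap (algebraMap B Bp))).subset ?_
    intro q hq
    obtain ⟨h1, h2⟩ := map_mem_primesOver A B p q hq
    exact ⟨_, h1, h2⟩
  · intro q hq
    obtain ⟨hQ, hQc⟩ := map_mem_primesOver A B p q hq
    haveI := hq.1
    have hqA : q.comap (algebraMap A B) = p := hq.2.over.symm
    have hp0 : p ≠ ⊥ := by
      intro h0
      rw [h0, Ideal.height_bot] at hp
      exact zero_ne_one hp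
    have hq0 : q ≠ ⊥ := by
      intro h0
      apply hp0
      rw [← hqA, h0]
      exact Ideal.comap_bot_of_injective _ (FaithfulSMul.algebraMap_injective A B)
    apply le_antisymm
    · have : q.height ≤ ((1 : ℕ) : ℕ∞) := by
        rw [Ideal.height_le_iff]
        intro q' hq' hlt
        by_cases hq'0 : q' = ⊥
        · rw [hq'0, Ideal.height_bot]
          exact zero_lt_one
        · exfalso
          -- `q'` lies over `p`
          obtain ⟨x, hxq', hx0⟩ := Submodule.exists_mem_ne_zero_of_ne_bot hq'0
          have hc0 : q'.comap (algebraMap A B) ≠ ⊥ :=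
            Ideal.comap_ne_bot_of_algebraic_mem hx0 hxq' (Algebra.IsAlgebraic.isAlgebraic x)
          have hcle : q'.comap (algebraMap A B) ≤ p := by
            rw [← hqA]
            exact Ideal.comap_mono hlt.le
          haveI : (q'.comap (algebraMap A B)).IsPrime := Ideal.comap_isPrime _ _
          have hceq : q'.comap (algebraMap A B) = p := by
            by_contra hne
            have h1 : q'.comap (algebraMap A B) < p := lt_of_le_of_ne hcle hne
            have h2 : (⊥ : Ideal A) < q'.comap (algebraMap A B) := bot_lt_iff_ne_bot.mpr hc0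
            have h3 := Ideal.height_strict_mono_of_isPrime_of_isPrime h1
            have h4 := Ideal.height_strict_mono_of_isPrime_of_isPrime h2
            rw [hp] at h3
            rw [Ideal.height_bot] at h4
            have : (q'.comap (algebraMap A B)).height = 0 := by
              exact ENat.lt_one_iff_eq_zero.mp h3
            rw [this] at h4
            exact lt_irrefl _ h4
          have hq'mem : q' ∈ p.primesOver B := ⟨hq', ⟨hceq.symm⟩⟩
          obtain ⟨hQ', hQ'c⟩ := map_mem_primesOver A B p q' hq'mem
          haveI := hmax _ hQ'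
          haveI := hmax _ hQ
          have hle : q'.map (algebraMap B Bp) ≤ q.map (algebraMap B Bp) := Ideal.map_mono hlt.le
          have heq := Ideal.IsMaximal.eq_of_le (hmax _ hQ') (hmax _ hQ).ne_top hle
          have : q' = q := by rw [← hQ'c, ← hQc, heq]
          exact hlt.ne this
      simpa using this
    · have h2 : (⊥ : Ideal B) < q := bot_lt_iff_ne_bot.mpr hq0
      have h4 := Ideal.height_strict_mono_of_isPrime_of_isPrime h2
      rw [Ideal.height_bot] at h4
      exact Order.one_le_iff_pos.mpr h4

end Groth.Agent.Lib.Helper22.KAHeightOne
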