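import Mathlib
import Groth.Agent.Lib.Helper5.ComplIso

/-!
# An isomorphism of adic completions with its compatibility (helper22)

A copy of helper5's `ComplIso.complEquiv`, recording in addition that the isomorphism extends `φ`.
-/

set_option autoImplicit false
set_option linter.style.haveILetI false
set_option linter.unusedSectionVars false

namespace Groth.Agent.Lib.Helper22.KFree

open AdicCompletion Groth.Agent.Lib.Helper5.ComplIso

variable {R P S : Type*} [CommRing R] [CommRing P] [CommRing S] [Algebra R P] [Algebra R S]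

theorem complEquiv' (φ : P →ₐ[R] S) (J : Ideal P) (I : Ideal S)
    (hJI : ∀ n, J ^ n ≤ (I ^ n).comap φ)
    (hinj : ∀ n p, φ p ∈ I ^ n → p ∈ J ^ n)
    (hsurj : ∀ n s, ∃ p, s - φ p ∈ I ^ n) :
    ∃ e : AdicCompletion J P ≃ₐ[R] AdicCompletion I S,
      ∀ p : P, e (algebraMap P (AdicCompletion J P) p) =
        algebraMap S (AdicCompletion I S) (φ p) := by
  let φn : ∀ n, (P ⧸ J ^ n) →ₐ[R] (S ⧸ I ^ n) := fun n => Ideal.quotientMapₐ (I ^ n) φ (hJI n)
  have hφn_mk : ∀ n p, φn n (Ideal.Quotient.mk _ p) = Ideal.Quotient.mk _ (φ p) := fun n p => rfl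
  have hbij : ∀ n, Function.Bijective (φn n) := by
    intro n
    constructor
    · rw [injective_iff_map_eq_zero]
      intro x hx
      obtain ⟨p, rfl⟩ := Ideal.Quotient.mk_surjective x
      rw [hφn_mk, Ideal.Quotient.eq_zero_iff_mem] at hx
      exact Ideal.Quotient.eq_zero_iff_mem.2 (hinj n p hx)
    · intro y
      obtain ⟨s, rfl⟩ := Ideal.Quotient.mk_surjective y
      obtain ⟨p, hp⟩ := hsurj n s
      refine ⟨Ideal.Quotient.mk _ p, ?_⟩
      rw [hφn_mk]
      exact (Ideal.Quotient.eq.2 hp).symm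
  let en : ∀ n, (P ⧸ J ^ n) ≃ₐ[R] (S ⧸ I ^ n) := fun n => AlgEquiv.ofBijective (φn n) (hbij n)
  have hen : ∀ n x, en n x = φn n x := fun n x => rfl
  have hcompat : ∀ {m n : ℕ} (hle : m ≤ n) (x : P ⧸ J ^ n),
      Ideal.Quotient.factor (Ideal.pow_le_pow_right hle) (φn n x) =
        φn m (Ideal.Quotient.factor (Ideal.pow_le_pow_right hle) x) := by
    intro m n hle x
    obtain ⟨p, rfl⟩ := Ideal.Quotient.mk_surjective x
    rw [hφn_mk, Ideal.Quotient.factor_mk, Ideal.Quotient.factor_mk, hφn_mk]
  have hcompat' : ∀ {m n : ℕ} (hle : m ≤ n) (y : S ⧸ I ^ n),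
      Ideal.Quotient.factor (Ideal.pow_le_pow_right hle) ((en n).symm y) =
        (en m).symm (Ideal.Quotient.factor (Ideal.pow_le_pow_right hle) y) := by
    intro m n hle y
    apply (en m).injective
    rw [AlgEquiv.apply_symm_apply, hen, ← hcompat hle, ← hen, AlgEquiv.apply_symm_apply]
  let F : AdicCompletion J P →ₐ[R] AdicCompletion I S :=
    AdicCompletion.liftAlgHom I (fun n => (φn n).comp ((evalₐ J n).restrictScalars R)) (by
      intro m n hle
      ext x
      change Ideal.Quotient.factor (Ideal.pow_le_pow_right hle) (φn n (evalₐ J n x)) =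
        φn m (evalₐ J m x)
      rw [hcompat hle, factor_evalₐ J hle])
  let G : AdicCompletion I S →ₐ[R] AdicCompletion J P :=
    AdicCompletion.liftAlgHom J (fun n => ((en n).symm : _ →ₐ[R] _).comp
      ((evalₐ I n).restrictScalars R)) (by
      intro m n hle
      ext x
      change Ideal.Quotient.factor (Ideal.pow_le_pow_right hle) ((en n).symm (evalₐ I n x)) =
        (en m).symm (evalₐ I m x)
      rw [hcompat' hle, factor_evalₐ I hle])
  have hF : ∀ n x, evalₐ I n (F x) = φn n (evalₐ J n x) := fun n x => by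
    simp only [F, evalₐ_liftAlgHom]; rfl
  have hG : ∀ n y, evalₐ J n (G y) = (en n).symm (evalₐ I n y) := fun n y => by
    simp only [G, evalₐ_liftAlgHom]; rfl
  refine ⟨AlgEquiv.ofAlgHom F G ?_ ?_, ?_⟩
  · apply AlgHom.ext
    intro y
    apply ext_evalₐ
    intro n
    change evalₐ I n (F (G y)) = evalₐ I n y
    rw [hF, hG, ← hen, AlgEquiv.apply_symm_apply]
  · apply AlgHom.ext
    intro x
    apply ext_evalₐ
    intro n
    change evalₐ J n (G (F x)) = evalₐ J n x
    rw [hG, hF, ← hen, AlgEquiv.symm_apply_apply]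
  · intro p
    apply ext_evalₐ
    intro n
    change evalₐ I n (F (algebraMap P (AdicCompletion J P) p)) = _
    rw [hF]
    have h1 : evalₐ J n (algebraMap P (AdicCompletion J P) p) = Ideal.Quotient.mk _ p :=
      AdicCompletion.evalₐ_of _ _ p
    have h2 : evalₐ I n (algebraMap S (AdicCompletion I S) (φ p)) = Ideal.Quotient.mk _ (φ p) :=
      AdicCompletion.evalₐ_of _ _ (φ p)
    rw [h1, h2, hφn_mk]

end Groth.Agent.Lib.Helper22.KFree
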