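import Mathlib
import Groth.Agent.Lib.Helper12.CplFieldD
import Groth.Agent.Lib.Helper22.KFreeA

/-!
# The completed tensor product of a finite algebra (helper22)

For a finite local algebra `E` over a Noetherian local `k`-algebra `R`, the completed tensor product
`E ⊗̂_k K` is `(R ⊗̂_k K) ⊗_R E`.
-/

set_option autoImplicit false
set_option linter.style.haveILetI false
set_option linter.unusedSectionVars false
universe u

namespace Groth.Agent.Lib.Helper22.KFree

open TensorProduct IsLocalRing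
open Groth.Agent.Lib.Helper12 Groth.Agent.Lib.Helper12.CTens

variable (k R E K : Type u) [Field k] [CommRing R] [CommRing E] [Field K]
  [Algebra k R] [Algebra k E] [Algebra k K] [Algebra R E] [IsScalarTower k R E]
  [IsLocalRing R] [IsLocalRing E] [IsNoetherianRing R]

/-- `(R ⊗̂_k K) ⊗_R E` -/
abbrev SS : Type u := CC k R K ⊗[R] E

/-- `E → (R ⊗̂_k K) ⊗_R E` -/
noncomputable def inclE : E →ₐ[k] SS k R E K :=
  (Algebra.TensorProduct.includeRight : E →ₐ[R] SS k R E K).restrictScalars k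

theorem inclE_apply (e : E) : inclE k R E K e = (1 : CC k R K) ⊗ₜ[R] e := rfl

/-- the ideal of `(R ⊗̂_k K) ⊗_R E` generated by the maximal ideal of `E` -/
noncomputable abbrev IS : Ideal (SS k R E K) :=
  (maximalIdeal E).map (inclE k R E K).toRingHom

/-- `K → R ⊗̂_k K` as a `k`-algebra map -/
noncomputable def toCₐ : K →ₐ[k] CC k R K :=
  (IsScalarTower.toAlgHom k (R ⊗[k] K) (CC k R K)).comp
    (Algebra.TensorProduct.includeRight : K →ₐ[k] R ⊗[k] K)

theorem toCₐ_apply (c : K) :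
    toCₐ k R K c = algebraMap (R ⊗[k] K) (CC k R K) ((1 : R) ⊗ₜ[k] c) := rfl

/-- the comparison map `E ⊗_k K → (R ⊗̂_k K) ⊗_R E` -/
noncomputable def phiE : E ⊗[k] K →ₐ[k] SS k R E K :=
  Algebra.TensorProduct.lift (inclE k R E K)
    ((Algebra.TensorProduct.includeLeft : CC k R K →ₐ[k] SS k R E K).comp (toCₐ k R K))
    (fun _ _ => Commute.all _ _)

theorem phiE_tmul (e : E) (c : K) :
    phiE k R E K (e ⊗ₜ[k] c) = toCₐ k R K c ⊗ₜ[R] e := by
  unfold phiE
  rw [Algebra.TensorProduct.lift_tmul]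
  change ((1 : CC k R K) ⊗ₜ[R] e) * (toCₐ k R K c ⊗ₜ[R] (1 : E)) = _
  rw [Algebra.TensorProduct.tmul_mul_tmul, mul_one, one_mul]

theorem phiE_includeLeft (e : E) :
    phiE k R E K (e ⊗ₜ[k] (1 : K)) = inclE k R E K e := by
  rw [phiE_tmul, map_one, inclE_apply]

theorem map_phiE_II : (HTens.II k E K).map (phiE k R E K).toRingHom = IS k R E K := by
  unfold HTens.II IS
  rw [Ideal.map_map]
  congr 1
  ext e
  exact phiE_includeLeft k R E K e

theorem pow_le_comap (n : ℕ) :
    (HTens.II k E K) ^ n ≤ ((IS k R E K) ^ n).comap (phiE k R E K) := by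
  change _ ≤ ((IS k R E K) ^ n).comap (phiE k R E K).toRingHom
  rw [← Ideal.map_le_iff_le_comap, Ideal.map_pow, map_phiE_II]

/-- `R ⊗_k K → E ⊗_k K` -/
noncomputable def mapRE : R ⊗[k] K →ₐ[R] E ⊗[k] K :=
  Algebra.TensorProduct.map (Algebra.ofId R E) (AlgHom.id k K)

theorem mapRE_tmul (r : R) (c : K) : mapRE k R E K (r ⊗ₜ[k] c) = algebraMap R E r ⊗ₜ[k] c := rfl

theorem phiE_mapRE (t : R ⊗[k] K) :
    phiE k R E K (mapRE k R E K t) = algebraMap (R ⊗[k] K) (CC k R K) t ⊗ₜ[R] (1 : E) := by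
  haveI := isScalarTower_adicCompletion R (HTens.II k R K)
  induction t using TensorProduct.induction_on with
  | zero => rw [map_zero, map_zero, map_zero, TensorProduct.zero_tmul]
  | add x y hx hy => rw [map_add, map_add, hx, hy, map_add, TensorProduct.add_tmul]
  | tmul r c =>
    rw [mapRE_tmul, phiE_tmul, toCₐ_apply]
    have h1 : algebraMap R E r = r • (1 : E) := Algebra.algebraMap_eq_smul_one r
    have h2 : r • algebraMap (R ⊗[k] K) (CC k R K) ((1 : R) ⊗ₜ[k] c) =
        algebraMap (R ⊗[k] K) (CC k R K) (r ⊗ₜ[k] c) := by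
      rw [← algebraMap_smul (R ⊗[k] K) r, Algebra.smul_def, ← map_mul,
        Algebra.TensorProduct.algebraMap_apply, Algebra.TensorProduct.tmul_mul_tmul, one_mul]
      simp
    rw [h1, ← TensorProduct.smul_tmul, h2]

theorem inclE_algebraMap (r : R) :
    (inclE k R E K).toRingHom (algebraMap R E r) = algebraMap R (SS k R E K) r := by
  change (1 : CC k R K) ⊗ₜ[R] (algebraMap R E r) = _
  rw [Algebra.algebraMap_eq_smul_one, Algebra.algebraMap_eq_smul_one, ← TensorProduct.smul_tmul]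
  rfl

theorem map_JC_eq :
    (JC k R K).map (algebraMap (CC k R K) (SS k R E K)) =
      ((maximalIdeal R).map (algebraMap R E)).map (inclE k R E K).toRingHom := by
  rw [← map_maximalIdeal_CC, Ideal.map_map, Ideal.map_map]
  congr 1
  ext r
  rw [RingHom.comp_apply, RingHom.comp_apply, inclE_algebraMap]
  exact (IsScalarTower.algebraMap_apply R (CC k R K) (SS k R E K) r).symm

variable [IsLocalHom (algebraMap R E)]

theorem II_pow_le_comap (n : ℕ) :
    (HTens.II k R K) ^ n ≤ ((HTens.II k E K) ^ n).comap (mapRE k R E K) := by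
  change _ ≤ ((HTens.II k E K) ^ n).comap (mapRE k R E K).toRingHom
  rw [← Ideal.map_le_iff_le_comap, Ideal.map_pow]
  apply Ideal.pow_right_mono
  unfold HTens.II
  rw [Ideal.map_map, Ideal.map_le_iff_le_comap]
  intro r hr
  rw [Ideal.mem_comap]
  have h1 : ((mapRE k R E K).toRingHom.comp
      (Algebra.TensorProduct.includeLeftRingHom : R →+* R ⊗[k] K)) r =
      (Algebra.TensorProduct.includeLeftRingHom : E →+* E ⊗[k] K) (algebraMap R E r) := rfl
  rw [h1]
  apply Ideal.mem_map_of_mem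
  have h2 : (maximalIdeal R).map (algebraMap R E) ≤ maximalIdeal E :=
    ((IsLocalRing.local_hom_TFAE (algebraMap R E)).out 0 2).mp ‹_›
  exact h2 (Ideal.mem_map_of_mem _ hr)

/-- `R ⊗̂_k K → (E ⊗_k K)/𝔪_E^n` -/
noncomputable def fn (n : ℕ) : CC k R K →ₐ[R] (E ⊗[k] K) ⧸ (HTens.II k E K) ^ n :=
  haveI := isScalarTower_adicCompletion R (HTens.II k R K)
  (Ideal.quotientMapₐ ((HTens.II k E K) ^ n) (mapRE k R E K) (II_pow_le_comap k R E K n)).comp
    ((AdicCompletion.evalₐ (HTens.II k R K) n).restrictScalars R)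

theorem fn_algebraMap (n : ℕ) (t : R ⊗[k] K) :
    fn k R E K n (algebraMap (R ⊗[k] K) (CC k R K) t) =
      Ideal.Quotient.mk _ (mapRE k R E K t) := by
  unfold fn
  haveI := isScalarTower_adicCompletion R (HTens.II k R K)
  rw [AlgHom.comp_apply]
  have h1 : ((AdicCompletion.evalₐ (HTens.II k R K) n).restrictScalars R)
      (algebraMap (R ⊗[k] K) (CC k R K) t) = Ideal.Quotient.mk _ t :=
    AdicCompletion.evalₐ_of _ _ t
  rw [h1]
  rfl

/-- the retraction `(R ⊗̂_k K) ⊗_R E → (E ⊗_k K)/𝔪_E^n` -/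
noncomputable def psin (n : ℕ) : SS k R E K →ₐ[R] (E ⊗[k] K) ⧸ (HTens.II k E K) ^ n :=
  Algebra.TensorProduct.lift (fn k R E K n)
    ((Ideal.Quotient.mkₐ R ((HTens.II k E K) ^ n)).comp
      (Algebra.TensorProduct.includeLeft : E →ₐ[R] E ⊗[k] K))
    (fun _ _ => Commute.all _ _)

theorem psin_tmul (n : ℕ) (y : CC k R K) (e : E) :
    psin k R E K n (y ⊗ₜ[R] e) = fn k R E K n y * Ideal.Quotient.mk _ (e ⊗ₜ[k] (1 : K)) := by
  unfold psin
  rw [Algebra.TensorProduct.lift_tmul]
  rfl

theorem psin_phiE (n : ℕ) (p : E ⊗[k] K) :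
    psin k R E K n (phiE k R E K p) = Ideal.Quotient.mk _ p := by
  induction p using TensorProduct.induction_on with
  | zero => rw [map_zero, map_zero, map_zero]
  | add x y hx hy => rw [map_add, map_add, hx, hy, map_add]
  | tmul e c =>
    rw [phiE_tmul, psin_tmul, toCₐ_apply, fn_algebraMap, mapRE_tmul, map_one, ← map_mul,
      Algebra.TensorProduct.tmul_mul_tmul, one_mul, mul_one]

theorem psin_eq_zero (n : ℕ) (s : SS k R E K) (hs : s ∈ (IS k R E K) ^ n) :
    psin k R E K n s = 0 := by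
  have h1 : (IS k R E K) ^ n ≤ RingHom.ker (psin k R E K n).toRingHom := by
    unfold IS
    rw [← Ideal.map_pow, Ideal.map_le_iff_le_comap]
    intro e he
    rw [Ideal.mem_comap, RingHom.mem_ker]
    change psin k R E K n ((1 : CC k R K) ⊗ₜ[R] e) = 0
    rw [psin_tmul, map_one, one_mul, Ideal.Quotient.eq_zero_iff_mem]
    unfold HTens.II
    rw [← Ideal.map_pow]
    exact Ideal.mem_map_of_mem _ he
  exact h1 hs

theorem mem_of_phiE_mem (n : ℕ) (p : E ⊗[k] K) (hp : phiE k R E K p ∈ (IS k R E K) ^ n) :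
    p ∈ (HTens.II k E K) ^ n := by
  rw [← Ideal.Quotient.eq_zero_iff_mem, ← psin_phiE k R E K n p]
  exact psin_eq_zero k R E K n _ hp

theorem tmul_mem_of_mem_JC_pow (n : ℕ) (z : CC k R K) (hz : z ∈ (JC k R K) ^ n) (e : E) :
    z ⊗ₜ[R] e ∈ (IS k R E K) ^ n := by
  have h1 : (JC k R K) ^ n ≤ ((IS k R E K) ^ n).comap
      (Algebra.TensorProduct.includeLeftRingHom : CC k R K →+* SS k R E K) := by
    rw [← map_maximalIdeal_CC, ← Ideal.map_pow, Ideal.map_le_iff_le_comap]
    intro r hr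
    rw [Ideal.mem_comap, Ideal.mem_comap]
    change (algebraMap R (CC k R K) r) ⊗ₜ[R] (1 : E) ∈ _
    have h2 : (algebraMap R (CC k R K) r) ⊗ₜ[R] (1 : E) =
        (inclE k R E K).toRingHom (algebraMap R E r) := by
      change _ = (1 : CC k R K) ⊗ₜ[R] (algebraMap R E r)
      rw [Algebra.algebraMap_eq_smul_one, Algebra.algebraMap_eq_smul_one, TensorProduct.smul_tmul]
    rw [h2]
    unfold IS
    rw [← Ideal.map_pow]
    apply Ideal.mem_map_of_mem
    have h3 : (maximalIdeal R).map (algebraMap R E) ≤ maximalIdeal E :=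
      ((IsLocalRing.local_hom_TFAE (algebraMap R E)).out 0 2).mp ‹_›
    have h4 : (maximalIdeal R ^ n).map (algebraMap R E) ≤ maximalIdeal E ^ n := by
      rw [Ideal.map_pow]
      exact Ideal.pow_right_mono h3 n
    exact h4 (Ideal.mem_map_of_mem _ hr)
  have h5 : z ⊗ₜ[R] e = (z ⊗ₜ[R] (1 : E)) * ((1 : CC k R K) ⊗ₜ[R] e) := by
    rw [Algebra.TensorProduct.tmul_mul_tmul, mul_one, one_mul]
  rw [h5]
  exact Ideal.mul_mem_right _ _ (h1 hz)

theorem exists_sub_phiE_mem (n : ℕ) (s : SS k R E K) :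
    ∃ p : E ⊗[k] K, s - phiE k R E K p ∈ (IS k R E K) ^ n := by
  induction s using TensorProduct.induction_on with
  | zero => exact ⟨0, by rw [map_zero, sub_zero]; exact Ideal.zero_mem _⟩
  | add x y hx hy =>
    obtain ⟨p, hp⟩ := hx
    obtain ⟨q, hq⟩ := hy
    refine ⟨p + q, ?_⟩
    rw [map_add, add_sub_add_comm]
    exact Ideal.add_mem _ hp hq
  | tmul y e =>
    obtain ⟨t, ht⟩ := FComplA.exists_sub_algebraMap_mem (HTens.II k R K) fg_II n y
    refine ⟨mapRE k R E K t * (e ⊗ₜ[k] (1 : K)), ?_⟩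
    have h1 : phiE k R E K (mapRE k R E K t * (e ⊗ₜ[k] (1 : K))) =
        algebraMap (R ⊗[k] K) (CC k R K) t ⊗ₜ[R] e := by
      rw [map_mul, phiE_mapRE, phiE_tmul, map_one, Algebra.TensorProduct.tmul_mul_tmul, mul_one,
        one_mul]
    rw [h1, ← TensorProduct.sub_tmul]
    exact tmul_mem_of_mem_JC_pow k R E K n _ ht e

variable [Module.Finite R E] [Module.Finite k (ResidueField R)]

theorem isAdicComplete_IS : IsAdicComplete (IS k R E K) (SS k R E K) := by
  obtain ⟨hN, -, -, -⟩ := CplField.main (k := k) (R := R) (K := K)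
  haveI := hN
  haveI hJ : IsAdicComplete (JC k R K) (CC k R K) := isAdicComplete_JC
  haveI : Module.Finite (CC k R K) (SS k R E K) := Module.Finite.base_change R (CC k R K) E
  haveI h1 : IsAdicComplete (JC k R K) (SS k R E K) :=
    Groth.Agent.S9405.isAdicComplete_of_finite (JC k R K) (SS k R E K)
  haveI h2 : IsAdicComplete ((JC k R K).map (algebraMap (CC k R K) (SS k R E K))) (SS k R E K) :=
    (IsAdicComplete.map_algebraMap_iff (I := JC k R K) (S := SS k R E K) (M := SS k R E K)).mpr h1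
  haveI : IsNoetherianRing E := IsNoetherianRing.of_finite R E
  haveI : IsArtinianRing (E ⧸ (maximalIdeal R).map (algebraMap R E)) := by
    letI : Field (R ⧸ maximalIdeal R) := Ideal.Quotient.field _
    haveI : Module.Finite R (E ⧸ (maximalIdeal R).map (algebraMap R E)) := inferInstance
    haveI : Module.Finite (R ⧸ maximalIdeal R) (E ⧸ (maximalIdeal R).map (algebraMap R E)) :=
      Module.Finite.of_restrictScalars_finite R _ _
    exact IsArtinianRing.of_finite (R ⧸ maximalIdeal R) _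
  obtain ⟨c, hc⟩ := CplField.exists_pow_le_of_isArtinianRing_quotient
    ((maximalIdeal R).map (algebraMap R E))
  have h3 : (maximalIdeal R).map (algebraMap R E) ≤ maximalIdeal E :=
    ((IsLocalRing.local_hom_TFAE (algebraMap R E)).out 0 2).mp ‹_›
  refine isAdicComplete_of_pow_le ((JC k R K).map (algebraMap (CC k R K) (SS k R E K)))
    (IS k R E K) c ?_ ?_
  · rw [map_JC_eq]
    exact Ideal.map_mono h3
  · rw [map_JC_eq]
    unfold IS
    rw [← Ideal.map_pow]
    exact Ideal.map_mono hc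


/-- **The completed tensor product of a finite local algebra**: `E ⊗̂_k K ≃ (R ⊗̂_k K) ⊗_R E`,
compatibly with the maps from `E ⊗_k K`. -/
theorem exists_equiv :
    ∃ e : CC k E K ≃+* SS k R E K,
      ∀ p : E ⊗[k] K, e (algebraMap (E ⊗[k] K) (CC k E K) p) = phiE k R E K p := by
  haveI := isAdicComplete_IS k R E K
  obtain ⟨e, he⟩ := complEquiv' (phiE k R E K) (HTens.II k E K) (IS k R E K)
    (pow_le_comap k R E K) (mem_of_phiE_mem k R E K) (exists_sub_phiE_mem k R E K)
  refine ⟨e.toRingEquiv.trans (AdicCompletion.ofAlgEquiv (IS k R E K)).symm.toRingEquiv,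
    fun p => ?_⟩
  change (AdicCompletion.ofAlgEquiv (IS k R E K)).symm (e _) = _
  rw [he]
  exact AdicCompletion.ofAlgEquiv_symm_of (IS k R E K) _

end Groth.Agent.Lib.Helper22.KFree
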