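import Mathlib
import Groth.Agent.Lib.helper11.DimChain
import Groth.Agent.Lib.Helper5.SerreLoc

/-!
# Cutting out the components through a prime (helper22)

For a prime `p` of a Noetherian ring `A`, the quotient `A₁ = A / ker (A → A_p)` has the same
localization at `p`, and its minimal primes are the minimal primes of `A` contained in `p`.
-/

set_option autoImplicit false
set_option linter.style.haveILetI false
set_option linter.unusedSectionVars false
universe u

namespace Groth.Agent.Lib.Helper22.KFree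

open IsLocalRing

section LocQuot

variable {C D : Type u} [CommRing C] [CommRing D] [Algebra C D]
  (hg : Function.Surjective (algebraMap C D)) (P' : Ideal C) [P'.IsPrime]

include hg in
/-- the localization of a quotient at a prime along which the kernel dies -/
theorem exists_algEquiv_localization_of_surjective
    (hker : ∀ x ∈ RingHom.ker (algebraMap C D), ∃ s ∉ P', s * x = 0) :
    ∃ (P : Ideal D) (_ : P.IsPrime), P.comap (algebraMap C D) = P' ∧
      P = P'.map (algebraMap C D) ∧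
      Nonempty (Localization.AtPrime P' ≃ₐ[C] Localization.AtPrime P) := by
  set g := algebraMap C D with hgdef
  have hkerle : RingHom.ker g ≤ P' := by
    intro x hx
    obtain ⟨s, hs, hsx⟩ := hker x hx
    have : s * x ∈ P' := by rw [hsx]; exact Ideal.zero_mem _
    exact (Ideal.IsPrime.mem_or_mem inferInstance this).resolve_left hs
  haveI hP : (P'.map g).IsPrime := Ideal.map_isPrime_of_surjective hg hkerle
  have hcomap : (P'.map g).comap g = P' := by
    rw [Ideal.comap_map_of_surjective g hg, ← RingHom.ker_eq_comap_bot, sup_eq_left.mpr hkerle]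
  refine ⟨P'.map g, hP, hcomap, rfl, ?_⟩
  have halg : ∀ c : C, algebraMap C (Localization.AtPrime (P'.map g)) c =
      algebraMap D (Localization.AtPrime (P'.map g)) (g c) := fun c =>
    IsScalarTower.algebraMap_apply C D _ c
  have hnotmem : ∀ c : C, c ∉ P' → g c ∉ P'.map g := by
    intro c hc hgc
    apply hc
    rw [← hcomap]
    exact hgc
  haveI : IsLocalization.AtPrime (Localization.AtPrime (P'.map g)) P' := by
    refine ⟨?_, ?_, ?_⟩
    · rintro ⟨s, hs⟩
      rw [halg]
      exact IsLocalization.map_units (M := (P'.map g).primeCompl) _ ⟨g s, hnotmem s hs⟩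
    · intro z
      obtain ⟨⟨d, t⟩, hdt⟩ := IsLocalization.surj (P'.map g).primeCompl z
      obtain ⟨c, rfl⟩ := hg d
      obtain ⟨s, hs⟩ := hg (t : D)
      have hsP : s ∉ P' := by
        intro h
        apply t.2
        rw [← hs]
        exact Ideal.mem_map_of_mem g h
      refine ⟨⟨c, ⟨s, hsP⟩⟩, ?_⟩
      change z * algebraMap C _ s = algebraMap C _ c
      rw [halg, halg, hs]
      exact hdt
    · intro x y hxy
      rw [halg, halg] at hxy
      obtain ⟨t, ht⟩ := (IsLocalization.eq_iff_exists (P'.map g).primeCompl _).mp hxy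
      obtain ⟨s, hs⟩ := hg (t : D)
      have hsP : s ∉ P' := by
        intro h
        apply t.2
        rw [← hs]
        exact Ideal.mem_map_of_mem g h
      have h1 : s * (x - y) ∈ RingHom.ker g := by
        rw [RingHom.mem_ker, map_mul, map_sub, hs, mul_sub, ht, sub_self]
      obtain ⟨s', hs', hs'x⟩ := hker _ h1
      refine ⟨⟨s' * s, (P'.primeCompl).mul_mem hs' hsP⟩, ?_⟩
      change s' * s * x = s' * s * y
      rw [← sub_eq_zero, ← mul_sub, mul_assoc]
      exact hs'x
  exact ⟨IsLocalization.algEquiv P'.primeCompl _ _⟩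

end LocQuot

section StepR

variable {A : Type u} [CommRing A] (p : Ideal A) [p.IsPrime]

/-- the kernel of the localization map -/
noncomputable abbrev kerLoc : Ideal A := RingHom.ker (algebraMap A (Localization.AtPrime p))

theorem mem_kerLoc_iff (a : A) : a ∈ kerLoc p ↔ ∃ s ∉ p, s * a = 0 := by
  rw [RingHom.mem_ker, IsLocalization.map_eq_zero_iff p.primeCompl]
  constructor
  · rintro ⟨s, hs⟩
    exact ⟨s, s.2, hs⟩
  · rintro ⟨s, hs, h⟩
    exact ⟨⟨s, hs⟩, h⟩

theorem kerLoc_le_of_le (Q : Ideal A) [Q.IsPrime] (hQ : Q ≤ p) : kerLoc p ≤ Q := by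
  intro a ha
  obtain ⟨s, hs, hsa⟩ := (mem_kerLoc_iff p a).mp ha
  have : s * a ∈ Q := by rw [hsa]; exact Ideal.zero_mem _
  exact (Ideal.IsPrime.mem_or_mem inferInstance this).resolve_left (fun h => hs (hQ h))

theorem kerLoc_le : kerLoc p ≤ p := kerLoc_le_of_le p p le_rfl

theorem le_of_mem_minimalPrimes_kerLoc (Q : Ideal A) (hQ : Q ∈ (kerLoc p).minimalPrimes) :
    Q ≤ p := by
  -- `A / ker → A_p` is injective, so minimal primes are contracted
  have h1 : (kerLoc p).minimalPrimes =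
      Ideal.comap (Ideal.Quotient.mk (kerLoc p)) '' minimalPrimes (A ⧸ kerLoc p) := by
    have := Ideal.comap_minimalPrimes_eq_of_surjective
      (f := Ideal.Quotient.mk (kerLoc p)) Ideal.Quotient.mk_surjective ⊥
    rw [← RingHom.ker_eq_comap_bot, Ideal.mk_ker] at this
    exact this
  rw [h1] at hQ
  obtain ⟨q₁, hq₁, rfl⟩ := hQ
  obtain ⟨P', hP', hP'q⟩ := Ideal.exists_comap_eq_of_mem_minimalPrimes_of_injective
    (f := RingHom.kerLift (algebraMap A (Localization.AtPrime p)))
    (RingHom.kerLift_injective _) q₁ hq₁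
  rw [← hP'q, Ideal.comap_comap]
  have h2 : (RingHom.kerLift (algebraMap A (Localization.AtPrime p))).comp
      (Ideal.Quotient.mk (kerLoc p)) = algebraMap A (Localization.AtPrime p) := by
    ext a
    rfl
  rw [h2]
  intro a ha
  by_contra hap
  have hu : IsUnit (algebraMap A (Localization.AtPrime p) a) :=
    IsLocalization.map_units (M := p.primeCompl) _ ⟨a, hap⟩
  exact hP'.ne_top (Ideal.eq_top_of_isUnit_mem _ ha hu)

theorem mem_minimalPrimes_of_kerLoc (Q : Ideal A) (hQ : Q ∈ (kerLoc p).minimalPrimes) :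
    Q ∈ minimalPrimes A := by
  have hQp := le_of_mem_minimalPrimes_kerLoc p Q hQ
  refine ⟨⟨hQ.1.1, bot_le⟩, ?_⟩
  rintro Q' ⟨hQ'prime, -⟩ hle
  haveI := hQ'prime
  exact hQ.2 ⟨hQ'prime, kerLoc_le_of_le p Q' (hle.trans hQp)⟩ hle

theorem mem_minimalPrimes_kerLoc_of_le (q : Ideal A) (hq : q ∈ minimalPrimes A) (hqp : q ≤ p) :
    q ∈ (kerLoc p).minimalPrimes := by
  haveI := hq.1.1
  refine ⟨⟨hq.1.1, kerLoc_le_of_le p q hqp⟩, ?_⟩
  rintro Q' ⟨hQ'prime, -⟩ hle
  exact hq.2 ⟨hQ'prime, bot_le⟩ hle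

variable [IsNoetherianRing A] [IsLocalRing A]

theorem ringKrullDim_quotient_kerLoc (n : ℕ)
    (hn₁ : ∀ q ∈ minimalPrimes A, q ≤ p → ringKrullDim (A ⧸ q) ≤ n)
    (hn₂ : ∃ q ∈ minimalPrimes A, q ≤ p ∧ ringKrullDim (A ⧸ q) = n) :
    ringKrullDim (A ⧸ kerLoc p) = n := by
  haveI : Nontrivial (A ⧸ kerLoc p) :=
    Ideal.Quotient.nontrivial_iff.mpr (fun h => Ideal.IsPrime.ne_top inferInstance
      (top_le_iff.mp (h ▸ kerLoc_le p)))
  haveI : IsLocalRing (A ⧸ kerLoc p) :=
    IsLocalRing.of_surjective' (Ideal.Quotient.mk _) Ideal.Quotient.mk_surjective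
  obtain ⟨d, hd⟩ := Groth.Agent.Lib.Helper5.SerreLoc.exists_finite_ringKrullDim (A ⧸ kerLoc p)
  obtain ⟨Q, hQ, hQd⟩ := Groth.Agent.Lib.helper11.DimChain.exists_minimalPrimes_dim_eq
    (kerLoc p) d hd
  apply le_antisymm
  · rw [hd, ← hQd]
    exact hn₁ Q (mem_minimalPrimes_of_kerLoc p Q hQ) (le_of_mem_minimalPrimes_kerLoc p Q hQ)
  · obtain ⟨q, hq, hqp, hqn⟩ := hn₂
    haveI := hq.1.1
    rw [← hqn]
    exact Groth.Agent.Lib.helper11.DimChain.ringKrullDim_quotient_mono (kerLoc_le_of_le p q hqp)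

theorem exists_minimalPrimes_quotient_kerLoc (n : ℕ)
    (hn₂ : ∃ q ∈ minimalPrimes A, q ≤ p ∧ ringKrullDim (A ⧸ q) = n) :
    ∃ q₁ ∈ minimalPrimes (A ⧸ kerLoc p), q₁ ≤ p.map (Ideal.Quotient.mk (kerLoc p)) ∧
      ringKrullDim ((A ⧸ kerLoc p) ⧸ q₁) = n := by
  obtain ⟨q, hq, hqp, hqn⟩ := hn₂
  haveI := hq.1.1
  have hle := kerLoc_le_of_le p q hqp
  have h1 : (kerLoc p).minimalPrimes =
      Ideal.comap (Ideal.Quotient.mk (kerLoc p)) '' minimalPrimes (A ⧸ kerLoc p) := by
    have := Ideal.comap_minimalPrimes_eq_of_surjective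
      (f := Ideal.Quotient.mk (kerLoc p)) Ideal.Quotient.mk_surjective ⊥
    rw [← RingHom.ker_eq_comap_bot, Ideal.mk_ker] at this
    exact this
  have h2 := mem_minimalPrimes_kerLoc_of_le p q hq hqp
  rw [h1] at h2
  obtain ⟨q₁, hq₁, hq₁q⟩ := h2
  have h3 : q₁ = q.map (Ideal.Quotient.mk (kerLoc p)) := by
    rw [← hq₁q, Ideal.map_comap_of_surjective _ Ideal.Quotient.mk_surjective]
  refine ⟨q₁, hq₁, ?_, ?_⟩
  · rw [h3]
    exact Ideal.map_mono hqp
  · rw [h3, ← hqn]
    exact ringKrullDim_eq_of_ringEquiv (DoubleQuot.quotQuotEquivQuotOfLE hle)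

end StepR

end Groth.Agent.Lib.Helper22.KFree
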