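import Mathlib
import Groth.Agent.Lib.Helper22.UnramPSB
import Groth.Agent.Lib.Helper22.NagJacC
import Groth.Agent.S9405

/-!
# The completed differentials of a quotient (helper22)

The universal property of the completed module of differentials for derivations into finite
modules, the surjection `Ω̂_A → Ω̂_{A/𝔞}`, and the transfer of generators of the localizations.
-/

set_option autoImplicit false
set_option linter.style.haveILetI false
set_option linter.unusedSectionVars false
universe u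

namespace Groth.Agent.Lib.Helper22.KFree

open IsLocalRing TensorProduct KaehlerDifferential

section U1

variable (k A : Type u) [Field k] [CommRing A] [Algebra k A] [IsLocalRing A] [IsNoetherianRing A]
  [IsAdicComplete (maximalIdeal A) A]

/-- **Universal property** of the completed differentials for derivations into finite modules. -/
theorem exists_lift_completedKaehler (N : Type u) [AddCommGroup N] [Module A N]
    [Module.Finite A N] [Module k N] [IsScalarTower k A N] (Δ : Derivation k A N) :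
    ∃ F : AdicCompletion (maximalIdeal A) (Ω[A⁄k]) →ₗ[A] N,
      ∀ a, F (AdicCompletion.of (maximalIdeal A) (Ω[A⁄k]) (D k A a)) = Δ a := by
  let f : Ω[A⁄k] →ₗ[A] N := Δ.liftKaehlerDifferential
  let eN : N ≃ₗ[A] AdicCompletion (maximalIdeal A) N :=
    LinearEquiv.ofBijective (AdicCompletion.of (maximalIdeal A) N)
      (Groth.Agent.S9405.of_bijective_of_finite (maximalIdeal A) N)
  let F : AdicCompletion (maximalIdeal A) (Ω[A⁄k]) →ₗ[A] N :=
    eN.symm.toLinearMap ∘ₗ ((AdicCompletion.map (maximalIdeal A) f).restrictScalars A)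
  refine ⟨F, fun a => ?_⟩
  change eN.symm (AdicCompletion.map (maximalIdeal A) f (AdicCompletion.of _ _ (D k A a))) = Δ a
  rw [AdicCompletion.map_of, LinearEquiv.symm_apply_eq]
  change _ = AdicCompletion.of (maximalIdeal A) N (Δ a)
  rw [Derivation.liftKaehlerDifferential_comp_D]

end U1

section Quot

variable (k A : Type u) [Field k] [CommRing A] [Algebra k A] [IsLocalRing A] [IsNoetherianRing A]
  [IsAdicComplete (maximalIdeal A) A] (𝔞 : Ideal A) [IsLocalRing (A ⧸ 𝔞)]
  [Module.Finite (A ⧸ 𝔞) (AdicCompletion (maximalIdeal (A ⧸ 𝔞)) (Ω[(A ⧸ 𝔞)⁄k]))]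

local notation "Ŵ" => AdicCompletion (maximalIdeal A) (Ω[A⁄k])
local notation "Ŵ₁" => AdicCompletion (maximalIdeal (A ⧸ 𝔞)) (Ω[(A ⧸ 𝔞)⁄k])

/-- the surjection `Ω̂_A → Ω̂_{A/𝔞}` -/
theorem exists_surjective_completedKaehler_quotient :
    ∃ F : Ŵ →+ Ŵ₁, Function.Surjective F ∧
      ∀ (a : A) (w : Ŵ), F (a • w) = Ideal.Quotient.mk 𝔞 a • F w := by
  haveI : Module.Finite A Ŵ₁ := Module.Finite.trans (A ⧸ 𝔞) Ŵ₁
  let d₁ : Derivation k (A ⧸ 𝔞) Ŵ₁ :=
    (AdicCompletion.of (maximalIdeal (A ⧸ 𝔞)) (Ω[(A ⧸ 𝔞)⁄k])).compDer (D k (A ⧸ 𝔞))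
  let Δ : Derivation k A Ŵ₁ := d₁.compAlgebraMap A
  obtain ⟨F, hF⟩ := exists_lift_completedKaehler k A Ŵ₁ Δ
  have hsm : ∀ (a : A) (w : Ŵ), F (a • w) = Ideal.Quotient.mk 𝔞 a • F w := fun a w => by
    rw [map_smul]
    exact (algebraMap_smul (A ⧸ 𝔞) a (F w)).symm
  refine ⟨F.toAddMonoidHom, ?_, hsm⟩
  intro y
  have hy : y ∈ (⊤ : Submodule (A ⧸ 𝔞) Ŵ₁) := trivial
  rw [← Groth.Agent.Lib.Helper22.ComplKaehlerGen.span_of_D_eq_top (k := k) (A := A ⧸ 𝔞)] at hy
  induction hy using Submodule.span_induction with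
  | mem y hy =>
    obtain ⟨a₁, rfl⟩ := hy
    obtain ⟨a, rfl⟩ := Ideal.Quotient.mk_surjective a₁
    exact ⟨AdicCompletion.of (maximalIdeal A) (Ω[A⁄k]) (D k A a), hF a⟩
  | zero => exact ⟨0, map_zero _⟩
  | add x y _ _ hx hy =>
    obtain ⟨x', rfl⟩ := hx
    obtain ⟨y', rfl⟩ := hy
    exact ⟨x' + y', map_add _ _ _⟩
  | smul a₁ x _ hx =>
    obtain ⟨x', rfl⟩ := hx
    obtain ⟨a, rfl⟩ := Ideal.Quotient.mk_surjective a₁
    exact ⟨a • x', hsm a x'⟩

variable (p : Ideal A) [p.IsPrime] (h𝔞p : 𝔞 ≤ p) [(p.map (Ideal.Quotient.mk 𝔞)).IsPrime]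

include h𝔞p in
/-- generators of `(Ω̂_A)_p` give generators of `(Ω̂_{A/𝔞})_{p/𝔞}` -/
theorem exists_span_quotient (n : ℕ)
    (hgen : ∃ s : Fin n → LocalizedModule p.primeCompl Ŵ,
      Submodule.span (Localization.AtPrime p) (Set.range s) = ⊤) :
    ∃ t : Fin n → LocalizedModule (p.map (Ideal.Quotient.mk 𝔞)).primeCompl Ŵ₁,
      Submodule.span (Localization.AtPrime (p.map (Ideal.Quotient.mk 𝔞))) (Set.range t) = ⊤ := by
  classical
  obtain ⟨s, hs⟩ := hgen
  obtain ⟨F, hFsurj, hFsm⟩ := exists_surjective_completedKaehler_quotient k A 𝔞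
  have hrep : ∀ i, ∃ (w : Ŵ) (σ : p.primeCompl), s i = LocalizedModule.mk w σ := by
    intro i
    induction s i using LocalizedModule.induction_on with
    | h w σ => exact ⟨w, σ, rfl⟩
  choose w σ hwσ using hrep
  have hspan : Submodule.span (Localization p.primeCompl)
      (Set.range (fun i => LocalizedModule.mkLinearMap p.primeCompl Ŵ (w i))) = ⊤ := by
    rw [eq_top_iff, ← hs, Submodule.span_le]
    rintro _ ⟨i, rfl⟩
    have h1 : s i = Localization.mk (1 : A) (σ i) •
        LocalizedModule.mkLinearMap p.primeCompl Ŵ (w i) := by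
      rw [hwσ i, LocalizedModule.mkLinearMap_apply, LocalizedModule.mk_smul_mk, one_smul, mul_one]
    rw [h1]
    exact Submodule.smul_mem _ _ (Submodule.subset_span ⟨i, rfl⟩)
  have hcomap : (p.map (Ideal.Quotient.mk 𝔞)).comap (Ideal.Quotient.mk 𝔞) = p := by
    rw [Ideal.comap_map_of_surjective _ Ideal.Quotient.mk_surjective, ← RingHom.ker_eq_comap_bot,
      Ideal.mk_ker, sup_eq_left.mpr h𝔞p]
  refine ⟨fun i => LocalizedModule.mkLinearMap _ Ŵ₁ (F (w i)), ?_⟩
  apply Groth.Agent.Lib.Helper22.UnramPS.span_eq_top_of_forall_exists_smul_mem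
  intro x₁
  obtain ⟨x, rfl⟩ := hFsurj x₁
  obtain ⟨c, hc, hcx⟩ := Groth.Agent.Lib.Helper22.UnramPS.exists_smul_mem_span_of_mem_span
    p.primeCompl w x (by rw [hspan]; trivial)
  refine ⟨Ideal.Quotient.mk 𝔞 c, ?_, ?_⟩
  · intro h
    apply hc
    rw [← hcomap]
    exact h
  · rw [← hFsm]
    have key : ∀ z ∈ Submodule.span A (Set.range w),
        F z ∈ Submodule.span (A ⧸ 𝔞) (Set.range fun i => F (w i)) := by
      intro z hz
      induction hz using Submodule.span_induction with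
      | mem z hz =>
        obtain ⟨i, rfl⟩ := hz
        exact Submodule.subset_span ⟨i, rfl⟩
      | zero => rw [map_zero]; exact Submodule.zero_mem _
      | add x y _ _ hx hy => rw [map_add]; exact Submodule.add_mem _ hx hy
      | smul a x _ hx => rw [hFsm]; exact Submodule.smul_mem _ _ hx
    exact key _ hcx

end Quot

end Groth.Agent.Lib.Helper22.KFree
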