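import Mathlib
import Groth.Agent.Lib.Helper22.KFreeC
import Groth.Agent.Lib.Helper22.KFreeD
import Groth.Agent.Lib.Helper22.BoundedDerE
import Groth.Agent.Lib.Helper22.NagJacF
import Groth.Agent.Lib.Helper5.FlatCohenD
import Groth.Agent.Lib.Helper5.RegHomBC
import Groth.Agent.S5055
import Groth.Agent.S3850

/-!
# EGA 0_IV 22.7.2: reduction to the case `n = dim A`, and (b) ⇒ (d) (helper22)
-/

set_option autoImplicit false
set_option linter.style.haveILetI false
set_option linter.unusedSectionVars false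
universe u

namespace Groth.Agent.Lib.Helper22.KFree

open IsLocalRing TensorProduct KaehlerDifferential

variable (k A : Type u) [Field k] [CommRing A]
  [IsLocalRing A] [IsNoetherianRing A] [Algebra k A] [IsAdicComplete (maximalIdeal A) A]
  [Module.Finite k (ResidueField A)] (p : Ideal A) [p.IsPrime]

local notation "Ŵ" => AdicCompletion (maximalIdeal A) (Ω[A⁄k])

/-- the data of the reduction step -/
structure StepRData (n : ℕ) : Prop where
  nontrivial : Nontrivial (A ⧸ kerLoc p)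
  isLocalRing : IsLocalRing (A ⧸ kerLoc p)
  isPrime : (p.map (Ideal.Quotient.mk (kerLoc p))).IsPrime
  comap_eq : (p.map (Ideal.Quotient.mk (kerLoc p))).comap (Ideal.Quotient.mk (kerLoc p)) = p
  complete : IsAdicComplete (maximalIdeal (A ⧸ kerLoc p)) (A ⧸ kerLoc p)
  finite : Module.Finite k (ResidueField (A ⧸ kerLoc p))
  ne_max : p.map (Ideal.Quotient.mk (kerLoc p)) ≠ maximalIdeal (A ⧸ kerLoc p)
  dim_eq : ringKrullDim (A ⧸ kerLoc p) = n
  exists_min : ∃ q₁ ∈ minimalPrimes (A ⧸ kerLoc p),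
    q₁ ≤ p.map (Ideal.Quotient.mk (kerLoc p)) ∧ ringKrullDim ((A ⧸ kerLoc p) ⧸ q₁) = n
  hgen : ∃ t : Fin n → LocalizedModule (p.map (Ideal.Quotient.mk (kerLoc p))).primeCompl
      (AdicCompletion (maximalIdeal (A ⧸ kerLoc p)) (Ω[(A ⧸ kerLoc p)⁄k])),
    Submodule.span (Localization.AtPrime (p.map (Ideal.Quotient.mk (kerLoc p)))) (Set.range t) = ⊤

theorem stepR (hp : p ≠ maximalIdeal A) (n : ℕ)
    (hn₁ : ∀ q ∈ minimalPrimes A, q ≤ p → ringKrullDim (A ⧸ q) ≤ n)
    (hn₂ : ∃ q ∈ minimalPrimes A, q ≤ p ∧ ringKrullDim (A ⧸ q) = n)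
    (hb : Module.Free (Localization.AtPrime p) (LocalizedModule p.primeCompl Ŵ) ∧
      Module.finrank (Localization.AtPrime p) (LocalizedModule p.primeCompl Ŵ) = n) :
    StepRData k A p n := by
  have hle := kerLoc_le p
  haveI hnt : Nontrivial (A ⧸ kerLoc p) :=
    Ideal.Quotient.nontrivial_iff.mpr (fun h => Ideal.IsPrime.ne_top inferInstance
      (top_le_iff.mp (h ▸ hle)))
  haveI hloc : IsLocalRing (A ⧸ kerLoc p) :=
    IsLocalRing.of_surjective' (Ideal.Quotient.mk _) Ideal.Quotient.mk_surjective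
  have hkerle : RingHom.ker (Ideal.Quotient.mk (kerLoc p)) ≤ p := by rw [Ideal.mk_ker]; exact hle
  haveI hprime : (p.map (Ideal.Quotient.mk (kerLoc p))).IsPrime :=
    Ideal.map_isPrime_of_surjective Ideal.Quotient.mk_surjective hkerle
  have hcomap : (p.map (Ideal.Quotient.mk (kerLoc p))).comap (Ideal.Quotient.mk (kerLoc p)) = p := by
    rw [Ideal.comap_map_of_surjective _ Ideal.Quotient.mk_surjective, ← RingHom.ker_eq_comap_bot,
      sup_eq_left.mpr hkerle]
  haveI hcompl : IsAdicComplete (maximalIdeal (A ⧸ kerLoc p)) (A ⧸ kerLoc p) :=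
    Groth.Agent.Lib.Helper5.FlatCohen.isAdicComplete_quotient (kerLoc p)
  haveI hfin : Module.Finite k (ResidueField (A ⧸ kerLoc p)) :=
    Groth.Agent.Lib.Helper22.BoundedDer.finite_residueField_quotient k A (kerLoc p)
  haveI hW₁ : Module.Finite (A ⧸ kerLoc p)
      (AdicCompletion (maximalIdeal (A ⧸ kerLoc p)) (Ω[(A ⧸ kerLoc p)⁄k])) :=
    Groth.Agent.Lib.Helper22.NagJac.finite_completedKaehler_of_finite_residueField k (A ⧸ kerLoc p)
  refine ⟨hnt, hloc, hprime, hcomap, hcompl, hfin, ?_, ringKrullDim_quotient_kerLoc p n hn₁ hn₂,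
    exists_minimalPrimes_quotient_kerLoc p n hn₂, ?_⟩
  · intro h
    apply hp
    haveI : IsLocalHom (Ideal.Quotient.mk (kerLoc p)) :=
      IsLocalHom.of_surjective _ Ideal.Quotient.mk_surjective
    rw [← hcomap, h]
    exact ((IsLocalRing.local_hom_TFAE (Ideal.Quotient.mk (kerLoc p))).out 0 4).mp ‹_›
  · apply exists_span_quotient k A (kerLoc p) p hle n
    obtain ⟨hfree, hrank⟩ := hb
    haveI := hfree
    haveI : Module.Finite A Ŵ :=
      Groth.Agent.Lib.Helper22.NagJac.finite_completedKaehler_of_finite_residueField k A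
    haveI : Module.Finite (Localization.AtPrime p) (LocalizedModule p.primeCompl Ŵ) :=
      Module.Finite.of_isLocalizedModule p.primeCompl (LocalizedModule.mkLinearMap p.primeCompl Ŵ)
    let b := Module.finBasisOfFinrankEq (Localization.AtPrime p) (LocalizedModule p.primeCompl Ŵ) hrank
    exact ⟨b, b.span_eq⟩

/-- **EGA 0_IV 22.7.2, (b) ⇒ (d)** -/
theorem geomRegular_of_free (hp : p ≠ maximalIdeal A) (n : ℕ)
    (hn₁ : ∀ q ∈ minimalPrimes A, q ≤ p → ringKrullDim (A ⧸ q) ≤ n)
    (hn₂ : ∃ q ∈ minimalPrimes A, q ≤ p ∧ ringKrullDim (A ⧸ q) = n)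
    (hb : Module.Free (Localization.AtPrime p) (LocalizedModule p.primeCompl Ŵ) ∧
      Module.finrank (Localization.AtPrime p) (LocalizedModule p.primeCompl Ŵ) = n) :
    CAlg.IsGeometricallyRegular k (Localization.AtPrime p) := by
  obtain ⟨hnt, hloc, hprime, hcomap, hcompl, hfin, hne, hdim, hmin, hgen⟩ :=
    stepR k A p hp n hn₁ hn₂ hb
  haveI := hnt; haveI := hloc; haveI := hprime; haveI := hcompl; haveI := hfin
  have h5055 := (Groth.Agent.S5055.result k (A ⧸ kerLoc p) n hdim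
    (p.map (Ideal.Quotient.mk (kerLoc p))) hne hmin hgen).2
  obtain ⟨P, hP, hPcomap, hPeq, ⟨e⟩⟩ := exists_algEquiv_localization_of_surjective
    (C := A) (D := A ⧸ kerLoc p) Ideal.Quotient.mk_surjective p (fun x hx => by
      rw [Ideal.Quotient.algebraMap_eq, Ideal.mk_ker] at hx
      exact (mem_kerLoc_iff p x).mp hx)
  rw [Ideal.Quotient.algebraMap_eq] at hPeq
  subst hPeq
  exact Groth.Agent.Lib.Helper5.RegHom.geomRegular_of_algEquiv k _ _
    (e.restrictScalars k).symm h5055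

end Groth.Agent.Lib.Helper22.KFree
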