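import Mathlib
import Groth.Agent.Lib.Helper12.CplFieldD
import Groth.Agent.Lib.Helper1.RegPS
import Groth.Agent.Lib.Helper5.RegCompletion
import Groth.Agent.Lib.Helper5.RegSmooth

/-!
# Regularity of `k[[T]] ⊗̂_k K` and of base changes of algebras étale at a prime (helper22)
-/

set_option autoImplicit false
set_option linter.style.haveILetI false
set_option linter.unusedSectionVars false
universe u

namespace Groth.Agent.Lib.Helper22.KFree

open TensorProduct IsLocalRing
open Groth.Agent.Lib.Helper12 Groth.Agent.Lib.Helper12.CTens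

variable (k K : Type u) [Field k] [Field K] [Algebra k K] (n : ℕ)

local notation "P₀" => MvPowerSeries (Fin n) k

theorem bijective_algebraMap_residueField_ps :
    Function.Bijective (algebraMap k (ResidueField P₀)) := by
  refine ⟨(algebraMap k (ResidueField P₀)).injective, ?_⟩
  intro y
  obtain ⟨f, rfl⟩ := residue_surjective y
  refine ⟨MvPowerSeries.constantCoeff f, ?_⟩
  rw [IsScalarTower.algebraMap_apply k P₀ (ResidueField P₀),
    ResidueField.algebraMap_eq, ← sub_eq_zero, ← map_sub, residue_eq_zero_iff,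
    mem_maximalIdeal, mem_nonunits_iff, MvPowerSeries.isUnit_iff_constantCoeff, map_sub,
    MvPowerSeries.algebraMap_apply, MvPowerSeries.constantCoeff_C]
  simp

theorem isMaximal_JC_ps : (JC k P₀ K).IsMaximal := by
  have hres := bijective_algebraMap_residueField_ps k n
  -- `T / II ≃ K`
  have hII : (HTens.II k P₀ K).IsMaximal := by
    rw [← HTens.ker_proj k P₀ hres K]
    exact RingHom.ker_isMaximal_of_surjective _ (HTens.proj_surjective k P₀ hres K)
  let e := quotPowEquiv P₀ (HTens.II k P₀ K) fg_II 1
  have h1 : IsField ((P₀ ⊗[k] K) ⧸ (HTens.II k P₀ K) ^ 1) := by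
    rw [pow_one]
    exact (Ideal.Quotient.maximal_ideal_iff_isField_quotient _).mp hII
  have h2 : IsField (CC k P₀ K ⧸ (JC k P₀ K) ^ 1) := e.toMulEquiv.isField h1
  rw [pow_one] at h2
  exact (Ideal.Quotient.maximal_ideal_iff_isField_quotient _).mpr h2

end Groth.Agent.Lib.Helper22.KFree

namespace Groth.Agent.Lib.Helper22.KFree

open TensorProduct IsLocalRing
open Groth.Agent.Lib.Helper12 Groth.Agent.Lib.Helper12.CTens

variable (k K : Type u) [Field k] [Field K] [Algebra k K] (n : ℕ)

local notation "P₀" => MvPowerSeries (Fin n) k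

theorem isRegularRing_CC_ps : IsRegularRing (CC k P₀ K) := by
  haveI : Module.Finite k (ResidueField P₀) :=
    Module.Finite.of_surjective (Algebra.linearMap k (ResidueField P₀))
      (bijective_algebraMap_residueField_ps k n).2
  obtain ⟨hN, -, -, hM⟩ := CplField.main (k := k) (R := P₀) (K := K)
  haveI := hN
  apply Groth.Agent.Lib.Helper5.RegCompletion.isRegularRing_of_maximal
  intro M hMmax
  haveI := hMmax
  have hJM : JC k P₀ K = M :=
    (isMaximal_JC_ps k K n).eq_of_le hMmax.ne_top (CplField.JC_le_of_isMaximal M)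
  have hdim : ringKrullDim (Localization.AtPrime M) = n := by
    rw [(hM ⟨M, hMmax⟩).2.2.1]
    exact Groth.Agent.Lib.Helper1.RegPS.ringKrullDim_ps n
  haveI : IsNoetherianRing (Localization.AtPrime M) :=
    IsLocalization.isNoetherianRing M.primeCompl _ inferInstance
  apply IsRegularLocalRing.of_spanFinrank_maximalIdeal_le
  rw [hdim]
  have h1 : maximalIdeal (Localization.AtPrime M) =
      Ideal.span (Set.range fun i : Fin n => algebraMap (CC k P₀ K) (Localization.AtPrime M)
        (algebraMap P₀ (CC k P₀ K) (MvPowerSeries.X i))) := by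
    have h0 : M = Ideal.span (Set.range fun i : Fin n =>
        algebraMap P₀ (CC k P₀ K) (MvPowerSeries.X i)) := by
      rw [← hJM, ← map_maximalIdeal_CC, Groth.Agent.Lib.Helper1.RegPS.maximalIdeal_ps_eq,
        Ideal.map_span, ← Set.range_comp]
      rfl
    rw [← Localization.AtPrime.map_eq_maximalIdeal]
    rw [congrArg (Ideal.map (algebraMap (CC k P₀ K) (Localization.AtPrime M))) h0,
      Ideal.map_span, ← Set.range_comp]
    rfl
  rw [h1]
  have h2 := Submodule.spanFinrank_span_le_ncard_of_finite (R := Localization.AtPrime M)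
    (Set.finite_range fun i : Fin n => algebraMap (CC k P₀ K) (Localization.AtPrime M)
        (algebraMap P₀ (CC k P₀ K) (MvPowerSeries.X i)))
  have h3 : (Set.range fun i : Fin n => algebraMap (CC k P₀ K) (Localization.AtPrime M)
        (algebraMap P₀ (CC k P₀ K) (MvPowerSeries.X i))).ncard ≤ n := by
    have := Set.ncard_image_le (f := fun i : Fin n => algebraMap (CC k P₀ K)
      (Localization.AtPrime M) (algebraMap P₀ (CC k P₀ K) (MvPowerSeries.X i)))
      (Set.finite_univ)
    rw [Set.image_univ, Set.ncard_univ, Nat.card_eq_fintype_card, Fintype.card_fin] at this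
    exact this
  exact_mod_cast h2.trans h3

end Groth.Agent.Lib.Helper22.KFree

namespace Groth.Agent.Lib.Helper22.KFree

open TensorProduct IsLocalRing

/-- regularity of a base change of an algebra étale at a prime, over a regular base -/
theorem isRegularLocalRing_tensor_of_isEtaleAt (P₀ P' A₁ : Type u) [CommRing P₀] [CommRing P']
    [CommRing A₁] [Algebra P₀ P'] [Algebra P₀ A₁] [IsRegularRing P']
    [Algebra.FinitePresentation P₀ A₁]
    (Q : Ideal (P' ⊗[P₀] A₁)) [Q.IsPrime] (q : Ideal A₁) [q.IsPrime]
    (hq : Q.comap (Algebra.TensorProduct.includeRight : A₁ →ₐ[P₀] P' ⊗[P₀] A₁).toRingHom = q)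
    (hét : Algebra.IsEtaleAt P₀ q) :
    IsRegularLocalRing (Localization.AtPrime Q) := by
  haveI := hét
  obtain ⟨f, hf, hétf⟩ := Algebra.exists_etale_of_isEtaleAt (R := P₀) q
  haveI : Algebra.Etale P' (P' ⊗[P₀] Localization.Away f) := inferInstance
  haveI hreg : IsRegularRing (P' ⊗[P₀] Localization.Away f) :=
    Groth.Agent.Lib.Helper5.RegSmooth.isRegularRing_of_etale P' _
  let φ : P' ⊗[P₀] A₁ →ₐ[P'] P' ⊗[P₀] Localization.Away f :=
    Algebra.TensorProduct.map (AlgHom.id P' P') (IsScalarTower.toAlgHom P₀ A₁ (Localization.Away f))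
  letI : Algebra (P' ⊗[P₀] A₁) (P' ⊗[P₀] Localization.Away f) := φ.toRingHom.toAlgebra
  haveI : IsScalarTower P' (P' ⊗[P₀] A₁) (P' ⊗[P₀] Localization.Away f) :=
    IsScalarTower.of_algebraMap_eq (fun x => (φ.commutes x).symm)
  haveI hloc : IsLocalization ((Submonoid.powers f).map
      (Algebra.TensorProduct.includeRight (R := P₀) (A := P') (B := A₁)))
      (P' ⊗[P₀] Localization.Away f) := by
    refine IsLocalization.tensorProduct_tensorProduct_right P₀ P' (Submonoid.powers f)
      (Localization.Away f) ?_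
    ext x
    simp [RingHom.algebraMap_toAlgebra, φ]
  set M' := (Submonoid.powers f).map
      (Algebra.TensorProduct.includeRight (R := P₀) (A := P') (B := A₁)) with hM'
  have hdisj : Disjoint (M' : Set (P' ⊗[P₀] A₁)) (Q : Set (P' ⊗[P₀] A₁)) := by
    rw [Set.disjoint_left]
    rintro _ ⟨_, ⟨j, rfl⟩, rfl⟩ hQ
    have h1 : f ^ j ∈ q := by
      rw [← hq]
      exact hQ
    exact hf (Ideal.IsPrime.mem_of_pow_mem inferInstance j h1)
  set Q' : Ideal (P' ⊗[P₀] Localization.Away f) :=
    Q.map (algebraMap (P' ⊗[P₀] A₁) (P' ⊗[P₀] Localization.Away f)) with hQ'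
  haveI hQ'prime : Q'.IsPrime :=
    IsLocalization.isPrime_of_isPrime_disjoint M' _ Q inferInstance hdisj
  have hcomap : Q'.comap (algebraMap (P' ⊗[P₀] A₁) (P' ⊗[P₀] Localization.Away f)) = Q :=
    IsLocalization.under_map_of_isPrime_disjoint M' _ inferInstance hdisj
  haveI hlocQ : IsLocalization.AtPrime (Localization.AtPrime Q') Q := by
    have := IsLocalization.isLocalization_isLocalization_atPrime_isLocalization
      M' (Localization.AtPrime Q') Q'
    have heq : (Q'.comap (algebraMap (P' ⊗[P₀] A₁) (P' ⊗[P₀] Localization.Away f))).primeCompl =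
        Q.primeCompl := by
      ext x
      simp only [Ideal.mem_primeCompl_iff]
      rw [hcomap]
    change IsLocalization Q.primeCompl _
    rw [← heq]
    exact this
  let e : Localization.AtPrime Q' ≃ₐ[P' ⊗[P₀] A₁] Localization.AtPrime Q :=
    IsLocalization.algEquiv Q.primeCompl _ _
  haveI hregQ' : IsRegularLocalRing (Localization.AtPrime Q') := inferInstance
  exact IsRegularLocalRing.of_ringEquiv (R := Localization.AtPrime Q') e.toRingEquiv

end Groth.Agent.Lib.Helper22.KFree
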