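import Mathlib
import Groth.Agent.Lib.Helper22.KFreeB
import Groth.Agent.Lib.Helper22.KFreeE
import Groth.Agent.Lib.Helper22.KFreeF

/-!
# EGA 0_IV 22.7.2, (b) ⇒ (a) (helper22)
-/

set_option autoImplicit false
set_option linter.style.haveILetI false
set_option linter.unusedSectionVars false
universe u

namespace Groth.Agent.Lib.Helper22.KFree

open IsLocalRing TensorProduct KaehlerDifferential
open Groth.Agent.Lib.Helper12 Groth.Agent.Lib.Helper12.CTens

variable (k A : Type u) [Field k] [CommRing A]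
  [IsLocalRing A] [IsNoetherianRing A] [Algebra k A] [IsAdicComplete (maximalIdeal A) A]
  [Module.Finite k (ResidueField A)] (p : Ideal A) [p.IsPrime]

local notation "Ŵ" => AdicCompletion (maximalIdeal A) (Ω[A⁄k])

/-- **EGA 0_IV 22.7.2, (b) ⇒ (a)** -/
theorem regular_of_free (hp : p ≠ maximalIdeal A) (n : ℕ)
    (hn₁ : ∀ q ∈ minimalPrimes A, q ≤ p → ringKrullDim (A ⧸ q) ≤ n)
    (hn₂ : ∃ q ∈ minimalPrimes A, q ≤ p ∧ ringKrullDim (A ⧸ q) = n)
    (hb : Module.Free (Localization.AtPrime p) (LocalizedModule p.primeCompl Ŵ) ∧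
      Module.finrank (Localization.AtPrime p) (LocalizedModule p.primeCompl Ŵ) = n)
    (K : Type u) [Field K] [Algebra k K] (p' : Ideal (CC k A K)) [p'.IsPrime]
    (hp' : p'.comap (algebraMap A (CC k A K)) = p) :
    IsRegularLocalRing (Localization.AtPrime p') := by
  obtain ⟨hnt, hloc, hprime, hcomap, hcompl, hfin, hne, hdim, hmin, hgen⟩ :=
    stepR k A p hp n hn₁ hn₂ hb
  haveI := hnt; haveI := hloc; haveI := hprime; haveI := hcompl; haveI := hfin
  set 𝔞 := kerLoc p with h𝔞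
  set p₁ := p.map (Ideal.Quotient.mk 𝔞) with hp₁
  have h5055 := (Groth.Agent.S5055.result k (A ⧸ 𝔞) n hdim p₁ hne hmin hgen).1
  obtain ⟨alg, tower, hlocal, hfinite, hét⟩ :=
    (Groth.Agent.S3850.result k (A ⧸ 𝔞) n hdim p₁ hne hmin).mp h5055
  letI := alg
  haveI := tower; haveI := hlocal; haveI := hfinite
  haveI : IsLocalHom (algebraMap A (A ⧸ 𝔞)) :=
    IsLocalHom.of_surjective _ Ideal.Quotient.mk_surjective
  haveI : Module.Finite k (ResidueField (MvPowerSeries (Fin n) k)) :=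
    Module.Finite.of_surjective (Algebra.linearMap k (ResidueField (MvPowerSeries (Fin n) k)))
      (bijective_algebraMap_residueField_ps k n).2
  obtain ⟨e₁, he₁⟩ := exists_equiv k A (A ⧸ 𝔞) K
  obtain ⟨e₂, he₂⟩ := exists_equiv k (MvPowerSeries (Fin n) k) (A ⧸ 𝔞) K
  -- the surjection `A ⊗̂ K → (k[[T]] ⊗̂ K) ⊗ A₁`
  let ι : CC k A K →+* CC k A K ⊗[A] (A ⧸ 𝔞) := Algebra.TensorProduct.includeLeftRingHom
  let g : CC k A K →+* CC k (MvPowerSeries (Fin n) k) K ⊗[MvPowerSeries (Fin n) k] (A ⧸ 𝔞) :=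
    (e₂.toRingHom.comp e₁.symm.toRingHom).comp ι
  have hι : ∀ x, ι x = (Algebra.TensorProduct.quotIdealMapEquivTensorQuot (CC k A K) 𝔞)
      (Ideal.Quotient.mk _ x) := fun x => rfl
  have hιsurj : Function.Surjective ι := by
    intro y
    obtain ⟨z, rfl⟩ := (Algebra.TensorProduct.quotIdealMapEquivTensorQuot (CC k A K) 𝔞).surjective y
    obtain ⟨x, rfl⟩ := Ideal.Quotient.mk_surjective z
    exact ⟨x, hι x⟩
  have hgsurj : Function.Surjective g :=
    (e₂.surjective.comp e₁.symm.surjective).comp hιsurj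
  have hkerg : ∀ x, g x = 0 → x ∈ 𝔞.map (algebraMap A (CC k A K)) := by
    intro x hx
    have h1 : ι x = 0 := by
      have h2 : e₂ (e₁.symm (ι x)) = 0 := hx
      rw [map_eq_zero_iff _ e₂.injective, map_eq_zero_iff _ e₁.symm.injective] at h2
      exact h2
    rw [hι, map_eq_zero_iff _ (AlgEquiv.injective _)] at h1
    exact Ideal.Quotient.eq_zero_iff_mem.mp h1
  have hgalg : ∀ a : A, g (algebraMap A (CC k A K) a) =
      (1 : CC k (MvPowerSeries (Fin n) k) K) ⊗ₜ[MvPowerSeries (Fin n) k] (Ideal.Quotient.mk 𝔞 a) := by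
    intro a
    change e₂ (e₁.symm ((algebraMap A (CC k A K) a) ⊗ₜ[A] (1 : A ⧸ 𝔞))) = _
    have h1 : (algebraMap A (CC k A K) a) ⊗ₜ[A] (1 : A ⧸ 𝔞) =
        e₁ (algebraMap ((A ⧸ 𝔞) ⊗[k] K) (CC k (A ⧸ 𝔞) K) (Ideal.Quotient.mk 𝔞 a ⊗ₜ[k] (1 : K))) := by
      rw [he₁, phiE_tmul, map_one, Algebra.algebraMap_eq_smul_one, TensorProduct.smul_tmul]
      congr 1
      rw [Algebra.smul_def, mul_one]
      rfl
    rw [h1, RingEquiv.symm_apply_apply, he₂, phiE_tmul, map_one]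
  letI algg : Algebra (CC k A K)
      (CC k (MvPowerSeries (Fin n) k) K ⊗[MvPowerSeries (Fin n) k] (A ⧸ 𝔞)) :=
    @RingHom.toAlgebra (CC k A K)
      (CC k (MvPowerSeries (Fin n) k) K ⊗[MvPowerSeries (Fin n) k] (A ⧸ 𝔞))
      inferInstance inferInstance g
  have hp's : ∀ s : A, s ∉ p → algebraMap A (CC k A K) s ∉ p' := by
    intro s hs h
    apply hs
    rw [← hp']
    exact h
  obtain ⟨P₂, hP₂, hP₂comap, hP₂eq, ⟨e⟩⟩ := exists_algEquiv_localization_of_surjective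
    (C := CC k A K)
    (D := CC k (MvPowerSeries (Fin n) k) K ⊗[MvPowerSeries (Fin n) k] (A ⧸ 𝔞)) hgsurj p' (by
      intro x hx
      have h1 : 𝔞.map (algebraMap A (CC k A K)) ≤ kerLoc p' := by
        rw [Ideal.map_le_iff_le_comap]
        intro a ha
        obtain ⟨s, hs, hsa⟩ := (mem_kerLoc_iff p a).mp ha
        rw [Ideal.mem_comap, mem_kerLoc_iff]
        exact ⟨algebraMap A (CC k A K) s, hp's s hs, by rw [← map_mul, hsa, map_zero]⟩
      exact (mem_kerLoc_iff p' x).mp (h1 (hkerg x hx)))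
  haveI := hP₂
  haveI : IsNoetherianRing (MvPowerSeries (Fin n) k) := inferInstance
  haveI : Algebra.FinitePresentation (MvPowerSeries (Fin n) k) (A ⧸ 𝔞) :=
    Algebra.FinitePresentation.of_finiteType.mp inferInstance
  haveI : IsRegularRing (CC k (MvPowerSeries (Fin n) k) K) := isRegularRing_CC_ps k K n
  have hcomapP₂ : P₂.comap (Algebra.TensorProduct.includeRight :
      (A ⧸ 𝔞) →ₐ[MvPowerSeries (Fin n) k]
        CC k (MvPowerSeries (Fin n) k) K ⊗[MvPowerSeries (Fin n) k] (A ⧸ 𝔞)).toRingHom = p₁ := by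
    ext a₁
    obtain ⟨a, rfl⟩ := Ideal.Quotient.mk_surjective a₁
    rw [Ideal.mem_comap]
    change (1 : CC k (MvPowerSeries (Fin n) k) K) ⊗ₜ[MvPowerSeries (Fin n) k]
      (Ideal.Quotient.mk 𝔞 a) ∈ P₂ ↔ _
    rw [← hgalg a]
    have h1 : g (algebraMap A (CC k A K) a) ∈ P₂ ↔ algebraMap A (CC k A K) a ∈ p' := by
      rw [← hP₂comap]
      rfl
    rw [h1]
    have h2 : algebraMap A (CC k A K) a ∈ p' ↔ a ∈ p := by
      rw [← hp']
      rfl
    rw [h2]
    have h3 : Ideal.Quotient.mk 𝔞 a ∈ p₁ ↔ a ∈ p := by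
      conv_rhs => rw [← hcomap]
      rfl
    rw [h3]
  have hreg : IsRegularLocalRing (Localization.AtPrime P₂) :=
    isRegularLocalRing_tensor_of_isEtaleAt (MvPowerSeries (Fin n) k)
      (CC k (MvPowerSeries (Fin n) k) K) (A ⧸ 𝔞) P₂ p₁ hcomapP₂ hét
  exact IsRegularLocalRing.of_ringEquiv (R := Localization.AtPrime P₂) e.symm.toRingEquiv

/-- `regular_of_free` with an explicit primality hypothesis -/
theorem regular_of_free' (hp : p ≠ maximalIdeal A) (n : ℕ)
    (hn₁ : ∀ q ∈ minimalPrimes A, q ≤ p → ringKrullDim (A ⧸ q) ≤ n)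
    (hn₂ : ∃ q ∈ minimalPrimes A, q ≤ p ∧ ringKrullDim (A ⧸ q) = n)
    (hb : Module.Free (Localization.AtPrime p) (LocalizedModule p.primeCompl Ŵ) ∧
      Module.finrank (Localization.AtPrime p) (LocalizedModule p.primeCompl Ŵ) = n)
    (K : Type u) [Field K] [Algebra k K] (p' : Ideal (CC k A K)) (hp'prime : p'.IsPrime)
    (hp' : p'.comap (algebraMap A (CC k A K)) = p) :
    IsRegularLocalRing (Localization.AtPrime p') :=
  regular_of_free k A p hp n hn₁ hn₂ hb K p' hp'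

end Groth.Agent.Lib.Helper22.KFree
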