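import Mathlib
import Groth.Agent.Lib.Helper12.CplFieldD

/-!
# `A ⊗_k K → (A ⊗̂_k K)_M` is adically formally étale (helper22)
-/

set_option autoImplicit false
set_option linter.style.haveILetI false
set_option linter.unusedSectionVars false
universe u

namespace Groth.Agent.Lib.Helper22.KFree

open IsLocalRing TensorProduct
open Groth.Agent.Lib.Helper12 Groth.Agent.Lib.Helper12.CTens

variable (k A K : Type u) [Field k] [CommRing A] [IsLocalRing A] [IsNoetherianRing A]
  [Algebra k A] [Field K] [Algebra k K]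

/-- the localization of the completed tensor product at a maximal ideal is adically formally
smooth over the tensor product -/
theorem adicFormallySmooth_localization (M : Ideal (CC k A K)) [hM : M.IsMaximal] :
    CAlgX.IsAdicFormallySmooth (A ⊗[k] K) (Localization.AtPrime M)
      (maximalIdeal (Localization.AtPrime M)) := by
  intro E _ _ J hJ ψ hψ
  obtain ⟨j, hj⟩ := hψ
  set I := HTens.II k A K with hI
  set B := Localization.AtPrime M with hB
  have hJCM : JC k A K ≤ M := CplField.JC_le_of_isMaximal M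
  -- powers of `JC` die under `ψ`
  have hψC : ∀ c ∈ (JC k A K) ^ j, ψ (algebraMap (CC k A K) B c) = 0 := by
    intro c hc
    apply hj
    have h1 : ((JC k A K) ^ j).map (algebraMap (CC k A K) B) ≤ maximalIdeal B ^ j := by
      rw [Ideal.map_pow]
      apply Ideal.pow_right_mono
      rw [← Localization.AtPrime.map_eq_maximalIdeal]
      exact Ideal.map_mono hJCM
    exact h1 (Ideal.mem_map_of_mem _ hc)
  have hIJ : ∀ t ∈ I ^ j, algebraMap (A ⊗[k] K) E t ∈ J := by
    intro t ht
    have h1 : algebraMap (A ⊗[k] K) (CC k A K) t ∈ (JC k A K) ^ j := by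
      rw [← Ideal.map_pow]
      exact Ideal.mem_map_of_mem _ ht
    have h2 := hψC _ h1
    rw [← IsScalarTower.algebraMap_apply (A ⊗[k] K) (CC k A K) B, ψ.commutes] at h2
    exact Ideal.Quotient.eq_zero_iff_mem.mp h2
  have hI2 : ∀ t ∈ I ^ (j + j), algebraMap (A ⊗[k] K) E t = 0 := by
    intro t ht
    have h1 : (I ^ (j + j)).map (algebraMap (A ⊗[k] K) E) ≤ J ^ 2 := by
      rw [pow_add, Ideal.map_mul, pow_two]
      exact Ideal.mul_mono (Ideal.map_le_iff_le_comap.mpr hIJ) (Ideal.map_le_iff_le_comap.mpr hIJ)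
    have h2 := h1 (Ideal.mem_map_of_mem _ ht)
    rw [hJ] at h2
    exact h2
  let φ₀ : (A ⊗[k] K) ⧸ I ^ (j + j) →+* E :=
    Ideal.Quotient.lift (I ^ (j + j)) (algebraMap (A ⊗[k] K) E) hI2
  let φ : CC k A K →+* E := φ₀.comp (AdicCompletion.evalₐ I (j + j)).toRingHom
  have hφalg : ∀ t, φ (algebraMap (A ⊗[k] K) (CC k A K) t) = algebraMap (A ⊗[k] K) E t := by
    intro t
    change φ₀ (AdicCompletion.evalₐ I (j + j) (algebraMap (A ⊗[k] K) (CC k A K) t)) = _
    rw [AlgHom.commutes]
    rfl
  have hφker : ∀ c ∈ (JC k A K) ^ (j + j), φ c = 0 := by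
    intro c hc
    rw [← ComplTensor.ker_evalₐ_eq_map_pow I fg_II (j + j)] at hc
    change φ₀ (AdicCompletion.evalₐ I (j + j) c) = 0
    have : AdicCompletion.evalₐ I (j + j) c = 0 := hc
    rw [this, map_zero]
  have hφψ : ∀ c, Ideal.Quotient.mk J (φ c) = ψ (algebraMap (CC k A K) B c) := by
    intro c
    obtain ⟨t, ht⟩ := FComplA.exists_sub_algebraMap_mem I fg_II (j + j) c
    have h1 : c = algebraMap (A ⊗[k] K) (CC k A K) t +
        (c - algebraMap (A ⊗[k] K) (CC k A K) t) := by ring
    have h2 : (JC k A K) ^ (j + j) ≤ (JC k A K) ^ j := Ideal.pow_le_pow_right (Nat.le_add_left j j)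
    rw [h1, map_add, map_add, map_add, map_add, hφker _ ht, hψC _ (h2 ht), hφalg,
      ← IsScalarTower.algebraMap_apply (A ⊗[k] K) (CC k A K) B, ψ.commutes, map_zero, add_zero,
      add_zero]
    rfl
  have hunits : ∀ s : M.primeCompl, IsUnit (φ s) := by
    intro s
    rw [← IsNilpotent.isUnit_quotient_mk_iff (I := J) ⟨2, hJ⟩, hφψ]
    exact (IsLocalization.map_units B s).map ψ
  let χ₀ : B →+* E := IsLocalization.lift (M := M.primeCompl) (g := φ) hunits
  have hχ₀ : ∀ c, χ₀ (algebraMap (CC k A K) B c) = φ c := fun c => IsLocalization.lift_eq _ c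
  let χ : B →ₐ[A ⊗[k] K] E :=
    { χ₀ with
      commutes' := fun t => by
        change χ₀ (algebraMap (A ⊗[k] K) B t) = _
        rw [IsScalarTower.algebraMap_apply (A ⊗[k] K) (CC k A K) B, hχ₀, hφalg] }
  refine ⟨χ, ?_⟩
  apply AlgHom.coe_ringHom_injective
  apply IsLocalization.ringHom_ext M.primeCompl
  ext c
  change Ideal.Quotient.mk J (χ₀ (algebraMap (CC k A K) B c)) = ψ (algebraMap (CC k A K) B c)
  rw [hχ₀, hφψ]

end Groth.Agent.Lib.Helper22.KFree
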