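import Mathlib
import Groth.Agent.Lib.Helper22.KFreeD
import Groth.Agent.Lib.Helper22.DerExtMod

/-!
# The completed differentials of a formally étale completed base change (helper22)

If `B` is a complete Noetherian local `K`-algebra, adically formally smooth over `A ⊗_k K`, then
`Ω̂_{B/K}` surjects onto `B ⊗_A Ω̂_{A/k}`.
-/

set_option autoImplicit false
set_option linter.style.haveILetI false
set_option linter.unusedSectionVars false
universe u

namespace Groth.Agent.Lib.Helper22.KFree

open IsLocalRing TensorProduct KaehlerDifferential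

/-- a derivation as a `ℤ`-derivation -/
def toIntDer {R A M : Type*} [CommRing R] [CommRing A] [Algebra R A] [AddCommGroup M] [Module A M]
    [Module R M] (d : Derivation R A M) : Derivation ℤ A M :=
  Derivation.mk' (d : A →+ M).toIntLinearMap (fun a b => d.leibniz a b)

theorem toIntDer_apply {R A M : Type*} [CommRing R] [CommRing A] [Algebra R A] [AddCommGroup M]
    [Module A M] [Module R M] (d : Derivation R A M) (a : A) : toIntDer d a = d a := rfl

attribute [local instance] Algebra.TensorProduct.rightAlgebra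

theorem exists_surjective_completedKaehler_baseChange
    (k A K B : Type u) [Field k] [Field K] [Algebra k K]
    [CommRing A] [Algebra k A] [IsLocalRing A] [IsNoetherianRing A]
    [Module.Finite A (AdicCompletion (maximalIdeal A) (Ω[A⁄k]))]
    [CommRing B] [Algebra K B] [IsLocalRing B] [IsNoetherianRing B]
    [IsAdicComplete (maximalIdeal B) B]
    [Algebra A B] [Algebra (A ⊗[k] K) B] [IsScalarTower A (A ⊗[k] K) B]
    [IsScalarTower K (A ⊗[k] K) B]
    (hfs : CAlgX.IsAdicFormallySmooth (A ⊗[k] K) B (maximalIdeal B)) :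
    ∃ F : AdicCompletion (maximalIdeal B) (Ω[B⁄K]) →ₗ[B]
        B ⊗[A] AdicCompletion (maximalIdeal A) (Ω[A⁄k]),
      Function.Surjective F := by
  set Ŵ := AdicCompletion (maximalIdeal A) (Ω[A⁄k]) with hŴ
  set T := A ⊗[k] K with hT
  let f : Ω[A⁄k] →ₗ[A] B ⊗[A] Ŵ :=
    (TensorProduct.mk A B Ŵ 1) ∘ₗ (AdicCompletion.of (maximalIdeal A) (Ω[A⁄k]))
  let ℓ : T ⊗[A] Ω[A⁄k] →ₗ[T] B ⊗[A] Ŵ := f.liftBaseChange T
  let DT : Derivation K T (B ⊗[A] Ŵ) :=
    (ℓ ∘ₗ (tensorKaehlerEquiv k K A T).symm.toLinearMap).compDer (D K T)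
  have hDT : ∀ a : A, DT (algebraMap A T a) =
      (1 : B) ⊗ₜ[A] AdicCompletion.of (maximalIdeal A) (Ω[A⁄k]) (D k A a) := by
    intro a
    change ℓ ((tensorKaehlerEquiv k K A T).symm (D K T (algebraMap A T a))) = _
    have h1 : D K T (algebraMap A T a) = tensorKaehlerEquiv k K A T ((1 : T) ⊗ₜ[A] D k A a) := by
      rw [tensorKaehlerEquiv_tmul_D, one_smul]
    rw [h1, LinearEquiv.symm_apply_apply, LinearMap.liftBaseChange_tmul, one_smul]
    rfl
  have hD₁ : ∀ t, toIntDer DT t = DT t := fun t => rfl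
  obtain ⟨D', hD'⟩ := Groth.Agent.Lib.Helper22.DerExtMod.exists_derivation_extension T B hfs
    (B ⊗[A] Ŵ) (toIntDer DT)
  have hD'K : ∀ c : K, D' (algebraMap K B c) = 0 := by
    intro c
    rw [IsScalarTower.algebraMap_apply K T B, hD', hD₁]
    exact DT.map_algebraMap c
  let D'lin : B →ₗ[K] B ⊗[A] Ŵ :=
    { toFun := D'
      map_add' := map_add D'
      map_smul' := fun c b => by
        rw [Algebra.smul_def, Derivation.leibniz, hD'K, smul_zero, add_zero, RingHom.id_apply,
          algebraMap_smul] }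
  let D'K : Derivation K B (B ⊗[A] Ŵ) := Derivation.mk' D'lin (fun a b => D'.leibniz a b)
  haveI : Module.Finite B (B ⊗[A] Ŵ) := Module.Finite.base_change A B Ŵ
  obtain ⟨F, hF⟩ := exists_lift_completedKaehler K B (B ⊗[A] Ŵ) D'K
  refine ⟨F, ?_⟩
  have hFa : ∀ a : A, F (AdicCompletion.of (maximalIdeal B) (Ω[B⁄K]) (D K B (algebraMap A B a))) =
      (1 : B) ⊗ₜ[A] AdicCompletion.of (maximalIdeal A) (Ω[A⁄k]) (D k A a) := by
    intro a
    rw [hF]
    change D' (algebraMap A B a) = _
    rw [IsScalarTower.algebraMap_apply A T B, hD', hD₁]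
    exact hDT a
  have h1 : ∀ w : Ŵ, (1 : B) ⊗ₜ[A] w ∈ LinearMap.range F := by
    intro w
    have hw : w ∈ (⊤ : Submodule A Ŵ) := trivial
    rw [← Groth.Agent.Lib.Helper22.ComplKaehlerGen.span_of_D_eq_top (k := k) (A := A)] at hw
    induction hw using Submodule.span_induction with
    | mem w hw =>
      obtain ⟨a, rfl⟩ := hw
      exact ⟨_, hFa a⟩
    | zero => rw [TensorProduct.tmul_zero]; exact Submodule.zero_mem _
    | add x y _ _ hx hy => rw [TensorProduct.tmul_add]; exact Submodule.add_mem _ hx hy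
    | smul a x _ hx =>
      have : (1 : B) ⊗ₜ[A] (a • x) = algebraMap A B a • ((1 : B) ⊗ₜ[A] x) := by
        rw [TensorProduct.tmul_smul, algebraMap_smul]
      rw [this]
      exact Submodule.smul_mem _ _ hx
  intro y
  have : y ∈ LinearMap.range F := by
    induction y using TensorProduct.induction_on with
    | zero => exact Submodule.zero_mem _
    | add x y hx hy => exact Submodule.add_mem _ hx hy
    | tmul b w =>
      have : b ⊗ₜ[A] w = b • ((1 : B) ⊗ₜ[A] w) := by
        rw [TensorProduct.smul_tmul', smul_eq_mul, mul_one]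
      rw [this]
      exact Submodule.smul_mem _ _ (h1 w)
  exact this

end Groth.Agent.Lib.Helper22.KFree
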