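import Mathlib
import Groth.Agent.Lib.Helper21.DepthKit12
import Groth.Agent.Lib.Helper5.RegSmooth
import Groth.Agent.Lib.Helper5.RegCompletion
import Groth.Agent.Lib.Helper5.RegHomBC
import Groth.Agent.Lib.Helper22.GRFreeF
import Groth.Agent.Lib.Helper22.KFreeI
import Groth.Agent.Lib.helper11.DimChain

/-!
# EGA 0_IV 22.7.2, (a') ⇒ (b): the abstract argument (helper22)
-/

set_option autoImplicit false
set_option linter.style.haveILetI false
set_option linter.unusedSectionVars false
universe u

namespace Groth.Agent.Lib.Helper22.KFree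

open IsLocalRing TensorProduct KaehlerDifferential



/-- the dimension of `B/qB` is at most that of `A/q` when the closed fibre is Artinian -/
theorem ringKrullDim_quotient_map_le (A B : Type u) [CommRing A] [CommRing B] [Algebra A B]
    [IsLocalRing A] [IsLocalRing B] [IsNoetherianRing A] [IsNoetherianRing B]
    [IsLocalHom (algebraMap A B)]
    (hprim : ∃ c : ℕ, maximalIdeal B ^ c ≤ (maximalIdeal A).map (algebraMap A B))
    (q : Ideal A) (hq : q ≠ ⊤) :
    ringKrullDim (B ⧸ q.map (algebraMap A B)) ≤ ringKrullDim (A ⧸ q) := by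
  classical
  have hmA : (maximalIdeal A).map (algebraMap A B) ≤ maximalIdeal B :=
    ((IsLocalRing.local_hom_TFAE (algebraMap A B)).out 0 2).mp ‹_›
  have hqB : q.map (algebraMap A B) ≠ ⊤ := by
    intro h
    have h1 : q.map (algebraMap A B) ≤ maximalIdeal B :=
      (Ideal.map_mono (le_maximalIdeal hq)).trans hmA
    rw [h] at h1
    exact (maximalIdeal.isMaximal B).ne_top (top_le_iff.mp h1)
  haveI : Nontrivial (A ⧸ q) := Ideal.Quotient.nontrivial_iff.mpr hq
  haveI : Nontrivial (B ⧸ q.map (algebraMap A B)) := Ideal.Quotient.nontrivial_iff.mpr hqB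
  haveI : IsLocalRing (A ⧸ q) :=
    IsLocalRing.of_surjective' (Ideal.Quotient.mk q) Ideal.Quotient.mk_surjective
  haveI : IsLocalRing (B ⧸ q.map (algebraMap A B)) :=
    IsLocalRing.of_surjective' (Ideal.Quotient.mk _) Ideal.Quotient.mk_surjective
  set A' := A ⧸ q
  set B' := B ⧸ q.map (algebraMap A B)
  have hmA' : (maximalIdeal A).map (algebraMap A A') = maximalIdeal A' :=
    Groth.Agent.Lib.Helper21.DepthKit.map_maximalIdeal_of_surjective Ideal.Quotient.mk_surjective
  have hmB' : (maximalIdeal B).map (algebraMap B B') = maximalIdeal B' :=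
    Groth.Agent.Lib.Helper21.DepthKit.map_maximalIdeal_of_surjective Ideal.Quotient.mk_surjective
  -- `m_{A'} B' ≤ m_{B'}` and a power of `m_{B'}` lies in `m_{A'} B'`
  have hcomm : (algebraMap A' B').comp (algebraMap A A') = (algebraMap B B').comp (algebraMap A B) := by
    ext a
    rfl
  have hmap : (maximalIdeal A').map (algebraMap A' B') =
      ((maximalIdeal A).map (algebraMap A B)).map (algebraMap B B') := by
    rw [← hmA', Ideal.map_map, Ideal.map_map, hcomm]
  have hle' : (maximalIdeal A').map (algebraMap A' B') ≤ maximalIdeal B' := by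
    rw [hmap, ← hmB']
    exact Ideal.map_mono hmA
  obtain ⟨c, hc⟩ := hprim
  have hpow' : maximalIdeal B' ^ c ≤ (maximalIdeal A').map (algebraMap A' B') := by
    rw [hmap, ← hmB', ← Ideal.map_pow]
    exact Ideal.map_mono hc
  obtain ⟨s, hs, hcard⟩ := Ideal.exists_finset_card_eq_height_of_isNoetherianRing (maximalIdeal A')
  have hmin : maximalIdeal B' ∈
      (Ideal.span ((s.image (algebraMap A' B') : Finset B') : Set B')).minimalPrimes := by
    have hspan : Ideal.span ((s.image (algebraMap A' B') : Finset B') : Set B') =
        (Ideal.span (s : Set A')).map (algebraMap A' B') := by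
      rw [Ideal.map_span, Finset.coe_image]
    rw [hspan]
    refine ⟨⟨inferInstance, (Ideal.map_mono hs.1.2).trans hle'⟩, ?_⟩
    rintro P' ⟨hP', hsP'⟩ -
    haveI := hP'
    have h1 : Ideal.span (s : Set A') ≤ P'.comap (algebraMap A' B') :=
      Ideal.map_le_iff_le_comap.mp hsP'
    have h2 : maximalIdeal A' ≤ P'.comap (algebraMap A' B') :=
      hs.2 ⟨inferInstance, h1⟩ (le_maximalIdeal (Ideal.IsPrime.ne_top inferInstance))
    have h3 : maximalIdeal B' ^ c ≤ P' := hpow'.trans (Ideal.map_le_iff_le_comap.mpr h2)
    exact Ideal.IsPrime.le_of_pow_le h3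
  have h4 := Ideal.height_le_card_of_mem_minimalPrimes_span_finset hmin
  rw [← IsLocalRing.maximalIdeal_height_eq_ringKrullDim,
    ← IsLocalRing.maximalIdeal_height_eq_ringKrullDim]
  have h5 : ((s.image (algebraMap A' B')).card : ℕ∞) ≤ (s.card : ℕ∞) := by
    exact_mod_cast Finset.card_image_le
  rw [hcard] at h5
  exact_mod_cast h4.trans h5




/-- over a perfect field, regular local rings are geometrically regular -/
theorem geomRegular_of_perfectField (K R : Type u) [Field K] [PerfectField K] [CommRing R]
    [Algebra K R] [IsRegularLocalRing R] : CAlg.IsGeometricallyRegular K R := by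
  intro K' _ _ hfin
  haveI := hfin
  haveI : IsRegularRing R :=
    Groth.Agent.Lib.Helper5.RegCompletion.isRegularRing_of_isRegularLocalRing R
  haveI : Algebra.IsSeparable K K' := Algebra.IsAlgebraic.isSeparable_of_perfectField
  haveI : Algebra.FormallyEtale K K' := Algebra.FormallyEtale.of_isSeparable K K'
  haveI : Algebra.FinitePresentation K K' :=
    Algebra.FinitePresentation.of_finiteType.mp inferInstance
  haveI : Algebra.Etale K K' := ⟨inferInstance, inferInstance⟩
  haveI : Algebra.Etale R (R ⊗[K] K') := inferInstance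
  haveI : IsRegularRing (R ⊗[K] K') :=
    Groth.Agent.Lib.Helper5.RegSmooth.isRegularRing_of_etale R _
  exact IsRegularRing.of_ringEquiv (Algebra.TensorProduct.comm K R K').toRingEquiv

section Fibre

variable (A B : Type u) [CommRing A] [CommRing B] [Algebra A B]
  (p : Ideal A) [p.IsPrime] (P : Ideal B) [P.IsPrime] [P.LiesOver p]

/-- the fibre dimension of a module at `p` may be computed over the residue field at `P` -/
theorem finrank_fibre_eq_of_liesOver (W : Type u) [AddCommGroup W] [Module A W] :
    Module.finrank (ResidueField (Localization.AtPrime P))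
      (ResidueField (Localization.AtPrime P) ⊗[A] W) =
    Module.finrank (ResidueField (Localization.AtPrime p))
      (ResidueField (Localization.AtPrime p) ⊗[A] W) := by
  letI := Localization.AtPrime.algebraOfLiesOver p P
  haveI : IsLocalHom (algebraMap (Localization.AtPrime p) (Localization.AtPrime P)) := by
    rw [RingHom.algebraMap_toAlgebra]
    exact Localization.isLocalHom_localRingHom p P (algebraMap A B) Ideal.LiesOver.over
  let e : ResidueField (Localization.AtPrime P) ⊗[ResidueField (Localization.AtPrime p)]
      (ResidueField (Localization.AtPrime p) ⊗[A] W) ≃ₗ[ResidueField (Localization.AtPrime P)]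
      ResidueField (Localization.AtPrime P) ⊗[A] W :=
    AlgebraTensorModule.cancelBaseChange A (ResidueField (Localization.AtPrime p))
      (ResidueField (Localization.AtPrime P)) (ResidueField (Localization.AtPrime P)) W
  rw [← e.finrank_eq, Module.finrank_baseChange]

/-- domains descend along flat local homomorphisms of localizations -/
theorem isDomain_localization_of_flat [Module.Flat A B] [IsDomain (Localization.AtPrime P)] :
    IsDomain (Localization.AtPrime p) := by
  letI := Localization.AtPrime.algebraOfLiesOver p P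
  haveI : IsLocalHom (algebraMap (Localization.AtPrime p) (Localization.AtPrime P)) := by
    rw [RingHom.algebraMap_toAlgebra]
    exact Localization.isLocalHom_localRingHom p P (algebraMap A B) Ideal.LiesOver.over
  haveI : Module.Flat (Localization.AtPrime p) (Localization.AtPrime P) := inferInstance
  haveI : Module.FaithfullyFlat (Localization.AtPrime p) (Localization.AtPrime P) :=
    Module.FaithfullyFlat.of_flat_of_isLocalHom
  exact (FaithfulSMul.algebraMap_injective (Localization.AtPrime p)
    (Localization.AtPrime P)).isDomain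

end Fibre


section Abstract

attribute [local instance] Algebra.TensorProduct.rightAlgebra

/-- **EGA 0_IV 22.7.2, (a') ⇒ (b)**, abstract form -/
theorem free_of_regular_abstract
    (k A K B : Type u) [Field k] [Field K] [Algebra k K] [PerfectField K]
    [CommRing A] [Algebra k A] [IsLocalRing A] [IsNoetherianRing A]
    [IsAdicComplete (maximalIdeal A) A] [Module.Finite k (ResidueField A)]
    [CommRing B] [Algebra K B] [IsLocalRing B] [IsNoetherianRing B]
    [IsAdicComplete (maximalIdeal B) B] [Module.Finite K (ResidueField B)]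
    [Algebra A B] [Module.Flat A B] [IsLocalHom (algebraMap A B)]
    [Algebra (A ⊗[k] K) B] [IsScalarTower A (A ⊗[k] K) B] [IsScalarTower K (A ⊗[k] K) B]
    (hfs : CAlgX.IsAdicFormallySmooth (A ⊗[k] K) B (maximalIdeal B))
    (hprim : ∃ c : ℕ, maximalIdeal B ^ c ≤ (maximalIdeal A).map (algebraMap A B))
    (p : Ideal A) [p.IsPrime] (P : Ideal B) [P.IsPrime] [P.LiesOver p]
    (hreg : IsRegularLocalRing (Localization.AtPrime P))
    (n : ℕ) (hn₂ : ∃ q ∈ minimalPrimes A, q ≤ p ∧ ringKrullDim (A ⧸ q) = n) :
    Module.Free (Localization.AtPrime p)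
        (LocalizedModule p.primeCompl (AdicCompletion (maximalIdeal A) (Ω[A⁄k]))) ∧
      Module.finrank (Localization.AtPrime p)
        (LocalizedModule p.primeCompl (AdicCompletion (maximalIdeal A) (Ω[A⁄k]))) = n := by
  classical
  haveI := hreg
  have hgeo : CAlg.IsGeometricallyRegular K (Localization.AtPrime P) :=
    geomRegular_of_perfectField K _
  obtain ⟨Q, hQmin, hQP⟩ := Ideal.exists_minimalPrimes_le (bot_le : (⊥ : Ideal B) ≤ P)
  haveI hQprime : Q.IsPrime := hQmin.1.1
  haveI : IsLocalRing (B ⧸ Q) :=
    IsLocalRing.of_surjective' (Ideal.Quotient.mk Q) Ideal.Quotient.mk_surjective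
  obtain ⟨r, hr⟩ := Groth.Agent.Lib.Helper5.SerreLoc.exists_finite_ringKrullDim (B ⧸ Q)
  obtain ⟨pch, hpch⟩ := ExpChar.exists K
  haveI := hpch
  have hk : (frobenius K pch).Finite :=
    RingHom.Finite.of_surjective _ (bijective_frobenius K pch).2
  have hfreeB := Groth.Agent.Lib.Helper22.GRFree.free_of_geomRegular K B P Q pch hk hgeo hQmin hQP r hr
  haveI hdomB : IsDomain (Localization.AtPrime P) :=
    Groth.Agent.Lib.helper19.isDomain_of_isRegularLocalRing _
  haveI hdomA : IsDomain (Localization.AtPrime p) := isDomain_localization_of_flat A B p P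
  obtain ⟨q, hqmin, hqp, hqn⟩ := hn₂
  haveI hqprime : q.IsPrime := hqmin.1.1
  have hqQ : q.map (algebraMap A B) ≤ Q := by
    rw [Ideal.map_le_iff_le_comap]
    haveI : (Q.comap (algebraMap A B)).IsPrime := Ideal.comap_isPrime _ _
    obtain ⟨q', hq'min, hq'le⟩ :=
      Ideal.exists_minimalPrimes_le (bot_le : (⊥ : Ideal A) ≤ Q.comap (algebraMap A B))
    have hq'p : q' ≤ p := by
      refine hq'le.trans ?_
      rw [Ideal.LiesOver.over (p := p) (P := P)]
      exact Ideal.comap_mono hQP
    have hqq : q' = q := by
      rw [← Groth.Agent.Lib.Helper22.GRFree.ker_algebraMap_eq_of_minimal p q' hq'min hq'p,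
        Groth.Agent.Lib.Helper22.GRFree.ker_algebraMap_eq_of_minimal p q hqmin hqp]
    rw [← hqq]
    exact hq'le
  have hrn : r ≤ n := by
    have h1 : ringKrullDim (B ⧸ Q) ≤ ringKrullDim (B ⧸ q.map (algebraMap A B)) :=
      Groth.Agent.Lib.helper11.DimChain.ringKrullDim_quotient_mono hqQ
    have h2 := ringKrullDim_quotient_map_le A B hprim q (Ideal.IsPrime.ne_top inferInstance)
    rw [hr] at h1
    rw [hqn] at h2
    exact_mod_cast h1.trans h2
  haveI hWA : Module.Finite A (AdicCompletion (maximalIdeal A) (Ω[A⁄k])) :=
    Groth.Agent.Lib.Helper22.NagJac.finite_completedKaehler_of_finite_residueField k A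
  haveI hWB : Module.Finite B (AdicCompletion (maximalIdeal B) (Ω[B⁄K])) :=
    Groth.Agent.Lib.Helper22.NagJac.finite_completedKaehler_of_finite_residueField K B
  obtain ⟨F, hF⟩ := exists_surjective_completedKaehler_baseChange k A K B hfs
  have h8 : Module.finrank (ResidueField (Localization.AtPrime P))
      (ResidueField (Localization.AtPrime P) ⊗[A] AdicCompletion (maximalIdeal A) (Ω[A⁄k])) ≤
      Module.finrank (ResidueField (Localization.AtPrime P))
      (ResidueField (Localization.AtPrime P) ⊗[B] AdicCompletion (maximalIdeal B) (Ω[B⁄K])) := by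
    let G := F.baseChange (ResidueField (Localization.AtPrime P))
    have hG : Function.Surjective G := by
      have : (G : _ → _) = F.lTensor (ResidueField (Localization.AtPrime P)) := by
        funext x
        rfl
      rw [this]
      exact LinearMap.lTensor_surjective _ hF
    let e := AlgebraTensorModule.cancelBaseChange A B (ResidueField (Localization.AtPrime P))
      (ResidueField (Localization.AtPrime P)) (AdicCompletion (maximalIdeal A) (Ω[A⁄k]))
    exact LinearMap.finrank_le_finrank_of_surjective (f := e.toLinearMap ∘ₗ G)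
      (e.surjective.comp hG)
  have h9 : Module.finrank (ResidueField (Localization.AtPrime P))
      (ResidueField (Localization.AtPrime P) ⊗[B] AdicCompletion (maximalIdeal B) (Ω[B⁄K])) = r := by
    rw [Groth.Agent.Lib.Helper22.UnramPS.finrank_fibre_eq K B P]
    haveI := hfreeB.1
    rw [Module.finrank_baseChange, hfreeB.2]
  have h10 : Module.finrank (ResidueField (Localization.AtPrime p))
      (ResidueField (Localization.AtPrime p) ⊗[Localization.AtPrime p]
        LocalizedModule p.primeCompl (AdicCompletion (maximalIdeal A) (Ω[A⁄k]))) ≤ n := by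
    rw [← Groth.Agent.Lib.Helper22.UnramPS.finrank_fibre_eq k A p,
      ← finrank_fibre_eq_of_liesOver A B p P (AdicCompletion (maximalIdeal A) (Ω[A⁄k]))]
    exact (h8.trans h9.le).trans hrn
  exact Groth.Agent.Lib.Helper22.GRFree.free_of_fibre_le k A p q hqmin hqp n hqn h10

end Abstract

end Groth.Agent.Lib.Helper22.KFree
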