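import Mathlib
import Groth.Agent.Lib.Helper22.KFreeH
import Groth.Agent.Lib.Helper22.KFreeJ

/-!
# EGA 0_IV 22.7.2, (a') ⇒ (b) (helper22)
-/

set_option autoImplicit false
set_option linter.style.haveILetI false
set_option linter.unusedSectionVars false
universe u

namespace Groth.Agent.Lib.Helper22.KFree

open IsLocalRing TensorProduct KaehlerDifferential
open Groth.Agent.Lib.Helper12 Groth.Agent.Lib.Helper12.CTens

section Art

variable (k A K : Type u) [Field k] [CommRing A] [IsLocalRing A] [IsNoetherianRing A]
  [Algebra k A] [Module.Finite k (ResidueField A)] [Field K] [Algebra k K]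

theorem isArtinianRing_quotient_map_maximalIdeal :
    IsArtinianRing (CC k A K ⧸ (maximalIdeal A).map (algebraMap A (CC k A K))) := by
  letI : Algebra K (A ⊗[k] K) :=
    (Algebra.TensorProduct.includeRight (R := k) (A := A) (B := K)).toRingHom.toAlgebra
  letI := Ideal.Quotient.field (maximalIdeal A)
  haveI : IsArtinianRing (A ⧸ maximalIdeal A) := inferInstance
  haveI := CplField.finite_quotient_map (k := k) (K := K) (maximalIdeal A)
  exact IsArtinianRing.of_finite K _

theorem isMaximal_of_isArtinianRing_quotient {C : Type*} [CommRing C] (𝔞 P : Ideal C)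
    [IsArtinianRing (C ⧸ 𝔞)] [P.IsPrime] (h : 𝔞 ≤ P) : P.IsMaximal := by
  have hker : RingHom.ker (Ideal.Quotient.mk 𝔞) ≤ P := by rwa [Ideal.mk_ker]
  haveI : (P.map (Ideal.Quotient.mk 𝔞)).IsPrime :=
    Ideal.map_isPrime_of_surjective Ideal.Quotient.mk_surjective hker
  have hmax : (P.map (Ideal.Quotient.mk 𝔞)).IsMaximal := IsArtinianRing.isMaximal_of_isPrime _
  have hcomap : (P.map (Ideal.Quotient.mk 𝔞)).comap (Ideal.Quotient.mk 𝔞) = P := by
    rw [Ideal.comap_map_of_surjective _ Ideal.Quotient.mk_surjective, ← RingHom.ker_eq_comap_bot,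
      sup_eq_left.mpr hker]
  rw [← hcomap]
  exact Ideal.comap_isMaximal_of_surjective _ Ideal.Quotient.mk_surjective

end Art

section Main

attribute [local instance] Algebra.TensorProduct.rightAlgebra

variable (k A : Type u) [Field k] [CommRing A]
  [IsLocalRing A] [IsNoetherianRing A] [Algebra k A] [IsAdicComplete (maximalIdeal A) A]
  [Module.Finite k (ResidueField A)] (p : Ideal A) [p.IsPrime]

/-- **EGA 0_IV 22.7.2, (a') ⇒ (b)** -/
theorem free_of_regular (n : ℕ)
    (hn₂ : ∃ q ∈ minimalPrimes A, q ≤ p ∧ ringKrullDim (A ⧸ q) = n)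
    (K : Type u) [Field K] [Algebra k K] [PerfectField K] (p' : Ideal (CC k A K)) [p'.IsPrime]
    (hp' : p'.comap (algebraMap A (CC k A K)) = p)
    (hreg : IsRegularLocalRing (Localization.AtPrime p')) :
    Module.Free (Localization.AtPrime p)
        (LocalizedModule p.primeCompl (AdicCompletion (maximalIdeal A) (Ω[A⁄k]))) ∧
      Module.finrank (Localization.AtPrime p)
        (LocalizedModule p.primeCompl (AdicCompletion (maximalIdeal A) (Ω[A⁄k]))) = n := by
  classical
  obtain ⟨hN, -, -, hMall⟩ := CplField.main (k := k) (R := A) (K := K)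
  haveI := hN
  obtain ⟨M, hMmax, hp'M⟩ := Ideal.exists_le_maximal p' (Ideal.IsPrime.ne_top inferInstance)
  haveI := hMmax
  obtain ⟨hcompl, hff, hdim, hfinres⟩ := hMall ⟨M, hMmax⟩
  change IsAdicComplete (maximalIdeal (Localization.AtPrime M)) (Localization.AtPrime M) at hcompl
  change Module.FaithfullyFlat A (Localization.AtPrime M) at hff
  haveI : IsNoetherianRing (Localization.AtPrime M) :=
    IsLocalization.isNoetherianRing M.primeCompl _ inferInstance
  haveI := hcompl
  haveI := hff
  haveI t1 : IsScalarTower K (A ⊗[k] K) (CC k A K) :=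
    isScalarTower_adicCompletion K (HTens.II k A K)
  haveI t2 : IsScalarTower A (A ⊗[k] K) (CC k A K) :=
    isScalarTower_adicCompletion A (HTens.II k A K)
  haveI t3 : IsScalarTower K (A ⊗[k] K) (Localization.AtPrime M) :=
    IsScalarTower.of_algebraMap_eq (fun c => by
      rw [IsScalarTower.algebraMap_apply K (CC k A K) (Localization.AtPrime M),
        IsScalarTower.algebraMap_apply K (A ⊗[k] K) (CC k A K),
        ← IsScalarTower.algebraMap_apply (A ⊗[k] K) (CC k A K) (Localization.AtPrime M)])
  haveI t4 : IsScalarTower A (A ⊗[k] K) (Localization.AtPrime M) :=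
    IsScalarTower.of_algebraMap_eq (fun c => by
      rw [IsScalarTower.algebraMap_apply A (CC k A K) (Localization.AtPrime M),
        IsScalarTower.algebraMap_apply A (A ⊗[k] K) (CC k A K),
        ← IsScalarTower.algebraMap_apply (A ⊗[k] K) (CC k A K) (Localization.AtPrime M)])
  -- local homomorphism
  haveI hlocal : IsLocalHom (algebraMap A (Localization.AtPrime M)) := by
    constructor
    intro a ha
    by_contra hna
    have ham : a ∈ maximalIdeal A := hna
    have h1 : algebraMap A (CC k A K) a ∈ M := by
      apply CplField.JC_le_of_isMaximal M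
      rw [← map_maximalIdeal_CC]
      exact Ideal.mem_map_of_mem _ ham
    have h2 : algebraMap (CC k A K) (Localization.AtPrime M) (algebraMap A (CC k A K) a) ∈
        maximalIdeal (Localization.AtPrime M) :=
      (IsLocalization.AtPrime.to_map_mem_maximal_iff (Localization.AtPrime M) M _).mpr h1
    rw [← IsScalarTower.algebraMap_apply] at h2
    exact h2 ha
  -- the residue field
  haveI hfinCM : Module.Finite K (CC k A K ⧸ M) := by
    have h1 : algebraMap K (CC k A K ⧸ M) =
        ((Ideal.Quotient.mk M).comp (algebraMap (A ⊗[k] K) (CC k A K))).comp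
          (Algebra.TensorProduct.includeRight (R := k) (A := A) (B := K)).toRingHom := by
      ext c
      rfl
    rw [← RingHom.finite_algebraMap, h1]
    exact hfinres
  haveI hfinB : Module.Finite K (ResidueField (Localization.AtPrime M)) := by
    let ε := IsLocalization.AtPrime.equivQuotMaximalIdeal M (Localization.AtPrime M)
    let εl : (CC k A K ⧸ M) →ₗ[K] ResidueField (Localization.AtPrime M) :=
      { toFun := ε
        map_add' := map_add ε
        map_smul' := fun c x => by
          obtain ⟨y, rfl⟩ := Ideal.Quotient.mk_surjective x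
          rw [RingHom.id_apply, Algebra.smul_def, Algebra.smul_def, map_mul]
          congr 1 }
    exact Module.Finite.of_surjective εl ε.surjective
  have hfs := adicFormallySmooth_localization k A K M
  -- the closed fibre
  have hprim : ∃ c : ℕ, maximalIdeal (Localization.AtPrime M) ^ c ≤
      (maximalIdeal A).map (algebraMap A (Localization.AtPrime M)) := by
    apply Ideal.exists_pow_le_of_le_radical_of_fg _ (IsNoetherian.noetherian _)
    rw [Ideal.radical_eq_sInf]
    refine le_sInf ?_
    rintro P ⟨hP, hPprime⟩
    haveI := hPprime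
    haveI := isArtinianRing_quotient_map_maximalIdeal k A K
    have h1 : (maximalIdeal A).map (algebraMap A (CC k A K)) ≤
        P.comap (algebraMap (CC k A K) (Localization.AtPrime M)) := by
      rw [← Ideal.map_le_iff_le_comap, Ideal.map_map, ← IsScalarTower.algebraMap_eq]
      exact hP
    have hmax : (P.comap (algebraMap (CC k A K) (Localization.AtPrime M))).IsMaximal :=
      isMaximal_of_isArtinianRing_quotient _ _ h1
    have hle : P.comap (algebraMap (CC k A K) (Localization.AtPrime M)) ≤ M := by
      intro x hx
      by_contra hxM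
      have hu : IsUnit (algebraMap (CC k A K) (Localization.AtPrime M) x) :=
        IsLocalization.map_units (M := M.primeCompl) _ ⟨x, hxM⟩
      exact hPprime.ne_top (Ideal.eq_top_of_isUnit_mem _ hx hu)
    have heq : P.comap (algebraMap (CC k A K) (Localization.AtPrime M)) = M :=
      hmax.eq_of_le hMmax.ne_top hle
    rw [← Localization.AtPrime.map_eq_maximalIdeal, Ideal.map_le_iff_le_comap]
    exact heq.ge
  -- the prime of `B`
  have hdisj : Disjoint (M.primeCompl : Set (CC k A K)) (p' : Set (CC k A K)) := by
    rw [Set.disjoint_left]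
    intro x hx hxp
    exact hx (hp'M hxp)
  set P : Ideal (Localization.AtPrime M) :=
    p'.map (algebraMap (CC k A K) (Localization.AtPrime M)) with hPdef
  haveI hPprime : P.IsPrime :=
    IsLocalization.isPrime_of_isPrime_disjoint M.primeCompl _ p' inferInstance hdisj
  have hPcomap : P.comap (algebraMap (CC k A K) (Localization.AtPrime M)) = p' :=
    IsLocalization.under_map_of_isPrime_disjoint M.primeCompl _ inferInstance hdisj
  haveI hlocP : IsLocalization.AtPrime (Localization.AtPrime P) p' := by
    have := IsLocalization.isLocalization_isLocalization_atPrime_isLocalization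
      M.primeCompl (Localization.AtPrime P) P
    have heq : (P.comap (algebraMap (CC k A K) (Localization.AtPrime M))).primeCompl =
        p'.primeCompl := by
      ext x
      simp only [Ideal.mem_primeCompl_iff]
      rw [hPcomap]
    change IsLocalization p'.primeCompl _
    rw [← heq]
    exact this
  let e : Localization.AtPrime p' ≃ₐ[CC k A K] Localization.AtPrime P :=
    IsLocalization.algEquiv p'.primeCompl _ _
  have hregP : IsRegularLocalRing (Localization.AtPrime P) :=
    IsRegularLocalRing.of_ringEquiv (R := Localization.AtPrime p') e.toRingEquiv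
  haveI : P.LiesOver p := ⟨by
    rw [Ideal.under_def, IsScalarTower.algebraMap_eq A (CC k A K) (Localization.AtPrime M),
      ← Ideal.comap_comap, hPcomap, hp']⟩
  exact free_of_regular_abstract k A K (Localization.AtPrime M) hfs hprim p P hregP n hn₂

/-- `free_of_regular` with an explicit primality hypothesis -/
theorem free_of_regular' (n : ℕ)
    (hn₂ : ∃ q ∈ minimalPrimes A, q ≤ p ∧ ringKrullDim (A ⧸ q) = n)
    (K : Type u) [Field K] [Algebra k K] [PerfectField K] (p' : Ideal (CC k A K))
    (hp'prime : p'.IsPrime)
    (hp' : p'.comap (algebraMap A (CC k A K)) = p)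
    (hreg : IsRegularLocalRing (Localization.AtPrime p')) :
    Module.Free (Localization.AtPrime p)
        (LocalizedModule p.primeCompl (AdicCompletion (maximalIdeal A) (Ω[A⁄k]))) ∧
      Module.finrank (Localization.AtPrime p)
        (LocalizedModule p.primeCompl (AdicCompletion (maximalIdeal A) (Ω[A⁄k]))) = n :=
  free_of_regular k A p n hn₂ K p' hp' hreg

end Main

end Groth.Agent.Lib.Helper22.KFree
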