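import Mathlib
import Groth.Agent.Lib.Helper12.CplFieldD
import Groth.Agent.Lib.Helper12.ComplTensorB

/-!
# Primes of the completed tensor product over a given prime (helper22)
-/

set_option autoImplicit false
set_option linter.style.haveILetI false
set_option linter.unusedSectionVars false
universe u

namespace Groth.Agent.Lib.Helper22.KFree

open IsLocalRing TensorProduct
open Groth.Agent.Lib.Helper12 Groth.Agent.Lib.Helper12.CTens

variable (k A : Type u) [Field k] [CommRing A]
  [IsLocalRing A] [IsNoetherianRing A] [Algebra k A]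
  [Module.Finite k (ResidueField A)] (K : Type u) [Field K] [Algebra k K]

theorem II_ne_top : HTens.II k A K ≠ ⊤ := by
  intro h
  have h1 : (1 : A ⊗[k] K) ∈ RingHom.ker (ComplTensor.toQuot (k := k) (A := K)
      (maximalIdeal A)).toRingHom := by
    rw [ComplTensor.ker_toQuot]
    change (1 : A ⊗[k] K) ∈ HTens.II k A K
    rw [h]
    trivial
  rw [RingHom.mem_ker, map_one] at h1
  letI := Ideal.Quotient.field (maximalIdeal A)
  haveI : Nontrivial (K ⊗[k] (A ⧸ maximalIdeal A)) :=
    Algebra.TensorProduct.nontrivial_of_algebraMap_injective_of_flat_left (R := k) K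
      (A ⧸ maximalIdeal A) (algebraMap k (A ⧸ maximalIdeal A)).injective
  exact one_ne_zero h1

theorem nontrivial_CC : Nontrivial (CC k A K) := by
  haveI : Nontrivial ((A ⊗[k] K) ⧸ HTens.II k A K) :=
    Ideal.Quotient.nontrivial_iff.mpr (II_ne_top k A K)
  exact (AdicCompletion.evalOneₐ_surjective (HTens.II k A K)).nontrivial

/-- every prime of `A` is the contraction of a prime of `A ⊗̂_k K` -/
theorem exists_prime_over (p : Ideal A) [p.IsPrime] :
    ∃ p' : Ideal (CC k A K), p'.IsPrime ∧ p'.comap (algebraMap A (CC k A K)) = p := by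
  obtain ⟨hN, -, -, hMall⟩ := CplField.main (k := k) (R := A) (K := K)
  haveI := hN
  haveI := nontrivial_CC k A K
  obtain ⟨M, hM⟩ := Ideal.exists_maximal (CC k A K)
  haveI := hM
  have hff : Module.FaithfullyFlat A (Localization.AtPrime M) := (hMall ⟨M, hM⟩).2.1
  haveI := hff
  obtain ⟨P, hP, hPp⟩ := Ideal.exists_isPrime_liesOver_of_faithfullyFlat
    (B := Localization.AtPrime M) p
  refine ⟨P.comap (algebraMap (CC k A K) (Localization.AtPrime M)), Ideal.comap_isPrime _ _, ?_⟩
  rw [Ideal.comap_comap, ← IsScalarTower.algebraMap_eq]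
  exact hPp.over.symm

end Groth.Agent.Lib.Helper22.KFree
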