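import Mathlib

/-!
# Kähler differentials of separably generated field extensions (helper22)

If `x : ι → F` is a separating transcendence basis of `F/k`, then `(d (x i))` is a basis of
`Ω[F⁄k]`.
-/

set_option autoImplicit false
set_option linter.style.haveILetI false
noncomputable section
namespace Groth.Agent.Lib.Helper22.KaehlerSepGen

open TensorProduct KaehlerDifferential

universe u v w

variable {k : Type u} {F : Type v} [Field k] [Field F] [Algebra k F] {ι : Type w} (x : ι → F)

/-- `F` is formally étale over the polynomial ring on a separating transcendence basis. -/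
theorem formallyEtale_mvPolynomial (hx : AlgebraicIndependent k x)
    (hsep : Algebra.IsSeparable (IntermediateField.adjoin k (Set.range x)) F) :
    letI : Algebra (MvPolynomial ι k) F := (MvPolynomial.aeval x).toRingHom.toAlgebra
    Algebra.FormallyEtale (MvPolynomial ι k) F := by
  letI algPF : Algebra (MvPolynomial ι k) F := (MvPolynomial.aeval x).toRingHom.toAlgebra
  haveI : IsScalarTower k (MvPolynomial ι k) F :=
    IsScalarTower.of_algebraMap_eq (fun c => ((MvPolynomial.aeval x).commutes c).symm)
  let P := MvPolynomial ι k
  let Q := FractionRing P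
  have hinj : Function.Injective (algebraMap P F) := hx
  letI algQF : Algebra Q F := (IsFractionRing.lift hinj).toAlgebra
  haveI : IsScalarTower P Q F := IsScalarTower.of_algebraMap_eq (fun p =>
    (IsFractionRing.lift_algebraMap hinj p).symm)
  let M := IntermediateField.adjoin k (Set.range x)
  let e : Q ≃ₐ[k] M := hx.aevalEquivField
  have hcomm : ∀ q : Q, algebraMap M F (e q) = algebraMap Q F q := by
    intro q
    rfl
  haveI : Algebra.IsSeparable Q F := by
    refine Algebra.IsSeparable.of_equiv_equiv e.symm.toRingEquiv (RingEquiv.refl F) ?_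
    ext m
    obtain ⟨q, rfl⟩ := e.surjective m
    simp [hcomm]
  haveI : Algebra.FormallyEtale Q F := Algebra.FormallyEtale.of_isSeparable Q F
  haveI : Algebra.FormallyEtale P Q := Algebra.FormallyEtale.of_isLocalization (nonZeroDivisors P)
  exact Algebra.FormallyEtale.comp P Q F

/-- The differentials of a separating transcendence basis form a basis of `Ω[F⁄k]`. -/
theorem exists_basis_D (hx : AlgebraicIndependent k x)
    (hsep : Algebra.IsSeparable (IntermediateField.adjoin k (Set.range x)) F) :
    ∃ b : Module.Basis ι F (Ω[F⁄k]), ∀ i, b i = D k F (x i) := by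
  letI algPF : Algebra (MvPolynomial ι k) F := (MvPolynomial.aeval x).toRingHom.toAlgebra
  haveI : IsScalarTower k (MvPolynomial ι k) F :=
    IsScalarTower.of_algebraMap_eq (fun c => ((MvPolynomial.aeval x).commutes c).symm)
  haveI := formallyEtale_mvPolynomial x hx hsep
  let b₀ := KaehlerDifferential.mvPolynomialBasis k ι
  let b₁ : Module.Basis ι F (F ⊗[MvPolynomial ι k] Ω[MvPolynomial ι k⁄k]) :=
    Algebra.TensorProduct.basis F b₀
  let b₂ : Module.Basis ι F (Ω[F⁄k]) :=
    b₁.map (tensorKaehlerEquivOfFormallyEtale k (MvPolynomial ι k) F)
  refine ⟨b₂, fun i => ?_⟩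
  change (tensorKaehlerEquivOfFormallyEtale k (MvPolynomial ι k) F) (b₁ i) = _
  rw [Algebra.TensorProduct.basis_apply, KaehlerDifferential.mvPolynomialBasis_apply,
    tensorKaehlerEquivOfFormallyEtale_apply, mapBaseChange_tmul, one_smul, map_D]
  congr 1
  change MvPolynomial.aeval x (MvPolynomial.X i) = x i
  simp

theorem linearIndependent_D_and_span (hx : AlgebraicIndependent k x)
    (hsep : Algebra.IsSeparable (IntermediateField.adjoin k (Set.range x)) F) :
    LinearIndependent F (fun i : ι => D k F (x i)) ∧
      Submodule.span F (Set.range fun i : ι => D k F (x i)) = ⊤ := by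
  obtain ⟨b, hb⟩ := exists_basis_D x hx hsep
  have : (fun i : ι => D k F (x i)) = b := funext (fun i => (hb i).symm)
  rw [this]
  exact ⟨b.linearIndependent, b.span_eq⟩

/-- Conversely, if the differentials of a transcendence basis of a finitely generated field
extension span `Ω[F⁄k]`, the transcendence basis is separating. -/
theorem isSeparable_of_span [Algebra.EssFiniteType k F]
    (hspan : Submodule.span F (Set.range fun i : ι => D k F (x i)) = ⊤) :
    Algebra.IsSeparable (IntermediateField.adjoin k (Set.range x)) F := by
  let M := IntermediateField.adjoin k (Set.range x)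
  haveI : Algebra.EssFiniteType M F := Algebra.EssFiniteType.of_comp k M F
  have hsurj : Function.Surjective (KaehlerDifferential.map k M F F) :=
    KaehlerDifferential.map_surjective k M F
  have hzero : KaehlerDifferential.map k M F F = 0 := by
    apply LinearMap.ext_on_range hspan
    intro i
    rw [KaehlerDifferential.map_D, LinearMap.zero_apply]
    have hmem : x i ∈ M := IntermediateField.subset_adjoin k _ ⟨i, rfl⟩
    have : x i = algebraMap M F ⟨x i, hmem⟩ := rfl
    change D M F (x i) = 0
    rw [this, Derivation.map_algebraMap]
  haveI : Subsingleton (Ω[F⁄M]) := by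
    refine ⟨fun a b => ?_⟩
    obtain ⟨a', rfl⟩ := hsurj a
    obtain ⟨b', rfl⟩ := hsurj b
    rw [hzero]; rfl
  haveI : Algebra.FormallyUnramified M F := ⟨inferInstance⟩
  exact Algebra.FormallyUnramified.isSeparable M F

end Groth.Agent.Lib.Helper22.KaehlerSepGen
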