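import Mathlib
import Groth.Agent.Lib.Helper22.KaehlerSepGen

/-!
# Kähler differentials of function fields of dimension one (helper22)
-/

set_option autoImplicit false
set_option linter.style.haveILetI false
noncomputable section
namespace Groth.Agent.Lib.Helper22.KaehlerSepGen

open TensorProduct KaehlerDifferential

universe u v

/-- Over a perfect field, `Ω[F⁄k]` of a finitely generated field extension is finite-dimensional
of dimension the transcendence degree. -/
theorem finrank_eq_card (k : Type u) (F : Type v) [Field k] [PerfectField k] [Field F]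
    [Algebra k F] [Algebra.EssFiniteType k F] {ι : Type*} [Fintype ι] (x : ι → F)
    (hx : IsTranscendenceBasis k x) :
    Module.Finite F (Ω[F⁄k]) ∧ Module.finrank F (Ω[F⁄k]) = Fintype.card ι := by
  obtain ⟨s, hs, hsep⟩ := exists_isTranscendenceBasis_and_isSeparable_of_perfectField k F
  have hsep' : Algebra.IsSeparable
      (IntermediateField.adjoin k (Set.range ((↑) : ↥s → F))) F := by
    have : ∀ T : Set F, T = (s : Set F) →
        Algebra.IsSeparable (IntermediateField.adjoin k T) F := by
      rintro T rfl
      exact hsep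
    exact this _ Subtype.range_coe
  obtain ⟨b, -⟩ := exists_basis_D ((↑) : ↥s → F) hs.1 hsep'
  refine ⟨Module.Finite.of_basis b, ?_⟩
  rw [Module.finrank_eq_card_basis b]
  have h1 := IsTranscendenceBasis.lift_cardinalMk_eq hx hs
  simp only [Cardinal.mk_fintype, Cardinal.lift_natCast] at h1
  exact_mod_cast h1.symm

/-- For a finite extension `L/K` of function fields of dimension one over an algebraically
closed (perfect) field `k`, the map `Ω[K⁄k] → Ω[L⁄k]` is zero or injective, and it is injective
iff `L/K` is separable. -/
theorem map_zero_or_injective_and_iff (k : Type u) (K L : Type v) [Field k] [PerfectField k]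
    [Field K] [Field L] [Algebra k K] [Algebra k L] [Algebra K L] [IsScalarTower k K L]
    [Algebra.EssFiniteType k K] (x₀ : K) (hx₀ : IsTranscendenceBasis k (fun _ : Unit => x₀))
    [FiniteDimensional K L] :
    (KaehlerDifferential.map k k K L = 0 ∨
        Function.Injective (KaehlerDifferential.map k k K L)) ∧
      (Function.Injective (KaehlerDifferential.map k k K L) ↔ Algebra.IsSeparable K L) := by
  haveI : Algebra.EssFiniteType K L := inferInstance
  haveI : Algebra.EssFiniteType k L := Algebra.EssFiniteType.comp k K L
  haveI : Algebra.IsAlgebraic K L := Algebra.IsAlgebraic.of_finite K L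
  obtain ⟨hK1, hK2⟩ := finrank_eq_card k K (fun _ : Unit => x₀) hx₀
  obtain ⟨hL1, hL2⟩ := finrank_eq_card k L (algebraMap K L ∘ fun _ : Unit => x₀)
    hx₀.algebraMap_comp
  rw [Fintype.card_unit] at hK2 hL2
  set φ := KaehlerDifferential.map k k K L with hφ
  let bK : Module.Basis Unit K (Ω[K⁄k]) := Module.basisUnique Unit hK2
  set ω : Ω[K⁄k] := bK () with hω
  have hgen : ∀ w : Ω[K⁄k], ∃ c : K, w = c • ω := by
    intro w
    refine ⟨bK.repr w (), ?_⟩
    conv_lhs => rw [← bK.sum_repr w]
    simp [hω]
  have hsmul : ∀ (c : K) (m : Ω[L⁄k]), c • m = 0 → c = 0 ∨ m = 0 := by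
    intro c m h
    rw [← algebraMap_smul L c m, smul_eq_zero] at h
    rcases h with h | h
    · left
      exact (map_eq_zero (algebraMap K L)).mp h
    · right; exact h
  have h1 : φ = 0 ∨ Function.Injective φ := by
    by_cases h0 : φ ω = 0
    · left
      refine LinearMap.ext fun w => ?_
      obtain ⟨c, rfl⟩ := hgen w
      rw [map_smul, h0, smul_zero, LinearMap.zero_apply]
    · right
      rw [injective_iff_map_eq_zero]
      intro w hw
      obtain ⟨c, rfl⟩ := hgen w
      rw [map_smul] at hw
      rcases hsmul c _ hw with h | h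
      · rw [h, zero_smul]
      · exact absurd h h0
  refine ⟨h1, ?_, ?_⟩
  · intro hinj
    have hω0 : ω ≠ 0 := bK.ne_zero ()
    have hφω : φ ω ≠ 0 := fun h => hω0 (hinj (by rw [h, map_zero]))
    have hspanL : ∀ w : Ω[L⁄k], ∃ c : L, c • φ ω = w :=
      (finrank_eq_one_iff_of_nonzero' (φ ω) hφω).mp hL2
    have hsurj : Function.Surjective (KaehlerDifferential.map k K L L) :=
      KaehlerDifferential.map_surjective k K L
    have hkill : KaehlerDifferential.map k K L L (φ ω) = 0 := by
      have hex := KaehlerDifferential.exact_mapBaseChange_map k K L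
      have : φ ω = KaehlerDifferential.mapBaseChange k K L ((1 : L) ⊗ₜ[K] ω) := by
        rw [KaehlerDifferential.mapBaseChange_tmul, one_smul]
      rw [this]
      exact (hex _).mpr ⟨_, rfl⟩
    haveI : Subsingleton (Ω[L⁄K]) := by
      refine ⟨fun a b => ?_⟩
      obtain ⟨a', rfl⟩ := hsurj a
      obtain ⟨b', rfl⟩ := hsurj b
      obtain ⟨ca, rfl⟩ := hspanL a'
      obtain ⟨cb, rfl⟩ := hspanL b'
      rw [map_smul, map_smul, hkill, smul_zero, smul_zero]
    haveI : Algebra.FormallyUnramified K L := ⟨inferInstance⟩
    exact Algebra.FormallyUnramified.isSeparable K L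
  · intro hsep
    haveI : Algebra.FormallyEtale K L := Algebra.FormallyEtale.of_isSeparable K L
    rcases h1 with h | h
    · exfalso
      have h2 : (tensorKaehlerEquivOfFormallyEtale k K L) ((1 : L) ⊗ₜ[K] ω) = φ ω := by
        rw [tensorKaehlerEquivOfFormallyEtale_apply, KaehlerDifferential.mapBaseChange_tmul,
          one_smul]
      rw [h, LinearMap.zero_apply] at h2
      have h3 : (1 : L) ⊗ₜ[K] ω = 0 :=
        (tensorKaehlerEquivOfFormallyEtale k K L).injective (by rw [h2, map_zero])
      have h4 : (Algebra.TensorProduct.basis L bK) () = (1 : L) ⊗ₜ[K] ω :=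
        Algebra.TensorProduct.basis_apply _ _
      exact (Algebra.TensorProduct.basis L bK).ne_zero () (h4.trans h3)
    · exact h

end Groth.Agent.Lib.Helper22.KaehlerSepGen
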