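import Mathlib
import Groth.Prelude.Def_W4c4lgringredgrpLG

set_option autoImplicit false
universe u v w
open LGRing MvPolynomial TensorProduct

namespace Groth.Agent.Lib.Helper22.LG

theorem representsUnit_of_finite {R : Type u} [CommRing R] (hR : IsLGRing R) {σ : Type} [Finite σ]
    (f : MvPolynomial σ R) (h : ∀ (m : Ideal R) [m.IsMaximal], RepresentsUnit f (R ⧸ m)) :
    RepresentsUnit f R := by
  obtain ⟨n, ⟨e⟩⟩ := Finite.exists_equiv_fin σ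
  have := hR n (rename e f) (fun m _ => by
    obtain ⟨s, hs⟩ := h m
    refine ⟨s ∘ e.symm, ?_⟩
    rw [aeval_rename]
    have : (s ∘ e.symm) ∘ e = s := by ext x; simp
    rw [this]; exact hs)
  obtain ⟨s, hs⟩ := this
  exact ⟨s ∘ e, by rwa [aeval_rename] at hs⟩

section Generic

variable {n₁ n₂ : ℕ}

/-- index type for the generic pair of matrices -/
abbrev Idx (n₁ n₂ : ℕ) : Type := (Fin n₂ × Fin n₁) ⊕ (Fin n₁ × Fin n₂)

/-- The product of the two determinants. -/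
def expr {S : Type*} [CommRing S] (E₁ : Matrix (Fin n₁) (Fin n₁) S) (E₂ : Matrix (Fin n₂) (Fin n₂) S)
    (X : Matrix (Fin n₂) (Fin n₁) S) (Y : Matrix (Fin n₁) (Fin n₂) S) : S :=
  (E₁ * Y * E₂ * X * E₁ + (1 - E₁)).det * (E₂ * X * E₁ * Y * E₂ + (1 - E₂)).det

theorem expr_map {S T : Type*} [CommRing S] [CommRing T] (φ : S →+* T)
    (E₁ : Matrix (Fin n₁) (Fin n₁) S) (E₂ : Matrix (Fin n₂) (Fin n₂) S)
    (X : Matrix (Fin n₂) (Fin n₁) S) (Y : Matrix (Fin n₁) (Fin n₂) S) :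
    φ (expr E₁ E₂ X Y) = expr (E₁.map φ) (E₂.map φ) (X.map φ) (Y.map φ) := by
  unfold expr
  rw [map_mul, RingHom.map_det, RingHom.map_det, RingHom.mapMatrix_apply, RingHom.mapMatrix_apply]
  simp only [Matrix.map_add _ (map_add φ), Matrix.map_sub _ (map_sub φ), Matrix.map_mul,
    Matrix.map_one _ (map_zero φ) (map_one φ)]

variable {R : Type u} [CommRing R]

/-- generic `X` -/
noncomputable def genX : Matrix (Fin n₂) (Fin n₁) (MvPolynomial (Idx n₁ n₂) R) :=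
  Matrix.of fun i j => X (Sum.inl (i, j))

/-- generic `Y` -/
noncomputable def genY : Matrix (Fin n₁) (Fin n₂) (MvPolynomial (Idx n₁ n₂) R) :=
  Matrix.of fun i j => X (Sum.inr (i, j))

/-- The polynomial. -/
noncomputable def poly (E₁ : Matrix (Fin n₁) (Fin n₁) R) (E₂ : Matrix (Fin n₂) (Fin n₂) R) :
    MvPolynomial (Idx n₁ n₂) R :=
  expr (E₁.map C) (E₂.map C) genX genY

theorem aeval_poly (E₁ : Matrix (Fin n₁) (Fin n₁) R) (E₂ : Matrix (Fin n₂) (Fin n₂) R)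
    {S : Type*} [CommRing S] [Algebra R S] (s : Idx n₁ n₂ → S) :
    aeval s (poly E₁ E₂) = expr (E₁.map (algebraMap R S)) (E₂.map (algebraMap R S))
      (Matrix.of fun i j => s (Sum.inl (i, j))) (Matrix.of fun i j => s (Sum.inr (i, j))) := by
  unfold poly
  have := expr_map ((aeval s : MvPolynomial (Idx n₁ n₂) R →ₐ[R] S) : _ →+* S)
    (E₁.map C) (E₂.map C) (genX (R := R) (n₁ := n₁) (n₂ := n₂)) genY
  rw [RingHom.coe_coe] at this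
  rw [this]
  congr 1
  · ext i j; simp
  · ext i j; simp
  · ext i j; simp [genX]
  · ext i j; simp [genY]

end Generic

section Main

variable {R : Type u} [CommRing R]
variable {M₁ : Type v} {M₂ : Type w} [AddCommGroup M₁] [Module R M₁] [AddCommGroup M₂] [Module R M₂]
variable {n₁ n₂ : ℕ}
variable (i₁ : M₁ →ₗ[R] (Fin n₁ → R)) (p₁ : (Fin n₁ → R) →ₗ[R] M₁) (h₁ : p₁ ∘ₗ i₁ = LinearMap.id)
variable (i₂ : M₂ →ₗ[R] (Fin n₂ → R)) (p₂ : (Fin n₂ → R) →ₗ[R] M₂) (h₂ : p₂ ∘ₗ i₂ = LinearMap.id)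

theorem bijective_toLin'_of_isUnit_det {n : ℕ} (A : Matrix (Fin n) (Fin n) R) (h : IsUnit A.det) :
    Function.Bijective (Matrix.toLin' A) := by
  have h1 : IsUnit A := (Matrix.isUnit_iff_isUnit_det A).mpr h
  have h2 : IsUnit (Matrix.toLinAlgEquiv' A) := h1.map _
  exact (Module.End.isUnit_iff _).mp h2

include h₁ h₂ in
theorem nonempty_equiv_of_isUnit_expr (X : Matrix (Fin n₂) (Fin n₁) R) (Y : Matrix (Fin n₁) (Fin n₂) R)
    (hu : IsUnit (expr (LinearMap.toMatrix' (i₁ ∘ₗ p₁)) (LinearMap.toMatrix' (i₂ ∘ₗ p₂)) X Y)) :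
    Nonempty (M₁ ≃ₗ[R] M₂) := by
  unfold expr at hu
  rw [IsUnit.mul_iff] at hu
  obtain ⟨hA, hB⟩ := hu
  have hu := bijective_toLin'_of_isUnit_det _ hA
  have hv := bijective_toLin'_of_isUnit_det _ hB
  set Xl := Matrix.toLin' X with hXl
  set Yl := Matrix.toLin' Y with hYl
  have hpi₁ : ∀ m, p₁ (i₁ m) = m := fun m => LinearMap.congr_fun h₁ m
  have hpi₂ : ∀ m, p₂ (i₂ m) = m := fun m => LinearMap.congr_fun h₂ m
  have eu : Matrix.toLin' (LinearMap.toMatrix' (i₁ ∘ₗ p₁) * Y * LinearMap.toMatrix' (i₂ ∘ₗ p₂) * X *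
      LinearMap.toMatrix' (i₁ ∘ₗ p₁) + (1 - LinearMap.toMatrix' (i₁ ∘ₗ p₁))) =
      (i₁ ∘ₗ p₁) ∘ₗ Yl ∘ₗ (i₂ ∘ₗ p₂) ∘ₗ Xl ∘ₗ (i₁ ∘ₗ p₁) + (LinearMap.id - i₁ ∘ₗ p₁) := by
    simp only [map_add, map_sub, Matrix.toLin'_mul, Matrix.toLin'_toMatrix', Matrix.toLin'_one,
      LinearMap.comp_assoc, hXl, hYl]
  have ev : Matrix.toLin' (LinearMap.toMatrix' (i₂ ∘ₗ p₂) * X * LinearMap.toMatrix' (i₁ ∘ₗ p₁) * Y *
      LinearMap.toMatrix' (i₂ ∘ₗ p₂) + (1 - LinearMap.toMatrix' (i₂ ∘ₗ p₂))) =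
      (i₂ ∘ₗ p₂) ∘ₗ Xl ∘ₗ (i₁ ∘ₗ p₁) ∘ₗ Yl ∘ₗ (i₂ ∘ₗ p₂) + (LinearMap.id - i₂ ∘ₗ p₂) := by
    simp only [map_add, map_sub, Matrix.toLin'_mul, Matrix.toLin'_toMatrix', Matrix.toLin'_one,
      LinearMap.comp_assoc, hXl, hYl]
  rw [eu] at hu
  rw [ev] at hv
  let φ : M₁ →ₗ[R] M₂ := p₂ ∘ₗ Xl ∘ₗ i₁
  let ψ : M₂ →ₗ[R] M₁ := p₁ ∘ₗ Yl ∘ₗ i₂
  set U : (Fin n₁ → R) →ₗ[R] (Fin n₁ → R) :=
    (i₁ ∘ₗ p₁) ∘ₗ Yl ∘ₗ (i₂ ∘ₗ p₂) ∘ₗ Xl ∘ₗ (i₁ ∘ₗ p₁) + (LinearMap.id - i₁ ∘ₗ p₁) with hU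
  set V : (Fin n₂ → R) →ₗ[R] (Fin n₂ → R) :=
    (i₂ ∘ₗ p₂) ∘ₗ Xl ∘ₗ (i₁ ∘ₗ p₁) ∘ₗ Yl ∘ₗ (i₂ ∘ₗ p₂) + (LinearMap.id - i₂ ∘ₗ p₂) with hV
  have hu1 : ∀ m, U (i₁ m) = i₁ (ψ (φ m)) := by
    intro m
    simp [hU, φ, ψ, hpi₁]
  have hv2 : ∀ w, p₂ (V w) = φ (ψ (p₂ w)) := by
    intro w
    simp [hV, φ, ψ, hpi₂]
  have hφinj : Function.Injective φ := by
    rw [injective_iff_map_eq_zero]
    intro m hm
    have h0 := hu1 m
    rw [hm, map_zero, map_zero] at h0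
    have h1 : i₁ m = 0 := by
      apply hu.1
      rw [h0, map_zero]
    rw [← hpi₁ m, h1, map_zero]
  have hφsurj : Function.Surjective φ := by
    intro m₂
    obtain ⟨w, hw⟩ := hv.2 (i₂ m₂)
    refine ⟨ψ (p₂ w), ?_⟩
    rw [← hv2, hw, hpi₂]
  exact ⟨LinearEquiv.ofBijective φ ⟨hφinj, hφsurj⟩⟩

include h₁ h₂ in
theorem exists_expr_eq_one_of_equiv (k : Type*) [CommRing k] [Algebra R k]
    (α : k ⊗[R] M₁ ≃ₗ[k] k ⊗[R] M₂) :
    ∃ (X : Matrix (Fin n₂) (Fin n₁) k) (Y : Matrix (Fin n₁) (Fin n₂) k),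
      expr ((LinearMap.toMatrix' (i₁ ∘ₗ p₁)).map (algebraMap R k))
        ((LinearMap.toMatrix' (i₂ ∘ₗ p₂)).map (algebraMap R k)) X Y = 1 := by
  let b₁ := Algebra.TensorProduct.basis k (Pi.basisFun R (Fin n₁))
  let b₂ := Algebra.TensorProduct.basis k (Pi.basisFun R (Fin n₂))
  have hE₁ : (LinearMap.toMatrix' (i₁ ∘ₗ p₁)).map (algebraMap R k) =
      LinearMap.toMatrix b₁ b₁ ((i₁ ∘ₗ p₁).baseChange k) := by
    rw [LinearMap.toMatrix_baseChange, LinearMap.toMatrix_eq_toMatrix']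
  have hE₂ : (LinearMap.toMatrix' (i₂ ∘ₗ p₂)).map (algebraMap R k) =
      LinearMap.toMatrix b₂ b₂ ((i₂ ∘ₗ p₂).baseChange k) := by
    rw [LinearMap.toMatrix_baseChange, LinearMap.toMatrix_eq_toMatrix']
  have hk₁ : ∀ x, p₁.baseChange k (i₁.baseChange k x) = x := by
    intro x
    rw [← LinearMap.comp_apply, ← LinearMap.baseChange_comp, h₁, LinearMap.baseChange_id]
    rfl
  have hk₂ : ∀ x, p₂.baseChange k (i₂.baseChange k x) = x := by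
    intro x
    rw [← LinearMap.comp_apply, ← LinearMap.baseChange_comp, h₂, LinearMap.baseChange_id]
    rfl
  let Xl : k ⊗[R] (Fin n₁ → R) →ₗ[k] k ⊗[R] (Fin n₂ → R) :=
    i₂.baseChange k ∘ₗ α.toLinearMap ∘ₗ p₁.baseChange k
  let Yl : k ⊗[R] (Fin n₂ → R) →ₗ[k] k ⊗[R] (Fin n₁ → R) :=
    i₁.baseChange k ∘ₗ α.symm.toLinearMap ∘ₗ p₂.baseChange k
  refine ⟨LinearMap.toMatrix b₁ b₂ Xl, LinearMap.toMatrix b₂ b₁ Yl, ?_⟩
  unfold expr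
  rw [hE₁, hE₂]
  simp only [← LinearMap.toMatrix_comp]
  have c1 : ((((i₁ ∘ₗ p₁).baseChange k ∘ₗ Yl) ∘ₗ (i₂ ∘ₗ p₂).baseChange k) ∘ₗ Xl) ∘ₗ
      (i₁ ∘ₗ p₁).baseChange k = (i₁ ∘ₗ p₁).baseChange k := by
    apply LinearMap.ext
    intro x
    simp [Xl, Yl, LinearMap.baseChange_comp, hk₁, hk₂]
  have c2 : ((((i₂ ∘ₗ p₂).baseChange k ∘ₗ Xl) ∘ₗ (i₁ ∘ₗ p₁).baseChange k) ∘ₗ Yl) ∘ₗ
      (i₂ ∘ₗ p₂).baseChange k = (i₂ ∘ₗ p₂).baseChange k := by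
    apply LinearMap.ext
    intro x
    simp [Xl, Yl, LinearMap.baseChange_comp, hk₁, hk₂]
  rw [c1, c2]
  simp

end Main


section Final

variable {R : Type u} [CommRing R]

/-- **Main theorem on LG-rings**: finite projective modules over an LG-ring with isomorphic fibres at all
maximal ideals are isomorphic. -/
theorem nonempty_linearEquiv_of_fibers (hR : IsLGRing R) (M₁ : Type v) (M₂ : Type w)
    [AddCommGroup M₁] [Module R M₁] [Module.Finite R M₁] [Module.Projective R M₁]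
    [AddCommGroup M₂] [Module R M₂] [Module.Finite R M₂] [Module.Projective R M₂]
    (h : ∀ (m : Ideal R) [m.IsMaximal],
      Nonempty ((R ⧸ m) ⊗[R] M₁ ≃ₗ[R ⧸ m] (R ⧸ m) ⊗[R] M₂)) : Nonempty (M₁ ≃ₗ[R] M₂) := by
  obtain ⟨n₁, p₁, i₁, -, -, h₁⟩ := Module.Finite.exists_comp_eq_id_of_projective R M₁
  obtain ⟨n₂, p₂, i₂, -, -, h₂⟩ := Module.Finite.exists_comp_eq_id_of_projective R M₂
  have hrep := representsUnit_of_finite hR
    (poly (LinearMap.toMatrix' (i₁ ∘ₗ p₁)) (LinearMap.toMatrix' (i₂ ∘ₗ p₂))) (fun m _ => by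
      obtain ⟨α⟩ := h m
      obtain ⟨X, Y, hXY⟩ := exists_expr_eq_one_of_equiv i₁ p₁ h₁ i₂ p₂ h₂ (R ⧸ m) α
      refine ⟨Sum.elim (fun ij => X ij.1 ij.2) (fun ij => Y ij.1 ij.2), ?_⟩
      rw [aeval_poly]
      have e1 : (Matrix.of fun i j => Sum.elim (fun ij : Fin n₂ × Fin n₁ => X ij.1 ij.2)
          (fun ij : Fin n₁ × Fin n₂ => Y ij.1 ij.2) (Sum.inl (i, j))) = X := by
        ext i j; rfl
      have e2 : (Matrix.of fun i j => Sum.elim (fun ij : Fin n₂ × Fin n₁ => X ij.1 ij.2)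
          (fun ij : Fin n₁ × Fin n₂ => Y ij.1 ij.2) (Sum.inr (i, j))) = Y := by
        ext i j; rfl
      rw [e1, e2, hXY]
      exact isUnit_one)
  obtain ⟨s, hs⟩ := hrep
  rw [aeval_poly] at hs
  have e3 : ∀ {n : ℕ} (E : Matrix (Fin n) (Fin n) R), E.map (algebraMap R R) = E := by
    intro n E; ext i j; rfl
  rw [e3, e3] at hs
  exact nonempty_equiv_of_isUnit_expr i₁ p₁ h₁ i₂ p₂ h₂ _ _ hs

/-- Version with equal fibre dimensions. -/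
theorem nonempty_linearEquiv_of_finrank_eq (hR : IsLGRing R) (M₁ : Type v) (M₂ : Type w)
    [AddCommGroup M₁] [Module R M₁] [Module.Finite R M₁] [Module.Projective R M₁]
    [AddCommGroup M₂] [Module R M₂] [Module.Finite R M₂] [Module.Projective R M₂]
    (h : ∀ (m : Ideal R) [m.IsMaximal],
      Module.finrank (R ⧸ m) ((R ⧸ m) ⊗[R] M₁) = Module.finrank (R ⧸ m) ((R ⧸ m) ⊗[R] M₂)) :
    Nonempty (M₁ ≃ₗ[R] M₂) := by
  apply nonempty_linearEquiv_of_fibers hR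
  intro m _
  letI := Ideal.Quotient.field m
  exact FiniteDimensional.nonempty_linearEquiv_of_finrank_eq (h m)

end Final

end Groth.Agent.Lib.Helper22.LG
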