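import Mathlib
import Groth.Agent.Lib.Helper22.LGRing

/-!
# Fibre dimension lemmas for LG-ring applications
-/

set_option autoImplicit false
universe u v w
open LGRing MvPolynomial TensorProduct

namespace Groth.Agent.Lib.Helper22.LG

/-- A finite faithful module has nonzero fibres at every maximal ideal. -/
theorem nontrivial_fiber {R : Type u} [CommRing R] (N : Type v) [AddCommGroup N] [Module R N]
    [Module.Finite R N] [FaithfulSMul R N] (m : Ideal R) [hm : m.IsMaximal] :
    Nontrivial ((R ⧸ m) ⊗[R] N) := by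
  by_contra hnt
  rw [not_nontrivial_iff_subsingleton] at hnt
  have e := TensorProduct.quotTensorEquivQuotSMul N m
  have hs : Subsingleton (N ⧸ (m • ⊤ : Submodule R N)) := e.symm.toEquiv.subsingleton
  rw [Submodule.Quotient.subsingleton_iff] at hs
  obtain ⟨r, hr1, hr2⟩ := Submodule.exists_sub_one_mem_and_smul_eq_zero_of_fg_of_le_smul m
    (⊤ : Submodule R N) Module.Finite.fg_top (by rw [hs])
  have hr0 : r = 0 := by
    apply FaithfulSMul.eq_of_smul_eq_smul (M := R) (α := N)
    intro n
    rw [zero_smul]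
    exact hr2 n Submodule.mem_top
  rw [hr0, zero_sub] at hr1
  have : (1 : R) ∈ m := by simpa using m.neg_mem hr1
  exact hm.ne_top ((Ideal.eq_top_iff_one m).mpr this)

/-- The fibre dimension at a maximal ideal is the rank at the stalk. -/
theorem finrank_quotient_tensor_eq_rankAtStalk {R : Type u} [CommRing R] (M : Type v)
    [AddCommGroup M] [Module R M] [Module.Finite R M] [Module.Flat R M]
    (m : Ideal R) [hm : m.IsMaximal] :
    letI := Ideal.Quotient.field m
    Module.finrank (R ⧸ m) ((R ⧸ m) ⊗[R] M) = Module.rankAtStalk M ⟨m, hm.isPrime⟩ := by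
  letI := Ideal.Quotient.field m
  rw [Module.rankAtStalk_eq]
  let κ := m.ResidueField
  let e : κ ⊗[R ⧸ m] ((R ⧸ m) ⊗[R] M) ≃ₗ[κ] κ ⊗[R] M :=
    AlgebraTensorModule.cancelBaseChange _ _ _ _ _
  show _ = Module.finrank κ (κ ⊗[R] M)
  have h1 : Module.finrank κ (κ ⊗[R ⧸ m] ((R ⧸ m) ⊗[R] M)) =
      Module.finrank (R ⧸ m) ((R ⧸ m) ⊗[R] M) := Module.finrank_baseChange
  rw [← e.finrank_eq, h1]

end Groth.Agent.Lib.Helper22.LG
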