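import Mathlib
import Groth.Agent.Lib.Helper22.LangModP
import Groth.Agent.Lib.Helper22.LangWitt

/-!
# Fixed vectors of a Frobenius-semilinear bijection of a free `W(k)`-module (helper22)
-/

set_option autoImplicit false
set_option linter.unusedSectionVars false

noncomputable section

namespace Groth.Agent.Lib.Helper22.Lang

section

variable {p : ℕ} [Fact p.Prime] {k : Type*} [Field k] [CharP k p] [PerfectRing k p]
variable {M : Type*} [AddCommGroup M] [Module (WittVector p k) M]

/-- A surjective `θ`-semilinear additive endomorphism of a finite free `W(k)`-module, `θ` lifting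
a non-trivial Frobenius power of the algebraically closed field `k`, has its fixed vectors
spanning the module. -/
theorem top_le_span_fixed_of_basis [IsAlgClosed k] {n : ℕ}
    (b : Module.Basis (Fin n) (WittVector p k) M)
    (θ : WittVector p k →+* WittVector p k) (e : k ≃+* k) (q : ℕ) (hq : 2 ≤ q)
    (hθe : ∀ w : WittVector p k, (θ w).coeff 0 = e (w.coeff 0))
    (he : (∀ x, e x = x ^ q) ∨ (∀ x, e.symm x = x ^ q))
    (G : M →+ M) (hG : ∀ (w : WittVector p k) (m : M), G (w • m) = θ w • G m)
    (hsurj : Function.Surjective G) :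
    ⊤ ≤ Submodule.span (WittVector p k) {v : M | G v = v} := by
  classical
  -- coordinates
  set E : (Fin n → WittVector p k) ≃ₗ[WittVector p k] M := b.equivFun.symm with hE
  have hEx : ∀ x, E x = ∑ j, x j • b j := fun x => b.equivFun_symm_apply x
  set A : Matrix (Fin n) (Fin n) (WittVector p k) := Matrix.of fun i j => b.repr (G (b j)) i
    with hA
  have hGb : ∀ j, G (b j) = ∑ i, A i j • b i := fun j => (b.sum_repr (G (b j))).symm
  have hmap : ∀ x : Fin n → WittVector p k, G (E x) = E (A.mulVec fun j => θ (x j)) := by
    intro x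
    rw [hEx, hEx, map_sum]
    simp only [hG, hGb, Finset.smul_sum, smul_smul, Matrix.mulVec, dotProduct, Finset.sum_smul]
    rw [Finset.sum_comm]
    refine Finset.sum_congr rfl fun i _ => Finset.sum_congr rfl fun j _ => ?_
    rw [mul_comm]
  -- a right inverse
  have h1 : ∀ j, ∃ x : Fin n → WittVector p k, G (E x) = b j := by
    intro j
    obtain ⟨m, hm⟩ := hsurj (b j)
    obtain ⟨x, rfl⟩ := E.surjective m
    exact ⟨x, hm⟩
  choose X hX using h1
  have hEsingle : ∀ j, E (Pi.single j 1) = b j := by
    intro j
    rw [hEx, Finset.sum_eq_single j]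
    · rw [Pi.single_eq_same, one_smul]
    · intro l _ hlj
      rw [Pi.single_eq_of_ne hlj, zero_smul]
    · intro hj
      exact (hj (Finset.mem_univ j)).elim
  have hX' : ∀ j, A.mulVec (fun l => θ (X j l)) = Pi.single j 1 := by
    intro j
    apply E.injective
    rw [← hmap, hX, hEsingle]
  have hAA' : A * Matrix.of (fun i j => θ (X j i)) = 1 := by
    ext i j
    rw [Matrix.mul_apply]
    have := congrFun (hX' j) i
    simp only [Matrix.mulVec, dotProduct, Matrix.of_apply] at this ⊢
    rw [this, Matrix.one_apply, Pi.single_apply]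
  -- reduction modulo `p`
  set Ab : Matrix (Fin n) (Fin n) k := A.map (WittVector.constantCoeff (p := p) (R := k)) with hAb
  set Bb : Matrix (Fin n) (Fin n) k :=
    (Matrix.of (fun i j => θ (X j i))).map (WittVector.constantCoeff (p := p) (R := k)) with hBb
  have hAB : Ab * Bb = 1 := by
    rw [hAb, hBb, ← Matrix.map_mul, hAA', Matrix.map_one _ (map_zero _) (map_one _)]
  have hBA : Bb * Ab = 1 := mul_eq_one_comm.mp hAB
  let φ : (Fin n → k) →ₛₗ[(e : k →+* k)] (Fin n → k) :=
    { toFun := fun v => Ab.mulVec (fun j => e (v j))
      map_add' := fun v w => by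
        have : (fun j => e ((v + w) j)) = (fun j => e (v j)) + fun j => e (w j) := by
          ext j; simp
        rw [this, Matrix.mulVec_add]
      map_smul' := fun c v => by
        have : (fun j => e ((c • v) j)) = e c • fun j => e (v j) := by
          ext j; simp
        rw [this, Matrix.mulVec_smul]
        rfl }
  have hφ_apply : ∀ v, φ v = Ab.mulVec (fun j => e (v j)) := fun v => rfl
  have hφ : Function.Bijective φ := by
    constructor
    · intro v w hvw
      rw [hφ_apply, hφ_apply] at hvw
      have h2 := congrArg Bb.mulVec hvw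
      rw [Matrix.mulVec_mulVec, Matrix.mulVec_mulVec, hBA, Matrix.one_mulVec,
        Matrix.one_mulVec] at h2
      funext j
      exact e.injective (congrFun h2 j)
    · intro w
      refine ⟨fun j => e.symm (Bb.mulVec w j), ?_⟩
      rw [hφ_apply]
      simp only [RingEquiv.apply_symm_apply]
      rw [Matrix.mulVec_mulVec, hAB, Matrix.one_mulVec]
  obtain ⟨hspan, hsurjφ⟩ := lang e q hq he φ hφ
  have hLsurj : ∀ c' : Fin n → k, ∃ y, LopBar (e : k →+* k) A y = c' := by
    intro c'
    obtain ⟨y, hy⟩ := hsurjφ (-c')
    refine ⟨y, ?_⟩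
    have : LopBar (e : k →+* k) A y = y - φ y := rfl
    rw [this, ← neg_sub, hy, neg_neg]
  -- lifting fixed vectors
  have hfix : ∀ x' : Fin n → k, φ x' = x' →
      ∃ x : Fin n → WittVector p k, red x = x' ∧ G (E x) = E x := by
    intro x' hx'
    have h0 : LopBar (e : k →+* k) A x' = red (0 : Fin n → WittVector p k) := by
      have : LopBar (e : k →+* k) A x' = x' - φ x' := rfl
      rw [this, hx', sub_self]
      ext i
      simp [red]
    obtain ⟨x, hx, hred⟩ := exists_lift θ (e : k →+* k) A hθe hLsurj 0 x' h0
    refine ⟨x, hred, ?_⟩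
    rw [hmap]
    congr 1
    have : x - A.mulVec (fun j => θ (x j)) = 0 := hx
    exact (sub_eq_zero.mp this).symm
  -- Nakayama
  have hdiv : ∀ z : Fin n → WittVector p k, red z = 0 →
      E z ∈ (Ideal.span {(p : WittVector p k)}) • (⊤ : Submodule (WittVector p k) M) := by
    intro z hz
    have h1 : ∀ i, ∃ w, z i = (p : WittVector p k) * w := fun i =>
      dvd_of_coeff_zero_eq_zero (by
        have := congrFun hz i
        simpa [red] using this)
    choose z' hz' using h1
    have : z = (p : WittVector p k) • z' := funext fun i => by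
      rw [Pi.smul_apply, smul_eq_mul, hz']
    rw [this, map_smul]
    exact Submodule.smul_mem_smul (Ideal.mem_span_singleton_self _) Submodule.mem_top
  have lift : ∀ y' : Fin n → k, ∃ y : Fin n → WittVector p k, red y = y' := fun y' =>
    ⟨fun i => WittVector.teichmuller p (y' i), funext fun i => by
      simp only [red, WittVector.constantCoeff_apply]
      exact WittVector.teichmuller_coeff_zero p _⟩
  have key : ∀ x' ∈ Submodule.span k {v | φ v = v},
      ∀ x : Fin n → WittVector p k, red x = x' →
      E x ∈ Submodule.span (WittVector p k) {v : M | G v = v} ⊔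
        (Ideal.span {(p : WittVector p k)}) • (⊤ : Submodule (WittVector p k) M) := by
    intro x' hx'
    induction hx' using Submodule.span_induction with
    | mem x' hx' =>
      intro x hx
      obtain ⟨y, hy, hGy⟩ := hfix x' hx'
      have h2 : E x = E y + E (x - y) := by
        rw [← map_add, add_sub_cancel]
      rw [h2]
      refine Submodule.add_mem _ (Submodule.mem_sup_left
        (Submodule.subset_span hGy)) (Submodule.mem_sup_right (hdiv _ ?_))
      rw [red_sub, hx, hy, sub_self]
    | zero =>
      intro x hx
      exact Submodule.mem_sup_right (hdiv x hx)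
    | add x' y' _ _ hx hy =>
      intro z hz
      obtain ⟨x₁, hx₁⟩ := lift x'
      obtain ⟨y₁, hy₁⟩ := lift y'
      have h2 : E z = E x₁ + E y₁ + E (z - (x₁ + y₁)) := by
        rw [← map_add, ← map_add, add_sub_cancel]
      rw [h2]
      refine Submodule.add_mem _ (Submodule.add_mem _ (hx x₁ hx₁) (hy y₁ hy₁))
        (Submodule.mem_sup_right (hdiv _ ?_))
      rw [red_sub, red_add, hz, hx₁, hy₁, sub_self]
    | smul c' x' _ hx =>
      intro z hz
      obtain ⟨x₁, hx₁⟩ := lift x'
      have h2 : E z = WittVector.teichmuller p c' • E x₁ +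
          E (z - WittVector.teichmuller p c' • x₁) := by
        rw [← map_smul, ← map_add, add_sub_cancel]
      rw [h2]
      refine Submodule.add_mem _ (Submodule.smul_mem _ _ (hx x₁ hx₁))
        (Submodule.mem_sup_right (hdiv _ ?_))
      rw [red_sub, hz]
      have : red (WittVector.teichmuller p c' • x₁) = c' • x' := by
        ext i
        simp only [red, Pi.smul_apply, smul_eq_mul, map_mul, WittVector.constantCoeff_apply,
          WittVector.teichmuller_coeff_zero]
        rw [← hx₁]
        rfl
      rw [this, sub_self]
  have hjac : Ideal.span {(p : WittVector p k)} ≤ Ideal.jacobson ⊥ := by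
    rw [IsLocalRing.jacobson_eq_maximalIdeal ⊥ bot_ne_top, Ideal.span_singleton_le_iff_mem,
      IsLocalRing.mem_maximalIdeal]
    exact (WittVector.irreducible p).not_isUnit
  have hfg : (⊤ : Submodule (WittVector p k) M).FG :=
    (Module.Finite.of_basis b).fg_top
  apply Submodule.le_of_le_smul_of_le_jacobson_bot hfg hjac
  intro y _
  obtain ⟨x, rfl⟩ := E.surjective y
  exact key (red x) (by rw [hspan]; trivial) x rfl

end

end Groth.Agent.Lib.Helper22.Lang
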