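import Mathlib.Algebra.Category.ModuleCat.FilteredColimits
import Mathlib.Algebra.Category.ModuleCat.Basic
import Mathlib.Algebra.Module.LocalizedModule.Basic
import Mathlib.CategoryTheory.Filtered.Basic
import Mathlib.CategoryTheory.Limits.ConcreteCategory.Basic
import Mathlib.CategoryTheory.ConcreteCategory.EpiMono
import Mathlib.CategoryTheory.Limits.Types.Filtered
import Mathlib.CategoryTheory.Linear.LinearFunctor
import Mathlib.CategoryTheory.Limits.Preserves.Filtered

set_option autoImplicit false
universe u

open CategoryTheory CategoryTheory.Limits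

namespace Groth.Agent.Lib.Helper22

variable {A : Type u} [CommRing A]

/-- Index category for presenting a localization as a filtered colimit. -/
structure SIdx (S : Submonoid A) : Type u where
  /-- underlying element -/
  val : S

namespace SIdx

variable {S : Submonoid A}

instance : SmallCategory (SIdx S) where
  Hom s t := {x : S // s.val * x = t.val}
  id s := ⟨1, mul_one _⟩
  comp f g := ⟨f.1 * g.1, by rw [← mul_assoc, f.2, g.2]⟩
  id_comp f := Subtype.ext (one_mul _)
  comp_id f := Subtype.ext (mul_one _)
  assoc f g h := Subtype.ext (mul_assoc _ _ _)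

lemma comp_val {s t r : SIdx S} (f : s ⟶ t) (g : t ⟶ r) : (f ≫ g).1 = f.1 * g.1 := rfl

lemma id_val (s : SIdx S) : (𝟙 s : s ⟶ s).1 = 1 := rfl

instance : IsFiltered (SIdx S) where
  cocone_objs s t := ⟨⟨s.val * t.val⟩, ⟨t.val, rfl⟩, ⟨s.val, mul_comm _ _⟩, trivial⟩
  cocone_maps {s t} f g := ⟨⟨t.val * s.val⟩, ⟨s.val, rfl⟩, Subtype.ext (by
    rw [comp_val, comp_val]
    change f.1 * s.val = g.1 * s.val
    rw [mul_comm, f.2, mul_comm, g.2])⟩
  nonempty := ⟨⟨1⟩⟩

end SIdx

variable (S : Submonoid A) (M : ModuleCat.{u} A)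

/-- multiplication by a scalar as an endomorphism -/
noncomputable def mulEnd (a : A) : M ⟶ M := a • 𝟙 M

lemma mulEnd_apply (a : A) (m : M) : (mulEnd M a).hom m = a • m := rfl

lemma mulEnd_one : mulEnd M 1 = 𝟙 M := one_smul _ _

lemma mulEnd_mul (a b : A) : mulEnd M (a * b) = mulEnd M a ≫ mulEnd M b := by
  ext m
  change (a * b) • m = b • a • m
  rw [mul_comm, mul_smul]

/-- The diagram `s ↦ M` with transition maps given by multiplication. -/
noncomputable def locDiag : SIdx S ⥤ ModuleCat.{u} A where
  obj _ := M
  map f := mulEnd M ((f.1 : S) : A)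
  map_id s := by
    rw [SIdx.id_val, Submonoid.coe_one, mulEnd_one]
  map_comp f g := by
    rw [SIdx.comp_val, Submonoid.coe_mul, mulEnd_mul]

/-- component of the cocone: `m ↦ m / s` -/
noncomputable def locι (s : S) : M ⟶ ModuleCat.of A (LocalizedModule S M) :=
  ModuleCat.ofHom (LocalizedModule.divBy s ∘ₗ LocalizedModule.mkLinearMap S M)

lemma locι_apply (s : S) (m : M) : (locι S M s).hom m = LocalizedModule.mk m s := by
  change LocalizedModule.divBy s (LocalizedModule.mkLinearMap S M m) = _
  rw [LocalizedModule.mkLinearMap_apply, LocalizedModule.divBy_apply, LocalizedModule.liftOn_mk,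
    one_mul]

lemma mulEnd_locι (s t : S) : mulEnd M (t : A) ≫ locι S M (s * t) = locι S M s := by
  ext m
  change (locι S M (s * t)).hom ((t : A) • m) = (locι S M s).hom m
  rw [locι_apply, locι_apply]
  exact LocalizedModule.mk_cancel_common_right s t m

lemma smul_locι (s : S) :
    (s : A) • locι S M s = ModuleCat.ofHom (LocalizedModule.mkLinearMap S M) := by
  ext m
  change (s : A) • (locι S M s).hom m = LocalizedModule.mkLinearMap S M m
  rw [locι_apply, LocalizedModule.mkLinearMap_apply, LocalizedModule.smul'_mk]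
  exact LocalizedModule.mk_cancel s m

lemma locι_one : locι S M 1 = ModuleCat.ofHom (LocalizedModule.mkLinearMap S M) := by
  rw [← smul_locι S M 1, Submonoid.coe_one, one_smul]

/-- The cocone exhibiting the localized module as a colimit. -/
noncomputable def locCocone : Cocone (locDiag S M) where
  pt := ModuleCat.of A (LocalizedModule S M)
  ι :=
    { app := fun s => locι S M s.val
      naturality := by
        intro s t f
        change mulEnd M ((f.1 : S) : A) ≫ locι S M t.val = locι S M s.val ≫ 𝟙 _
        rw [Category.comp_id]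
        have := mulEnd_locι S M s.val f.1
        rw [f.2] at this
        exact this }

/-- The localized module is the colimit of `locDiag`. -/
noncomputable def locCoconeIsColimit : IsColimit (locCocone S M) := by
  apply isColimitOfReflects (forget (ModuleCat.{u} A))
  apply Types.FilteredColimit.isColimitOf
  · intro x
    induction x using LocalizedModule.induction_on with
    | h m s => exact ⟨⟨s⟩, m, (locι_apply S M s m).symm⟩
  · intro i j xi xj h
    have h2 : (locι S M i.val).hom (xi : M) = (locι S M j.val).hom (xj : M) := h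
    rw [locι_apply, locι_apply, LocalizedModule.mk_eq] at h2
    obtain ⟨c, hc⟩ := h2
    refine ⟨⟨i.val * j.val * c⟩, ⟨j.val * c, by rw [mul_assoc]⟩,
      ⟨i.val * c, by rw [mul_comm i.val j.val, mul_assoc]⟩, ?_⟩
    change (mulEnd M ((j.val * c : S) : A)).hom (xi : M) = (mulEnd M ((i.val * c : S) : A)).hom (xj : M)
    rw [mulEnd_apply, mulEnd_apply, Submonoid.coe_mul, Submonoid.coe_mul, mul_comm _ (c : A),
      mul_comm _ (c : A), mul_smul, mul_smul]
    exact hc

section Functor

variable (T : ModuleCat.{u} A ⥤ ModuleCat.{u} A) [T.Linear A]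

lemma map_mulEnd (a : A) : T.map (mulEnd M a) = mulEnd (T.obj M) a := by
  change T.map (a • 𝟙 M) = a • 𝟙 (T.obj M)
  rw [T.map_smul, T.map_id]

theorem isLocalizedModule_map
    (hT : ∀ (J : Type u) [SmallCategory J] [IsFiltered J], PreservesColimitsOfShape J T) :
    IsLocalizedModule S (T.map (ModuleCat.ofHom (LocalizedModule.mkLinearMap S M) :
      M ⟶ ModuleCat.of A (LocalizedModule S M))).hom := by
  have := hT (SIdx S)
  have hc : IsColimit (T.mapCocone (locCocone S M)) :=
    isColimitOfPreserves T (locCoconeIsColimit S M)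
  let L : ModuleCat.{u} A := ModuleCat.of A (LocalizedModule S M)
  refine ⟨?_, ?_, ?_⟩
  · intro s
    have hg : IsIso (mulEnd L (s : A)) := by
      refine ⟨ModuleCat.ofHom (LocalizedModule.divBy s), ?_, ?_⟩
      · ext x
        exact LocalizedModule.divBy_mul_by s x
      · ext x
        exact LocalizedModule.mul_by_divBy s x
    have hbij : Function.Bijective (T.map (mulEnd L (s : A))).hom :=
      ConcreteCategory.bijective_of_isIso (T.map (mulEnd L (s : A)))
    rw [map_mulEnd] at hbij
    rw [Module.End.isUnit_iff]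
    exact hbij
  · intro y
    obtain ⟨s, z, hz⟩ := Concrete.isColimit_exists_rep _ hc y
    refine ⟨(z, s.val), ?_⟩
    have hz' : (T.map (locι S M s.val)).hom z = y := hz
    change s.val • y = (T.map (ModuleCat.ofHom (LocalizedModule.mkLinearMap S M))).hom z
    rw [← smul_locι S M s.val, T.map_smul, ← hz']
    rfl
  · intro x₁ x₂ h
    have h' : (T.mapCocone (locCocone S M)).ι.app ⟨1⟩ x₁ =
        (T.mapCocone (locCocone S M)).ι.app ⟨1⟩ x₂ := by
      change (T.map (locι S M 1)).hom x₁ = (T.map (locι S M 1)).hom x₂
      rw [locι_one]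
      exact h
    obtain ⟨k, f, g, hfg⟩ := Concrete.isColimit_exists_of_rep_eq _ hc x₁ x₂ h'
    refine ⟨f.1, ?_⟩
    have hfg1 : f.1 = g.1 := by
      have h1 := f.2
      have h2 := g.2
      simp only [one_mul] at h1 h2
      rw [h1, h2]
    have hfg' : (T.map (mulEnd M ((f.1 : S) : A))).hom x₁ =
        (T.map (mulEnd M ((g.1 : S) : A))).hom x₂ := hfg
    rw [map_mulEnd, map_mulEnd, ← hfg1, mulEnd_apply, mulEnd_apply] at hfg'
    exact hfg'

end Functor

end Groth.Agent.Lib.Helper22
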