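import Mathlib
import Groth.Agent.Lib.Helper22.SchGeomIrr
import Groth.Agent.Lib.Helper18.GeomIrrGen

/-!
# Locally trivial fibrations with irreducible fibre (helper22)
-/

set_option autoImplicit false
set_option linter.style.haveILetI false
universe u
noncomputable section
namespace Groth.Agent.Lib.Helper22.LocTriv

open CategoryTheory CategoryTheory.Limits AlgebraicGeometry
open Groth.Agent.Lib.Helper18

/-- A space covered by pairwise-meeting irreducible open subsets is irreducible. -/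
theorem irreducibleSpace_of_open_cover {A ι : Type*} [TopologicalSpace A] [Nonempty ι]
    (U : ι → Set A) (hUo : ∀ i, IsOpen (U i)) (hUirr : ∀ i, IsIrreducible (U i))
    (hcov : ∀ a : A, ∃ i, a ∈ U i) (hmeet : ∀ i j, (U i ∩ U j).Nonempty) :
    IrreducibleSpace A := by
  obtain ⟨i₀⟩ := ‹Nonempty ι›
  have hdense : closure (U i₀) = Set.univ := by
    rw [Set.eq_univ_iff_forall]
    intro x
    rw [mem_closure_iff]
    intro N hN hxN
    obtain ⟨i, hi⟩ := hcov x
    have h1 : (U i ∩ N).Nonempty := ⟨x, hi, hxN⟩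
    have h2 : (U i ∩ U i₀).Nonempty := hmeet i i₀
    obtain ⟨y, -, hyN, hy0⟩ := (hUirr i).2 N (U i₀) hN (hUo i₀) h1 h2
    exact ⟨y, hyN, hy0⟩
  have h3 : IsIrreducible (Set.univ : Set A) := hdense ▸ (hUirr i₀).closure
  exact (irreducibleSpace_def A).mpr h3

variable {k : Type u} [Field k]

/-- Over an algebraically closed field, irreducible schemes are geometrically irreducible. -/
theorem geometricallyIrreducible_of_isAlgClosed [IsAlgClosed k] {F : Scheme.{u}}
    (qF : F ⟶ Spec (CommRingCat.of k)) [IrreducibleSpace ↥F] : GeometricallyIrreducible qF := by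
  apply GeomIrrGen.geometricallyIrreducible_of_generic qF
  letI : Algebra k (F.residueField (genericPoint F)) :=
    (GeomIrrGen.resMap qF (genericPoint F)).toAlgebra
  exact Groth.Agent.Lib.Helper22.SchGeomIrr.geometricallyIrreducible_specMap
    (k := k) (K := F.residueField (genericPoint F))

/-- EGA-type: a locally trivial fibration with irreducible fibre over an irreducible base over an
algebraically closed field has irreducible total space. -/
theorem irreducibleSpace_of_locallyTrivial [IsAlgClosed k] {X Y F : Scheme.{u}}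
    (qY : Y ⟶ Spec (CommRingCat.of k)) (qF : F ⟶ Spec (CommRingCat.of k))
    [IrreducibleSpace ↥F] [IrreducibleSpace ↥Y] (f : X ⟶ Y)
    (htriv : ∀ y : ↥Y, ∃ V : Y.Opens, y ∈ V ∧
      ∃ e : (↑(f ⁻¹ᵁ V) : Scheme.{u}) ≅ pullback (V.ι ≫ qY) qF,
        e.hom ≫ pullback.fst (V.ι ≫ qY) qF = f ∣_ V) :
    IrreducibleSpace ↥X := by
  haveI : GeometricallyIrreducible qF := geometricallyIrreducible_of_isAlgClosed qF
  haveI : Subsingleton ↥(Spec (CommRingCat.of k)) :=
    Groth.Agent.Lib.Helper22.SchGeomIrr.subsingleton_spec_field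
  haveI : UniversallyOpen qF := inferInstance
  choose V hyV e he using htriv
  haveI : Nonempty ↥Y := inferInstance
  -- each `V y` is irreducible
  have hVirr : ∀ y, IrreducibleSpace ↥(V y : Scheme.{u}) := by
    intro y
    haveI : Nonempty ↥(V y : Scheme.{u}) := ⟨⟨y, hyV y⟩⟩
    exact (V y).ι.isOpenEmbedding.irreducibleSpace
  -- each `f⁻¹(V y)` is irreducible
  have hUirr : ∀ y, IsIrreducible ((f ⁻¹ᵁ V y : X.Opens) : Set ↥X) := by
    intro y
    haveI := hVirr y
    haveI : IrreducibleSpace ↥(pullback ((V y).ι ≫ qY) qF) := inferInstance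
    haveI : IrreducibleSpace ↥(↑(f ⁻¹ᵁ V y) : Scheme.{u}) :=
      (e y).hom.homeomorph.irreducibleSpace_iff.mpr inferInstance
    have h1 : Set.range (f ⁻¹ᵁ V y).ι = ((f ⁻¹ᵁ V y : X.Opens) : Set ↥X) :=
      Scheme.Opens.range_ι _
    rw [← h1, ← Set.image_univ]
    exact (IrreducibleSpace.isIrreducible_univ _).image _
      (f ⁻¹ᵁ V y).ι.continuous.continuousOn
  -- `f ∣_ V y` is surjective
  have hsurj : ∀ y, ∀ v ∈ V y, ∃ x : ↥X, f x = v := by
    intro y v hv
    haveI : Surjective (pullback.fst ((V y).ι ≫ qY) qF) := inferInstance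
    obtain ⟨t, ht⟩ := (pullback.fst ((V y).ι ≫ qY) qF).surjective ⟨v, hv⟩
    refine ⟨(f ⁻¹ᵁ V y).ι ((e y).inv t), ?_⟩
    have h1 : (f ∣_ V y) ((e y).inv t) = ⟨v, hv⟩ := by
      rw [← he y, ← Scheme.Hom.comp_apply, Iso.inv_hom_id_assoc]
      exact ht
    have h2 : (f ⁻¹ᵁ V y).ι ≫ f = (f ∣_ V y) ≫ (V y).ι := (morphismRestrict_ι f (V y)).symm
    rw [← Scheme.Hom.comp_apply, h2, Scheme.Hom.comp_apply, h1]
    rfl
  refine irreducibleSpace_of_open_cover (ι := ↥Y) (fun y => ((f ⁻¹ᵁ V y : X.Opens) : Set ↥X))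
    (fun y => (f ⁻¹ᵁ V y).2) hUirr (fun a => ⟨f a, hyV (f a)⟩) ?_
  intro y y'
  have h1 : ((V y : Set ↥Y) ∩ (V y' : Set ↥Y)).Nonempty :=
    nonempty_preirreducible_inter (V y).2 (V y').2 ⟨y, hyV y⟩ ⟨y', hyV y'⟩
  obtain ⟨v, hv, hv'⟩ := h1
  obtain ⟨x, hx⟩ := hsurj y v hv
  exact ⟨x, by change f x ∈ V y; rw [hx]; exact hv, by change f x ∈ V y'; rw [hx]; exact hv'⟩

end Groth.Agent.Lib.Helper22.LocTriv
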