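import Groth.Agent.Lib.Helper22.LocColimit
import Mathlib.Algebra.Category.ModuleCat.Localization
import Mathlib.Algebra.Category.ModuleCat.ChangeOfRings
import Mathlib.Algebra.Category.ModuleCat.Abelian
import Mathlib.Algebra.Homology.ShortComplex.ExactFunctor
import Mathlib.Algebra.Homology.ShortComplex.ModuleCat
import Mathlib.RingTheory.LocalProperties.Exactness
import Mathlib.RingTheory.Localization.AtPrime.Basic

set_option autoImplicit false
universe u

open CategoryTheory CategoryTheory.Limits

namespace Groth.Agent.Lib.Helper22

variable {A : Type u} [CommRing A]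

section General

variable (T : ModuleCat.{u} A ⥤ ModuleCat.{u} A) [T.Linear A]
  (hT : ∀ (J : Type u) [SmallCategory J] [IsFiltered J], PreservesColimitsOfShape J T)
  (S : Submonoid A)

include hT in
/-- `T` sends any localization map to a localization map. -/
theorem isLocalizedModule_map' {M N : ModuleCat.{u} A} (f : M ⟶ N) [IsLocalizedModule S f.hom] :
    IsLocalizedModule S (T.map f).hom := by
  let e : LocalizedModule S M ≃ₗ[A] N := IsLocalizedModule.iso S f.hom
  let β : ModuleCat.of A (LocalizedModule S M) ≅ N := e.toModuleIso
  have hf : ModuleCat.ofHom (LocalizedModule.mkLinearMap S M) ≫ β.hom = f := by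
    ext x
    exact IsLocalizedModule.iso_mk_one S f.hom x
  have h0 := isLocalizedModule_map S M T hT
  have h1 := IsLocalizedModule.of_linearEquiv S
    (T.map (ModuleCat.ofHom (LocalizedModule.mkLinearMap S M))).hom (T.mapIso β).toLinearEquiv
  have h2 : (T.map f).hom = ((T.mapIso β).toLinearEquiv : _ →ₗ[A] _) ∘ₗ
      (T.map (ModuleCat.ofHom (LocalizedModule.mkLinearMap S M))).hom := by
    rw [← hf, T.map_comp]
    rfl
  rw [h2]
  exact h1

/-- The identity as an isomorphism onto the restriction of scalars. -/
noncomputable def restrictLinearEquiv (X : Type u) [AddCommGroup X] [Module A X]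
    [Module (Localization S) X] [IsScalarTower A (Localization S) X] :
    X ≃ₗ[A] ((ModuleCat.restrictScalars (algebraMap A (Localization S))).obj
      (ModuleCat.of (Localization S) X)) :=
  { toFun := fun x => x
    invFun := fun x => x
    map_add' := fun _ _ => rfl
    map_smul' := fun a x => (algebraMap_smul (Localization S) a x).symm
    left_inv := fun _ => rfl
    right_inv := fun _ => rfl }

/-- The identity as an isomorphism onto the restriction of scalars. -/
noncomputable def restrictIso (X : Type u) [AddCommGroup X] [Module A X] [Module (Localization S) X]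
    [IsScalarTower A (Localization S) X] :
    ModuleCat.of A X ≅ (ModuleCat.restrictScalars (algebraMap A (Localization S))).obj
      (ModuleCat.of (Localization S) X) :=
  (restrictLinearEquiv S X).toModuleIso

/-- the localization functor followed by restriction of scalars -/
noncomputable abbrev locRes : ModuleCat.{u} A ⥤ ModuleCat.{u} A :=
  ModuleCat.localizedModuleFunctor S ⋙ ModuleCat.restrictScalars (algebraMap A (Localization S))

/-- The localization map `M ⟶ S⁻¹M` with target the restriction of scalars. -/
noncomputable def locMap (M : ModuleCat.{u} A) : M ⟶ (locRes S).obj M :=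
  ModuleCat.ofHom (M.localizedModuleMkLinearMap S) ≫ (restrictIso S (M.localizedModule S)).hom

lemma locMap_apply (M : ModuleCat.{u} A) (x : M) :
    (locMap S M).hom x = M.localizedModuleMkLinearMap S x := rfl

instance (M : ModuleCat.{u} A) : IsLocalizedModule S (locMap S M).hom :=
  IsLocalizedModule.of_linearEquiv S (M.localizedModuleMkLinearMap S)
    (restrictIso S (M.localizedModule S)).toLinearEquiv

lemma locMap_naturality {M N : ModuleCat.{u} A} (g : M ⟶ N) :
    locMap S M ≫ (locRes S).map g = g ≫ locMap S N := by
  ext x
  change (ModuleCat.localizedModuleMap S g).hom (M.localizedModuleMkLinearMap S x) =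
    N.localizedModuleMkLinearMap S (g.hom x)
  rw [ModuleCat.localizedModuleMap_hom_apply]
  exact IsLocalizedModule.map_apply S _ _ g.hom x

include hT in
lemma map_eq {M N : ModuleCat.{u} A} (g : M ⟶ N) :
    have := isLocalizedModule_map' T hT S (locMap S M)
    have := isLocalizedModule_map' T hT S (locMap S N)
    IsLocalizedModule.map S (T.map (locMap S M)).hom (T.map (locMap S N)).hom (T.map g).hom =
      (T.map ((locRes S).map g)).hom := by
  have := isLocalizedModule_map' T hT S (locMap S M)
  have := isLocalizedModule_map' T hT S (locMap S N)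
  apply IsLocalizedModule.linearMap_ext S (T.map (locMap S M)).hom (T.map (locMap S N)).hom
  rw [IsLocalizedModule.map_comp]
  rw [← ModuleCat.hom_comp, ← ModuleCat.hom_comp, ← T.map_comp, ← T.map_comp, locMap_naturality]

end General

section Local

variable (T : ModuleCat.{u} A ⥤ ModuleCat.{u} A) [T.Additive] [T.Linear A]
  (hT : ∀ (J : Type u) [SmallCategory J] [IsFiltered J], PreservesColimitsOfShape J T)

include hT in
theorem preservesFiniteLimits_of_local
    (h : ∀ (m : Ideal A) [m.IsMaximal], PreservesFiniteLimits
      (ModuleCat.restrictScalars (algebraMap A (Localization.AtPrime m)) ⋙ T)) :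
    PreservesFiniteLimits T := by
  rw [Functor.preservesFiniteLimits_iff_forall_exact_map_and_mono]
  intro X hX
  have key : ∀ (m : Ideal A) [m.IsMaximal],
      (X.map (locRes m.primeCompl ⋙ T)).Exact ∧ Mono ((locRes m.primeCompl ⋙ T).map X.f) := by
    intro m _
    have := h m
    have : PreservesFiniteLimits (locRes m.primeCompl ⋙ T) := by
      change PreservesFiniteLimits (ModuleCat.localizedModuleFunctor m.primeCompl ⋙
        (ModuleCat.restrictScalars (algebraMap A (Localization.AtPrime m)) ⋙ T))
      exact comp_preservesFiniteLimits _ _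
    exact (Functor.preservesFiniteLimits_iff_forall_exact_map_and_mono _).mp inferInstance X hX
  have i1 : ∀ (P : Ideal A) [P.IsMaximal],
      IsLocalizedModule.AtPrime P (T.map (locMap P.primeCompl X.X₁)).hom :=
    fun m _ => isLocalizedModule_map' T hT m.primeCompl (locMap m.primeCompl X.X₁)
  have i2 : ∀ (P : Ideal A) [P.IsMaximal],
      IsLocalizedModule.AtPrime P (T.map (locMap P.primeCompl X.X₂)).hom :=
    fun m _ => isLocalizedModule_map' T hT m.primeCompl (locMap m.primeCompl X.X₂)
  have i3 : ∀ (P : Ideal A) [P.IsMaximal],
      IsLocalizedModule.AtPrime P (T.map (locMap P.primeCompl X.X₃)).hom :=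
    fun m _ => isLocalizedModule_map' T hT m.primeCompl (locMap m.primeCompl X.X₃)
  constructor
  · rw [ShortComplex.ShortExact.moduleCat_exact_iff_function_exact]
    refine @exact_of_isLocalized_maximal A _ _ _ _ _ _ _ _ _ _
      (fun m _ => T.obj ((locRes m.primeCompl).obj X.X₁)) _ _
      (fun m _ => (T.map (locMap m.primeCompl X.X₁)).hom) i1
      (fun m _ => T.obj ((locRes m.primeCompl).obj X.X₂)) _ _
      (fun m _ => (T.map (locMap m.primeCompl X.X₂)).hom) i2
      (fun m _ => T.obj ((locRes m.primeCompl).obj X.X₃)) _ _
      (fun m _ => (T.map (locMap m.primeCompl X.X₃)).hom) i3 _ _ ?_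
    intro m _
    have e1 := map_eq T hT m.primeCompl X.f
    have e2 := map_eq T hT m.primeCompl X.g
    have := (ShortComplex.ShortExact.moduleCat_exact_iff_function_exact _).mp (key m).1
    change Function.Exact (T.map ((locRes m.primeCompl).map X.f)).hom
      (T.map ((locRes m.primeCompl).map X.g)).hom at this
    rw [← e1, ← e2] at this
    exact this
  · rw [ModuleCat.mono_iff_injective]
    refine @injective_of_isLocalized_maximal A _ _ _ _ _ _ _
      (fun m _ => T.obj ((locRes m.primeCompl).obj X.X₁)) _ _
      (fun m _ => (T.map (locMap m.primeCompl X.X₁)).hom) i1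
      (fun m _ => T.obj ((locRes m.primeCompl).obj X.X₂)) _ _
      (fun m _ => (T.map (locMap m.primeCompl X.X₂)).hom) i2 _ ?_
    intro m _
    have e1 := map_eq T hT m.primeCompl X.f
    have := (ModuleCat.mono_iff_injective _).mp (key m).2
    change Function.Injective (T.map ((locRes m.primeCompl).map X.f)).hom at this
    rw [← e1] at this
    exact this

include hT in
theorem preservesFiniteColimits_of_local
    (h : ∀ (m : Ideal A) [m.IsMaximal], PreservesFiniteColimits
      (ModuleCat.restrictScalars (algebraMap A (Localization.AtPrime m)) ⋙ T)) :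
    PreservesFiniteColimits T := by
  rw [Functor.preservesFiniteColimits_iff_forall_exact_map_and_epi]
  intro X hX
  have key : ∀ (m : Ideal A) [m.IsMaximal],
      (X.map (locRes m.primeCompl ⋙ T)).Exact ∧ Epi ((locRes m.primeCompl ⋙ T).map X.g) := by
    intro m _
    have := h m
    have : PreservesFiniteColimits (locRes m.primeCompl ⋙ T) := by
      change PreservesFiniteColimits (ModuleCat.localizedModuleFunctor m.primeCompl ⋙
        (ModuleCat.restrictScalars (algebraMap A (Localization.AtPrime m)) ⋙ T))
      exact comp_preservesFiniteColimits _ _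
    exact (Functor.preservesFiniteColimits_iff_forall_exact_map_and_epi _).mp inferInstance X hX
  have i1 : ∀ (P : Ideal A) [P.IsMaximal],
      IsLocalizedModule.AtPrime P (T.map (locMap P.primeCompl X.X₁)).hom :=
    fun m _ => isLocalizedModule_map' T hT m.primeCompl (locMap m.primeCompl X.X₁)
  have i2 : ∀ (P : Ideal A) [P.IsMaximal],
      IsLocalizedModule.AtPrime P (T.map (locMap P.primeCompl X.X₂)).hom :=
    fun m _ => isLocalizedModule_map' T hT m.primeCompl (locMap m.primeCompl X.X₂)
  have i3 : ∀ (P : Ideal A) [P.IsMaximal],
      IsLocalizedModule.AtPrime P (T.map (locMap P.primeCompl X.X₃)).hom :=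
    fun m _ => isLocalizedModule_map' T hT m.primeCompl (locMap m.primeCompl X.X₃)
  constructor
  · rw [ShortComplex.ShortExact.moduleCat_exact_iff_function_exact]
    refine @exact_of_isLocalized_maximal A _ _ _ _ _ _ _ _ _ _
      (fun m _ => T.obj ((locRes m.primeCompl).obj X.X₁)) _ _
      (fun m _ => (T.map (locMap m.primeCompl X.X₁)).hom) i1
      (fun m _ => T.obj ((locRes m.primeCompl).obj X.X₂)) _ _
      (fun m _ => (T.map (locMap m.primeCompl X.X₂)).hom) i2
      (fun m _ => T.obj ((locRes m.primeCompl).obj X.X₃)) _ _
      (fun m _ => (T.map (locMap m.primeCompl X.X₃)).hom) i3 _ _ ?_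
    intro m _
    have e1 := map_eq T hT m.primeCompl X.f
    have e2 := map_eq T hT m.primeCompl X.g
    have := (ShortComplex.ShortExact.moduleCat_exact_iff_function_exact _).mp (key m).1
    change Function.Exact (T.map ((locRes m.primeCompl).map X.f)).hom
      (T.map ((locRes m.primeCompl).map X.g)).hom at this
    rw [← e1, ← e2] at this
    exact this
  · rw [ModuleCat.epi_iff_surjective]
    refine @surjective_of_isLocalized_maximal A _ _ _ _ _ _ _
      (fun m _ => T.obj ((locRes m.primeCompl).obj X.X₂)) _ _
      (fun m _ => (T.map (locMap m.primeCompl X.X₂)).hom) i2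
      (fun m _ => T.obj ((locRes m.primeCompl).obj X.X₃)) _ _
      (fun m _ => (T.map (locMap m.primeCompl X.X₃)).hom) i3 _ ?_
    intro m _
    have e1 := map_eq T hT m.primeCompl X.g
    have := (ModuleCat.epi_iff_surjective _).mp (key m).2
    change Function.Surjective (T.map ((locRes m.primeCompl).map X.g)).hom at this
    rw [← e1] at this
    exact this

end Local

end Groth.Agent.Lib.Helper22
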