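import Mathlib
import Groth.Prelude.Def_CAlgX

/-!
# McCoy's theorem

For a matrix `M` with `m` columns over a commutative ring: if `M.mulVecLin` is injective then the
ideal of `m × m` minors has zero annihilator; conversely if the ideal of `m × m` minors contains a
regular element then `M.mulVecLin` is injective.
-/

set_option autoImplicit false
universe u
open Matrix

namespace Groth.Agent.Lib.Helper22.McCoy

variable {R : Type u} [CommRing R] {ρ : Type} [Fintype ρ] {m : ℕ} (M : Matrix ρ (Fin m) R)

theorem mul_eq_zero_of_generators {r : ℕ} (a : R)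
    (ha : ∀ (f : Fin r → ρ) (g : Fin r → Fin m), a * det (M.submatrix f g) = 0) :
    ∀ x ∈ CAlgX.minorIdeal M r, a * x = 0 := by
  intro x hx
  unfold CAlgX.minorIdeal at hx
  induction hx using Submodule.span_induction with
  | mem x hx =>
    obtain ⟨⟨f, g⟩, rfl⟩ := hx
    exact ha f g
  | zero => simp
  | add x y _ _ hx hy => rw [mul_add, hx, hy, add_zero]
  | smul c x _ hx => rw [smul_eq_mul, mul_left_comm, hx, mul_zero]

theorem det_mem_minorIdeal {r : ℕ} (f : Fin r → ρ) (g : Fin r → Fin m) :
    det (M.submatrix f g) ∈ CAlgX.minorIdeal M r :=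
  Ideal.subset_span ⟨(f, g), rfl⟩

theorem step (hinj : Function.Injective M.mulVecLin) (r : ℕ) (hr : r < m) (a : R)
    (ha : ∀ (f : Fin (r + 1) → ρ) (g : Fin (r + 1) → Fin m), a * det (M.submatrix f g) = 0)
    (f : Fin r → ρ) (g : Fin r → Fin m) : a * det (M.submatrix f g) = 0 := by
  by_contra hne
  have hginj : Function.Injective g := by
    by_contra hg
    rw [Function.Injective] at hg
    push Not at hg
    obtain ⟨j₁, j₂, hj, hne'⟩ := hg
    apply hne
    rw [Matrix.det_zero_of_column_eq hne' (fun i => by simp [hj]), mul_zero]
  obtain ⟨c₀, hc₀⟩ : ∃ c₀, ∀ j, g j ≠ c₀ := by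
    by_contra hcon
    push Not at hcon
    have hsurj : Function.Surjective g := hcon
    have := Fintype.card_le_of_surjective g hsurj
    simp at this
    omega
  set g' : Fin (r + 1) → Fin m := Fin.cons c₀ g with hg'
  let D : Fin (r + 1) → R := fun j => det (M.submatrix f (g' ∘ j.succAbove))
  let v : Fin m → R := fun c => ∑ j : Fin (r + 1), if g' j = c then a * ((-1) ^ (j : ℕ) * D j) else 0
  have hMv : M.mulVecLin v = 0 := by
    ext i
    rw [Matrix.mulVecLin_apply]
    show (M *ᵥ v) i = 0
    rw [Matrix.mulVec, dotProduct]
    have h1 : ∑ c, M i c * v c = ∑ j : Fin (r + 1), M i (g' j) * (a * ((-1) ^ (j : ℕ) * D j)) := by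
      simp only [v, Finset.mul_sum]
      rw [Finset.sum_comm]
      apply Finset.sum_congr rfl
      intro j _
      simp
    rw [h1]
    have h2 := ha (Fin.cons i f) g'
    rw [Matrix.det_succ_row_zero, Finset.mul_sum] at h2
    rw [← h2]
    apply Finset.sum_congr rfl
    intro j _
    have h3 : ((M.submatrix (Fin.cons i f) g').submatrix Fin.succ j.succAbove) =
        M.submatrix f (g' ∘ j.succAbove) := by
      ext x y
      simp [Matrix.submatrix_apply]
    rw [h3]
    simp only [Matrix.submatrix_apply, Fin.cons_zero, D]
    ring
  have hv0 : v = 0 := hinj (by rw [hMv, map_zero])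
  have hvc : v c₀ = a * det (M.submatrix f g) := by
    simp only [v]
    rw [Finset.sum_eq_single 0]
    · have h4 : g' ∘ Fin.succAbove 0 = g := by
        ext j
        simp [hg']
      simp [D, hg', h4]
    · intro j _ hj
      obtain ⟨j', rfl⟩ := Fin.exists_succ_eq.mpr hj
      have : g' j'.succ ≠ c₀ := by
        rw [hg', Fin.cons_succ]
        exact hc₀ j'
      simp [this]
    · simp
  apply hne
  rw [← hvc, hv0]
  rfl

/-- **McCoy's theorem** (one direction): if `M.mulVecLin` is injective, then the only element
annihilating all `m × m` minors is zero. -/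
theorem eq_zero_of_injective (hinj : Function.Injective M.mulVecLin) (a : R)
    (ha : ∀ x ∈ CAlgX.minorIdeal M m, a * x = 0) : a = 0 := by
  have key : ∀ k r : ℕ, r + k = m → ∀ (f : Fin r → ρ) (g : Fin r → Fin m),
      a * det (M.submatrix f g) = 0 := by
    intro k
    induction k with
    | zero =>
      intro r hr f g
      rw [add_zero] at hr
      subst hr
      exact ha _ (det_mem_minorIdeal M f g)
    | succ k ih =>
      intro r hr f g
      exact step M hinj r (by omega) a (fun f' g' => ih (r + 1) (by omega) f' g') f g
  have h0 := key m 0 (by simp) Fin.elim0 Fin.elim0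
  have hdet : det (M.submatrix (Fin.elim0 : Fin 0 → ρ) (Fin.elim0 : Fin 0 → Fin m)) = 1 := by
    simp
  rw [hdet, mul_one] at h0
  exact h0

/-- Converse direction: a regular element in the ideal of maximal minors forces injectivity. -/
theorem injective_of_isRegular_mem (a : R) (ha : a ∈ CAlgX.minorIdeal M m) (hreg : IsRegular a) :
    Function.Injective M.mulVecLin := by
  rw [← LinearMap.ker_eq_bot, LinearMap.ker_eq_bot']
  intro v hv
  rw [Matrix.mulVecLin_apply] at hv
  have hgen : ∀ (f : Fin m → ρ) (g : Fin m → Fin m) (c : Fin m),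
      v c * det (M.submatrix f g) = 0 := by
    intro f g c
    by_cases hg : Function.Bijective g
    · have h1 : (M.submatrix f g) *ᵥ (v ∘ g) = 0 := by
        ext k
        have := congrFun hv (f k)
        simp only [Matrix.mulVec, dotProduct, Matrix.submatrix_apply, Function.comp_apply,
          Pi.zero_apply] at this ⊢
        rw [← this]
        exact Fintype.sum_bijective g hg _ _ (fun j => rfl)
      have h2 : det (M.submatrix f g) • (v ∘ g) = 0 := by
        have := congrArg (fun w => (adjugate (M.submatrix f g)) *ᵥ w) h1
        simp only [Matrix.mulVec_mulVec, Matrix.adjugate_mul, Matrix.mulVec_zero] at this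
        rw [Matrix.smul_mulVec, Matrix.one_mulVec] at this
        exact this
      obtain ⟨j, rfl⟩ := hg.2 c
      have := congrFun h2 j
      simp only [Pi.smul_apply, Function.comp_apply, smul_eq_mul, Pi.zero_apply] at this
      rw [mul_comm]; exact this
    · have hginj : ¬ Function.Injective g := fun h => hg (Finite.injective_iff_bijective.mp h)
      rw [Function.Injective] at hginj
      push Not at hginj
      obtain ⟨j₁, j₂, hj, hne'⟩ := hginj
      rw [Matrix.det_zero_of_column_eq hne' (fun i => by simp [hj]), mul_zero]
  ext c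
  have := mul_eq_zero_of_generators M (v c) (fun f g => hgen f g c) a ha
  rw [mul_comm] at this
  exact hreg.left (show a * v c = a * 0 by rw [this, mul_zero])

end Groth.Agent.Lib.Helper22.McCoy
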