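import Mathlib
import Groth.Agent.Lib.Helper22.McCoy

set_option autoImplicit false
universe u v w
open Matrix TensorProduct

namespace Groth.Agent.Lib.Helper22.McCoy

variable {R : Type u} [CommRing R] {ρ : Type} [Fintype ρ] {m : ℕ} (M : Matrix ρ (Fin m) R)

/-- every element `x` of the ideal of maximal minors admits `L` with `L * M = x • 1`. -/
theorem exists_mul_eq_smul_one (x : R) (hx : x ∈ CAlgX.minorIdeal M m) :
    ∃ L : Matrix (Fin m) ρ R, L * M = x • (1 : Matrix (Fin m) (Fin m) R) := by
  classical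
  unfold CAlgX.minorIdeal at hx
  induction hx using Submodule.span_induction with
  | mem x hx =>
    obtain ⟨⟨f, g⟩, rfl⟩ := hx
    by_cases hg : Function.Bijective g
    · let e : Fin m ≃ Fin m := Equiv.ofBijective g hg
      let N := M.submatrix f g
      let S : Matrix (Fin m) ρ R := fun k i => if f k = i then 1 else 0
      have hS : S * M = M.submatrix f id := by
        ext k c
        rw [Matrix.mul_apply]
        simp only [S, ite_mul, one_mul, zero_mul, Finset.sum_ite_eq, Finset.mem_univ, if_true,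
          Matrix.submatrix_apply, id]
      have hN : M.submatrix f id = N.submatrix id e.symm := by
        ext k c
        simp only [N, Matrix.submatrix_apply, id]
        congr 1
        exact (e.apply_symm_apply c).symm
      refine ⟨(adjugate N).submatrix e.symm id * S, ?_⟩
      rw [Matrix.mul_assoc, hS, hN]
      have := Matrix.submatrix_mul_equiv (adjugate N) N e.symm (Equiv.refl _) e.symm
      simp only [Equiv.coe_refl] at this
      rw [this, Matrix.adjugate_mul]
      ext i j
      simp [Matrix.submatrix_apply, Matrix.one_apply, N]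
    · have hginj : ¬ Function.Injective g := fun h => hg (Finite.injective_iff_bijective.mp h)
      rw [Function.Injective] at hginj
      push Not at hginj
      obtain ⟨j₁, j₂, hj, hne'⟩ := hginj
      refine ⟨0, ?_⟩
      show 0 * M = det (M.submatrix f g) • (1 : Matrix (Fin m) (Fin m) R)
      rw [Matrix.det_zero_of_column_eq hne' (fun i => by simp [hj]), zero_smul, Matrix.zero_mul]
  | zero => exact ⟨0, by simp⟩
  | add x y _ _ hx hy =>
    obtain ⟨L₁, h₁⟩ := hx
    obtain ⟨L₂, h₂⟩ := hy
    exact ⟨L₁ + L₂, by rw [Matrix.add_mul, h₁, h₂, add_smul]⟩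
  | smul c x _ hx =>
    obtain ⟨L, h⟩ := hx
    exact ⟨c • L, by rw [Matrix.smul_mul, h, smul_smul, smul_eq_mul]⟩

section FreeCase

variable {R : Type u} [CommRing R]
variable {A : Type v} {B : Type w}

theorem exists_partial_retraction (hP : ∀ I : Ideal R, I.FG → I ≠ ⊤ → I.annihilator ≠ ⊥)
    (ũ : (A →₀ R) →ₗ[R] (B →₀ R)) (hinj : Function.Injective ũ) (A₀ : Finset A) :
    ∃ ρ : (B →₀ R) →ₗ[R] (A →₀ R),
      ∀ a ∈ A₀, ρ (ũ (Finsupp.single a 1)) = Finsupp.single a 1 := by
  classical
  set B₀ : Finset B := A₀.biUnion (fun a => (ũ (Finsupp.single a 1)).support) with hB₀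
  let eA : Fin A₀.card ≃ A₀ := A₀.equivFin.symm
  let eB : Fin B₀.card ≃ B₀ := B₀.equivFin.symm
  let Mat : Matrix (Fin B₀.card) (Fin A₀.card) R :=
    fun i j => ũ (Finsupp.single (eA j : A) 1) (eB i : B)
  have hMat_inj : Function.Injective Mat.mulVecLin := by
    rw [← LinearMap.ker_eq_bot, LinearMap.ker_eq_bot']
    intro v hv
    rw [Matrix.mulVecLin_apply] at hv
    set x : A →₀ R := ∑ j, v j • Finsupp.single (eA j : A) (1 : R) with hx
    have hux : ũ x = 0 := by
      ext b
      rw [hx, map_sum, Finsupp.coe_finsetSum, Finset.sum_apply, Finsupp.zero_apply]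
      by_cases hb : b ∈ B₀
      · obtain ⟨i, hi⟩ := eB.surjective ⟨b, hb⟩
        have := congrFun hv i
        simp only [Matrix.mulVec, dotProduct, Pi.zero_apply] at this
        rw [← this]
        apply Finset.sum_congr rfl
        intro j _
        rw [map_smul, Finsupp.smul_apply, smul_eq_mul, mul_comm]
        show _ = ũ (Finsupp.single (eA j : A) 1) (eB i : B) * v j
        rw [hi]
      · apply Finset.sum_eq_zero
        intro j _
        rw [map_smul, Finsupp.smul_apply]
        have : ũ (Finsupp.single (eA j : A) 1) b = 0 := by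
          by_contra hne
          apply hb
          rw [hB₀, Finset.mem_biUnion]
          exact ⟨(eA j : A), (eA j).2, Finsupp.mem_support_iff.mpr hne⟩
        rw [this, smul_zero]
    have hx0 : x = 0 := hinj (by rw [hux, map_zero])
    ext j
    have := congrArg (fun y : A →₀ R => y (eA j : A)) hx0
    simp only [hx, Finsupp.coe_finsetSum, Finset.sum_apply, Finsupp.smul_apply,
      Finsupp.zero_apply] at this
    rw [Finset.sum_eq_single j] at this
    · simpa using this
    · intro j' _ hj'
      have hne : (eA j' : A) ≠ (eA j : A) := fun h => hj' (eA.injective (Subtype.ext h))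
      rw [Finsupp.single_eq_of_ne' hne, smul_zero]
    · simp
  have hmc := eq_zero_of_injective Mat hMat_inj
  have hfg : (CAlgX.minorIdeal Mat A₀.card).FG := by
    unfold CAlgX.minorIdeal
    refine ⟨(Set.finite_range fun fg : (Fin A₀.card → Fin B₀.card) × (Fin A₀.card → Fin A₀.card) =>
      Matrix.det (Mat.submatrix fg.1 fg.2)).toFinset, ?_⟩
    rw [Set.Finite.coe_toFinset]
  have hI : CAlgX.minorIdeal Mat A₀.card = ⊤ := by
    by_contra hne
    have h1 := hP _ hfg hne
    obtain ⟨a, ha, ha0⟩ := (Submodule.ne_bot_iff _).mp h1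
    apply ha0
    apply hmc a
    intro y hy
    rw [Submodule.mem_annihilator] at ha
    exact ha y hy
  obtain ⟨L, hL⟩ := exists_mul_eq_smul_one Mat 1 (by rw [hI]; exact Submodule.mem_top)
  rw [one_smul] at hL
  let ρ : (B →₀ R) →ₗ[R] (A →₀ R) :=
    ∑ j : Fin A₀.card, LinearMap.smulRight
      (∑ i : Fin B₀.card, L j i • (Finsupp.lapply (eB i : B) : (B →₀ R) →ₗ[R] R))
      (Finsupp.single (eA j : A) (1 : R))
  refine ⟨ρ, ?_⟩
  intro a ha
  obtain ⟨j₀, hj₀⟩ := eA.surjective ⟨a, ha⟩
  have ha' : a = (eA j₀ : A) := by rw [hj₀]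
  simp only [ρ, LinearMap.sum_apply, LinearMap.smulRight_apply, LinearMap.smul_apply,
    Finsupp.lapply_apply, smul_eq_mul]
  have h2 : ∀ j : Fin A₀.card, ∑ i : Fin B₀.card, L j i * ũ (Finsupp.single a 1) (eB i : B) =
      (1 : Matrix (Fin A₀.card) (Fin A₀.card) R) j j₀ := by
    intro j
    rw [← hL, Matrix.mul_apply]
    apply Finset.sum_congr rfl
    intro i _
    rw [ha']
  simp only [h2]
  rw [Finset.sum_eq_single j₀]
  · rw [Matrix.one_apply_eq, one_smul, ha']
  · intro j _ hj
    rw [Matrix.one_apply_ne hj, zero_smul]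
  · simp

theorem rTensor_injective_of_injective (hP : ∀ I : Ideal R, I.FG → I ≠ ⊤ → I.annihilator ≠ ⊥)
    (ũ : (A →₀ R) →ₗ[R] (B →₀ R)) (hinj : Function.Injective ũ)
    (Q : Type*) [AddCommGroup Q] [Module R Q] : Function.Injective (ũ.rTensor Q) := by
  classical
  rw [injective_iff_map_eq_zero]
  intro z hz
  have key : ∀ z : (A →₀ R) ⊗[R] Q, ∃ A₀ : Finset A, ∀ ρ' : (A →₀ R) →ₗ[R] (A →₀ R),
      (∀ a ∈ A₀, ρ' (Finsupp.single a 1) = Finsupp.single a 1) → ρ'.rTensor Q z = z := by
    intro z
    induction z using TensorProduct.induction_on with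
    | zero => exact ⟨∅, fun _ _ => map_zero _⟩
    | tmul x q =>
      refine ⟨x.support, fun ρ' h => ?_⟩
      rw [LinearMap.rTensor_tmul]
      congr 1
      conv_lhs => rw [← Finsupp.sum_single x]
      conv_rhs => rw [← Finsupp.sum_single x]
      rw [Finsupp.sum, map_sum]
      apply Finset.sum_congr rfl
      intro a ha
      have : Finsupp.single a (x a) = x a • Finsupp.single a (1 : R) := by
        rw [Finsupp.smul_single, smul_eq_mul, mul_one]
      rw [this, map_smul, h a ha]
    | add z₁ z₂ h₁ h₂ =>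
      obtain ⟨A₁, h₁⟩ := h₁
      obtain ⟨A₂, h₂⟩ := h₂
      refine ⟨A₁ ∪ A₂, fun ρ' h => ?_⟩
      rw [map_add, h₁ ρ' (fun a ha => h a (Finset.mem_union_left _ ha)),
        h₂ ρ' (fun a ha => h a (Finset.mem_union_right _ ha))]
  obtain ⟨A₀, hA₀⟩ := key z
  obtain ⟨ρ, hρ⟩ := exists_partial_retraction hP ũ hinj A₀
  have := hA₀ (ρ ∘ₗ ũ) (fun a ha => hρ a ha)
  rw [LinearMap.rTensor_comp_apply, hz, map_zero] at this
  exact this.symm

end FreeCase

end Groth.Agent.Lib.Helper22.McCoy
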