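import Mathlib

/-!
# The numerical lemma for ordinary multiple points

`A` local, `C` an `A`-algebra, `m' i` pairwise distinct maximal ideals of `C` over `𝔪_A`
(`i : ι`, `ι` finite with `n` elements).  If `ℓ_A(C/A) + 1 ≤ n` then every `C/m' i` is a quotient of
`A` and `⋂ m' i ⊆ A`.
-/

set_option autoImplicit false
set_option linter.style.haveILetI false
set_option linter.unusedSectionVars false
universe u

namespace Groth.Agent.Lib.Helper22.Multicross

open IsLocalRing

theorem numerical {A C : Type u} [CommRing A] [IsLocalRing A] [CommRing C] [Algebra A C]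
    {ι : Type} [Fintype ι] (m' : ι → Ideal C) (hmax : ∀ i, (m' i).IsMaximal)
    (hinj : Function.Injective m')
    (hover : ∀ i, ∀ a ∈ maximalIdeal A, algebraMap A C a ∈ m' i)
    (hlen : Module.length A (C ⧸ LinearMap.range (Algebra.linearMap A C)) + 1 ≤
      (Fintype.card ι : ℕ∞)) :
    (∀ i, Function.Surjective ((Ideal.Quotient.mk (m' i)).comp (algebraMap A C))) ∧
      ∀ j : C, (∀ i, j ∈ m' i) → ∃ a : A, algebraMap A C a = j := by
  classical
  set N : Submodule A C := LinearMap.range (Algebra.linearMap A C) with hN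
  let ρ : C →ₗ[A] (∀ i, C ⧸ m' i) :=
    LinearMap.pi (fun i => (Ideal.Quotient.mkₐ A (m' i)).toLinearMap)
  have hρ_apply : ∀ (c : C) (i : ι), ρ c i = Ideal.Quotient.mk (m' i) c := fun c i => rfl
  have hcop : Pairwise (Function.onFun IsCoprime m') := by
    intro i j hij
    exact Ideal.isCoprime_iff_sup_eq.mpr
      (Ideal.IsMaximal.coprime_of_ne (hmax i) (hmax j) (fun h => hij (hinj h)))
  have hρ : Function.Surjective ρ := by
    intro y
    obtain ⟨r, hr⟩ := Ideal.pi_quotient_surjective hcop y
    exact ⟨r, funext hr⟩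
  set N' : Submodule A (∀ i, C ⧸ m' i) := N.map ρ with hN'
  have hNN' : N ≤ N'.comap ρ := Submodule.le_comap_map ρ N
  let g : (C ⧸ N) →ₗ[A] ((∀ i, C ⧸ m' i) ⧸ N') := N.mapQ N' ρ hNN'
  have hg : Function.Surjective g := by
    intro y
    obtain ⟨y, rfl⟩ := Submodule.mkQ_surjective _ y
    obtain ⟨c, rfl⟩ := hρ y
    exact ⟨N.mkQ c, rfl⟩
  -- additivity
  have hL := Module.length_eq_add_of_exact (LinearMap.ker g).subtype g
    (Submodule.subtype_injective _) hg (LinearMap.exact_subtype_ker_map g)
  have hS := Module.length_eq_add_of_exact N'.subtype N'.mkQ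
    (Submodule.subtype_injective _) (Submodule.mkQ_surjective _)
    (LinearMap.exact_subtype_mkQ N')
  -- `N'` has length at most one
  have hE : Module.length A N' ≤ 1 := by
    let f : A →ₗ[A] (∀ i, C ⧸ m' i) := ρ ∘ₗ Algebra.linearMap A C
    have hf : maximalIdeal A ≤ LinearMap.ker f := by
      intro a ha
      rw [LinearMap.mem_ker]
      funext i
      change Ideal.Quotient.mk (m' i) (algebraMap A C a) = 0
      exact Ideal.Quotient.eq_zero_iff_mem.mpr (hover i a ha)
    have hrange : LinearMap.range ((maximalIdeal A).liftQ f hf) = N' := by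
      rw [Submodule.range_liftQ, hN', hN, LinearMap.range_comp]
    haveI : IsSimpleModule A (A ⧸ maximalIdeal A) :=
      isSimpleModule_iff_quot_maximal.mpr ⟨maximalIdeal A, inferInstance, ⟨LinearEquiv.refl _ _⟩⟩
    have h1 := Module.length_le_of_surjective ((maximalIdeal A).liftQ f hf).rangeRestrict
      (LinearMap.surjective_rangeRestrict _)
    rw [Module.length_eq_one (R := A) (M := A ⧸ maximalIdeal A), hrange] at h1
    exact h1
  -- the lengths of the residue fields
  have hpi : Module.length A (∀ i, C ⧸ m' i) = ∑ i, Module.length A (C ⧸ m' i) :=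
    Module.length_pi_of_fintype A _
  have hone : ∀ i, 1 ≤ Module.length A (C ⧸ m' i) := by
    intro i
    haveI : Nontrivial (C ⧸ m' i) := Ideal.Quotient.nontrivial_iff.mpr (hmax i).ne_top
    exact Order.one_le_iff_pos.mpr Module.length_pos
  have hcS : (Fintype.card ι : ℕ∞) ≤ ∑ i, Module.length A (C ⧸ m' i) := by
    calc (Fintype.card ι : ℕ∞) = ∑ _i : ι, (1 : ℕ∞) := by simp
      _ ≤ _ := Finset.sum_le_sum (fun i _ => hone i)
  -- numerics
  set L := Module.length A (C ⧸ N) with hLdef
  set Q := Module.length A ((∀ i, C ⧸ m' i) ⧸ N') with hQdef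
  set E := Module.length A N' with hEdef
  set k := Module.length A (LinearMap.ker g) with hkdef
  set S := ∑ i, Module.length A (C ⧸ m' i) with hSdef
  rw [hpi] at hS
  have hLtop : L ≠ ⊤ := by
    intro h
    rw [h, top_add] at hlen
    exact absurd hlen (by simp)
  have hQtop : Q ≠ ⊤ := by
    intro h
    rw [h, add_top] at hL
    exact hLtop hL
  have hktop : k ≠ ⊤ := by
    intro h
    rw [h, top_add] at hL
    exact hLtop hL
  have hEtop : E ≠ ⊤ := fun h => by rw [h] at hE; exact absurd hE (by simp)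
  obtain ⟨l, hl⟩ := ENat.ne_top_iff_exists.mp hLtop
  obtain ⟨q, hq⟩ := ENat.ne_top_iff_exists.mp hQtop
  obtain ⟨κ, hκ⟩ := ENat.ne_top_iff_exists.mp hktop
  obtain ⟨e, he⟩ := ENat.ne_top_iff_exists.mp hEtop
  rw [← hl, ← hκ, ← hq] at hL
  rw [← he, ← hq] at hS
  rw [← hl] at hlen
  rw [hS] at hcS
  rw [← he] at hE
  have hL' : l = κ + q := by exact_mod_cast hL
  have hlen' : l + 1 ≤ Fintype.card ι := by exact_mod_cast hlen
  have hcS' : Fintype.card ι ≤ e + q := by exact_mod_cast hcS
  have hE' : e ≤ 1 := by exact_mod_cast hE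
  have hκ0 : κ = 0 := by omega
  have hSc : S = (Fintype.card ι : ℕ∞) := by
    rw [hS]
    have : e + q = Fintype.card ι := by omega
    exact_mod_cast this
  -- each residue field has length one
  have hli : ∀ i, Module.length A (C ⧸ m' i) = 1 := by
    have hfin : ∀ i, Module.length A (C ⧸ m' i) ≠ ⊤ := by
      intro i h
      have h1 : Module.length A (C ⧸ m' i) ≤ S :=
        Finset.single_le_sum (f := fun i => Module.length A (C ⧸ m' i))
          (fun _ _ => zero_le) (Finset.mem_univ i)
      rw [h, hSc] at h1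
      exact absurd h1 (by simp)
    let nn : ι → ℕ := fun i => (Module.length A (C ⧸ m' i)).toNat
    have hnn : ∀ i, ((nn i : ℕ) : ℕ∞) = Module.length A (C ⧸ m' i) := fun i =>
      ENat.natCast_toNat (hfin i)
    have hsum : ∑ i, nn i = ∑ _i : ι, 1 := by
      have h1 : ((∑ i, nn i : ℕ) : ℕ∞) = (Fintype.card ι : ℕ∞) := by
        rw [Nat.cast_sum, ← hSc, hSdef]
        exact Finset.sum_congr rfl (fun i _ => hnn i)
      have h2 : ∑ i, nn i = Fintype.card ι := by exact_mod_cast h1
      rw [h2]
      simp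
    have hle : ∀ i ∈ (Finset.univ : Finset ι), 1 ≤ nn i := by
      intro i _
      have := hone i
      rw [← hnn i] at this
      exact_mod_cast this
    have hall := (Finset.sum_eq_sum_iff_of_le hle).mp hsum.symm
    intro i
    rw [← hnn i, ← hall i (Finset.mem_univ i)]
    rfl
  refine ⟨fun i => ?_, fun j hj => ?_⟩
  · haveI : IsSimpleModule A (C ⧸ m' i) := Module.length_eq_one_iff.mp (hli i)
    haveI : Nontrivial (C ⧸ m' i) := Ideal.Quotient.nontrivial_iff.mpr (hmax i).ne_top
    have h1 := IsSimpleModule.toSpanSingleton_surjective A (M := C ⧸ m' i)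
      (m := (1 : C ⧸ m' i)) one_ne_zero
    intro y
    obtain ⟨a, ha⟩ := h1 y
    refine ⟨a, ?_⟩
    rw [← ha]
    change Ideal.Quotient.mk (m' i) (algebraMap A C a) = a • (1 : C ⧸ m' i)
    rw [Algebra.smul_def, mul_one]
    rfl
  · have hker : LinearMap.ker g = ⊥ := by
      have h0 : Module.length A (LinearMap.ker g) = 0 := by
        rw [← hkdef, ← hκ, hκ0]
        rfl
      rw [Module.length_eq_zero_iff] at h0
      exact (Submodule.subsingleton_iff_eq_bot).mp h0
    have hginj : Function.Injective g := LinearMap.ker_eq_bot.mp hker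
    have hρj : ρ j = 0 := by
      funext i
      exact Ideal.Quotient.eq_zero_iff_mem.mpr (hj i)
    have h1 : g (N.mkQ j) = 0 := by
      change N'.mkQ (ρ j) = 0
      rw [hρj, map_zero]
    have h2 : N.mkQ j = 0 := hginj (by rw [h1, map_zero])
    have h3 : j ∈ N := (Submodule.Quotient.mk_eq_zero N).mp h2
    obtain ⟨a, ha⟩ := h3
    exact ⟨a, ha⟩

end Groth.Agent.Lib.Helper22.Multicross
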