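import Mathlib

/-!
# The Jacobson radical of a semilocal ring with principal local maximal ideals is principal
-/

set_option autoImplicit false
set_option linter.style.haveILetI false
set_option linter.unusedSectionVars false
universe u

namespace Groth.Agent.Lib.Helper22.Multicross

open IsLocalRing

variable {C : Type u} [CommRing C]

/-- a generator of the local maximal ideal coming from `C` -/
theorem exists_generator_local (P : Ideal C) [P.IsMaximal]
    (hprin : (maximalIdeal (Localization.AtPrime P)).IsPrincipal) :
    ∃ c : C, c ∈ P ∧ maximalIdeal (Localization.AtPrime P) =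
      Ideal.span {algebraMap C (Localization.AtPrime P) c} := by
  obtain ⟨p, hp⟩ := hprin.principal
  obtain ⟨c, s, rfl⟩ := IsLocalization.exists_mk'_eq P.primeCompl p
  have hu : IsUnit (algebraMap C (Localization.AtPrime P) s) :=
    IsLocalization.map_units _ s
  have h1 : algebraMap C (Localization.AtPrime P) c =
      IsLocalization.mk' (Localization.AtPrime P) c s * algebraMap C (Localization.AtPrime P) s :=
    (IsLocalization.mk'_spec _ c s).symm
  have h2 : maximalIdeal (Localization.AtPrime P) =
      Ideal.span {algebraMap C (Localization.AtPrime P) c} := by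
    rw [h1, Ideal.span_singleton_mul_right_unit hu]
    exact hp
  refine ⟨c, ?_, h2⟩
  rw [← IsLocalization.AtPrime.to_map_mem_maximal_iff (Localization.AtPrime P) P, h2]
  exact Ideal.subset_span rfl

/-- an element congruent to a generator modulo `P ^ 2` is a generator -/
theorem map_span_eq_maximalIdeal (P : Ideal C) [P.IsMaximal] (c π : C)
    (hc : maximalIdeal (Localization.AtPrime P) =
      Ideal.span {algebraMap C (Localization.AtPrime P) c})
    (hπ : π - c ∈ P ^ 2) :
    (Ideal.span {π}).map (algebraMap C (Localization.AtPrime P)) =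
      maximalIdeal (Localization.AtPrime P) := by
  rw [Ideal.map_span, Set.image_singleton]
  set g := algebraMap C (Localization.AtPrime P) c with hg
  have h1 : algebraMap C (Localization.AtPrime P) (π - c) ∈
      maximalIdeal (Localization.AtPrime P) ^ 2 := by
    rw [← Localization.AtPrime.map_eq_maximalIdeal, ← Ideal.map_pow]
    exact Ideal.mem_map_of_mem _ hπ
  rw [hc, Ideal.span_singleton_pow, Ideal.mem_span_singleton'] at h1
  obtain ⟨d, hd⟩ := h1
  have hgm : g ∈ maximalIdeal (Localization.AtPrime P) := by
    rw [hc]; exact Ideal.subset_span rfl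
  have hu : IsUnit (1 + d * g) := by
    have h2 : -(d * g) ∈ nonunits (Localization.AtPrime P) := by
      rw [← mem_maximalIdeal]
      exact Ideal.neg_mem_iff _ |>.mpr (Ideal.mul_mem_left _ _ hgm)
    have := isUnit_one_sub_self_of_mem_nonunits _ h2
    rwa [sub_neg_eq_add] at this
  have e : algebraMap C (Localization.AtPrime P) π = g * (1 + d * g) := by
    have : algebraMap C (Localization.AtPrime P) π =
        algebraMap C (Localization.AtPrime P) (π - c) + g := by
      rw [map_sub]; ring
    rw [this, ← hd]
    ring
  rw [e, Ideal.span_singleton_mul_right_unit hu, ← hc]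

/-- the Jacobson radical is principal -/
theorem exists_generator {ι : Type} [Fintype ι] (m' : ι → Ideal C)
    (hmax : ∀ i, (m' i).IsMaximal) (hinj : Function.Injective m')
    (hall : ∀ P : Ideal C, P.IsMaximal → ∃ i, m' i = P)
    (hprin : ∀ (P : Ideal C) [P.IsMaximal],
      (maximalIdeal (Localization.AtPrime P)).IsPrincipal) :
    ∃ π : C, (∀ i, π ∈ m' i) ∧ ∀ j : C, (∀ i, j ∈ m' i) → j ∈ Ideal.span {π} := by
  classical
  have hgen : ∀ i, ∃ c : C, c ∈ m' i ∧
      (haveI := hmax i
       maximalIdeal (Localization.AtPrime (m' i)) =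
        Ideal.span {algebraMap C (Localization.AtPrime (m' i)) c}) := by
    intro i
    haveI := hmax i
    exact exists_generator_local (m' i) (hprin (m' i))
  choose c hcm hc using hgen
  have hcop : Pairwise (Function.onFun IsCoprime (fun i => m' i ^ 2)) := by
    intro i j hij
    have h1 : IsCoprime (m' i) (m' j) := Ideal.isCoprime_iff_sup_eq.mpr
      (Ideal.IsMaximal.coprime_of_ne (hmax i) (hmax j) (fun h => hij (hinj h)))
    exact h1.pow
  obtain ⟨π, hπ⟩ := Ideal.pi_quotient_surjective hcop
    (fun i => Ideal.Quotient.mk (m' i ^ 2) (c i))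
  have hπ' : ∀ i, π - c i ∈ m' i ^ 2 := fun i => Ideal.Quotient.eq.mp (hπ i)
  have hπm : ∀ i, π ∈ m' i := by
    intro i
    have h1 : π - c i ∈ m' i := Ideal.pow_le_self (by norm_num) (hπ' i)
    have := Ideal.add_mem _ h1 (hcm i)
    rwa [sub_add_cancel] at this
  refine ⟨π, hπm, fun j hj => ?_⟩
  apply Ideal.mem_of_localization_maximal
  intro P hP
  obtain ⟨i, rfl⟩ := hall P hP
  rw [map_span_eq_maximalIdeal (m' i) (c i) π (hc i) (hπ' i)]
  exact (IsLocalization.AtPrime.to_map_mem_maximal_iff _ (m' i) j).mpr (hj i)

end Groth.Agent.Lib.Helper22.Multicross
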