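import Mathlib
import Groth.Agent.Lib.Helper22.MulticrossA
import Groth.Agent.Lib.Helper22.MulticrossB
import Groth.Agent.Lib.Helper22.MulticrossD
import Groth.Agent.Lib.Helper12.AnUnramH
import Groth.Agent.Lib.Helper14.TotalFrac
import Groth.Agent.S7651
import Groth.Agent.S7655

/-!
# The completion of an ordinary multiple point is a multicross ring
-/

set_option autoImplicit false
set_option linter.style.haveILetI false
set_option linter.unusedSectionVars false
universe u

namespace Groth.Agent.Lib.Helper22.Multicross

open IsLocalRing
open scoped nonZeroDivisors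
open Groth.Agent.Lib.Helper12

/-- a ring isomorphism induces a bijection of maximal spectra -/
noncomputable def maximalSpectrumEquiv {R S : Type u} [CommRing R] [CommRing S] (e : R ≃+* S) :
    MaximalSpectrum R ≃ MaximalSpectrum S where
  toFun M := ⟨M.asIdeal.comap (e.symm : S →+* R),
    haveI := M.isMaximal
    Ideal.comap_isMaximal_of_surjective _ e.symm.surjective⟩
  invFun M := ⟨M.asIdeal.comap (e : R →+* S),
    haveI := M.isMaximal
    Ideal.comap_isMaximal_of_surjective _ e.surjective⟩
  left_inv M := by
    apply MaximalSpectrum.ext
    ext x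
    change e.symm (e x) ∈ M.asIdeal ↔ _
    rw [e.symm_apply_apply]
  right_inv M := by
    apply MaximalSpectrum.ext
    ext x
    change e (e.symm x) ∈ M.asIdeal ↔ _
    rw [e.apply_symm_apply]

theorem main (k : Type u) [Field k] (A : Type u) [CommRing A] [IsLocalRing A] [Algebra k A]
    [IsReduced A] (hdim : ringKrullDim A = 1) (hN : CAlg.IsNagata A)
    (hres : Function.Bijective (algebraMap k (IsLocalRing.ResidueField A)))
    (n : ℕ) (hn : Brnch.numBranches A = n) (hδ : Curv2.deltaInv A + 1 = n) :
    ∃ φ : AdicCompletion (maximalIdeal A) A →+* (Fin n → PowerSeries k),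
      Function.Injective φ ∧
      (∀ c : k, φ (algebraMap A (AdicCompletion (maximalIdeal A) A) (algebraMap k A c)) =
        fun _ => algebraMap k (PowerSeries k) c) ∧
      Set.range φ = {f : Fin n → PowerSeries k | ∀ i j : Fin n,
        PowerSeries.constantCoeff (f i) = PowerSeries.constantCoeff (f j)} := by
  classical
  haveI : IsNoetherianRing A := hN.1
  have hfin := AnUnram.finite_integralClosure_fractionRing_of_isNagata A hN
  have hinjQ : Function.Injective (algebraMap A (FractionRing A)) :=
    IsLocalization.injective _ le_rfl
  have hinjC : Function.Injective (algebraMap A (integralClosure A (FractionRing A))) :=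
    fun x y h => hinjQ (congrArg (fun z : integralClosure A (FractionRing A) =>
      (z : FractionRing A)) h)
  -- the maximal ideals of the normalization
  have hminfin : (minimalPrimes A).Finite := minimalPrimes.finite_of_isNoetherianRing A
  have hcardN : ENat.card (MaximalSpectrum (CAlg2.normRed A)) = n := by
    unfold Brnch.numBranches at hn
    rw [if_pos hminfin] at hn
    exact hn
  let eC : integralClosure A (FractionRing A) ≃+* CAlg2.normRed A :=
    Helper14.normalizationEquivOfRingEquiv (Groth.Agent.S7655.redEquiv A)
  have hcardC : ENat.card (MaximalSpectrum (integralClosure A (FractionRing A))) = n := by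
    rw [← hcardN]
    exact ENat.card_congr (maximalSpectrumEquiv eC)
  haveI hfinite : Finite (MaximalSpectrum (integralClosure A (FractionRing A))) := by
    rw [← ENat.card_lt_top, hcardC]
    exact ENat.natCast_lt_top n
  have hnat : Nat.card (MaximalSpectrum (integralClosure A (FractionRing A))) = n := by
    have := ENat.card_eq_coe_natCard (MaximalSpectrum (integralClosure A (FractionRing A)))
    rw [hcardC] at this
    exact_mod_cast this.symm
  let E : Fin n ≃ MaximalSpectrum (integralClosure A (FractionRing A)) :=
    (Finite.equivFinOfCardEq hnat).symm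
  let m' : Fin n → Ideal (integralClosure A (FractionRing A)) := fun i => (E i).asIdeal
  have hmax : ∀ i, (m' i).IsMaximal := fun i => (E i).isMaximal
  have hinj : Function.Injective m' := fun i j h => E.injective (MaximalSpectrum.ext h)
  have hall : ∀ P : Ideal (integralClosure A (FractionRing A)), P.IsMaximal → ∃ i, m' i = P := by
    intro P hP
    refine ⟨E.symm ⟨P, hP⟩, ?_⟩
    change (E (E.symm ⟨P, hP⟩)).asIdeal = P
    rw [E.apply_symm_apply]
  haveI : Algebra.IsIntegral A (integralClosure A (FractionRing A)) := inferInstance
  have hover : ∀ i, ∀ a ∈ maximalIdeal A,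
      algebraMap A (integralClosure A (FractionRing A)) a ∈ m' i := by
    intro i a ha
    haveI := hmax i
    have h1 := BranchCount.map_maximalIdeal_le_of_isMaximal' (A := A) (m' i)
    exact h1 (Ideal.mem_map_of_mem _ ha)
  -- the numerical lemma
  have hlen : Module.length A (integralClosure A (FractionRing A) ⧸
      LinearMap.range (Algebra.linearMap A (integralClosure A (FractionRing A)))) + 1 ≤
      (Fintype.card (Fin n) : ℕ∞) := by
    rw [Fintype.card_fin]
    exact hδ.le
  obtain ⟨hsurj, hJ⟩ := numerical m' hmax hinj hover hlen
  -- a generator of the radical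
  have hprin : ∀ (P : Ideal (integralClosure A (FractionRing A))) [P.IsMaximal],
      (maximalIdeal (Localization.AtPrime P)).IsPrincipal := by
    intro P hP
    haveI hreg := BranchCount.isRegularLocalRing_localization_integralClosure A (FractionRing A)
      hdim.le hfin P
    have hdimC : ringKrullDim (integralClosure A (FractionRing A)) ≤ 1 :=
      (Groth.Agent.Lib.Helper3.ringKrullDim_le_of_isIntegral A _).trans hdim.le
    have hdimle : ringKrullDim (Localization.AtPrime P) ≤ 1 := by
      rw [IsLocalization.AtPrime.ringKrullDim_eq_height P (Localization.AtPrime P)]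
      calc ((P.height : ℕ∞) : WithBot ℕ∞) ≤ ringKrullDim (integralClosure A (FractionRing A)) :=
            Ideal.height_le_ringKrullDim_of_ne_top (Ideal.IsPrime.ne_top inferInstance)
        _ ≤ 1 := hdimC
    have hsf : (maximalIdeal (Localization.AtPrime P)).spanFinrank ≤ 1 := by
      have h1 := hreg.spanFinrank_maximalIdeal
      rw [← h1] at hdimle
      exact_mod_cast hdimle
    haveI : IsNoetherianRing (integralClosure A (FractionRing A)) := IsNoetherianRing.of_finite A _
    haveI : IsNoetherianRing (Localization.AtPrime P) := inferInstance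
    have hfg : (maximalIdeal (Localization.AtPrime P)).FG :=
      (maximalIdeal (Localization.AtPrime P)).fg_of_isNoetherianRing
    rcases Nat.le_one_iff_eq_zero_or_eq_one.mp hsf with h0 | h1
    · rw [(Submodule.spanFinrank_eq_zero_iff_eq_bot hfg).mp h0]
      exact bot_isPrincipal
    · exact ((Submodule.spanFinrank_eq_one_iff _).mp h1).1
  obtain ⟨π, hπm, hπJ⟩ := exists_generator m' hmax hinj hall hprin
  -- it is a nonzerodivisor
  obtain ⟨f, hfm, hf2⟩ := Groth.Agent.S7651.exists_param A hdim
  have hf0 : f ∈ A⁰ := Groth.Agent.S7651.nzd_of_param A hdim f hfm hf2 (Or.inr inferInstance)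
  have hfC := BranchCount.algebraMap_mem_nonZeroDivisors_subalgebra A (FractionRing A)
    (integralClosure A (FractionRing A)) f hf0
  have hπ0 : π ∈ (integralClosure A (FractionRing A) : Type u)⁰ := by
    have h1 := hπJ _ (fun i => hover i f hfm)
    obtain ⟨c, hc⟩ := Ideal.mem_span_singleton'.mp h1
    rw [mem_nonZeroDivisors_iff_right]
    intro y hy
    apply (mem_nonZeroDivisors_iff_right.mp hfC) y
    rw [← hc, mul_comm c π, ← mul_assoc, hy, zero_mul]
  -- the residue field
  have hresk : ∀ a : A, ∃ c : k, a - algebraMap k A c ∈ maximalIdeal A := by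
    intro a
    obtain ⟨c, hc⟩ := hres.2 (residue A a)
    refine ⟨c, ?_⟩
    rw [← residue_eq_zero_iff, map_sub, sub_eq_zero, ← hc]
    exact (IsScalarTower.algebraMap_apply k A (ResidueField A) c).symm
  exact main_abstract k A (AdicCompletion (maximalIdeal A) A)
    (integralClosure A (FractionRing A)) (AUn.FormalLike.cpl A) hinjC hresk n m' hmax hinj hall
    hsurj hJ π hπ0 hπm hπJ

end Groth.Agent.Lib.Helper22.Multicross
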