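import Mathlib

/-!
# The multicross ring `k[[T_1..T_n]]/(T_i T_j)` embeds in `k[[t]]^n` as the tuples with a common constant term (helper22)
-/

set_option autoImplicit false
set_option linter.style.haveILetI false
set_option linter.unusedSectionVars false
universe u

namespace Groth.Agent.Lib.Helper22.MulticrossRing

open Finsupp

variable (k : Type u) [CommRing k] {n : ℕ}

/-- restriction of a power series in `n` variables to the `i`-th axis -/
noncomputable def axis (i : Fin n) : MvPowerSeries (Fin n) k →+* PowerSeries k where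
  toFun f := PowerSeries.mk fun d => MvPowerSeries.coeff (Finsupp.single i d) f
  map_one' := by
    ext d
    rw [PowerSeries.coeff_mk, MvPowerSeries.coeff_one, PowerSeries.coeff_one]
    simp only [Finsupp.single_eq_zero]
  map_mul' f g := by
    classical
    ext d
    rw [PowerSeries.coeff_mk, PowerSeries.coeff_mul, MvPowerSeries.coeff_mul,
      Finsupp.antidiagonal_single, Finset.sum_map]
    simp only [PowerSeries.coeff_mk, Function.Embedding.coe_prodMap, Function.Embedding.coeFn_mk,
      Prod.map_fst, Prod.map_snd]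
  map_zero' := by
    ext d
    simp
  map_add' f g := by
    ext d
    simp

theorem coeff_axis (i : Fin n) (f : MvPowerSeries (Fin n) k) (d : ℕ) :
    PowerSeries.coeff d (axis k i f) = MvPowerSeries.coeff (Finsupp.single i d) f := by
  simp [axis]

theorem constantCoeff_axis (i : Fin n) (f : MvPowerSeries (Fin n) k) :
    PowerSeries.constantCoeff (axis k i f) = MvPowerSeries.constantCoeff f := by
  rw [← PowerSeries.coeff_zero_eq_constantCoeff_apply, coeff_axis, Finsupp.single_zero,
    MvPowerSeries.coeff_zero_eq_constantCoeff_apply]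

theorem axis_C (i : Fin n) (c : k) : axis k i (MvPowerSeries.C c) = PowerSeries.C c := by
  classical
  ext d
  rw [coeff_axis, MvPowerSeries.coeff_C, PowerSeries.coeff_C]
  simp only [Finsupp.single_eq_zero]

theorem axis_X (i j : Fin n) :
    axis k i (MvPowerSeries.X j) = if j = i then PowerSeries.X else 0 := by
  classical
  ext d
  rw [coeff_axis, MvPowerSeries.coeff_X]
  split_ifs with h1 h2 h2
  · rw [Finsupp.single_eq_single_iff] at h1
    rcases h1 with ⟨rfl, rfl⟩ | ⟨-, h⟩
    · rw [PowerSeries.coeff_one_X]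
    · exact absurd h one_ne_zero
  · rw [Finsupp.single_eq_single_iff] at h1
    rcases h1 with ⟨rfl, rfl⟩ | ⟨-, h⟩
    · exact absurd rfl h2
    · exact absurd h one_ne_zero
  · subst h2
    rw [PowerSeries.coeff_X, if_neg]
    rintro rfl
    exact h1 rfl
  · simp

/-- the ideal of the multicross singularity -/
noncomputable def I (n : ℕ) : Ideal (MvPowerSeries (Fin n) k) :=
  Ideal.span {f | ∃ i j : Fin n, i ≠ j ∧ f = MvPowerSeries.X i * MvPowerSeries.X j}

/-- all axis restrictions -/
noncomputable def Φ (n : ℕ) : MvPowerSeries (Fin n) k →+* (Fin n → PowerSeries k) :=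
  RingHom.pi (fun i => axis k i)

theorem I_le_ker : I k n ≤ RingHom.ker (Φ k n) := by
  rw [I, Ideal.span_le]
  rintro _ ⟨i, j, hij, rfl⟩
  rw [SetLike.mem_coe, RingHom.mem_ker]
  funext l
  show axis k l (MvPowerSeries.X i * MvPowerSeries.X j) = 0
  rw [map_mul, axis_X, axis_X]
  by_cases h1 : i = l
  · have : ¬ j = l := fun h => hij (h1.trans h.symm)
    rw [if_neg this, mul_zero]
  · rw [if_neg h1, zero_mul]

/-- a monomial is mixed when it involves two different variables -/
def Mixed (m : Fin n →₀ ℕ) : Prop := ∃ i j : Fin n, i ≠ j ∧ m i ≠ 0 ∧ m j ≠ 0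

theorem eq_zero_or_single_of_not_mixed (m : Fin n →₀ ℕ) (h : ¬ Mixed m) :
    m = 0 ∨ ∃ (i : Fin n) (d : ℕ), m = Finsupp.single i d := by
  by_cases h0 : m = 0
  · exact Or.inl h0
  · right
    obtain ⟨i, hi⟩ : ∃ i, m i ≠ 0 := by
      by_contra hc
      push Not at hc
      exact h0 (Finsupp.ext hc)
    refine ⟨i, m i, ?_⟩
    ext j
    by_cases hij : j = i
    · subst hij; simp
    · rw [Finsupp.single_apply, if_neg (fun h' => hij h'.symm)]
      by_contra hj
      exact h ⟨i, j, fun h' => hij h'.symm, hi, hj⟩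

/-- a power series all of whose monomials are mixed lies in the ideal `I` -/
theorem mem_I_of_mixed (h : MvPowerSeries (Fin n) k)
    (hh : ∀ m, ¬ Mixed m → MvPowerSeries.coeff m h = 0) : h ∈ I k n := by
  classical
  -- the choice of a pair of variables for every mixed monomial
  let sel : (Fin n →₀ ℕ) → Fin n × Fin n → Prop := fun m ij =>
    ∃ hm : Mixed m, ij = (Classical.choose hm, Classical.choose (Classical.choose_spec hm))
  have hsel_spec : ∀ m ij, sel m ij → ij.1 ≠ ij.2 ∧ m ij.1 ≠ 0 ∧ m ij.2 ≠ 0 := by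
    rintro m ij ⟨hm, rfl⟩
    exact Classical.choose_spec (Classical.choose_spec hm)
  have hsel_unique : ∀ m ij ij', sel m ij → sel m ij' → ij = ij' := by
    rintro m ij ij' ⟨hm, rfl⟩ ⟨hm', rfl⟩
    rfl
  have hsel_ex : ∀ m, Mixed m → ∃ ij, sel m ij := fun m hm => ⟨_, hm, rfl⟩
  let e : Fin n × Fin n → (Fin n →₀ ℕ) := fun ij => Finsupp.single ij.1 1 + Finsupp.single ij.2 1
  let q : Fin n × Fin n → MvPowerSeries (Fin n) k := fun ij μ =>
    if sel (μ + e ij) ij then MvPowerSeries.coeff (μ + e ij) h else 0
  have hXX : ∀ ij : Fin n × Fin n, MvPowerSeries.X ij.1 * MvPowerSeries.X ij.2 =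
      MvPowerSeries.monomial (e ij) (1 : k) := by
    intro ij
    rw [MvPowerSeries.X_def, MvPowerSeries.X_def, MvPowerSeries.monomial_mul_monomial, mul_one]
  have hle : ∀ m ij, sel m ij → e ij ≤ m := by
    intro m ij hs
    obtain ⟨h1, h2, h3⟩ := hsel_spec m ij hs
    intro l
    simp only [e, Finsupp.add_apply, Finsupp.single_apply]
    by_cases hl1 : ij.1 = l
    · have : ¬ ij.2 = l := fun h' => h1 (hl1.trans h'.symm)
      rw [if_pos hl1, if_neg this, add_zero]
      subst hl1
      exact Nat.one_le_iff_ne_zero.mpr h2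
    · rw [if_neg hl1, zero_add]
      by_cases hl2 : ij.2 = l
      · rw [if_pos hl2]; subst hl2; exact Nat.one_le_iff_ne_zero.mpr h3
      · rw [if_neg hl2]; exact Nat.zero_le _
  have hdecomp : h = ∑ ij : Fin n × Fin n, MvPowerSeries.X ij.1 * MvPowerSeries.X ij.2 * q ij := by
    ext m
    rw [map_sum]
    have hterm : ∀ ij : Fin n × Fin n,
        MvPowerSeries.coeff m (MvPowerSeries.X ij.1 * MvPowerSeries.X ij.2 * q ij) =
          if sel m ij then MvPowerSeries.coeff m h else 0 := by
      intro ij
      rw [hXX, MvPowerSeries.coeff_monomial_mul, one_mul]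
      by_cases hs : sel m ij
      · have h1 := hle m ij hs
        rw [if_pos h1, if_pos hs]
        show (if sel (m - e ij + e ij) ij then MvPowerSeries.coeff (m - e ij + e ij) h else 0) = _
        rw [tsub_add_cancel_of_le h1, if_pos hs]
      · rw [if_neg hs]
        split_ifs with h1
        · show (if sel (m - e ij + e ij) ij then MvPowerSeries.coeff (m - e ij + e ij) h else 0) = _
          rw [tsub_add_cancel_of_le h1, if_neg hs]
        · rfl
    simp_rw [hterm]
    by_cases hm : Mixed m
    · obtain ⟨ij₀, hij₀⟩ := hsel_ex m hm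
      rw [Finset.sum_eq_single ij₀]
      · rw [if_pos hij₀]
      · intro ij _ hne
        rw [if_neg]
        intro hs
        exact hne (hsel_unique m ij ij₀ hs hij₀)
      · intro hnot
        exact absurd (Finset.mem_univ _) hnot
    · rw [hh m hm]
      symm
      apply Finset.sum_eq_zero
      intro ij _
      rw [if_neg]
      rintro ⟨hm', -⟩
      exact hm hm'
  rw [hdecomp]
  refine Ideal.sum_mem _ fun ij _ => ?_
  by_cases hne : ij.1 = ij.2
  · have hq : q ij = 0 := by
      ext μ
      show (if sel (μ + e ij) ij then _ else 0) = _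
      rw [if_neg]
      · simp
      · intro hs
        exact (hsel_spec _ _ hs).1 hne
    rw [hq, mul_zero]
    exact Ideal.zero_mem _
  · exact Ideal.mul_mem_right _ _ (Ideal.subset_span ⟨ij.1, ij.2, hne, rfl⟩)

/-- the kernel of `Φ` is `I` (for `n ≥ 1`) -/
theorem ker_Φ (hn : 0 < n) : RingHom.ker (Φ k n) = I k n := by
  refine le_antisymm ?_ (I_le_ker k)
  intro f hf
  rw [RingHom.mem_ker] at hf
  have hax : ∀ (i : Fin n) (d : ℕ), MvPowerSeries.coeff (Finsupp.single i d) f = 0 := by
    intro i d
    rw [← coeff_axis]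
    have : axis k i f = 0 := congrFun hf i
    rw [this, map_zero]
  apply mem_I_of_mixed
  intro m hm
  rcases eq_zero_or_single_of_not_mixed m hm with rfl | ⟨i, d, rfl⟩
  · have := hax ⟨0, hn⟩ 0
    rwa [Finsupp.single_zero] at this
  · exact hax i d

/-- the range of `Φ`: tuples with a common constant term -/
theorem range_Φ (hn : 0 < n) :
    Set.range (Φ k n) = {g : Fin n → PowerSeries k | ∀ i j : Fin n,
      PowerSeries.constantCoeff (g i) = PowerSeries.constantCoeff (g j)} := by
  classical
  ext g
  constructor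
  · rintro ⟨f, rfl⟩ i j
    show PowerSeries.constantCoeff (axis k i f) = PowerSeries.constantCoeff (axis k j f)
    rw [constantCoeff_axis, constantCoeff_axis]
  · intro hg
    let c : k := PowerSeries.constantCoeff (g ⟨0, hn⟩)
    let f : MvPowerSeries (Fin n) k := fun m =>
      if m = 0 then c else ∑ i : Fin n,
        if m = Finsupp.single i (m i) then PowerSeries.coeff (m i) (g i) else 0
    refine ⟨f, ?_⟩
    funext l
    show axis k l f = g l
    ext d
    rw [coeff_axis]
    show (if Finsupp.single l d = 0 then c else ∑ i : Fin n,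
        if Finsupp.single l d = Finsupp.single i ((Finsupp.single l d) i) then
          PowerSeries.coeff ((Finsupp.single l d) i) (g i) else 0) = _
    by_cases hd : d = 0
    · subst hd
      rw [if_pos (Finsupp.single_zero l), PowerSeries.coeff_zero_eq_constantCoeff_apply]
      exact hg _ _
    · rw [if_neg (by rwa [Finsupp.single_eq_zero])]
      rw [Finset.sum_eq_single l]
      · rw [Finsupp.single_eq_same, if_pos rfl]
      · intro i _ hil
        rw [if_neg]
        rw [Finsupp.single_eq_of_ne (by exact hil), Finsupp.single_zero]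
        rwa [Finsupp.single_eq_zero]
      · intro hnot
        exact absurd (Finset.mem_univ _) hnot

/-- the multicross ring `k[[T_1, …, T_n]]/(T_i T_j)` -/
abbrev R (n : ℕ) : Type u := MvPowerSeries (Fin n) k ⧸ I k n

/-- the embedding of the multicross ring into the product of power series rings -/
noncomputable def Φbar (n : ℕ) : R k n →+* (Fin n → PowerSeries k) :=
  Ideal.Quotient.lift (I k n) (Φ k n) (fun _ ha => RingHom.mem_ker.mp (I_le_ker k ha))

theorem Φbar_mk (f : MvPowerSeries (Fin n) k) :
    Φbar k n (Ideal.Quotient.mk (I k n) f) = Φ k n f := rfl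

theorem Φbar_injective (hn : 0 < n) : Function.Injective (Φbar k n) := by
  rw [injective_iff_map_eq_zero]
  intro a ha
  obtain ⟨f, rfl⟩ := Ideal.Quotient.mk_surjective a
  rw [Φbar_mk] at ha
  rw [Ideal.Quotient.eq_zero_iff_mem, ← ker_Φ k hn]
  exact RingHom.mem_ker.mpr ha

theorem range_Φbar (hn : 0 < n) :
    Set.range (Φbar k n) = {g : Fin n → PowerSeries k | ∀ i j : Fin n,
      PowerSeries.constantCoeff (g i) = PowerSeries.constantCoeff (g j)} := by
  rw [← range_Φ k hn]
  ext g
  constructor
  · rintro ⟨a, rfl⟩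
    obtain ⟨f, rfl⟩ := Ideal.Quotient.mk_surjective a
    exact ⟨f, rfl⟩
  · rintro ⟨f, rfl⟩
    exact ⟨Ideal.Quotient.mk _ f, rfl⟩

theorem Φbar_C (c : k) :
    Φbar k n (Ideal.Quotient.mk (I k n) (MvPowerSeries.C c)) = fun _ => PowerSeries.C c := by
  rw [Φbar_mk]
  funext l
  exact axis_C k l c

/-- two injective ring homomorphisms with the same range have isomorphic sources -/
theorem exists_equiv_of_range_eq {R₁ R₂ B : Type*} [CommRing R₁] [CommRing R₂] [CommRing B]
    (φ₁ : R₁ →+* B) (φ₂ : R₂ →+* B) (h₁ : Function.Injective φ₁) (h₂ : Function.Injective φ₂)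
    (hr : Set.range φ₁ = Set.range φ₂) : ∃ e : R₁ ≃+* R₂, ∀ x, φ₂ (e x) = φ₁ x := by
  have hex : ∀ x : R₁, ∃ y : R₂, φ₂ y = φ₁ x := fun x => by
    have : φ₁ x ∈ Set.range φ₂ := hr ▸ ⟨x, rfl⟩
    exact this
  have hex' : ∀ y : R₂, ∃ x : R₁, φ₁ x = φ₂ y := fun y => by
    have : φ₂ y ∈ Set.range φ₁ := hr ▸ ⟨y, rfl⟩
    exact this
  choose F hF using hex
  choose G hG using hex'
  refine ⟨{ toFun := F
            invFun := G
            left_inv := fun x => h₁ (by rw [hG, hF])
            right_inv := fun y => h₂ (by rw [hF, hG])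
            map_mul' := fun x y => h₂ (by rw [hF, map_mul, map_mul, hF, hF])
            map_add' := fun x y => h₂ (by rw [hF, map_add, map_add, hF, hF]) }, hF⟩

end Groth.Agent.Lib.Helper22.MulticrossRing
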