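import Mathlib
import Groth.Agent.Lib.Helper22.MulticrossRingA
import Groth.Agent.Lib.Helper22.BranchCountA
import Groth.Agent.Lib.Helper22.DeltaInvA
import Groth.Agent.Lib.Helper22.DeltaInvF
import Groth.Agent.Lib.Helper22.NormalColim
import Groth.Agent.Lib.Helper22.NormalSections
import Groth.Prelude.Def_Curv2

/-!
# Invariants of a ring of tuples of power series with a common constant term

`T` is a ring with an injective map `φ : T → k[[t]]^n` whose image consists of the tuples with a
common constant term (`k` a field).  We compute the number of minimal primes (`n`), the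
δ-invariant (`n - 1`) and the dimension of the cotangent space (`n`).
-/

set_option autoImplicit false
set_option linter.style.haveILetI false
set_option linter.unusedSectionVars false
universe u v

namespace Groth.Agent.Lib.Helper22.MulticrossRing

open scoped nonZeroDivisors
open Groth.Agent.Lib.Helper22.NormalColim

/-- a product of normal rings is normal (any index type) -/
theorem isNormalRing_pi' {ι : Type v} (R : ι → Type u) [∀ i, CommRing (R i)]
    (h : ∀ i, EGA4.IsNormalRing (R i)) : EGA4.IsNormalRing (∀ i, R i) := by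
  rw [isNormalRing_iff]
  constructor
  · intro a b hab
    have h1 : ∀ i, ∃ u v : R i, u * a i = 0 ∧ v * b i = 0 ∧ u + v = 1 := fun i =>
      N1_of_isNormalRing (h i) (a i) (b i) (congrFun hab i)
    choose u v hu hv huv using h1
    exact ⟨u, v, funext hu, funext hv, funext huv⟩
  · intro a b q hq hrel
    have h1 : ∀ i, ∃ r : R i, a i = b i * r := by
      intro i
      by_cases hnt : Nontrivial (R i)
      · refine N2_of_isNormalRing (h i) (a i) (b i) (q.map (Pi.evalRingHom R i)) (hq.map _) ?_
        have hlc : (Pi.evalRingHom R i) q.leadingCoeff ≠ 0 := by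
          rw [hq.leadingCoeff, map_one]
          exact one_ne_zero
        have h4 : (q.map (Pi.evalRingHom R i)).scaleRoots (b i) =
            (q.scaleRoots b).map (Pi.evalRingHom R i) :=
          (Polynomial.map_scaleRoots q b (Pi.evalRingHom R i) hlc).symm
        rw [h4]
        have h2 : ((q.scaleRoots b).map (Pi.evalRingHom R i)).eval (Pi.evalRingHom R i a) =
            Pi.evalRingHom R i ((q.scaleRoots b).eval a) := by
          rw [Polynomial.eval_map, Polynomial.eval₂_at_apply]
        have h3 : Pi.evalRingHom R i a = a i := rfl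
        rw [h3] at h2
        rw [h2, hrel, map_zero]
      · rw [not_nontrivial_iff_subsingleton] at hnt
        exact ⟨0, Subsingleton.elim _ _⟩
    choose r hr using h1
    exact ⟨r, funext hr⟩

section PiDomain

variable {ι : Type*} [Fintype ι] [DecidableEq ι] (R : ι → Type*) [∀ i, CommRing (R i)]
  [∀ i, IsDomain (R i)]

/-- the kernel of the `i`-th projection -/
def P (i : ι) : Ideal (∀ i, R i) := RingHom.ker (Pi.evalRingHom R i)

theorem mem_P (i : ι) (f : ∀ i, R i) : f ∈ P R i ↔ f i = 0 := by
  rw [P, RingHom.mem_ker]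
  rfl

theorem P_le_imp (i j : ι) (h : P R j ≤ P R i) : j = i := by
  by_contra hne
  have h1 : Pi.single i (1 : R i) ∈ P R j := by
    rw [mem_P]
    exact Pi.single_eq_of_ne hne _
  have h2 := h h1
  rw [mem_P, Pi.single_eq_same] at h2
  exact one_ne_zero h2

theorem P_injective : Function.Injective (P R) := fun i j h => (P_le_imp R j i h.le)

theorem minimalPrimes_pi : minimalPrimes (∀ i, R i) = Set.range (P R) := by
  have hprime : ∀ i, (P R i).IsPrime := fun i => RingHom.ker_isPrime _
  have hinf : (Finset.univ.inf (P R)) = ⊥ := by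
    rw [eq_bot_iff]
    intro f hf
    rw [Submodule.mem_finsetInf] at hf
    rw [Ideal.mem_bot]
    funext i
    exact (mem_P R i f).mp (hf i (Finset.mem_univ i))
  have hcontains : ∀ Q : Ideal (∀ i, R i), Q.IsPrime → ∃ i, P R i ≤ Q := by
    intro Q hQ
    have h1 : Finset.univ.inf (P R) ≤ Q := hinf ▸ bot_le
    obtain ⟨i, -, hi⟩ := (Ideal.IsPrime.inf_le' hQ).mp h1
    exact ⟨i, hi⟩
  ext Q
  constructor
  · rintro ⟨⟨hQ, -⟩, hmin⟩
    obtain ⟨i, hi⟩ := hcontains Q hQ
    exact ⟨i, le_antisymm hi (hmin ⟨hprime i, bot_le⟩ hi)⟩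
  · rintro ⟨i, rfl⟩
    refine ⟨⟨hprime i, bot_le⟩, ?_⟩
    rintro Q ⟨hQ, -⟩ hle
    obtain ⟨j, hj⟩ := hcontains Q hQ
    have := P_le_imp R i j (hj.trans hle)
    subst this
    exact hj

theorem ncard_minimalPrimes_pi : (minimalPrimes (∀ i, R i)).ncard = Fintype.card ι := by
  rw [minimalPrimes_pi, Set.ncard_range_of_injective (P_injective R), Nat.card_eq_fintype_card]

end PiDomain

section Main

variable {k : Type u} [Field k] {T : Type u} [CommRing T] {n : ℕ}
  (φ : T →+* (Fin n → PowerSeries k)) (hφ : Function.Injective φ)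
  (hr : Set.range φ = {f : Fin n → PowerSeries k | ∀ i j : Fin n,
      PowerSeries.constantCoeff (f i) = PowerSeries.constantCoeff (f j)})

include hr in
theorem exists_of_const (f : Fin n → PowerSeries k)
    (hf : ∀ i j : Fin n, PowerSeries.constantCoeff (f i) = PowerSeries.constantCoeff (f j)) :
    ∃ a : T, φ a = f := by
  have : f ∈ Set.range φ := by
    rw [hr]
    exact hf
  exact this

include hr in
theorem const_of_apply (a : T) (i j : Fin n) :
    PowerSeries.constantCoeff (φ a i) = PowerSeries.constantCoeff (φ a j) := by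
  have : φ a ∈ Set.range φ := ⟨a, rfl⟩
  rw [hr] at this
  exact this i j

include hr in
theorem exists_t : ∃ t : T, φ t = fun _ => PowerSeries.X :=
  exists_of_const φ hr _ (fun _ _ => rfl)

include hr in
theorem hcond (t : T) (ht : φ t = fun _ => PowerSeries.X) (s : Fin n → PowerSeries k) :
    ∃ r : T, φ r = φ t * s := by
  refine exists_of_const φ hr _ (fun i j => ?_)
  rw [ht]
  simp

theorem htS (t : T) (ht : φ t = fun _ => PowerSeries.X) : φ t ∈ (Fin n → PowerSeries k)⁰ := by
  rw [ht, mem_nonZeroDivisors_iff_right]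
  intro x hx
  funext i
  have h1 := congrFun hx i
  rw [Pi.mul_apply, Pi.zero_apply] at h1
  rcases mul_eq_zero.mp h1 with h | h
  · exact h
  · exact absurd h PowerSeries.X_ne_zero

include hφ hr in
/-- the number of minimal primes -/
theorem ncard_minimalPrimes : (minimalPrimes T).ncard = n := by
  classical
  obtain ⟨t, ht⟩ := exists_t φ hr
  have hS := htS φ t ht
  have hR : t ∈ T⁰ := mem_nonZeroDivisors_of_injective hφ hS
  have bij := BranchCount.bijOn_comap_minimalPrimes φ hφ t (hcond φ hr t ht) hR hS
  rw [← bij.image_eq, Set.InjOn.ncard_image bij.injOn, ncard_minimalPrimes_pi, Fintype.card_fin]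

include hφ hr in
/-- the δ-invariant -/
theorem deltaInv_add_one (hn : 0 < n) : Curv2.deltaInv T + 1 = n := by
  classical
  letI : Algebra T (Fin n → PowerSeries k) := φ.toAlgebra
  have halg : ∀ a, algebraMap T (Fin n → PowerSeries k) a = φ a := fun _ => rfl
  haveI : Algebra.IsIntegral T (Fin n → PowerSeries k) := ⟨fun b => by
    have hb : b = ∑ i, Pi.single i (1 : PowerSeries k) * (fun _ => b i) := by
      funext j
      rw [Finset.sum_apply, Finset.sum_eq_single j]
      · rw [Pi.mul_apply, Pi.single_eq_same, one_mul]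
      · intro i _ hij
        rw [Pi.mul_apply, Pi.single_eq_of_ne (Ne.symm hij), zero_mul]
      · intro h
        exact absurd (Finset.mem_univ j) h
    rw [hb]
    refine IsIntegral.sum _ fun i _ => IsIntegral.mul ?_ ?_
    · refine ⟨Polynomial.X ^ 2 - Polynomial.X, Polynomial.monic_X_pow_sub
        (lt_of_le_of_lt Polynomial.degree_X_le (by norm_num)), ?_⟩
      rw [Polynomial.eval₂_sub, Polynomial.eval₂_pow, Polynomial.eval₂_X, sq,
        ← Pi.single_mul, one_mul, sub_self]
    · obtain ⟨a, ha⟩ := exists_of_const φ hr (fun _ => b i) (fun _ _ => rfl)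
      rw [← ha]
      exact isIntegral_algebraMap⟩
  obtain ⟨t, ht⟩ := exists_t φ hr
  have hnorm : EGA4.IsNormalRing (Fin n → PowerSeries k) :=
    isNormalRing_pi' (fun _ : Fin n => PowerSeries k)
      (fun _ => NormalSections.isNormalRing_of_isIntegrallyClosed _)
  have h1 := DeltaInv.length_normalization_eq (T := T) (B := Fin n → PowerSeries k) hφ t
    (htS φ t ht) (hcond φ hr t ht) (fun p _ => (hnorm p).1) (fun p _ => (hnorm p).2)
  unfold Curv2.deltaInv
  rw [h1]
  obtain ⟨n', rfl⟩ : ∃ n', n = n' + 1 := ⟨n - 1, by omega⟩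
  let σ : T →+* k := (PowerSeries.constantCoeff).comp ((Pi.evalRingHom _ 0).comp φ)
  have hσ : ∀ a i, PowerSeries.constantCoeff (φ a i) = σ a := fun a i => const_of_apply φ hr a i 0
  haveI : RingHomSurjective σ := ⟨fun c => by
    obtain ⟨a, ha⟩ := exists_of_const φ hr (fun _ => PowerSeries.C c) (fun _ _ => rfl)
    refine ⟨a, ?_⟩
    rw [← hσ a 0, ha, PowerSeries.constantCoeff_C]⟩
  let ψ : (Fin (n' + 1) → PowerSeries k) →ₛₗ[σ] (Fin n' → k) :=
    { toFun := fun b j => PowerSeries.constantCoeff (b j.succ) - PowerSeries.constantCoeff (b 0)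
      map_add' := fun b c => by
        funext j
        simp only [Pi.add_apply, map_add]
        ring
      map_smul' := fun a b => by
        funext j
        rw [Algebra.smul_def, halg]
        simp only [Pi.mul_apply, map_mul, Pi.smul_apply, smul_eq_mul, hσ]
        ring }
  have hψ : ∀ b j, ψ b j = PowerSeries.constantCoeff (b j.succ) - PowerSeries.constantCoeff (b 0) :=
    fun _ _ => rfl
  have hle : LinearMap.range (Algebra.linearMap T (Fin (n' + 1) → PowerSeries k)) ≤
      LinearMap.ker ψ := by
    rintro _ ⟨a, rfl⟩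
    rw [LinearMap.mem_ker]
    funext j
    rw [hψ, Algebra.linearMap_apply, halg, hσ, hσ, sub_self]
    rfl
  have hbij : Function.Bijective (Submodule.liftQ _ ψ hle) := by
    constructor
    · rw [← LinearMap.ker_eq_bot, LinearMap.ker_eq_bot']
      intro x hx
      obtain ⟨b, rfl⟩ := Submodule.Quotient.mk_surjective _ x
      rw [Submodule.liftQ_apply] at hx
      rw [Submodule.Quotient.mk_eq_zero]
      have hb : ∀ i j : Fin (n' + 1),
          PowerSeries.constantCoeff (b i) = PowerSeries.constantCoeff (b j) := by
        have h0 : ∀ i : Fin (n' + 1),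
            PowerSeries.constantCoeff (b i) = PowerSeries.constantCoeff (b 0) := by
          intro i
          refine Fin.cases rfl (fun j => ?_) i
          have := congrFun hx j
          rw [hψ, Pi.zero_apply, sub_eq_zero] at this
          exact this
        intro i j
        rw [h0 i, h0 j]
      obtain ⟨a, ha⟩ := exists_of_const φ hr b hb
      exact ⟨a, ha⟩
    · intro c
      refine ⟨Submodule.Quotient.mk (Fin.cons 0 (fun j => PowerSeries.C (c j))), ?_⟩
      rw [Submodule.liftQ_apply]
      funext j
      rw [hψ, Fin.cons_succ, Fin.cons_zero, PowerSeries.constantCoeff_C, map_zero, sub_zero]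
  rw [DeltaInv.length_eq_of_semilinear_bijective σ (Submodule.liftQ _ ψ hle) hbij,
    Module.length_eq_finrank, Module.finrank_fin_fun]
  push_cast
  rfl

end Main

end Groth.Agent.Lib.Helper22.MulticrossRing
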