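import Mathlib
import Groth.Agent.Lib.Helper22.MulticrossRingB

/-!
# The cotangent space of a ring of tuples of power series with a common constant term
-/

set_option autoImplicit false
set_option linter.style.haveILetI false
set_option linter.unusedSectionVars false
universe u v

namespace Groth.Agent.Lib.Helper22.MulticrossRing

open scoped nonZeroDivisors
open IsLocalRing

section Zero

variable (k : Type u) [Field k]

theorem eq_C_of_fin_zero (f : MvPowerSeries (Fin 0) k) :
    f = MvPowerSeries.C (MvPowerSeries.constantCoeff f) := by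
  ext m
  have hm : m = 0 := Subsingleton.elim _ _
  subst hm
  rw [MvPowerSeries.coeff_zero_C]
  rfl

/-- the multicross ring with no branch is a field -/
theorem isField_R_zero : IsField (R k 0) := by
  have hI : I k 0 = ⊥ := by
    unfold I
    rw [Ideal.span_eq_bot]
    rintro f ⟨i, -⟩
    exact i.elim0
  haveI : Nontrivial (R k 0) := Ideal.Quotient.nontrivial_iff.mpr (by rw [hI]; exact bot_ne_top)
  refine ⟨exists_pair_ne _, mul_comm, ?_⟩
  intro a ha
  obtain ⟨f, rfl⟩ := Ideal.Quotient.mk_surjective a
  have hc : MvPowerSeries.constantCoeff f ≠ 0 := by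
    intro h0
    apply ha
    rw [eq_C_of_fin_zero k f, h0, map_zero, map_zero]
  have hu : IsUnit f := MvPowerSeries.isUnit_iff_constantCoeff.mpr (isUnit_iff_ne_zero.mpr hc)
  obtain ⟨g, hg⟩ := hu.exists_right_inv
  exact ⟨Ideal.Quotient.mk _ g, by rw [← map_mul, hg, map_one]⟩

end Zero

section Main

variable {k : Type u} [Field k] {T : Type u} [CommRing T] {n : ℕ}
  (φ : T →+* (Fin n → PowerSeries k)) (hφ : Function.Injective φ)
  (hr : Set.range φ = {f : Fin n → PowerSeries k | ∀ i j : Fin n,
      PowerSeries.constantCoeff (f i) = PowerSeries.constantCoeff (f j)})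

include hφ hr in
theorem isUnit_iff (hn : 0 < n) (a : T) :
    IsUnit a ↔ PowerSeries.constantCoeff (φ a ⟨0, hn⟩) ≠ 0 := by
  constructor
  · intro ha
    let σ : T →+* k := (PowerSeries.constantCoeff).comp
      ((Pi.evalRingHom (fun _ : Fin n => PowerSeries k) ⟨0, hn⟩).comp φ)
    have h1 : IsUnit (σ a) := ha.map σ
    exact h1.ne_zero
  · intro ha
    have hall : ∀ i, PowerSeries.constantCoeff (φ a i) ≠ 0 := fun i => by
      rw [const_of_apply φ hr a i ⟨0, hn⟩]
      exact ha
    obtain ⟨b, hb⟩ := exists_of_const φ hr (fun i => (φ a i)⁻¹) (fun i j => by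
      rw [PowerSeries.constantCoeff_inv, PowerSeries.constantCoeff_inv,
        const_of_apply φ hr a i j])
    have h1 : a * b = 1 := by
      apply hφ
      rw [map_mul, map_one, hb]
      funext i
      rw [Pi.mul_apply, Pi.one_apply]
      exact PowerSeries.mul_inv_cancel _ (hall i)
    exact IsUnit.of_mul_eq_one _ h1

include hφ hr in
/-- the dimension of the cotangent space -/
theorem finrank_cotangentSpace [IsLocalRing T] (hn : 0 < n) :
    Module.finrank (ResidueField T) (CotangentSpace T) = n := by
  classical
  let σ : T →+* k := (PowerSeries.constantCoeff).comp ((Pi.evalRingHom _ ⟨0, hn⟩).comp φ)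
  have hσ : ∀ a i, PowerSeries.constantCoeff (φ a i) = σ a :=
    fun a i => const_of_apply φ hr a i ⟨0, hn⟩
  have hmem : ∀ a : T, a ∈ maximalIdeal T ↔ σ a = 0 := by
    intro a
    rw [mem_maximalIdeal, mem_nonunits_iff, isUnit_iff φ hφ hr hn a, not_not]
    rfl
  haveI : RingHomSurjective σ := ⟨fun c => by
    obtain ⟨a, ha⟩ := exists_of_const φ hr (fun _ => PowerSeries.C c) (fun _ _ => rfl)
    refine ⟨a, ?_⟩
    rw [← hσ a ⟨0, hn⟩, ha, PowerSeries.constantCoeff_C]⟩
  have hcoeff : ∀ p q : PowerSeries k, PowerSeries.coeff 1 (p * q) =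
      PowerSeries.constantCoeff p * PowerSeries.coeff 1 q +
        PowerSeries.coeff 1 p * PowerSeries.constantCoeff q := by
    intro p q
    rw [PowerSeries.coeff_mul, show (1 : ℕ) = 0 + 1 from rfl, Finset.Nat.sum_antidiagonal_succ]
    simp
  let g : maximalIdeal T →ₛₗ[σ] (Fin n → k) :=
    { toFun := fun x i => PowerSeries.coeff 1 (φ (x : T) i)
      map_add' := fun x y => by
        funext i
        simp only [Submodule.coe_add, map_add, Pi.add_apply]
      map_smul' := fun a x => by
        funext i
        have hx : PowerSeries.constantCoeff (φ (x : T) i) = 0 := by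
          rw [hσ]
          exact (hmem _).mp x.2
        simp only [Submodule.coe_smul, smul_eq_mul, map_mul, Pi.mul_apply, Pi.smul_apply]
        rw [hcoeff, hx, mul_zero, add_zero, hσ] }
  have hg : ∀ (x : maximalIdeal T) i, g x i = PowerSeries.coeff 1 (φ (x : T) i) :=
    fun _ _ => rfl
  have hle : (maximalIdeal T • ⊤ : Submodule T (maximalIdeal T)) ≤ LinearMap.ker g := by
    rw [Submodule.smul_le]
    intro a ha x _
    rw [LinearMap.mem_ker, map_smulₛₗ, (hmem a).mp ha, zero_smul]
  obtain ⟨t, ht⟩ := exists_t φ hr
  have htm : t ∈ maximalIdeal T := by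
    rw [hmem, ← hσ t ⟨0, hn⟩, ht]
    simp
  have hbij : Function.Bijective (Submodule.liftQ _ g hle) := by
    constructor
    · rw [← LinearMap.ker_eq_bot, LinearMap.ker_eq_bot']
      intro x hx
      obtain ⟨y, rfl⟩ := Submodule.Quotient.mk_surjective _ x
      rw [Submodule.liftQ_apply] at hx
      change (maximalIdeal T).toCotangent y = 0
      rw [Ideal.toCotangent_eq_zero]
      have hdvd : ∀ i, (PowerSeries.X : PowerSeries k) ^ 2 ∣ φ (y : T) i := by
        intro i
        rw [PowerSeries.X_pow_dvd_iff]
        intro m hm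
        interval_cases m
        · rw [PowerSeries.coeff_zero_eq_constantCoeff_apply, hσ]
          exact (hmem _).mp y.2
        · have := congrFun hx i
          rw [hg] at this
          exact this
      choose h hh using hdvd
      obtain ⟨u, hu⟩ := exists_of_const φ hr (fun i => PowerSeries.X * h i) (fun i j => by simp)
      have hum : u ∈ maximalIdeal T := by
        rw [hmem, ← hσ u ⟨0, hn⟩, hu]
        simp
      have hy : (y : T) = t * u := by
        apply hφ
        rw [map_mul, ht, hu]
        funext i
        rw [hh i, Pi.mul_apply, sq, mul_assoc]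
      rw [hy, sq]
      exact Ideal.mul_mem_mul htm hum
    · intro c
      obtain ⟨a, ha⟩ := exists_of_const φ hr (fun i => PowerSeries.C (c i) * PowerSeries.X)
        (fun i j => by simp)
      have ham : a ∈ maximalIdeal T := by
        rw [hmem, ← hσ a ⟨0, hn⟩, ha]
        simp
      refine ⟨Submodule.Quotient.mk ⟨a, ham⟩, ?_⟩
      rw [Submodule.liftQ_apply]
      funext i
      rw [hg]
      change PowerSeries.coeff 1 (φ a i) = c i
      rw [ha, PowerSeries.coeff_C_mul, PowerSeries.coeff_one_X, mul_one]
  have h0 : Module.length T (CotangentSpace T) = Module.length k (Fin n → k) :=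
    DeltaInv.length_eq_of_semilinear_bijective σ (Submodule.liftQ _ g hle) hbij
  have h1 : Module.length T (CotangentSpace T) = n := by
    rw [h0, Module.length_eq_finrank, Module.finrank_fin_fun]
  have h2 : Module.length T (CotangentSpace T) =
      Module.length (ResidueField T) (CotangentSpace T) :=
    Module.length_eq_of_surjective (M := CotangentSpace T) residue_surjective
  rw [h2, Module.length_eq_rank] at h1
  have h3 : Module.rank (ResidueField T) (CotangentSpace T) = (n : Cardinal) :=
    Cardinal.toENat_eq_natCast.mp h1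
  exact Module.finrank_eq_of_rank_eq h3

end Main

end Groth.Agent.Lib.Helper22.MulticrossRing
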