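import Mathlib
import Groth.Agent.Lib.Helper22.MulticrossRingC
import Groth.Agent.Lib.Helper5.GorFlatH
import Groth.Agent.Lib.Helper5.GorIso
import Groth.Agent.Lib.Helper12.AnUnramD
import Groth.Agent.Lib.Helper12.AUnA
import Groth.Agent.S0342
import Groth.Agent.S0343

/-!
# A Gorenstein multicross singularity is a node
-/

set_option autoImplicit false
set_option linter.style.haveILetI false
set_option linter.unusedSectionVars false
universe u

namespace Groth.Agent.Lib.Helper22.MulticrossRing

open scoped nonZeroDivisors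
open IsLocalRing
open Groth.Agent.Lib.Helper12 Groth.Agent.Lib.Helper5

section Ascent

variable (A : Type u) [CommRing A] [hG : LocCoh.IsGorensteinLocalRing A]

/-- the completion of a Gorenstein local ring is Gorenstein -/
theorem isGorensteinLocalRing_cpl :
    LocCoh.IsGorensteinLocalRing (AdicCompletion (maximalIdeal A) A) := by
  haveI := AnUnram.isNoetherianRing_cpl A
  haveI := AnUnram.faithfullyFlat_cpl A
  have hT := AUn.FormalLike.cpl A
  haveI : IsLocalHom (algebraMap A (AdicCompletion (maximalIdeal A) A)) := ⟨fun a ha => by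
    by_contra hna
    have h1 : algebraMap A (AdicCompletion (maximalIdeal A) A) a ∈
        maximalIdeal (AdicCompletion (maximalIdeal A) A) := by
      rw [← hT.map_max]
      exact Ideal.mem_map_of_mem _ ((IsLocalRing.mem_maximalIdeal a).mpr hna)
    exact (IsLocalRing.mem_maximalIdeal _).mp h1 ha⟩
  obtain ⟨d, hd⟩ : ∃ d : ℕ, ringKrullDim A = d := by
    have h1 := ringKrullDim_ne_bot (R := A)
    have h2 := ringKrullDim_ne_top (R := A)
    obtain ⟨e, he⟩ := WithBot.ne_bot_iff_exists.mp h1
    have h3 : e ≠ ⊤ := by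
      rintro rfl
      exact h2 he.symm
    obtain ⟨d, rfl⟩ := ENat.ne_top_iff_exists.mp h3
    exact ⟨d, he.symm⟩
  rw [GorFlat.gorenstein_iff_fibre d A (AdicCompletion (maximalIdeal A) A) hG hd]
  have hm : GorFlat.mB A (AdicCompletion (maximalIdeal A) A) =
      maximalIdeal (AdicCompletion (maximalIdeal A) A) := hT.map_max
  haveI hF : LocCoh.IsGorensteinLocalRing (ResidueField (AdicCompletion (maximalIdeal A) A)) :=
    Groth.Agent.S0342.result _
  exact GorIso.isGorensteinLocalRing_of_ringEquiv (h := hF) (Ideal.quotEquivOfEq hm.symm)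

end Ascent

section Main

variable {k : Type u} [Field k] {T : Type u} [CommRing T] {n : ℕ}
  (φ : T →+* (Fin n → PowerSeries k)) (hφ : Function.Injective φ)
  (hr : Set.range φ = {f : Fin n → PowerSeries k | ∀ i j : Fin n,
      PowerSeries.constantCoeff (f i) = PowerSeries.constantCoeff (f j)})

include hφ hr in
theorem eq_two_of_gorenstein [hG : LocCoh.IsGorensteinLocalRing T] (hn : 2 ≤ n) : n = 2 := by
  classical
  by_contra hne
  have hn3 : 3 ≤ n := by omega
  have hn0 : 0 < n := by omega
  obtain ⟨t, ht⟩ := exists_t φ hr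
  have hmem : ∀ a : T, a ∈ maximalIdeal T ↔
      PowerSeries.constantCoeff (φ a ⟨0, hn0⟩) = 0 := by
    intro a
    rw [mem_maximalIdeal, mem_nonunits_iff, isUnit_iff φ hφ hr hn0 a, not_not]
  have hmem' : ∀ a ∈ maximalIdeal T, ∀ i, PowerSeries.constantCoeff (φ a i) = 0 :=
    fun a ha i => by
      rw [const_of_apply φ hr a i ⟨0, hn0⟩]
      exact (hmem a).mp ha
  have htm : t ∈ maximalIdeal T := by
    rw [hmem, ht]
    simp
  have htR : t ∈ T⁰ := mem_nonZeroDivisors_of_injective hφ (htS φ t ht)
  have htreg : IsSMulRegular T t := by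
    intro x y h
    have h1 : (x - y) * t = 0 := by
      simp only [smul_eq_mul] at h
      rw [sub_mul, mul_comm x, mul_comm y, h, sub_self]
    exact sub_eq_zero.mp (mem_nonZeroDivisors_iff_right.mp htR _ h1)
  have hprod : ∀ a b : T, a ∈ maximalIdeal T → b ∈ maximalIdeal T → a * b ∈ Ideal.span {t} := by
    intro a b ha hb
    have hda : ∀ i, (PowerSeries.X : PowerSeries k) ∣ φ a i :=
      fun i => PowerSeries.X_dvd_iff.mpr (hmem' a ha i)
    choose a' ha' using hda
    obtain ⟨u, hu⟩ := exists_of_const φ hr (fun i => a' i * φ b i)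
      (fun i j => by simp [hmem' b hb])
    rw [Ideal.mem_span_singleton']
    refine ⟨u, hφ ?_⟩
    rw [map_mul, map_mul, hu, ht]
    funext i
    simp only [Pi.mul_apply]
    rw [ha' i]
    ring
  have hGbar : LocCoh.IsGorensteinLocalRing (T ⧸ Ideal.span {t}) :=
    (Groth.Agent.S0343.result T t htm htreg).mp hG
  haveI := hGbar.toIsLocalRing
  haveI : IsNoetherianRing (T ⧸ Ideal.span {t}) := inferInstance
  have hq : ∀ a : T, Ideal.Quotient.mk (Ideal.span {t}) a ∈ maximalIdeal (T ⧸ Ideal.span {t}) →
      a ∈ maximalIdeal T := by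
    intro a ha
    rw [mem_maximalIdeal, mem_nonunits_iff] at ha ⊢
    exact fun hu => ha (hu.map _)
  have h0 : ringKrullDim (T ⧸ Ideal.span {t}) = 0 := by
    have hK : Ring.KrullDimLE 0 (T ⧸ Ideal.span {t}) := by
      rw [Ring.krullDimLE_zero_iff]
      intro p hp
      have hle : maximalIdeal (T ⧸ Ideal.span {t}) ≤ p := by
        intro a' ha'
        obtain ⟨a, rfl⟩ := Ideal.Quotient.mk_surjective a'
        have ha : a ∈ maximalIdeal T := hq a ha'
        have h1 : Ideal.Quotient.mk (Ideal.span {t}) a * Ideal.Quotient.mk (Ideal.span {t}) a ∈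
            p := by
          rw [← map_mul, Ideal.Quotient.eq_zero_iff_mem.mpr (hprod a a ha ha)]
          exact p.zero_mem
        exact (hp.mem_or_mem h1).elim id id
      have h2 := (maximalIdeal.isMaximal (T ⧸ Ideal.span {t})).eq_of_le hp.ne_top hle
      rw [← h2]
      exact maximalIdeal.isMaximal _
    exact le_antisymm (Ring.krullDimLE_iff.mp hK) ringKrullDim_nonneg_of_nontrivial
  obtain ⟨s, hs1, hs2⟩ := GorFlat.exists_socle_generator (T ⧸ Ideal.span {t}) hGbar h0
  have hx : ∀ i : Fin n, ∃ x : T, φ x = Pi.single i PowerSeries.X := fun i =>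
    exists_of_const φ hr _ (fun j l => by
      have h1 : ∀ m : Fin n, PowerSeries.constantCoeff
          ((Pi.single i (PowerSeries.X : PowerSeries k) : Fin n → PowerSeries k) m) = 0 := by
        intro m
        by_cases hmi : m = i
        · subst hmi
          rw [Pi.single_eq_same, PowerSeries.constantCoeff_X]
        · rw [Pi.single_eq_of_ne hmi, map_zero]
      rw [h1, h1])
  choose x hx using hx
  have hxm : ∀ i, x i ∈ maximalIdeal T := fun i => by
    rw [hmem, hx]
    by_cases hmi : (⟨0, hn0⟩ : Fin n) = i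
    · subst hmi
      rw [Pi.single_eq_same, PowerSeries.constantCoeff_X]
    · rw [Pi.single_eq_of_ne hmi, map_zero]
  have hsoc : ∀ i, ∀ a' ∈ maximalIdeal (T ⧸ Ideal.span {t}),
      a' * Ideal.Quotient.mk (Ideal.span {t}) (x i) = 0 := by
    intro i a' ha'
    obtain ⟨a, rfl⟩ := Ideal.Quotient.mk_surjective a'
    rw [← map_mul]
    exact Ideal.Quotient.eq_zero_iff_mem.mpr (hprod a (x i) (hq a ha') (hxm i))
  -- the three indices
  let i0 : Fin n := ⟨0, by omega⟩
  let i1 : Fin n := ⟨1, by omega⟩
  let i2 : Fin n := ⟨2, by omega⟩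
  have h01 : i0 ≠ i1 := by
    intro h
    have := congrArg Fin.val h
    simp [i0, i1] at this
  have h02 : i2 ≠ i0 := by
    intro h
    have := congrArg Fin.val h
    simp [i0, i2] at this
  have h12 : i2 ≠ i1 := by
    intro h
    have := congrArg Fin.val h
    simp [i1, i2] at this
  have hxne : Ideal.Quotient.mk (Ideal.span {t}) (x i1) ≠ 0 := by
    intro h
    rw [Ideal.Quotient.eq_zero_iff_mem, Ideal.mem_span_singleton'] at h
    obtain ⟨u, hu⟩ := h
    have h1 := congrArg φ hu
    rw [map_mul, ht, hx] at h1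
    have e1 : φ u i1 * PowerSeries.X = PowerSeries.X := by
      have := congrFun h1 i1
      rwa [Pi.mul_apply, Pi.single_eq_same] at this
    have e2 : φ u i0 * PowerSeries.X = 0 := by
      have := congrFun h1 i0
      rwa [Pi.mul_apply, Pi.single_eq_of_ne h01] at this
    have e1' : φ u i1 = 1 := by
      have : φ u i1 * PowerSeries.X = 1 * PowerSeries.X := by rw [e1, one_mul]
      exact mul_right_cancel₀ PowerSeries.X_ne_zero this
    have e2' : φ u i0 = 0 := by
      rcases mul_eq_zero.mp e2 with h | h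
      · exact h
      · exact absurd h PowerSeries.X_ne_zero
    have h3 := const_of_apply φ hr u i1 i0
    rw [e1', e2', map_one, map_zero] at h3
    exact one_ne_zero h3
  obtain ⟨c0, hc0⟩ := hs2 _ (hsoc i0)
  obtain ⟨c1, hc1⟩ := hs2 _ (hsoc i1)
  have hc1u : IsUnit c1 := by
    by_contra hnu
    have h1 : c1 ∈ maximalIdeal (T ⧸ Ideal.span {t}) := (mem_maximalIdeal c1).mpr hnu
    rw [(hs1 c1).mpr h1] at hc1
    exact hxne hc1
  obtain ⟨d1, hd1⟩ := hc1u.exists_left_inv
  obtain ⟨v, hv⟩ := Ideal.Quotient.mk_surjective (c0 * d1)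
  have hrel : Ideal.Quotient.mk (Ideal.span {t}) (x i0 - v * x i1) = 0 := by
    rw [map_sub, map_mul, hv, hc0, hc1]
    calc c0 * s - c0 * d1 * (c1 * s) = c0 * s - c0 * (d1 * c1) * s := by ring
      _ = 0 := by rw [hd1, mul_one, sub_self]
  rw [Ideal.Quotient.eq_zero_iff_mem, Ideal.mem_span_singleton'] at hrel
  obtain ⟨w, hw⟩ := hrel
  have h1 := congrArg φ hw
  rw [map_mul, ht, map_sub, map_mul, hx, hx] at h1
  have e1 : φ w i0 * PowerSeries.X = PowerSeries.X := by
    have := congrFun h1 i0
    rwa [Pi.mul_apply, Pi.sub_apply, Pi.mul_apply, Pi.single_eq_same,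
      Pi.single_eq_of_ne h01, mul_zero, sub_zero] at this
  have e2 : φ w i2 * PowerSeries.X = 0 := by
    have := congrFun h1 i2
    rwa [Pi.mul_apply, Pi.sub_apply, Pi.mul_apply, Pi.single_eq_of_ne h02,
      Pi.single_eq_of_ne h12, mul_zero, sub_zero] at this
  have e1' : φ w i0 = 1 := by
    have : φ w i0 * PowerSeries.X = 1 * PowerSeries.X := by rw [e1, one_mul]
    exact mul_right_cancel₀ PowerSeries.X_ne_zero this
  have e2' : φ w i2 = 0 := by
    rcases mul_eq_zero.mp e2 with h | h
    · exact h
    · exact absurd h PowerSeries.X_ne_zero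
  have h3 := const_of_apply φ hr w i0 i2
  rw [e1', e2', map_one, map_zero] at h3
  exact one_ne_zero h3

end Main

end Groth.Agent.Lib.Helper22.MulticrossRing
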