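import Mathlib
import Groth.Agent.Lib.Helper22.MulticrossRingC
import Groth.Agent.Lib.Helper22.MulticrossE
import Groth.Agent.Lib.Helper22.BranchCountD
import Groth.Agent.Lib.Helper22.CurveStalk
import Groth.Agent.Lib.Helper12.SpanFinrankFlat
import Groth.Agent.Lib.Helper12.AnUnramD
import Groth.Agent.Lib.Helper14.BranchBound
import Groth.Agent.Lib.Helper13.FlatDimOne
import Groth.Agent.Lib.Helper18.FieldBC.ProdArith
import Groth.Agent.Lib.Helper5.StalkBCB
import Groth.Agent.S7654

/-!
# Ordinary multiple points: the completion is `k[[T_1, …, T_n]]/(T_i T_j)`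
-/

set_option autoImplicit false
set_option linter.style.haveILetI false
set_option linter.unusedSectionVars false
universe u

namespace Groth.Agent.Lib.Helper22.MulticrossRing

open scoped nonZeroDivisors
open IsLocalRing CategoryTheory AlgebraicGeometry
open Groth.Agent.Lib.Helper12

section Local

variable (k : Type u) [Field k] (A : Type u) [CommRing A] [IsLocalRing A] [IsReduced A]

/-- the number of branches is the number of minimal primes of the completion -/
theorem numBranches_eq (hN : CAlg.IsNagata A) (hdim : ringKrullDim A = 1) :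
    Brnch.numBranches A = ((minimalPrimes (Curv2.cpl A)).ncard : ℕ∞) := by
  classical
  haveI : IsNoetherianRing A := hN.1
  have hfin := AnUnram.finite_integralClosure_fractionRing_of_isNagata A hN
  have hminfin : (minimalPrimes A).Finite := minimalPrimes.finite_of_isNoetherianRing A
  unfold Brnch.numBranches
  rw [if_pos hminfin]
  let eC : integralClosure A (FractionRing A) ≃+* CAlg2.normRed A :=
    Helper14.normalizationEquivOfRingEquiv (Groth.Agent.S7655.redEquiv A)
  rw [← ENat.card_congr (Multicross.maximalSpectrumEquiv eC)]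
  haveI : Finite (MaximalSpectrum (integralClosure A (FractionRing A))) :=
    Helper14.finite_maxSpec A
  rw [ENat.card_eq_coe_natCard]
  have h1 := BranchCount.main A hdim hfin
  change _ = ((minimalPrimes (AdicCompletion (maximalIdeal A) A)).ncard : ℕ∞)
  rw [← h1, ← Nat.card_coe_set_eq]
  congr 1
  exact Nat.card_congr (MaximalSpectrum.equivSubtype _)

theorem not_isField_cpl [IsNoetherianRing A] (hdim : ringKrullDim A = 1) :
    ¬ IsField (Curv2.cpl A) := by
  intro hF
  haveI := AnUnram.faithfullyFlat_cpl A
  have hT := AUn.FormalLike.cpl A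
  have hbot : maximalIdeal (Curv2.cpl A) = ⊥ := (IsLocalRing.isField_iff_maximalIdeal_eq).mp hF
  have hA : maximalIdeal A = ⊥ := by
    rw [eq_bot_iff]
    intro a ha
    have h1 : algebraMap A (Curv2.cpl A) a ∈ maximalIdeal (Curv2.cpl A) := by
      rw [← hT.map_max]
      exact Ideal.mem_map_of_mem _ ha
    rw [hbot, Ideal.mem_bot] at h1
    rw [Ideal.mem_bot]
    exact (FaithfulSMul.algebraMap_injective A (Curv2.cpl A)) (by rw [h1, map_zero])
  have hAF : IsField A := (IsLocalRing.isField_iff_maximalIdeal_eq).mpr hA
  have h0 := ringKrullDim_eq_zero_of_isField hAF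
  rw [hdim] at h0
  exact one_ne_zero h0

/-- if the completion is the multicross ring with `n` axes, then there are `n` branches and
`δ = n - 1` -/
theorem main_of_equiv (hN : CAlg.IsNagata A) (hdim : ringKrullDim A = 1) (n : ℕ)
    (e : Curv2.cpl A ≃+* R k n) :
    Brnch.numBranches A = n ∧ Curv2.deltaInv A + 1 = n := by
  haveI : IsNoetherianRing A := hN.1
  have hn : 0 < n := by
    rcases Nat.eq_zero_or_pos n with rfl | h
    · exact absurd (MulEquiv.isField (isField_R_zero k) e.toMulEquiv) (not_isField_cpl A hdim)
    · exact h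
  let φ : Curv2.cpl A →+* (Fin n → PowerSeries k) := (Φbar k n).comp (e : Curv2.cpl A →+* R k n)
  have hφ : Function.Injective φ := (Φbar_injective k hn).comp e.injective
  have hr : Set.range φ = {f : Fin n → PowerSeries k | ∀ i j : Fin n,
      PowerSeries.constantCoeff (f i) = PowerSeries.constantCoeff (f j)} := by
    rw [← range_Φbar k hn]
    ext f
    constructor
    · rintro ⟨a, rfl⟩
      exact ⟨e a, rfl⟩
    · rintro ⟨b, rfl⟩
      refine ⟨e.symm b, ?_⟩
      change Φbar k n (e (e.symm b)) = _
      rw [e.apply_symm_apply]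
  have h1 := deltaInv_add_one φ hφ hr hn
  have h2 : Curv2.deltaInv (Curv2.cpl A) = Curv2.deltaInv A :=
    (Groth.Agent.S7654.result A hN hdim).2.2
  have h3 := ncard_minimalPrimes φ hφ hr
  exact ⟨by rw [numBranches_eq A hN hdim, h3], by rw [← h2, h1]⟩

variable [Algebra k A]

theorem pos_of_deltaInv {m : ℕ} (hδ : Curv2.deltaInv A + 1 = m) : 0 < m := by
  rcases Nat.eq_zero_or_pos m with rfl | h
  · simp at hδ
  · exact h

/-- conversely -/
theorem exists_equiv (hN : CAlg.IsNagata A) (hdim : ringKrullDim A = 1)
    (hres : Function.Bijective (algebraMap k (IsLocalRing.ResidueField A)))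
    (m : ℕ) (hm : Brnch.numBranches A = m) (hδ : Curv2.deltaInv A + 1 = m) :
    ∃ e : Curv2.cpl A ≃+* R k m, ∀ c : k,
      e (algebraMap A (Curv2.cpl A) (algebraMap k A c)) =
        Ideal.Quotient.mk _ (MvPowerSeries.C c) := by
  have hm0 : 0 < m := pos_of_deltaInv A hδ
  obtain ⟨φ, hφ, hc, hr⟩ := Multicross.main k A hdim hN hres m hm hδ
  obtain ⟨e, he⟩ := exists_equiv_of_range_eq φ (Φbar k m) hφ (Φbar_injective k hm0)
    (hr.trans (range_Φbar k hm0).symm)
  refine ⟨e, fun c => Φbar_injective k hm0 ?_⟩
  rw [he, hc, Φbar_C]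
  rfl

theorem finrank_cotangentSpace_eq (hN : CAlg.IsNagata A) (hdim : ringKrullDim A = 1)
    (hres : Function.Bijective (algebraMap k (IsLocalRing.ResidueField A)))
    (m : ℕ) (hm : Brnch.numBranches A = m) (hδ : Curv2.deltaInv A + 1 = m) :
    Module.finrank (ResidueField A) (CotangentSpace A) = m := by
  haveI : IsNoetherianRing A := hN.1
  have hm0 : 0 < m := pos_of_deltaInv A hδ
  obtain ⟨φ, hφ, -, hr⟩ := Multicross.main k A hdim hN hres m hm hδ
  have h1 := finrank_cotangentSpace φ hφ hr hm0
  haveI := AnUnram.isNoetherianRing_cpl A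
  haveI := AnUnram.faithfullyFlat_cpl A
  have hT := AUn.FormalLike.cpl A
  rw [← IsLocalRing.spanFinrank_maximalIdeal_eq_finrank_cotangentSpace] at h1 ⊢
  rw [← h1]
  exact (spanFinrank_maximalIdeal_eq_of_faithfullyFlat A
    (AdicCompletion (maximalIdeal A) A) hT.map_max).symm

end Local

section Sch

variable (X : Scheme.{u})

theorem topologicalKrullDim_le_one
    (hequi : ∀ Z ∈ irreducibleComponents (X : Type u), topologicalKrullDim Z = 1) :
    topologicalKrullDim X ≤ 1 := by
  rw [Groth.Agent.Lib.Helper18.FieldBC.topologicalKrullDim_eq_iSup_closure]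
  refine iSup_le fun t => ?_
  have hsub : closure ({t} : Set X) ⊆ irreducibleComponent t :=
    (isClosed_irreducibleComponent).closure_subset_iff.mpr
      (Set.singleton_subset_iff.mpr mem_irreducibleComponent)
  calc topologicalKrullDim ↥(closure ({t} : Set X))
      ≤ topologicalKrullDim ↥(irreducibleComponent t) :=
        (Topology.IsEmbedding.inclusion hsub).isInducing.topologicalKrullDim_le
    _ = 1 := hequi _ (irreducibleComponent_mem_irreducibleComponents t)

theorem ringKrullDim_stalk_eq_one
    (hequi : ∀ Z ∈ irreducibleComponents (X : Type u), topologicalKrullDim Z = 1)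
    (x : X) (hx : IsClosed ({x} : Set X)) :
    ringKrullDim (X.presheaf.stalk x) = 1 := by
  apply le_antisymm
  · exact Groth.Agent.Lib.Helper13.FlatDimOne.ringKrullDim_stalk_le_one X
      (topologicalKrullDim_le_one X hequi) x
  · rw [ringKrullDim_stalk_eq_coheight]
    have hnot : ¬ IsMax x := by
      intro hmax
      have hZirr : IsIrreducible (irreducibleComponent x) := isIrreducible_irreducibleComponent
      have hZcl : IsClosed (irreducibleComponent x) := isClosed_irreducibleComponent
      obtain ⟨η, hη⟩ := QuasiSober.sober hZirr hZcl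
      have hxZ : x ∈ irreducibleComponent x := mem_irreducibleComponent
      have h1 : η ⤳ x := hη.specializes hxZ
      have h2 : x ≤ η := Scheme.le_iff_specializes.mpr h1
      have h3 : x ⤳ η := Scheme.le_iff_specializes.mp (hmax h2)
      have h4 : η = x := by
        have h5 : η ∈ closure ({x} : Set X) := h3.mem_closure
        rw [hx.closure_eq] at h5
        exact h5
      have hZ : irreducibleComponent x = {x} := by
        rw [← hη.def, h4, hx.closure_eq]
      have hd := hequi _ (irreducibleComponent_mem_irreducibleComponents x)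
      rw [hZ] at hd
      have h0 : topologicalKrullDim ↥({x} : Set X) ≤ 0 :=
        topologicalKrullDim_zero_of_discreteTopology _
      rw [hd] at h0
      exact absurd h0 (not_le.mpr zero_lt_one)
    have hne : Order.coheight x ≠ 0 := fun h => hnot (Order.coheight_eq_zero.mp h)
    have h1 : (1 : ℕ∞) ≤ Order.coheight x := Order.one_le_iff_ne_zero.mpr hne
    exact_mod_cast h1

variable (k : Type u) [Field k] [IsAlgClosed k] [X.Over (Spec (CommRingCat.of k))]
  [LocallyOfFiniteType (X ↘ (Spec (CommRingCat.of k)))]

attribute [local instance] Curv2.stalkAlgebra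

theorem bijective_resField (x : X) (hx : IsClosed ({x} : Set X)) :
    Function.Bijective (algebraMap k (IsLocalRing.ResidueField (X.presheaf.stalk x))) := by
  haveI : JacobsonSpace X := LocallyOfFiniteType.jacobsonSpace (X ↘ (Spec (CommRingCat.of k)))
  let ψ : k →+* X.residueField x := (X.residue x).hom.comp (Curv2.stalkMap k X x)
  have hψ : Spec.map (CommRingCat.ofHom ψ) =
      X.fromSpecResidueField x ≫ (X ↘ (Spec (CommRingCat.of k))) := by
    rw [Scheme.fromSpecResidueField, Category.assoc,
      Groth.Agent.Lib.Helper5.StalkBC.fromSpecStalk_comp_over k X x, ← Spec.map_comp]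
    rfl
  have hfin : IsFinite (X.fromSpecResidueField x ≫ (X ↘ (Spec (CommRingCat.of k)))) := by
    rw [isClosed_singleton_iff_isClosedImmersion] at hx
    rw [isFinite_iff_locallyOfFiniteType_of_jacobsonSpace]
    infer_instance
  have hint : ψ.IsIntegral := by
    have : IsIntegralHom (Spec.map (CommRingCat.ofHom ψ)) := by
      rw [hψ]
      infer_instance
    exact (IsIntegralHom.SpecMap_iff).1 this
  have halg : algebraMap k (IsLocalRing.ResidueField (X.presheaf.stalk x)) = ψ := rfl
  rw [halg]
  letI : Algebra k (X.residueField x) := ψ.toAlgebra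
  haveI : Algebra.IsIntegral k (X.residueField x) := ⟨hint⟩
  exact IsAlgClosed.algebraMap_bijective_of_isIntegral (k := k) (K := X.residueField x)

end Sch

end Groth.Agent.Lib.Helper22.MulticrossRing
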