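import Mathlib
import Groth.Agent.Lib.helper10.PowSerFrob
import Groth.Agent.Lib.helper10.PowSerSpan
import Groth.Agent.Lib.helper10.PBasisFamily

/-!
# Nagata's Jacobian criterion, general form (helper22): the cofinite family `k_α((X^p))`

For `k ⊆ K₀` of characteristic `p` with `[k : k^p] < ∞`, the subfields `K_α = Frac (E_α[[X^p]])`
of `K₁ = Frac K₀[[X]]`, `E_α` running through the cofinite subfields of `K₀` containing `k(K₀^p)`,
have intersection `k(K₁^p)` (EGA 0_IV 21.8.8).
-/

set_option autoImplicit false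
set_option linter.style.haveILetI false
set_option linter.unusedSectionVars false
set_option linter.unusedVariables false

universe u

namespace Groth.Agent.Lib.Helper22.NagGen

open MvPowerSeries
open Groth.Agent.Lib.helper10

variable (p : ℕ) [hpF : Fact p.Prime] {k K₀ : Type u} [Field k] [Field K₀] [Algebra k K₀]
  [CharP k p] [CharP K₀ p] (d : ℕ)

/-- the subfield of `Frac K₀[[X]]` generated over `k` by `E[[X^p]]` -/
noncomputable def Kα (E : IntermediateField k K₀) :
    IntermediateField k (FractionRing (MvPowerSeries (Fin d) K₀)) :=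
  IntermediateField.adjoin k (algebraMap (MvPowerSeries (Fin d) K₀)
    (FractionRing (MvPowerSeries (Fin d) K₀)) ''
      ((PowSerFrob.S p E.toSubfield : Subring (MvPowerSeries (Fin d) K₀)) :
        Set (MvPowerSeries (Fin d) K₀)))

theorem Kα_mono {E E' : IntermediateField k K₀} (h : E ≤ E') : Kα p d E ≤ Kα p d E' := by
  apply IntermediateField.adjoin.mono
  apply Set.image_mono
  exact PowSerFrob.S_mono p (fun x hx => h hx)

theorem C_mem_S (E : IntermediateField k K₀) (e : K₀) (he : e ∈ E) :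
    (C (σ := Fin d) (R := K₀) e) ∈ PowSerFrob.S p E.toSubfield := by
  classical
  rw [PowSerFrob.mem_S_iff]
  refine ⟨fun n => ?_, fun n hn => ?_⟩
  · rw [coeff_C]
    split_ifs
    · exact he
    · exact E.zero_mem
  · obtain ⟨a, ha⟩ := hn
    rw [coeff_C, if_neg]
    rintro rfl
    exact ha (by simp)

theorem algebraMap_mem_image (E : IntermediateField k K₀) (c : k) :
    algebraMap k (FractionRing (MvPowerSeries (Fin d) K₀)) c ∈
      algebraMap (MvPowerSeries (Fin d) K₀) (FractionRing (MvPowerSeries (Fin d) K₀)) ''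
        ((PowSerFrob.S p E.toSubfield : Subring (MvPowerSeries (Fin d) K₀)) :
          Set (MvPowerSeries (Fin d) K₀)) := by
  refine ⟨C (algebraMap k K₀ c), C_mem_S p d E _ (E.algebraMap_mem c), ?_⟩
  rw [IsScalarTower.algebraMap_apply k (MvPowerSeries (Fin d) K₀)
    (FractionRing (MvPowerSeries (Fin d) K₀)), MvPowerSeries.algebraMap_apply]

/-- elements of `K_α` are quotients of elements of `E[[X^p]]` -/
theorem exists_div_of_mem_Kα (E : IntermediateField k K₀)
    (x : FractionRing (MvPowerSeries (Fin d) K₀)) (hx : x ∈ Kα p d E) :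
    ∃ s ∈ PowSerFrob.S p E.toSubfield, ∃ t ∈ PowSerFrob.S p E.toSubfield,
      algebraMap (MvPowerSeries (Fin d) K₀) (FractionRing (MvPowerSeries (Fin d) K₀)) s /
        algebraMap (MvPowerSeries (Fin d) K₀) (FractionRing (MvPowerSeries (Fin d) K₀)) t = x := by
  let A := MvPowerSeries (Fin d) K₀
  let Kf := FractionRing A
  have hx' : x ∈ (Kα p d E).toSubfield := hx
  rw [Kα, IntermediateField.adjoin_toSubfield] at hx'
  have hun : Set.range (algebraMap k Kf) ∪ algebraMap A Kf ''
      ((PowSerFrob.S p E.toSubfield : Subring A) : Set A) =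
      (((PowSerFrob.S p E.toSubfield : Subring A).map (algebraMap A Kf) : Subring Kf) : Set Kf) := by
    rw [Subring.coe_map]
    apply Set.union_eq_self_of_subset_left
    rintro _ ⟨c, rfl⟩
    exact algebraMap_mem_image p d E c
  rw [hun, Subfield.mem_closure_iff, Subring.closure_eq] at hx'
  obtain ⟨_, ⟨s, hs, rfl⟩, _, ⟨t, ht, rfl⟩, hst⟩ := hx'
  exact ⟨s, hs, t, ht, hst⟩


theorem adjoin_pow_le_Kα (E : IntermediateField k K₀) (hpow : ∀ y : K₀, y ^ p ∈ E) :
    IntermediateField.adjoin k
      (Set.range fun y : FractionRing (MvPowerSeries (Fin d) K₀) => y ^ p) ≤ Kα p d E := by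
  rw [IntermediateField.adjoin_le_iff]
  rintro _ ⟨y, rfl⟩
  obtain ⟨a, c, hc, rfl⟩ := IsFractionRing.div_surjective (A := MvPowerSeries (Fin d) K₀) y
  simp only []
  rw [SetLike.mem_coe, div_pow, ← map_pow, ← map_pow]
  have h1 : ∀ f : MvPowerSeries (Fin d) K₀,
      algebraMap (MvPowerSeries (Fin d) K₀) (FractionRing (MvPowerSeries (Fin d) K₀)) (f ^ p) ∈
        Kα p d E := fun f =>
    IntermediateField.subset_adjoin k _
      ⟨f ^ p, PowSerFrob.pow_mem_S p E.toSubfield hpow f, rfl⟩
  exact (Kα p d E).div_mem (h1 a) (h1 c)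

/-- **EGA 0_IV 21.8.8**: `⋂_α k_α((X^p)) = k(K₁^p)` when `[k : k^p] < ∞`. -/
theorem iInf_Kα_eq (hk : Module.Finite (Subfield.closure (Set.range fun x : k => x ^ p)) k)
    {ι : Type*} [Nonempty ι] (E : ι → IntermediateField k K₀)
    (hpow : ∀ α (y : K₀), y ^ p ∈ E α)
    (hinf : (⨅ α, E α) = IntermediateField.adjoin k (Set.range fun y : K₀ => y ^ p)) :
    (⨅ α, Kα p d (E α) ⊔ IntermediateField.adjoin k
        (Set.range fun y : FractionRing (MvPowerSeries (Fin d) K₀) => y ^ p)) =
      IntermediateField.adjoin k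
        (Set.range fun y : FractionRing (MvPowerSeries (Fin d) K₀) => y ^ p) := by
  classical
  let A := MvPowerSeries (Fin d) K₀
  let Kf := FractionRing A
  have hp0 : p ≠ 0 := hpF.out.ne_zero
  have halg : Function.Injective (algebraMap A Kf) := IsFractionRing.injective A Kf
  haveI : ExpChar K₀ p := ExpChar.prime hpF.out
  apply le_antisymm
  swap
  · exact le_iInf fun i => le_sup_right
  intro x hx
  have hxα : ∀ α, x ∈ Kα p d (E α) := by
    intro α
    have h1 : x ∈ ((⨅ α, Kα p d (E α) ⊔ IntermediateField.adjoin k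
        (Set.range fun y : Kf => y ^ p) : IntermediateField k Kf) : Set Kf) := hx
    rw [IntermediateField.coe_iInf, Set.mem_iInter] at h1
    have h2 := h1 α
    rwa [SetLike.mem_coe, sup_eq_left.2 (adjoin_pow_le_Kα p d (E α) (hpow α))] at h2
  obtain ⟨a, c, hc, rfl⟩ := IsFractionRing.div_surjective (A := A) x
  have hc0 : c ≠ 0 := nonZeroDivisors.ne_zero hc
  have hcK : algebraMap A Kf c ≠ 0 := fun h0 => hc0 (halg (by rw [h0, map_zero]))
  set a' := a * c ^ (p - 1) with ha'
  have hcp : c ^ p = c ^ (p - 1) * c := by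
    rw [← pow_succ, Nat.sub_add_cancel hpF.out.pos]
  have hcp0 : algebraMap A Kf (c ^ p) ≠ 0 := by
    rw [map_pow]; exact pow_ne_zero _ hcK
  have hxa : algebraMap A Kf a / algebraMap A Kf c =
      algebraMap A Kf a' / algebraMap A Kf (c ^ p) := by
    rw [ha', hcp, map_mul, map_mul]
    have hc1 : algebraMap A Kf (c ^ (p - 1)) ≠ 0 := by
      rw [map_pow]; exact pow_ne_zero _ hcK
    rw [mul_comm (algebraMap A Kf (c ^ (p - 1))) (algebraMap A Kf c), mul_div_mul_right _ _ hc1]
  have hmem : ∀ α, a' ∈ PowSerFrob.S p (E α).toSubfield := by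
    intro α
    obtain ⟨s, hs, t, ht, hst⟩ := exists_div_of_mem_Kα p d (E α) _ (hxα α)
    by_cases ht0 : t = 0
    · have hx0 : algebraMap A Kf a' = 0 := by
        have h2 : algebraMap A Kf a' / algebraMap A Kf (c ^ p) = 0 := by
          rw [← hxa, ← hst, ht0, map_zero, div_zero]
        rcases div_eq_zero_iff.1 h2 with h3 | h3
        · exact h3
        · exact absurd h3 hcp0
      have : a' = 0 := halg (by rw [hx0, map_zero])
      rw [this]
      exact (PowSerFrob.S p (E α).toSubfield).zero_mem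
    · have htK : algebraMap A Kf t ≠ 0 := fun h0 => ht0 (halg (by rw [h0, map_zero]))
      have h2 : a' * t = s * c ^ p := by
        apply halg
        rw [map_mul (algebraMap A Kf) a' t, map_mul (algebraMap A Kf) s (c ^ p)]
        have h3 : algebraMap A Kf s / algebraMap A Kf t =
            algebraMap A Kf a' / algebraMap A Kf (c ^ p) := by rw [hst, hxa]
        rw [div_eq_div_iff htK hcp0] at h3
        exact h3.symm
      apply PowSerFrob.mem_S_of_mul_mem p (E α).toSubfield a' t ht ht0
      rw [h2]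
      exact (PowSerFrob.S p (E α).toSubfield).mul_mem hs
        (PowSerFrob.pow_mem_S p (E α).toSubfield (hpow α) c)
  -- the coefficients of `a'`
  obtain ⟨α₀⟩ := ‹Nonempty ι›
  have hexp : ∀ n : Fin d →₀ ℕ, (∃ i, ¬ p ∣ n i) → coeff n a' = 0 :=
    ((PowSerFrob.mem_S_iff p _ _).1 (hmem α₀)).2
  have hcoef : ∀ n : Fin d →₀ ℕ, coeff n a' ∈
      Subfield.closure (Set.range (algebraMap k K₀) ∪ Set.range fun y : K₀ => y ^ p) := by
    intro n
    have h1 : coeff n a' ∈ (⨅ α, E α : IntermediateField k K₀) := by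
      rw [← SetLike.mem_coe, IntermediateField.coe_iInf, Set.mem_iInter]
      intro α
      exact ((PowSerFrob.mem_S_iff p _ _).1 (hmem α)).1 n
    rw [hinf] at h1
    have h2 : coeff n a' ∈ (IntermediateField.adjoin k
        (Set.range fun y : K₀ => y ^ p)).toSubfield := h1
    rwa [IntermediateField.adjoin_toSubfield] at h2
  obtain ⟨m, b, hb⟩ := Module.Finite.exists_fin (R := Subfield.closure (Set.range fun x : k => x ^ p))
    (M := k)
  have hFp : ∀ y ∈ PowSerSpan.Fp K₀ p, ∃ z : K₀, z ^ p = y := by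
    intro y hy
    have hle : PowSerSpan.Fp K₀ p ≤ (frobenius K₀ p).fieldRange := by
      rw [Subfield.closure_le]
      rintro _ ⟨z, rfl⟩
      exact ⟨z, rfl⟩
    obtain ⟨z, hz⟩ := hle hy
    exact ⟨z, hz⟩
  have hdec : ∀ n : Fin d →₀ ℕ, ∃ z : Fin m → K₀,
      coeff n a' = ∑ i, z i ^ p * algebraMap k K₀ (b i) := by
    intro n
    obtain ⟨cc, hcc, hsum⟩ := PowSerSpan.exists_coeffs (p := p) b hb (coeff n a') (hcoef n)
    choose z hz using fun i => hFp (cc i) (hcc i)
    exact ⟨z, by rw [hsum]; exact Finset.sum_congr rfl fun i _ => by rw [hz]⟩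
  choose z hz using hdec
  let g : Fin m → A := fun i => fun n => z (p • n) i
  have hgp : ∀ i (n : Fin d →₀ ℕ), coeff (p • n) (g i ^ p) = z (p • n) i ^ p := by
    intro i n
    rw [← map_frobenius_expand (p := p) (hp := hp0), coeff_map, coeff_expand_smul, frobenius_def]
    rfl
  have hgp0 : ∀ i (n : Fin d →₀ ℕ), (∃ j, ¬ p ∣ n j) → coeff n (g i ^ p) = 0 := by
    rintro i n ⟨j, hj⟩
    rw [← map_frobenius_expand (p := p) (hp := hp0), coeff_map,
      coeff_expand_of_not_dvd p hp0 _ hj, map_zero]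
  have hsum : a' = ∑ i, C (algebraMap k K₀ (b i)) * g i ^ p := by
    ext n
    rw [map_sum]
    by_cases h : ∀ j, p ∣ n j
    · rw [PowSerFrob.eq_smul_ediv p h, hz]
      refine Finset.sum_congr rfl fun i _ => ?_
      rw [coeff_C_mul, hgp, mul_comm]
    · push_neg at h
      rw [hexp n h]
      symm
      refine Finset.sum_eq_zero fun i _ => ?_
      rw [coeff_C_mul, hgp0 i n h, mul_zero]
  rw [hxa, hsum, map_sum, Finset.sum_div]
  refine sum_mem fun i _ => ?_
  rw [map_mul, map_pow, map_pow, mul_div_assoc, ← div_pow]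
  refine mul_mem ?_ (IntermediateField.subset_adjoin k _ ⟨_, rfl⟩)
  have : algebraMap A Kf (C (algebraMap k K₀ (b i))) = algebraMap k Kf (b i) := by
    rw [IsScalarTower.algebraMap_apply k A Kf, MvPowerSeries.algebraMap_apply]
  rw [this]
  exact IntermediateField.algebraMap_mem _ _

end Groth.Agent.Lib.Helper22.NagGen
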