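import Mathlib
import Groth.Agent.Lib.Helper22.NagGenA
import Groth.Agent.Lib.Helper5.Imperf218C

/-!
# Nagata's Jacobian criterion, general form (helper22): decomposition of derivations

For a finite extension `L` of `K₁ = Frac K₀[[X]]`, every `k`-derivation `K₀[[X]] → L` is, modulo
the restriction of a `k`-derivation of `L`, zero on a subring `S` over which `K₀[[X]]` is finite.
-/

set_option autoImplicit false
set_option linter.style.haveILetI false
set_option linter.unusedSectionVars false
set_option linter.unusedVariables false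

universe u

namespace Groth.Agent.Lib.Helper22.NagGen

open TensorProduct KaehlerDifferential
open Groth.Agent.Lib.helper10

section Extend

variable {k B F L : Type u} [CommRing k] [CommRing B] [CommRing F] [CommRing L]
  [Algebra k B] [Algebra k F] [Algebra k L] [Algebra B F] [Algebra F L] [Algebra B L]
  [IsScalarTower k B F] [IsScalarTower k F L] [IsScalarTower k B L] [IsScalarTower B F L]
  [Algebra.FormallyEtale B F]

/-- extension of a derivation along a formally étale map -/
noncomputable def extendDer (D : Derivation k B L) : Derivation k F L :=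
  ((LinearMap.liftBaseChange F D.liftKaehlerDifferential) ∘ₗ
    (tensorKaehlerEquivOfFormallyEtale k B F).symm.toLinearMap).compDer (KaehlerDifferential.D k F)

theorem extendDer_algebraMap (D : Derivation k B L) (b : B) :
    extendDer (F := F) D (algebraMap B F b) = D b := by
  change (LinearMap.liftBaseChange F D.liftKaehlerDifferential)
    ((tensorKaehlerEquivOfFormallyEtale k B F).symm (KaehlerDifferential.D k F (algebraMap B F b))) = _
  rw [tensorKaehlerEquivOfFormallyEtale_symm_D_algebraMap, LinearMap.liftBaseChange_tmul, one_smul,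
    Derivation.liftKaehlerDifferential_comp_D]

end Extend

section Decomp

variable {k K L : Type u} [Field k] [Field K] [Field L] [Algebra k K] [Algebra K L] [Algebra k L]
  [IsScalarTower k K L]

/-- the decomposition of derivations given by an admissible subfield -/
theorem exists_der_of_admissible (K' : IntermediateField k K)
    (hadm : ∀ ω ∈ EGA41.imperfection k K L,
      ((KaehlerDifferential.map k K' K K).restrictScalars K).baseChange L ω = 0 → ω = 0)
    (D₁ : Derivation k K L) :
    ∃ E : Derivation k L L, ∀ x ∈ K', D₁ x = E (algebraMap K L x) := by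
  classical
  let T := L ⊗[K] Ω[K⁄k]
  let m : T →ₗ[L] Ω[L⁄k] := KaehlerDifferential.mapBaseChange k K L
  let ν : T →ₗ[L] L ⊗[K] Ω[K⁄K'] :=
    ((KaehlerDifferential.map k K' K K).restrictScalars K).baseChange L
  let Υ : Submodule L T := EGA41.imperfection k K L
  have hΥ : Υ = LinearMap.ker m := rfl
  let φD : T →ₗ[L] L := LinearMap.liftBaseChange L D₁.liftKaehlerDifferential
  have hφD : ∀ x : K, φD ((1 : L) ⊗ₜ[K] KaehlerDifferential.D k K x) = D₁ x := by
    intro x
    change LinearMap.liftBaseChange L D₁.liftKaehlerDifferential _ = _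
    rw [LinearMap.liftBaseChange_tmul, one_smul, Derivation.liftKaehlerDifferential_comp_D]
  let ι : Υ →ₗ[L] L ⊗[K] Ω[K⁄K'] := ν ∘ₗ Υ.subtype
  have hι : LinearMap.ker ι = ⊥ := by
    rw [LinearMap.ker_eq_bot']
    intro ω hω
    exact Subtype.ext (hadm ω.1 ω.2 hω)
  obtain ⟨ρ, hρ⟩ := LinearMap.exists_leftInverse_of_injective (K := L) (V := Υ)
    (V' := L ⊗[K] Ω[K⁄K']) ι hι
  let φ'' : T →ₗ[L] L := (φD ∘ₗ Υ.subtype) ∘ₗ ρ ∘ₗ ν
  have hφ''0 : ∀ ω : T, ν ω = 0 → φ'' ω = 0 := by
    intro ω hω
    change φD (Υ.subtype (ρ (ν ω))) = 0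
    rw [hω, map_zero, map_zero, map_zero]
  have hφ''Υ : ∀ ω ∈ Υ, φ'' ω = φD ω := by
    intro ω hω
    have h1 : ρ (ι ⟨ω, hω⟩) = ⟨ω, hω⟩ := congrArg (fun f => f ⟨ω, hω⟩) hρ
    change φD (Υ.subtype (ρ (ν ω))) = φD ω
    have h2 : ν ω = ι ⟨ω, hω⟩ := rfl
    rw [h2, h1]
    rfl
  let φ' : T →ₗ[L] L := φD - φ''
  have hφ'ker : LinearMap.ker m ≤ LinearMap.ker φ' := by
    intro ω hω
    rw [LinearMap.mem_ker]
    change φD ω - φ'' ω = 0
    rw [hφ''Υ ω hω, sub_self]
  -- factor `φ'` through `m`
  let mbar : (T ⧸ LinearMap.ker m) →ₗ[L] Ω[L⁄k] := (LinearMap.ker m).liftQ m le_rfl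
  have hmbar : LinearMap.ker mbar = ⊥ := Submodule.ker_liftQ_eq_bot _ _ _ le_rfl
  obtain ⟨ρ', hρ'⟩ := LinearMap.exists_leftInverse_of_injective mbar hmbar
  let ψ : Ω[L⁄k] →ₗ[L] L := ((LinearMap.ker m).liftQ φ' hφ'ker) ∘ₗ ρ'
  have hψ : ∀ ω : T, ψ (m ω) = φ' ω := by
    intro ω
    have h1 : m ω = mbar (Submodule.Quotient.mk ω) := rfl
    have h2 : ρ' (mbar (Submodule.Quotient.mk ω)) = Submodule.Quotient.mk ω :=
      congrArg (fun f => f (Submodule.Quotient.mk ω)) hρ'
    change ((LinearMap.ker m).liftQ φ' hφ'ker) (ρ' (m ω)) = _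
    rw [h1, h2]
    rfl
  refine ⟨ψ.compDer (KaehlerDifferential.D k L), fun x hx => ?_⟩
  change D₁ x = ψ (KaehlerDifferential.D k L (algebraMap K L x))
  have h1 : KaehlerDifferential.D k L (algebraMap K L x) =
      m ((1 : L) ⊗ₜ[K] KaehlerDifferential.D k K x) := by
    change _ = KaehlerDifferential.mapBaseChange k K L _
    rw [KaehlerDifferential.mapBaseChange_tmul, one_smul, KaehlerDifferential.map_D]
  rw [h1, hψ]
  change D₁ x = φD _ - φ'' _
  rw [hφD]
  have h2 : ν ((1 : L) ⊗ₜ[K] KaehlerDifferential.D k K x) = 0 := by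
    change (((KaehlerDifferential.map k K' K K).restrictScalars K).baseChange L) _ = 0
    rw [LinearMap.baseChange_tmul]
    change (1 : L) ⊗ₜ[K] KaehlerDifferential.map k K' K K (KaehlerDifferential.D k K x) = 0
    rw [KaehlerDifferential.map_D]
    have h3 : (algebraMap K K) x = algebraMap K' K ⟨x, hx⟩ := rfl
    rw [h3, Derivation.map_algebraMap, TensorProduct.tmul_zero]
  rw [hφ''0 _ h2, sub_zero]

end Decomp

end Groth.Agent.Lib.Helper22.NagGen
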