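import Mathlib
import Groth.Agent.Lib.Helper22.NagGenB

/-!
# Nagata's Jacobian criterion, general form (helper22): the field lemma

For `k ⊆ K₀` with `[k : k^p] < ∞` (or characteristic zero) and a finite extension `L` of
`K₁ = Frac K₀[[X]]` there is a subring `S` of `K₀[[X]]`, over which `K₀[[X]]` is finite, such that
every `k`-derivation `K₀[[X]] → L` agrees on `S` with the restriction of a `k`-derivation of `L`.
-/

set_option autoImplicit false
set_option linter.style.haveILetI false
set_option linter.unusedSectionVars false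
set_option linter.unusedVariables false

universe u

namespace Groth.Agent.Lib.Helper22.NagGen

open TensorProduct KaehlerDifferential MvPowerSeries
open Groth.Agent.Lib.helper10

section CharP

variable (p : ℕ) [hpF : Fact p.Prime] {k K₀ : Type u} [Field k] [Field K₀] [Algebra k K₀]
  [CharP k p] [CharP K₀ p] (d : ℕ)

theorem exists_subring_charP
    (hk : Module.Finite (Subfield.closure (Set.range fun x : k => x ^ p)) k)
    (L : Type u) [Field L] [Algebra (FractionRing (MvPowerSeries (Fin d) K₀)) L] [Algebra k L]
    [IsScalarTower k (FractionRing (MvPowerSeries (Fin d) K₀)) L]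
    [Module.Finite (FractionRing (MvPowerSeries (Fin d) K₀)) L]
    [Algebra (MvPowerSeries (Fin d) K₀) L]
    [IsScalarTower (MvPowerSeries (Fin d) K₀) (FractionRing (MvPowerSeries (Fin d) K₀)) L]
    [IsScalarTower k (MvPowerSeries (Fin d) K₀) L] :
    ∃ S : Subring (MvPowerSeries (Fin d) K₀), Module.Finite S (MvPowerSeries (Fin d) K₀) ∧
      ∀ D : Derivation k (MvPowerSeries (Fin d) K₀) L, ∃ E : Derivation k L L,
        ∀ s ∈ S, D s = E (algebraMap (MvPowerSeries (Fin d) K₀) L s) := by
  classical
  let C₁ := MvPowerSeries (Fin d) K₀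
  let K₁ := FractionRing C₁
  obtain ⟨b, E, hanti, hpow, hfinE, hinf⟩ :=
    PBasisFamily.exists_family p (k₀ := k) (K := K₀)
  haveI : CharP K₁ p :=
    charP_of_injective_algebraMap (algebraMap K₀ K₁).injective p
  have hanti' : Antitone (fun α : Finset b => Kα p d (E α)) := fun α α' h =>
    Kα_mono p d (hanti α α' h)
  have heq := iInf_Kα_eq p d hk E hpow hinf
  have hfinImp : Module.Finite L (EGA41.imperfection k K₁ L) :=
    Groth.Agent.Lib.Helper5.Imperf218.finite_imperfection_of_finite L
  obtain ⟨α, hα⟩ := Groth.Agent.Lib.Helper5.Imperf218.exists_admissible_of_iInf_eq p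
    (fun α : Finset b => Kα p d (E α)) hanti' heq L hfinImp
  haveI hfd : FiniteDimensional (E α).toSubfield K₀ := hfinE α
  refine ⟨PowSerFrob.S p (E α).toSubfield, (PowSerFrob.free_finite p (E α).toSubfield).2,
    fun D => ?_⟩
  haveI : Algebra.FormallyEtale C₁ K₁ :=
    Algebra.FormallyEtale.of_isLocalization (nonZeroDivisors C₁)
  obtain ⟨E', hE'⟩ := exists_der_of_admissible (Kα p d (E α)) hα (extendDer (F := K₁) D)
  refine ⟨E', fun s hs => ?_⟩
  have h1 : algebraMap C₁ K₁ s ∈ Kα p d (E α) :=
    IntermediateField.subset_adjoin k _ ⟨s, hs, rfl⟩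
  have h2 := hE' _ h1
  rw [extendDer_algebraMap] at h2
  rw [h2, ← IsScalarTower.algebraMap_apply]

end CharP

section CharZero

variable {k K L : Type u} [Field k] [Field K] [Field L] [Algebra k K] [Algebra K L] [Algebra k L]
  [IsScalarTower k K L]

theorem exists_der_charZero [CharZero k] [Module.Finite K L] (D₁ : Derivation k K L) :
    ∃ E : Derivation k L L, ∀ x, D₁ x = E (algebraMap K L x) := by
  haveI : CharZero K := charZero_of_injective_algebraMap (algebraMap k K).injective
  haveI : Algebra.IsSeparable K L := inferInstance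
  haveI : Algebra.FormallyEtale K L := Algebra.FormallyEtale.of_isSeparable K L
  exact ⟨extendDer (F := L) D₁, fun x => (extendDer_algebraMap D₁ x).symm⟩

end CharZero

end Groth.Agent.Lib.Helper22.NagGen
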