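import Mathlib
import Groth.Agent.Lib.Helper12.DerivExtB
import Groth.Agent.S9405

/-!
# Lifting derivations `A → A/𝔭` to derivations `A → A` for a complete Noetherian local ring `A`
which is adically formally smooth over `k` (helper22)
-/

set_option autoImplicit false
set_option linter.style.haveILetI false
set_option linter.unusedSectionVars false
set_option linter.unusedVariables false

universe u

namespace Groth.Agent.Lib.Helper22.NagGen

open IsLocalRing Groth.Agent.Lib.Helper5 Groth.Agent.Lib.Helper12.DerivExt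


theorem exists_lift_derivation {k A : Type u} [CommRing k] [CommRing A] [IsLocalRing A]
    [IsNoetherianRing A] [Algebra k A] [IsAdicComplete (maximalIdeal A) A]
    (hfs : CAlgX.IsAdicFormallySmooth k A (maximalIdeal A)) (𝔭 : Ideal A)
    (δ : Derivation k A (A ⧸ 𝔭)) :
    ∃ D : Derivation k A A, ∀ a, Ideal.Quotient.mk 𝔭 (D a) = δ a := by
  classical
  let q : A →ₗ[A] A ⧸ 𝔭 := Submodule.mkQ 𝔭
  have hq : ∀ a, q a = Ideal.Quotient.mk 𝔭 a := fun a => rfl
  let g : (TrivSqZeroExt A A) →ₐ[k] (TrivSqZeroExt A (A ⧸ 𝔭)) := (TrivSqZeroExt.map q).restrictScalars k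
  have hgfst : ∀ x : (TrivSqZeroExt A A), (g x).fst = x.fst := fun x => TrivSqZeroExt.fst_map q x
  have hgsnd : ∀ x : (TrivSqZeroExt A A), (g x).snd = q x.snd := fun x => TrivSqZeroExt.snd_map q x
  have hg : Function.Surjective g := by
    intro x
    obtain ⟨m, hm⟩ := Ideal.Quotient.mk_surjective x.snd
    refine ⟨TrivSqZeroExt.inl x.fst + TrivSqZeroExt.inr m, ?_⟩
    apply TrivSqZeroExt.ext
    · rw [hgfst, TrivSqZeroExt.fst_add, TrivSqZeroExt.fst_inl, TrivSqZeroExt.fst_inr, add_zero]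
    · rw [hgsnd, hq, TrivSqZeroExt.snd_add, TrivSqZeroExt.snd_inl, TrivSqZeroExt.snd_inr, zero_add,
        hm]
  let J : Ideal (TrivSqZeroExt A A) := RingHom.ker g
  have hJfst : ∀ x ∈ J, x.fst = 0 := by
    intro x hx
    have h1 : g x = 0 := hx
    rw [← hgfst, h1, TrivSqZeroExt.fst_zero]
  have hJ2 : J ^ 2 = ⊥ := by
    rw [pow_two, eq_bot_iff, Ideal.mul_le]
    intro x hx y hy
    rw [Ideal.mem_bot]
    apply TrivSqZeroExt.ext
    · rw [TrivSqZeroExt.fst_mul, hJfst x hx, zero_mul, TrivSqZeroExt.fst_zero]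
    · rw [TrivSqZeroExt.snd_mul, hJfst x hx, hJfst y hy, zero_smul, TrivSqZeroExt.snd_zero]
      simp
  let e := Ideal.quotientKerAlgEquivOfSurjective hg
  have he : ∀ x, e (Ideal.Quotient.mk _ x) = g x := fun x =>
    Ideal.quotientKerAlgEquivOfSurjective_mk hg x
  -- the algebra map attached to `δ`
  let w : A →ₐ[k] (TrivSqZeroExt A (A ⧸ 𝔭)) :=
    { toFun := fun a => TrivSqZeroExt.inl a + TrivSqZeroExt.inr (δ a)
      map_one' := by
        rw [Derivation.map_one_eq_zero, TrivSqZeroExt.inr_zero, add_zero, TrivSqZeroExt.inl_one]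
      map_mul' := fun t t' => by
        change (TrivSqZeroExt.inl (t * t') + TrivSqZeroExt.inr (δ (t * t')) : (TrivSqZeroExt A (A ⧸ 𝔭))) =
          (TrivSqZeroExt.inl t + TrivSqZeroExt.inr (δ t)) *
            (TrivSqZeroExt.inl t' + TrivSqZeroExt.inr (δ t'))
        apply TrivSqZeroExt.ext
        · simp only [TrivSqZeroExt.fst_add, TrivSqZeroExt.fst_inl, TrivSqZeroExt.fst_inr,
            TrivSqZeroExt.fst_mul, add_zero]
        · simp only [TrivSqZeroExt.snd_add, TrivSqZeroExt.snd_inl, TrivSqZeroExt.snd_inr, zero_add,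
            TrivSqZeroExt.snd_mul, TrivSqZeroExt.fst_add, TrivSqZeroExt.fst_inl,
            TrivSqZeroExt.fst_inr, add_zero, Derivation.leibniz, op_smul_eq_smul]
      map_zero' := by
        rw [map_zero, TrivSqZeroExt.inl_zero, TrivSqZeroExt.inr_zero, add_zero]
      map_add' := fun t t' => by
        rw [map_add, TrivSqZeroExt.inl_add, TrivSqZeroExt.inr_add]
        abel
      commutes' := fun c => by
        change TrivSqZeroExt.inl (algebraMap k A c) + TrivSqZeroExt.inr (δ (algebraMap k A c)) = _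
        rw [Derivation.map_algebraMap, TrivSqZeroExt.inr_zero, add_zero]
        rfl }
  have hw : ∀ a, w a = TrivSqZeroExt.inl a + TrivSqZeroExt.inr (δ a) := fun a => rfl
  let u : A →ₐ[k] (TrivSqZeroExt A A) ⧸ J := (e.symm : (TrivSqZeroExt A (A ⧸ 𝔭)) →ₐ[k] (TrivSqZeroExt A A) ⧸ J).comp w
  have heu : ∀ a, e (u a) = w a := fun a => e.apply_symm_apply (w a)
  have hu : ∀ a m, Ideal.Quotient.mk 𝔭 m = δ a →
      u a = Ideal.Quotient.mk J (TrivSqZeroExt.inl a + TrivSqZeroExt.inr m) := by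
    intro a m hm
    apply e.injective
    rw [heu, he, hw]
    apply TrivSqZeroExt.ext
    · rw [hgfst, TrivSqZeroExt.fst_add, TrivSqZeroExt.fst_inl, TrivSqZeroExt.fst_inr, add_zero,
        TrivSqZeroExt.fst_add, TrivSqZeroExt.fst_inl, TrivSqZeroExt.fst_inr, add_zero]
    · rw [hgsnd, hq, TrivSqZeroExt.snd_add, TrivSqZeroExt.snd_inl, TrivSqZeroExt.snd_inr, zero_add,
        TrivSqZeroExt.snd_add, TrivSqZeroExt.snd_inl, TrivSqZeroExt.snd_inr, zero_add, hm]
  let 𝔠 : Ideal (TrivSqZeroExt A A) := (maximalIdeal A).map (algebraMap A (TrivSqZeroExt A A))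
  haveI hfinT : Module.Finite A (TrivSqZeroExt A A) := by
    let e' : (TrivSqZeroExt A A) ≃ₗ[A] A × A := LinearEquiv.refl A (A × A)
    exact Module.Finite.equiv e'.symm
  haveI hcompl : IsAdicComplete 𝔠 (TrivSqZeroExt A A) := by
    rw [IsAdicComplete.map_algebraMap_iff]
    exact Groth.Agent.S9405.isAdicComplete_of_finite (maximalIdeal A) (TrivSqZeroExt A A)
  have h𝔠 : ∀ a m : A, a ∈ maximalIdeal A → m ∈ maximalIdeal A →
      (TrivSqZeroExt.inl a + TrivSqZeroExt.inr m : (TrivSqZeroExt A A)) ∈ 𝔠 := by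
    intro a m ha hm
    refine 𝔠.add_mem (Ideal.mem_map_of_mem _ ha) ?_
    have h1 : (TrivSqZeroExt.inr m : (TrivSqZeroExt A A)) = algebraMap A (TrivSqZeroExt A A) m * TrivSqZeroExt.inr 1 := by
      rw [TrivSqZeroExt.algebraMap_eq_inl, TrivSqZeroExt.inl_mul_inr, smul_eq_mul, mul_one]
    rw [h1]
    exact 𝔠.mul_mem_right _ (Ideal.mem_map_of_mem _ hm)
  haveI hH : IsHausdorff (𝔠.map (Ideal.Quotient.mk J)) ((TrivSqZeroExt A A) ⧸ J) := by
    have h1 : 𝔠.map (Ideal.Quotient.mk J) = (maximalIdeal A).map (algebraMap A ((TrivSqZeroExt A A) ⧸ J)) := by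
      rw [Ideal.map_map]
      rfl
    rw [h1, IsHausdorff.map_algebraMap_iff]
    haveI : Module.Finite A ((TrivSqZeroExt A A) ⧸ J) :=
      Module.Finite.of_surjective ((Ideal.Quotient.mkₐ A J).toLinearMap)
        Ideal.Quotient.mk_surjective
    exact (Groth.Agent.S9405.isAdicComplete_of_finite (maximalIdeal A) ((TrivSqZeroExt A A) ⧸ J)).toIsHausdorff
  -- on `𝔪²` the derivation has values in `𝔪`
  have hδ2 : ∀ a ∈ maximalIdeal A ^ 2, ∃ m ∈ maximalIdeal A, Ideal.Quotient.mk 𝔭 m = δ a := by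
    intro a ha
    rw [pow_two] at ha
    refine Submodule.mul_induction_on ha ?_ ?_
    · intro x hx y hy
      obtain ⟨mx, hmx⟩ := Ideal.Quotient.mk_surjective (δ x)
      obtain ⟨my, hmy⟩ := Ideal.Quotient.mk_surjective (δ y)
      refine ⟨x * my + y * mx, (maximalIdeal A).add_mem
        ((maximalIdeal A).mul_mem_right _ hx) ((maximalIdeal A).mul_mem_right _ hy), ?_⟩
      rw [Derivation.leibniz, map_add, map_mul, map_mul, hmx, hmy]
      rfl
    · rintro x y ⟨mx, hmx, hx⟩ ⟨my, hmy, hy⟩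
      exact ⟨mx + my, (maximalIdeal A).add_mem hmx hmy, by rw [map_add, map_add, hx, hy]⟩
  have hFSA := isFSA_of_isAdicFormallySmooth (maximalIdeal A) hfs
  obtain ⟨v, -, hv⟩ := AdicLiftU.exists_lift_adicComplete (⊥ : Ideal k) (maximalIdeal A) 𝔠 hFSA
    ⟨1, by rw [pow_one, Ideal.map_bot]; exact bot_le⟩ J
    ⟨2, by rw [hJ2]; exact bot_le⟩ u ⟨2, by
      rw [Ideal.map_le_iff_le_comap]
      intro a ha
      rw [Ideal.mem_comap]
      change u a ∈ _
      obtain ⟨m, hm, hma⟩ := hδ2 a ha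
      rw [hu a m hma]
      exact Ideal.mem_map_of_mem _
        (h𝔠 a m (Ideal.pow_le_self (by norm_num) ha) hm)⟩
  have hgv : ∀ a, g (v a) = w a := by
    intro a
    have h1 : Ideal.Quotient.mk J (v a) = u a := congrArg (fun f : A →ₐ[k] _ => f a) hv
    rw [← he, h1, heu]
  have hvfst : ∀ a, (v a).fst = a := by
    intro a
    rw [← hgfst, hgv, hw, TrivSqZeroExt.fst_add, TrivSqZeroExt.fst_inl, TrivSqZeroExt.fst_inr,
      add_zero]
  have hvsnd : ∀ a, Ideal.Quotient.mk 𝔭 (v a).snd = δ a := by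
    intro a
    rw [← hq, ← hgsnd, hgv, hw, TrivSqZeroExt.snd_add, TrivSqZeroExt.snd_inl,
      TrivSqZeroExt.snd_inr, zero_add]
  refine ⟨Derivation.mk'
    { toFun := fun a => (v a).snd
      map_add' := fun a b => by rw [map_add, TrivSqZeroExt.snd_add]
      map_smul' := fun c a => by
        rw [map_smul, TrivSqZeroExt.snd_smul]
        rfl }
    (fun a b => ?_), hvsnd⟩
  change (v (a * b)).snd = a • (v b).snd + b • (v a).snd
  rw [map_mul, TrivSqZeroExt.snd_mul, hvfst, hvfst, op_smul_eq_smul]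

end Groth.Agent.Lib.Helper22.NagGen
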