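import Mathlib
import Groth.Agent.Lib.Helper22.NagGenC
import Groth.Prelude.Def_CAlgX

/-!
# Nagata's Jacobian criterion, general form (helper22): the field lemma in all characteristics,
and transitivity of adic formal smoothness over a formally smooth field extension
-/

set_option autoImplicit false
set_option linter.style.haveILetI false
set_option linter.unusedSectionVars false
set_option linter.unusedVariables false

universe u

namespace Groth.Agent.Lib.Helper22.NagGen

open TensorProduct KaehlerDifferential MvPowerSeries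

theorem exists_subring (p : ℕ) {k K₀ : Type u} [Field k] [Field K₀] [Algebra k K₀] [ExpChar k p]
    (hk : p = 1 ∨ Module.Finite (frobenius k p).fieldRange k) (d : ℕ)
    (L : Type u) [Field L] [Algebra (FractionRing (MvPowerSeries (Fin d) K₀)) L] [Algebra k L]
    [IsScalarTower k (FractionRing (MvPowerSeries (Fin d) K₀)) L]
    [Module.Finite (FractionRing (MvPowerSeries (Fin d) K₀)) L]
    [Algebra (MvPowerSeries (Fin d) K₀) L]
    [IsScalarTower (MvPowerSeries (Fin d) K₀) (FractionRing (MvPowerSeries (Fin d) K₀)) L]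
    [IsScalarTower k (MvPowerSeries (Fin d) K₀) L] :
    ∃ S : Subring (MvPowerSeries (Fin d) K₀), Module.Finite S (MvPowerSeries (Fin d) K₀) ∧
      ∀ D : Derivation k (MvPowerSeries (Fin d) K₀) L, ∃ E : Derivation k L L,
        ∀ s ∈ S, D s = E (algebraMap (MvPowerSeries (Fin d) K₀) L s) := by
  classical
  let C₁ := MvPowerSeries (Fin d) K₀
  let K₁ := FractionRing C₁
  rcases ‹ExpChar k p› with _ | hp
  · -- characteristic zero
    refine ⟨⊤, ?_, fun D => ?_⟩
    · refine ⟨⟨{1}, ?_⟩⟩
      rw [eq_top_iff]
      intro x _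
      have : x = (⟨x, Subring.mem_top x⟩ : (⊤ : Subring C₁)) • (1 : C₁) := by
        rw [Subring.smul_def, smul_eq_mul, mul_one]
      rw [this]
      exact Submodule.smul_mem _ _ (Submodule.subset_span (by simp))
    · haveI : Algebra.FormallyEtale C₁ K₁ :=
        Algebra.FormallyEtale.of_isLocalization (nonZeroDivisors C₁)
      obtain ⟨E, hE⟩ := exists_der_charZero (extendDer (F := K₁) D)
      refine ⟨E, fun s _ => ?_⟩
      have h2 := hE (algebraMap C₁ K₁ s)
      rw [extendDer_algebraMap] at h2
      rw [h2, ← IsScalarTower.algebraMap_apply]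
  · -- characteristic `p`
    haveI : Fact p.Prime := ⟨hp⟩
    haveI : CharP K₀ p := charP_of_injective_algebraMap (algebraMap k K₀).injective p
    haveI : ExpChar k p := ExpChar.prime hp
    have hfin : Module.Finite (frobenius k p).fieldRange k := by
      rcases hk with h1 | h
      · exact absurd h1 hp.one_lt.ne'
      · exact h
    have hF : Subfield.closure (Set.range fun x : k => x ^ p) = (frobenius k p).fieldRange := by
      apply le_antisymm
      · rw [Subfield.closure_le]
        rintro _ ⟨x, rfl⟩
        exact ⟨x, rfl⟩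
      · rintro _ ⟨x, rfl⟩
        exact Subfield.subset_closure ⟨x, rfl⟩
    have hk' : Module.Finite (Subfield.closure (Set.range fun x : k => x ^ p)) k := by
      rw [hF]
      exact hfin
    exact exists_subring_charP p d hk' L

/-- transitivity: a `K₀`-algebra adically formally smooth over `K₀` is so over `k` when `K₀` is
formally smooth over `k`. -/
theorem adicSmooth_of_formallySmooth_base {k K₀ A : Type u} [CommRing k] [CommRing K₀]
    [CommRing A] [Algebra k K₀] [Algebra k A] [Algebra K₀ A] [IsScalarTower k K₀ A]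
    [Algebra.FormallySmooth k K₀] (I : Ideal A) (hA : CAlgX.IsAdicFormallySmooth K₀ A I) :
    CAlgX.IsAdicFormallySmooth k A I := by
  intro C _ _ J hJ ψ hψ
  let ψ₀ : K₀ →ₐ[k] C ⧸ J := ψ.comp (IsScalarTower.toAlgHom k K₀ A)
  have hJn : IsNilpotent J := ⟨2, hJ⟩
  let w : K₀ →ₐ[k] C := Algebra.FormallySmooth.lift J hJn ψ₀
  have hw : ∀ x, Ideal.Quotient.mk J (w x) = ψ₀ x := fun x =>
    Algebra.FormallySmooth.mk_lift J hJn ψ₀ x
  letI algC : Algebra K₀ C := w.toRingHom.toAlgebra
  haveI : IsScalarTower k K₀ C := IsScalarTower.of_algebraMap_eq (fun c => (w.commutes c).symm)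
  let ψ' : A →ₐ[K₀] C ⧸ J :=
    { ψ.toRingHom with
      commutes' := fun x => by
        change ψ (algebraMap K₀ A x) = Ideal.Quotient.mk J (w x)
        rw [hw]
        rfl }
  obtain ⟨χ, hχ⟩ := hA C J hJ ψ' hψ
  refine ⟨χ.restrictScalars k, ?_⟩
  ext a
  have := congrArg (fun g : A →ₐ[K₀] C ⧸ J => g a) hχ
  exact this

end Groth.Agent.Lib.Helper22.NagGen
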