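import Mathlib
import Groth.Agent.Lib.Helper5.RegAdjoinRoot2
import Groth.Agent.Lib.Helper5.JacAdic
import Groth.Agent.Lib.Helper5.AdicRegF

/-!
# Nagata's Jacobian criterion, general form (helper22): necessity of the Jacobian condition with
residue-field-valued derivations

If `(A/q)_𝔭` is adically formally smooth over `k`, then `qA_𝔭` has generators `f_j ∈ q` with dual
`k`-derivations `δ_i : A → κ(𝔭)`.
-/

set_option autoImplicit false
set_option linter.style.haveILetI false
set_option linter.unusedSectionVars false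
set_option linter.unusedVariables false

universe u

namespace Groth.Agent.Lib.Helper22.NagGen

open IsLocalRing TensorProduct

section Transfer

variable {k A : Type u} [CommRing k] [CommRing A] [Algebra k A]
    (q 𝔭 : Ideal A) [𝔭.IsPrime] (hq : q ≤ 𝔭) [(𝔭.map (Ideal.Quotient.mk q)).IsPrime]

instance instTowerQuot :
    IsScalarTower k (A ⧸ q)
      (Localization.AtPrime 𝔭 ⧸ q.map (algebraMap A (Localization.AtPrime 𝔭))) :=
  IsScalarTower.of_algebraMap_eq (fun c => by
    rw [IsScalarTower.algebraMap_apply k (Localization.AtPrime 𝔭)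
      (Localization.AtPrime 𝔭 ⧸ q.map (algebraMap A (Localization.AtPrime 𝔭))),
      IsScalarTower.algebraMap_apply k A (Localization.AtPrime 𝔭),
      IsScalarTower.algebraMap_apply k A (A ⧸ q)]
    rfl)

include hq in
/-- the `k`-algebra isomorphism `(A/q)_𝔭 ≃ A_𝔭 / qA_𝔭` -/
theorem exists_algEquiv_quotLoc :
    ∃ e : Localization.AtPrime (𝔭.map (Ideal.Quotient.mk q)) ≃ₐ[k]
      (Localization.AtPrime 𝔭 ⧸ q.map (algebraMap A (Localization.AtPrime 𝔭))), True := by
  let Rn := Localization.AtPrime 𝔭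
  let qb : Ideal (A ⧸ q) := 𝔭.map (Ideal.Quotient.mk q)
  have hsub : Algebra.algebraMapSubmonoid (A ⧸ q) 𝔭.primeCompl = qb.primeCompl := by
    ext x
    constructor
    · rintro ⟨y, hy, rfl⟩
      intro hmem
      exact hy ((Ideal.mem_quotient_iff_mem hq).1 hmem)
    · intro hx
      obtain ⟨y, rfl⟩ := Ideal.Quotient.mk_surjective x
      refine ⟨y, ?_, rfl⟩
      intro hy
      exact hx ((Ideal.mem_quotient_iff_mem hq).2 hy)
  have hloc : IsLocalization (Algebra.algebraMapSubmonoid (A ⧸ q) 𝔭.primeCompl)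
      (Rn ⧸ q.map (algebraMap A Rn)) := inferInstance
  rw [hsub] at hloc
  exact ⟨(IsLocalization.algEquiv qb.primeCompl (Localization.AtPrime qb)
    (Rn ⧸ q.map (algebraMap A Rn))).restrictScalars k, trivial⟩

include hq in
theorem adicSmooth_quotLoc
    (h : CAlgX.IsAdicFormallySmooth k (Localization.AtPrime (𝔭.map (Ideal.Quotient.mk q)))
      (maximalIdeal (Localization.AtPrime (𝔭.map (Ideal.Quotient.mk q))))) :
    CAlgX.IsAdicFormallySmooth k
      (Localization.AtPrime 𝔭 ⧸ q.map (algebraMap A (Localization.AtPrime 𝔭)))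
      ((maximalIdeal (Localization.AtPrime 𝔭)).map
        (algebraMap (Localization.AtPrime 𝔭)
          (Localization.AtPrime 𝔭 ⧸ q.map (algebraMap A (Localization.AtPrime 𝔭))))) := by
  obtain ⟨e, -⟩ := exists_algEquiv_quotLoc (k := k) q 𝔭 hq
  refine Groth.Agent.Lib.Helper5.AdicReg.adicSmooth_of_algEquiv e _ _ ?_ h
  intro x hx
  have hnu : ¬ IsUnit (e x) := by
    intro hu
    have : IsUnit x := by
      have := hu.map e.symm
      rwa [AlgEquiv.symm_apply_apply] at this
    exact hx this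
  obtain ⟨r, hr⟩ := Ideal.Quotient.mk_surjective (e x)
  have hrm : r ∈ maximalIdeal (Localization.AtPrime 𝔭) := by
    rw [mem_maximalIdeal, mem_nonunits_iff]
    intro hu
    exact hnu (hr ▸ hu.map _)
  rw [← hr]
  exact Ideal.mem_map_of_mem _ hrm

end Transfer


section Main

variable {k A : Type u} [Field k] [CommRing A] [IsNoetherianRing A] [Algebra k A]
    (q 𝔭 : Ideal A) [𝔭.IsPrime] (hq : q ≤ 𝔭) [(𝔭.map (Ideal.Quotient.mk q)).IsPrime]

include hq in
theorem exists_dual_derivations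
    (h : CAlgX.IsAdicFormallySmooth k (Localization.AtPrime (𝔭.map (Ideal.Quotient.mk q)))
      (maximalIdeal (Localization.AtPrime (𝔭.map (Ideal.Quotient.mk q))))) :
    ∃ (m : ℕ) (f : Fin m → A) (δ : Fin m → Derivation k A 𝔭.ResidueField), (∀ i, f i ∈ q) ∧
      q.map (algebraMap A (Localization.AtPrime 𝔭)) =
        Ideal.span (Set.range fun i => algebraMap A (Localization.AtPrime 𝔭) (f i)) ∧
      ∀ i j, δ i (f j) = if i = j then 1 else 0 := by
  classical
  let R := Localization.AtPrime 𝔭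
  let 𝔮 : Ideal R := q.map (algebraMap A R)
  let κ := ResidueField R
  haveI : IsNoetherianRing R := IsLocalization.isNoetherianRing 𝔭.primeCompl R inferInstance
  have h𝔮le : 𝔮 ≤ maximalIdeal R := by
    rw [← Localization.AtPrime.map_eq_maximalIdeal]
    exact Ideal.map_mono hq
  letI algCκ : Algebra (R ⧸ 𝔮) κ := (Ideal.Quotient.factor h𝔮le).toAlgebra
  haveI hst := IsScalarTower.of_algebraMap_eq (R := R) (S := R ⧸ 𝔮) (A := κ) (fun _ => rfl)
  have hCs := adicSmooth_quotLoc (k := k) q 𝔭 hq h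
  have hQ : ∃ n : ℕ, ((maximalIdeal R).map (algebraMap R (R ⧸ 𝔮))) ^ n ≤
      RingHom.ker (algebraMap (R ⧸ 𝔮) κ) := ⟨1, by
    refine (Ideal.pow_le_self one_ne_zero).trans ?_
    rw [Ideal.map_le_iff_le_comap]
    intro r hr
    rw [Ideal.mem_comap, RingHom.mem_ker, ← IsScalarTower.algebraMap_apply R (R ⧸ 𝔮) κ]
    exact (residue_eq_zero_iff r).mpr hr⟩
  obtain ⟨hh, hhD⟩ := Groth.Agent.Lib.Helper5.JacAdic.exists_der_of_smooth (A := k) (B := R)
    (C := R ⧸ 𝔮) (R := κ) Ideal.Quotient.mk_surjective (I := maximalIdeal R) hCs hQ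
  let 𝔎 : Ideal R := RingHom.ker (algebraMap R (R ⧸ 𝔮))
  have h𝔎 : 𝔎 = 𝔮 := Ideal.mk_ker
  have hmem𝔎 : ∀ a ∈ q, algebraMap A R a ∈ 𝔎 := fun a ha => by
    rw [h𝔎]; exact Ideal.mem_map_of_mem _ ha
  let Θ : 𝔎 →ₗ[R] κ ⊗[R] 𝔎.Cotangent := (TensorProduct.mk R κ 𝔎.Cotangent 1) ∘ₗ 𝔎.toCotangent
  have hΘ : ∀ x : 𝔎, Θ x = (1 : κ) ⊗ₜ[R] 𝔎.toCotangent x := fun x => rfl
  let τ : q → κ ⊗[R] 𝔎.Cotangent := fun a => Θ ⟨algebraMap A R a.1, hmem𝔎 a.1 a.2⟩
  let s : Set (κ ⊗[R] 𝔎.Cotangent) := Set.range τ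
  have hres : Function.Surjective (algebraMap R κ) := residue_surjective
  -- `s` spans
  have hΘmem : ∀ (x : R) (hx : x ∈ Submodule.span R (algebraMap A R '' (q : Set A)))
      (hx' : x ∈ 𝔎), Θ ⟨x, hx'⟩ ∈ (Submodule.span κ s).restrictScalars R := by
    intro x hx
    induction hx using Submodule.span_induction with
    | mem x hx =>
      intro hx'
      obtain ⟨a, ha, rfl⟩ := hx
      exact Submodule.subset_span ⟨⟨a, ha⟩, rfl⟩
    | zero =>
      intro hx'
      have : (⟨0, hx'⟩ : 𝔎) = 0 := rfl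
      rw [this, map_zero]
      exact Submodule.zero_mem _
    | add x y hx hy ihx ihy =>
      intro hx'
      have hxs : Submodule.span R (algebraMap A R '' (q : Set A)) ≤ 𝔎 := by
        rw [Submodule.span_le]
        rintro _ ⟨a, ha, rfl⟩
        exact hmem𝔎 a ha
      have h1 : (⟨x + y, hx'⟩ : 𝔎) = ⟨x, hxs hx⟩ + ⟨y, hxs hy⟩ := rfl
      rw [h1, map_add]
      exact Submodule.add_mem _ (ihx _) (ihy _)
    | smul r x hx ihx =>
      intro hx'
      have hxs : Submodule.span R (algebraMap A R '' (q : Set A)) ≤ 𝔎 := by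
        rw [Submodule.span_le]
        rintro _ ⟨a, ha, rfl⟩
        exact hmem𝔎 a ha
      have h1 : (⟨r • x, hx'⟩ : 𝔎) = r • ⟨x, hxs hx⟩ := rfl
      rw [h1, map_smul]
      exact Submodule.smul_mem _ _ (ihx _)
  have hspan : Submodule.span κ s = ⊤ := by
    rw [eq_top_iff]
    rintro v -
    induction v using TensorProduct.induction_on with
    | zero => exact Submodule.zero_mem _
    | add x y hx hy => exact Submodule.add_mem _ hx hy
    | tmul l c =>
      obtain ⟨x, rfl⟩ := 𝔎.toCotangent_surjective c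
      have h1 : l ⊗ₜ[R] 𝔎.toCotangent x = l • Θ x := by
        rw [hΘ, TensorProduct.smul_tmul', smul_eq_mul, mul_one]
      rw [h1]
      refine Submodule.smul_mem _ _ ?_
      have hx𝔮 : (x : R) ∈ 𝔮 := h𝔎 ▸ x.2
      have hx2 : (x : R) ∈ Submodule.span R (algebraMap A R '' (q : Set A)) := hx𝔮
      exact hΘmem x.1 hx2 x.2
  haveI : Module.Finite R 𝔎 := Module.Finite.of_fg (IsNoetherian.noetherian 𝔎)
  haveI : Module.Finite R 𝔎.Cotangent :=
    Module.Finite.of_surjective 𝔎.toCotangent 𝔎.toCotangent_surjective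
  haveI : Module.Finite κ (κ ⊗[R] 𝔎.Cotangent) := inferInstance
  obtain ⟨vv, hvs, hvspan, hvli⟩ := Submodule.exists_fun_fin_finrank_span_eq κ s
  choose a ha using hvs
  let B := Module.Basis.mk hvli (by rw [hvspan, hspan])
  have hBcoord : ∀ i j, B.coord i (vv j) = if j = i then 1 else 0 := fun i j =>
    Module.Basis.mk_coord_apply (hli := hvli) (hsp := by rw [hvspan, hspan])
  let f : Fin (Module.finrank κ (Submodule.span κ s)) → A := fun i => (a i).1
  have hfq : ∀ i, f i ∈ q := fun i => (a i).2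
  let y : Fin (Module.finrank κ (Submodule.span κ s)) → 𝔎 := fun j => ⟨algebraMap A R (f j), hmem𝔎 _ (hfq j)⟩
  have hvy : ∀ j, vv j = Θ (y j) := fun j => (ha j).symm
  let δ : Fin (Module.finrank κ (Submodule.span κ s)) → Derivation k A κ := fun i =>
    ((((B.coord i).restrictScalars R) ∘ₗ hh).compDer (KaehlerDifferential.D k R)).compAlgebraMap A
  refine ⟨Module.finrank κ (Submodule.span κ s), f, δ, hfq, ?_, ?_⟩
  · -- generation
    let N : Submodule R 𝔎.Cotangent := Submodule.span R (Set.range fun j => 𝔎.toCotangent (y j))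
    have hNmap : N.map (TensorProduct.mk R κ 𝔎.Cotangent 1) = ⊤ := by
      rw [Submodule.map_span, ← Set.range_comp]
      have h1 : ((TensorProduct.mk R κ 𝔎.Cotangent 1) ∘ fun j => 𝔎.toCotangent (y j)) = vv := by
        funext j
        rw [hvy]
        rfl
      rw [h1, ← Submodule.restrictScalars_span R κ hres, hvspan, hspan]
      rfl
    have hNtop : N = ⊤ := IsLocalRing.map_tensorProduct_mk_eq_top.mp hNmap
    have hle : 𝔎 ≤ Ideal.span (Set.range fun i => algebraMap A R (f i)) := by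
      have hfg : (𝔎 : Submodule R R).FG := IsNoetherian.noetherian 𝔎
      refine Submodule.le_of_le_smul_of_le_jacobson_bot (I := 𝔎) hfg ?_ ?_
      · rw [IsLocalRing.jacobson_eq_maximalIdeal ⊥ bot_ne_top, h𝔎]
        exact h𝔮le
      · intro x hx
        have h1 : 𝔎.toCotangent ⟨x, hx⟩ ∈ N := by rw [hNtop]; trivial
        obtain ⟨r, hr⟩ := (Submodule.mem_span_range_iff_exists_fun R).mp h1
        have h2 : 𝔎.toCotangent (⟨x, hx⟩ - ∑ j, r j • y j) = 0 := by
          rw [map_sub, map_sum, sub_eq_zero, ← hr]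
          exact Finset.sum_congr rfl fun j _ => (map_smul _ _ _).symm
        rw [Ideal.toCotangent_eq_zero] at h2
        have h3 : x = (∑ j, r j • (y j : R)) + ((⟨x, hx⟩ - ∑ j, r j • y j : 𝔎) : R) := by
          simp
        rw [h3]
        refine Submodule.add_mem_sup ?_ ?_
        · refine Submodule.sum_mem _ fun j _ => ?_
          exact Submodule.smul_mem _ _ (Submodule.subset_span ⟨j, rfl⟩)
        · rw [smul_eq_mul, ← pow_two]
          exact h2
    apply le_antisymm
    · change 𝔮 ≤ _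
      rw [← h𝔎]
      exact hle
    · rw [Ideal.span_le]
      rintro _ ⟨i, rfl⟩
      exact Ideal.mem_map_of_mem _ (hfq i)
  · intro i j
    change (B.coord i) (hh (KaehlerDifferential.D k R (algebraMap A R (f j)))) = _
    have h1 := hhD (y j)
    change hh (KaehlerDifferential.D k R (algebraMap A R (f j))) = Θ (y j) at h1
    rw [h1, ← hvy, hBcoord]
    simp only [eq_comm]

end Main

end Groth.Agent.Lib.Helper22.NagGen
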