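import Mathlib

/-!
# Nagata's Jacobian criterion, general form (helper22): bounded derivations into the residue field

A derivation `δ' : A → κ(𝔭)` vanishing on (the image of) a subring `S` of `C₁`, where `A/𝔭` is
finite over `C₁` and `C₁` is finite over `S`, has image in a finitely generated `A`-submodule of
`κ(𝔭)`; a multiple `c δ'`, `c ∉ 𝔭`, has values in `A/𝔭`.
-/

set_option autoImplicit false
set_option linter.style.haveILetI false
set_option linter.unusedSectionVars false
set_option linter.unusedVariables false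

universe u

namespace Groth.Agent.Lib.Helper22.NagGen

open IsLocalRing

section Bounded

variable {k A C₁ : Type u} [CommRing k] [CommRing A] [IsNoetherianRing A] [Algebra k A]
  (𝔭 : Ideal A) [𝔭.IsPrime] [CommRing C₁] [Algebra C₁ A]

theorem exists_mul_mem_range [Module.Finite C₁ (A ⧸ 𝔭)] (S : Subring C₁) [Module.Finite S C₁]
    (δ' : Derivation k A 𝔭.ResidueField) (hS : ∀ s ∈ S, δ' (algebraMap C₁ A s) = 0) :
    ∃ c : A, c ∉ 𝔭 ∧ ∀ a : A, ∃ b : A,
      algebraMap A 𝔭.ResidueField c * δ' a = algebraMap A 𝔭.ResidueField b := by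
  classical
  let κ := 𝔭.ResidueField
  obtain ⟨n₁, b, hb⟩ := Module.Finite.exists_fin (R := S) (M := C₁)
  obtain ⟨n₂, cbar, hcbar⟩ := Module.Finite.exists_fin (R := C₁) (M := A ⧸ 𝔭)
  choose cl hcl using fun l => Ideal.Quotient.mk_surjective (cbar l)
  obtain ⟨n₃, g, hg⟩ := Submodule.fg_iff_exists_fin_generating_family.mp
    (IsNoetherian.noetherian 𝔭)
  let gens : Finset κ := (Finset.univ.image fun β => δ' (algebraMap C₁ A (b β))) ∪
    (Finset.univ.image fun l => δ' (cl l)) ∪ (Finset.univ.image fun j => δ' (g j))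
  let N : Submodule A κ := Submodule.span A (gens : Set κ)
  have hN1 : ∀ β, δ' (algebraMap C₁ A (b β)) ∈ N := fun β =>
    Submodule.subset_span (by
      simp only [gens, Finset.coe_union, Finset.coe_image, Finset.coe_univ, Set.image_univ]
      exact Or.inl (Or.inl ⟨β, rfl⟩))
  have hN2 : ∀ l, δ' (cl l) ∈ N := fun l =>
    Submodule.subset_span (by
      simp only [gens, Finset.coe_union, Finset.coe_image, Finset.coe_univ, Set.image_univ]
      exact Or.inl (Or.inr ⟨l, rfl⟩))
  have hN3 : ∀ j, δ' (g j) ∈ N := fun j =>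
    Submodule.subset_span (by
      simp only [gens, Finset.coe_union, Finset.coe_image, Finset.coe_univ, Set.image_univ]
      exact Or.inr ⟨j, rfl⟩)
  have hκ0 : ∀ π ∈ 𝔭, ∀ z : κ, π • z = 0 := by
    intro π hπ z
    rw [Algebra.smul_def, Ideal.algebraMap_residueField_eq_zero.mpr hπ, zero_mul]
  -- Lemma A'
  have hA' : ∀ x : C₁, δ' (algebraMap C₁ A x) ∈ N := by
    intro x
    have hx : x ∈ Submodule.span S (Set.range b) := by rw [hb]; trivial
    induction hx using Submodule.span_induction with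
    | mem x hx =>
      obtain ⟨β, rfl⟩ := hx
      exact hN1 β
    | zero => rw [map_zero, map_zero]; exact N.zero_mem
    | add x y _ _ hx hy => rw [map_add, map_add]; exact N.add_mem hx hy
    | smul s x _ hx =>
      rw [Subring.smul_def, smul_eq_mul, map_mul, Derivation.leibniz, hS s.1 s.2, smul_zero,
        add_zero]
      exact N.smul_mem _ hx
  -- Lemma B
  have hspan𝔭 : Submodule.span A (Set.range g) ≤ 𝔭 := by rw [hg]
  have hB' : ∀ π, π ∈ Submodule.span A (Set.range g) → δ' π ∈ N := by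
    intro π hπ'
    induction hπ' using Submodule.span_induction with
    | mem x hx =>
      obtain ⟨j, rfl⟩ := hx
      exact hN3 j
    | zero => rw [map_zero]; exact N.zero_mem
    | add x y _ _ hx hy => rw [map_add]; exact N.add_mem hx hy
    | smul a x hx' hx =>
      rw [smul_eq_mul, Derivation.leibniz, hκ0 x (hspan𝔭 hx'), add_zero]
      exact N.smul_mem _ hx
  have hB : ∀ π ∈ 𝔭, δ' π ∈ N := fun π hπ => hB' π (by rw [hg]; exact hπ)
  -- main
  have hmain : ∀ ybar : A ⧸ 𝔭, ∀ a : A, Ideal.Quotient.mk 𝔭 a = ybar → δ' a ∈ N := by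
    intro ybar
    have hy : ybar ∈ Submodule.span C₁ (Set.range cbar) := by rw [hcbar]; trivial
    induction hy using Submodule.span_induction with
    | mem y hy =>
      obtain ⟨l, rfl⟩ := hy
      intro a ha
      have h1 : a - cl l ∈ 𝔭 := by
        rw [← Ideal.Quotient.eq, ha, hcl]
      have h2 : a = cl l + (a - cl l) := by ring
      rw [h2, map_add]
      exact N.add_mem (hN2 l) (hB _ h1)
    | zero =>
      intro a ha
      exact hB a (Ideal.Quotient.eq_zero_iff_mem.mp ha)
    | add y₁ y₂ _ _ h₁ h₂ =>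
      intro a ha
      obtain ⟨a₁, ha₁⟩ := Ideal.Quotient.mk_surjective y₁
      have h2 : Ideal.Quotient.mk 𝔭 (a - a₁) = y₂ := by
        rw [map_sub, ha, ha₁, add_sub_cancel_left]
      have h3 : a = a₁ + (a - a₁) := by ring
      rw [h3, map_add]
      exact N.add_mem (h₁ a₁ ha₁) (h₂ _ h2)
    | smul x y _ hy =>
      intro a ha
      obtain ⟨a₁, ha₁⟩ := Ideal.Quotient.mk_surjective y
      have h1 : a - algebraMap C₁ A x * a₁ ∈ 𝔭 := by
        rw [← Ideal.Quotient.eq, ha, map_mul, ha₁, Algebra.smul_def]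
        rfl
      have h3 : a = algebraMap C₁ A x * a₁ + (a - algebraMap C₁ A x * a₁) := by ring
      rw [h3, map_add, Derivation.leibniz]
      exact N.add_mem (N.add_mem (N.smul_mem _ (hy a₁ ha₁)) (N.smul_mem _ (hA' x))) (hB _ h1)
  have hall : ∀ a, δ' a ∈ N := fun a => hmain _ a rfl
  -- denominators
  obtain ⟨bd, hbd⟩ := IsLocalization.exist_integer_multiples_of_finset
    (nonZeroDivisors (A ⧸ 𝔭)) gens
  obtain ⟨c, hc⟩ := Ideal.Quotient.mk_surjective (bd : A ⧸ 𝔭)
  have hc𝔭 : c ∉ 𝔭 := by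
    intro hmem
    have h0 : (bd : A ⧸ 𝔭) = 0 := by rw [← hc]; exact Ideal.Quotient.eq_zero_iff_mem.mpr hmem
    exact nonZeroDivisors.ne_zero bd.2 h0
  have hcκ : algebraMap A κ c = algebraMap (A ⧸ 𝔭) κ (bd : A ⧸ 𝔭) := by
    rw [← hc]
    rfl
  have hNr : ∀ z ∈ N, ∃ b' : A, algebraMap A κ c * z = algebraMap A κ b' := by
    intro z hz
    induction hz using Submodule.span_induction with
    | mem z hz =>
      obtain ⟨y, hy⟩ := hbd z hz
      obtain ⟨b', rfl⟩ := Ideal.Quotient.mk_surjective y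
      refine ⟨b', ?_⟩
      rw [hcκ, ← Algebra.smul_def, ← hy]
      rfl
    | zero => exact ⟨0, by rw [mul_zero, map_zero]⟩
    | add z₁ z₂ _ _ h₁ h₂ =>
      obtain ⟨b₁, hb₁⟩ := h₁
      obtain ⟨b₂, hb₂⟩ := h₂
      exact ⟨b₁ + b₂, by rw [mul_add, hb₁, hb₂, map_add]⟩
    | smul a z _ hz =>
      obtain ⟨b₁, hb₁⟩ := hz
      exact ⟨a * b₁, by rw [Algebra.smul_def, mul_left_comm, hb₁, map_mul]⟩
  exact ⟨c, hc𝔭, fun a => hNr _ (hall a)⟩

end Bounded

section Descent

variable {k A : Type u} [CommRing k] [CommRing A] [Algebra k A] (𝔭 : Ideal A) [𝔭.IsPrime]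

/-- a derivation into `κ(𝔭)` with values in the image of `A` comes from a derivation into `A/𝔭` -/
theorem exists_derivation_quotient (D : Derivation k A 𝔭.ResidueField)
    (hD : ∀ a : A, ∃ b : A, D a = algebraMap A 𝔭.ResidueField b) :
    ∃ δ'' : Derivation k A (A ⧸ 𝔭), ∀ a, algebraMap (A ⧸ 𝔭) 𝔭.ResidueField (δ'' a) = D a := by
  classical
  let κ := 𝔭.ResidueField
  have hinj : Function.Injective (algebraMap (A ⧸ 𝔭) κ) :=
    Ideal.injective_algebraMap_quotient_residueField 𝔭
  choose bb hbb using hD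
  let φ : A → A ⧸ 𝔭 := fun a => Ideal.Quotient.mk 𝔭 (bb a)
  have hφ : ∀ a, algebraMap (A ⧸ 𝔭) κ (φ a) = D a := fun a => (hbb a).symm
  refine ⟨Derivation.mk'
    { toFun := φ
      map_add' := fun a b => hinj (by rw [map_add, hφ, hφ, hφ, map_add])
      map_smul' := fun c a => hinj (by
        rw [RingHom.id_apply, hφ, Derivation.map_smul, Algebra.smul_def (A := A ⧸ 𝔭), map_mul, hφ,
          ← IsScalarTower.algebraMap_apply, Algebra.smul_def]) }
    (fun a b => hinj ?_), hφ⟩
  change algebraMap (A ⧸ 𝔭) κ (φ (a * b)) = algebraMap (A ⧸ 𝔭) κ (a • φ b + b • φ a)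
  rw [hφ, Derivation.leibniz, map_add, Algebra.smul_def (A := A ⧸ 𝔭), Algebra.smul_def (A := A ⧸ 𝔭),
    map_mul, map_mul, hφ, hφ, ← IsScalarTower.algebraMap_apply, ← IsScalarTower.algebraMap_apply,
    Algebra.smul_def, Algebra.smul_def]

end Descent

end Groth.Agent.Lib.Helper22.NagGen
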