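import Mathlib
import Groth.Agent.Lib.Helper22.NagGenE
import Groth.Agent.Lib.Helper22.NagGenG
import Groth.Agent.Lib.Helper12.CohenFinD
import Groth.Agent.Lib.Helper22.BoundedDerE
import Groth.Agent.Lib.Helper5.FlatCohenD

/-!
# Nagata's Jacobian criterion, general form (helper22): residue-field-valued derivations are,
on `𝔭`, fractions of `A/𝔭`-valued derivations
-/

set_option autoImplicit false
set_option linter.style.haveILetI false
set_option linter.unusedSectionVars false
set_option linter.unusedVariables false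

universe u

namespace Groth.Agent.Lib.Helper22.NagGen

open IsLocalRing MvPowerSeries
open scoped nonZeroDivisors

theorem exists_scaled_derivation (p : ℕ) {k K₀ A : Type u} [Field k] [ExpChar k p]
    (hk : p = 1 ∨ Module.Finite (frobenius k p).fieldRange k)
    [Field K₀] [Algebra k K₀]
    [CommRing A] [IsLocalRing A] [IsNoetherianRing A] [IsAdicComplete (maximalIdeal A) A]
    [Algebra k A] [Algebra K₀ A] [IsScalarTower k K₀ A] [Module.Finite K₀ (ResidueField A)]
    (𝔭 : Ideal A) [𝔭.IsPrime] (δ : Derivation k A 𝔭.ResidueField) :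
    ∃ (c : A) (δ'' : Derivation k A (A ⧸ 𝔭)), c ∉ 𝔭 ∧
      ∀ a ∈ 𝔭, algebraMap (A ⧸ 𝔭) 𝔭.ResidueField (δ'' a) =
        algebraMap A 𝔭.ResidueField c * δ a := by
  classical
  let C := A ⧸ 𝔭
  let κ := 𝔭.ResidueField
  haveI : IsLocalRing C :=
    IsLocalRing.of_surjective' (Ideal.Quotient.mk 𝔭) Ideal.Quotient.mk_surjective
  haveI : IsAdicComplete (maximalIdeal C) C :=
    Groth.Agent.Lib.Helper5.FlatCohen.isAdicComplete_quotient 𝔭
  haveI : Module.Finite K₀ (ResidueField C) :=
    Groth.Agent.Lib.Helper22.BoundedDer.finite_residueField_quotient K₀ A 𝔭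
  obtain ⟨d, abar, hdim, habar, hart⟩ := Groth.Agent.Lib.Helper12.CohenFin.exists_sop C
  choose a ha using fun i => Ideal.Quotient.mk_surjective (abar i)
  have ham : ∀ i, a i ∈ maximalIdeal A := by
    intro i
    rw [mem_maximalIdeal, mem_nonunits_iff]
    intro hu
    have h1 : IsUnit (abar i) := by rw [← ha i]; exact hu.map _
    exact (habar i) h1
  obtain ⟨Φ, hΦC, hΦX⟩ :=
    Groth.Agent.Lib.Helper12.CohenFin.exists_eval A (algebraMap K₀ A) a ham
  let C₁ := MvPowerSeries (Fin d) K₀
  let w : C₁ →+* C := (Ideal.Quotient.mk 𝔭).comp Φ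
  have hwC : ∀ c, w (MvPowerSeries.C c) = algebraMap K₀ C c := fun c => by
    change Ideal.Quotient.mk 𝔭 (Φ (MvPowerSeries.C c)) = _
    rw [hΦC]
    rfl
  have hwX : ∀ i, w (MvPowerSeries.X i) = abar i := fun i => by
    change Ideal.Quotient.mk 𝔭 (Φ (MvPowerSeries.X i)) = _
    rw [hΦX, ha]
  have hm0 : maximalIdeal K₀ = ⊥ := IsLocalRing.maximalIdeal_eq_bot
  haveI : IsPrecomplete (maximalIdeal K₀) K₀ := by
    rw [hm0]
    infer_instance
  have hv : (maximalIdeal K₀).map (algebraMap K₀ C) ≤ maximalIdeal C := by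
    rw [hm0, Ideal.map_bot]
    exact bot_le
  have hart' : IsArtinianRing (C ⧸ ((maximalIdeal K₀).map (algebraMap K₀ C) ⊔
      Ideal.span (Set.range abar))) := by
    have : (maximalIdeal K₀).map (algebraMap K₀ C) ⊔ Ideal.span (Set.range abar) =
        Ideal.span (Set.range abar) := by rw [hm0, Ideal.map_bot, bot_sup_eq]
    rw [this]
    exact hart
  have hfin : w.Finite :=
    Groth.Agent.Lib.Helper12.CohenFin.finite_eval w abar hwC hwX hv habar hart'
  haveI : IsDomain C₁ := NoZeroDivisors.to_isDomain _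
  have hinj : Function.Injective w :=
    Groth.Agent.Lib.Helper12.CohenFin.injective_of_finite_of_dim_le w hfin d
      (Groth.Agent.Lib.Helper1.RegPS.ringKrullDim_ps d).le hdim
  -- algebra structures
  letI algA : Algebra C₁ A := Φ.toAlgebra
  haveI tK₀A : IsScalarTower K₀ C₁ A := IsScalarTower.of_algebraMap_eq (fun c => by
    change _ = Φ (algebraMap K₀ C₁ c)
    rw [MvPowerSeries.algebraMap_apply, Algebra.algebraMap_self_apply, hΦC])
  haveI tkA : IsScalarTower k C₁ A := IsScalarTower.of_algebraMap_eq (fun c => by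
    rw [IsScalarTower.algebraMap_apply k K₀ A, IsScalarTower.algebraMap_apply K₀ C₁ A,
      ← IsScalarTower.algebraMap_apply k K₀ C₁])
  haveI finC : Module.Finite C₁ C := RingHom.finite_algebraMap.mp hfin
  have hinjκ : Function.Injective (algebraMap C₁ κ) := by
    have h1 : (algebraMap C₁ κ) = (algebraMap C κ).comp w := rfl
    rw [h1]
    exact (Ideal.injective_algebraMap_quotient_residueField 𝔭).comp hinj
  let K₁ := FractionRing C₁
  letI algK₁ : Algebra K₁ κ := (IsFractionRing.lift hinjκ).toAlgebra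
  haveI t1 : IsScalarTower C₁ K₁ κ :=
    IsScalarTower.of_algebraMap_eq (fun x => (IsFractionRing.lift_algebraMap hinjκ x).symm)
  haveI t2 : IsScalarTower k K₁ κ := IsScalarTower.of_algebraMap_eq (fun c => by
    rw [IsScalarTower.algebraMap_apply k C₁ K₁, ← IsScalarTower.algebraMap_apply C₁ K₁ κ,
      ← IsScalarTower.algebraMap_apply k C₁ κ])
  haveI fsC : FaithfulSMul C₁ C := (faithfulSMul_iff_algebraMap_injective _ _).mpr hinj
  haveI hInt : Algebra.IsIntegral C₁ C := Algebra.IsIntegral.of_finite _ _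
  haveI hAlg : Algebra.IsAlgebraic C₁ C := inferInstance
  haveI hLoc : IsLocalization (Algebra.algebraMapSubmonoid C C₁⁰) κ := inferInstance
  haveI hFD : Module.Finite K₁ κ := Module.Finite.of_isLocalization C₁ C C₁⁰
  obtain ⟨S, hSfin, hS⟩ := exists_subring (k := k) (K₀ := K₀) p hk d κ
  obtain ⟨E, hE⟩ := hS (δ.compAlgebraMap C₁)
  let δ' : Derivation k A κ := δ - E.compAlgebraMap A
  have hδ'𝔭 : ∀ x ∈ 𝔭, δ' x = δ x := by
    intro x hx
    change δ x - E (algebraMap A κ x) = δ x
    rw [Ideal.algebraMap_residueField_eq_zero.mpr hx, map_zero, sub_zero]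
  have hδ'S : ∀ s ∈ S, δ' (algebraMap C₁ A s) = 0 := by
    intro s hs
    change δ (algebraMap C₁ A s) - E (algebraMap A κ (algebraMap C₁ A s)) = 0
    have h1 := hE s hs
    change δ (algebraMap C₁ A s) = _ at h1
    rw [h1, ← IsScalarTower.algebraMap_apply, sub_self]
  obtain ⟨c, hc, hcb⟩ := exists_mul_mem_range 𝔭 S δ' hδ'S
  obtain ⟨δ'', hδ''⟩ := exists_derivation_quotient 𝔭 (c • δ') (fun x => by
    obtain ⟨b, hb⟩ := hcb x
    exact ⟨b, by rw [Derivation.smul_apply, Algebra.smul_def, hb]⟩)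
  refine ⟨c, δ'', hc, fun x hx => ?_⟩
  rw [hδ'', Derivation.smul_apply, Algebra.smul_def, hδ'𝔭 x hx]

end Groth.Agent.Lib.Helper22.NagGen
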