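import Mathlib
import Groth.Agent.Lib.Helper22.NagGenD
import Groth.Agent.Lib.Helper22.NagGenF
import Groth.Agent.Lib.Helper22.NagGenH
import Groth.Agent.Lib.Helper22.NagJacA
import Groth.Agent.S4574
import Groth.Agent.S2451

/-!
# Nagata's Jacobian criterion, general form (helper22; EGA 0_IV 22.7.3)
-/

set_option autoImplicit false
set_option linter.style.haveILetI false
set_option linter.unusedSectionVars false
set_option linter.unusedVariables false

universe u

namespace Groth.Agent.Lib.Helper22.NagGen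

open IsLocalRing

theorem exists_jacobian_of_adicSmooth (p : ℕ) {k : Type u} (K₀ : Type u) {A : Type u} [Field k]
    [ExpChar k p] [Field K₀] [Algebra k K₀]
    [CommRing A] [IsLocalRing A] [IsNoetherianRing A] [IsAdicComplete (maximalIdeal A) A]
    [Algebra k A] [Algebra K₀ A] [IsScalarTower k K₀ A] [Module.Finite K₀ (ResidueField A)]
    (hk : p = 1 ∨ Module.Finite (frobenius k p).fieldRange k)
    (hAk : CAlgX.IsAdicFormallySmooth k A (maximalIdeal A))
    (q 𝔭 : Ideal A) [𝔭.IsPrime] (hq : q ≤ 𝔭) [(𝔭.map (Ideal.Quotient.mk q)).IsPrime]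
    (h : CAlgX.IsAdicFormallySmooth k (Localization.AtPrime (𝔭.map (Ideal.Quotient.mk q)))
      (maximalIdeal (Localization.AtPrime (𝔭.map (Ideal.Quotient.mk q))))) :
    ∃ (m : ℕ) (D : Fin m → Derivation k A A) (f : Fin m → A), (∀ i, f i ∈ q) ∧
      q.map (algebraMap A (Localization.AtPrime 𝔭)) =
        Ideal.span (Set.range fun i => algebraMap A (Localization.AtPrime 𝔭) (f i)) ∧
      Matrix.det (Matrix.of fun i j => D i (f j)) ∉ 𝔭 := by
  classical
  obtain ⟨m, f, δ, hfq, hspan, hδ⟩ := exists_dual_derivations (k := k) q 𝔭 hq h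
  choose c δ'' hc hδ'' using fun i => exists_scaled_derivation (K₀ := K₀) p hk 𝔭 (δ i)
  choose D hD using fun i => exists_lift_derivation hAk 𝔭 (δ'' i)
  refine ⟨m, D, f, hfq, hspan, fun hdet => ?_⟩
  have h0 : algebraMap A 𝔭.ResidueField (Matrix.det (Matrix.of fun i j => D i (f j))) = 0 :=
    Ideal.algebraMap_residueField_eq_zero.mpr hdet
  rw [RingHom.map_det] at h0
  have hM : (algebraMap A 𝔭.ResidueField).mapMatrix (Matrix.of fun i j => D i (f j)) =
      Matrix.diagonal fun i => algebraMap A 𝔭.ResidueField (c i) := by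
    ext i j
    rw [RingHom.mapMatrix_apply, Matrix.map_apply, Matrix.of_apply]
    have h1 : algebraMap A 𝔭.ResidueField (D i (f j)) =
        algebraMap (A ⧸ 𝔭) 𝔭.ResidueField (Ideal.Quotient.mk 𝔭 (D i (f j))) := rfl
    rw [h1, hD, hδ'' i (f j) (hq (hfq j)), hδ]
    by_cases hij : i = j
    · subst hij
      rw [if_pos rfl, mul_one, Matrix.diagonal_apply_eq]
    · rw [if_neg hij, mul_zero, Matrix.diagonal_apply_ne _ hij]
  rw [hM, Matrix.det_diagonal, Finset.prod_eq_zero_iff] at h0
  obtain ⟨i, -, hi⟩ := h0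
  exact hc i (Ideal.algebraMap_residueField_eq_zero.mp hi)

/-- **EGA 0_IV 22.7.3** (Nagata's Jacobian criterion). -/
theorem nagata_jacobian (p : ℕ) {k K₀ A : Type u} [Field k] [ExpChar k p]
    [Field K₀] [Algebra k K₀]
    [CommRing A] [IsLocalRing A] [IsNoetherianRing A] [IsAdicComplete (maximalIdeal A) A]
    [Algebra k A] [Algebra K₀ A] [IsScalarTower k K₀ A] [Module.Finite K₀ (ResidueField A)]
    (hk : p = 1 ∨ Module.Finite (frobenius k p).fieldRange k)
    [Algebra.IsGeometricallyReduced k K₀]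
    (hA : CAlgX.IsAdicFormallySmooth K₀ A (maximalIdeal A))
    (q 𝔭 : Ideal A) [𝔭.IsPrime] (hq : q ≤ 𝔭) [(𝔭.map (Ideal.Quotient.mk q)).IsPrime] :
    CAlgX.IsAdicFormallySmooth k (Localization.AtPrime (𝔭.map (Ideal.Quotient.mk q)))
        (maximalIdeal (Localization.AtPrime (𝔭.map (Ideal.Quotient.mk q)))) ↔
      ∃ (m : ℕ) (D : Fin m → Derivation k A A) (f : Fin m → A), (∀ i, f i ∈ q) ∧
        q.map (algebraMap A (Localization.AtPrime 𝔭)) =
          Ideal.span (Set.range fun i => algebraMap A (Localization.AtPrime 𝔭) (f i)) ∧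
        Matrix.det (Matrix.of fun i j => D i (f j)) ∉ 𝔭 := by
  haveI : Algebra.FormallySmooth k K₀ := Groth.Agent.S2451.result.mpr inferInstance
  have hAk : CAlgX.IsAdicFormallySmooth k A (maximalIdeal A) :=
    adicSmooth_of_formallySmooth_base (k := k) (K₀ := K₀) (maximalIdeal A) hA
  constructor
  · intro h
    exact exists_jacobian_of_adicSmooth p K₀ hk hAk q 𝔭 hq h
  · rintro ⟨m, D, f, hf, hspan, hdet⟩
    have hAp : CAlgX.IsAdicFormallySmooth k (Localization.AtPrime 𝔭)
        (maximalIdeal (Localization.AtPrime 𝔭)) := Groth.Agent.S4574.result hAk 𝔭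
    exact Groth.Agent.Lib.Helper22.NagJac.adicSmooth_of_jacobian q 𝔭 hq hAp m D f hf hspan hdet

end Groth.Agent.Lib.Helper22.NagGen
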