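import Mathlib
import Groth.Prelude.Def_FDesc
import Groth.Agent.Lib.Helper5.SerreFFlat

/-!
# Local Noetherianity under finitely generated field extensions (helper22)
-/

set_option autoImplicit false
set_option linter.style.haveILetI false
universe u
noncomputable section
namespace Groth.Agent.Lib.Helper22.NoethBC

open CategoryTheory CategoryTheory.Limits AlgebraicGeometry TensorProduct

/-- Ring level. -/
theorem isNoetherianRing_tensor_iff (k R k' : Type u) [Field k] [Field k'] [CommRing R]
    [Algebra k R] [Algebra k k'] [Algebra.EssFiniteType k k'] :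
    IsNoetherianRing R ↔ IsNoetherianRing (R ⊗[k] k') := by
  constructor
  · intro h
    exact Algebra.EssFiniteType.isNoetherianRing R (R ⊗[k] k')
  · intro h
    exact Groth.Agent.Lib.Helper5.SerreLoc.isNoetherianRing_of_faithfullyFlat R (R ⊗[k] k')

/-- Affine level. -/
theorem isLocallyNoetherian_pullback_spec_iff (k k' : Type u) [Field k] [Field k'] [Algebra k k']
    [Algebra.EssFiniteType k k'] (R : CommRingCat.{u}) (h : Spec R ⟶ Spec (CommRingCat.of k)) :
    IsLocallyNoetherian (Spec R) ↔
      IsLocallyNoetherian (pullback h (Spec.map (CommRingCat.ofHom (algebraMap k k')))) := by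
  obtain ⟨φ, rfl⟩ := Spec.map_surjective h
  algebraize [φ.hom]
  have e : pullback (Spec.map φ) (Spec.map (CommRingCat.ofHom (algebraMap k k'))) ≅
      Spec (CommRingCat.of (↑R ⊗[k] k')) := pullbackSpecIso k R k'
  rw [isLocallyNoetherian_Spec, isNoetherianRing_tensor_iff k R k']
  constructor
  · intro hN
    haveI : IsNoetherianRing ↑(CommRingCat.of (↑R ⊗[k] k')) := hN
    exact isLocallyNoetherian_of_isOpenImmersion e.hom
  · intro hN
    haveI := hN
    have : IsLocallyNoetherian (Spec (CommRingCat.of (↑R ⊗[k] k'))) :=
      isLocallyNoetherian_of_isOpenImmersion e.inv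
    exact isLocallyNoetherian_Spec.mp this

/-- Scheme level. -/
theorem isLocallyNoetherian_bc_iff {k : Type u} [Field k] {X : Scheme.{u}}
    (f : X ⟶ Spec (CommRingCat.of k)) (k' : Type u) [Field k'] [Algebra k k']
    (hfg : (⊤ : IntermediateField k k').FG) :
    IsLocallyNoetherian X ↔ IsLocallyNoetherian (FBase.bc f k') := by
  haveI : Algebra.EssFiniteType k k' := IntermediateField.fg_top_iff.mp hfg
  let g := Spec.map (CommRingCat.ofHom (algebraMap k k'))
  rw [isLocallyNoetherian_iff_openCover X.affineCover]
  change _ ↔ IsLocallyNoetherian (pullback f g)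
  rw [isLocallyNoetherian_iff_openCover (Scheme.Pullback.openCoverOfLeft X.affineCover f g)]
  apply forall_congr'
  intro i
  exact isLocallyNoetherian_pullback_spec_iff k k' (X.affineOpenCover.X i)
    (X.affineCover.f i ≫ f)

end Groth.Agent.Lib.Helper22.NoethBC
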