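import Mathlib

set_option autoImplicit false
set_option linter.unusedSectionVars false
universe u
noncomputable section
namespace Groth.Agent.Lib.Helper22.NonNoeth

open Polynomial TensorProduct

variable {A : Type u} [CommRing A] [IsDomain A] (t : A)

/-- `ℤ[X] → A`, `X ↦ t` -/
abbrev phi : ℤ[X] →+* A := (Polynomial.aeval t : ℤ[X] →ₐ[ℤ] A).toRingHom

theorem phi_X : phi t X = t := by simp [phi]

theorem phi_C (n : ℤ) : phi t (C n) = (n : A) := by simp [phi]

section Basic

variable (s : A →+* Localization.Away (2 : ℤ))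
include s

theorem intCast_eq_zero (n : ℤ) (h : (n : A) = 0) : n = 0 := by
  have h1 : s (n : A) = 0 := by rw [h, map_zero]
  rw [map_intCast] at h1
  have hinj : Function.Injective (algebraMap ℤ (Localization.Away (2 : ℤ))) :=
    IsLocalization.injective (Localization.Away (2 : ℤ)) (M := Submonoid.powers (2 : ℤ))
      (powers_le_nonZeroDivisors_of_noZeroDivisors (by norm_num))
  apply hinj
  rw [map_zero, ← h1]
  simp

theorem tmul_injective : Function.Injective (fun x : A => (1 : ℚ) ⊗ₜ[ℤ] x) := by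
  have hloc : IsLocalizedModule (nonZeroDivisors ℤ) (TensorProduct.mk ℤ ℚ A 1) :=
    (isLocalizedModule_iff_isBaseChange (nonZeroDivisors ℤ) ℚ _).mpr
      (TensorProduct.isBaseChange ℤ A ℚ)
  intro x y hxy
  have h0 : TensorProduct.mk ℤ ℚ A 1 (x - y) = 0 := by
    rw [map_sub, sub_eq_zero]; exact hxy
  obtain ⟨c, hc⟩ := (IsLocalizedModule.eq_zero_iff (nonZeroDivisors ℤ) _).mp h0
  have hc' : ((c : ℤ) : A) * (x - y) = 0 := by
    rw [← zsmul_eq_mul]; exact hc
  rcases mul_eq_zero.mp hc' with h | h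
  · exact absurd (intCast_eq_zero s _ h) (nonZeroDivisors.coe_ne_zero c)
  · exact sub_eq_zero.mp h

end Basic

theorem tmul_phi (g : ℤ[X]) :
    (1 : ℚ) ⊗ₜ[ℤ] (phi t g) =
      Polynomial.aeval ((1 : ℚ) ⊗ₜ[ℤ] t : ℚ ⊗[ℤ] A) (g.map (Int.castRingHom ℚ)) := by
  have key : ((Algebra.TensorProduct.includeRight : A →ₐ[ℤ] ℚ ⊗[ℤ] A).toRingHom.comp (phi t)) =
      ((Polynomial.aeval ((1 : ℚ) ⊗ₜ[ℤ] t : ℚ ⊗[ℤ] A)).toRingHom.comp
        (Polynomial.mapRingHom (Int.castRingHom ℚ))) := by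
    apply Polynomial.ringHom_ext
    · intro a
      exact congrFun (congrArg DFunLike.coe (RingHom.ext_int
        (((Algebra.TensorProduct.includeRight : A →ₐ[ℤ] ℚ ⊗[ℤ] A).toRingHom.comp (phi t)).comp C)
        (((Polynomial.aeval ((1 : ℚ) ⊗ₜ[ℤ] t : ℚ ⊗[ℤ] A)).toRingHom.comp
          (Polynomial.mapRingHom (Int.castRingHom ℚ))).comp C))) a
    · simp [phi]
  exact congrFun (congrArg DFunLike.coe key) g

section Main

variable (s : A →+* Localization.Away (2 : ℤ))
  (h1 : Function.Bijective (Polynomial.aeval (R := ℚ) ((1 : ℚ) ⊗ₜ[ℤ] t : ℚ ⊗[ℤ] A)))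
include s h1

theorem phi_injective : Function.Injective (phi t) := by
  rw [injective_iff_map_eq_zero]
  intro g hg
  have h2 := tmul_phi t g
  rw [hg, TensorProduct.tmul_zero] at h2
  have h3 : g.map (Int.castRingHom ℚ) = 0 := h1.1 (by rw [← h2, map_zero])
  exact (Polynomial.map_eq_zero_iff (RingHom.injective_int (Int.castRingHom ℚ))).mp h3

/-- clearing denominators -/
theorem exists_smul_eq_phi (f : A) : ∃ (m : ℤ) (g : ℤ[X]), m ≠ 0 ∧ (m : A) * f = phi t g := by
  obtain ⟨P, hP⟩ := h1.2 ((1 : ℚ) ⊗ₜ[ℤ] f)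
  obtain ⟨b, hbM, hb⟩ := IsLocalization.integerNormalization_spec (nonZeroDivisors ℤ) P
  refine ⟨b, IsLocalization.integerNormalization (nonZeroDivisors ℤ) P,
    nonZeroDivisors.ne_zero hbM, ?_⟩
  apply tmul_injective s
  show (1 : ℚ) ⊗ₜ[ℤ] ((b : A) * f) = (1 : ℚ) ⊗ₜ[ℤ] (phi t _)
  rw [tmul_phi]
  have : (algebraMap ℤ ℚ) = Int.castRingHom ℚ := rfl
  rw [← this, hb, zsmul_eq_mul, map_mul, hP, map_intCast, ← zsmul_eq_mul, ← zsmul_eq_mul,
    TensorProduct.tmul_smul]

end Main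

section Prime

variable (p : ℕ) [hp : Fact p.Prime] (hp2 : p ≠ 2)
include hp2

theorem isUnit_two_zmod : IsUnit ((Int.castRingHom (ZMod p)) (2 : ℤ)) := by
  have h : ((2 : ℕ) : ZMod p) ≠ 0 := by
    rw [Ne, ZMod.natCast_eq_zero_iff]
    intro hd
    exact hp2 ((Nat.prime_dvd_prime_iff_eq hp.out Nat.prime_two).mp hd)
  have h' : (Int.castRingHom (ZMod p)) (2 : ℤ) = ((2 : ℕ) : ZMod p) := by simp
  rw [h']
  exact isUnit_iff_ne_zero.mpr h

/-- reduction `ℤ[1/2] → 𝔽_p` for odd `p` -/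
def chi : Localization.Away (2 : ℤ) →+* ZMod p :=
  IsLocalization.Away.lift (2 : ℤ) (g := Int.castRingHom (ZMod p)) (isUnit_two_zmod p hp2)

variable (s : A →+* Localization.Away (2 : ℤ))

/-- the prime `ker (A → ℤ[1/2] → 𝔽_p)` -/
def nI : Ideal A := RingHom.ker ((chi p hp2).comp s)

instance : (nI p hp2 s).IsPrime := RingHom.ker_isPrime _

theorem mem_nI (x : A) : x ∈ nI p hp2 s ↔ chi p hp2 (s x) = 0 := by
  rw [nI, RingHom.mem_ker]; rfl

theorem natCast_mem_nI : (p : A) ∈ nI p hp2 s := by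
  rw [mem_nI, map_natCast, map_natCast, ZMod.natCast_self]

variable (hs : s t = 1)
include hs

theorem sub_one_mem_nI : t - 1 ∈ nI p hp2 s := by
  rw [mem_nI, map_sub, hs, map_one, sub_self, map_zero]

theorem phi_mem_nI_iff (g : ℤ[X]) :
    phi t g ∈ nI p hp2 s ↔ (g.map (Int.castRingHom (ZMod p))).eval 1 = 0 := by
  rw [mem_nI]
  have key : (((chi p hp2).comp s).comp (phi t)) =
      ((Polynomial.evalRingHom (1 : ZMod p)).comp
        (Polynomial.mapRingHom (Int.castRingHom (ZMod p)))) := by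
    apply Polynomial.ringHom_ext
    · intro a
      exact congrFun (congrArg DFunLike.coe (RingHom.ext_int
        ((((chi p hp2).comp s).comp (phi t)).comp C)
        (((Polynomial.evalRingHom (1 : ZMod p)).comp
          (Polynomial.mapRingHom (Int.castRingHom (ZMod p)))).comp C))) a
    · show chi p hp2 (s (phi t X)) = _
      rw [phi_X, hs, map_one]
      simp
  have := congrFun (congrArg DFunLike.coe key) g
  simp only [RingHom.comp_apply, Polynomial.coe_mapRingHom, Polynomial.coe_evalRingHom] at this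
  rw [this]

end Prime

section Key

variable (p : ℕ) [hp : Fact p.Prime] (hp2 : p ≠ 2)
variable (s : A →+* Localization.Away (2 : ℤ)) (hs : s t = 1)
  (h1 : Function.Bijective (Polynomial.aeval (R := ℚ) ((1 : ℚ) ⊗ₜ[ℤ] t : ℚ ⊗[ℤ] A)))

/-- the reduction map on polynomials -/
abbrev psi : ℤ[X] →+* (ZMod p)[X] := Polynomial.mapRingHom (Int.castRingHom (ZMod p))

omit [IsDomain A] in
theorem psi_surjective : Function.Surjective (psi p) :=
  Polynomial.map_surjective _ (ZMod.intCast_surjective)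

omit [IsDomain A] in
theorem exists_eq_C_mul_of_psi_eq_zero (g : ℤ[X]) (hg : psi p g = 0) :
    ∃ g₁ : ℤ[X], g = C (p : ℤ) * g₁ := by
  have : C (p : ℤ) ∣ g := by
    rw [Polynomial.C_dvd_iff_dvd_coeff]
    intro i
    have h := congrArg (fun q => q.coeff i) hg
    simp only [Polynomial.coe_mapRingHom, Polynomial.coeff_map, Polynomial.coeff_zero] at h
    exact (ZMod.intCast_zmod_eq_zero_iff_dvd _ _).mp h
  exact this

include hp2 hs h1

theorem sub_one_mem_of_minimal (𝔮 : Ideal A) [h𝔮 : 𝔮.IsPrime] (hp𝔮 : (p : A) ∈ 𝔮)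
    (hle : 𝔮 ≤ nI p hp2 s) (a b : A) (hab : (p : A) * a = 1 + t * b) : t - 1 ∈ 𝔮 := by
  have hpA : (p : A) ≠ 0 := by
    intro h
    have := intCast_eq_zero s (p : ℤ) (by exact_mod_cast h)
    exact hp.out.ne_zero (by exact_mod_cast this)
  set P' : Ideal ℤ[X] := 𝔮.comap (phi t) with hP'
  set N' : Ideal ℤ[X] := (nI p hp2 s).comap (phi t) with hN'
  have hPN : P' ≤ N' := Ideal.comap_mono hle
  have hkerP : RingHom.ker (psi p) ≤ P' := by
    intro g hg
    obtain ⟨g₁, rfl⟩ := exists_eq_C_mul_of_psi_eq_zero p g hg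
    rw [hP', Ideal.mem_comap, map_mul, phi_C]
    exact Ideal.mul_mem_right _ _ (by exact_mod_cast hp𝔮)
  have hkerN : RingHom.ker (psi p) ≤ N' := hkerP.trans hPN
  by_cases hcase : ∃ g ∈ P', psi p g ≠ 0
  · -- case A
    obtain ⟨g, hgP, hg0⟩ := hcase
    have hQprime : (P'.map (psi p)).IsPrime :=
      Ideal.map_isPrime_of_surjective (psi_surjective p) hkerP
    have hNprime : (N'.map (psi p)).IsPrime :=
      Ideal.map_isPrime_of_surjective (psi_surjective p) hkerN
    have hQne : P'.map (psi p) ≠ ⊥ := by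
      intro h
      have : psi p g ∈ P'.map (psi p) := Ideal.mem_map_of_mem _ hgP
      rw [h, Ideal.mem_bot] at this
      exact hg0 this
    have hQmax : (P'.map (psi p)).IsMaximal := IsPrime.to_maximal_ideal hQne
    have hQN : P'.map (psi p) = N'.map (psi p) :=
      hQmax.eq_of_le hNprime.ne_top (Ideal.map_mono hPN)
    have hX : (X - 1 : ℤ[X]) ∈ N' := by
      rw [hN', Ideal.mem_comap, map_sub, phi_X, map_one]
      exact sub_one_mem_nI t p hp2 s hs
    have hX' : psi p (X - 1) ∈ P'.map (psi p) := by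
      rw [hQN]; exact Ideal.mem_map_of_mem _ hX
    obtain ⟨g', hg'P, hg'⟩ := (Ideal.mem_map_iff_of_surjective _ (psi_surjective p)).mp hX'
    have h3 : (X - 1 : ℤ[X]) - g' ∈ P' := by
      apply hkerP
      rw [RingHom.mem_ker, map_sub, hg', sub_self]
    have h4 : (X - 1 : ℤ[X]) ∈ P' := by
      have : (X - 1 : ℤ[X]) = ((X - 1 : ℤ[X]) - g') + g' := by ring
      rw [this]; exact P'.add_mem h3 hg'P
    rw [hP', Ideal.mem_comap, map_sub, phi_X, map_one] at h4
    exact h4
  · -- case B: content argument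
    exfalso
    push Not at hcase
    have hint : Prime (p : ℤ) := Nat.prime_iff_prime_int.mp hp.out
    have step : ∀ n : ℕ, ∀ (m : ℤ) (f : A) (g : ℤ[X]), m.natAbs ≤ n → m ≠ 0 →
        (m : A) * f = phi t g →
        ∃ (m' : ℤ) (g' : ℤ[X]), ¬ (p : ℤ) ∣ m' ∧ (m' : A) * f = phi t g' := by
      intro n
      induction n with
      | zero =>
        intro m f g hm hm0 _
        exact absurd (Int.natAbs_eq_zero.mp (Nat.le_zero.mp hm)) hm0
      | succ n ih =>
        intro m f g hm hm0 hmf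
        by_cases hd : (p : ℤ) ∣ m
        · obtain ⟨m₁, rfl⟩ := hd
          have hm₁0 : m₁ ≠ 0 := by
            rintro rfl; exact hm0 (mul_zero _)
          have hgP : g ∈ P' := by
            rw [hP', Ideal.mem_comap, ← hmf]
            push_cast
            rw [mul_assoc]
            exact Ideal.mul_mem_right _ _ (by exact_mod_cast hp𝔮)
          obtain ⟨g₁, rfl⟩ := exists_eq_C_mul_of_psi_eq_zero p g (hcase g hgP)
          have h5 : ((m₁ : ℤ) : A) * f = phi t g₁ := by
            have h6 : (p : A) * (((m₁ : ℤ) : A) * f) = (p : A) * phi t g₁ := by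
              have := hmf
              rw [map_mul, phi_C] at this
              push_cast at this
              rw [← this]; ring
            exact mul_left_cancel₀ hpA h6
          refine ih m₁ f g₁ ?_ hm₁0 h5
          have h7 : ((p : ℤ) * m₁).natAbs = p * m₁.natAbs := by
            rw [Int.natAbs_mul, Int.natAbs_natCast]
          rw [h7] at hm
          have hp2' : 2 ≤ p := hp.out.two_le
          have hpos : 0 < m₁.natAbs := Int.natAbs_pos.mpr hm₁0
          nlinarith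
        · exact ⟨m, g, hd, hmf⟩
    obtain ⟨ma₀, ga₀, hma₀, ha₀⟩ := exists_smul_eq_phi t s h1 a
    obtain ⟨mb₀, gb₀, hmb₀, hb₀⟩ := exists_smul_eq_phi t s h1 b
    obtain ⟨ma, ga, hma, ha⟩ := step _ ma₀ a ga₀ le_rfl hma₀ ha₀
    obtain ⟨mb, gb, hmb, hb⟩ := step _ mb₀ b gb₀ le_rfl hmb₀ hb₀
    have heq : phi t (C (p : ℤ) * C mb * ga) = phi t (C (ma * mb) + X * (C ma * gb)) := by
      simp only [map_mul, map_add, phi_C, phi_X]
      rw [← ha, ← hb]
      push_cast
      have e1 : (p : A) * (mb : A) * ((ma : A) * a) = (ma : A) * (mb : A) * ((p : A) * a) := by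
        ring
      rw [e1, hab]; ring
    have h8 := phi_injective t s h1 heq
    have h9 := congrArg (fun q => q.coeff 0) h8
    simp only [Polynomial.coeff_add, Polynomial.coeff_C_zero, Polynomial.coeff_X_mul_zero,
      add_zero] at h9
    have h10 : (C (p : ℤ) * C mb * ga).coeff 0 = (p : ℤ) * (mb * ga.coeff 0) := by
      rw [mul_assoc, Polynomial.coeff_C_mul, Polynomial.coeff_C_mul]
    rw [h10] at h9
    have h11 : (p : ℤ) ∣ ma * mb := ⟨_, h9.symm⟩
    rcases hint.dvd_or_dvd h11 with h | h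
    · exact hma h
    · exact hmb h

end Key

section Final

variable (s : A →+* Localization.Away (2 : ℤ)) (hs : s t = 1)
  (h1 : Function.Bijective (Polynomial.aeval (R := ℚ) ((1 : ℚ) ⊗ₜ[ℤ] t : ℚ ⊗[ℤ] A)))
  (h0 : ∀ p : ℕ, p.Prime → IsUnit ((p : ℕ) : A ⧸ Ideal.span ({t} : Set A)))
include s hs h1 h0

theorem sub_one_ne_zero : t - 1 ≠ 0 := by
  intro h
  have h2 : phi t (X - 1) = 0 := by rw [map_sub, phi_X, map_one]; exact h
  have h3 := phi_injective t s h1 (h2.trans (map_zero _).symm)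
  exact Polynomial.X_sub_C_ne_zero (1 : ℤ) (by simpa using h3)

theorem exists_minimalPrime [IsNoetherianRing A] (p : ℕ) (hp : p.Prime) (hp2 : p ≠ 2) :
    ∃ 𝔮 : Ideal A, 𝔮 ∈ (Ideal.span {t - 1}).minimalPrimes ∧ (p : A) ∈ 𝔮 := by
  have : Fact p.Prime := ⟨hp⟩
  -- the elements a, b
  obtain ⟨a, b, hab⟩ : ∃ a b : A, (p : A) * a = 1 + t * b := by
    obtain ⟨u, hu⟩ := (h0 p hp).exists_right_inv
    obtain ⟨a, rfl⟩ := Ideal.Quotient.mk_surjective u
    have h3 : (Ideal.Quotient.mk (Ideal.span ({t} : Set A))) ((p : A) * a - 1) = 0 := by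
      rw [map_sub, map_mul, map_natCast, map_one, hu, sub_self]
    rw [Ideal.Quotient.eq_zero_iff_mem, Ideal.mem_span_singleton'] at h3
    obtain ⟨b, hb⟩ := h3
    exact ⟨a, b, by rw [mul_comm t b, hb]; ring⟩
  obtain ⟨𝔮, h𝔮min, h𝔮le⟩ := Ideal.exists_minimalPrimes_le
    (I := Ideal.span {(p : A)}) (J := nI p hp2 s)
    ((Ideal.span_singleton_le_iff_mem _).mpr (natCast_mem_nI p hp2 s))
  have : 𝔮.IsPrime := h𝔮min.isPrime
  have hp𝔮 : (p : A) ∈ 𝔮 := h𝔮min.1.2 (Ideal.mem_span_singleton_self _)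
  have ht𝔮 : t - 1 ∈ 𝔮 := sub_one_mem_of_minimal t p hp2 s hs h1 𝔮 hp𝔮 h𝔮le a b hab
  have hht : 𝔮.height ≤ 1 :=
    Ideal.height_le_one_of_isPrincipal_of_mem_minimalPrimes (Ideal.span {(p : A)}) 𝔮 h𝔮min
  have h1le : 1 ≤ (Ideal.span {t - 1}).height :=
    Ideal.one_le_height_span_singleton_of_mem_nonZeroDivisors
      (mem_nonZeroDivisors_of_ne_zero (sub_one_ne_zero t s hs h1 h0))
  refine ⟨𝔮, ?_, hp𝔮⟩
  exact Ideal.mem_minimalPrimes_of_height_le
    ((Ideal.span_singleton_le_iff_mem _).mpr ht𝔮) (hht.trans h1le)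

theorem not_isNoetherianRing : ¬ IsNoetherianRing A := by
  intro hN
  have hfin := Ideal.finite_minimalPrimes_of_isNoetherianRing A (Ideal.span {t - 1})
  have hex := fun (p : ℕ) (hp : p.Prime) (hp2 : p ≠ 2) => exists_minimalPrime t s hs h1 h0 p hp hp2
  classical
  let F : ℕ → Ideal A := fun p =>
    if h : p.Prime ∧ p ≠ 2 then Classical.choose (hex p h.1 h.2) else ⊥
  have hF : ∀ p (h : p.Prime ∧ p ≠ 2),
      F p ∈ (Ideal.span {t - 1}).minimalPrimes ∧ (p : A) ∈ F p := by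
    intro p h
    have : F p = Classical.choose (hex p h.1 h.2) := dif_pos h
    rw [this]
    exact Classical.choose_spec (hex p h.1 h.2)
  have hS : ({p : ℕ | p.Prime} \ {2}).Infinite :=
    Nat.infinite_setOfPred_prime.sdiff (Set.finite_singleton 2)
  have hmaps : Set.MapsTo F ({p : ℕ | p.Prime} \ {2}) (Ideal.span {t - 1}).minimalPrimes := by
    rintro p ⟨hp, hp2⟩
    exact (hF p ⟨hp, hp2⟩).1
  have hinj : Set.InjOn F ({p : ℕ | p.Prime} \ {2}) := by
    rintro p ⟨hp, hp2⟩ q ⟨hq, hq2⟩ hpq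
    by_contra hne
    have hcop : Nat.Coprime p q := (Nat.coprime_primes hp hq).mpr hne
    have h1p := (hF p ⟨hp, hp2⟩).2
    have h1q := (hF q ⟨hq, hq2⟩).2
    rw [hpq] at h1p
    have hprime : (F q).IsPrime := (hF q ⟨hq, hq2⟩).1.isPrime
    apply hprime.ne_top
    rw [Ideal.eq_top_iff_one]
    have hbez : (1 : ℤ) = p * Nat.gcdA p q + q * Nat.gcdB p q := by
      have := Nat.gcd_eq_gcd_ab p q
      rw [hcop.gcd_eq_one] at this
      exact_mod_cast this
    have : (1 : A) = (p : A) * ((Nat.gcdA p q : ℤ) : A) + (q : A) * ((Nat.gcdB p q : ℤ) : A) := by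
      have := congrArg (Int.cast : ℤ → A) hbez
      push_cast at this
      exact this
    rw [this]
    exact Ideal.add_mem _ (Ideal.mul_mem_right _ _ h1p) (Ideal.mul_mem_right _ _ h1q)
  exact (Set.infinite_of_injOn_mapsTo hinj hmaps hS) hfin

end Final

end Groth.Agent.Lib.Helper22.NonNoeth
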