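import Mathlib
import Groth.Prelude.Def_EGA4b
import Groth.Agent.Lib.helper10.NormalTotal2
import Groth.Agent.Lib.Helper22.NormTensor

/-!
# Integral elements of arbitrary localizations of normal rings, and a normality criterion
-/

set_option autoImplicit false
set_option linter.style.haveILetI false
set_option linter.unusedSectionVars false
universe u

namespace Groth.Agent.Lib.Helper22.NormSub

open Groth.Agent.Lib.helper10.NormalTotal

section forwardG

variable {R : Type u} [CommRing R]

/-- In a normal ring, an element of an arbitrary localization which is integral over the ring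
comes from the ring. -/
theorem forwardG (M : Submonoid R)
    (L : Type u) [CommRing L] [Algebra R L] [IsLocalization M L]
    (h : ∀ (p : Ideal R) [p.IsPrime], IsDomain (Localization.AtPrime p) ∧
      IsIntegrallyClosed (Localization.AtPrime p)) (x : L) (hx : IsIntegral R x) :
    ∃ y, algebraMap R L y = x := by
  by_contra hne
  have hI : (conductorL L x : Ideal R) ≠ ⊤ := by
    intro h
    have h1 : (1 : R) ∈ (conductorL L x : Ideal R) := h ▸ Submodule.mem_top
    obtain ⟨y, hy⟩ := h1
    exact hne ⟨y, by rw [hy, map_one, one_mul]⟩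
  obtain ⟨P, hP, hIP⟩ := Ideal.exists_le_maximal _ hI
  haveI := hP.isPrime
  obtain ⟨hdom, hic⟩ := h P
  by_cases hM0 : ∃ m ∈ M, img P m = 0
  · obtain ⟨m, hm, hm0⟩ := hM0
    obtain ⟨t, ht, htm⟩ := (img_eq_zero_iff P m).mp hm0
    have hu : IsUnit (algebraMap R L m) := IsLocalization.map_units L (⟨m, hm⟩ : M)
    have ht0 : algebraMap R L t = 0 := by
      apply hu.mul_left_eq_zero.mp
      rw [← map_mul, htm, map_zero]
    have : t ∈ (conductorL L x : Ideal R) := ⟨0, by rw [ht0, zero_mul, map_zero]⟩
    exact ht (hIP this)
  · push Not at hM0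
    let ψ : L →+* FractionRing (Localization.AtPrime P) :=
      IsLocalization.lift (M := M) (g := img P)
        (fun y => isUnit_iff_ne_zero.mpr (hM0 y.1 y.2))
    have hψ : ∀ r, ψ (algebraMap R L r) = img P r := fun r => IsLocalization.lift_eq _ r
    have hψc : ψ.comp (algebraMap R L) = img P := IsLocalization.lift_comp _
    have hker : ∀ v : L, ψ v = 0 → ∃ t : R, t ∉ P ∧ algebraMap R L t * v = 0 := by
      intro v hv
      obtain ⟨a, d, rfl⟩ := IsLocalization.exists_mk'_eq M v
      have h1 : ψ (IsLocalization.mk' L a d) * img P d = img P a := by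
        rw [← hψ, ← map_mul, IsLocalization.mk'_spec, hψ]
      rw [hv, zero_mul] at h1
      obtain ⟨t, ht, h0⟩ := (img_eq_zero_iff P a).mp h1.symm
      refine ⟨t, ht, ?_⟩
      rw [← IsLocalization.mk'_one (M := M) L t, ← IsLocalization.mk'_mul, h0,
        IsLocalization.mk'_zero]
    have hint : IsIntegral (Localization.AtPrime P) (ψ x) :=
      IsIntegral.map_of_comp_eq (algebraMap R (Localization.AtPrime P)) ψ
        (by rw [hψc]; rfl) hx
    obtain ⟨z, hz⟩ := (isIntegrallyClosed_iff (FractionRing (Localization.AtPrime P))).mp hic hint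
    obtain ⟨c, s, rfl⟩ := IsLocalization.exists_mk'_eq P.primeCompl z
    have h0 : ψ (algebraMap R L s * x - algebraMap R L c) = 0 := by
      rw [map_sub, map_mul, hψ, hψ, ← hz, img, RingHom.comp_apply,
        RingHom.comp_apply, ← map_mul, mul_comm, IsLocalization.mk'_spec, sub_self]
    obtain ⟨t, ht, h1⟩ := hker _ h0
    have hts : t * s ∈ (conductorL L x : Ideal R) := by
      refine ⟨t * c, ?_⟩
      rw [mul_sub, sub_eq_zero] at h1
      rw [map_mul, map_mul, mul_assoc, h1]
    rcases hP.isPrime.mem_or_mem (hIP hts) with h2 | h2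
    · exact ht h2
    · exact s.2 h2

end forwardG

section criterion

open Groth.Agent.Lib.Helper22.NormTensor

/-- A normality criterion: `R ⊆ R'` with `R'` normal, `M` a submonoid of nonzerodivisors of `R`
such that `M⁻¹R` is normal, and divisibility by elements of `M` descends from `R'` to `R`. -/
theorem isNormalRing_of_sub {R R' : Type u} [CommRing R] [CommRing R'] [Algebra R R']
    [IsNoetherianRing R] (hinj : Function.Injective (algebraMap R R'))
    (hR' : EGA4.IsNormalRing R') (M : Submonoid R) (hM : M ≤ nonZeroDivisors R)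
    (RM : Type u) [CommRing RM] [Algebra R RM] [IsLocalization M RM]
    (hRM : EGA4.IsNormalRing RM)
    (hdiv : ∀ (r m : R), m ∈ M → (∃ r' : R', algebraMap R R' r = algebraMap R R' m * r') →
      ∃ r₀ : R, r = m * r₀) :
    EGA4.IsNormalRing R := by
  haveI hred' : IsReduced R' := Groth.Agent.Lib.Helper9.NormalLoc.isReduced_of_isNormalRing hR'
  haveI hred : IsReduced R := isReduced_of_injective (algebraMap R R') hinj
  have hfin : (minimalPrimes R).Finite := minimalPrimes.finite_of_isNoetherianRing R
  have hic : IsIntegrallyClosedIn R (FractionRing R) := by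
    rw [isIntegrallyClosedIn_iff]
    refine ⟨IsLocalization.injective _ le_rfl, ?_⟩
    intro x hx
    obtain ⟨r, m, hm, e⟩ := exists_mul_eq_of_isIntegral M hM RM hRM x hx
    -- the algebra `RM → Q`
    have hunits : ∀ y : M, IsUnit (algebraMap R (FractionRing R) y) := fun y =>
      IsLocalization.map_units (FractionRing R) (⟨y.1, hM y.2⟩ : nonZeroDivisors R)
    letI : Algebra RM (FractionRing R) := (IsLocalization.lift (M := M) hunits).toAlgebra
    haveI : IsScalarTower R RM (FractionRing R) :=
      IsScalarTower.of_algebraMap_eq' (IsLocalization.lift_comp hunits).symm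
    haveI : IsFractionRing RM (FractionRing R) :=
      IsFractionRing.isFractionRing_of_isLocalization M RM (FractionRing R) hM
    have hinjQ : Function.Injective (algebraMap RM (FractionRing R)) :=
      IsFractionRing.injective RM (FractionRing R)
    set y : RM := IsLocalization.mk' RM r (⟨m, hm⟩ : M) with hy
    have hyx : algebraMap RM (FractionRing R) y = x := by
      have hu := hunits ⟨m, hm⟩
      apply hu.mul_left_cancel
      rw [e, IsScalarTower.algebraMap_apply R RM (FractionRing R) m, ← map_mul, mul_comm,
        show y * algebraMap R RM m = algebraMap R RM r from IsLocalization.mk'_spec RM r ⟨m, hm⟩,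
        ← IsScalarTower.algebraMap_apply]
    have hyint : IsIntegral R y := by
      rw [← isIntegral_algebraMap_iff hinjQ, hyx]
      exact hx
    -- pass to the localization of `R'`
    let f := algebraMap R R'
    let M' : Submonoid R' := M.map f
    let L' := Localization M'
    have hMM' : M ≤ M'.comap f := Submonoid.le_comap_map M
    let ψ : RM →+* L' := IsLocalization.map L' f hMM'
    have hψint : IsIntegral R' (ψ y) :=
      IsIntegral.map_of_comp_eq f ψ (IsLocalization.map_comp hMM').symm hyint
    obtain ⟨r', hr'⟩ := forwardG M' L' hR' (ψ y) hψint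
    have hψy : ψ y = IsLocalization.mk' L' (f r) (⟨f m, Submonoid.mem_map_of_mem f hm⟩ : M') :=
      IsLocalization.map_mk' hMM' r ⟨m, hm⟩
    rw [hψy, IsLocalization.eq_mk'_iff_mul_eq, ← map_mul, IsLocalization.eq_iff_exists M'] at hr'
    obtain ⟨⟨c, m', hm', rfl⟩, hc⟩ := hr'
    obtain ⟨r₀, hr₀⟩ := hdiv (m' * r) (m' * m) (M.mul_mem hm' hm) ⟨r', by
      change f (m' * r) = f (m' * m) * r'
      rw [map_mul, map_mul]
      have := hc
      simp only at this
      rw [← this]
      ring⟩
    have hm'nzd := hM hm'
    have hr : r = m * r₀ := by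
      have : m' * r = m' * (m * r₀) := by rw [hr₀]; ring
      exact (mul_cancel_left_mem_nonZeroDivisors hm'nzd).mp this
    refine ⟨r₀, ?_⟩
    have hu := hunits ⟨m, hm⟩
    apply hu.mul_left_cancel
    rw [e, hr, map_mul]
  intro P hP
  exact backward hfin hic P

end criterion

end Groth.Agent.Lib.Helper22.NormSub
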