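import Mathlib
import Groth.Prelude.Def_EGA4b
import Groth.Agent.Lib.Helper22.NormSubA
import Groth.Agent.Lib.Helper22.NormalGood
import Groth.Agent.Lib.Helper12.TotalFrac

/-!
# Normality of a flat algebra over a normal ring from normality after a finite injective extension
-/

set_option autoImplicit false
set_option linter.style.haveILetI false
set_option linter.unusedSectionVars false
universe u

namespace Groth.Agent.Lib.Helper22.NormSub

open TensorProduct Pointwise Groth.Agent.Lib.helper10.NormalTotal

section div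

variable (B C : Type u) [CommRing B] [CommRing C] [Algebra B C]

/-- If `B` is a normal ring with finitely many minimal primes and `B ⊆ C` is integral, then
`bC ∩ B = bB` for nonzerodivisors `b` of `B`. -/
theorem mem_span_of_mul_mem_range [Algebra.IsIntegral B C]
    (hinj : Function.Injective (algebraMap B C)) (hB : EGA4.IsNormalRing B)
    (b : B) (hb : b ∈ nonZeroDivisors B) (c : C) (x : B) (hx : algebraMap B C x = algebraMap B C b * c) :
    ∃ b₀ : B, x = b * b₀ := by
  let K := FractionRing B
  let L := K ⊗[B] C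
  have hKL : Function.Injective (algebraMap K L) :=
    Algebra.TensorProduct.includeLeft_injective (S := K) hinj
  let κ : K := IsLocalization.mk' K x (⟨b, hb⟩ : nonZeroDivisors B)
  have hub : IsUnit (algebraMap B K b) :=
    IsLocalization.map_units K (⟨b, hb⟩ : nonZeroDivisors B)
  have hκ : algebraMap K L κ = (1 : K) ⊗ₜ[B] c := by
    have hu : IsUnit (algebraMap K L (algebraMap B K b)) := hub.map _
    apply hu.mul_left_cancel
    rw [← map_mul, mul_comm, IsLocalization.mk'_spec]
    change (algebraMap B K x) ⊗ₜ[B] (1 : C) = ((algebraMap B K b) ⊗ₜ[B] (1 : C)) * ((1 : K) ⊗ₜ[B] c)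
    rw [Algebra.TensorProduct.tmul_mul_tmul, mul_one, one_mul, Algebra.algebraMap_eq_smul_one,
      Algebra.algebraMap_eq_smul_one (A := K) b, TensorProduct.smul_tmul, TensorProduct.smul_tmul,
      ← Algebra.algebraMap_eq_smul_one, hx, Algebra.smul_def]
  have hcint : IsIntegral B ((1 : K) ⊗ₜ[B] c) :=
    (Algebra.IsIntegral.isIntegral c).map (Algebra.TensorProduct.includeRight : C →ₐ[B] K ⊗[B] C)
  have hκint : IsIntegral B κ := by
    rw [← isIntegral_algebraMap_iff hKL, hκ]
    exact hcint
  obtain ⟨b₀, hb₀⟩ := forwardL (nonZeroDivisors B) le_rfl K hB κ hκint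
  refine ⟨b₀, ?_⟩
  apply IsFractionRing.injective B K
  rw [map_mul, hb₀, mul_comm]
  exact (IsLocalization.mk'_spec K x ⟨b, hb⟩).symm

/-- Divisibility by a nonzerodivisor of `B` descends from `R ⊗[B] C` to a flat `B`-algebra `R`. -/
theorem exists_eq_mul_of_tensor [Algebra.IsIntegral B C]
    (hinj : Function.Injective (algebraMap B C)) (hB : EGA4.IsNormalRing B)
    (R : Type u) [CommRing R] [Algebra B R] [Module.Flat B R]
    (b : B) (hb : b ∈ nonZeroDivisors B) (r : R) (r' : R ⊗[B] C)
    (h : r ⊗ₜ[B] (1 : C) = ((algebraMap B R b) ⊗ₜ[B] (1 : C)) * r') :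
    ∃ r₀ : R, r = algebraMap B R b * r₀ := by
  let I : Ideal B := Ideal.span {b}
  let q : Submodule B C := I • (⊤ : Submodule B C)
  have hq : q = b • (⊤ : Submodule B C) := Submodule.ideal_span_singleton_smul b ⊤
  let ι : B →ₗ[B] C := Algebra.linearMap B C
  have hIq : (I : Submodule B B) ≤ q.comap ι := by
    intro x hx
    obtain ⟨y, rfl⟩ := Ideal.mem_span_singleton'.mp hx
    change ι (y * b) ∈ q
    rw [hq, Submodule.mem_smul_pointwise_iff_exists]
    refine ⟨ι y, trivial, ?_⟩
    change b • algebraMap B C y = algebraMap B C (y * b)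
    rw [Algebra.smul_def, ← map_mul, mul_comm]
  let g : (B ⧸ I) →ₗ[B] (C ⧸ q) := Submodule.mapQ (I : Submodule B B) q ι hIq
  have hg : Function.Injective g := by
    rw [injective_iff_map_eq_zero]
    intro xb hxb
    obtain ⟨x, rfl⟩ := Submodule.Quotient.mk_surjective _ xb
    rw [Submodule.mapQ_apply, Submodule.Quotient.mk_eq_zero, hq,
      Submodule.mem_smul_pointwise_iff_exists] at hxb
    obtain ⟨c, -, hc⟩ := hxb
    obtain ⟨b₀, hb₀⟩ := mem_span_of_mul_mem_range B C hinj hB b hb c x (by
      rw [← Algebra.smul_def, hc]; rfl)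
    rw [Submodule.Quotient.mk_eq_zero]
    exact Ideal.mem_span_singleton'.mpr ⟨b₀, by rw [hb₀, mul_comm]⟩
  have hgR : Function.Injective (g.lTensor R) :=
    Module.Flat.lTensor_preserves_injective_linearMap (M := R) g hg
  -- `b` kills `R ⊗ (C ⧸ q)`
  have hkill : ∀ w : R ⊗[B] (C ⧸ q), b • w = 0 := by
    intro w
    induction w using TensorProduct.induction_on with
    | zero => simp
    | tmul r₁ cb =>
      obtain ⟨c, rfl⟩ := Submodule.Quotient.mk_surjective _ cb
      rw [TensorProduct.smul_tmul', TensorProduct.smul_tmul, ← Submodule.Quotient.mk_smul,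
        (Submodule.Quotient.mk_eq_zero q).mpr, tmul_zero]
      rw [hq]
      exact Submodule.smul_mem_pointwise_smul c b ⊤ trivial
    | add x y hx hy => rw [smul_add, hx, hy, add_zero]
  have h1 : (q.mkQ.lTensor R) (r ⊗ₜ[B] (1 : C)) = 0 := by
    rw [h]
    have : ((algebraMap B R b) ⊗ₜ[B] (1 : C)) * r' = b • r' := by
      rw [Algebra.smul_def]
      rfl
    rw [this, map_smul, hkill]
  have h2 : (g.lTensor R) (r ⊗ₜ[B] (Submodule.Quotient.mk (1 : B) : B ⧸ I)) = 0 := by
    rw [LinearMap.lTensor_tmul, Submodule.mapQ_apply]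
    rw [LinearMap.lTensor_tmul] at h1
    convert h1 using 2
    change Submodule.Quotient.mk (algebraMap B C 1) = Submodule.Quotient.mk 1
    rw [map_one]
  have h3 : r ⊗ₜ[B] (Submodule.Quotient.mk (1 : B) : B ⧸ I) = 0 := hgR (by rw [h2, map_zero])
  have h4 := congrArg (TensorProduct.tensorQuotEquivQuotSMul R I) h3
  rw [map_zero] at h4
  have h5 : TensorProduct.tensorQuotEquivQuotSMul R I
      (r ⊗ₜ[B] (Ideal.Quotient.mk I (1 : B))) = Submodule.Quotient.mk ((1 : B) • r) :=
    TensorProduct.tensorQuotEquivQuotSMul_tmul_mk I r 1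
  rw [one_smul] at h5
  have h6 : (Submodule.Quotient.mk r : R ⧸ (I • ⊤ : Submodule B R)) = 0 := by
    rw [← h5]; exact h4
  rw [Submodule.Quotient.mk_eq_zero, Submodule.ideal_span_singleton_smul,
    Submodule.mem_smul_pointwise_iff_exists] at h6
  obtain ⟨r₀, -, hr₀⟩ := h6
  exact ⟨r₀, by rw [← hr₀, Algebra.smul_def]⟩

end div

section main

variable (B C : Type u) [CommRing B] [CommRing C] [Algebra B C]

/-- For a reduced Noetherian ring `B` with total ring of fractions `K` and a finite injective
`B`-algebra `C`, the `K`-algebra `K ⊗[B] C` is faithfully flat. -/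
theorem faithfullyFlat_fractionRing_tensor [IsNoetherianRing B] [IsReduced B] [Module.Finite B C]
    (hinj : Function.Injective (algebraMap B C)) :
    Module.FaithfullyFlat (FractionRing B) (FractionRing B ⊗[B] C) := by
  let K := FractionRing B
  let L := K ⊗[B] C
  have hmin : (minimalPrimes B).Finite := minimalPrimes.finite_of_isNoetherianRing B
  haveI : IsArtinianRing K := Groth.Agent.Lib.Helper12.TotalFrac.isArtinianRing_fractionRing hmin
  haveI : IsReduced K := isReduced_localizationPreserves (nonZeroDivisors B) K inferInstance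
  haveI : IsSemisimpleRing K := IsArtinianRing.isSemisimpleRing_of_isReduced K
  haveI : Module.Projective K L := Module.projective_of_isSemisimpleRing K L
  haveI : Module.Flat K L := inferInstance
  have hKL : Function.Injective (algebraMap K L) :=
    Algebra.TensorProduct.includeLeft_injective (S := K) hinj
  haveI : FaithfulSMul K L := (faithfulSMul_iff_algebraMap_injective K L).mpr hKL
  haveI : Module.Finite K L := inferInstance
  haveI : Algebra.IsIntegral K L := inferInstance
  exact Module.FaithfullyFlat.of_comap_surjective (Algebra.IsIntegral.comap_surjective K L)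

open Groth.Agent.Lib.Helper22.NormalGood in
/-- **Main lemma.** Let `B` be a Noetherian normal ring, `C` a finite `B`-algebra with `B → C`
injective and `R` a flat Noetherian `B`-algebra. If `R ⊗[B] C` is normal, then `R` is normal. -/
theorem isNormalRing_of_finite_sub [IsNoetherianRing B] [Module.Finite B C]
    (hinj : Function.Injective (algebraMap B C)) (hB : EGA4.IsNormalRing B)
    (R : Type u) [CommRing R] [Algebra B R] [Module.Flat B R] [IsNoetherianRing R]
    (hRC : EGA4.IsNormalRing (R ⊗[B] C)) : EGA4.IsNormalRing R := by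
  haveI : IsReduced B := Groth.Agent.Lib.Helper9.NormalLoc.isReduced_of_isNormalRing hB
  haveI : Algebra.IsIntegral B C := inferInstance
  let K := FractionRing B
  let M : Submonoid R := Algebra.algebraMapSubmonoid R (nonZeroDivisors B)
  haveI hloc : IsLocalization M (R ⊗[B] K) := IsLocalization.tensor K (nonZeroDivisors B)
  have hM : M ≤ nonZeroDivisors R := by
    rintro _ ⟨b, hb, rfl⟩
    have hreg : IsSMulRegular R b := Module.Flat.isSMulRegular_of_nonZeroDivisors hb
    rw [mem_nonZeroDivisors_iff_right]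
    intro x hx
    apply hreg
    change b • x = b • 0
    rw [smul_zero, Algebra.smul_def, mul_comm]
    exact hx
  have hinjR : Function.Injective (algebraMap R (R ⊗[B] C)) := fun x y hxy =>
    Algebra.TensorProduct.includeLeft_injective (S := R) hinj hxy
  -- normality of `R ⊗[B] K`
  have hRK : EGA4.IsNormalRing (R ⊗[B] K) := by
    haveI := faithfullyFlat_fractionRing_tensor B C hinj
    let RK := K ⊗[B] R
    haveI : Module.FaithfullyFlat RK (RK ⊗[K] (K ⊗[B] C)) := inferInstance
    let e1 : RK ⊗[K] (K ⊗[B] C) ≃ₐ[K] RK ⊗[B] C :=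
      Algebra.TensorProduct.cancelBaseChange B K K RK C
    let e2 : (K ⊗[B] R) ⊗[B] C ≃ₐ[B] K ⊗[B] (R ⊗[B] C) :=
      Algebra.TensorProduct.assoc B B B K R C
    let e3 : K ⊗[B] (R ⊗[B] C) ≃ₐ[B] (R ⊗[B] C) ⊗[B] K :=
      Algebra.TensorProduct.comm B K (R ⊗[B] C)
    haveI : IsLocalization (Algebra.algebraMapSubmonoid (R ⊗[B] C) (nonZeroDivisors B))
        ((R ⊗[B] C) ⊗[B] K) := IsLocalization.tensor K (nonZeroDivisors B)
    have h1 : EGA4.IsNormalRing ((R ⊗[B] C) ⊗[B] K) :=
      good_normal.loc (R ⊗[B] C) (Algebra.algebraMapSubmonoid (R ⊗[B] C) (nonZeroDivisors B))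
        ((R ⊗[B] C) ⊗[B] K) hRC
    have h2 : EGA4.IsNormalRing (RK ⊗[K] (K ⊗[B] C)) :=
      good_normal.iso _ _
        ((e1.toRingEquiv.trans e2.toRingEquiv).trans e3.toRingEquiv).symm h1
    have h3 : EGA4.IsNormalRing RK := good_normal.desc RK (RK ⊗[K] (K ⊗[B] C)) inferInstance h2
    exact good_normal.iso _ _ (Algebra.TensorProduct.comm B K R).toRingEquiv h3
  refine isNormalRing_of_sub hinjR hRC M hM (R ⊗[B] K) hRK ?_
  rintro r _ ⟨b, hb, rfl⟩ ⟨r', hr'⟩
  refine exists_eq_mul_of_tensor B C hinj hB R b hb r r' ?_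
  rw [Algebra.TensorProduct.algebraMap_apply, Algebra.TensorProduct.algebraMap_apply] at hr'
  exact hr'

end main

end Groth.Agent.Lib.Helper22.NormSub
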