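import Mathlib
import Groth.Prelude.Def_EGA4b
import Groth.Prelude.Def_Pi1
import Groth.Agent.Lib.Helper22.NormalSections

/-!
# Relative normalization in a normal scheme with locally finitely many components (helper22)

`f : X ⟶ Y` quasi-compact quasi-separated, `X` normal with locally finite irreducible components.
* `isNormalScheme_normalization`: `f.normalization` is normal;
* `locallyFinite_components_normalization`: its irreducible components are locally finite;
* `closure_toNormalization_mem`: generic points of components go to generic points of components;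
* `existsUnique_genericPoint_preimage`: exactly one generic point above each generic point.
-/

set_option autoImplicit false
set_option linter.style.haveILetI false
set_option linter.unusedSectionVars false
universe u

namespace Groth.Agent.Lib.Helper22.NormalizationNormal

open AlgebraicGeometry CategoryTheory TopologicalSpace Opposite Polynomial
open Groth.Agent.Lib.Helper22.NormalColim Groth.Agent.Lib.Helper22.NormalSections

theorem scaleRoots_map_eval {S T : Type*} [CommRing S] [CommRing T] (g : S →+* T) (q : S[X])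
    (hq : q.Monic) (a b : S) (h : (q.scaleRoots b).eval a = 0) :
    ((q.map g).scaleRoots (g b)).eval (g a) = 0 := by
  rcases subsingleton_or_nontrivial T with hT | hT
  · exact Subsingleton.elim _ _
  · have hlc : g q.leadingCoeff ≠ 0 := by
      rw [hq.leadingCoeff, map_one]; exact one_ne_zero
    rw [← Polynomial.map_scaleRoots q b g hlc, Polynomial.eval_map, Polynomial.eval₂_hom, h,
      map_zero]

/-- the integral closure of `A` in a product of integrally closed domains (and zero rings) is a
normal ring -/
theorem isNormalRing_integralClosure_of_equiv_pi {A B : Type u} [CommRing A] [CommRing B]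
    [Algebra A B] {ι : Type u} (R : ι → Type u) [∀ i, CommRing (R i)] (e : B ≃+* ∀ i, R i)
    (hR : ∀ i, Subsingleton (R i) ∨ (IsDomain (R i) ∧ IsIntegrallyClosed (R i))) :
    EGA4.IsNormalRing (integralClosure A B) := by
  classical
  have hzero : ∀ i (x y : R i), x * y = 0 → x = 0 ∨ y = 0 := by
    intro i x y hxy
    rcases hR i with h | ⟨h, -⟩
    · exact Or.inl (Subsingleton.elim _ _)
    · exact mul_eq_zero.mp hxy
  have hidem : ∀ u : B, u * u = u → u ∈ integralClosure A B := by
    intro u hu
    refine ⟨X ^ 2 - X, monic_X_pow_sub (lt_of_le_of_lt degree_X_le (by norm_num)), ?_⟩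
    simp [pow_two, hu]
  rw [isNormalRing_iff]
  constructor
  · intro a b hab
    have hab' : e a.1 * e b.1 = 0 := by
      rw [← map_mul]
      have : a.1 * b.1 = 0 := congrArg Subtype.val hab
      rw [this, map_zero]
    let υ : ∀ i, R i := fun i => if e a.1 i = 0 then 1 else 0
    have hυ : υ * υ = υ := by
      funext i
      simp only [Pi.mul_apply, υ]
      split_ifs <;> simp
    have hu : e.symm υ * e.symm υ = e.symm υ := by rw [← map_mul, hυ]
    have hu1 : (1 - e.symm υ) * (1 - e.symm υ) = 1 - e.symm υ := by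
      have : (1 - e.symm υ) * (1 - e.symm υ) = 1 - e.symm υ - e.symm υ + e.symm υ * e.symm υ := by
        ring
      rw [this, hu]; ring
    refine ⟨⟨e.symm υ, hidem _ hu⟩, ⟨1 - e.symm υ, hidem _ hu1⟩, ?_, ?_, ?_⟩
    · apply Subtype.ext
      apply e.injective
      show e (e.symm υ * a.1) = e 0
      rw [map_mul, e.apply_symm_apply, map_zero]
      funext i
      simp only [Pi.mul_apply, υ, Pi.zero_apply]
      split_ifs with h
      · rw [h, mul_zero]
      · rw [zero_mul]
    · apply Subtype.ext
      apply e.injective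
      show e ((1 - e.symm υ) * b.1) = e 0
      rw [map_mul, map_sub, map_one, e.apply_symm_apply, map_zero]
      funext i
      simp only [Pi.mul_apply, Pi.sub_apply, Pi.one_apply, υ, Pi.zero_apply]
      split_ifs with h
      · rw [sub_self, zero_mul]
      · rcases hzero i _ _ (congrFun hab' i) with h1 | h1
        · exact absurd h1 h
        · rw [h1, mul_zero]
    · apply Subtype.ext
      show e.symm υ + (1 - e.symm υ) = 1
      ring
  · intro a b q hq hrel
    let g : ∀ i, integralClosure A B →+* R i := fun i =>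
      (Pi.evalRingHom R i).comp (e.toRingHom.comp (integralClosure A B).val.toRingHom)
    have hcoord : ∀ i, ∃ r : R i, g i a = g i b * r ∧ (g i b ≠ 0 → (q.map (g i)).eval r = 0) := by
      intro i
      rcases hR i with h | ⟨h1, h2⟩
      · exact ⟨0, Subsingleton.elim _ _, fun _ => Subsingleton.elim _ _⟩
      · have hN2 := N2_of_isNormalRing (isNormalRing_of_isIntegrallyClosed (R i))
        have h3 := scaleRoots_map_eval (g i) q hq a b hrel
        obtain ⟨r, hr⟩ := hN2 (g i a) (g i b) (q.map (g i)) (hq.map _) h3
        refine ⟨r, hr, fun hne => ?_⟩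
        rw [hr, Polynomial.scaleRoots_eval_mul] at h3
        rcases mul_eq_zero.mp h3 with h4 | h4
        · exact absurd h4 (pow_ne_zero _ hne)
        · exact h4
    choose r₀ hr₀ hr₀' using hcoord
    let ρ : ∀ i, R i := fun i => if g i b = 0 then 0 else r₀ i
    have hρ1 : ∀ i, g i a = g i b * ρ i := by
      intro i
      simp only [ρ]
      split_ifs with h
      · rw [hr₀ i, h, zero_mul, zero_mul]
      · exact hr₀ i
    have hρ2 : ∀ i, ρ i * (q.map (g i)).eval (ρ i) = 0 := by
      intro i
      simp only [ρ]
      split_ifs with h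
      · rw [zero_mul]
      · rw [hr₀' i h, mul_zero]
    have hint : IsIntegral (integralClosure A B) (e.symm ρ) := by
      refine ⟨X * q, monic_X.mul hq, ?_⟩
      rw [Polynomial.eval₂_mul, Polynomial.eval₂_X]
      apply e.injective
      rw [map_zero]
      funext i
      have h1 : e (Polynomial.eval₂ (algebraMap (integralClosure A B) B) (e.symm ρ) q) i =
          (q.map (g i)).eval (ρ i) := by
        have := Polynomial.hom_eval₂ q (algebraMap (integralClosure A B) B)
          ((Pi.evalRingHom R i).comp e.toRingHom) (e.symm ρ)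
        rw [Polynomial.eval_map]
        simp only [RingHom.coe_comp, Function.comp_apply, Pi.evalRingHom_apply,
          RingEquiv.toRingHom_eq_coe, RingHom.coe_coe, e.apply_symm_apply] at this
        rw [this]
        rfl
      rw [map_mul, e.apply_symm_apply, Pi.mul_apply, h1, hρ2 i]
      rfl
    have hmem : e.symm ρ ∈ integralClosure A B := isIntegral_trans _ hint
    refine ⟨⟨e.symm ρ, hmem⟩, ?_⟩
    apply Subtype.ext
    apply e.injective
    show e a.1 = e (b.1 * e.symm ρ)
    rw [map_mul, e.apply_symm_apply]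
    funext i
    exact hρ1 i

/-- the clopen irreducible component, as an open subset -/
def compOpen {X : Scheme.{u}} (hX : Pi1.IsNormalScheme X)
    (hfin : LocallyFinite (fun Z : ↥(irreducibleComponents ↥X) => (Z : Set ↥X)))
    (Z : ↥(irreducibleComponents ↥X)) : X.Opens :=
  ⟨Z, isOpen_component (fun x => (hX x).1) hfin Z Z.2⟩

/-- On a normal scheme with locally finitely many irreducible components, the ring of sections
over any open subset is a product of integrally closed domains and zero rings. -/
theorem exists_equiv_pi {X : Scheme.{u}} (hX : Pi1.IsNormalScheme X)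
    (hfin : LocallyFinite (fun Z : ↥(irreducibleComponents ↥X) => (Z : Set ↥X)))
    (W : X.Opens) :
    ∃ (_e : Γ(X, W) ≃+* ∀ Z : ↥(irreducibleComponents ↥X), Γ(X, W ⊓ compOpen hX hfin Z)),
      ∀ Z, Subsingleton Γ(X, W ⊓ compOpen hX hfin Z) ∨
        (IsDomain Γ(X, W ⊓ compOpen hX hfin Z) ∧
          IsIntegrallyClosed Γ(X, W ⊓ compOpen hX hfin Z)) := by
  have hdom : ∀ x : X, IsDomain (X.presheaf.stalk x) := fun x => (hX x).1
  let V : ↥(irreducibleComponents ↥X) → X.Opens := fun Z => W ⊓ compOpen hX hfin Z
  have hle : ∀ Z, V Z ≤ W := fun Z => inf_le_left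
  have hcov : W ≤ iSup V := by
    intro x hx
    exact Opens.mem_iSup.mpr ⟨⟨_, irreducibleComponent_mem_irreducibleComponents x⟩, hx,
      mem_irreducibleComponent⟩
  have hdisj : ∀ Z Z', Z ≠ Z' → V Z ⊓ V Z' = ⊥ := by
    intro Z Z' hne
    ext x
    simp only [Opens.coe_bot, Set.mem_empty_iff_false, iff_false]
    rintro ⟨⟨-, hx⟩, ⟨-, hx'⟩⟩
    haveI := hdom x
    exact hne (Subtype.ext (component_unique x Z.2 Z'.2 hx hx'))
  refine ⟨RingEquiv.ofBijective _ (bijective_of_disjoint_cover V W hle hcov hdisj), ?_⟩
  intro Z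
  by_cases hne : (V Z : Set X).Nonempty
  · have hirr : IsIrreducible (V Z : Set X) :=
      ⟨hne, Z.2.1.2.open_subset (V Z).isOpen (fun x hx => hx.2)⟩
    exact Or.inr (isIntegrallyClosed_sections_of_isIrreducible hX (V Z) hirr)
  · have hbot : V Z = ⊥ := by
      ext x
      simp only [Opens.coe_bot, Set.mem_empty_iff_false, iff_false]
      exact fun hx => hne ⟨x, hx⟩
    left
    show Subsingleton Γ(X, V Z)
    rw [hbot]; infer_instance

/-- a clopen subset is cut out of any open by an idempotent section -/
theorem exists_idempotent_basicOpen {X : Scheme.{u}} (W A : X.Opens)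
    (hA : IsClosed (A : Set X)) : ∃ e : Γ(X, W), e * e = e ∧ X.basicOpen e = W ⊓ A := by
  let Ac : X.Opens := ⟨(A : Set X)ᶜ, hA.isOpen_compl⟩
  let V : Bool → X.Opens := fun b => cond b (W ⊓ A) (W ⊓ Ac)
  have hle : ∀ b, V b ≤ W := by
    intro b; cases b <;> exact inf_le_left
  have hcov : W ≤ iSup V := by
    intro x hx
    by_cases hxA : x ∈ A
    · exact Opens.mem_iSup.mpr ⟨true, hx, hxA⟩
    · exact Opens.mem_iSup.mpr ⟨false, hx, hxA⟩
  have hdisj : ∀ i j, i ≠ j → V i ⊓ V j = ⊥ := by
    intro i j hij
    ext x
    simp only [Opens.coe_bot, Set.mem_empty_iff_false, iff_false]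
    cases i <;> cases j
    · exact absurd rfl hij
    · rintro ⟨⟨-, h1⟩, ⟨-, h2⟩⟩; exact h1 h2
    · rintro ⟨⟨-, h1⟩, ⟨-, h2⟩⟩; exact h2 h1
    · exact absurd rfl hij
  have hbij := bijective_of_disjoint_cover V W hle hcov hdisj
  let s : ∀ b, Γ(X, V b) := fun b => match b with
    | true => 1
    | false => 0
  obtain ⟨e, he⟩ := hbij.2 s
  have het : X.presheaf.map (homOfLE (hle true)).op e = 1 := congrFun he true
  have hef : X.presheaf.map (homOfLE (hle false)).op e = 0 := congrFun he false
  refine ⟨e, ?_, ?_⟩
  · apply hbij.1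
    rw [map_mul, he]
    funext b
    cases b
    · show (0 : Γ(X, V false)) * 0 = 0
      rw [mul_zero]
    · show (1 : Γ(X, V true)) * 1 = 1
      rw [mul_one]
  · have h1 : V true ⊓ X.basicOpen e = V true := by
      rw [← X.basicOpen_res e (homOfLE (hle true)).op, het]
      exact X.basicOpen_of_isUnit isUnit_one
    have h2 : V false ⊓ X.basicOpen e = ⊥ := by
      rw [← X.basicOpen_res e (homOfLE (hle false)).op, hef]
      exact X.basicOpen_zero _
    ext x
    constructor
    · intro hx
      have hxW : x ∈ W := X.basicOpen_le e hx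
      refine ⟨hxW, ?_⟩
      by_contra hxA
      have : x ∈ V false ⊓ X.basicOpen e := ⟨⟨hxW, hxA⟩, hx⟩
      rw [h2] at this
      exact this
    · intro hx
      have : x ∈ V true ⊓ X.basicOpen e := by rw [h1]; exact hx
      exact this.2

section Normalization

variable {X Y : Scheme.{u}} (f : X ⟶ Y) [QuasiCompact f] [QuasiSeparated f]

/-- sections of the relative normalization over preimages of affine opens are normal rings -/
theorem isNormalRing_normalization_sections (hX : Pi1.IsNormalScheme X)
    (hfin : LocallyFinite (fun Z : ↥(irreducibleComponents ↥X) => (Z : Set ↥X)))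
    {U : Y.Opens} (hU : IsAffineOpen U) :
    EGA4.IsNormalRing Γ(f.normalization, f.fromNormalization ⁻¹ᵁ U) := by
  letI := (f.app U).hom.toAlgebra
  obtain ⟨e, he⟩ := exists_equiv_pi hX hfin (f ⁻¹ᵁ U)
  have h1 : EGA4.IsNormalRing (integralClosure Γ(Y, U) Γ(X, f ⁻¹ᵁ U)) :=
    isNormalRing_integralClosure_of_equiv_pi _ e he
  exact isNormalRing_of_ringEquiv (f.normalizationObjIso hU).commRingCatIsoToRingEquiv.symm h1

/-- (a) the relative normalization in a normal scheme with locally finitely many components is
normal -/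
theorem isNormalScheme_normalization (hX : Pi1.IsNormalScheme X)
    (hfin : LocallyFinite (fun Z : ↥(irreducibleComponents ↥X) => (Z : Set ↥X))) :
    Pi1.IsNormalScheme f.normalization := by
  intro x'
  obtain ⟨_, ⟨U, hU, rfl⟩, hxU, -⟩ := Y.isBasis_affineOpens.exists_subset_of_mem_open
    (Set.mem_univ (f.fromNormalization x')) isOpen_univ
  exact qn_stalk_of_isNormalRing_sections (hU.preimage f.fromNormalization)
    (isNormalRing_normalization_sections f hX hfin hU) x' hxU

/-- idempotent sections lift to the relative normalization -/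
theorem exists_section_preimage_basicOpen {U : Y.Opens} (hU : IsAffineOpen U)
    (e : Γ(X, f ⁻¹ᵁ U)) (he : e * e = e) :
    ∃ a : Γ(f.normalization, f.fromNormalization ⁻¹ᵁ U),
      f.toNormalization ⁻¹ᵁ (f.normalization.basicOpen a) = X.basicOpen e := by
  letI := (f.app U).hom.toAlgebra
  have he' : e ∈ integralClosure Γ(Y, U) Γ(X, f ⁻¹ᵁ U) := by
    refine ⟨Polynomial.X ^ 2 - Polynomial.X,
      monic_X_pow_sub (lt_of_le_of_lt degree_X_le (by norm_num)), ?_⟩
    simp [pow_two, he]
  let a : Γ(f.normalization, f.fromNormalization ⁻¹ᵁ U) :=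
    (f.normalizationObjIso hU).inv ⟨e, he'⟩
  have hle : f ⁻¹ᵁ U ≤ f.toNormalization ⁻¹ᵁ f.fromNormalization ⁻¹ᵁ U := by
    simp [← Scheme.Hom.comp_preimage]
  have ha : f.toNormalization.appLE _ _ hle a = e := by
    rw [← f.normalizationObjIso_hom_val hU]
    show (Subalgebra.val _) ((f.normalizationObjIso hU).hom ((f.normalizationObjIso hU).inv ⟨e, he'⟩))
      = e
    rw [← CommRingCat.comp_apply, Iso.inv_hom_id]
    rfl
  refine ⟨a, ?_⟩
  have h1 := Scheme.basicOpen_appLE f.toNormalization _ _ hle a
  rw [ha] at h1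
  rw [h1]
  refine le_antisymm (le_inf ?_ le_rfl) inf_le_right
  intro x hx
  have hx1 : f.toNormalization x ∈ f.fromNormalization ⁻¹ᵁ U :=
    f.normalization.basicOpen_le a hx
  have : f.fromNormalization (f.toNormalization x) = f x := by
    rw [← Scheme.Hom.comp_apply, f.toNormalization_fromNormalization]
  show f x ∈ U
  rw [← this]
  exact hx1

theorem fromNormalization_toNormalization_apply (x : X) :
    f.fromNormalization (f.toNormalization x) = f x := by
  rw [← Scheme.Hom.comp_apply, f.toNormalization_fromNormalization]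

variable (hX : Pi1.IsNormalScheme X)
  (hfin : LocallyFinite (fun Z : ↥(irreducibleComponents ↥X) => (Z : Set ↥X)))

include hX hfin in
/-- a section of the normalization cutting out a component of `X` over an affine open of `Y` -/
theorem exists_section_component {U : Y.Opens} (hU : IsAffineOpen U) (Z : Set X)
    (hZ : Z ∈ irreducibleComponents X) :
    ∃ a : Γ(f.normalization, f.fromNormalization ⁻¹ᵁ U),
      ∀ x : X, f.toNormalization x ∈ f.normalization.basicOpen a ↔ (f x ∈ U ∧ x ∈ Z) := by
  let A : X.Opens := ⟨Z, isOpen_component (fun x => (hX x).1) hfin Z hZ⟩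
  obtain ⟨e, he, hDe⟩ := exists_idempotent_basicOpen (f ⁻¹ᵁ U) A
    (isClosed_of_mem_irreducibleComponents Z hZ)
  obtain ⟨a, ha⟩ := exists_section_preimage_basicOpen f hU e he
  refine ⟨a, fun x => ?_⟩
  have h1 : x ∈ f.toNormalization ⁻¹ᵁ (f.normalization.basicOpen a) ↔ x ∈ f ⁻¹ᵁ U ⊓ A := by
    rw [ha, hDe]
  exact h1

include hX hfin in
/-- (c) generic points of components go to generic points of components -/
theorem closure_toNormalization_mem (ξ : X) (hξ : closure {ξ} ∈ irreducibleComponents X) :
    closure {f.toNormalization ξ} ∈ irreducibleComponents f.normalization := by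
  set x' := f.toNormalization ξ with hx'
  obtain ⟨Z'', hZ'', hsub⟩ := exists_mem_irreducibleComponents_subset_of_isIrreducible
    (closure {x'}) isIrreducible_singleton.closure
  have hcl : IsClosed Z'' := isClosed_of_mem_irreducibleComponents Z'' hZ''
  have hgen := hZ''.1.isGenericPoint_genericPoint hcl
  set x'' := hZ''.1.genericPoint with hx''
  have hgen' : closure {x''} = Z'' := hgen
  suffices h : x'' ∈ closure {x'} by
    have : closure {x'} = Z'' := by
      refine le_antisymm hsub ?_
      rw [← hgen']
      exact closure_minimal (Set.singleton_subset_iff.mpr h) isClosed_closure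
    rw [this]; exact hZ''
  by_contra hnot
  obtain ⟨_, ⟨U, hU, rfl⟩, hxU, -⟩ := Y.isBasis_affineOpens.exists_subset_of_mem_open
    (Set.mem_univ (f.fromNormalization x')) isOpen_univ
  have hU' : IsAffineOpen (f.fromNormalization ⁻¹ᵁ U) := hU.preimage f.fromNormalization
  have hx'Z : x' ∈ closure {x''} := by
    rw [hgen']; exact hsub (subset_closure rfl)
  have hgenz : ∀ O : Set f.normalization, IsOpen O → x' ∈ O → x'' ∈ O := by
    intro O hO hxO
    obtain ⟨y, hy1, hy2⟩ := mem_closure_iff.mp hx'Z O hO hxO
    rw [Set.mem_singleton_iff] at hy2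
    rw [← hy2]; exact hy1
  have hx''U : x'' ∈ f.fromNormalization ⁻¹ᵁ U :=
    hgenz _ (f.fromNormalization ⁻¹ᵁ U).isOpen hxU
  let O : f.normalization.Opens := ⟨(closure {x'})ᶜ, isClosed_closure.isOpen_compl⟩
  obtain ⟨a, haO, hxa⟩ := hU'.exists_basicOpen_le (V := O) ⟨x'', hnot⟩ hx''U
  have hx'a : x' ∉ f.normalization.basicOpen a := fun h => haO h (subset_closure rfl)
  obtain ⟨a', ha'⟩ := exists_section_component f hX hfin hU (closure {ξ}) hξ
  have hfξ : f ξ ∈ U := by
    rw [← fromNormalization_toNormalization_apply]; exact hxU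
  have hx'a' : x' ∈ f.normalization.basicOpen a' :=
    (ha' ξ).mpr ⟨hfξ, subset_closure rfl⟩
  have hx''a' : x'' ∈ f.normalization.basicOpen a' :=
    hgenz _ (f.normalization.basicOpen a').isOpen hx'a'
  obtain ⟨x, hx⟩ := f.toNormalization.denseRange.exists_mem_open
    ((f.normalization.basicOpen a).isOpen.inter (f.normalization.basicOpen a').isOpen)
    ⟨x'', hxa, hx''a'⟩
  have hxZ : x ∈ closure {ξ} := ((ha' x).mp hx.2).2
  -- ξ specializes to x, so ξ is in the open preimage of D(a)
  have hopen : IsOpen (f.toNormalization ⁻¹' (f.normalization.basicOpen a : Set f.normalization)) :=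
    (f.normalization.basicOpen a).isOpen.preimage f.toNormalization.continuous
  obtain ⟨y, hy1, hy2⟩ := mem_closure_iff.mp hxZ _ hopen hx.1
  rw [Set.mem_singleton_iff] at hy2
  rw [hy2] at hy1
  exact hx'a hy1

include hX hfin in
/-- every generic point of a component of the normalization is the image of a generic point of a
component of `X` -/
theorem exists_genericPoint_preimage (ξ' : f.normalization)
    (hξ' : closure {ξ'} ∈ irreducibleComponents f.normalization) :
    ∃ ξ : X, closure {ξ} ∈ irreducibleComponents X ∧ f.toNormalization ξ = ξ' := by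
  classical
  obtain ⟨_, ⟨U, hU, rfl⟩, hxU, -⟩ := Y.isBasis_affineOpens.exists_subset_of_mem_open
    (Set.mem_univ (f.fromNormalization ξ')) isOpen_univ
  have hWc : IsCompact (f ⁻¹ᵁ U : Set X) := f.isCompact_preimage hU.isCompact
  have hF := hfin.finite_nonempty_inter_compact hWc
  set F := {Z : ↥(irreducibleComponents ↥X) | ((Z : Set X) ∩ (f ⁻¹ᵁ U : Set X)).Nonempty} with hFdef
  let gp : ↥(irreducibleComponents ↥X) → X := fun Z => Z.2.1.genericPoint
  have hgp : ∀ Z : ↥(irreducibleComponents ↥X), closure {gp Z} = (Z : Set X) := fun Z =>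
    Z.2.1.isGenericPoint_genericPoint (isClosed_of_mem_irreducibleComponents _ Z.2)
  by_contra hcon
  push Not at hcon
  let T : Set f.normalization := ⋃ Z ∈ F, closure {f.toNormalization (gp Z)}
  have hT : IsClosed T := hF.isClosed_biUnion (fun Z _ => isClosed_closure)
  have hξT : ξ' ∉ T := by
    intro h
    simp only [T, Set.mem_iUnion] at h
    obtain ⟨Z, hZF, hZ⟩ := h
    have h1 : closure {ξ'} ⊆ closure {f.toNormalization (gp Z)} :=
      closure_minimal (Set.singleton_subset_iff.mpr hZ) isClosed_closure
    have h2 : closure {f.toNormalization (gp Z)} ⊆ closure {ξ'} :=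
      hξ'.2 isIrreducible_singleton.closure h1
    have h3 : closure {f.toNormalization (gp Z)} = closure {ξ'} := le_antisymm h2 h1
    have g1 : IsGenericPoint (f.toNormalization (gp Z)) (closure {ξ'}) := h3
    have g2 : IsGenericPoint ξ' (closure {ξ'}) := rfl
    exact hcon (gp Z) (by rw [hgp Z]; exact Z.2) (g1.eq g2)
  obtain ⟨x, hx⟩ := f.toNormalization.denseRange.exists_mem_open
    ((f.fromNormalization ⁻¹ᵁ U).isOpen.inter hT.isOpen_compl) ⟨ξ', hxU, hξT⟩
  have hxW : x ∈ (f ⁻¹ᵁ U : Set X) := by
    show f x ∈ U
    rw [← fromNormalization_toNormalization_apply]; exact hx.1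
  let Zx : ↥(irreducibleComponents ↥X) := ⟨_, irreducibleComponent_mem_irreducibleComponents x⟩
  have hZx : Zx ∈ F := ⟨x, mem_irreducibleComponent, hxW⟩
  have h4 : x ∈ closure {gp Zx} := by rw [hgp Zx]; exact mem_irreducibleComponent
  have h5 : f.toNormalization x ∈ closure {f.toNormalization (gp Zx)} := by
    have := image_closure_subset_closure_image f.toNormalization.continuous
      (Set.mem_image_of_mem f.toNormalization h4)
    rwa [Set.image_singleton] at this
  exact hx.2 (Set.mem_biUnion hZx h5)

include hX hfin in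
/-- (d) over a generic point of a component of the normalization there is exactly one generic point
of a component of `X` -/
theorem existsUnique_genericPoint_preimage (ξ' : f.normalization)
    (hξ' : closure {ξ'} ∈ irreducibleComponents f.normalization) :
    ∃! ξ : X, closure {ξ} ∈ irreducibleComponents X ∧ f.toNormalization ξ = ξ' := by
  obtain ⟨ξ, hξ, hξt⟩ := exists_genericPoint_preimage f hX hfin ξ' hξ'
  refine ⟨ξ, ⟨hξ, hξt⟩, ?_⟩
  rintro ξ₂ ⟨hξ₂, hξ₂t⟩
  obtain ⟨_, ⟨U, hU, rfl⟩, hxU, -⟩ := Y.isBasis_affineOpens.exists_subset_of_mem_open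
    (Set.mem_univ (f.fromNormalization ξ')) isOpen_univ
  obtain ⟨a, ha⟩ := exists_section_component f hX hfin hU (closure {ξ}) hξ
  have hfξ : f ξ ∈ U := by
    rw [← fromNormalization_toNormalization_apply, hξt]; exact hxU
  have h1 : f.toNormalization ξ ∈ f.normalization.basicOpen a :=
    (ha ξ).mpr ⟨hfξ, subset_closure rfl⟩
  rw [hξt, ← hξ₂t] at h1
  have h2 : ξ₂ ∈ closure {ξ} := ((ha ξ₂).mp h1).2
  haveI := (hX ξ₂).1
  have h3 : closure {ξ₂} = closure {ξ} :=
    component_unique ξ₂ hξ₂ hξ (subset_closure rfl) h2
  have g1 : IsGenericPoint ξ₂ (closure {ξ}) := h3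
  have g2 : IsGenericPoint ξ (closure {ξ}) := rfl
  exact g1.eq g2

include hX hfin in
/-- (b) the irreducible components of the normalization are locally finite -/
theorem locallyFinite_components_normalization :
    LocallyFinite (fun Z : ↥(irreducibleComponents ↥f.normalization) =>
      (Z : Set ↥f.normalization)) := by
  intro x'
  obtain ⟨_, ⟨U, hU, rfl⟩, hxU, -⟩ := Y.isBasis_affineOpens.exists_subset_of_mem_open
    (Set.mem_univ (f.fromNormalization x')) isOpen_univ
  refine ⟨(f.fromNormalization ⁻¹ᵁ U : Set f.normalization),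
    (f.fromNormalization ⁻¹ᵁ U).isOpen.mem_nhds hxU, ?_⟩
  have hWc : IsCompact (f ⁻¹ᵁ U : Set X) := f.isCompact_preimage hU.isCompact
  have hF := hfin.finite_nonempty_inter_compact hWc
  let φ : ↥(irreducibleComponents ↥X) → Set f.normalization := fun Z =>
    closure {f.toNormalization Z.2.1.genericPoint}
  refine Set.Finite.of_finite_image (f := Subtype.val) ((hF.image φ).subset ?_)
    Subtype.val_injective.injOn
  rintro _ ⟨Z', ⟨y, hyZ', hyU⟩, rfl⟩
  have hgen := Z'.2.1.isGenericPoint_genericPoint (isClosed_of_mem_irreducibleComponents _ Z'.2)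
  set ξ' := Z'.2.1.genericPoint with hξ'def
  have hgen' : closure {ξ'} = (Z' : Set f.normalization) := hgen
  have hξ'U : ξ' ∈ f.fromNormalization ⁻¹ᵁ U := by
    have hy : y ∈ closure {ξ'} := by rw [hgen']; exact hyZ'
    obtain ⟨z, hz1, hz2⟩ := mem_closure_iff.mp hy _ (f.fromNormalization ⁻¹ᵁ U).isOpen hyU
    rw [Set.mem_singleton_iff] at hz2
    rw [← hz2]; exact hz1
  obtain ⟨ξ, hξ, hξt⟩ := exists_genericPoint_preimage f hX hfin ξ' (by rw [hgen']; exact Z'.2)
  let Z : ↥(irreducibleComponents ↥X) := ⟨closure {ξ}, hξ⟩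
  have hξW : ξ ∈ (f ⁻¹ᵁ U : Set X) := by
    show f ξ ∈ U
    rw [← fromNormalization_toNormalization_apply, hξt]; exact hξ'U
  refine ⟨Z, ⟨ξ, subset_closure rfl, hξW⟩, ?_⟩
  have g1 : IsGenericPoint Z.2.1.genericPoint (closure {ξ}) :=
    Z.2.1.isGenericPoint_genericPoint (isClosed_of_mem_irreducibleComponents _ Z.2)
  have g2 : IsGenericPoint ξ (closure {ξ}) := rfl
  show closure {f.toNormalization Z.2.1.genericPoint} = (Z' : Set f.normalization)
  rw [g1.eq g2, hξt, hgen']

end Normalization

end Groth.Agent.Lib.Helper22.NormalizationNormal
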