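import Mathlib
import Groth.Prelude.Def_Models

/-!
# Numerical types of genus one: all `g i = 0` and `a i i = -2 w i` (for `n ≥ 2`, minimal types)
-/

set_option autoImplicit false

namespace Groth.Agent.Lib.Helper22.NumType

open Models Models.NumericalType Finset

variable {n : ℕ} (T : NumericalType n)

theorem row_sum (i : Fin n) : ∑ j, T.a i j * T.m j = 0 := by
  have h := congrFun T.mulVec_m i
  simpa [Matrix.mulVec, dotProduct] using h

theorem diag_neg (hn : 2 ≤ n) (i : Fin n) : T.a i i < 0 := by
  have h := row_sum T i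
  obtain ⟨i', hi', j, hj, hne⟩ := T.connected {i} (singleton_nonempty i) (by
    intro h
    have := congrArg Finset.card h
    simp at this
    omega)
  rw [mem_singleton] at hi'
  subst hi'
  have hji : j ≠ i' := by
    intro h
    apply hj
    rw [h]
    exact mem_singleton_self _
  have hpos : 0 < T.a i' j := lt_of_le_of_ne (T.offDiag_nonneg i' j hji.symm) hne.symm
  rw [← Finset.add_sum_erase univ _ (mem_univ i')] at h
  have h2 : 0 < ∑ j ∈ univ.erase i', T.a i' j * T.m j := by
    apply Finset.sum_pos'
    · intro j' hj'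
      have : j' ≠ i' := (mem_erase.mp hj').1
      exact mul_nonneg (T.offDiag_nonneg i' j' this.symm) (T.m_pos j').le
    · exact ⟨j, mem_erase.mpr ⟨hji, mem_univ _⟩, mul_pos hpos (T.m_pos j)⟩
  have := T.m_pos i'
  nlinarith

/-- In a minimal numerical type of genus one on at least two indices, every index is a
`(-2)`-index. -/
theorem minusTwo_of_genus_one (hn : 2 ≤ n) (hmin : T.IsMinimal) (hg : T.genus = 1) (i : Fin n) :
    T.g i = 0 ∧ T.a i i = -2 * T.w i := by
  -- write a i i = w i * c i
  have hc : ∀ i, ∃ c : ℤ, T.a i i = T.w i * c := fun i => T.w_dvd i i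
  choose c hc using hc
  have hcneg : ∀ i, c i ≤ -1 := by
    intro i
    have h1 := diag_neg T hn i
    rw [hc i] at h1
    have h2 := T.w_pos i
    by_contra hcon
    push Not at hcon
    have : 0 ≤ c i := by omega
    nlinarith [mul_nonneg h2.le this]
  -- each term is nonnegative
  have hterm : ∀ i, 0 ≤ T.m i * T.w i * (2 * T.g i - 2 - c i) := by
    intro i
    apply mul_nonneg (mul_pos (T.m_pos i) (T.w_pos i)).le
    have h1 := hcneg i
    have h2 := T.g_nonneg i
    by_contra hcon
    push Not at hcon
    have hg0 : T.g i = 0 := by omega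
    have hc1 : c i = -1 := by omega
    apply hmin i
    refine ⟨hg0, ?_⟩
    rw [hc i, hc1]; ring
  -- the sum of the terms is 2 S₁ - S₂
  have hsum : ∑ i, T.m i * T.w i * (2 * T.g i - 2 - c i) =
      2 * (∑ i, T.m i * T.w i * (T.g i - 1)) - ∑ i, T.m i * T.a i i := by
    rw [Finset.mul_sum, ← Finset.sum_sub_distrib]
    apply Finset.sum_congr rfl
    intro i _
    rw [hc i]; ring
  unfold NumericalType.genus at hg
  have hle : ∑ i, T.m i * T.w i * (2 * T.g i - 2 - c i) ≤ 0 := by
    rw [hsum]
    omega
  have hzero : ∀ i ∈ (univ : Finset (Fin n)), T.m i * T.w i * (2 * T.g i - 2 - c i) = 0 := by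
    have h0 : ∑ i, T.m i * T.w i * (2 * T.g i - 2 - c i) = 0 :=
      le_antisymm hle (Finset.sum_nonneg (fun i _ => hterm i))
    exact (Finset.sum_eq_zero_iff_of_nonneg (fun i _ => hterm i)).mp h0
  have hi := hzero i (mem_univ i)
  have hmw : T.m i * T.w i ≠ 0 := (mul_pos (T.m_pos i) (T.w_pos i)).ne'
  have h3 : 2 * T.g i - 2 - c i = 0 := by
    rcases mul_eq_zero.mp hi with h | h
    · exact absurd h hmw
    · exact h
  have h1 := hcneg i
  have h2 := T.g_nonneg i
  have hg0 : T.g i = 0 := by omega
  have hc2 : c i = -2 := by omega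
  exact ⟨hg0, by rw [hc i, hc2]; ring⟩

end Groth.Agent.Lib.Helper22.NumType
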