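import Mathlib
import Groth.Prelude.Def_W4c1stackycurvesGalP1

/-!
# Galois-stable point sets on the projective line (helper22)

`main_aux`: for a finite Galois extension `K/k`, a Galois-stable set `S` of at most three `K`-points of `P¹`
and a Galois-equivariant injection `b` on `S`, some element of `GL₂(k)` induces `b` on `S`.
Ingredients: `Vsub` (matrices sending each `x ∈ S` into the line `b x`), its Galois stability
(`map_mem_Vsub`), the trace trick (`exists_rational_mem`), and 2×2 linear algebra (`key_exists`, `key_unit`).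
-/

namespace Groth.Agent.Lib.Helper22.P1Gal
open W4c1stackycurves Projectivization

section
variable {k K : Type*} [Field k] [Field K] [Algebra k K]

theorem galP_mk (σ : K ≃ₐ[k] K) {ι : Type*} (v : ι → K) (hv : v ≠ 0) :
    galP σ (mk K v hv) = mk K (galVec σ ι v)
      (fun h => hv (galVec_injective σ ι (h.trans (map_zero _).symm))) := by
  unfold galP
  rw [Projectivization.map_mk]

theorem galVec_symm_cancel (σ : K ≃ₐ[k] K) {ι : Type*} (v : ι → K) :
    galVec σ ι (galVec σ.symm ι v) = v := by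
  ext i; simp [galVec_apply]

theorem galP_symm_cancel (σ : K ≃ₐ[k] K) {ι : Type*} (x : Projectivization K (ι → K)) :
    galP σ (galP σ.symm x) = x := by
  induction x using Projectivization.ind with
  | h v hv =>
    rw [galP_mk, galP_mk]
    congr 1
    exact galVec_symm_cancel σ v

/-- Membership of `g v` in a line only depends on the point of `v`. -/
theorem mulVec_mem_iff_of_mk_eq (g : Matrix (Fin 2) (Fin 2) K) (L : Submodule K (Fin 2 → K))
    {v w : Fin 2 → K} (hv : v ≠ 0) (hw : w ≠ 0) (h : mk K v hv = mk K w hw) :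
    g.mulVec v ∈ L ↔ g.mulVec w ∈ L := by
  obtain ⟨a, ha⟩ := (mk_eq_mk_iff K v w hv hw).mp h
  have : g.mulVec v = (a : K) • g.mulVec w := by
    rw [← ha, Units.smul_def, Matrix.mulVec_smul]
  rw [this]
  exact Submodule.smul_mem_iff _ a.ne_zero

/-- The space of matrices mapping each point `x` of `S` into the line `b x`. -/
def Vsub (S : Set (Projectivization K (Fin 2 → K)))
    (b : Projectivization K (Fin 2 → K) → Projectivization K (Fin 2 → K)) :
    Submodule K (Matrix (Fin 2) (Fin 2) K) where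
  carrier := {g | ∀ x ∈ S, g.mulVec x.rep ∈ (b x).submodule}
  add_mem' := by
    intro g h hg hh x hx
    rw [Matrix.add_mulVec]
    exact add_mem (hg x hx) (hh x hx)
  zero_mem' := by
    intro x hx
    rw [Matrix.zero_mulVec]
    exact zero_mem _
  smul_mem' := by
    intro c g hg x hx
    rw [Matrix.smul_mulVec]
    exact Submodule.smul_mem _ c (hg x hx)

theorem mem_Vsub {S : Set (Projectivization K (Fin 2 → K))}
    {b : Projectivization K (Fin 2 → K) → Projectivization K (Fin 2 → K)}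
    {g : Matrix (Fin 2) (Fin 2) K} :
    g ∈ Vsub S b ↔ ∀ x ∈ S, g.mulVec x.rep ∈ (b x).submodule := Iff.rfl

theorem map_mulVec_galVec (σ : K ≃ₐ[k] K) (g : Matrix (Fin 2) (Fin 2) K) (v : Fin 2 → K) :
    (g.map σ).mulVec (galVec σ (Fin 2) v) = galVec σ (Fin 2) (g.mulVec v) := by
  ext i
  rw [galVec_apply]
  exact ((σ : K →+* K).map_mulVec g v i).symm

/-- `Vsub S b` is stable under the Galois action on matrix entries. -/
theorem map_mem_Vsub {S : Set (Projectivization K (Fin 2 → K))}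
    {b : Projectivization K (Fin 2 → K) → Projectivization K (Fin 2 → K)}
    (hS : ∀ (σ : K ≃ₐ[k] K) (x : Projectivization K (Fin 2 → K)), x ∈ S → galP σ x ∈ S)
    (hb : ∀ (σ : K ≃ₐ[k] K), ∀ x ∈ S, b (galP σ x) = galP σ (b x))
    (σ : K ≃ₐ[k] K) {g : Matrix (Fin 2) (Fin 2) K} (hg : g ∈ Vsub S b) :
    g.map σ ∈ Vsub S b := by
  intro x hx
  set y := galP σ.symm x with hy
  have hyS : y ∈ S := hS σ.symm x hx
  have hxy : galP σ y = x := galP_symm_cancel σ x
  have hw0 : galVec σ (Fin 2) y.rep ≠ 0 := fun h =>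
    y.rep_nonzero (galVec_injective σ _ (h.trans (map_zero _).symm))
  have hmk : mk K (galVec σ (Fin 2) y.rep) hw0 = mk K x.rep x.rep_nonzero := by
    rw [mk_rep, ← hxy]
    conv_rhs => rw [← mk_rep y]
    rw [galP_mk]
  rw [← mulVec_mem_iff_of_mk_eq _ _ hw0 x.rep_nonzero hmk, map_mulVec_galVec]
  have h1 := hg y hyS
  rw [submodule_eq, Submodule.mem_span_singleton] at h1
  obtain ⟨c, hc⟩ := h1
  have hu0 : galVec σ (Fin 2) (b y).rep ≠ 0 := fun h =>
    (b y).rep_nonzero (galVec_injective σ _ (h.trans (map_zero _).symm))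
  have hbx : b x = mk K (galVec σ (Fin 2) (b y).rep) hu0 := by
    rw [← hxy, hb σ y hyS]
    conv_lhs => rw [← mk_rep (b y)]
    rw [galP_mk]
  rw [hbx, submodule_mk, ← hc, map_smulₛₗ]
  exact Submodule.smul_mem _ _ (Submodule.mem_span_singleton_self _)

/-- Trace trick: a nonzero Galois-stable `K`-subspace of `M₂(K)` has a nonzero `k`-rational
element. -/
theorem exists_rational_mem [FiniteDimensional k K] [IsGalois k K]
    (V : Submodule K (Matrix (Fin 2) (Fin 2) K))
    (hV : ∀ (σ : K ≃ₐ[k] K), ∀ g ∈ V, g.map σ ∈ V)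
    {g : Matrix (Fin 2) (Fin 2) K} (hg : g ∈ V) (hg0 : g ≠ 0) :
    ∃ h₀ : Matrix (Fin 2) (Fin 2) k, h₀ ≠ 0 ∧ h₀.map (algebraMap k K) ∈ V := by
  classical
  obtain ⟨i, j, hij⟩ : ∃ i j, g i j ≠ 0 := by
    by_contra hcon
    push Not at hcon
    exact hg0 (by ext i j; exact hcon i j)
  obtain ⟨c, hc⟩ := Algebra.trace_surjective k K (1 : k)
  set a : K := c / g i j with ha
  refine ⟨Matrix.of fun p q => Algebra.trace k K (a * g p q), ?_, ?_⟩
  · intro h0
    have := congrFun (congrFun h0 i) j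
    simp only [Matrix.of_apply, Matrix.zero_apply, ha, div_mul_cancel₀ _ hij, hc] at this
    exact one_ne_zero this
  · have : (Matrix.of fun p q => Algebra.trace k K (a * g p q)).map (algebraMap k K)
        = ∑ σ : K ≃ₐ[k] K, (a • g).map σ := by
      ext p q
      rw [Matrix.map_apply, Matrix.of_apply, trace_eq_sum_automorphisms, Matrix.sum_apply]
      rfl
    rw [this]
    exact Submodule.sum_mem _ fun σ _ => hV σ _ (Submodule.smul_mem _ a hg)

end

section linalg
variable {K : Type*} [Field K]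

/-- In `K²`, a linearly independent pair spans: explicit coordinates. -/
theorem exists_coords {v₁ v₂ : Fin 2 → K} (h : LinearIndependent K ![v₁, v₂]) (u : Fin 2 → K) :
    ∃ s t : K, u = s • v₁ + t • v₂ := by
  let bv := basisOfLinearIndependentOfCardEqFinrank h (by simp)
  refine ⟨bv.repr u 0, bv.repr u 1, ?_⟩
  have := bv.sum_repr u
  rw [Fin.sum_univ_two] at this
  simpa [bv] using this.symm

/-- third vector has both coordinates nonzero. -/
theorem exists_coords_ne_zero {v₁ v₂ v₃ : Fin 2 → K} (h12 : LinearIndependent K ![v₁, v₂])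
    (h13 : LinearIndependent K ![v₁, v₃]) (h23 : LinearIndependent K ![v₂, v₃]) :
    ∃ s t : K, s ≠ 0 ∧ t ≠ 0 ∧ v₃ = s • v₁ + t • v₂ := by
  obtain ⟨s, t, hst⟩ := exists_coords h12 v₃
  refine ⟨s, t, ?_, ?_, hst⟩
  · rintro rfl
    have := (LinearIndependent.pair_iff.mp h23) t (-1) (by rw [hst]; simp)
    exact absurd this.2 (by simp)
  · rintro rfl
    have := (LinearIndependent.pair_iff.mp h13) s (-1) (by rw [hst]; simp)
    exact absurd this.2 (by simp)

theorem key_exists {v₁ v₂ v₃ w₁ w₂ w₃ : Fin 2 → K}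
    (hv12 : LinearIndependent K ![v₁, v₂]) (hv13 : LinearIndependent K ![v₁, v₃])
    (hv23 : LinearIndependent K ![v₂, v₃])
    (hw12 : LinearIndependent K ![w₁, w₂]) (hw13 : LinearIndependent K ![w₁, w₃])
    (hw23 : LinearIndependent K ![w₂, w₃]) :
    ∃ g₀ : Matrix (Fin 2) (Fin 2) K, g₀ ≠ 0 ∧ g₀.mulVec v₁ ∈ Submodule.span K {w₁} ∧
      g₀.mulVec v₂ ∈ Submodule.span K {w₂} ∧ g₀.mulVec v₃ ∈ Submodule.span K {w₃} := by
  obtain ⟨α, β, hα, hβ, hv3⟩ := exists_coords_ne_zero hv12 hv13 hv23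
  obtain ⟨γ, δ, hγ, hδ, hw3⟩ := exists_coords_ne_zero hw12 hw13 hw23
  let bv := basisOfLinearIndependentOfCardEqFinrank hv12 (by simp)
  have hb0 : bv 0 = v₁ := by simp [bv]
  have hb1 : bv 1 = v₂ := by simp [bv]
  let f₀ : (Fin 2 → K) →ₗ[K] (Fin 2 → K) := bv.constr K ![(γ / α) • w₁, (δ / β) • w₂]
  have hf1 : f₀ v₁ = (γ / α) • w₁ := by
    rw [← hb0]; simp [f₀]
  have hf2 : f₀ v₂ = (δ / β) • w₂ := by
    rw [← hb1]; simp [f₀]
  have hf3 : f₀ v₃ = w₃ := by
    rw [hv3, map_add, map_smul, map_smul, hf1, hf2, hw3, smul_smul, smul_smul,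
      mul_div_cancel₀ _ hα, mul_div_cancel₀ _ hβ]
  have hw30 : w₃ ≠ 0 := hw13.ne_zero 1
  refine ⟨LinearMap.toMatrix' f₀, ?_, ?_, ?_, ?_⟩
  · intro h0
    have : (LinearMap.toMatrix' f₀).mulVec v₃ = 0 := by rw [h0, Matrix.zero_mulVec]
    rw [LinearMap.toMatrix'_mulVec, hf3] at this
    exact hw30 this
  · rw [LinearMap.toMatrix'_mulVec, hf1]
    exact Submodule.smul_mem _ _ (Submodule.mem_span_singleton_self _)
  · rw [LinearMap.toMatrix'_mulVec, hf2]
    exact Submodule.smul_mem _ _ (Submodule.mem_span_singleton_self _)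
  · rw [LinearMap.toMatrix'_mulVec, hf3]
    exact Submodule.mem_span_singleton_self _

theorem key_unit {v₁ v₂ v₃ w₁ w₂ w₃ : Fin 2 → K}
    (hv12 : LinearIndependent K ![v₁, v₂]) (hv13 : LinearIndependent K ![v₁, v₃])
    (hv23 : LinearIndependent K ![v₂, v₃])
    (hw12 : LinearIndependent K ![w₁, w₂]) (hw13 : LinearIndependent K ![w₁, w₃])
    (hw23 : LinearIndependent K ![w₂, w₃])
    (g : Matrix (Fin 2) (Fin 2) K) (hg0 : g ≠ 0)
    (h1 : g.mulVec v₁ ∈ Submodule.span K {w₁}) (h2 : g.mulVec v₂ ∈ Submodule.span K {w₂})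
    (h3 : g.mulVec v₃ ∈ Submodule.span K {w₃}) :
    IsUnit g.det ∧ (∃ c : K, c ≠ 0 ∧ g.mulVec v₁ = c • w₁) ∧
      (∃ c : K, c ≠ 0 ∧ g.mulVec v₂ = c • w₂) ∧ (∃ c : K, c ≠ 0 ∧ g.mulVec v₃ = c • w₃) := by
  obtain ⟨α, β, hα, hβ, hv3⟩ := exists_coords_ne_zero hv12 hv13 hv23
  obtain ⟨γ, δ, hγ, hδ, hw3⟩ := exists_coords_ne_zero hw12 hw13 hw23
  obtain ⟨c₁, hc₁⟩ := Submodule.mem_span_singleton.mp h1
  obtain ⟨c₂, hc₂⟩ := Submodule.mem_span_singleton.mp h2
  obtain ⟨c₃, hc₃⟩ := Submodule.mem_span_singleton.mp h3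
  have hw := LinearIndependent.pair_iff.mp hw12
  -- the comparison of coefficients
  have hrel : (α * c₁ - c₃ * γ) • w₁ + (β * c₂ - c₃ * δ) • w₂ = 0 := by
    have e : g.mulVec v₃ = α • g.mulVec v₁ + β • g.mulVec v₂ := by
      rw [hv3, Matrix.mulVec_add, Matrix.mulVec_smul, Matrix.mulVec_smul]
    rw [← hc₃, ← hc₁, ← hc₂, hw3] at e
    have e' : c₃ • (γ • w₁ + δ • w₂) - (α • c₁ • w₁ + β • c₂ • w₂) = 0 := sub_eq_zero.mpr e
    rw [← neg_eq_zero, ← e']
    module
  obtain ⟨hr1, hr2⟩ := hw _ _ hrel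
  have hzero : ∀ u : Fin 2 → K, g.mulVec v₁ = 0 → g.mulVec v₂ = 0 → g.mulVec u = 0 := by
    intro u e1 e2
    obtain ⟨s, t, rfl⟩ := exists_coords hv12 u
    rw [Matrix.mulVec_add, Matrix.mulVec_smul, Matrix.mulVec_smul, e1, e2]
    simp
  have hc3 : c₃ ≠ 0 := by
    rintro rfl
    have e1 : c₁ = 0 := by
      have : α * c₁ = 0 := by simpa using hr1
      exact (mul_eq_zero.mp this).resolve_left hα
    have e2 : c₂ = 0 := by
      have : β * c₂ = 0 := by simpa using hr2
      exact (mul_eq_zero.mp this).resolve_left hβ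
    apply hg0
    rw [Matrix.ext_iff_mulVec]
    intro u
    rw [Matrix.zero_mulVec]
    exact hzero u (by rw [← hc₁, e1, zero_smul]) (by rw [← hc₂, e2, zero_smul])
  have hc1 : c₁ ≠ 0 := by
    rintro rfl
    have : c₃ * γ = 0 := by simpa using hr1
    exact (mul_ne_zero hc3 hγ) this
  have hc2 : c₂ ≠ 0 := by
    rintro rfl
    have : c₃ * δ = 0 := by simpa using hr2
    exact (mul_ne_zero hc3 hδ) this
  refine ⟨?_, ⟨c₁, hc1, hc₁.symm⟩, ⟨c₂, hc2, hc₂.symm⟩, ⟨c₃, hc3, hc₃.symm⟩⟩
  rw [← Matrix.isUnit_iff_isUnit_det, ← Matrix.mulVec_injective_iff_isUnit]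
  have hker : ∀ u : Fin 2 → K, g.mulVec u = 0 → u = 0 := by
    intro u hu
    obtain ⟨s, t, rfl⟩ := exists_coords hv12 u
    rw [Matrix.mulVec_add, Matrix.mulVec_smul, Matrix.mulVec_smul, ← hc₁, ← hc₂, smul_smul,
      smul_smul] at hu
    obtain ⟨e1, e2⟩ := hw _ _ hu
    rw [(mul_eq_zero.mp e1).resolve_right hc1, (mul_eq_zero.mp e2).resolve_right hc2]
    simp
  intro u u' huu
  have := hker (u - u') (by rw [Matrix.mulVec_sub, huu, sub_self])
  exact sub_eq_zero.mp this

end linalg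


section main
variable {k K : Type*} [Field k] [Field K] [Algebra k K]

/-- The action of a rational matrix on a point, computed on representatives. -/
theorem smul_eq_of_mulVec (G : Matrix.GeneralLinearGroup (Fin 2) k)
    (x y : Projectivization K (Fin 2 → K)) (c : K) (hc : c ≠ 0)
    (h : ((G : Matrix (Fin 2) (Fin 2) k).map (algebraMap k K)).mulVec x.rep = c • y.rep) :
    (Matrix.GeneralLinearGroup.toLin (Matrix.GeneralLinearGroup.map (algebraMap k K) G)) • x
      = y := by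
  conv_lhs => rw [← mk_rep x]
  conv_rhs => rw [← mk_rep y]
  rw [smul_mk, mk_eq_mk_iff]
  refine ⟨Units.mk0 c hc, ?_⟩
  rw [Units.smul_def, Units.val_mk0, ← h]
  rfl

theorem three_points [FiniteDimensional k K] [IsGalois k K]
    (S : Set (Projectivization K (Fin 2 → K)))
    (b : Projectivization K (Fin 2 → K) → Projectivization K (Fin 2 → K)) (h3 : S.ncard = 3)
    (hS : ∀ (σ : K ≃ₐ[k] K) (x : Projectivization K (Fin 2 → K)), x ∈ S → galP σ x ∈ S)
    (hinj : Set.InjOn b S)
    (hb : ∀ (σ : K ≃ₐ[k] K), ∀ x ∈ S, b (galP σ x) = galP σ (b x)) :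
    ∃ g : Matrix.GeneralLinearGroup (Fin 2) k, ∀ x ∈ S,
      (Matrix.GeneralLinearGroup.toLin (Matrix.GeneralLinearGroup.map (algebraMap k K) g)) • x
        = b x := by
  obtain ⟨x₁, x₂, x₃, h12, h13, h23, hSeq⟩ := Set.ncard_eq_three.mp h3
  have m1 : x₁ ∈ S := by rw [hSeq]; simp
  have m2 : x₂ ∈ S := by rw [hSeq]; simp
  have m3 : x₃ ∈ S := by rw [hSeq]; simp
  have hv12 : LinearIndependent K ![x₁.rep, x₂.rep] := linearIndependent_pair_iff_ne.mpr h12
  have hv13 : LinearIndependent K ![x₁.rep, x₃.rep] := linearIndependent_pair_iff_ne.mpr h13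
  have hv23 : LinearIndependent K ![x₂.rep, x₃.rep] := linearIndependent_pair_iff_ne.mpr h23
  have hw12 : LinearIndependent K ![(b x₁).rep, (b x₂).rep] :=
    linearIndependent_pair_iff_ne.mpr (hinj.ne m1 m2 h12)
  have hw13 : LinearIndependent K ![(b x₁).rep, (b x₃).rep] :=
    linearIndependent_pair_iff_ne.mpr (hinj.ne m1 m3 h13)
  have hw23 : LinearIndependent K ![(b x₂).rep, (b x₃).rep] :=
    linearIndependent_pair_iff_ne.mpr (hinj.ne m2 m3 h23)
  obtain ⟨g₀, hg00, e1, e2, e3⟩ := key_exists hv12 hv13 hv23 hw12 hw13 hw23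
  have hg₀V : g₀ ∈ Vsub S b := by
    intro x hx
    rw [hSeq] at hx
    rw [submodule_eq]
    rcases hx with rfl | rfl | rfl
    · exact e1
    · exact e2
    · exact e3
  obtain ⟨h₀, hh0, hhV⟩ := exists_rational_mem (Vsub S b)
    (fun σ g hg => map_mem_Vsub hS hb σ hg) hg₀V hg00
  have hne : h₀.map (algebraMap k K) ≠ 0 := by
    intro h0
    apply hh0
    ext p q
    have := congrFun (congrFun h0 p) q
    simp only [Matrix.map_apply, Matrix.zero_apply] at this
    exact (algebraMap k K).injective (this.trans (map_zero _).symm)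
  have f1 := hhV x₁ m1
  have f2 := hhV x₂ m2
  have f3 := hhV x₃ m3
  rw [submodule_eq] at f1 f2 f3
  obtain ⟨hdet, ⟨c₁, hc1, r1⟩, ⟨c₂, hc2, r2⟩, ⟨c₃, hc3, r3⟩⟩ :=
    key_unit hv12 hv13 hv23 hw12 hw13 hw23 _ hne f1 f2 f3
  have hdet0 : h₀.det ≠ 0 := by
    intro h0
    have : (h₀.map (algebraMap k K)).det = 0 := by
      have := (algebraMap k K).map_det h₀
      rw [RingHom.mapMatrix_apply] at this
      rw [← this, h0, map_zero]
    rw [this] at hdet
    exact not_isUnit_zero hdet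
  refine ⟨Matrix.GeneralLinearGroup.mkOfDetNeZero h₀ hdet0, ?_⟩
  intro x hx
  rw [hSeq] at hx
  rcases hx with rfl | rfl | rfl
  · exact smul_eq_of_mulVec _ _ _ c₁ hc1 r1
  · exact smul_eq_of_mulVec _ _ _ c₂ hc2 r2
  · exact smul_eq_of_mulVec _ _ _ c₃ hc3 r3

/-! ### rational points -/

/-- The rational point with coordinates `(a, b)`. -/
noncomputable def ratPt (K : Type*) [Field K] (a b : K) (h : ![a, b] ≠ 0) :
    Projectivization K (Fin 2 → K) := mk K ![a, b] h

theorem exists_rational_notMem (T : Set (Projectivization K (Fin 2 → K))) (hT : T.Finite)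
    (h : T.ncard ≤ 2) :
    ∃ z : Projectivization K (Fin 2 → K), (∀ σ : K ≃ₐ[k] K, galP σ z = z) ∧ z ∉ T := by
  have n0 : (![1, 0] : Fin 2 → K) ≠ 0 := fun h => one_ne_zero (congrFun h 0)
  have n1 : (![0, 1] : Fin 2 → K) ≠ 0 := fun h => one_ne_zero (congrFun h 1)
  have n2 : (![1, 1] : Fin 2 → K) ≠ 0 := fun h => one_ne_zero (congrFun h 0)
  have fix : ∀ (v : Fin 2 → K) (hv : v ≠ 0), (∀ i, v i = 0 ∨ v i = 1) →
      ∀ σ : K ≃ₐ[k] K, galP σ (mk K v hv) = mk K v hv := by
    intro v hv h01 σ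
    rw [galP_mk]
    congr 1
    ext i
    rw [galVec_apply]
    rcases h01 i with h | h <;> simp [h]
  have d01 : mk K (![1, 0] : Fin 2 → K) n0 ≠ mk K ![0, 1] n1 := by
    intro h
    obtain ⟨a, ha⟩ := (mk_eq_mk_iff K _ _ n0 n1).mp h
    have := congrFun ha 0
    simp [Units.smul_def] at this
  have d02 : mk K (![1, 0] : Fin 2 → K) n0 ≠ mk K ![1, 1] n2 := by
    intro h
    obtain ⟨a, ha⟩ := (mk_eq_mk_iff K _ _ n0 n2).mp h
    have := congrFun ha 1
    simp [Units.smul_def] at this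
  have d12 : mk K (![0, 1] : Fin 2 → K) n1 ≠ mk K ![1, 1] n2 := by
    intro h
    obtain ⟨a, ha⟩ := (mk_eq_mk_iff K _ _ n1 n2).mp h
    have := congrFun ha 0
    simp [Units.smul_def] at this
  by_contra hcon
  push Not at hcon
  have t0 := hcon _ (fix ![1, 0] n0 (by intro i; fin_cases i <;> simp))
  have t1 := hcon _ (fix ![0, 1] n1 (by intro i; fin_cases i <;> simp))
  have t2 := hcon _ (fix ![1, 1] n2 (by intro i; fin_cases i <;> simp))
  have hsub : ({mk K (![1, 0] : Fin 2 → K) n0, mk K ![0, 1] n1, mk K ![1, 1] n2} :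
      Set (Projectivization K (Fin 2 → K))) ⊆ T := by
    intro x hx
    rcases hx with rfl | rfl | rfl
    · exact t0
    · exact t1
    · exact t2
  have hcard := Set.ncard_le_ncard hsub hT
  rw [Set.ncard_eq_three.mpr ⟨_, _, _, d01, d02, d12, rfl⟩] at hcard
  omega

theorem main_aux [FiniteDimensional k K] [IsGalois k K] (n : ℕ) :
    ∀ (S : Set (Projectivization K (Fin 2 → K)))
    (b : Projectivization K (Fin 2 → K) → Projectivization K (Fin 2 → K)),
    S.Finite → S.ncard + n = 3 →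
    (∀ (σ : K ≃ₐ[k] K) (x : Projectivization K (Fin 2 → K)), x ∈ S → galP σ x ∈ S) →
    Set.InjOn b S →
    (∀ (σ : K ≃ₐ[k] K), ∀ x ∈ S, b (galP σ x) = galP σ (b x)) →
    ∃ g : Matrix.GeneralLinearGroup (Fin 2) k, ∀ x ∈ S,
      (Matrix.GeneralLinearGroup.toLin (Matrix.GeneralLinearGroup.map (algebraMap k K) g)) • x
        = b x := by
  classical
  induction n with
  | zero =>
    intro S b _ h3 hS hinj hb
    exact three_points S b (by omega) hS hinj hb
  | succ n ih =>
    intro S b hfin h3 hS hinj hb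
    have hle : S.ncard ≤ 2 := by omega
    obtain ⟨z, hzfix, hzS⟩ := exists_rational_notMem (k := k) S hfin hle
    have hfin' : (b '' S).Finite := hfin.image b
    have hle' : (b '' S).ncard ≤ 2 := by rw [hinj.ncard_image]; exact hle
    obtain ⟨z', hz'fix, hz'S⟩ := exists_rational_notMem (k := k) (b '' S) hfin' hle'
    have hne : ∀ x ∈ S, x ≠ z := fun x hx h => hzS (h ▸ hx)
    have hupd : ∀ x ∈ S, Function.update b z z' x = b x := fun x hx =>
      Function.update_of_ne (hne x hx) _ _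
    obtain ⟨g, hg⟩ := ih (insert z S) (Function.update b z z') (hfin.insert z)
      (by rw [Set.ncard_insert_of_notMem hzS hfin]; omega)
      (by
        intro σ x hx
        rcases hx with rfl | hx
        · rw [hzfix σ]; exact Set.mem_insert _ _
        · exact Set.mem_insert_of_mem _ (hS σ x hx))
      (by
        intro x hx y hy hxy
        rcases hx with rfl | hx <;> rcases hy with rfl | hy
        · rfl
        · rw [Function.update_self, hupd y hy] at hxy
          exact absurd ⟨y, hy, hxy.symm⟩ hz'S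
        · rw [Function.update_self, hupd x hx] at hxy
          exact absurd ⟨x, hx, hxy⟩ hz'S
        · rw [hupd x hx, hupd y hy] at hxy
          exact hinj hx hy hxy)
      (by
        intro σ x hx
        rcases hx with rfl | hx
        · rw [hzfix σ, Function.update_self, hz'fix σ]
        · rw [hupd x hx, hupd _ (hS σ x hx)]
          exact hb σ x hx)
    refine ⟨g, fun x hx => ?_⟩
    rw [hg x (Set.mem_insert_of_mem _ hx), hupd x hx]

end main

end Groth.Agent.Lib.Helper22.P1Gal
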