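import Mathlib
import Groth.Prelude.Def_CAlg2
import Groth.Prelude.Def_Flat
import Groth.Agent.Lib.Helper22.RadicialNorm
import Groth.Agent.Lib.Helper9.UnivHomeoRing2

/-!
# Normalization in a purely inseparable extension is a universal homeomorphism (algebra, helper22)
-/

set_option autoImplicit false
set_option linter.style.haveILetI false
set_option linter.unusedSectionVars false
universe u

namespace Groth.Agent.Lib.Helper22.PINormAlg

open AlgebraicGeometry Groth.Agent.Lib.Helper9.UnivHomeoRing Groth.Agent.Lib.Helper22.RadicialNorm

variable (A : Type u) [CommRing A] [IsDomain A] (M : Type u) [CommRing M] [Nontrivial M]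
  [Algebra A M]
  (hunit : ∀ a : A, a ≠ 0 → IsUnit (algebraMap A M a))
  (q : ℕ) (hq : q = 1 ∨ (q.Prime ∧ (q : A) = 0))
  (hpi : ∀ x : M, ∃ (n : ℕ) (a b : A), b ≠ 0 ∧
    algebraMap A M b * x ^ (q ^ n) = algebraMap A M a)
  (hgu : ∀ (p : Ideal A) [p.IsPrime], CAlg2.IsGeomUnibranch (Localization.AtPrime p))

include hunit in
theorem algebraMap_injective : Function.Injective (algebraMap A M) := by
  rw [injective_iff_map_eq_zero]
  intro a ha
  by_contra h0
  have := hunit a h0
  rw [ha] at this
  exact not_isUnit_zero this

include hunit hq hpi hgu in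
theorem isUnivHomeo :
    FlatMor.IsUnivHomeo (Spec.map (CommRingCat.ofHom (algebraMap A (integralClosure A M)))) := by
  have hinjM := algebraMap_injective A M hunit
  have hinjB : Function.Injective (algebraMap A (integralClosure A M)) := by
    intro x y hxy
    exact hinjM (congrArg Subtype.val hxy)
  rw [isUnivHomeo_SpecMap_iff]
  refine ⟨algebraMap_isIntegral_iff.mpr inferInstance, ?_, ?_⟩
  · exact RingHom.IsIntegral.comap_surjective (algebraMap_isIntegral_iff.mpr inferInstance) hinjB
  · intro K _ g₁ g₂ h
    -- the fraction field and the normalization of `A`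
    let F := FractionRing A
    let A' := integralClosure A F
    haveI : IsIntegrallyClosed A' := integralClosure.isIntegrallyClosedOfFiniteExtension F
    have hinj' : Function.Injective (algebraMap A A') := FaithfulSMul.algebraMap_injective A _
    have hfrac := exists_mul_eq_algebraMap_integralClosure A F
    -- the embedding `F → M`
    let ι : F →+* M := IsLocalization.lift (M := nonZeroDivisors A) (g := algebraMap A M)
      (fun y => hunit y (nonZeroDivisors.coe_ne_zero y))
    let ιₐ : F →ₐ[A] M := { ι with commutes' := fun a => IsLocalization.lift_eq _ a }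
    have hι : Function.Injective ιₐ := ι.injective
    let j : A' →+* integralClosure A M :=
      (ιₐ.toRingHom.comp A'.val.toRingHom).codRestrict (integralClosure A M).toSubring
        (fun x => (x.2 : IsIntegral A x.1).map ιₐ)
    have hj : ∀ x : A', ((j x : integralClosure A M) : M) = ιₐ x.1 := fun x => rfl
    have hjA : ∀ a : A, j (algebraMap A A' a) = algebraMap A (integralClosure A M) a := by
      intro a
      apply Subtype.ext
      rw [hj]
      exact ιₐ.commutes a
    -- `g₁` and `g₂` agree on the normalization
    have h1 : g₁.comp j = g₂.comp j := by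
      haveI : (RingHom.ker ((g₁.comp j).comp (algebraMap A A'))).IsPrime := RingHom.ker_isPrime _
      apply eq_of_comp_eq A' hinj' hfrac _ (hgu _) (g₁.comp j) (g₂.comp j) _ rfl
      refine RingHom.ext fun a => ?_
      simp only [RingHom.comp_apply, hjA]
      exact RingHom.congr_fun h a
    have hqK : q = 1 ∨ (q.Prime ∧ (q : K) = 0) := by
      rcases hq with h | ⟨h, h0⟩
      · exact Or.inl h
      · refine Or.inr ⟨h, ?_⟩
        have := congrArg (fun a => g₁ (algebraMap A (integralClosure A M) a)) h0
        simpa using this
    refine RingHom.ext fun b => ?_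
    obtain ⟨n, a, c, hc, hac⟩ := hpi b.1
    apply eq_of_pow_eq q hqK n
    rw [← map_pow, ← map_pow]
    -- `b ^ q ^ n` comes from the normalization
    let x : F := IsLocalization.mk' F a (⟨c, mem_nonZeroDivisors_of_ne_zero hc⟩ : nonZeroDivisors A)
    have hx : ιₐ x = b.1 ^ q ^ n := by
      have h2 : algebraMap A M c * ιₐ x = algebraMap A M a := by
        have h3 : algebraMap A F c * x = algebraMap A F a := by
          rw [mul_comm]
          exact IsLocalization.mk'_spec F a _
        have := congrArg ιₐ h3
        rwa [map_mul, ιₐ.commutes, ιₐ.commutes] at this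
      exact (hunit c hc).mul_left_cancel (h2.trans hac.symm)
    have hxint : IsIntegral A x := by
      rw [← isIntegral_algHom_iff ιₐ hι, hx]
      exact (b.2 : IsIntegral A b.1).pow _
    have hjx : j ⟨x, hxint⟩ = b ^ q ^ n := by
      apply Subtype.ext
      rw [hj]
      exact hx
    rw [← hjx]
    exact RingHom.congr_fun h1 _

end Groth.Agent.Lib.Helper22.PINormAlg
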