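import Mathlib
import Groth.Prelude.Def_CAlg2
import Groth.Prelude.Def_Flat
import Groth.Agent.Lib.Helper22.PINormAlg
import Groth.Agent.Lib.Helper22.CplUnibranch
import Groth.Agent.Lib.Helper17.GeomUnibranch

/-!
# Normalization in a purely inseparable extension is a universal homeomorphism (schemes, helper22)
-/

set_option autoImplicit false
set_option linter.style.haveILetI false
set_option linter.unusedSectionVars false
universe u

namespace Groth.Agent.Lib.Helper22.PINormSch

open AlgebraicGeometry CategoryTheory IsLocalRing
open Groth.Agent.Lib.Helper9.UnivHomeoRing Groth.Agent.Lib.Helper22.RadicialNorm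

/-- geometric unibranchness of local domains is invariant under ring isomorphisms -/
theorem isGeomUnibranch_of_ringEquiv {D D₂ : Type u} [CommRing D] [IsDomain D] [IsLocalRing D]
    [CommRing D₂] [IsDomain D₂] [IsLocalRing D₂] (e : D ≃+* D₂) (h : CAlg2.IsGeomUnibranch D) :
    CAlg2.IsGeomUnibranch D₂ := by
  let D' := integralClosure D (FractionRing D)
  haveI : IsIntegrallyClosed D' :=
    integralClosure.isIntegrallyClosedOfFiniteExtension (FractionRing D)
  have hinj : Function.Injective (algebraMap D D') := FaithfulSMul.algebraMap_injective D _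
  have hfrac := exists_mul_eq_algebraMap_integralClosure D (FractionRing D)
  haveI : IsLocalRing D' := isLocalRing_of_isUnibranch h.1 D' hinj hfrac
  obtain ⟨q, hq, hpi⟩ := CplUnibranch.exists_exp_of_isGeomUnibranch h D' hinj hfrac
  letI : Algebra D₂ D' := ((algebraMap D D').comp (e.symm : D₂ →+* D)).toAlgebra
  letI : Algebra D D₂ := (e : D →+* D₂).toAlgebra
  haveI : IsScalarTower D D₂ D' := IsScalarTower.of_algebraMap_eq fun d => by
    show algebraMap D D' d = algebraMap D D' (e.symm (e d))
    rw [e.symm_apply_apply]
  haveI : Algebra.IsIntegral D₂ D' :=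
    ⟨fun y => (Algebra.IsIntegral.isIntegral (R := D) y).tower_top⟩
  have halg : ∀ d₂ : D₂, algebraMap D₂ D' d₂ = algebraMap D D' (e.symm d₂) := fun _ => rfl
  refine Groth.Agent.Lib.Helper17.GeomUnibranch.isGeomUnibranch_of_normalization D' ?_ ?_ q hq ?_
  · intro x y hxy
    rw [halg, halg] at hxy
    exact e.symm.injective (hinj hxy)
  · intro y
    obtain ⟨d, hd, d₂, hdd⟩ := hfrac y
    refine ⟨e d, fun h0 => hd ?_, e d₂, ?_⟩
    · exact e.injective (h0.trans (map_zero e).symm)
    · rw [halg, halg, e.symm_apply_apply, e.symm_apply_apply]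
      exact hdd
  · intro y
    obtain ⟨n, d, hnd⟩ := hpi y
    exact ⟨n, e d, by rw [halg, e.symm_apply_apply]; exact hnd⟩

/-- the degenerate case of the zero ring -/
theorem isUnivHomeo_of_subsingleton (A M : Type u) [CommRing A] [CommRing M] [Algebra A M]
    [Subsingleton A] :
    FlatMor.IsUnivHomeo (Spec.map (CommRingCat.ofHom (algebraMap A (integralClosure A M)))) := by
  haveI : Subsingleton M := by
    refine ⟨fun x y => ?_⟩
    have h1 : (1 : M) = 0 := by
      rw [← map_one (algebraMap A M), Subsingleton.elim (1 : A) 0, map_zero]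
    rw [← mul_one x, ← mul_one y, h1, mul_zero, mul_zero]
  rw [isUnivHomeo_SpecMap_iff]
  refine ⟨algebraMap_isIntegral_iff.mpr inferInstance, fun p => ?_, fun K _ g₁ g₂ _ => ?_⟩
  · exact (IsEmpty.false p).elim
  · refine RingHom.ext fun b => ?_
    rw [Subsingleton.elim b 0, map_zero, map_zero]

section Template

variable {X Y : Scheme.{u}} (f : X ⟶ Y) [QuasiCompact f] [QuasiSeparated f]

set_option backward.isDefEq.respectTransparency false in
/-- a property local at the target holds for `fromNormalization` if it holds on affine pieces -/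
theorem fromNormalization_of_forall_affine (P : MorphismProperty Scheme.{u})
    [IsZariskiLocalAtTarget P]
    (H : ∀ U : Y.affineOpens, P (Spec.map (f.normalizationDiagramMap.app (.op U.1)))) :
    P f.fromNormalization := by
  rw [IsZariskiLocalAtTarget.iff_of_iSup_eq_top (P := P) _ (iSup_affineOpens_eq_top _)]
  intro U
  let e := IsOpenImmersion.isoOfRangeEq (f.fromNormalization ⁻¹ᵁ U).ι (f.normalizationOpenCover.f U)
      (by simpa using congr($(f.fromNormalization_preimage U).1))
  rw [← MorphismProperty.cancel_left_of_respectsIso P e.inv,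
    ← MorphismProperty.cancel_right_of_respectsIso P _ U.2.isoSpec.hom]
  convert! H U
  rw [← cancel_mono U.2.fromSpec]
  simp [IsAffineOpen.isoSpec_hom, e, Scheme.Hom.ι_fromNormalization]

end Template

end Groth.Agent.Lib.Helper22.PINormSch
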