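import Mathlib
import Groth.Agent.Lib.Helper22.PINormSch
set_option autoImplicit false
set_option linter.style.haveILetI false
universe u
set_option linter.unusedSectionVars false

namespace Groth.Agent.Lib.Helper22.PINormMain

open AlgebraicGeometry CategoryTheory IsLocalRing

variable (Y : Scheme.{u}) [IsIntegral Y] (L : Type u) [Field L] [Algebra Y.functionField L]

noncomputable abbrev fL : Spec (CommRingCat.of L) ⟶ Y :=
  Spec.map (CommRingCat.ofHom (algebraMap Y.functionField L)) ≫ Y.fromSpecStalk (genericPoint Y)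

theorem fL_apply (z : Spec (CommRingCat.of L)) : (fL Y L) z = genericPoint Y := by
  have h1 : (Spec.map (CommRingCat.ofHom (algebraMap Y.functionField L))) z =
      closedPoint Y.functionField := Subsingleton.elim _ _
  rw [Scheme.Hom.comp_apply, h1]
  exact Scheme.fromSpecStalk_closedPoint

theorem preimage_eq_top (U : Y.Opens) (hne : (U : Set Y).Nonempty) : (fL Y L) ⁻¹ᵁ U = ⊤ := by
  have hη : genericPoint Y ∈ U := ((genericPoint_spec Y).mem_open_set_iff U.2).mpr
    (by simpa using hne)
  refine top_le_iff.mp fun z _ => ?_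
  show (fL Y L) z ∈ U
  rw [fL_apply]
  exact hη

theorem compat (U : Y.Opens) (hne : (U : Set Y).Nonempty)
    (hη : genericPoint Y ∈ U) :
    (fL Y L).app U ≫ (Spec (CommRingCat.of L)).presheaf.map
      (eqToHom (preimage_eq_top Y L U hne).symm).op ≫ (Scheme.ΓSpecIso (CommRingCat.of L)).hom =
    Y.presheaf.germ U (genericPoint Y) hη ≫
      CommRingCat.ofHom (algebraMap Y.functionField L) := by
  have htop : (⊤ : (Spec (CommRingCat.of L)).Opens) =
      Spec.map (CommRingCat.ofHom (algebraMap Y.functionField L)) ⁻¹ᵁ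
        (Y.fromSpecStalk (genericPoint Y) ⁻¹ᵁ U) := (preimage_eq_top Y L U hne).symm
  show (Y.fromSpecStalk (genericPoint Y)).app U ≫
      (Spec.map (CommRingCat.ofHom (algebraMap Y.functionField L))).app
        (Y.fromSpecStalk (genericPoint Y) ⁻¹ᵁ U) ≫
      (Spec (CommRingCat.of L)).presheaf.map (eqToHom htop).op ≫
      (Scheme.ΓSpecIso (CommRingCat.of L)).hom = _
  rw [Scheme.fromSpecStalk_app hη]
  simp only [Category.assoc, Scheme.Hom.naturality_assoc]
  have key : ∀ (i : Opposite.op (Spec.map (CommRingCat.ofHom (algebraMap Y.functionField L)) ⁻¹ᵁ ⊤) ⟶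
      Opposite.op (⊤ : (Spec (CommRingCat.of L)).Opens)),
      (Spec.map (CommRingCat.ofHom (algebraMap Y.functionField L))).app ⊤ ≫
        (Spec (CommRingCat.of L)).presheaf.map i =
      (Spec.map (CommRingCat.ofHom (algebraMap Y.functionField L))).appTop := by
    intro i
    have : i = 𝟙 _ := Subsingleton.elim _ _
    subst this
    erw [CategoryTheory.Functor.map_id, Category.comp_id]
  rw [← Functor.map_comp_assoc, reassoc_of% key, Scheme.ΓSpecIso_naturality]
  congr 1
  exact Iso.inv_hom_id_assoc _ _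

open Groth.Agent.Lib.Helper22 in
theorem key (hY : ∀ y : Y, CAlg2.IsGeomUnibranch (Y.presheaf.stalk y))
    [IsPurelyInseparable Y.functionField L]
    [QuasiCompact (fL Y L)] [QuasiSeparated (fL Y L)]
    (U : Y.affineOpens) (hne : (U.1 : Set Y).Nonempty) :
    FlatMor.IsUnivHomeo (Spec.map ((fL Y L).normalizationDiagramMap.app (.op U.1))) := by
  haveI : Nonempty U.1 := ⟨⟨hne.some, hne.some_mem⟩⟩
  have hη : genericPoint Y ∈ U.1 := ((genericPoint_spec Y).mem_open_set_iff U.1.2).mpr
    (by simpa using hne)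
  letI alg : Algebra Γ(Y, U.1) Γ(Spec (CommRingCat.of L), (fL Y L) ⁻¹ᵁ U.1) :=
    ((fL Y L).app U.1).hom.toAlgebra
  haveI : IsDomain Γ(Y, U.1) := inferInstance
  haveI := functionField_isFractionRing_of_isAffineOpen Y U.1 U.2
  -- the identification of the sections with `L`
  let mor : Γ(Spec (CommRingCat.of L), (fL Y L) ⁻¹ᵁ U.1) ⟶ CommRingCat.of L :=
    (Spec (CommRingCat.of L)).presheaf.map (eqToHom (preimage_eq_top Y L U.1 hne).symm).op ≫
      (Scheme.ΓSpecIso (CommRingCat.of L)).hom
  haveI : IsIso mor := inferInstance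
  let eR : Γ(Spec (CommRingCat.of L), (fL Y L) ⁻¹ᵁ U.1) ≃+* L :=
    (asIso mor).commRingCatIsoToRingEquiv
  have hcompat : ∀ a : Γ(Y, U.1), eR (algebraMap Γ(Y, U.1) _ a) =
      algebraMap Y.functionField L (algebraMap Γ(Y, U.1) Y.functionField a) := by
    intro a
    have := congrArg (fun φ => φ.hom a) (compat Y L U.1 hne hη)
    exact this
  haveI : Nontrivial Γ(Spec (CommRingCat.of L), (fL Y L) ⁻¹ᵁ U.1) := eR.symm.injective.nontrivial
  have hinjK : Function.Injective (algebraMap Γ(Y, U.1) Y.functionField) :=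
    IsFractionRing.injective _ _
  obtain ⟨q, hqdef⟩ : ∃ q, q = ringExpChar Y.functionField := ⟨_, rfl⟩
  haveI hexp : ExpChar Y.functionField q := hqdef ▸ ringExpChar.expChar Y.functionField
  show FlatMor.IsUnivHomeo (Spec.map (CommRingCat.ofHom (algebraMap Γ(Y, U.1)
    (integralClosure Γ(Y, U.1) Γ(Spec (CommRingCat.of L), (fL Y L) ⁻¹ᵁ U.1)))))
  refine PINormAlg.isUnivHomeo _ _ ?_ q ?_ ?_ ?_
  · intro a ha
    have h1 : IsUnit (eR (algebraMap Γ(Y, U.1) _ a)) := by
      rw [hcompat]
      refine IsUnit.mk0 _ ?_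
      rw [Ne, map_eq_zero]
      exact fun h0 => ha (hinjK (h0.trans (map_zero _).symm))
    have h2 := h1.map eR.symm
    rw [RingEquiv.symm_apply_apply] at h2
    exact h2
  · rcases hexp with _ | ⟨hp⟩
    · exact Or.inl rfl
    · refine Or.inr ⟨hp, hinjK ?_⟩
      rw [map_natCast, map_zero]
      exact CharP.cast_eq_zero _ _
  · intro x
    obtain ⟨n, z, hz⟩ := IsPurelyInseparable.pow_mem Y.functionField q (eR x)
    obtain ⟨a, b, hb, hab⟩ := IsFractionRing.div_surjective (A := Γ(Y, U.1)) z
    refine ⟨n, a, b, nonZeroDivisors.ne_zero hb, ?_⟩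
    apply eR.injective
    rw [map_mul, map_pow, hcompat, hcompat, ← hz, ← map_mul]
    congr 1
    rw [← hab, mul_div_cancel₀]
    rw [Ne, ← map_zero (algebraMap Γ(Y, U.1) Y.functionField)]
    exact fun h0 => nonZeroDivisors.ne_zero hb (hinjK h0)
  · intro p hp
    let y : PrimeSpectrum Γ(Y, U.1) := ⟨p, hp⟩
    have hy : U.2.fromSpec y ∈ U.1 := (U.2.isoSpec.inv _).2
    letI := TopCat.Presheaf.algebra_section_stalk Y.presheaf ⟨U.2.fromSpec y, hy⟩
    haveI hloc : IsLocalization p.primeCompl (Y.presheaf.stalk (U.2.fromSpec y)) :=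
      U.2.isLocalization_stalk' y hy
    let e := IsLocalization.algEquiv p.primeCompl (Y.presheaf.stalk (U.2.fromSpec y))
      (Localization.AtPrime p)
    exact PINormSch.isGeomUnibranch_of_ringEquiv e.toRingEquiv (hY _)

open Groth.Agent.Lib.Helper22 Groth.Agent.Lib.Helper9.UnivHomeoRing in
theorem main (hY : ∀ y : Y, CAlg2.IsGeomUnibranch (Y.presheaf.stalk y))
    [IsPurelyInseparable Y.functionField L]
    [QuasiCompact (fL Y L)] [QuasiSeparated (fL Y L)] :
    FlatMor.IsUnivHomeo (fL Y L).fromNormalization := by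
  have H : ∀ U : Y.affineOpens,
      FlatMor.IsUnivHomeo (Spec.map ((fL Y L).normalizationDiagramMap.app (.op U.1))) := by
    intro U
    by_cases hne : (U.1 : Set Y).Nonempty
    · exact key Y L hY U hne
    · have hbot : U.1 = ⊥ := by
        ext y
        simp only [TopologicalSpace.Opens.coe_bot, Set.mem_empty_iff_false, iff_false]
        exact fun hy => hne ⟨y, hy⟩
      letI alg : Algebra Γ(Y, U.1) Γ(Spec (CommRingCat.of L), (fL Y L) ⁻¹ᵁ U.1) :=
        ((fL Y L).app U.1).hom.toAlgebra
      haveI : Subsingleton Γ(Y, U.1) := by rw [hbot]; infer_instance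
      exact PINormSch.isUnivHomeo_of_subsingleton _ _
  rw [isUnivHomeo_iff]
  refine ⟨inferInstance, ?_, ?_⟩
  · exact PINormSch.fromNormalization_of_forall_affine (fL Y L) @UniversallyInjective
      fun U => ((isUnivHomeo_iff _).mp (H U)).2.1
  · exact PINormSch.fromNormalization_of_forall_affine (fL Y L) @Surjective
      fun U => ((isUnivHomeo_iff _).mp (H U)).2.2


end Groth.Agent.Lib.Helper22.PINormMain
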