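import Mathlib
import Groth.Prelude.Def_PLie

/-! Pushing a `p`-map forward along a surjective Lie algebra morphism (helper22). -/

namespace Helper22.PLieQuot

universe u v w

open PLie

variable {R : Type u} [CommRing R] {p : ℕ} [CharP R p]
  {L : Type v} [LieRing L] [LieAlgebra R L] {L' : Type w} [LieRing L'] [LieAlgebra R L']

lemma map_pair (g : L →ₗ⁅R⁆ L') (x₀ x₁ : L) (b : Bool) :
    g (PLie.pair x₀ x₁ b) = PLie.pair (g x₀) (g x₁) b := by
  cases b <;> simp [PLie.pair]

lemma map_bracketWord (g : L →ₗ⁅R⁆ L') (x₀ x₁ : L) (w : List Bool) :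
    g (PLie.bracketWord (PLie.pair x₀ x₁) x₁ w) =
      PLie.bracketWord (PLie.pair (g x₀) (g x₁)) (g x₁) w := by
  induction w with
  | nil => simp
  | cons i w ih => simp [LieHom.map_lie, ih, map_pair]

lemma map_jacobson (g : L →ₗ⁅R⁆ L') (x₀ x₁ : L) :
    g (PLie.jacobson R p x₀ x₁) = PLie.jacobson R p (g x₀) (g x₁) := by
  unfold PLie.jacobson
  rw [map_sum]
  refine Finset.sum_congr rfl fun t _ => ?_
  rw [map_smul, map_bracketWord]

lemma bracketWord_zero (x : Bool → L') (w : List Bool) : PLie.bracketWord x (0 : L') w = 0 := by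
  induction w with
  | nil => simp
  | cons i w ih => simp [ih]

lemma jacobson_zero_right (x₀ : L') : PLie.jacobson R p x₀ (0 : L') = 0 := by
  unfold PLie.jacobson
  refine Finset.sum_eq_zero fun t _ => ?_
  rw [bracketWord_zero, smul_zero]

lemma map_ad_pow (g : L →ₗ⁅R⁆ L') (x y : L) (n : ℕ) :
    g ((LieAlgebra.ad R L x ^ n) y) = (LieAlgebra.ad R L' (g x) ^ n) (g y) := by
  induction n generalizing y with
  | zero => simp
  | succ n ih =>
    have e1 : (LieAlgebra.ad R L x ^ (n + 1)) y =
        (LieAlgebra.ad R L x ^ n) (LieAlgebra.ad R L x y) := by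
      rw [pow_succ, Module.End.mul_apply]
    have e2 : (LieAlgebra.ad R L' (g x) ^ (n + 1)) (g y) =
        (LieAlgebra.ad R L' (g x) ^ n) (LieAlgebra.ad R L' (g x) (g y)) := by
      rw [pow_succ, Module.End.mul_apply]
    rw [e1, e2, ih, LieAlgebra.ad_apply, LieAlgebra.ad_apply, LieHom.map_lie]

theorem existsUnique_pmap_of_surjective (φ : PLie.PMap R p L) (g : L →ₗ⁅R⁆ L')
    (hsurj : Function.Surjective g) (hker : ∀ x : L, g x = 0 → g (φ x) = 0) :
    ∃! ψ : PLie.PMap R p L', PLie.IsPHom φ ψ g := by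
  classical
  -- well-definedness
  have hwd : ∀ x y : L, g x = g y → g (φ x) = g (φ y) := by
    intro x y hxy
    have hz : g (x - y) = 0 := by rw [map_sub, hxy, sub_self]
    have hx : x = y + (x - y) := by abel
    have h1 := φ.map_add y (x - y)
    change φ (y + (x - y)) = _ at h1
    rw [← hx] at h1
    rw [h1, map_sub, map_add, map_jacobson, hz, jacobson_zero_right, sub_zero]
    have := hker (x - y) hz
    change g (φ (x - y)) = 0 at this
    rw [this, add_zero]
  let s : L' → L := fun y => (hsurj y).choose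
  have hs : ∀ y, g (s y) = y := fun y => (hsurj y).choose_spec
  have hψ : ∀ x : L, g (φ (s (g x))) = g (φ x) := fun x => hwd _ _ (hs (g x))
  let ψ : PLie.PMap R p L' :=
    { toFun := fun y => g (φ (s y))
      map_smul := by
        intro c y
        have h1 : g (s (c • y)) = g (c • s y) := by rw [hs, map_smul, hs]
        have h2 := hwd _ _ h1
        have h3 := φ.map_smul c (s y)
        change φ (c • s y) = _ at h3
        change g (φ (s (c • y))) = c ^ p • g (φ (s y))
        rw [h2, h3, map_smul]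
      ad_map := by
        intro y
        apply LinearMap.ext
        intro y'
        obtain ⟨x', rfl⟩ := hsurj y'
        have h1 := φ.ad_map (s y)
        change LieAlgebra.ad R L' (g (φ (s y))) (g x') = (LieAlgebra.ad R L' y ^ p) (g x')
        rw [LieAlgebra.ad_apply, ← LieHom.map_lie, ← LieAlgebra.ad_apply (R := R)]
        change g ((LieAlgebra.ad R L (φ.toFun (s y))) x') = _
        rw [h1, map_ad_pow, hs]
      map_add := by
        intro y₀ y₁
        have h1 : g (s (y₀ + y₁)) = g (s y₀ + s y₁) := by rw [hs, map_add, hs, hs]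
        have h2 := hwd _ _ h1
        have h3 := φ.map_add (s y₀) (s y₁)
        change φ (s y₀ + s y₁) = _ at h3
        change g (φ (s (y₀ + y₁))) = g (φ (s y₀)) + g (φ (s y₁)) - _
        rw [h2, h3, map_sub, map_add, map_jacobson, hs, hs] }
  refine ⟨ψ, fun x => (hψ x).symm, ?_⟩
  intro ψ' hψ'
  have hfun : ψ'.toFun = ψ.toFun := by
    funext y
    obtain ⟨x, rfl⟩ := hsurj y
    have h1 := hψ' x
    change g (φ x) = ψ'.toFun (g x) at h1
    change ψ'.toFun (g x) = g (φ (s (g x)))
    rw [← h1, hψ]
  cases ψ'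
  cases hfun
  rfl

end Helper22.PLieQuot
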