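import Mathlib
import Groth.Agent.Lib.Helper22.SigmaLin2
import Groth.Agent.Lib.Helper22.LangModP

/-!
# Fitting + Lang decomposition for `p`-linear endomorphisms over an algebraically closed field
(helper22)
-/

set_option autoImplicit false
set_option linter.unusedSectionVars false
universe u
noncomputable section
namespace Groth.Agent.Lib.Helper22.PLinDecomp

open Groth.Agent.Lib.Helper22

variable (p : ℕ) [hp : Fact p.Prime] (k : Type u) [Field k] [IsAlgClosed k] [CharP k p]
  (V : Type u) [AddCommGroup V] [Module k V] [FiniteDimensional k V]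
  (F : V →+ V) (hF : ∀ (a : k) (v : V), F (a • v) = a ^ p • F v)

/-- `F` as a Frobenius-semilinear map -/
def T : V →ₛₗ[frobenius k p] V :=
  { toFun := F
    map_add' := map_add F
    map_smul' := fun a v => by rw [hF, frobenius_def] }

theorem T_apply (v : V) : T p k V F hF v = F v := rfl

theorem T_coe : (⇑(T p k V F hF) : V → V) = ⇑F := rfl

theorem span_fixed_eq_ssPart :
    Submodule.span k {v : V | F v = v} = SigmaLin.ssPart (T p k V F hF) := by
  set T₀ := T p k V F hF with hT₀
  apply le_antisymm
  · rw [Submodule.span_le]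
    intro v hv
    have hv' : T₀ v = v := hv
    rw [SetLike.mem_coe, SigmaLin.ssPart, Submodule.mem_iInf]
    intro n
    refine Submodule.subset_span ⟨v, ?_⟩
    exact Function.iterate_fixed hv' n
  · -- Lang on the stable part
    have hσsurj : Function.Surjective (frobenius k p) := by
      intro x
      obtain ⟨y, hy⟩ := IsAlgClosed.exists_pow_nat_eq x hp.out.pos
      exact ⟨y, by rw [frobenius_def, hy]⟩
    have hbij := (SigmaLin.fitting_decomposition hσsurj T₀).2
    have hb : Function.Bijective (SigmaLin.ssRestrict T₀) := by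
      constructor
      · intro x y hxy
        have := hbij.2.1 x.2 y.2 (congrArg Subtype.val hxy)
        exact Subtype.ext this
      · intro z
        obtain ⟨x, hx, hxz⟩ := hbij.2.2 z.2
        exact ⟨⟨x, hx⟩, Subtype.ext hxz⟩
    have hlang := Lang.lang_pos (frobenius k p) p hp.out.two_le (fun x => frobenius_def p x)
      (SigmaLin.ssRestrict T₀) hb
    intro x hx
    have hx' : (⟨x, hx⟩ : SigmaLin.ssPart T₀) ∈
        Submodule.span k {v : SigmaLin.ssPart T₀ | SigmaLin.ssRestrict T₀ v = v} := by
      rw [hlang]; trivial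
    have h2 := Submodule.apply_mem_span_image_of_mem_span (SigmaLin.ssPart T₀).subtype hx'
    refine Submodule.span_mono ?_ h2
    rintro _ ⟨v, hv, rfl⟩
    exact congrArg Subtype.val hv

include hF in
theorem isCompl :
    IsCompl (Submodule.span k {v : V | F v = v})
      (Submodule.span k {v : V | ∃ m : ℕ, (⇑F)^[m] v = 0}) := by
  have hσsurj : Function.Surjective (frobenius k p) := by
    intro x
    obtain ⟨y, hy⟩ := IsAlgClosed.exists_pow_nat_eq x hp.out.pos
    exact ⟨y, by rw [frobenius_def, hy]⟩
  obtain ⟨⟨W, hW, -, hc⟩, -⟩ := SigmaLin.fitting_decomposition hσsurj (T p k V F hF)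
  rw [span_fixed_eq_ssPart p k V F hF]
  have : Submodule.span k {v : V | ∃ m : ℕ, (⇑F)^[m] v = 0} = W := by
    rw [← T_coe p k V F hF, ← hW, Submodule.span_eq]
  rw [this]
  exact hc.symm

include hF in
theorem linearIndependent_fixed (s : Finset V) (hs : ∀ v ∈ s, F v = v)
    (hZ : ∀ c : s → ℤ, (∑ v : s, c v • (v : V)) = 0 → ∀ v : s, (p : ℤ) ∣ c v) :
    LinearIndependent k (fun v : s => (v : V)) := by
  classical
  rw [Fintype.linearIndependent_iff]
  -- induction on the size of the support
  suffices h : ∀ n : ℕ, ∀ a : s → k, (∑ v : s, a v • (v : V)) = 0 →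
      (Finset.univ.filter fun v => a v ≠ 0).card ≤ n → ∀ v, a v = 0 from
    fun a ha => h _ a ha le_rfl
  intro n
  induction n with
  | zero =>
    intro a _ hcard v
    by_contra hv
    have : v ∈ Finset.univ.filter fun v => a v ≠ 0 := by simp [hv]
    have := Finset.card_pos.mpr ⟨v, this⟩
    omega
  | succ n ih =>
    intro a ha hcard
    by_contra hne
    push Not at hne
    obtain ⟨j, hj⟩ := hne
    set b : s → k := fun v => a v / a j with hb
    have hbj : b j = 1 := div_self hj
    have hbsum : (∑ v : s, b v • (v : V)) = 0 := by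
      have : (∑ v : s, b v • (v : V)) = (a j)⁻¹ • ∑ v : s, a v • (v : V) := by
        rw [Finset.smul_sum]
        refine Finset.sum_congr rfl fun v _ => ?_
        show (a v / a j) • (v : V) = _
        rw [smul_smul, div_eq_inv_mul]
      rw [this, ha, smul_zero]
    have hFsum : (∑ v : s, (b v) ^ p • (v : V)) = 0 := by
      have := congrArg F hbsum
      rw [map_sum, map_zero] at this
      rw [← this]
      refine Finset.sum_congr rfl fun v _ => ?_
      rw [hF, hs v v.2]
    have hcsum : (∑ v : s, ((b v) ^ p - b v) • (v : V)) = 0 := by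
      simp only [sub_smul, Finset.sum_sub_distrib, hFsum, hbsum, sub_self]
    have hsupp : (Finset.univ.filter fun v => (b v) ^ p - b v ≠ 0) ⊆
        (Finset.univ.filter fun v => a v ≠ 0).erase j := by
      intro v hv
      rw [Finset.mem_filter] at hv
      rw [Finset.mem_erase, Finset.mem_filter]
      refine ⟨?_, Finset.mem_univ _, ?_⟩
      · rintro rfl
        exact hv.2 (by rw [hbj, one_pow, sub_self])
      · intro hav
        exact hv.2 (by rw [hb]; simp [hav, hp.out.ne_zero])
    have hcard' : (Finset.univ.filter fun v => (b v) ^ p - b v ≠ 0).card ≤ n := by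
      have h1 := Finset.card_le_card hsupp
      have h2 : j ∈ Finset.univ.filter fun v => a v ≠ 0 := by simp [hj]
      rw [Finset.card_erase_of_mem h2] at h1
      omega
    have hc0 := ih _ hcsum hcard'
    -- all `b v` are integers
    have hint : ∀ v : s, ∃ m : ℤ, (m : k) = b v := by
      intro v
      have h1 : b v ^ p = b v := sub_eq_zero.mp (hc0 v)
      have h2 := (Subfield.mem_bot_iff_pow_eq_self k p).mpr h1
      exact (mem_bot_iff_intCast p k).mp h2
    choose m hm using hint
    have hmsum : (∑ v : s, m v • (v : V)) = 0 := by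
      rw [← hbsum]
      refine Finset.sum_congr rfl fun v _ => ?_
      rw [← hm v, Int.cast_smul_eq_zsmul]
    have hdiv := hZ m hmsum j
    have : b j = 0 := by
      rw [← hm j]
      obtain ⟨c, hc⟩ := hdiv
      rw [hc, Int.cast_mul, Int.cast_natCast, CharP.cast_eq_zero, zero_mul]
    rw [hbj] at this
    exact one_ne_zero this

end Groth.Agent.Lib.Helper22.PLinDecomp
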