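import Mathlib
import Groth.Prelude.Def_CycAlg

/-! Length bookkeeping for 2-periodic complexes (helper22). -/

namespace Helper22.Per

universe u v w

variable {R : Type u} [CommRing R] {M : Type v} {N : Type w} [AddCommGroup M] [Module R M]
  [AddCommGroup N] [Module R N]

lemma length_eq_ker_add_range (f : M →ₗ[R] N) :
    Module.length R M = Module.length R (LinearMap.ker f) + Module.length R (LinearMap.range f) := by
  refine Module.length_eq_add_of_exact (LinearMap.ker f).subtype f.rangeRestrict
    (Submodule.subtype_injective _) f.surjective_rangeRestrict ?_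
  intro x
  constructor
  · intro hx
    have : f x = 0 := congrArg Subtype.val hx
    exact ⟨⟨x, this⟩, rfl⟩
  · rintro ⟨y, rfl⟩
    apply Subtype.ext
    exact y.2

lemma length_eq_sub_add_quot (S : Submodule R M) :
    Module.length R M = Module.length R S + Module.length R (M ⧸ S) :=
  Module.length_eq_add_of_exact S.subtype S.mkQ (Submodule.subtype_injective _)
    (Submodule.mkQ_surjective _) (LinearMap.exact_subtype_mkQ S)

lemma range_le_ker {M N : Type v} [AddCommGroup M] [Module R M] [AddCommGroup N] [Module R N]
    (φ : M →ₗ[R] N) (ψ : N →ₗ[R] M) (h : φ ∘ₗ ψ = 0) :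
    LinearMap.range ψ ≤ LinearMap.ker φ := by
  rintro _ ⟨y, rfl⟩
  exact LinearMap.congr_fun h y

lemma length_ker_eq {M N : Type v} [AddCommGroup M] [Module R M] [AddCommGroup N] [Module R N]
    (φ : M →ₗ[R] N) (ψ : N →ₗ[R] M) (h : φ ∘ₗ ψ = 0) :
    Module.length R (LinearMap.ker φ) =
      Module.length R (LinearMap.range ψ) + Module.length R (CycAlg.perH φ ψ) := by
  rw [length_eq_sub_add_quot ((LinearMap.range ψ).submoduleOf (LinearMap.ker φ)),
    (Submodule.submoduleOfEquivOfLe (range_le_ker φ ψ h)).length_eq]

end Helper22.Per
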