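import Mathlib
import Groth.Prelude.Def_Smoothing
import Groth.Agent.S2025

set_option linter.style.haveILetI false
set_option linter.unusedSectionVars false

universe u

namespace Groth.Agent.Lib.Helper22.Pop

open MvPolynomial

/-- A surjective ring hom whose kernel consists of nilpotent elements reflects units. -/
theorem isUnit_of_map_of_ker_nilpotent {B C : Type*} [CommRing B] [CommRing C] (q : B →+* C)
    (hq : Function.Surjective q) (hker : ∀ x ∈ RingHom.ker q, IsNilpotent x) {x : B}
    (hx : IsUnit (q x)) : IsUnit x := by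
  obtain ⟨y, hy⟩ := hq (↑hx.unit⁻¹ : C)
  have h1 : q (x * y - 1) = 0 := by
    rw [map_sub, map_mul, map_one, hy, IsUnit.mul_val_inv, sub_self]
  have h2 : IsNilpotent (x * y - 1) := hker _ h1
  have h3 : IsUnit (x * y) := by
    have := h2.isUnit_add_one
    simpa using this
  exact isUnit_of_mul_isUnit_left h3

/-- Lifting standard smooth algebras along a quotient by a nilpotent ideal. -/
theorem liftStd {R : Type u} [CommRing R] (I : Ideal R) (hI : IsNilpotent I)
    {Bb : Type u} [CommRing Bb] [Algebra (R ⧸ I) Bb] [Algebra.IsStandardSmooth (R ⧸ I) Bb] :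
    ∃ (B : Type u) (_ : CommRing B) (_ : Algebra R B), Algebra.IsStandardSmooth R B ∧
      ∃ q : B →+* Bb, Function.Surjective q ∧
        (∀ r : R, q (algebraMap R B r) = algebraMap (R ⧸ I) Bb (Ideal.Quotient.mk I r)) ∧
        RingHom.ker q ≤ I.map (algebraMap R B) := by
  classical
  obtain ⟨ι, σ, hσ, hι, ⟨P⟩⟩ := (inferInstance : Algebra.IsStandardSmooth (R ⧸ I) Bb).out
  haveI := Fintype.ofFinite σ
  have hsurj : Function.Surjective (MvPolynomial.map (σ := ι) (Ideal.Quotient.mk I)) :=
    MvPolynomial.map_surjective _ Ideal.Quotient.mk_surjective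
  choose v hv using fun j : σ => hsurj (P.relation j)
  let Q := Algebra.PreSubmersivePresentation.naive (R := R) (v := v) P.map P.map_inj
  let q0 : MvPolynomial ι R →+* Bb :=
    (aeval P.val : MvPolynomial ι (R ⧸ I) →ₐ[R ⧸ I] Bb).toRingHom.comp
      (MvPolynomial.map (Ideal.Quotient.mk I))
  have hq0 : ∀ x ∈ Ideal.span (Set.range v), q0 x = 0 := by
    intro x hx
    have : Ideal.span (Set.range v) ≤ RingHom.ker q0 := by
      rw [Ideal.span_le]
      rintro _ ⟨j, rfl⟩
      change q0 (v j) = 0
      simp only [q0, RingHom.comp_apply, hv]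
      exact P.aeval_val_relation j
    exact this hx
  let q : (MvPolynomial ι R ⧸ Ideal.span (Set.range v)) →+* Bb :=
    Ideal.Quotient.lift _ q0 hq0
  have hqsurj : Function.Surjective q := by
    apply Ideal.Quotient.lift_surjective_of_surjective
    intro b
    obtain ⟨p, hp⟩ := P.algebraMap_surjective b
    obtain ⟨p', rfl⟩ := hsurj p
    rw [Algebra.Generators.algebraMap_apply] at hp
    exact ⟨p', hp⟩
  have hker : RingHom.ker q ≤ I.map (algebraMap R (MvPolynomial ι R ⧸ Ideal.span (Set.range v))) := by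
    intro x hx
    obtain ⟨p, rfl⟩ := Ideal.Quotient.mk_surjective x
    have h1 : aeval P.val (MvPolynomial.map (Ideal.Quotient.mk I) p) = 0 := hx
    have h2 : MvPolynomial.map (Ideal.Quotient.mk I) p ∈ Ideal.span (Set.range P.relation) := by
      rw [P.span_range_relation_eq_ker]
      change algebraMap P.Ring Bb _ = 0
      rw [Algebra.Generators.algebraMap_apply]
      exact h1
    have h3 : Ideal.span (Set.range P.relation) =
        Ideal.map (MvPolynomial.map (σ := ι) (Ideal.Quotient.mk I)) (Ideal.span (Set.range v)) := by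
      rw [Ideal.map_span]
      congr 1
      ext y
      constructor
      · rintro ⟨j, rfl⟩
        exact ⟨v j, ⟨j, rfl⟩, hv j⟩
      · rintro ⟨_, ⟨j, rfl⟩, rfl⟩
        exact ⟨j, (hv j).symm⟩
    rw [h3, Ideal.mem_map_iff_of_surjective _ hsurj] at h2
    obtain ⟨p', hp', hpp'⟩ := h2
    have h4 : p - p' ∈ RingHom.ker (MvPolynomial.map (σ := ι) (Ideal.Quotient.mk I)) := by
      rw [RingHom.mem_ker, map_sub, hpp', sub_self]
    rw [MvPolynomial.ker_map, Ideal.mk_ker] at h4
    have h5 : Ideal.Quotient.mk (Ideal.span (Set.range v)) p =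
        Ideal.Quotient.mk (Ideal.span (Set.range v)) (p - p') := by
      rw [map_sub, Ideal.Quotient.eq_zero_iff_mem.mpr hp', sub_zero]
    rw [h5]
    have h6 : (algebraMap R (MvPolynomial ι R ⧸ Ideal.span (Set.range v))) =
        (Ideal.Quotient.mk (Ideal.span (Set.range v))).comp (C (σ := ι)) := rfl
    rw [h6, ← Ideal.map_map]
    exact Ideal.mem_map_of_mem _ h4
  have hnil : ∀ x ∈ RingHom.ker q, IsNilpotent x := by
    intro x hx
    obtain ⟨n, hn⟩ := hI
    refine ⟨n, ?_⟩
    have : x ^ n ∈ (I.map (algebraMap R (MvPolynomial ι R ⧸ Ideal.span (Set.range v)))) ^ n :=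
      Ideal.pow_mem_pow (hker hx) n
    rw [← Ideal.map_pow, hn, Ideal.zero_eq_bot, Ideal.map_bot] at this
    exact this
  have hq_mk : ∀ p : MvPolynomial ι R, q (Ideal.Quotient.mk _ p) =
      aeval P.val (MvPolynomial.map (Ideal.Quotient.mk I) p) := fun p => rfl
  have hdet : MvPolynomial.map (Ideal.Quotient.mk I) Q.jacobiMatrix.det = P.jacobiMatrix.det := by
    rw [RingHom.map_det]
    congr 1
    ext i j : 1
    rw [RingHom.mapMatrix_apply, Matrix.map_apply,
      Algebra.PreSubmersivePresentation.jacobiMatrix_apply,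
      Algebra.PreSubmersivePresentation.jacobiMatrix_apply, ← MvPolynomial.pderiv_map]
    have : MvPolynomial.map (Ideal.Quotient.mk I) (Q.relation j) = P.relation j := hv j
    rw [this]
    rfl
  have hjac : q Q.jacobian = P.jacobian := by
    rw [Algebra.PreSubmersivePresentation.jacobian_eq_jacobiMatrix_det,
      Algebra.PreSubmersivePresentation.jacobian_eq_jacobiMatrix_det]
    rw [Algebra.Generators.algebraMap_apply (P := P.toGenerators),
      show algebraMap Q.Ring (MvPolynomial ι R ⧸ Ideal.span (Set.range v)) =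
        Ideal.Quotient.mk _ from rfl, hq_mk, hdet]
  have hunit : IsUnit Q.jacobian := by
    apply isUnit_of_map_of_ker_nilpotent q hqsurj hnil
    rw [hjac]
    exact P.jacobian_isUnit
  let Q' : Algebra.SubmersivePresentation R _ ι σ := { Q with jacobian_isUnit := hunit }
  refine ⟨MvPolynomial ι R ⧸ Ideal.span (Set.range v), inferInstance, inferInstance,
    Q'.isStandardSmooth, q, hqsurj, ?_, hker⟩
  intro r
  change q0 (C r) = _
  simp only [q0, RingHom.comp_apply, MvPolynomial.map_C]
  exact (aeval P.val).commutes _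


/-- An ind-smooth algebra: every map from a finitely presented algebra factors through a
*standard* smooth algebra. -/
theorem indSmooth_std {R Λ : Type u} [CommRing R] [CommRing Λ] [Algebra R Λ]
    (h : Smoothing.IndSmooth R Λ) (A : Type u) [CommRing A] [Algebra R A]
    [Algebra.FinitePresentation R A] (f : A →ₐ[R] Λ) :
    ∃ (B : Type u) (_ : CommRing B) (_ : Algebra R B), Algebra.IsStandardSmooth R B ∧
      ∃ (g : A →ₐ[R] B) (k : B →ₐ[R] Λ), k.comp g = f := by
  obtain ⟨B₀, _, _, hsm, g₀, h₀, hgh⟩ := h A inferInstance f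
  obtain ⟨B, _, _, _, _, hsm', ⟨ρ⟩, hstd⟩ := Groth.Agent.S2025.result (R := R) (A := B₀)
  refine ⟨B, inferInstance, inferInstance, hstd, (IsScalarTower.toAlgHom R B₀ B).comp g₀,
    h₀.comp (ρ.restrictScalars R), ?_⟩
  ext a
  simp [← hgh]

/-- Elements of an extended ideal are finite combinations. -/
theorem exists_decomp_of_mem_map {R Λ : Type*} [CommRing R] [CommRing Λ] [Algebra R Λ]
    (I : Ideal R) {x : Λ} (hx : x ∈ I.map (algebraMap R Λ)) :
    ∃ (N : ℕ) (ε : Fin N → R) (μ : Fin N → Λ), (∀ k, ε k ∈ I) ∧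
      x = ∑ k, algebraMap R Λ (ε k) * μ k := by
  rw [Ideal.map, Ideal.span, Submodule.mem_span_set'] at hx
  obtain ⟨N, f, g, rfl⟩ := hx
  choose ε hε hεg using fun k => (g k).2
  refine ⟨N, ε, f, hε, ?_⟩
  refine Finset.sum_congr rfl fun k _ => ?_
  rw [hεg, smul_eq_mul, mul_comm]

end Groth.Agent.Lib.Helper22.Pop
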