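import Mathlib
import Groth.Prelude.Def_Smoothing
import Groth.Agent.Lib.Helper22.PopA

set_option linter.style.haveILetI false
set_option linter.unusedSectionVars false

universe u

namespace Groth.Agent.Lib.Helper22.Pop

open MvPolynomial

/-- The map induced on quotients by `I`, as an `R ⧸ I`-algebra map. -/
noncomputable def quotMapBar {R A Λ : Type*} [CommRing R] [CommRing A] [CommRing Λ] [Algebra R A]
    [Algebra R Λ] (I : Ideal R) (φ : A →ₐ[R] Λ) :
    (A ⧸ I.map (algebraMap R A)) →ₐ[R ⧸ I] (Λ ⧸ I.map (algebraMap R Λ)) :=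
  { Ideal.quotientMap (I.map (algebraMap R Λ)) φ.toRingHom (by
      rw [← Ideal.map_le_iff_le_comap, Ideal.map_map]
      have : φ.toRingHom.comp (algebraMap R A) = algebraMap R Λ := φ.comp_algebraMap
      rw [this]) with
    commutes' := by
      intro x
      obtain ⟨r, rfl⟩ := Ideal.Quotient.mk_surjective x
      change Ideal.quotientMap _ _ _ (Ideal.Quotient.mk _ (algebraMap R A r)) =
        Ideal.Quotient.mk _ (algebraMap R Λ r)
      rw [Ideal.quotientMap_mk]
      simp }

@[simp] theorem quotMapBar_mk {R A Λ : Type*} [CommRing R] [CommRing A] [CommRing Λ] [Algebra R A]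
    [Algebra R Λ] (I : Ideal R) (φ : A →ₐ[R] Λ) (a : A) :
    quotMapBar I φ (Ideal.Quotient.mk _ a) = Ideal.Quotient.mk _ (φ a) := rfl

theorem finitePresentation_quot {R A : Type*} [CommRing R] [CommRing A] [Algebra R A]
    [Algebra.FinitePresentation R A] (I : Ideal R) :
    Algebra.FinitePresentation (R ⧸ I) (A ⧸ I.map (algebraMap R A)) :=
  Algebra.FinitePresentation.equiv (Algebra.TensorProduct.quotIdealMapEquivQuotTensor A I).symm

/-- Evaluation of polynomials over `B` as an `R`-algebra map. -/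
noncomputable def evalAlg {R B Λ T : Type*} [CommRing R] [CommRing B] [CommRing Λ] [Algebra R B]
    [Algebra R Λ] (ψ : B →ₐ[R] Λ) (μ : T → Λ) : MvPolynomial T B →ₐ[R] Λ :=
  { MvPolynomial.eval₂Hom ψ.toRingHom μ with
    commutes' := by
      intro r
      change MvPolynomial.eval₂Hom ψ.toRingHom μ (algebraMap R (MvPolynomial T B) r) = _
      rw [MvPolynomial.algebraMap_apply]
      simp }

@[simp] theorem evalAlg_C {R B Λ T : Type*} [CommRing R] [CommRing B] [CommRing Λ] [Algebra R B]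
    [Algebra R Λ] (ψ : B →ₐ[R] Λ) (μ : T → Λ) (b : B) : evalAlg ψ μ (C b) = ψ b := by
  change MvPolynomial.eval₂Hom ψ.toRingHom μ (C b) = _
  simp

@[simp] theorem evalAlg_X {R B Λ T : Type*} [CommRing R] [CommRing B] [CommRing Λ] [Algebra R B]
    [Algebra R Λ] (ψ : B →ₐ[R] Λ) (μ : T → Λ) (t : T) : evalAlg ψ μ (X t) = μ t := by
  change MvPolynomial.eval₂Hom ψ.toRingHom μ (X t) = _
  simp

theorem smooth_mvPolynomial {R B T : Type*} [CommRing R] [CommRing B] [Algebra R B]
    [Algebra.Smooth R B] [Finite T] : Algebra.Smooth R (MvPolynomial T B) :=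
  haveI : Algebra.Smooth B (MvPolynomial T B) := ⟨inferInstance, inferInstance⟩
  Algebra.Smooth.comp R B (MvPolynomial T B)


/-- `I ^ 2 = ⊥` implies the extended ideal squares to zero. -/
theorem map_sq_eq_bot {R Λ : Type*} [CommRing R] [CommRing Λ] [Algebra R Λ] (I : Ideal R)
    (hI : I ^ 2 = ⊥) : (I.map (algebraMap R Λ)) ^ 2 = ⊥ := by
  rw [← Ideal.map_pow, hI, Ideal.map_bot]

theorem lift_once {R Λ A : Type u} [CommRing R] [CommRing Λ] [Algebra R Λ] (I : Ideal R)
    (hI : I ^ 2 = ⊥) (h : Smoothing.IndSmooth (R ⧸ I) (Λ ⧸ I.map (algebraMap R Λ)))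
    [CommRing A] [Algebra R A] [Algebra.FinitePresentation R A] (φ : A →ₐ[R] Λ) :
    ∃ (B : Type u) (_ : CommRing B) (_ : Algebra R B), Algebra.Smooth R B ∧
      ∃ J : Ideal B, J ≤ I.map (algebraMap R B) ∧ J.FG ∧
        ∃ (g : A →ₐ[R] B ⧸ J) (k : (B ⧸ J) →ₐ[R] Λ), k.comp g = φ := by
  classical
  haveI := finitePresentation_quot (A := A) I
  obtain ⟨Bb, _, _, hBb, gb, kb, hgk⟩ := indSmooth_std h _ (quotMapBar I φ)
  obtain ⟨B, _, _, hB, q, hqsurj, hqalg, hqker⟩ := liftStd I ⟨2, hI⟩ (Bb := Bb)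
  -- the map `B → Λ ⧸ IΛ` as an `R`-algebra map
  let ψb : B →ₐ[R] (Λ ⧸ I.map (algebraMap R Λ)) :=
    { kb.toRingHom.comp q with
      commutes' := by
        intro r
        change kb (q (algebraMap R B r)) = _
        rw [hqalg, kb.commutes]
        rfl }
  obtain ⟨ψ, hψ⟩ := Algebra.FormallySmooth.exists_lift (I.map (algebraMap R Λ))
    ⟨2, map_sq_eq_bot I hI⟩ ψb
  have hψ' : ∀ b, Ideal.Quotient.mk (I.map (algebraMap R Λ)) (ψ b) = kb (q b) := fun b =>
    AlgHom.congr_fun hψ b
  -- presentation of A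
  obtain ⟨n, π, hπsurj, hπker⟩ := Algebra.FinitePresentation.out (R := R) (A := A)
  choose b hb using fun i : Fin n => hqsurj (gb (Ideal.Quotient.mk _ (π (X i))))
  have hd : ∀ i, φ (π (X i)) - ψ (b i) ∈ I.map (algebraMap R Λ) := by
    intro i
    have h1 := AlgHom.congr_fun hgk (Ideal.Quotient.mk _ (π (X i)))
    rw [AlgHom.comp_apply] at h1
    rw [← Ideal.Quotient.eq, hψ', hb, h1, quotMapBar_mk]
  choose N ε μ hε hεμ using fun i => exists_decomp_of_mem_map I (hd i)
  -- the enlarged smooth algebra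
  let T := Σ i : Fin n, Fin (N i)
  haveI : Algebra.Smooth R (MvPolynomial T B) := smooth_mvPolynomial
  let ψ₂ : MvPolynomial T B →ₐ[R] Λ := evalAlg ψ (fun t => μ t.1 t.2)
  let b' : Fin n → MvPolynomial T B := fun i =>
    C (b i) + ∑ j : Fin (N i), C (algebraMap R B (ε i j)) * X (⟨i, j⟩ : T)
  let g₀ : MvPolynomial (Fin n) R →ₐ[R] MvPolynomial T B := aeval b'
  have hψ₂g₀ : ψ₂.comp g₀ = φ.comp π := by
    apply MvPolynomial.algHom_ext
    intro i
    simp only [AlgHom.comp_apply, g₀, aeval_X, b', map_add, map_sum, map_mul, ψ₂, evalAlg_C,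
      evalAlg_X, AlgHom.commutes]
    rw [← hεμ i]
    ring
  let K : Ideal (MvPolynomial (Fin n) R) := RingHom.ker π.toRingHom
  let J : Ideal (MvPolynomial T B) := Ideal.map g₀ K
  have hJψ : ∀ x ∈ J, ψ₂ x = 0 := by
    have : J ≤ RingHom.ker ψ₂.toRingHom := by
      rw [Ideal.map_le_iff_le_comap]
      intro f hf
      change ψ₂ (g₀ f) = 0
      rw [← AlgHom.comp_apply, hψ₂g₀, AlgHom.comp_apply]
      have : π f = 0 := hf
      rw [this, map_zero]
    exact fun x hx => this hx
  have hJI : J ≤ I.map (algebraMap R (MvPolynomial T B)) := by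
    -- use `q₂ = map q`
    have hker : RingHom.ker (MvPolynomial.map (σ := T) q) ≤
        I.map (algebraMap R (MvPolynomial T B)) := by
      rw [MvPolynomial.ker_map]
      have : (algebraMap R (MvPolynomial T B)) = (C (σ := T)).comp (algebraMap R B) := rfl
      rw [this, ← Ideal.map_map]
      exact Ideal.map_mono hqker
    refine le_trans ?_ hker
    rw [Ideal.map_le_iff_le_comap]
    intro f hf
    change MvPolynomial.map q (g₀ f) = 0
    have hcomp : (MvPolynomial.map (σ := T) q).comp g₀.toRingHom =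
        (C (σ := T)).comp (gb.toRingHom.comp ((Ideal.Quotient.mk _).comp π.toRingHom)) := by
      apply MvPolynomial.ringHom_ext
      · intro r
        simp only [RingHom.comp_apply, AlgHom.toRingHom_eq_coe, RingHom.coe_coe]
        rw [← MvPolynomial.algebraMap_eq, AlgHom.commutes, AlgHom.commutes,
          MvPolynomial.algebraMap_apply, MvPolynomial.map_C, hqalg]
        congr 1
        exact (gb.commutes (Ideal.Quotient.mk I r)).symm
      · intro i
        simp only [RingHom.comp_apply, AlgHom.toRingHom_eq_coe, RingHom.coe_coe, g₀, aeval_X, b',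
          map_add, map_sum, map_mul, MvPolynomial.map_C, MvPolynomial.map_X, hqalg, hb]
        have : ∀ j : Fin (N i), Ideal.Quotient.mk I (ε i j) = 0 := fun j =>
          Ideal.Quotient.eq_zero_iff_mem.mpr (hε i j)
        simp [this]
    have := RingHom.congr_fun hcomp f
    simp only [RingHom.comp_apply, AlgHom.toRingHom_eq_coe, RingHom.coe_coe] at this
    rw [this]
    have hf' : π f = 0 := hf
    rw [hf', map_zero, map_zero, map_zero]
  refine ⟨MvPolynomial T B, inferInstance, inferInstance, inferInstance, J, hJI,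
    Ideal.FG.map hπker _, ?_⟩
  let k : (MvPolynomial T B ⧸ J) →ₐ[R] Λ := Ideal.Quotient.liftₐ J ψ₂ hJψ
  let g : A →ₐ[R] (MvPolynomial T B ⧸ J) :=
    AlgHom.liftOfSurjective π hπsurj ((Ideal.Quotient.mkₐ R J).comp g₀) (by
      intro f hf
      change Ideal.Quotient.mk J (g₀ f) = 0
      rw [Ideal.Quotient.eq_zero_iff_mem]
      exact Ideal.mem_map_of_mem _ hf)
  refine ⟨g, k, ?_⟩
  ext a
  obtain ⟨p, rfl⟩ := hπsurj a
  rw [AlgHom.comp_apply, AlgHom.liftOfSurjective_apply]
  change k (Ideal.Quotient.mk J (g₀ p)) = _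
  change ψ₂ (g₀ p) = _
  rw [← AlgHom.comp_apply, hψ₂g₀, AlgHom.comp_apply]

end Groth.Agent.Lib.Helper22.Pop
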