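import Mathlib
import Groth.Prelude.Def_Smoothing
import Groth.Agent.Lib.Helper22.PopB

set_option linter.style.haveILetI false
set_option linter.unusedSectionVars false

universe u

namespace Groth.Agent.Lib.Helper22.Pop

open MvPolynomial

theorem algebraMap_mul_eq_zero {R B : Type*} [CommRing R] [CommRing B] [Algebra R B] (I : Ideal R)
    (hI : I ^ 2 = ⊥) {ε : R} (hε : ε ∈ I) {δ : B} (hδ : δ ∈ I.map (algebraMap R B)) :
    algebraMap R B ε * δ = 0 := by
  have h1 : algebraMap R B ε * δ ∈ (I.map (algebraMap R B)) ^ 2 := by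
    rw [pow_two]
    exact Ideal.mul_mem_mul (Ideal.mem_map_of_mem _ hε) hδ
  rw [map_sq_eq_bot I hI] at h1
  exact h1

/-- Two algebra maps agreeing modulo `IΛ` agree on `IB` when `I ^ 2 = ⊥`. -/
theorem eq_of_sub_mem_of_mem_map {R B Λ : Type*} [CommRing R] [CommRing B] [CommRing Λ]
    [Algebra R B] [Algebra R Λ] (I : Ideal R) (hI : I ^ 2 = ⊥) (f g : B →ₐ[R] Λ)
    (hfg : ∀ b, f b - g b ∈ I.map (algebraMap R Λ)) {x : B} (hx : x ∈ I.map (algebraMap R B)) :
    f x = g x := by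
  obtain ⟨N, ε, μ, hε, rfl⟩ := exists_decomp_of_mem_map I hx
  rw [map_sum, map_sum]
  refine Finset.sum_congr rfl fun k _ => ?_
  rw [map_mul, map_mul, AlgHom.commutes, AlgHom.commutes, ← sub_eq_zero, ← mul_sub]
  exact algebraMap_mul_eq_zero I hI (hε k) (hfg _)

/-- Lifting a map from a formally smooth algebra along a surjection with kernel in `IB'`. -/
theorem exists_lift_along {R : Type*} [CommRing R] (I : Ideal R) (hI : IsNilpotent I)
    {B B' Bb : Type*} [CommRing B] [Algebra R B] [Algebra.FormallySmooth R B] [CommRing B']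
    [Algebra R B'] [CommRing Bb] [Algebra (R ⧸ I) Bb] (q : B' →+* Bb)
    (hq : Function.Surjective q)
    (hqalg : ∀ r, q (algebraMap R B' r) = algebraMap (R ⧸ I) Bb (Ideal.Quotient.mk I r))
    (hker : RingHom.ker q ≤ I.map (algebraMap R B')) (f : B →+* Bb)
    (hf : ∀ r, f (algebraMap R B r) = algebraMap (R ⧸ I) Bb (Ideal.Quotient.mk I r)) :
    ∃ α : B →ₐ[R] B', ∀ b, q (α b) = f b := by
  letI : Algebra R Bb := ((algebraMap (R ⧸ I) Bb).comp (Ideal.Quotient.mk I)).toAlgebra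
  let q' : B' →ₐ[R] Bb := { q with commutes' := hqalg }
  let f' : B →ₐ[R] Bb := { f with commutes' := hf }
  have hnil : IsNilpotent (RingHom.ker (q' : B' →+* Bb)) := by
    obtain ⟨n, hn⟩ := hI
    refine ⟨n, ?_⟩
    rw [Ideal.zero_eq_bot, eq_bot_iff]
    refine le_trans (Ideal.pow_right_mono (show RingHom.ker (q' : B' →+* Bb) ≤ _ from hker) n) ?_
    rw [← Ideal.map_pow, hn, Ideal.zero_eq_bot, Ideal.map_bot]
  refine ⟨Algebra.FormallySmooth.liftOfSurjective f' q' hq hnil, fun b => ?_⟩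
  exact Algebra.FormallySmooth.liftOfSurjective_apply f' q' hq hnil b


/-- Key factorization lemma: a map from a finitely presented algebra `C` to `Λ` factors modulo `I`
through a smooth `R`-algebra `B'`, compatibly with a given formally smooth `B → C`. -/
theorem factor_lemma {R Λ B Cc : Type u} [CommRing R] [CommRing Λ] [Algebra R Λ]
    (I : Ideal R) (hI : I ^ 2 = ⊥) (h : Smoothing.IndSmooth (R ⧸ I) (Λ ⧸ I.map (algebraMap R Λ)))
    [CommRing B] [Algebra R B] [Algebra.FormallySmooth R B]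
    [CommRing Cc] [Algebra R Cc] [Algebra.FinitePresentation R Cc]
    (χ : Cc →ₐ[R] Λ) (ι : B →ₐ[R] Cc) :
    ∃ (B' : Type u) (_ : CommRing B') (_ : Algebra R B'), Algebra.Smooth R B' ∧
      ∃ (α : B →ₐ[R] B') (β : B' →ₐ[R] Λ) (θ : Cc →ₐ[R] B' ⧸ I.map (algebraMap R B')),
        (∀ b, Ideal.Quotient.mk _ (α b) = θ (ι b)) ∧
        (∀ c, quotMapBar I β (θ c) = Ideal.Quotient.mk _ (χ c)) := by
  classical
  haveI := finitePresentation_quot (A := Cc) I
  obtain ⟨Bb, _, _, hBb, gb, kb, hgk⟩ := indSmooth_std h _ (quotMapBar I χ)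
  obtain ⟨B', _, _, hB', q, hqsurj, hqalg, hqker⟩ := liftStd I ⟨2, hI⟩ (Bb := Bb)
  -- β
  let ψb : B' →ₐ[R] (Λ ⧸ I.map (algebraMap R Λ)) :=
    { kb.toRingHom.comp q with
      commutes' := by
        intro r
        change kb (q (algebraMap R B' r)) = _
        rw [hqalg, kb.commutes]
        rfl }
  obtain ⟨β, hβ⟩ := Algebra.FormallySmooth.exists_lift (I.map (algebraMap R Λ))
    ⟨2, map_sq_eq_bot I hI⟩ ψb
  have hβ' : ∀ b, Ideal.Quotient.mk (I.map (algebraMap R Λ)) (β b) = kb (q b) := fun b =>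
    AlgHom.congr_fun hβ b
  -- α
  let f : B →+* Bb := gb.toRingHom.comp ((Ideal.Quotient.mk _).comp ι.toRingHom)
  have hf : ∀ r, f (algebraMap R B r) = algebraMap (R ⧸ I) Bb (Ideal.Quotient.mk I r) := by
    intro r
    change gb (Ideal.Quotient.mk _ (ι (algebraMap R B r))) = _
    rw [ι.commutes]
    exact gb.commutes (Ideal.Quotient.mk I r)
  obtain ⟨α, hα⟩ := exists_lift_along I ⟨2, hI⟩ q hqsurj hqalg hqker f hf
  -- θ
  let s : Bb →+* B' ⧸ I.map (algebraMap R B') :=
    RingHom.liftOfSurjective q hqsurj ⟨Ideal.Quotient.mk _, by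
      intro x hx
      rw [RingHom.mem_ker, Ideal.Quotient.eq_zero_iff_mem]
      exact hqker hx⟩
  have hs : ∀ b', s (q b') = Ideal.Quotient.mk _ b' := fun b' =>
    RingHom.liftOfRightInverse_comp_apply _ _ _ _ b'
  let θ : Cc →ₐ[R] B' ⧸ I.map (algebraMap R B') :=
    { s.comp (gb.toRingHom.comp (Ideal.Quotient.mk _)) with
      commutes' := by
        intro r
        change s (gb (Ideal.Quotient.mk _ (algebraMap R Cc r))) = _
        have : gb (Ideal.Quotient.mk _ (algebraMap R Cc r)) =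
            algebraMap (R ⧸ I) Bb (Ideal.Quotient.mk I r) := gb.commutes (Ideal.Quotient.mk I r)
        rw [this, ← hqalg, hs]
        rfl }
  have hθ : ∀ c, θ c = s (gb (Ideal.Quotient.mk _ c)) := fun c => rfl
  refine ⟨B', inferInstance, inferInstance, inferInstance, α, β, θ, ?_, ?_⟩
  · intro b
    rw [hθ, ← hs, hα]
    rfl
  · intro c
    rw [hθ]
    obtain ⟨b', hb'⟩ := hqsurj (gb (Ideal.Quotient.mk _ c))
    rw [← hb', hs, quotMapBar_mk, hβ', hb']
    have h1 := AlgHom.congr_fun hgk (Ideal.Quotient.mk _ c)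
    rw [AlgHom.comp_apply] at h1
    rw [h1, quotMapBar_mk]


theorem lift_twice_single {R Λ B : Type u} [CommRing R] [CommRing Λ] [Algebra R Λ]
    [Module.Flat R Λ] (I : Ideal R) (hI : I ^ 2 = ⊥)
    (h : Smoothing.IndSmooth (R ⧸ I) (Λ ⧸ I.map (algebraMap R Λ)))
    [CommRing B] [Algebra R B] [Algebra.Smooth R B] (φ : B →ₐ[R] Λ) (x : B)
    (hx : x ∈ I.map (algebraMap R B)) (hφx : φ x = 0) :
    ∃ (B' : Type u) (_ : CommRing B') (_ : Algebra R B'), Algebra.Smooth R B' ∧
      ∃ (α : B →ₐ[R] B') (β : B' →ₐ[R] Λ), α x = 0 ∧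
        ∀ b : B, β (α b) - φ b ∈ I.map (algebraMap R Λ) := by
  classical
  obtain ⟨N, ε, b, hε, rfl⟩ := exists_decomp_of_mem_map I hx
  have hrel : ∑ i, ε i • φ (b i) = 0 := by
    rw [← hφx, map_sum]
    refine Finset.sum_congr rfl fun i _ => ?_
    rw [map_mul, AlgHom.commutes, Algebra.smul_def]
  obtain ⟨k, a, y, hy, ha⟩ := Module.Flat.isTrivialRelation_of_sum_smul_eq_zero (R := R) (M := Λ)
    (f := ε) (x := fun i => φ (b i)) (by exact hrel)
  replace hy : ∀ i, φ (b i) = ∑ j, a i j • y j := hy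
  let rel : Fin N → MvPolynomial (Fin k) B := fun i =>
    C (b i) - ∑ j, C (algebraMap R B (a i j)) * X j
  haveI : Algebra.FinitePresentation R (MvPolynomial (Fin k) B) :=
    (smooth_mvPolynomial (R := R) (B := B)).finitePresentation
  haveI : Algebra.FinitePresentation R (MvPolynomial (Fin k) B ⧸ Ideal.span (Set.range rel)) :=
    Algebra.FinitePresentation.quotient (Submodule.fg_span (Set.finite_range rel))
  let χ₀ : MvPolynomial (Fin k) B →ₐ[R] Λ := evalAlg φ y
  have hχ₀ : ∀ p ∈ Ideal.span (Set.range rel), χ₀ p = 0 := by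
    have : Ideal.span (Set.range rel) ≤ RingHom.ker χ₀.toRingHom := by
      rw [Ideal.span_le]
      rintro _ ⟨i, rfl⟩
      change χ₀ (rel i) = 0
      simp only [rel, χ₀, map_sub, map_sum, map_mul, evalAlg_C, evalAlg_X, AlgHom.commutes]
      rw [hy i, sub_eq_zero]
      refine Finset.sum_congr rfl fun j _ => ?_
      rw [Algebra.smul_def]
    exact fun p hp => this hp
  let χ : (MvPolynomial (Fin k) B ⧸ Ideal.span (Set.range rel)) →ₐ[R] Λ :=
    Ideal.Quotient.liftₐ _ χ₀ hχ₀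
  let ι : B →ₐ[R] (MvPolynomial (Fin k) B ⧸ Ideal.span (Set.range rel)) :=
    (Ideal.Quotient.mkₐ R _).comp (IsScalarTower.toAlgHom R B (MvPolynomial (Fin k) B))
  have hι : ∀ b, ι b = Ideal.Quotient.mk _ (C b) := fun b => rfl
  obtain ⟨B', _, _, hB', α, β, θ, hαθ, hβθ⟩ := factor_lemma I hI h χ ι
  refine ⟨B', inferInstance, inferInstance, hB', α, β, ?_, ?_⟩
  · -- α kills x
    choose ξ hξ using fun j : Fin k => Ideal.Quotient.mk_surjective
      (θ (Ideal.Quotient.mk (Ideal.span (Set.range rel)) (X j)))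
    have hδ : ∀ i, α (b i) - ∑ j, algebraMap R B' (a i j) * ξ j ∈ I.map (algebraMap R B') := by
      intro i
      rw [← Ideal.Quotient.eq, hαθ, hι]
      have h1 : Ideal.Quotient.mk (Ideal.span (Set.range rel)) (C (b i)) =
          Ideal.Quotient.mk _ (∑ j, C (algebraMap R B (a i j)) * X j) := by
        rw [Ideal.Quotient.eq]
        exact Ideal.subset_span ⟨i, rfl⟩
      rw [h1, map_sum, map_sum, map_sum]
      refine Finset.sum_congr rfl fun j _ => ?_
      rw [map_mul, map_mul, map_mul, hξ]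
      congr 1
      have h2 : Ideal.Quotient.mk (Ideal.span (Set.range rel)) (C (algebraMap R B (a i j))) =
          algebraMap R _ (a i j) := rfl
      rw [h2, θ.commutes]
      rfl
    rw [map_sum]
    have h3 : ∀ i, α (algebraMap R B (ε i) * b i) =
        ∑ j, algebraMap R B' (ε i * a i j) * ξ j := by
      intro i
      rw [map_mul, α.commutes]
      have : α (b i) = (α (b i) - ∑ j, algebraMap R B' (a i j) * ξ j) +
          ∑ j, algebraMap R B' (a i j) * ξ j := by ring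
      rw [this, mul_add, algebraMap_mul_eq_zero I hI (hε i) (hδ i), zero_add, Finset.mul_sum]
      refine Finset.sum_congr rfl fun j _ => ?_
      rw [map_mul, mul_assoc]
    rw [Finset.sum_congr rfl fun i _ => h3 i, Finset.sum_comm]
    refine Finset.sum_eq_zero fun j _ => ?_
    rw [← Finset.sum_mul, ← map_sum, ha j, map_zero, zero_mul]
  · intro b
    rw [← Ideal.Quotient.eq]
    have h1 := hβθ (ι b)
    rw [← hαθ, quotMapBar_mk] at h1
    rw [h1]
    congr 1
    change χ₀ (C b) = _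
    simp [χ₀]


theorem lift_twice_fin {R Λ : Type u} [CommRing R] [CommRing Λ] [Algebra R Λ]
    [Module.Flat R Λ] (I : Ideal R) (hI : I ^ 2 = ⊥)
    (h : Smoothing.IndSmooth (R ⧸ I) (Λ ⧸ I.map (algebraMap R Λ))) (n : ℕ) :
    ∀ (B : Type u) [CommRing B] [Algebra R B] [Algebra.Smooth R B] (φ : B →ₐ[R] Λ)
      (x : Fin n → B), (∀ i, x i ∈ I.map (algebraMap R B)) → (∀ i, φ (x i) = 0) →
    ∃ (B' : Type u) (_ : CommRing B') (_ : Algebra R B'), Algebra.Smooth R B' ∧
      ∃ (α : B →ₐ[R] B') (β : B' →ₐ[R] Λ), (∀ i, α (x i) = 0) ∧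
        ∀ b : B, β (α b) - φ b ∈ I.map (algebraMap R Λ) := by
  induction n with
  | zero =>
    intro B _ _ _ φ x _ _
    exact ⟨B, inferInstance, inferInstance, inferInstance, AlgHom.id R B, φ, fun i => i.elim0,
      fun b => by simp⟩
  | succ n ih =>
    intro B _ _ _ φ x hx hφx
    obtain ⟨B₁, _, _, hB₁, α₁, β₁, hα₁, hβ₁⟩ := lift_twice_single I hI h φ (x 0) (hx 0) (hφx 0)
    have hx₁ : ∀ i : Fin n, α₁ (x i.succ) ∈ I.map (algebraMap R B₁) := by
      intro i
      have : (I.map (algebraMap R B)).map α₁.toRingHom ≤ I.map (algebraMap R B₁) := by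
        rw [Ideal.map_map]
        have : α₁.toRingHom.comp (algebraMap R B) = algebraMap R B₁ := α₁.comp_algebraMap
        rw [this]
      exact this (Ideal.mem_map_of_mem _ (hx i.succ))
    have hφ₁ : ∀ i : Fin n, β₁ (α₁ (x i.succ)) = 0 := by
      intro i
      have := eq_of_sub_mem_of_mem_map I hI (β₁.comp α₁) φ hβ₁ (hx i.succ)
      rw [AlgHom.comp_apply] at this
      rw [this, hφx]
    obtain ⟨B₂, _, _, hB₂, α₂, β₂, hα₂, hβ₂⟩ := ih B₁ β₁ (fun i => α₁ (x i.succ)) hx₁ hφ₁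
    refine ⟨B₂, inferInstance, inferInstance, hB₂, α₂.comp α₁, β₂, ?_, ?_⟩
    · intro i
      refine Fin.cases ?_ (fun j => ?_) i
      · rw [AlgHom.comp_apply, hα₁, map_zero]
      · exact hα₂ j
    · intro b
      have : β₂ ((α₂.comp α₁) b) - φ b = (β₂ (α₂ (α₁ b)) - β₁ (α₁ b)) + (β₁ (α₁ b) - φ b) := by
        rw [AlgHom.comp_apply]; ring
      rw [this]
      exact Ideal.add_mem _ (hβ₂ _) (hβ₁ _)

theorem lift_twice {R Λ B : Type u} [CommRing R] [CommRing Λ] [Algebra R Λ] [Module.Flat R Λ]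
    (I : Ideal R) (hI : I ^ 2 = ⊥) (h : Smoothing.IndSmooth (R ⧸ I) (Λ ⧸ I.map (algebraMap R Λ)))
    [CommRing B] [Algebra R B] [Algebra.Smooth R B] (φ : B →ₐ[R] Λ) (J : Ideal B)
    (hJ : J ≤ I.map (algebraMap R B)) (hJfg : J.FG) (hφJ : ∀ x ∈ J, φ x = 0) :
    ∃ (B' : Type u) (_ : CommRing B') (_ : Algebra R B'), Algebra.Smooth R B' ∧
      ∃ (α : B →ₐ[R] B') (β : B' →ₐ[R] Λ), (∀ x ∈ J, α x = 0) ∧
        ∀ b : B, β (α b) - φ b ∈ I.map (algebraMap R Λ) := by
  obtain ⟨n, x, rfl⟩ := Submodule.fg_iff_exists_fin_generating_family.mp hJfg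
  have hmem : ∀ i, x i ∈ Ideal.span (Set.range x) := fun i => Ideal.subset_span ⟨i, rfl⟩
  obtain ⟨B', _, _, hB', α, β, hα, hβ⟩ := lift_twice_fin I hI h n B φ x (fun i => hJ (hmem i))
    (fun i => hφJ _ (hmem i))
  refine ⟨B', inferInstance, inferInstance, hB', α, β, ?_, hβ⟩
  have : Ideal.span (Set.range x) ≤ RingHom.ker α.toRingHom := by
    rw [Ideal.span_le]
    rintro _ ⟨i, rfl⟩
    exact hα i
  exact fun y hy => this hy

end Groth.Agent.Lib.Helper22.Pop
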