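import Mathlib
import Groth.Prelude.Def_Smoothing
import Groth.Agent.Lib.Helper22.PopC

set_option linter.style.haveILetI false
set_option linter.unusedSectionVars false

universe u

namespace Groth.Agent.Lib.Helper22.Pop

open MvPolynomial

/-- An `R`-linear map sends `IB` into `IB'`. -/
theorem linearMap_mem_map {R B B' : Type*} [CommRing R] [CommRing B] [CommRing B'] [Algebra R B]
    [Algebra R B'] (I : Ideal R) (ℓ : B →ₗ[R] B') {x : B} (hx : x ∈ I.map (algebraMap R B)) :
    ℓ x ∈ I.map (algebraMap R B') := by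
  obtain ⟨N, ε, μ, hε, rfl⟩ := exists_decomp_of_mem_map I hx
  rw [map_sum]
  refine Ideal.sum_mem _ fun k _ => ?_
  rw [← Algebra.smul_def, map_smul, Algebra.smul_def]
  exact Ideal.mul_mem_right _ _ (Ideal.mem_map_of_mem _ (hε k))

/-- Adding a square-zero "derivation" to an algebra map gives an algebra map. -/
noncomputable def addDer {R B S : Type*} [CommRing R] [CommRing B] [CommRing S] [Algebra R B]
    [Algebra R S] (f : B →ₐ[R] S) (δ : B →ₗ[R] S) (h1 : δ 1 = 0)
    (hmul : ∀ a b, δ (a * b) = f a * δ b + f b * δ a) (hsq : ∀ a b, δ a * δ b = 0) :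
    B →ₐ[R] S :=
  AlgHom.ofLinearMap (f.toLinearMap + δ) (by simp [h1]) (by
    intro a b
    simp only [LinearMap.add_apply, AlgHom.toLinearMap_apply, map_mul, hmul]
    have := hsq a b
    linear_combination -this)

@[simp] theorem addDer_apply {R B S : Type*} [CommRing R] [CommRing B] [CommRing S] [Algebra R B]
    [Algebra R S] (f : B →ₐ[R] S) (δ : B →ₗ[R] S) (h1 : δ 1 = 0)
    (hmul : ∀ a b, δ (a * b) = f a * δ b + f b * δ a) (hsq : ∀ a b, δ a * δ b = 0) (b : B) :
    addDer f δ h1 hmul hsq b = f b + δ b := rfl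


theorem sq_mem_eq_zero {R Λ : Type*} [CommRing R] [CommRing Λ] [Algebra R Λ] (I : Ideal R)
    (hI : I ^ 2 = ⊥) {x y : Λ} (hx : x ∈ I.map (algebraMap R Λ)) (hy : y ∈ I.map (algebraMap R Λ)) :
    x * y = 0 := by
  have h1 : x * y ∈ (I.map (algebraMap R Λ)) ^ 2 := by
    rw [pow_two]
    exact Ideal.mul_mem_mul hx hy
  rw [map_sq_eq_bot I hI] at h1
  exact h1

/-- Decomposition of derivations out of a smooth algebra: there are finitely many derivations
`∂ l : B → B` such that any derivation `D'` into a `B`-module `M` whose values lie in a submodule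
`M'` has the form `D' b = ∑ l, ∂ l b • ξ l` with `ξ l ∈ M'`. -/
theorem der_decomp (R B : Type*) [CommRing R] [CommRing B] [Algebra R B] [Algebra.Smooth R B] :
    ∃ (n : ℕ) (der : Fin n → Derivation R B B), ∀ (M : Type*) [AddCommGroup M] [Module R M]
      [Module B M] [IsScalarTower R B M] (D' : Derivation R B M) (M' : Submodule B M),
      (∀ b, D' b ∈ M') → ∃ ξ : Fin n → M, (∀ l, ξ l ∈ M') ∧ ∀ b, D' b = ∑ l, der l b • ξ l := by
  haveI : Algebra.FinitePresentation R B := Algebra.Smooth.finitePresentation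
  haveI : Algebra.FormallySmooth R B := Algebra.Smooth.formallySmooth
  obtain ⟨n, p, i, -, -, hpi⟩ := Module.Finite.exists_comp_eq_id_of_projective B (Ω[B⁄R])
  refine ⟨n, fun l => ((LinearMap.proj l).comp i).compDer (KaehlerDifferential.D R B), ?_⟩
  intro M _ _ _ _ D' M' hD'
  have hlift : ∀ ω : Ω[B⁄R], D'.liftKaehlerDifferential ω ∈ M' := by
    intro ω
    have hω : ω ∈ Submodule.span B (Set.range (KaehlerDifferential.D R B)) := by
      rw [KaehlerDifferential.span_range_derivation]; trivial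
    induction hω using Submodule.span_induction with
    | mem x hx =>
      obtain ⟨b, rfl⟩ := hx
      rw [Derivation.liftKaehlerDifferential_comp_D]
      exact hD' b
    | zero => rw [map_zero]; exact M'.zero_mem
    | add x y _ _ hx hy => rw [map_add]; exact M'.add_mem hx hy
    | smul c x _ hx => rw [map_smul]; exact M'.smul_mem c hx
  refine ⟨fun l => D'.liftKaehlerDifferential (p (Pi.single l 1)), fun l => hlift _, fun b => ?_⟩
  have h1 : KaehlerDifferential.D R B b = p (i (KaehlerDifferential.D R B b)) :=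
    (LinearMap.congr_fun hpi _).symm
  have h2 : i (KaehlerDifferential.D R B b) =
      ∑ l, (i (KaehlerDifferential.D R B b) l) • (Pi.single l (1 : B) : Fin n → B) := by
    ext l'
    simp [Finset.sum_apply, Pi.single_apply]
  rw [← Derivation.liftKaehlerDifferential_comp_D D' b, h1, h2, map_sum, map_sum]
  refine Finset.sum_congr rfl fun l _ => ?_
  rw [map_smul, map_smul]
  rfl


/-- Correcting a factorization which commutes only modulo `I` to one which commutes. -/
theorem correct {R Λ B B' : Type u} [CommRing R] [CommRing Λ] [Algebra R Λ] (I : Ideal R)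
    (hI : I ^ 2 = ⊥) [CommRing B] [Algebra R B] [Algebra.Smooth R B] [CommRing B'] [Algebra R B']
    [Algebra.Smooth R B'] (φ : B →ₐ[R] Λ) (α : B →ₐ[R] B') (β : B' →ₐ[R] Λ)
    (hβα : ∀ b, β (α b) - φ b ∈ I.map (algebraMap R Λ)) :
    ∃ (B'' : Type u) (_ : CommRing B'') (_ : Algebra R B''), Algebra.Smooth R B'' ∧
      ∃ (α'' : B →ₐ[R] B'') (β'' : B'' →ₐ[R] Λ), β''.comp α'' = φ ∧
        ∀ x ∈ I.map (algebraMap R B), α x = 0 → α'' x = 0 := by
  classical
  obtain ⟨n, der, hder⟩ := der_decomp R B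
  letI : Algebra B Λ := φ.toRingHom.toAlgebra
  haveI : IsScalarTower R B Λ := IsScalarTower.of_algebraMap_eq (fun r => (φ.commutes r).symm)
  have hsmul : ∀ (b : B) (x : Λ), b • x = φ b * x := fun b x => rfl
  have hD0 : ∀ b, φ b - β (α b) ∈ I.map (algebraMap R Λ) := fun b => by
    rw [← neg_sub]; exact Ideal.neg_mem_iff _ |>.mpr (hβα b)
  let D : Derivation R B Λ :=
    { toLinearMap := φ.toLinearMap - (β.comp α).toLinearMap
      map_one_eq_zero' := by simp
      leibniz' := by
        intro a b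
        simp only [LinearMap.sub_apply, AlgHom.toLinearMap_apply, AlgHom.comp_apply, map_mul,
          hsmul]
        have := sq_mem_eq_zero I hI (hD0 a) (hD0 b)
        linear_combination -this }
  have hDapp : ∀ b, D b = φ b - β (α b) := fun b => rfl
  let M' : Submodule B Λ := (I.map (algebraMap R Λ)).restrictScalars B
  obtain ⟨ξ, hξ, hDξ⟩ := hder Λ D M' (fun b => hD0 b)
  replace hξ : ∀ l, ξ l ∈ I.map (algebraMap R Λ) := hξ
  choose N ε μ hε hεμ using fun l => exists_decomp_of_mem_map I (hξ l)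
  let T := Σ l : Fin n, Fin (N l)
  haveI : Algebra.Smooth R (MvPolynomial T B') := smooth_mvPolynomial
  let β'' : MvPolynomial T B' →ₐ[R] Λ := evalAlg β (fun t => μ t.1 t.2)
  let α₀ : B →ₐ[R] MvPolynomial T B' := (IsScalarTower.toAlgHom R B' (MvPolynomial T B')).comp α
  have hα₀ : ∀ b, α₀ b = C (α b) := fun b => rfl
  let δ : B →ₗ[R] MvPolynomial T B' :=
    ∑ t : T, (LinearMap.mulLeft R (C (algebraMap R B' (ε t.1 t.2)) * X t)).comp
      (α₀.toLinearMap.comp (der t.1 : B →ₗ[R] B))
  have hδ : ∀ b, δ b = ∑ t : T, C (algebraMap R B' (ε t.1 t.2)) * X t * C (α (der t.1 b)) := by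
    intro b
    simp only [δ, LinearMap.sum_apply, LinearMap.comp_apply, LinearMap.mulLeft_apply,
      AlgHom.toLinearMap_apply, hα₀]
    rfl
  have h1 : δ 1 = 0 := by
    rw [hδ]
    refine Finset.sum_eq_zero fun t _ => ?_
    rw [Derivation.map_one_eq_zero, map_zero, map_zero, mul_zero]
  have hmul : ∀ a b, δ (a * b) = α₀ a * δ b + α₀ b * δ a := by
    intro a b
    rw [hδ, hδ, hδ, Finset.mul_sum, Finset.mul_sum, ← Finset.sum_add_distrib]
    refine Finset.sum_congr rfl fun t _ => ?_
    rw [Derivation.leibniz, hα₀, hα₀, smul_eq_mul, smul_eq_mul, map_add, map_mul, map_mul, map_add,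
      map_mul, map_mul]
    ring
  have hεε : ∀ t t' : T, algebraMap R B' (ε t.1 t.2) * algebraMap R B' (ε t'.1 t'.2) = 0 := by
    intro t t'
    exact algebraMap_mul_eq_zero I hI (hε _ _) (Ideal.mem_map_of_mem _ (hε _ _))
  have hsq : ∀ a b, δ a * δ b = 0 := by
    intro a b
    rw [hδ, hδ, Finset.sum_mul_sum]
    refine Finset.sum_eq_zero fun t _ => Finset.sum_eq_zero fun t' _ => ?_
    have : C (σ := T) (algebraMap R B' (ε t.1 t.2)) * C (algebraMap R B' (ε t'.1 t'.2)) = 0 := by
      rw [← map_mul, hεε, map_zero]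
    linear_combination (X t * C (α (der t.1 a)) * X t' * C (α (der t'.1 b))) * this
  let α'' : B →ₐ[R] MvPolynomial T B' := addDer α₀ δ h1 hmul hsq
  refine ⟨MvPolynomial T B', inferInstance, inferInstance, inferInstance, α'', β'', ?_, ?_⟩
  · ext b
    rw [AlgHom.comp_apply, addDer_apply, map_add, hα₀, hδ, map_sum]
    simp only [β'', map_mul, evalAlg_C, evalAlg_X, AlgHom.commutes]
    have h2 : φ b = β (α b) + D b := by rw [hDapp]; ring
    rw [h2, hDξ b]
    congr 1
    have h3 : ∀ l, der l b • ξ l = ∑ k : Fin (N l), algebraMap R Λ (ε l k) * μ l k *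
        β (α (der l b)) := by
      intro l
      rw [hsmul]
      have h4 : φ (der l b) * ξ l = β (α (der l b)) * ξ l := by
        rw [← sub_eq_zero, ← sub_mul]
        exact sq_mem_eq_zero I hI (hD0 _) (hξ l)
      rw [h4, hεμ l, Finset.mul_sum]
      refine Finset.sum_congr rfl fun k _ => ?_
      ring
    rw [Finset.sum_congr rfl fun l _ => h3 l, Finset.sum_sigma', Finset.univ_sigma_univ]
  · intro x hx hαx
    rw [addDer_apply, hα₀, hαx, map_zero, zero_add, hδ]
    refine Finset.sum_eq_zero fun t _ => ?_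
    have h5 : α (der t.1 x) ∈ I.map (algebraMap R B') :=
      linearMap_mem_map I (α.toLinearMap.comp (der t.1 : B →ₗ[R] B)) hx
    have h6 := algebraMap_mul_eq_zero I hI (hε t.1 t.2) h5
    have h7 : C (σ := T) (algebraMap R B' (ε t.1 t.2)) * C (α (der t.1 x)) = 0 := by
      rw [← map_mul, h6, map_zero]
    linear_combination (X t) * h7


/-- The square-zero case of lifting ind-smoothness along a nilpotent thickening. -/
theorem indSmooth_of_sq_zero {R Λ : Type u} [CommRing R] [CommRing Λ] [Algebra R Λ] (I : Ideal R)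
    (hI : I ^ 2 = ⊥) [Module.Flat R Λ]
    (h : Smoothing.IndSmooth (R ⧸ I) (Λ ⧸ I.map (algebraMap R Λ))) :
    Smoothing.IndSmooth R Λ := by
  intro A _ _ hA φ
  haveI := hA
  obtain ⟨B, _, _, hB, J, hJI, hJfg, g, k, hkg⟩ := lift_once I hI h φ
  let φB : B →ₐ[R] Λ := k.comp (Ideal.Quotient.mkₐ R J)
  have hφBJ : ∀ x ∈ J, φB x = 0 := by
    intro x hx
    change k (Ideal.Quotient.mk J x) = 0
    rw [Ideal.Quotient.eq_zero_iff_mem.mpr hx, map_zero]
  obtain ⟨B', _, _, hB', α, β, hαJ, hβα⟩ := lift_twice I hI h φB J hJI hJfg hφBJ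
  obtain ⟨B'', _, _, hB'', α'', β'', hβα'', hα''⟩ := correct I hI φB α β hβα
  have hα''J : ∀ x ∈ J, α'' x = 0 := fun x hx => hα'' x (hJI hx) (hαJ x hx)
  let αq : B ⧸ J →ₐ[R] B'' := Ideal.Quotient.liftₐ J α'' hα''J
  refine ⟨B'', inferInstance, inferInstance, hB'', αq.comp g, β'', ?_⟩
  have h1 : β''.comp αq = k := by
    apply Ideal.Quotient.algHom_ext
    ext b
    change β'' (α'' b) = k (Ideal.Quotient.mk J b)
    rw [← AlgHom.comp_apply, hβα'']
    rfl
  rw [← AlgHom.comp_assoc, h1, hkg]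

end Groth.Agent.Lib.Helper22.Pop
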