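import Mathlib
import Groth.Prelude.Def_Smoothing
import Groth.Agent.Lib.Helper22.PopD

set_option linter.style.haveILetI false
set_option linter.unusedSectionVars false

universe u

namespace Groth.Agent.Lib.Helper22.Pop

open MvPolynomial

/-- Transport of ind-smoothness along compatible ring isomorphisms. -/
theorem indSmooth_of_ringEquiv {R R' Λ Λ' : Type u} [CommRing R] [CommRing R'] [CommRing Λ]
    [CommRing Λ'] [Algebra R Λ] [Algebra R' Λ'] (e₁ : R ≃+* R') (e₂ : Λ ≃+* Λ')
    (he : ∀ r, e₂ (algebraMap R Λ r) = algebraMap R' Λ' (e₁ r)) (h : Smoothing.IndSmooth R Λ) :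
    Smoothing.IndSmooth R' Λ' := by
  intro A' _ _ hA' f'
  letI : Algebra R R' := e₁.toRingHom.toAlgebra
  letI : Algebra R A' := ((algebraMap R' A').comp e₁.toRingHom).toAlgebra
  haveI : IsScalarTower R R' A' := IsScalarTower.of_algebraMap_eq (fun r => rfl)
  haveI : Algebra.FinitePresentation R R' :=
    Algebra.FinitePresentation.equiv (AlgEquiv.ofRingEquiv (f := e₁) (fun r => rfl) : R ≃ₐ[R] R')
  haveI : Algebra.FinitePresentation R A' := Algebra.FinitePresentation.trans R R' A'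
  let f : A' →ₐ[R] Λ :=
    { e₂.symm.toRingHom.comp f'.toRingHom with
      commutes' := by
        intro r
        change e₂.symm (f' (algebraMap R' A' (e₁ r))) = _
        rw [f'.commutes, ← he, e₂.symm_apply_apply] }
  obtain ⟨B, _, _, hB, g, k, hkg⟩ := h A' inferInstance f
  letI : Algebra R' R := e₁.symm.toRingHom.toAlgebra
  letI : Algebra R' B := ((algebraMap R B).comp e₁.symm.toRingHom).toAlgebra
  haveI : IsScalarTower R' R B := IsScalarTower.of_algebraMap_eq (fun r => rfl)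
  haveI : Algebra.Smooth R' R :=
    Algebra.Smooth.of_equiv (AlgEquiv.ofRingEquiv (f := e₁.symm) (fun r => rfl) : R' ≃ₐ[R'] R)
  haveI : Algebra.Smooth R' B := Algebra.Smooth.comp R' R B
  let g' : A' →ₐ[R'] B :=
    { g.toRingHom with
      commutes' := by
        intro r'
        change g (algebraMap R' A' r') = algebraMap R B (e₁.symm r')
        rw [← g.commutes]
        change _ = g (algebraMap R' A' (e₁ (e₁.symm r')))
        rw [e₁.apply_symm_apply] }
  let k' : B →ₐ[R'] Λ' :=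
    { e₂.toRingHom.comp k.toRingHom with
      commutes' := by
        intro r'
        change e₂ (k (algebraMap R B (e₁.symm r'))) = _
        rw [k.commutes, he, e₁.apply_symm_apply] }
  refine ⟨B, inferInstance, inferInstance, inferInstance, g', k', ?_⟩
  ext a
  change e₂ (k (g a)) = f' a
  rw [← AlgHom.comp_apply, hkg]
  change e₂ (e₂.symm (f' a)) = _
  rw [e₂.apply_symm_apply]


theorem flat_quot {R Λ : Type*} [CommRing R] [CommRing Λ] [Algebra R Λ] [Module.Flat R Λ]
    (J : Ideal R) : Module.Flat (R ⧸ J) (Λ ⧸ J.map (algebraMap R Λ)) :=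
  Module.Flat.of_linearEquiv
    (Algebra.TensorProduct.quotIdealMapEquivQuotTensor Λ J).toLinearEquiv

/-- The double-quotient transport used in the induction. -/
theorem indSmooth_doubleQuot {R Λ : Type u} [CommRing R] [CommRing Λ] [Algebra R Λ]
    (I J : Ideal R) (hJI : J ≤ I)
    (h : Smoothing.IndSmooth (R ⧸ I) (Λ ⧸ I.map (algebraMap R Λ))) :
    Smoothing.IndSmooth ((R ⧸ J) ⧸ I.map (Ideal.Quotient.mk J))
      ((Λ ⧸ J.map (algebraMap R Λ)) ⧸ (I.map (Ideal.Quotient.mk J)).map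
        (algebraMap (R ⧸ J) (Λ ⧸ J.map (algebraMap R Λ)))) := by
  have hJI' : J.map (algebraMap R Λ) ≤ I.map (algebraMap R Λ) := Ideal.map_mono hJI
  have hideal : (I.map (algebraMap R Λ)).map (Ideal.Quotient.mk (J.map (algebraMap R Λ))) =
      (I.map (Ideal.Quotient.mk J)).map (algebraMap (R ⧸ J) (Λ ⧸ J.map (algebraMap R Λ))) := by
    rw [Ideal.map_map, Ideal.map_map]
    rfl
  let e₁ : R ⧸ I ≃+* (R ⧸ J) ⧸ I.map (Ideal.Quotient.mk J) :=
    (DoubleQuot.quotQuotEquivQuotOfLE hJI).symm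
  let e₂ : (Λ ⧸ I.map (algebraMap R Λ)) ≃+* ((Λ ⧸ J.map (algebraMap R Λ)) ⧸
      (I.map (Ideal.Quotient.mk J)).map (algebraMap (R ⧸ J) (Λ ⧸ J.map (algebraMap R Λ)))) :=
    (DoubleQuot.quotQuotEquivQuotOfLE hJI').symm.trans (Ideal.quotEquivOfEq hideal)
  refine indSmooth_of_ringEquiv e₁ e₂ ?_ h
  intro x
  obtain ⟨r, rfl⟩ := Ideal.Quotient.mk_surjective x
  rfl

theorem indSmooth_of_pow_eq_bot (n : ℕ) : ∀ {R Λ : Type u} [CommRing R] [CommRing Λ]
    [Algebra R Λ] (I : Ideal R), I ^ n = ⊥ → ∀ [Module.Flat R Λ],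
    Smoothing.IndSmooth (R ⧸ I) (Λ ⧸ I.map (algebraMap R Λ)) → Smoothing.IndSmooth R Λ := by
  induction n using Nat.strong_induction_on with
  | _ n ih =>
    intro R Λ _ _ _ I hI _ h
    by_cases hn : n ≤ 2
    · refine indSmooth_of_sq_zero I ?_ h
      rw [eq_bot_iff, ← hI]
      exact Ideal.pow_le_pow_right hn
    · replace hn : 2 < n := by omega
      have hJI : I ^ 2 ≤ I := Ideal.pow_le_self two_ne_zero
      have hm : (n + 1) / 2 < n := by omega
      have hJ : (I ^ 2) ^ ((n + 1) / 2) = ⊥ := by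
        rw [← pow_mul, eq_bot_iff, ← hI]
        exact Ideal.pow_le_pow_right (by omega)
      refine ih _ hm (I ^ 2) hJ ?_
      haveI := flat_quot (Λ := Λ) (I ^ 2)
      refine indSmooth_of_sq_zero (I.map (Ideal.Quotient.mk (I ^ 2))) ?_
        (indSmooth_doubleQuot I (I ^ 2) hJI h)
      rw [← Ideal.map_pow, Ideal.map_quotient_self]

theorem indSmooth_of_nilpotent {R Λ : Type u} [CommRing R] [CommRing Λ]
    [Algebra R Λ] (I : Ideal R) (hI : IsNilpotent I) [Module.Flat R Λ]
    (h : Smoothing.IndSmooth (R ⧸ I) (Λ ⧸ I.map (algebraMap R Λ))) :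
    Smoothing.IndSmooth R Λ := by
  obtain ⟨n, hn⟩ := hI
  exact indSmooth_of_pow_eq_bot n I hn h

end Groth.Agent.Lib.Helper22.Pop
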