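import Mathlib
import Groth.Prelude.Def_Smoothing
import Groth.Agent.Lib.Helper22.PopE
import Groth.Agent.S2032
import Groth.Agent.S2108

set_option linter.style.haveILetI false
set_option linter.unusedSectionVars false

universe u

namespace Groth.Agent.Lib.Helper22.Pop

open MvPolynomial

/-- In a flat `R`-algebra, the annihilators of `π` and `π ^ 2` agree if they do in `R`. -/
theorem flat_ann {R S : Type*} [CommRing R] [CommRing S] [Algebra R S] [Module.Flat R S] (π : R)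
    (hR : ∀ r : R, π ^ 2 * r = 0 → π * r = 0) (x : S) (hx : algebraMap R S (π ^ 2) * x = 0) :
    algebraMap R S π * x = 0 := by
  have hrel : ∑ i : Fin 1, (fun _ => π ^ 2 : Fin 1 → R) i • (fun _ => x : Fin 1 → S) i = 0 := by
    simp only [Finset.univ_unique, Fin.default_eq_zero, Finset.sum_singleton]
    rw [Algebra.smul_def]
    exact hx
  obtain ⟨k, a, y, hy, ha⟩ := Module.Flat.isTrivialRelation_of_sum_smul_eq_zero (R := R) (M := S)
    (f := (fun _ => π ^ 2 : Fin 1 → R)) (x := (fun _ => x : Fin 1 → S)) (by exact hrel)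
  have hy0 : x = ∑ j, a 0 j • y j := hy 0
  have ha0 : ∀ j, π ^ 2 * a 0 j = 0 := by
    intro j
    have := ha j
    simpa using this
  rw [hy0, Finset.mul_sum]
  refine Finset.sum_eq_zero fun j _ => ?_
  rw [Algebra.smul_def, ← mul_assoc, ← map_mul, hR _ (ha0 j), map_zero, zero_mul]

/-- The Jacobian trick: a relation `∑ a_r f_r ∈ J` with `J ⊇ (f_r)` stable under derivations
modulo ... gives `Δ a_r ∈ J`. Here `J = (f_r) + (C z)`. -/
theorem jac_lemma {R : Type*} [CommRing R] {n c : ℕ} (fr : Fin c → MvPolynomial (Fin n) R)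
    (cols : Fin c → Fin n) (a' : Fin c → MvPolynomial (Fin n) R) (z : R)
    (H : MvPolynomial (Fin n) R) (hrel : ∑ r, a' r * fr r = C z * H) (r : Fin c) :
    Matrix.det (Matrix.of fun j k : Fin c => pderiv (cols k) (fr j)) * a' r ∈
      Ideal.span (Set.range fr) ⊔ Ideal.span {C z} := by
  classical
  set J : Ideal (MvPolynomial (Fin n) R) := Ideal.span (Set.range fr) ⊔ Ideal.span {C z} with hJ
  set Mj : Matrix (Fin c) (Fin c) (MvPolynomial (Fin n) R) :=
    Matrix.of fun j k : Fin c => pderiv (cols k) (fr j) with hMj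
  have hfr : ∀ r, fr r ∈ J := fun r => Ideal.mem_sup_left (Ideal.subset_span ⟨r, rfl⟩)
  have hz : C z ∈ J := Ideal.mem_sup_right (Ideal.subset_span rfl)
  have h1 : ∀ k, ∑ j, a' j * Mj j k ∈ J := by
    intro k
    have h2 := congrArg (pderiv (cols k)) hrel
    rw [map_sum] at h2
    simp only [Derivation.leibniz, smul_eq_mul, pderiv_C, mul_zero, add_zero] at h2
    rw [Finset.sum_add_distrib] at h2
    have h3 : ∑ j, a' j * Mj j k = C z * pderiv (cols k) H - ∑ j, fr j * pderiv (cols k) (a' j) := by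
      rw [← h2]
      simp only [hMj, Matrix.of_apply]
      ring
    rw [h3]
    refine J.sub_mem (J.mul_mem_right _ hz) (J.sum_mem fun j _ => J.mul_mem_right _ (hfr j))
  have h4 : Mj.det * a' r = ∑ k, (∑ j, a' j * Mj j k) * Mj.adjugate k r := by
    have h5 : Mj * Mj.adjugate = Mj.det • (1 : Matrix (Fin c) (Fin c) _) := Matrix.mul_adjugate Mj
    have h6 : ∑ k, (∑ j, a' j * Mj j k) * Mj.adjugate k r =
        ∑ j, a' j * (Mj * Mj.adjugate) j r := by
      simp only [Matrix.mul_apply, Finset.mul_sum, Finset.sum_mul]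
      rw [Finset.sum_comm]
      refine Finset.sum_congr rfl fun j _ => Finset.sum_congr rfl fun k _ => ?_
      ring
    rw [h6, h5]
    simp [Matrix.smul_apply, Matrix.one_apply, Finset.sum_ite_eq', mul_comm]
  rw [h4]
  exact J.sum_mem fun k _ => J.mul_mem_right _ (h1 k)


/-- Cayley–Hamilton step: if `g₁ I ⊆ I_c + I² + Z` then some `v ≡ g₁ ^ N` mod `I + Z` satisfies
`v I ⊆ I_c + Z`. -/
theorem kill_lemma {P : Type*} [CommRing P] (I Ic Z : Ideal P) (hI : I.FG) (g₁ : P)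
    (h : ∀ y ∈ I, g₁ * y ∈ Ic ⊔ I ^ 2 ⊔ Z) :
    ∃ (v : P) (N : ℕ), v - g₁ ^ N ∈ I ⊔ Ic ⊔ Z ∧ ∀ y ∈ I, v * y ∈ Ic ⊔ Z := by
  let mk := Ideal.Quotient.mk (Ic ⊔ Z)
  have hmk : Function.Surjective mk := Ideal.Quotient.mk_surjective
  have h1 : ∀ y ∈ I.map mk, mk g₁ * y ∈ I.map mk * I.map mk := by
    intro y hy
    rw [Ideal.mem_map_iff_of_surjective _ hmk] at hy
    obtain ⟨y₀, hy₀, rfl⟩ := hy
    have h2 := h y₀ hy₀
    rw [sup_right_comm] at h2
    obtain ⟨x, hx, q, hq, hxq⟩ := Submodule.mem_sup.mp h2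
    rw [← map_mul, ← hxq, map_add, Ideal.Quotient.eq_zero_iff_mem.mpr hx, zero_add, ← pow_two,
      ← Ideal.map_pow]
    exact Ideal.mem_map_of_mem _ hq
  obtain ⟨s', N, hs', hs'N⟩ := Groth.Agent.Lib.Helper18.AwayQuot.exists_kill_of_smul_le_sq
    (I.map mk) (hI.map _) (mk g₁) h1
  obtain ⟨v, rfl⟩ := hmk s'
  refine ⟨v, N, ?_, ?_⟩
  · rw [← map_pow, ← map_sub, Ideal.mem_map_iff_of_surjective _ hmk] at hs'N
    obtain ⟨w, hw, hwv⟩ := hs'N
    have h3 : v - g₁ ^ N - w ∈ Ic ⊔ Z := by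
      rw [← Ideal.Quotient.eq_zero_iff_mem, map_sub, hwv, sub_self]
    have h4 : v - g₁ ^ N = (v - g₁ ^ N - w) + w := by ring
    rw [h4, sup_assoc]
    exact Ideal.add_mem _ (Ideal.mem_sup_right h3) (Ideal.mem_sup_left hw)
  · intro y hy
    rw [← Ideal.Quotient.eq_zero_iff_mem, map_mul]
    exact hs' _ (Ideal.mem_map_of_mem _ hy)

end Groth.Agent.Lib.Helper22.Pop
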