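import Mathlib
import Groth.Prelude.Def_Smoothing
import Groth.Agent.Lib.Helper22.PopF

set_option linter.style.haveILetI false
set_option linter.unusedSectionVars false

universe u

namespace Groth.Agent.Lib.Helper22.Pop

open MvPolynomial

section Chart

variable {R : Type u} [CommRing R] (π : R) {n m c : ℕ} (f : Fin m → MvPolynomial (Fin n) R)
  (rows : Fin c → Fin m) (cols : Fin c → Fin n)

/-- The inclusion `R[x] → R[y][x]`. -/
noncomputable def j₁ (c n : ℕ) : MvPolynomial (Fin n) R →ₐ[R]
    MvPolynomial (Fin n) (MvPolynomial (Fin c) R) :=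
  MvPolynomial.mapAlgHom (Algebra.ofId R (MvPolynomial (Fin c) R))

theorem j₁_apply (p : MvPolynomial (Fin n) R) :
    j₁ c n p = MvPolynomial.map (C : R →+* MvPolynomial (Fin c) R) p := rfl

/-- The relations `f_{rows r} - π y_r` of the chart algebra. -/
noncomputable def chartRel (r : Fin c) : MvPolynomial (Fin n) (MvPolynomial (Fin c) R) :=
  j₁ c n (f (rows r)) - C (C π * X r)

/-- The chart algebra `R[y][x] / (f_{rows r} - π y_r)`. -/
abbrev ChartAlg : Type u :=
  MvPolynomial (Fin n) (MvPolynomial (Fin c) R) ⧸ Ideal.span (Set.range (chartRel π f rows))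

theorem chart_det :
    Matrix.det (Matrix.of fun j k : Fin c => pderiv (cols k) (chartRel π f rows j)) =
      j₁ c n (Smoothing.jacobianMinor f rows cols) := by
  unfold Smoothing.jacobianMinor
  rw [j₁_apply, RingHom.map_det]
  congr 1
  ext j k
  rw [RingHom.mapMatrix_apply, Matrix.map_apply, Matrix.of_apply, Matrix.of_apply, chartRel,
    map_sub, pderiv_C, sub_zero, j₁_apply, MvPolynomial.pderiv_map]

theorem chart_smooth (hcols : Function.Injective cols) (v : MvPolynomial (Fin n) R) :
    Algebra.Smooth R (Localization.Away (Ideal.Quotient.mk (Ideal.span (Set.range (chartRel π f rows)))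
      (j₁ c n (v * Smoothing.jacobianMinor f rows cols)))) := by
  have hstd : Algebra.IsStandardSmooth (MvPolynomial (Fin c) R)
      (Localization.Away (Ideal.Quotient.mk (Ideal.span (Set.range (chartRel π f rows)))
      (j₁ c n (v * Smoothing.jacobianMinor f rows cols)))) := by
    refine Groth.Agent.S2032.core (R := MvPolynomial (Fin c) R) (A := ChartAlg π f rows)
      (chartRel π f rows) (Ideal.Quotient.mkₐ _ _) ?_ Ideal.Quotient.mk_surjective
      (Ideal.Quotient.mk _ (j₁ c n (v * Smoothing.jacobianMinor f rows cols)))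
      (Ideal.Quotient.mk _ (j₁ c n v)) cols hcols ?_ (Ideal.span (Set.range (chartRel π f rows)))
      ?_ (Submodule.fg_span (Set.finite_range _)) (j₁ c n (v * Smoothing.jacobianMinor f rows cols))
      rfl ?_
    · intro x hx
      exact Ideal.Quotient.eq_zero_iff_mem.mpr hx
    · rw [chart_det, map_mul, map_mul]
      rfl
    · exact Ideal.mk_ker
    · intro y hy
      exact Ideal.mem_sup_left (Ideal.mul_mem_left _ _ hy)
  haveI : Algebra.Smooth (MvPolynomial (Fin c) R)
      (Localization.Away (Ideal.Quotient.mk (Ideal.span (Set.range (chartRel π f rows)))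
      (j₁ c n (v * Smoothing.jacobianMinor f rows cols)))) := inferInstance
  haveI : Algebra.Smooth R (MvPolynomial (Fin c) R) := ⟨inferInstance, inferInstance⟩
  exact Algebra.Smooth.comp R (MvPolynomial (Fin c) R) _

end Chart


/-- The data of the algebra `D` of the lifting lemma, in terms of its universal property. -/
structure LiftData (R : Type u) [CommRing R] (π : R) {n m : ℕ}
    (f : Fin m → MvPolynomial (Fin n) R) (D : Type u) [CommRing D] [Algebra R D] where
  ι : MvPolynomial (Fin n) R →ₐ[R] D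
  y : Fin m → D
  relF : ∀ j, ι (f j) = algebraMap R D π * y j
  relG : ∀ (a : Fin m → MvPolynomial (Fin n) R) (h : MvPolynomial (Fin n) R),
    ∑ j, a j * f j = C (π ^ 2) * h → ∑ j, ι (a j) * y j = algebraMap R D π * ι h
  lift : ∀ {S : Type u} [CommRing S] [Algebra R S] (θ : MvPolynomial (Fin n) R →ₐ[R] S)
    (Y : Fin m → S), (∀ j, θ (f j) = algebraMap R S π * Y j) →
    (∀ (a : Fin m → MvPolynomial (Fin n) R) (h : MvPolynomial (Fin n) R),
      ∑ j, a j * f j = C (π ^ 2) * h → ∑ j, θ (a j) * Y j = algebraMap R S π * θ h) →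
    ∃ Φ : D →ₐ[R] S, (∀ p, Φ (ι p) = θ p) ∧ ∀ j, Φ (y j) = Y j
  hom_ext : ∀ {S : Type u} [CommRing S] [Algebra R S] (Φ₁ Φ₂ : D →ₐ[R] S),
    (∀ p, Φ₁ (ι p) = Φ₂ (ι p)) → (∀ j, Φ₁ (y j) = Φ₂ (y j)) → Φ₁ = Φ₂

section Core

variable {R D : Type u} [CommRing R] [CommRing D] [Algebra R D] {π : R} {n m c : ℕ}
  {f : Fin m → MvPolynomial (Fin n) R} (L : LiftData R π f D)

theorem LiftData.exists_hom (hR : ∀ r : R, π ^ 2 * r = 0 → π * r = 0)
    (rows : Fin c → Fin m) (cols : Fin c → Fin n) (v : MvPolynomial (Fin n) R)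
    (b : Fin m → Fin c → MvPolynomial (Fin n) R) (h' : Fin m → MvPolynomial (Fin n) R)
    (hbh : ∀ ℓ, v * f ℓ = ∑ r, b ℓ r * f (rows r) + C (π ^ 2) * h' ℓ)
    (hbrows : ∀ ℓ r, ℓ = rows r → b ℓ = Pi.single r v ∧ h' ℓ = 0)
    {S₀ : Type u} [CommRing S₀] [Algebra R S₀] [Module.Flat R S₀]
    (θ : MvPolynomial (Fin n) R →ₐ[R] S₀) (ys : Fin c → S₀)
    (h1 : ∀ r, θ (f (rows r)) = algebraMap R S₀ π * ys r)
    (h2 : IsUnit (θ (v * Smoothing.jacobianMinor f rows cols))) :
    ∃ Φ : D →ₐ[R] S₀, (∀ p, Φ (L.ι p) = θ p) ∧ (∀ r, Φ (L.y (rows r)) = ys r) ∧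
      ∀ ℓ, θ v * Φ (L.y ℓ) = ∑ r, θ (b ℓ r) * ys r + algebraMap R S₀ π * θ (h' ℓ) := by
  classical
  rw [map_mul] at h2
  have hvu : IsUnit (θ v) := isUnit_of_mul_isUnit_left h2
  have hΔu : IsUnit (θ (Smoothing.jacobianMinor f rows cols)) := isUnit_of_mul_isUnit_right h2
  set Δ := Smoothing.jacobianMinor f rows cols with hΔ
  set p' : S₀ := algebraMap R S₀ π with hp'
  have hπ2 : ∀ q : MvPolynomial (Fin n) R, θ (C (π ^ 2) * q) = p' * (p' * θ q) := by
    intro q
    rw [map_mul, ← MvPolynomial.algebraMap_eq, θ.commutes, map_pow, hp']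
    ring
  let iv : S₀ := ↑(hvu.unit⁻¹)
  have hiv : θ v * iv = 1 := hvu.mul_val_inv
  let Yv : Fin m → S₀ := fun ℓ => (∑ r, θ (b ℓ r) * ys r + p' * θ (h' ℓ)) * iv
  have hYv : ∀ ℓ, θ v * Yv ℓ = ∑ r, θ (b ℓ r) * ys r + p' * θ (h' ℓ) := by
    intro ℓ
    simp only [Yv]
    rw [mul_comm, mul_assoc, mul_comm iv, hiv, mul_one]
  -- Claim A
  have hA : ∀ j, θ (f j) = p' * Yv j := by
    intro j
    apply hvu.mul_left_cancel
    have h0 : θ v * (p' * Yv j) = p' * (θ v * Yv j) := by ring
    rw [← map_mul, hbh j, map_add, map_sum, hπ2, h0, hYv, mul_add, Finset.mul_sum]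
    congr 1
    refine Finset.sum_congr rfl fun r _ => ?_
    rw [map_mul, h1]
    ring
  -- Claim B
  have hB : ∀ (a : Fin m → MvPolynomial (Fin n) R) (h : MvPolynomial (Fin n) R),
      ∑ j, a j * f j = C (π ^ 2) * h → ∑ j, θ (a j) * Yv j = p' * θ h := by
    intro a h hah
    let a' : Fin c → MvPolynomial (Fin n) R := fun r => ∑ j, a j * b j r
    let H : MvPolynomial (Fin n) R := ∑ j, a j * h' j - v * h
    have hrel : ∑ r, a' r * (f ∘ rows) r = C (π ^ 2) * (-H) := by
      simp only [a', H, Function.comp_apply, Finset.sum_mul]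
      rw [Finset.sum_comm]
      have : ∀ j, ∑ r, a j * b j r * f (rows r) = a j * (v * f j - C (π ^ 2) * h' j) := by
        intro j
        rw [hbh j, add_sub_cancel_right, Finset.mul_sum]
        refine Finset.sum_congr rfl fun r _ => ?_
        ring
      rw [Finset.sum_congr rfl fun j _ => this j]
      have h3 : ∑ j, a j * (v * f j - C (π ^ 2) * h' j) =
          v * ∑ j, a j * f j - C (π ^ 2) * ∑ j, a j * h' j := by
        rw [Finset.mul_sum, Finset.mul_sum, ← Finset.sum_sub_distrib]
        refine Finset.sum_congr rfl fun j _ => ?_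
        ring
      rw [h3, hah]
      ring
    have hjac : ∀ r, ∃ (t : Fin c → MvPolynomial (Fin n) R) (s : MvPolynomial (Fin n) R),
        Δ * a' r = ∑ r', t r' * f (rows r') + s * C (π ^ 2) := by
      intro r
      have h4 : Δ * a' r ∈ Ideal.span (Set.range (f ∘ rows)) ⊔ Ideal.span {C (π ^ 2)} :=
        jac_lemma (f ∘ rows) cols a' (π ^ 2) (-H) hrel r
      obtain ⟨x, hx, z, hz, hxz⟩ := Submodule.mem_sup.mp h4
      obtain ⟨t, ht⟩ := (Ideal.mem_span_range_iff_exists_fun).mp hx
      obtain ⟨s, hs⟩ := Ideal.mem_span_singleton'.mp hz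
      refine ⟨t, s, ?_⟩
      rw [hs, ← hxz, ← ht]
      rfl
    choose t s hts using hjac
    let E : S₀ := ∑ j, θ (a j) * Yv j - p' * θ h
    let E' : S₀ := ∑ r, (∑ r', θ (t r r') * ys r' + p' * θ (s r)) * ys r + θ (Δ * H)
    have hE1 : θ v * E = ∑ r, θ (a' r) * ys r + p' * θ H := by
      simp only [E, a', H, mul_sub, Finset.mul_sum, map_sum, map_sub, map_mul, Finset.sum_mul]
      have : ∀ j, θ v * (θ (a j) * Yv j) =
          ∑ r, θ (a j) * θ (b j r) * ys r + p' * (θ (a j) * θ (h' j)) := by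
        intro j
        rw [mul_left_comm, hYv, mul_add, Finset.mul_sum]
        congr 1
        · refine Finset.sum_congr rfl fun r _ => ?_
          ring
        · ring
      rw [Finset.sum_congr rfl fun j _ => this j, Finset.sum_add_distrib, Finset.sum_comm]
      ring
    have hE2 : θ Δ * (θ v * E) = p' * E' := by
      rw [hE1, mul_add, Finset.mul_sum]
      simp only [E', mul_add, Finset.mul_sum]
      rw [map_mul]
      have : ∀ r, θ Δ * (θ (a' r) * ys r) =
          p' * ((∑ r', θ (t r r') * ys r' + p' * θ (s r)) * ys r) := by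
        intro r
        rw [← mul_assoc, ← map_mul, hts r, map_add, map_sum, map_mul, ← MvPolynomial.algebraMap_eq,
          θ.commutes, map_pow, ← hp']
        have : ∀ r', θ (t r r' * f (rows r')) = p' * (θ (t r r') * ys r') := by
          intro r'
          rw [map_mul, h1]
          ring
        rw [Finset.sum_congr rfl fun r' _ => this r', ← Finset.mul_sum]
        ring
      rw [Finset.sum_congr rfl fun r _ => this r]
      ring
    have hE3 : p' * E = 0 := by
      simp only [E, mul_sub, Finset.mul_sum]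
      have : ∀ j, p' * (θ (a j) * Yv j) = θ (a j * f j) := by
        intro j
        rw [map_mul, hA j]
        ring
      rw [Finset.sum_congr rfl fun j _ => this j, ← map_sum, hah, hπ2, sub_self]
    have hE4 : algebraMap R S₀ (π ^ 2) * E' = 0 := by
      rw [map_pow, ← hp', pow_two, mul_assoc, ← hE2]
      have : p' * (θ Δ * (θ v * E)) = θ Δ * θ v * (p' * E) := by ring
      rw [this, hE3, mul_zero]
    have hE5 : p' * E' = 0 := flat_ann π hR E' hE4
    have hE6 : E = 0 := by
      rw [← hE2] at hE5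
      exact hvu.mul_left_cancel (by rw [mul_zero]; exact hΔu.mul_left_cancel (by rw [mul_zero, hE5]))
    exact sub_eq_zero.mp hE6
  obtain ⟨Φ, hΦι, hΦy⟩ := L.lift θ Yv hA hB
  refine ⟨Φ, hΦι, ?_, ?_⟩
  · intro r
    rw [hΦy]
    apply hvu.mul_left_cancel
    rw [hYv, (hbrows (rows r) r rfl).1, (hbrows (rows r) r rfl).2, map_zero, mul_zero, add_zero]
    rw [Finset.sum_eq_single r]
    · rw [Pi.single_eq_same]
    · intro r' _ hr'
      rw [Pi.single_eq_of_ne hr', map_zero, zero_mul]
    · intro hr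
      exact absurd (Finset.mem_univ r) hr
  · intro ℓ
    rw [hΦy, hYv]

end Core


section Away

variable {R A B : Type*} [CommRing R] [CommRing A] [CommRing B] [Algebra R A] [Algebra R B]

/-- Lifting an algebra map to the localization away from an element. -/
noncomputable def awayLiftAlg (x : A) (g : A →ₐ[R] B) (hg : IsUnit (g x)) :
    Localization.Away x →ₐ[R] B :=
  IsLocalization.liftAlgHom (M := Submonoid.powers x) (f := g) (by
    rintro ⟨_, k, rfl⟩
    simpa using hg.pow k)

@[simp] theorem awayLiftAlg_algebraMap (x : A) (g : A →ₐ[R] B) (hg : IsUnit (g x)) (a : A) :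
    awayLiftAlg x g hg (algebraMap A (Localization.Away x) a) = g a := by
  simp [awayLiftAlg]

theorem away_algHom_ext (x : A) (Φ₁ Φ₂ : Localization.Away x →ₐ[R] B)
    (h : ∀ a, Φ₁ (algebraMap A _ a) = Φ₂ (algebraMap A _ a)) : Φ₁ = Φ₂ := by
  apply AlgHom.coe_ringHom_injective
  apply IsLocalization.ringHom_ext (Submonoid.powers x)
  ext a
  exact h a

end Away

end Groth.Agent.Lib.Helper22.Pop
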