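import Mathlib
import Groth.Prelude.Def_Smoothing
import Groth.Agent.Lib.Helper22.PopG

set_option linter.style.haveILetI false
set_option linter.unusedSectionVars false

universe u

namespace Groth.Agent.Lib.Helper22.Pop

open MvPolynomial

section ChartLoc

variable {R : Type u} [CommRing R] {n m c : ℕ}

/-- The localized chart algebra. -/
abbrev ChartLoc (π : R) (f : Fin m → MvPolynomial (Fin n) R) (rows : Fin c → Fin m)
    (u : MvPolynomial (Fin n) R) : Type u :=
  Localization.Away (Ideal.Quotient.mk (Ideal.span (Set.range (chartRel π f rows))) (j₁ c n u))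

variable (π : R) (f : Fin m → MvPolynomial (Fin n) R) (rows : Fin c → Fin m)
  (u : MvPolynomial (Fin n) R)

/-- The canonical map to the localized chart algebra. -/
noncomputable def chartMk : MvPolynomial (Fin n) (MvPolynomial (Fin c) R) →ₐ[R] ChartLoc π f rows u :=
  (IsScalarTower.toAlgHom R (ChartAlg π f rows) (ChartLoc π f rows u)).comp (Ideal.Quotient.mkₐ R _)

theorem chartMk_rel (r : Fin c) : chartMk π f rows u (chartRel π f rows r) = 0 := by
  have : Ideal.Quotient.mk (Ideal.span (Set.range (chartRel π f rows))) (chartRel π f rows r) = 0 :=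
    Ideal.Quotient.eq_zero_iff_mem.mpr (Ideal.subset_span ⟨r, rfl⟩)
  simp only [chartMk, AlgHom.comp_apply, Ideal.Quotient.mkₐ_eq_mk, this, map_zero]

theorem chartMk_unit : IsUnit (chartMk π f rows u (j₁ c n u)) := by
  simp only [chartMk, AlgHom.comp_apply, Ideal.Quotient.mkₐ_eq_mk, IsScalarTower.coe_toAlgHom']
  exact IsLocalization.Away.algebraMap_isUnit _

theorem chartLoc_ext {B : Type*} [CommRing B] [Algebra R B] (Φ₁ Φ₂ : ChartLoc π f rows u →ₐ[R] B)
    (h : Φ₁.comp (chartMk π f rows u) = Φ₂.comp (chartMk π f rows u)) : Φ₁ = Φ₂ := by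
  apply away_algHom_ext
  intro a
  obtain ⟨p, rfl⟩ := Ideal.Quotient.mk_surjective a
  exact AlgHom.congr_fun h p

theorem chartLoc_lift {B : Type*} [CommRing B] [Algebra R B]
    (g : MvPolynomial (Fin n) (MvPolynomial (Fin c) R) →ₐ[R] B)
    (hrel : ∀ r, g (chartRel π f rows r) = 0) (hu : IsUnit (g (j₁ c n u))) :
    ∃ Ψ : ChartLoc π f rows u →ₐ[R] B, Ψ.comp (chartMk π f rows u) = g := by
  have hker : ∀ x ∈ Ideal.span (Set.range (chartRel π f rows)), g x = 0 := by
    have : Ideal.span (Set.range (chartRel π f rows)) ≤ RingHom.ker g.toRingHom := by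
      rw [Ideal.span_le]
      rintro _ ⟨r, rfl⟩
      exact hrel r
    exact fun x hx => this hx
  let g' : ChartAlg π f rows →ₐ[R] B := Ideal.Quotient.liftₐ _ g hker
  have hg' : IsUnit (g' (Ideal.Quotient.mk _ (j₁ c n u))) := hu
  refine ⟨awayLiftAlg _ g' hg', ?_⟩
  apply AlgHom.ext
  intro p
  simp only [chartMk, AlgHom.comp_apply, Ideal.Quotient.mkₐ_eq_mk, IsScalarTower.coe_toAlgHom',
    awayLiftAlg_algebraMap]
  rfl

end ChartLoc


section Core2

variable {R D : Type u} [CommRing R] [CommRing D] [Algebra R D] {π : R} {n m c : ℕ}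
  {f : Fin m → MvPolynomial (Fin n) R} (L : LiftData R π f D)

/-- The map from the chart polynomial ring to `D`. -/
noncomputable def LiftData.chartHom₀ (rows : Fin c → Fin m) :
    MvPolynomial (Fin n) (MvPolynomial (Fin c) R) →ₐ[R] D :=
  evalAlg (aeval (fun r => L.y (rows r)) : MvPolynomial (Fin c) R →ₐ[R] D) (fun i => L.ι (X i))

theorem LiftData.chartHom₀_j₁ (rows : Fin c → Fin m) (p : MvPolynomial (Fin n) R) :
    L.chartHom₀ rows (j₁ c n p) = L.ι p := by
  have : (L.chartHom₀ rows).comp (j₁ c n) = L.ι := by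
    apply MvPolynomial.algHom_ext
    intro i
    rw [AlgHom.comp_apply, j₁_apply, MvPolynomial.map_X, chartHom₀, evalAlg_X]
  exact AlgHom.congr_fun this p

theorem LiftData.chartHom₀_rel (rows : Fin c → Fin m) (r : Fin c) :
    L.chartHom₀ rows (chartRel π f rows r) = 0 := by
  rw [chartRel, map_sub, L.chartHom₀_j₁, chartHom₀, evalAlg_C, map_mul, aeval_C, aeval_X, L.relF,
    sub_self]

theorem LiftData.smooth_away (hR : ∀ r : R, π ^ 2 * r = 0 → π * r = 0)
    (rows : Fin c → Fin m) (hrows : Function.Injective rows) (cols : Fin c → Fin n)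
    (hcols : Function.Injective cols) (v : MvPolynomial (Fin n) R)
    (hv : ∀ ℓ, v * f ℓ ∈ Ideal.span (Set.range (f ∘ rows)) ⊔ Ideal.span {C (π ^ 2)}) :
    Algebra.Smooth R (Localization.Away (L.ι (v * Smoothing.jacobianMinor f rows cols))) := by
  classical
  -- coefficients
  have hb : ∀ ℓ, ∃ (b : Fin c → MvPolynomial (Fin n) R) (h' : MvPolynomial (Fin n) R),
      v * f ℓ = ∑ r, b r * f (rows r) + C (π ^ 2) * h' ∧
        (∀ r, ℓ = rows r → b = Pi.single r v ∧ h' = 0) := by
    intro ℓ
    by_cases hℓ : ∃ r, ℓ = rows r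
    · obtain ⟨r₀, rfl⟩ := hℓ
      refine ⟨Pi.single r₀ v, 0, ?_, ?_⟩
      · rw [mul_zero, add_zero, Finset.sum_eq_single r₀]
        · rw [Pi.single_eq_same]
        · intro r' _ hr'
          rw [Pi.single_eq_of_ne hr', zero_mul]
        · intro hr
          exact absurd (Finset.mem_univ r₀) hr
      · intro r hr
        rw [hrows hr]
        exact ⟨rfl, rfl⟩
    · obtain ⟨x, hx, z, hz, hxz⟩ := Submodule.mem_sup.mp (hv ℓ)
      obtain ⟨t, ht⟩ := (Ideal.mem_span_range_iff_exists_fun).mp hx
      obtain ⟨s, hs⟩ := Ideal.mem_span_singleton'.mp hz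
      refine ⟨t, s, ?_, ?_⟩
      · rw [← hxz, ← ht, ← hs]
        simp only [Function.comp_apply]
        ring
      · intro r hr
        exact absurd ⟨r, hr⟩ hℓ
  choose b h' hbh hbrows using hb
  obtain ⟨u, hu⟩ : ∃ u, u = v * Smoothing.jacobianMinor f rows cols := ⟨_, rfl⟩
  rw [← hu]
  haveI hsm : Algebra.Smooth R (ChartLoc π f rows u) := by
    rw [hu]
    exact chart_smooth π f rows cols hcols v
  haveI : Module.Flat R (ChartLoc π f rows u) := inferInstance
  -- θ
  let θ : MvPolynomial (Fin n) R →ₐ[R] ChartLoc π f rows u := (chartMk π f rows u).comp (j₁ c n)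
  have hθ : ∀ p : MvPolynomial (Fin n) R, θ p = chartMk π f rows u (j₁ c n p) := fun p => rfl
  let ys : Fin c → ChartLoc π f rows u := fun r => chartMk π f rows u (C (X r))
  have h1 : ∀ r, θ (f (rows r)) = algebraMap R (ChartLoc π f rows u) π * ys r := by
    intro r
    have h3 := chartMk_rel π f rows u r
    rw [chartRel, map_sub, sub_eq_zero] at h3
    have h4 : (C (C π) : MvPolynomial (Fin n) (MvPolynomial (Fin c) R)) =
        algebraMap R (MvPolynomial (Fin n) (MvPolynomial (Fin c) R)) π := rfl
    rw [hθ, h3, map_mul, map_mul, h4, AlgHom.commutes]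
  have h2 : IsUnit (θ u) := chartMk_unit π f rows u
  obtain ⟨Φ, hΦι, hΦy, hΦv⟩ := L.exists_hom hR rows cols v b h' hbh hbrows θ ys h1
    (by rw [← hu]; exact h2)
  -- Φ_u
  have hΦu : IsUnit (Φ (L.ι u)) := by rw [hΦι]; exact h2
  let Φu : Localization.Away (L.ι u) →ₐ[R] ChartLoc π f rows u := awayLiftAlg (L.ι u) Φ hΦu
  -- Ψ_u
  have hΨ0u : IsUnit (((IsScalarTower.toAlgHom R D (Localization.Away (L.ι u))).comp
      (L.chartHom₀ rows)) (j₁ c n u)) := by
    rw [AlgHom.comp_apply, L.chartHom₀_j₁]
    exact IsLocalization.Away.algebraMap_isUnit _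
  obtain ⟨Ψu, hΨu⟩ := chartLoc_lift π f rows u
    ((IsScalarTower.toAlgHom R D (Localization.Away (L.ι u))).comp (L.chartHom₀ rows))
    (fun r => by rw [AlgHom.comp_apply, L.chartHom₀_rel, map_zero]) hΨ0u
  have hΨumk : ∀ p, Ψu (chartMk π f rows u p) =
      algebraMap D (Localization.Away (L.ι u)) (L.chartHom₀ rows p) := fun p =>
    AlgHom.congr_fun hΨu p
  have hΨuθ : ∀ p, Ψu (θ p) = algebraMap D (Localization.Away (L.ι u)) (L.ι p) := by
    intro p
    rw [hθ, hΨumk, L.chartHom₀_j₁]
  have hΨuys : ∀ r, Ψu (ys r) = algebraMap D (Localization.Away (L.ι u)) (L.y (rows r)) := by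
    intro r
    simp only [ys]
    rw [hΨumk, LiftData.chartHom₀, evalAlg_C, aeval_X]
  -- the two compositions
  have h12 : Φu.comp Ψu = AlgHom.id R _ := by
    apply chartLoc_ext
    rw [AlgHom.comp_assoc, hΨu, AlgHom.id_comp, ← AlgHom.comp_assoc]
    have : Φu.comp (IsScalarTower.toAlgHom R D (Localization.Away (L.ι u))) = Φ := by
      apply AlgHom.ext
      intro d
      exact awayLiftAlg_algebraMap (L.ι u) Φ hΦu d
    rw [this]
    apply MvPolynomial.algHom_ext'
    · apply MvPolynomial.algHom_ext
      intro r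
      change Φ (L.chartHom₀ rows (C (X r))) = ys r
      rw [LiftData.chartHom₀, evalAlg_C, aeval_X, hΦy]
    · intro i
      have hjX : j₁ c n (X i : MvPolynomial (Fin n) R) = X i := by
        rw [j₁_apply, MvPolynomial.map_X]
      rw [AlgHom.comp_apply, LiftData.chartHom₀, evalAlg_X, hΦι, hθ, hjX]
  have h21 : Ψu.comp Φu = AlgHom.id R _ := by
    apply away_algHom_ext
    intro d
    rw [AlgHom.comp_apply, awayLiftAlg_algebraMap, AlgHom.id_apply]
    have : Ψu.comp Φ = IsScalarTower.toAlgHom R D (Localization.Away (L.ι u)) := by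
      apply L.hom_ext
      · intro p
        rw [AlgHom.comp_apply, hΦι, hΨuθ]
        rfl
      · intro ℓ
        rw [AlgHom.comp_apply]
        change _ = algebraMap D _ (L.y ℓ)
        have hvunit : IsUnit (algebraMap D (Localization.Away (L.ι u)) (L.ι v)) := by
          have h5 : IsUnit (algebraMap D (Localization.Away (L.ι u)) (L.ι u)) :=
            IsLocalization.Away.algebraMap_isUnit _
          have h6 : algebraMap D (Localization.Away (L.ι u)) (L.ι u) =
              algebraMap D (Localization.Away (L.ι u)) (L.ι v) *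
              algebraMap D (Localization.Away (L.ι u))
                (L.ι (Smoothing.jacobianMinor f rows cols)) := by
            rw [← map_mul, ← map_mul, ← hu]
          rw [h6] at h5
          exact isUnit_of_mul_isUnit_left h5
        apply hvunit.mul_left_cancel
        have h4 := congrArg Ψu (hΦv ℓ)
        rw [map_mul, hΨuθ, map_add, map_sum, map_mul, hΨuθ, AlgHom.commutes] at h4
        rw [h4]
        -- relation in D
        let a : Fin m → MvPolynomial (Fin n) R := fun j =>
          (Pi.single ℓ v : Fin m → MvPolynomial (Fin n) R) j -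
            ∑ r, (Pi.single (rows r) (b ℓ r) : Fin m → MvPolynomial (Fin n) R) j
        have ha : ∑ j, a j * f j = C (π ^ 2) * h' ℓ := by
          simp only [a, sub_mul, Finset.sum_sub_distrib, Finset.sum_mul]
          rw [Finset.sum_comm]
          have e1 : ∑ j, (Pi.single ℓ v : Fin m → MvPolynomial (Fin n) R) j * f j = v * f ℓ := by
            rw [Finset.sum_eq_single ℓ]
            · rw [Pi.single_eq_same]
            · intro j _ hj
              rw [Pi.single_eq_of_ne hj, zero_mul]
            · intro hh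
              exact absurd (Finset.mem_univ ℓ) hh
          have e2 : ∀ r, ∑ j, (Pi.single (rows r) (b ℓ r) : Fin m → MvPolynomial (Fin n) R) j * f j =
              b ℓ r * f (rows r) := by
            intro r
            rw [Finset.sum_eq_single (rows r)]
            · rw [Pi.single_eq_same]
            · intro j _ hj
              rw [Pi.single_eq_of_ne hj, zero_mul]
            · intro hh
              exact absurd (Finset.mem_univ _) hh
          rw [e1, Finset.sum_congr rfl fun r _ => e2 r, hbh ℓ]
          ring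
        have hG := L.relG a (h' ℓ) ha
        have hG' : L.ι v * L.y ℓ - ∑ r, L.ι (b ℓ r) * L.y (rows r) =
            algebraMap R D π * L.ι (h' ℓ) := by
          rw [← hG]
          simp only [a, map_sub, map_sum, sub_mul, Finset.sum_sub_distrib, Finset.sum_mul]
          rw [Finset.sum_comm]
          congr 1
          · rw [Finset.sum_eq_single ℓ]
            · rw [Pi.single_eq_same]
            · intro j _ hj
              rw [Pi.single_eq_of_ne hj, map_zero, zero_mul]
            · intro hh
              exact absurd (Finset.mem_univ ℓ) hh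
          · refine Finset.sum_congr rfl fun r _ => ?_
            rw [Finset.sum_eq_single (rows r)]
            · rw [Pi.single_eq_same]
            · intro j _ hj
              rw [Pi.single_eq_of_ne hj, map_zero, zero_mul]
            · intro hh
              exact absurd (Finset.mem_univ _) hh
        have hG'' : L.ι v * L.y ℓ = ∑ r, L.ι (b ℓ r) * L.y (rows r) +
            algebraMap R D π * L.ι (h' ℓ) := by
          rw [← hG']; ring
        rw [← map_mul, hG'', map_add, map_sum, map_mul, ← IsScalarTower.algebraMap_apply]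
        congr 1
        refine Finset.sum_congr rfl fun r _ => ?_
        rw [map_mul, map_mul, hΨuys, hΨuθ]
    exact AlgHom.congr_fun this d
  exact Algebra.Smooth.of_equiv (AlgEquiv.ofAlgHom Ψu Φu h21 h12)

end Core2

end Groth.Agent.Lib.Helper22.Pop
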