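import Mathlib
import Groth.Prelude.Def_Smoothing
import Groth.Agent.Lib.Helper22.PopH

set_option linter.style.haveILetI false
set_option linter.unusedSectionVars false

universe u

namespace Groth.Agent.Lib.Helper22.Pop

open MvPolynomial

theorem isSmoothAt_of_smooth_away {R A : Type u} [CommRing R] [CommRing A] [Algebra R A]
    [Algebra.FinitePresentation R A] {f : A} (h : Algebra.Smooth R (Localization.Away f))
    (Q : Ideal A) [Q.IsPrime] (hf : f ∉ Q) : Algebra.IsSmoothAt R Q :=
  (Algebra.basicOpen_subset_smoothLocus_iff_smooth.mpr h)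
    (show (⟨Q, inferInstance⟩ : PrimeSpectrum A) ∈ PrimeSpectrum.basicOpen f from hf)

section Concrete

variable {R : Type u} [CommRing R] (π : R) {n m : ℕ} (f : Fin m → MvPolynomial (Fin n) R)

/-- The map `(a, h) ↦ ∑ a_j f_j - π² h`. -/
noncomputable def relMap : ((Fin m → MvPolynomial (Fin n) R) × MvPolynomial (Fin n) R) →ₗ[MvPolynomial (Fin n) R]
    MvPolynomial (Fin n) R where
  toFun ah := ∑ j, ah.1 j * f j - C (π ^ 2) * ah.2
  map_add' x y := by
    simp only [Prod.fst_add, Prod.snd_add, Pi.add_apply, add_mul, mul_add, Finset.sum_add_distrib]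
    ring
  map_smul' c x := by
    simp only [Prod.smul_fst, Prod.smul_snd, Pi.smul_apply, smul_eq_mul, RingHom.id_apply, mul_sub,
      Finset.mul_sum]
    congr 1
    · refine Finset.sum_congr rfl fun j _ => ?_
      ring
    · ring

theorem mem_ker_relMap (ah : (Fin m → MvPolynomial (Fin n) R) × MvPolynomial (Fin n) R) :
    ah ∈ LinearMap.ker (relMap π f) ↔ ∑ j, ah.1 j * f j = C (π ^ 2) * ah.2 := by
  rw [LinearMap.mem_ker]
  change ∑ j, ah.1 j * f j - C (π ^ 2) * ah.2 = 0 ↔ _
  rw [sub_eq_zero]

/-- The map `(a, h) ↦ ∑ a_j y_j - π h` into `P[y]`. -/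
noncomputable def Gmap : ((Fin m → MvPolynomial (Fin n) R) × MvPolynomial (Fin n) R) →ₗ[MvPolynomial (Fin n) R]
    MvPolynomial (Fin m) (MvPolynomial (Fin n) R) :=
  ∑ j, ((LinearMap.mulRight (MvPolynomial (Fin n) R)
      (X j : MvPolynomial (Fin m) (MvPolynomial (Fin n) R))).comp
    ((Algebra.linearMap (MvPolynomial (Fin n) R) (MvPolynomial (Fin m) (MvPolynomial (Fin n) R))).comp
      ((LinearMap.proj j).comp (LinearMap.fst _ _ _)))) -
  (Algebra.linearMap (MvPolynomial (Fin n) R) (MvPolynomial (Fin m) (MvPolynomial (Fin n) R))).comp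
    ((LinearMap.mulLeft (MvPolynomial (Fin n) R) (C π : MvPolynomial (Fin n) R)).comp
      (LinearMap.snd _ _ _))

theorem Gmap_apply (ah : (Fin m → MvPolynomial (Fin n) R) × MvPolynomial (Fin n) R) :
    Gmap (m := m) π ah = ∑ j, C (ah.1 j) * X j - C (C π * ah.2) := by
  simp only [Gmap, LinearMap.sub_apply, LinearMap.sum_apply, LinearMap.comp_apply,
    LinearMap.mulRight_apply, Algebra.linearMap_apply, LinearMap.proj_apply, LinearMap.fst_apply,
    LinearMap.snd_apply, LinearMap.mulLeft_apply, MvPolynomial.algebraMap_eq]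

/-- The relations `f_j - π y_j`. -/
noncomputable def Frel (j : Fin m) : MvPolynomial (Fin m) (MvPolynomial (Fin n) R) :=
  C (f j) - C (C π) * X j

variable {K : ℕ} (gen : Fin K → (Fin m → MvPolynomial (Fin n) R) × MvPolynomial (Fin n) R)

/-- The ideal of relations of the algebra `D`. -/
noncomputable def liftIdeal : Ideal (MvPolynomial (Fin m) (MvPolynomial (Fin n) R)) :=
  Ideal.span (Set.range (Frel π f)) ⊔ Ideal.span (Set.range fun k => Gmap π (gen k))

/-- The algebra `D` of the lifting lemma. -/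
abbrev LiftAlg : Type u :=
  MvPolynomial (Fin m) (MvPolynomial (Fin n) R) ⧸ liftIdeal π f gen

theorem Frel_mem (j : Fin m) : Frel π f j ∈ liftIdeal π f gen :=
  Ideal.mem_sup_left (Ideal.subset_span ⟨j, rfl⟩)

theorem Gmap_mem (hgen : Submodule.span (MvPolynomial (Fin n) R) (Set.range gen) =
      LinearMap.ker (relMap π f))
    (ah : (Fin m → MvPolynomial (Fin n) R) × MvPolynomial (Fin n) R)
    (hah : ∑ j, ah.1 j * f j = C (π ^ 2) * ah.2) : Gmap π ah ∈ liftIdeal π f gen := by
  have h1 : ah ∈ Submodule.span (MvPolynomial (Fin n) R) (Set.range gen) := by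
    rw [hgen, mem_ker_relMap]
    exact hah
  clear hah
  induction h1 using Submodule.span_induction with
  | mem x hx =>
    obtain ⟨k, rfl⟩ := hx
    exact Ideal.mem_sup_right (Ideal.subset_span ⟨k, rfl⟩)
  | zero => rw [map_zero]; exact Ideal.zero_mem _
  | add x y _ _ hx hy => rw [map_add]; exact Ideal.add_mem _ hx hy
  | smul c x _ hx =>
    rw [map_smul, MvPolynomial.smul_eq_C_mul]
    exact Ideal.mul_mem_left _ _ hx

theorem liftIdeal_fg : (liftIdeal π f gen).FG :=
  Submodule.FG.sup (Submodule.fg_span (Set.finite_range _)) (Submodule.fg_span (Set.finite_range _))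


/-- The map `P → D`. -/
noncomputable def liftι : MvPolynomial (Fin n) R →ₐ[R] LiftAlg π f gen :=
  (Ideal.Quotient.mkₐ R (liftIdeal π f gen)).comp
    (IsScalarTower.toAlgHom R (MvPolynomial (Fin n) R) (MvPolynomial (Fin m) (MvPolynomial (Fin n) R)))

theorem liftι_apply (p : MvPolynomial (Fin n) R) :
    liftι π f gen p = Ideal.Quotient.mk (liftIdeal π f gen) (C p) := rfl

theorem algebraMap_liftAlg (r : R) :
    algebraMap R (LiftAlg π f gen) r = Ideal.Quotient.mk (liftIdeal π f gen) (C (C r)) := rfl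

instance : Algebra.FinitePresentation R (LiftAlg π f gen) := by
  haveI : Algebra.Smooth R (MvPolynomial (Fin n) R) := ⟨inferInstance, inferInstance⟩
  haveI : Algebra.FinitePresentation R (MvPolynomial (Fin m) (MvPolynomial (Fin n) R)) :=
    (smooth_mvPolynomial (R := R) (B := MvPolynomial (Fin n) R)).finitePresentation
  exact Algebra.FinitePresentation.quotient (liftIdeal_fg π f gen)

/-- The universal property of the algebra `D`. -/
noncomputable def liftData (hgen : Submodule.span (MvPolynomial (Fin n) R) (Set.range gen) =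
      LinearMap.ker (relMap π f)) : LiftData R π f (LiftAlg π f gen) where
  ι := liftι π f gen
  y j := Ideal.Quotient.mk _ (X j)
  relF j := by
    rw [liftι_apply, algebraMap_liftAlg, ← map_mul, ← sub_eq_zero, ← map_sub,
      Ideal.Quotient.eq_zero_iff_mem]
    exact Frel_mem π f gen j
  relG a h hah := by
    have h1 := Gmap_mem π f gen hgen (a, h) hah
    rw [Gmap_apply, ← Ideal.Quotient.eq_zero_iff_mem, map_sub, sub_eq_zero, map_sum] at h1
    simp only [map_mul] at h1
    simp only [liftι_apply, algebraMap_liftAlg]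
    exact h1
  lift := by
    intro S _ _ θ Y hF hG
    have hCπ : θ (C π) = algebraMap R S π := by
      rw [← MvPolynomial.algebraMap_eq, θ.commutes]
    have hker : ∀ x ∈ liftIdeal π f gen, evalAlg θ Y x = 0 := by
      have : liftIdeal π f gen ≤ RingHom.ker (evalAlg θ Y).toRingHom := by
        rw [liftIdeal, sup_le_iff, Ideal.span_le, Ideal.span_le]
        constructor
        · rintro _ ⟨j, rfl⟩
          change evalAlg θ Y (Frel π f j) = 0
          rw [Frel, map_sub, map_mul, evalAlg_C, evalAlg_C, evalAlg_X, hF j, hCπ, sub_self]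
        · rintro _ ⟨k, rfl⟩
          change evalAlg θ Y (Gmap π (gen k)) = 0
          have h2 : ∑ j, (gen k).1 j * f j = C (π ^ 2) * (gen k).2 := by
            rw [← mem_ker_relMap, ← hgen]
            exact Submodule.subset_span ⟨k, rfl⟩
          rw [Gmap_apply, map_sub, map_sum, evalAlg_C, map_mul, hCπ, ← hG _ _ h2, sub_eq_zero]
          refine Finset.sum_congr rfl fun j _ => ?_
          rw [map_mul, evalAlg_C, evalAlg_X]
      exact fun x hx => this hx
    refine ⟨Ideal.Quotient.liftₐ _ (evalAlg θ Y) hker, ?_, ?_⟩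
    · intro p
      change evalAlg θ Y (C p) = _
      rw [evalAlg_C]
    · intro j
      change evalAlg θ Y (X j) = _
      rw [evalAlg_X]
  hom_ext := by
    intro S _ _ Φ₁ Φ₂ h1 h2
    apply Ideal.Quotient.algHom_ext
    apply MvPolynomial.algHom_ext'
    · apply AlgHom.ext
      intro p
      exact h1 p
    · intro j
      exact h2 j


theorem pow_succ_eq_neg_aux {A : Type*} [CommRing A] (x : A) (m : ℕ) :
    x ^ (m + 1) = (-1) ^ m * x * (-x) ^ m := by
  have h : (-x) ^ m = (-1) ^ m * x ^ m := neg_pow x m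
  have h2 : ((-1 : A) ^ m) * (-1) ^ m = 1 := by
    rw [← pow_add, Even.neg_one_pow ⟨m, rfl⟩]
  calc x ^ (m + 1) = 1 * (x * x ^ m) := by rw [one_mul, pow_succ, mul_comm]
    _ = ((-1) ^ m * (-1) ^ m) * (x * x ^ m) := by rw [h2]
    _ = (-1) ^ m * x * (-x) ^ m := by rw [h]; ring

theorem Cπ_mul_Gmap (ah : (Fin m → MvPolynomial (Fin n) R) × MvPolynomial (Fin n) R)
    (hah : ∑ j, ah.1 j * f j = C (π ^ 2) * ah.2) :
    (C (C π) : MvPolynomial (Fin m) (MvPolynomial (Fin n) R)) * Gmap π ah =
      - ∑ j, C (ah.1 j) * Frel π f j := by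
  have h1 : (C (∑ j, ah.1 j * f j) : MvPolynomial (Fin m) (MvPolynomial (Fin n) R)) =
      C (C (π ^ 2) * ah.2) := by rw [hah]
  rw [map_sum] at h1
  simp only [map_mul, map_pow] at h1
  rw [Gmap_apply]
  simp only [Frel, mul_sub, Finset.sum_sub_distrib, map_mul]
  rw [h1, Finset.mul_sum]
  have : ∀ j, (C (C π) : MvPolynomial (Fin m) (MvPolynomial (Fin n) R)) * (C (ah.1 j) * X j) =
      C (ah.1 j) * (C (C π) * X j) := fun j => by ring
  rw [Finset.sum_congr rfl fun j _ => this j]
  ring

/-- Part (b): `D` is smooth over `R` away from `π`. -/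
theorem liftAlg_smooth_away_pi (hgen : Submodule.span (MvPolynomial (Fin n) R) (Set.range gen) =
      LinearMap.ker (relMap π f)) :
    Algebra.Smooth R (Localization.Away
      ((algebraMap R (LiftAlg π f gen) π) ^ (m + 1))) := by
  classical
  have hstd : Algebra.IsStandardSmooth (MvPolynomial (Fin n) R) (Localization.Away
      ((algebraMap R (LiftAlg π f gen) π) ^ (m + 1))) := by
    refine Groth.Agent.S2032.core (R := MvPolynomial (Fin n) R) (A := LiftAlg π f gen)
      (Frel π f) (Ideal.Quotient.mkₐ _ _) ?_ Ideal.Quotient.mk_surjective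
      ((algebraMap R (LiftAlg π f gen) π) ^ (m + 1))
      ((-1) ^ m * algebraMap R (LiftAlg π f gen) π) id Function.injective_id ?_
      (liftIdeal π f gen) Ideal.mk_ker (liftIdeal_fg π f gen) (C (C π) ^ (m + 1)) rfl ?_
    · intro x hx
      refine Ideal.Quotient.eq_zero_iff_mem.mpr ?_
      exact (le_sup_left : _ ≤ liftIdeal π f gen) hx
    · have hmat : (Matrix.of fun j k : Fin m => pderiv (id k) (Frel π f j)) =
          (-(C (C π)) : MvPolynomial (Fin m) (MvPolynomial (Fin n) R)) •
            (1 : Matrix (Fin m) (Fin m) _) := by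
        ext j k
        simp only [Frel, Matrix.of_apply, id_eq, map_sub, pderiv_C, zero_sub, Matrix.smul_apply,
          Matrix.one_apply, smul_eq_mul, Derivation.leibniz, pderiv_X, Pi.single_apply]
        by_cases hjk : j = k
        · subst hjk; simp
        · have : ¬ k = j := fun h => hjk h.symm
          simp [hjk]
      rw [hmat, Matrix.det_smul, Matrix.det_one, mul_one, Fintype.card_fin, map_pow, map_neg]
      exact pow_succ_eq_neg_aux (algebraMap R (LiftAlg π f gen) π) m
    · intro y hy
      have hle : liftIdeal π f gen ≤ Submodule.comap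
          (LinearMap.mulLeft (MvPolynomial (Fin m) (MvPolynomial (Fin n) R))
            ((C (C π)) ^ (m + 1) : MvPolynomial (Fin m) (MvPolynomial (Fin n) R)))
          (Ideal.span (Set.range (Frel π f)) ⊔ liftIdeal π f gen ^ 2) := by
        rw [liftIdeal, sup_le_iff, Ideal.span_le, Ideal.span_le]
        constructor
        · rintro _ ⟨j, rfl⟩
          exact Ideal.mem_sup_left (Ideal.mul_mem_left _ _ (Ideal.subset_span ⟨j, rfl⟩))
        · rintro _ ⟨k, rfl⟩
          have h2 : ∑ j, (gen k).1 j * f j = C (π ^ 2) * (gen k).2 := by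
            rw [← mem_ker_relMap, ← hgen]
            exact Submodule.subset_span ⟨k, rfl⟩
          refine Ideal.mem_sup_left ?_
          change C (C π) ^ (m + 1) * Gmap π (gen k) ∈ _
          rw [pow_succ, mul_assoc, Cπ_mul_Gmap π f _ h2]
          refine Ideal.mul_mem_left _ _ (Ideal.neg_mem_iff _ |>.mpr ?_)
          exact Ideal.sum_mem _ fun j _ => Ideal.mul_mem_left _ _ (Ideal.subset_span ⟨j, rfl⟩)
      exact hle hy
  haveI : Algebra.Smooth (MvPolynomial (Fin n) R) (Localization.Away
      ((algebraMap R (LiftAlg π f gen) π) ^ (m + 1))) := inferInstance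
  haveI : Algebra.Smooth R (MvPolynomial (Fin n) R) := ⟨inferInstance, inferInstance⟩
  exact Algebra.Smooth.comp R (MvPolynomial (Fin n) R) _

end Concrete

end Groth.Agent.Lib.Helper22.Pop
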