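import Mathlib
import Groth.Prelude.Def_Smoothing
import Groth.Agent.Lib.Helper22.PopI

set_option linter.style.haveILetI false
set_option linter.unusedSectionVars false

universe u

namespace Groth.Agent.Lib.Helper22.Pop

open MvPolynomial

theorem map_jacobianMinor {R S : Type u} [CommRing R] [CommRing S] (φ : R →+* S) {n m c : ℕ}
    (f : Fin m → MvPolynomial (Fin n) R) (rows : Fin c → Fin m) (cols : Fin c → Fin n) :
    MvPolynomial.map φ (Smoothing.jacobianMinor f rows cols) =
      Smoothing.jacobianMinor (fun j => MvPolynomial.map φ (f j)) rows cols := by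
  unfold Smoothing.jacobianMinor
  rw [RingHom.map_det]
  congr 1
  ext j k
  rw [RingHom.mapMatrix_apply, Matrix.map_apply, Matrix.of_apply, Matrix.of_apply,
    MvPolynomial.pderiv_map]

/-- Pulling back ideal membership along a surjection. -/
theorem mem_sup_ker_of_map_mem {A B : Type*} [CommRing A] [CommRing B] (φ : A →+* B)
    (hφ : Function.Surjective φ) (J : Ideal A) {x : A} (hx : φ x ∈ J.map φ) :
    x ∈ J ⊔ RingHom.ker φ := by
  rw [Ideal.mem_map_iff_of_surjective _ hφ] at hx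
  obtain ⟨w, hw, hwx⟩ := hx
  have : x = w + (x - w) := by ring
  rw [this]
  refine Ideal.add_mem _ (Ideal.mem_sup_left hw) (Ideal.mem_sup_right ?_)
  rw [RingHom.mem_ker, map_sub, hwx, sub_self]


theorem exists_presentation_mod {R : Type u} [CommRing R] (z : R) {C' : Type u} [CommRing C']
    [Algebra R C'] [Algebra (R ⧸ Ideal.span {z}) C'] [IsScalarTower R (R ⧸ Ideal.span {z}) C']
    [Algebra.FinitePresentation (R ⧸ Ideal.span {z}) C'] :
    ∃ (n m : ℕ) (fb : Fin m → MvPolynomial (Fin n) (R ⧸ Ideal.span {z}))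
      (χb : MvPolynomial (Fin n) (R ⧸ Ideal.span {z}) →ₐ[R ⧸ Ideal.span {z}] C')
      (f : Fin m → MvPolynomial (Fin n) R) (χ : MvPolynomial (Fin n) R →ₐ[R] C'),
      Function.Surjective χb ∧ RingHom.ker χb.toRingHom = Ideal.span (Set.range fb) ∧
      (∀ j, MvPolynomial.map (Ideal.Quotient.mk (Ideal.span {z})) (f j) = fb j) ∧
      (∀ p, χ p = χb (MvPolynomial.map (Ideal.Quotient.mk (Ideal.span {z})) p)) ∧
      Function.Surjective χ ∧
      RingHom.ker χ.toRingHom = Ideal.span (Set.range f) ⊔ Ideal.span {C z} := by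
  obtain ⟨n, χb, hχb, hker⟩ := Algebra.FinitePresentation.out (R := R ⧸ Ideal.span {z}) (A := C')
  obtain ⟨m, fb, hfb0⟩ := Submodule.fg_iff_exists_fin_generating_family.mp hker
  have hfb : Ideal.span (Set.range fb) = RingHom.ker χb.toRingHom := hfb0
  have hsurj : Function.Surjective (MvPolynomial.map (σ := Fin n) (Ideal.Quotient.mk (Ideal.span {z}))) :=
    MvPolynomial.map_surjective _ Ideal.Quotient.mk_surjective
  choose f hf using fun j => hsurj (fb j)
  let χ : MvPolynomial (Fin n) R →ₐ[R] C' :=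
    (χb.restrictScalars R).comp (MvPolynomial.mapAlgHom (Algebra.ofId R (R ⧸ Ideal.span {z})))
  have hχ : ∀ p, χ p = χb (MvPolynomial.map (Ideal.Quotient.mk (Ideal.span {z})) p) := fun p => rfl
  refine ⟨n, m, fb, χb, f, χ, hχb, hfb.symm, hf, hχ, ?_, ?_⟩
  · intro c
    obtain ⟨q, rfl⟩ := hχb c
    obtain ⟨p, rfl⟩ := hsurj q
    exact ⟨p, hχ p⟩
  · have hkm : RingHom.ker (MvPolynomial.map (σ := Fin n) (Ideal.Quotient.mk (Ideal.span {z}))) =
        Ideal.span {C z} := by
      rw [MvPolynomial.ker_map, Ideal.mk_ker, Ideal.map_span, Set.image_singleton]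
    have hmapf : (Ideal.span (Set.range f)).map
        (MvPolynomial.map (σ := Fin n) (Ideal.Quotient.mk (Ideal.span {z}))) =
        Ideal.span (Set.range fb) := by
      rw [Ideal.map_span]
      congr 1
      ext y
      constructor
      · rintro ⟨_, ⟨j, rfl⟩, rfl⟩
        exact ⟨j, (hf j).symm⟩
      · rintro ⟨j, rfl⟩
        exact ⟨f j, ⟨j, rfl⟩, hf j⟩
    ext p
    rw [RingHom.mem_ker]
    change χ p = 0 ↔ _
    rw [hχ]
    constructor
    · intro hp
      have h1 : MvPolynomial.map (Ideal.Quotient.mk (Ideal.span {z})) p ∈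
          RingHom.ker χb.toRingHom := hp
      rw [← hfb, ← hmapf] at h1
      have := mem_sup_ker_of_map_mem _ hsurj _ h1
      rwa [hkm] at this
    · intro hp
      have h2 : MvPolynomial.map (Ideal.Quotient.mk (Ideal.span {z})) p ∈
          Ideal.span (Set.range fb) := by
        rw [← hmapf]
        obtain ⟨x, hx, y, hy, rfl⟩ := Submodule.mem_sup.mp hp
        rw [map_add]
        have hy' : MvPolynomial.map (Ideal.Quotient.mk (Ideal.span {z})) y = 0 := by
          rw [← RingHom.mem_ker, hkm]; exact hy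
        rw [hy', add_zero]
        exact Ideal.mem_map_of_mem _ hx
      rw [hfb] at h2
      exact h2


theorem lifting_core {R Λ C' D : Type u} [CommRing R] [CommRing Λ]
    [Algebra R Λ] (π : R) (hR : ∀ r : R, π ^ 2 * r = 0 → π * r = 0)
    (hΛ : ∀ x : Λ, π ^ 2 • x = 0 → π • x = 0) [CommRing C'] [Algebra R C']
    [Algebra (R ⧸ Ideal.span {π ^ 2}) C'] [IsScalarTower R (R ⧸ Ideal.span {π ^ 2}) C']
    (g : C' →ₐ[R] Λ ⧸ Ideal.span {algebraMap R Λ (π ^ 2)})
    [CommRing D] [Algebra R D] [Algebra.FinitePresentation R D] {n m : ℕ}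
    (fb : Fin m → MvPolynomial (Fin n) (R ⧸ Ideal.span {π ^ 2}))
    (χb : MvPolynomial (Fin n) (R ⧸ Ideal.span {π ^ 2}) →ₐ[R ⧸ Ideal.span {π ^ 2}] C')
    (f : Fin m → MvPolynomial (Fin n) R) (χ : MvPolynomial (Fin n) R →ₐ[R] C')
    (hχbsurj : Function.Surjective χb)
    (hkerb : RingHom.ker χb.toRingHom = Ideal.span (Set.range fb))
    (hf : ∀ j, MvPolynomial.map (Ideal.Quotient.mk (Ideal.span {π ^ 2})) (f j) = fb j)
    (hχ : ∀ p, χ p = χb (MvPolynomial.map (Ideal.Quotient.mk (Ideal.span {π ^ 2})) p))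
    (hχsurj : Function.Surjective χ)
    (hkerχ : RingHom.ker χ.toRingHom = Ideal.span (Set.range f) ⊔ Ideal.span {C (π ^ 2)})
    (L : LiftData R π f D) (N₀ : ℕ)
    (hbsm : Algebra.Smooth R (Localization.Away ((algebraMap R D π) ^ (N₀ + 1)))) :
      ∃ (δ : D →ₐ[R] Λ) (ψ : C' →ₐ[R] D ⧸ Ideal.span {algebraMap R D π}),
        (∀ (c : C') (d : D) (l : Λ), Ideal.Quotient.mk (Ideal.span {algebraMap R D π}) d = ψ c →
          Ideal.Quotient.mk (Ideal.span {algebraMap R Λ (π ^ 2)}) l = g c →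
            δ d - l ∈ Ideal.span {algebraMap R Λ π}) ∧
        (∀ (Q : Ideal D) [Q.IsPrime], algebraMap R D π ∉ Q → Algebra.IsSmoothAt R Q) ∧
        (∀ (Q : Ideal (D ⧸ Ideal.span {algebraMap R D π})) [Q.IsPrime],
          Algebra.IsSmoothAt (R ⧸ Ideal.span {π ^ 2}) (Q.comap ψ) →
            Algebra.IsSmoothAt R (Q.comap (Ideal.Quotient.mk (Ideal.span {algebraMap R D π})))) := by
  classical
  -- membership in ker χ
  have hχf : ∀ j, χ (f j) = 0 := by
    intro j
    have : f j ∈ RingHom.ker χ.toRingHom := by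
      rw [hkerχ]; exact Ideal.mem_sup_left (Ideal.subset_span ⟨j, rfl⟩)
    exact this
  have hχπ : χ (C (π ^ 2)) = 0 := by
    have : C (π ^ 2) ∈ RingHom.ker χ.toRingHom := by
      rw [hkerχ]; exact Ideal.mem_sup_right (Ideal.subset_span rfl)
    exact this
  -- δ
  choose lam hlam using fun i : Fin n => Ideal.Quotient.mk_surjective (g (χ (X i)))
  let φ₀ : MvPolynomial (Fin n) R →ₐ[R] Λ := aeval lam
  have hφ₀ : ∀ p, Ideal.Quotient.mk (Ideal.span {algebraMap R Λ (π ^ 2)}) (φ₀ p) = g (χ p) := by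
    have : (Ideal.Quotient.mkₐ R (Ideal.span {algebraMap R Λ (π ^ 2)})).comp φ₀ = g.comp χ := by
      apply MvPolynomial.algHom_ext
      intro i
      simp only [AlgHom.comp_apply, φ₀, aeval_X, Ideal.Quotient.mkₐ_eq_mk, hlam]
    exact fun p => AlgHom.congr_fun this p
  have hμ : ∀ j, ∃ μ' : Λ, φ₀ (f j) = algebraMap R Λ π * (algebraMap R Λ π * μ') := by
    intro j
    have h1 : φ₀ (f j) ∈ Ideal.span {algebraMap R Λ (π ^ 2)} := by
      rw [← Ideal.Quotient.eq_zero_iff_mem, hφ₀, hχf, map_zero]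
    obtain ⟨μ', hμ'⟩ := Ideal.mem_span_singleton'.mp h1
    refine ⟨μ', ?_⟩
    rw [← hμ', map_pow]
    ring
  choose μ' hμ' using hμ
  have hG : ∀ (a : Fin m → MvPolynomial (Fin n) R) (h : MvPolynomial (Fin n) R),
      ∑ j, a j * f j = C (π ^ 2) * h →
        ∑ j, φ₀ (a j) * (algebraMap R Λ π * μ' j) = algebraMap R Λ π * φ₀ h := by
    intro a h hah
    have h1 : π ^ 2 • (∑ j, φ₀ (a j) * μ' j - φ₀ h) = 0 := by
      rw [Algebra.smul_def, mul_sub, Finset.mul_sum, map_pow]
      have : ∀ j, algebraMap R Λ π ^ 2 * (φ₀ (a j) * μ' j) = φ₀ (a j * f j) := by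
        intro j
        rw [map_mul, hμ' j]
        ring
      rw [Finset.sum_congr rfl fun j _ => this j, ← map_sum, hah, map_mul,
        ← MvPolynomial.algebraMap_eq, φ₀.commutes, map_pow, sub_self]
    have h2 := hΛ _ h1
    rw [Algebra.smul_def, mul_sub, sub_eq_zero, Finset.mul_sum] at h2
    rw [← h2]
    refine Finset.sum_congr rfl fun j _ => ?_
    ring
  obtain ⟨δ, hδι, hδy⟩ := L.lift φ₀ (fun j => algebraMap R Λ π * μ' j) hμ' hG
  -- ψ
  have hψker : RingHom.ker χ.toRingHom ≤ RingHom.ker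
      ((Ideal.Quotient.mkₐ R (Ideal.span {algebraMap R D π})).comp L.ι).toRingHom := by
    rw [hkerχ, sup_le_iff, Ideal.span_le, Ideal.span_le]
    constructor
    · rintro _ ⟨j, rfl⟩
      change Ideal.Quotient.mk _ (L.ι (f j)) = 0
      rw [Ideal.Quotient.eq_zero_iff_mem, L.relF]
      exact Ideal.mul_mem_right _ _ (Ideal.subset_span rfl)
    · rintro _ rfl
      change Ideal.Quotient.mk _ (L.ι (C (π ^ 2))) = 0
      rw [Ideal.Quotient.eq_zero_iff_mem, ← MvPolynomial.algebraMap_eq, L.ι.commutes, map_pow, pow_two]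
      exact Ideal.mul_mem_right _ _ (Ideal.subset_span rfl)
  let ψ : C' →ₐ[R] D ⧸ Ideal.span {algebraMap R D π} :=
    AlgHom.liftOfSurjective χ hχsurj _ hψker
  have hψ : ∀ p, ψ (χ p) = Ideal.Quotient.mk _ (L.ι p) := fun p =>
    AlgHom.liftOfSurjective_apply χ hχsurj _ hψker p
  refine ⟨δ, ψ, ?_, ?_, ?_⟩
  · -- compatibility
    intro c d l hd hl
    obtain ⟨p, rfl⟩ := hχsurj c
    rw [hψ, Ideal.Quotient.eq, Ideal.mem_span_singleton'] at hd
    obtain ⟨e, he⟩ := hd
    rw [← hφ₀, Ideal.Quotient.eq, Ideal.mem_span_singleton'] at hl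
    obtain ⟨e', he'⟩ := hl
    have hd' : d = L.ι p + e * algebraMap R _ π := by rw [he]; ring
    have hl' : l = φ₀ p + e' * algebraMap R Λ (π ^ 2) := by rw [he']; ring
    rw [hd', hl', map_add, map_mul, hδι, δ.commutes, Ideal.mem_span_singleton']
    refine ⟨δ e - e' * algebraMap R Λ π, ?_⟩
    rw [map_pow]
    ring
  · -- (b)
    intro Q _ hQ
    refine isSmoothAt_of_smooth_away hbsm Q ?_
    intro hmem
    exact hQ (Ideal.IsPrime.mem_of_pow_mem inferInstance _ hmem)
  · -- (c)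
    intro Q _ hsm
    haveI : Algebra.IsSmoothAt (R ⧸ Ideal.span {π ^ 2}) (Q.comap ψ) := hsm
    obtain ⟨ab, hab, c, rows, cols, ab', hab', htail⟩ :=
      Groth.Agent.S2108.result (R := R ⧸ Ideal.span {π ^ 2}) (A := C') fb χb hχbsurj hkerb (Q.comap ψ)
    obtain ⟨g₁, hg₁⟩ := hχsurj ab
    have hg₁b : χb (MvPolynomial.map (Ideal.Quotient.mk (Ideal.span {π ^ 2})) g₁) = ab := by
      rw [← hχ, hg₁]
    -- the ideals
    have hkm : RingHom.ker (MvPolynomial.map (σ := Fin n) (Ideal.Quotient.mk (Ideal.span {π ^ 2}))) =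
        Ideal.span {C (π ^ 2)} := by
      rw [MvPolynomial.ker_map, Ideal.mk_ker, Ideal.map_span, Set.image_singleton]
    have hsurj : Function.Surjective
        (MvPolynomial.map (σ := Fin n) (Ideal.Quotient.mk (Ideal.span {π ^ 2}))) :=
      MvPolynomial.map_surjective _ Ideal.Quotient.mk_surjective
    have hgen1 : ∀ y ∈ Ideal.span (Set.range f), g₁ * y ∈
        Ideal.span (Set.range (f ∘ rows)) ⊔ Ideal.span (Set.range f) ^ 2 ⊔
          Ideal.span {C (π ^ 2)} := by
      have hle : Ideal.span (Set.range f) ≤ Submodule.comap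
          (LinearMap.mulLeft (MvPolynomial (Fin n) R) g₁)
          (Ideal.span (Set.range (f ∘ rows)) ⊔ Ideal.span (Set.range f) ^ 2 ⊔
            Ideal.span {C (π ^ 2)}) := by
        rw [Ideal.span_le]
        rintro _ ⟨ℓ, rfl⟩
        rw [SetLike.mem_coe, Submodule.mem_comap, LinearMap.mulLeft_apply]
        rw [← hkm]
        apply mem_sup_ker_of_map_mem _ hsurj
        rw [map_mul, hf, Ideal.map_sup, Ideal.map_pow, Ideal.map_span, Ideal.map_span]
        have e1 : (MvPolynomial.map (Ideal.Quotient.mk (Ideal.span {π ^ 2}))) '' Set.range (f ∘ rows) =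
            Set.range (fb ∘ rows) := by
          ext y
          constructor
          · rintro ⟨_, ⟨r, rfl⟩, rfl⟩
            exact ⟨r, (hf _).symm⟩
          · rintro ⟨r, rfl⟩
            exact ⟨f (rows r), ⟨r, rfl⟩, hf _⟩
        have e2 : (MvPolynomial.map (Ideal.Quotient.mk (Ideal.span {π ^ 2}))) '' Set.range f =
            Set.range fb := by
          ext y
          constructor
          · rintro ⟨_, ⟨r, rfl⟩, rfl⟩
            exact ⟨r, (hf _).symm⟩
          · rintro ⟨r, rfl⟩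
            exact ⟨f r, ⟨r, rfl⟩, hf _⟩
        rw [e1, e2]
        exact htail _ hg₁b ℓ
      exact fun y hy => hle hy
    obtain ⟨v, N, hvN, hvI⟩ := kill_lemma (Ideal.span (Set.range f))
      (Ideal.span (Set.range (f ∘ rows))) (Ideal.span {C (π ^ 2)})
      (Submodule.fg_span (Set.finite_range f)) g₁ hgen1
    have hχv : χ v = ab ^ N := by
      have h1 : v - g₁ ^ N ∈ RingHom.ker χ.toRingHom := by
        rw [hkerχ]
        have hle : Ideal.span (Set.range f) ⊔ Ideal.span (Set.range (f ∘ rows)) ⊔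
            Ideal.span {C (π ^ 2)} ≤ Ideal.span (Set.range f) ⊔ Ideal.span {C (π ^ 2)} := by
          refine sup_le (sup_le le_sup_left ?_) le_sup_right
          refine le_trans (Ideal.span_mono ?_) le_sup_left
          rintro _ ⟨r, rfl⟩
          exact ⟨rows r, rfl⟩
        exact hle hvN
      have h2 : χ (v - g₁ ^ N) = 0 := h1
      rw [map_sub, map_pow, hg₁, sub_eq_zero] at h2
      exact h2
    have hχΔ : χ (Smoothing.jacobianMinor f rows cols) =
        χb (Smoothing.jacobianMinor fb rows cols) := by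
      rw [hχ, map_jacobianMinor]
      congr 2
      funext j
      exact hf j
    have hv : ∀ ℓ, v * f ℓ ∈ Ideal.span (Set.range (f ∘ rows)) ⊔ Ideal.span {C (π ^ 2)} :=
      fun ℓ => hvI _ (Ideal.subset_span ⟨ℓ, rfl⟩)
    have hsmooth := L.smooth_away hR rows rows.injective cols cols.injective v hv
    refine isSmoothAt_of_smooth_away hsmooth _ ?_
    intro hmem
    rw [Ideal.mem_comap, ← hψ] at hmem
    have h3 : χ (v * Smoothing.jacobianMinor f rows cols) ∈ Q.comap ψ := hmem
    rw [map_mul, hχv, hχΔ] at h3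
    rcases (inferInstance : (Q.comap ψ).IsPrime).mem_or_mem h3 with h4 | h4
    · exact hab (Ideal.IsPrime.mem_of_pow_mem inferInstance _ h4)
    · apply hab
      rw [hab']
      exact Ideal.mul_mem_left _ _ h4

theorem lifting_lemma {R Λ C' : Type u} [CommRing R] [IsNoetherianRing R] [CommRing Λ]
    [Algebra R Λ] (π : R) (hR : ∀ r : R, π ^ 2 * r = 0 → π * r = 0)
    (hΛ : ∀ x : Λ, π ^ 2 • x = 0 → π • x = 0) [CommRing C'] [Algebra R C']
    [Algebra (R ⧸ Ideal.span {π ^ 2}) C'] [IsScalarTower R (R ⧸ Ideal.span {π ^ 2}) C']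
    [Algebra.FinitePresentation (R ⧸ Ideal.span {π ^ 2}) C']
    (g : C' →ₐ[R] Λ ⧸ Ideal.span {algebraMap R Λ (π ^ 2)}) :
    ∃ (D : Type u) (_ : CommRing D) (_ : Algebra R D), Algebra.FinitePresentation R D ∧
      ∃ (δ : D →ₐ[R] Λ) (ψ : C' →ₐ[R] D ⧸ Ideal.span {algebraMap R D π}),
        (∀ (c : C') (d : D) (l : Λ), Ideal.Quotient.mk (Ideal.span {algebraMap R D π}) d = ψ c →
          Ideal.Quotient.mk (Ideal.span {algebraMap R Λ (π ^ 2)}) l = g c →
            δ d - l ∈ Ideal.span {algebraMap R Λ π}) ∧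
        (∀ (Q : Ideal D) [Q.IsPrime], algebraMap R D π ∉ Q → Algebra.IsSmoothAt R Q) ∧
        (∀ (Q : Ideal (D ⧸ Ideal.span {algebraMap R D π})) [Q.IsPrime],
          Algebra.IsSmoothAt (R ⧸ Ideal.span {π ^ 2}) (Q.comap ψ) →
            Algebra.IsSmoothAt R (Q.comap (Ideal.Quotient.mk (Ideal.span {algebraMap R D π})))) := by
  classical
  obtain ⟨n, m, fb, χb, f, χ, hχbsurj, hkerb, hf, hχ, hχsurj, hkerχ⟩ :=
    exists_presentation_mod (R := R) (π ^ 2) (C' := C')
  -- generators of the relation module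
  haveI : IsNoetherianRing (MvPolynomial (Fin n) R) := inferInstance
  have hfg : (LinearMap.ker (relMap π f)).FG := IsNoetherian.noetherian _
  obtain ⟨K, gen, hgen⟩ := Submodule.fg_iff_exists_fin_generating_family.mp hfg
  exact ⟨LiftAlg π f gen, inferInstance, inferInstance, inferInstance,
    lifting_core π hR hΛ g fb χb f χ hχbsurj hkerb hf hχ hχsurj hkerχ (liftData π f gen hgen) m
      (liftAlg_smooth_away_pi π f gen hgen)⟩

end Groth.Agent.Lib.Helper22.Pop
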