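import Mathlib
import Groth.Prelude.Def_Smoothing
import Groth.Agent.Lib.Helper22.PopJ

set_option linter.style.haveILetI false
set_option linter.unusedSectionVars false

universe u

namespace Groth.Agent.Lib.Helper22.Pop

open MvPolynomial

section Taylor

variable {R S σ : Type*} [CommRing R] [CommRing S] [Algebra R S] [Fintype σ] [DecidableEq σ]

/-- First order: `p(a + h) ≡ p(a)` modulo an ideal containing the `h i`. -/
theorem taylor1 (a h : σ → S) (J : Ideal S) (hJ : ∀ i, h i ∈ J) (p : MvPolynomial σ R) :
    aeval (a + h) p - aeval a p ∈ J := by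
  have : (Ideal.Quotient.mkₐ R J).comp (aeval (a + h)) =
      (Ideal.Quotient.mkₐ R J).comp (aeval (R := R) a) := by
    apply MvPolynomial.algHom_ext
    intro i
    simp only [AlgHom.comp_apply, aeval_X, Pi.add_apply, Ideal.Quotient.mkₐ_eq_mk, map_add]
    rw [Ideal.Quotient.eq_zero_iff_mem.mpr (hJ i), add_zero]
  have h2 := AlgHom.congr_fun this p
  simp only [AlgHom.comp_apply, Ideal.Quotient.mkₐ_eq_mk] at h2
  rw [← Ideal.Quotient.eq_zero_iff_mem, map_sub, h2, sub_self]

/-- Second order Taylor expansion with remainder in `J ^ 2`. -/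
theorem taylor2 (a h : σ → S) (J : Ideal S) (hJ : ∀ i, h i ∈ J) (p : MvPolynomial σ R) :
    aeval (a + h) p - aeval a p - ∑ i, aeval a (pderiv i p) * h i ∈ J ^ 2 := by
  induction p using MvPolynomial.induction_on with
  | C r =>
    simp only [aeval_C, sub_self, pderiv_C, map_zero, zero_mul, Finset.sum_const_zero]
    exact Ideal.zero_mem _
  | add p q hp hq =>
    have : aeval (a + h) (p + q) - aeval a (p + q) - ∑ i, aeval a (pderiv i (p + q)) * h i =
        (aeval (a + h) p - aeval a p - ∑ i, aeval a (pderiv i p) * h i) +
        (aeval (a + h) q - aeval a q - ∑ i, aeval a (pderiv i q) * h i) := by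
      simp only [map_add, add_mul, Finset.sum_add_distrib]
      ring
    rw [this]
    exact Ideal.add_mem _ hp hq
  | mul_X p l hp =>
    have h1 : ∑ i, aeval a (pderiv i (p * X l)) * h i =
        a l * ∑ i, aeval a (pderiv i p) * h i + aeval a p * h l := by
      have : ∀ i, aeval a (pderiv i (p * X l)) * h i =
          a l * (aeval a (pderiv i p) * h i) + aeval a p * (if i = l then h i else 0) := by
        intro i
        rw [Derivation.leibniz, pderiv_X, smul_eq_mul, smul_eq_mul, map_add, map_mul, map_mul,
          aeval_X]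
        by_cases hil : i = l
        · subst hil
          rw [Pi.single_eq_same, map_one, if_pos rfl]
          ring
        · rw [Pi.single_eq_of_ne (Ne.symm hil), map_zero, if_neg hil]
          ring
      rw [Finset.sum_congr rfl fun i _ => this i, Finset.sum_add_distrib, ← Finset.mul_sum,
        ← Finset.mul_sum, Finset.sum_ite_eq' Finset.univ l, if_pos (Finset.mem_univ l)]
    have h2 : aeval (a + h) (p * X l) - aeval a (p * X l) -
        ∑ i, aeval a (pderiv i (p * X l)) * h i =
        a l * (aeval (a + h) p - aeval a p - ∑ i, aeval a (pderiv i p) * h i) +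
          (aeval (a + h) p - aeval a p) * h l := by
      rw [h1, map_mul, map_mul, aeval_X, aeval_X, Pi.add_apply]
      ring
    rw [h2]
    refine Ideal.add_mem _ (Ideal.mul_mem_left _ _ hp) ?_
    rw [pow_two]
    exact Ideal.mul_mem_mul (taylor1 a h J hJ p) (hJ l)

end Taylor

/-- Transfer of annihilator conditions to polynomial rings. -/
theorem C_mul_eq_zero_transfer {R σ : Type*} [CommRing R] (a b : R)
    (hab : ∀ y : R, a * y = 0 → b * y = 0) (x : MvPolynomial σ R) (hx : C a * x = 0) :
    C b * x = 0 := by
  ext mon
  rw [coeff_C_mul, coeff_zero]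
  apply hab
  have := congrArg (coeff mon) hx
  rwa [coeff_C_mul, coeff_zero] at this

/-- A matrix congruent to the identity modulo an ideal has determinant congruent to one. -/
theorem det_sub_one_mem {S ι : Type*} [CommRing S] [Fintype ι] [DecidableEq ι] (J : Ideal S)
    (A : Matrix ι ι S) (hA : ∀ i j, A i j - (1 : Matrix ι ι S) i j ∈ J) : A.det - 1 ∈ J := by
  rw [← Ideal.Quotient.eq_zero_iff_mem, map_sub, map_one, RingHom.map_det, sub_eq_zero]
  have : (Ideal.Quotient.mk J).mapMatrix A = 1 := by
    ext i j
    rw [RingHom.mapMatrix_apply, Matrix.map_apply]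
    have h1 := Ideal.Quotient.eq_zero_iff_mem.mpr (hA i j)
    rw [map_sub, sub_eq_zero] at h1
    rw [h1]
    by_cases hij : i = j
    · subst hij; simp
    · simp [hij]
  rw [this, Matrix.det_one]

/-- A right inverse up to the combination of maximal minors (Cramer). -/
theorem exists_right_inv_of_minors {R : Type*} [CommRing R] {c n : ℕ}
    (M : Matrix (Fin c) (Fin n) R) (s : (Fin c → Fin n) → R) :
    ∃ N : Matrix (Fin n) (Fin c) R, ∀ j k, ∑ i, M j i * N i k =
      if j = k then ∑ cols : Fin c → Fin n, s cols * (M.submatrix id cols).det else 0 := by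
  classical
  refine ⟨fun i k => ∑ cols : Fin c → Fin n, s cols *
    ∑ l, (if i = cols l then 1 else 0) * (M.submatrix id cols).adjugate l k, ?_⟩
  intro j k
  have h1 : ∀ cols : Fin c → Fin n, ∑ l, M j (cols l) * (M.submatrix id cols).adjugate l k =
      if j = k then (M.submatrix id cols).det else 0 := by
    intro cols
    have := congrFun (congrFun (Matrix.mul_adjugate (M.submatrix id cols)) j) k
    rw [Matrix.mul_apply, Matrix.smul_apply, Matrix.one_apply, smul_eq_mul] at this
    simp only [Matrix.submatrix_apply, id_eq] at this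
    rw [this]
    split_ifs <;> simp
  calc ∑ i, M j i * ∑ cols : Fin c → Fin n, s cols *
        ∑ l, (if i = cols l then 1 else 0) * (M.submatrix id cols).adjugate l k
      = ∑ cols : Fin c → Fin n, s cols *
          ∑ l, M j (cols l) * (M.submatrix id cols).adjugate l k := by
        simp only [Finset.mul_sum]
        rw [Finset.sum_comm]
        refine Finset.sum_congr rfl fun cols _ => ?_
        rw [Finset.sum_comm]
        refine Finset.sum_congr rfl fun l _ => ?_
        rw [Finset.sum_eq_single (cols l)]
        · rw [if_pos rfl]; ring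
        · intro i _ hi
          rw [if_neg hi]; ring
        · intro h; exact absurd (Finset.mem_univ _) h
    _ = _ := by
        simp only [h1]
        split_ifs
        · rfl
        · simp

/-- Iterating the annihilator hypothesis. -/
theorem ann_pow_three {Λ : Type*} [CommRing Λ] (p : Λ) (h : ∀ x : Λ, p ^ 2 * x = 0 → p * x = 0)
    (x : Λ) (hx : p ^ 3 * x = 0) : p * x = 0 := by
  have h1 : p ^ 2 * (p * x) = 0 := by rw [← hx]; ring
  have h2 := h _ h1
  have h3 : p ^ 2 * x = 0 := by rw [← h2]; ring
  exact h _ h3

end Groth.Agent.Lib.Helper22.Pop
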