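import Mathlib
import Groth.Prelude.Def_Smoothing
import Groth.Agent.Lib.Helper22.PopK

set_option linter.style.haveILetI false
set_option linter.unusedSectionVars false

universe u

namespace Groth.Agent.Lib.Helper22.Pop

open MvPolynomial

/-- The data entering the desingularization construction (Stacks 07CR). -/
structure DesData (R : Type u) [CommRing R] where
  π : R
  n : ℕ
  m : ℕ
  c : ℕ
  hcm : c ≤ m
  f : Fin m → MvPolynomial (Fin n) R
  r : Fin n → R
  η : Fin m → R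
  hη : ∀ j, eval r (f j) = π ^ 4 * η j
  N : Matrix (Fin n) (Fin c) R
  t : R
  hN : ∀ j k : Fin c, ∑ i, eval r (pderiv i (f (Fin.castLE hcm j))) * N i k =
    if j = k then π * (1 + π ^ 3 * t) else 0

namespace DesData

variable {R : Type u} [CommRing R] (D : DesData R)

/-- The polynomial ring `R[v][w]`. -/
abbrev T : Type u := MvPolynomial (Fin D.c) (MvPolynomial (Fin D.n) R)

/-- constants -/
noncomputable def cR (x : R) : D.T := C (C x)

theorem cR_eq_algebraMap (x : R) : D.cR x = algebraMap R D.T x := rfl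

theorem cR_mul (x y : R) : D.cR (x * y) = D.cR x * D.cR y := by
  simp only [cR, map_mul]

theorem cR_pow (x : R) (k : ℕ) : D.cR (x ^ k) = D.cR x ^ k := by
  simp only [cR, map_pow]

theorem cR_add (x y : R) : D.cR (x + y) = D.cR x + D.cR y := by
  simp only [cR, map_add]

theorem cR_one : D.cR 1 = 1 := by
  simp only [cR, map_one]

/-- the variables `v` -/
noncomputable def vv (i : Fin D.n) : D.T := C (X i)

/-- the variables `w` -/
noncomputable def ww (k : Fin D.c) : D.T := X k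

/-- `z = π v + N w`. -/
noncomputable def z (i : Fin D.n) : D.T := D.cR D.π * D.vv i + ∑ k, D.cR (D.N i k) * D.ww k

/-- The substitution `x = r + π² z`. -/
noncomputable def θ : MvPolynomial (Fin D.n) R →ₐ[R] D.T :=
  aeval (fun i => D.cR (D.r i) + D.cR (D.π ^ 2) * D.z i)

theorem θ_X (i : Fin D.n) : D.θ (X i) = D.cR (D.r i) + D.cR (D.π ^ 2) * D.z i := by
  rw [θ, aeval_X]

theorem exists_taylor (p : MvPolynomial (Fin D.n) R) :
    ∃ q : D.T, D.θ p = D.cR (eval D.r p) +
      D.cR (D.π ^ 2) * ∑ i, D.cR (eval D.r (pderiv i p)) * D.z i + D.cR (D.π ^ 4) * q := by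
  classical
  have h1 := taylor2 (R := R) (fun i => D.cR (D.r i)) (fun i => D.cR (D.π ^ 2) * D.z i)
    (Ideal.span {D.cR (D.π ^ 2)}) (fun i => Ideal.mul_mem_right _ _ (Ideal.subset_span rfl)) p
  rw [Ideal.span_singleton_pow, Ideal.mem_span_singleton'] at h1
  obtain ⟨q, hq⟩ := h1
  have h2 : ∀ p' : MvPolynomial (Fin D.n) R,
      aeval (fun i => D.cR (D.r i)) p' = D.cR (eval D.r p') := by
    intro p'
    have := MvPolynomial.aeval_algebraMap_apply (A := R) (B := D.T) D.r p'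
    rw [cR_eq_algebraMap, ← coe_aeval_eq_eval]
    exact this
  refine ⟨q, ?_⟩
  have h3 : D.θ p = aeval ((fun i => D.cR (D.r i)) + fun i => D.cR (D.π ^ 2) * D.z i) p := rfl
  rw [h3]
  have h4 : ∑ i, aeval (fun i => D.cR (D.r i)) (pderiv i p) * (D.cR (D.π ^ 2) * D.z i) =
      D.cR (D.π ^ 2) * ∑ i, D.cR (eval D.r (pderiv i p)) * D.z i := by
    rw [Finset.mul_sum]
    refine Finset.sum_congr rfl fun i _ => ?_
    rw [h2]
    ring
  rw [h2, h4] at hq
  have h5 : D.cR (D.π ^ 4) = D.cR (D.π ^ 2) ^ 2 := by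
    rw [← cR_pow]; congr 1; ring
  rw [h5, mul_comm _ q, hq]
  ring

/-- The Taylor remainders of the relations. -/
noncomputable def Q (j : Fin D.m) : D.T := Classical.choose (D.exists_taylor (D.f j))

theorem Q_spec (j : Fin D.m) : D.θ (D.f j) = D.cR (eval D.r (D.f j)) +
      D.cR (D.π ^ 2) * ∑ i, D.cR (eval D.r (pderiv i (D.f j))) * D.z i +
      D.cR (D.π ^ 4) * D.Q j :=
  Classical.choose_spec (D.exists_taylor (D.f j))

/-- `θ (f j) / π²`. -/
noncomputable def g (j : Fin D.m) : D.T :=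
  D.cR (D.π ^ 2 * D.η j) + ∑ i, D.cR (eval D.r (pderiv i (D.f j))) * D.z i +
    D.cR (D.π ^ 2) * D.Q j

theorem θ_f (j : Fin D.m) : D.θ (D.f j) = D.cR (D.π ^ 2) * D.g j := by
  rw [Q_spec, D.hη, g]
  have h5 : D.cR (D.π ^ 4 * D.η j) = D.cR (D.π ^ 2) * D.cR (D.π ^ 2 * D.η j) := by
    rw [← cR_mul]; congr 1; ring
  have h6 : D.cR (D.π ^ 4) = D.cR (D.π ^ 2) * D.cR (D.π ^ 2) := by
    rw [← cR_mul]; congr 1; ring
  rw [h5, h6]
  ring

/-- the part of `k j` not involving `w` or the remainder -/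
noncomputable def κ₀ (j : Fin D.c) : MvPolynomial (Fin D.n) R :=
  C (D.π * D.η (Fin.castLE D.hcm j)) +
    ∑ i, C (eval D.r (pderiv i (D.f (Fin.castLE D.hcm j)))) * X i

/-- `θ (f j) / π³` for the leading relations. -/
noncomputable def k (j : Fin D.c) : D.T :=
  C (D.κ₀ j) + D.cR (1 + D.π ^ 3 * D.t) * D.ww j + D.cR D.π * D.Q (Fin.castLE D.hcm j)

theorem sum_mul_z (a : Fin D.n → R) (j : Fin D.c) (b : R)
    (h : ∀ k, ∑ i, a i * D.N i k = if j = k then b else 0) :
    ∑ i, D.cR (a i) * D.z i = D.cR D.π * ∑ i, D.cR (a i) * D.vv i + D.cR b * D.ww j := by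
  classical
  have h0 : ∀ i, D.cR (a i) * D.z i = D.cR D.π * (D.cR (a i) * D.vv i) +
      ∑ k', D.cR (a i * D.N i k') * D.ww k' := by
    intro i
    have e1 : D.cR (a i) * (D.cR D.π * D.vv i) = D.cR D.π * (D.cR (a i) * D.vv i) :=
      mul_left_comm _ _ _
    have e2 : ∀ k', D.cR (a i) * (D.cR (D.N i k') * D.ww k') =
        D.cR (a i * D.N i k') * D.ww k' := by
      intro k'
      rw [cR_mul, mul_assoc]
    rw [z, mul_add, Finset.mul_sum, e1, Finset.sum_congr rfl fun k' _ => e2 k']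
  have h2 : ∀ k', ∑ i, D.cR (a i * D.N i k') * D.ww k' =
      D.cR (if j = k' then b else 0) * D.ww k' := by
    intro k'
    rw [← Finset.sum_mul, ← h k']
    simp only [cR, map_sum]
  have h3 : ∑ k', D.cR (if j = k' then b else 0) * D.ww k' = D.cR b * D.ww j := by
    rw [Finset.sum_eq_single j]
    · rw [if_pos rfl]
    · intro k' _ hk'
      rw [if_neg (Ne.symm hk')]
      simp [cR]
    · intro h; exact absurd (Finset.mem_univ _) h
  calc ∑ i, D.cR (a i) * D.z i
      = ∑ i, (D.cR D.π * (D.cR (a i) * D.vv i) +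
          ∑ k', D.cR (a i * D.N i k') * D.ww k') := Finset.sum_congr rfl fun i _ => h0 i
    _ = D.cR D.π * ∑ i, D.cR (a i) * D.vv i +
          ∑ k', ∑ i, D.cR (a i * D.N i k') * D.ww k' := by
        rw [Finset.sum_add_distrib, Finset.mul_sum, Finset.sum_comm]
    _ = D.cR D.π * ∑ i, D.cR (a i) * D.vv i +
          ∑ k', D.cR (if j = k' then b else 0) * D.ww k' := by
        rw [Finset.sum_congr rfl fun k' _ => h2 k']
    _ = _ := by rw [h3]

theorem C_κ₀ (j : Fin D.c) : (C (D.κ₀ j) : D.T) = D.cR D.π * D.cR (D.η (Fin.castLE D.hcm j)) +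
    ∑ i, D.cR (eval D.r (pderiv i (D.f (Fin.castLE D.hcm j)))) * D.vv i := by
  rw [κ₀]
  simp only [map_add, map_sum, map_mul, vv, cR]

theorem g_castLE (j : Fin D.c) : D.g (Fin.castLE D.hcm j) = D.cR D.π * D.k j := by
  have h1 := D.sum_mul_z (fun i => eval D.r (pderiv i (D.f (Fin.castLE D.hcm j)))) j _ (D.hN j)
  rw [g, h1, k, C_κ₀]
  generalize (∑ i, D.cR (eval D.r (pderiv i (D.f (Fin.castLE D.hcm j)))) * D.vv i) = s
  rw [cR_mul, cR_mul, cR_pow]
  ring

/-- The ideal of relations. -/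
noncomputable def 𝔟 : Ideal D.T :=
  Ideal.span (Set.range D.k) ⊔ Ideal.span (Set.range fun j => D.cR D.π * D.g j)

theorem k_mem (j : Fin D.c) : D.k j ∈ D.𝔟 :=
  Ideal.mem_sup_left (Ideal.subset_span ⟨j, rfl⟩)

theorem πg_mem (j : Fin D.m) : D.cR D.π * D.g j ∈ D.𝔟 :=
  Ideal.mem_sup_right (Ideal.subset_span ⟨j, rfl⟩)

theorem θ_f_mem (j : Fin D.m) : D.θ (D.f j) ∈ D.𝔟 := by
  rw [θ_f, pow_two, cR_mul, mul_assoc]
  exact Ideal.mul_mem_left _ _ (D.πg_mem j)

theorem 𝔟_fg : D.𝔟.FG :=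
  Submodule.FG.sup (Submodule.fg_span (Set.finite_range _)) (Submodule.fg_span (Set.finite_range _))

/-- The algebra `B`. -/
abbrev B : Type u := D.T ⧸ D.𝔟

instance : Algebra.FinitePresentation R D.B := by
  haveI : Algebra.Smooth R (MvPolynomial (Fin D.n) R) := ⟨inferInstance, inferInstance⟩
  haveI : Algebra.FinitePresentation R D.T :=
    (smooth_mvPolynomial (R := R) (B := MvPolynomial (Fin D.n) R)).finitePresentation
  exact Algebra.FinitePresentation.quotient D.𝔟_fg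

theorem algebraMap_B (x : R) : algebraMap R D.B x = Ideal.Quotient.mk D.𝔟 (D.cR x) := rfl

end DesData

end Groth.Agent.Lib.Helper22.Pop
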