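import Mathlib
import Groth.Prelude.Def_Smoothing
import Groth.Agent.Lib.Helper22.PopL

set_option linter.style.haveILetI false
set_option linter.unusedSectionVars false

universe u

namespace Groth.Agent.Lib.Helper22.Pop

open MvPolynomial

theorem exists_lift_of_surjective {R A P C : Type*} [CommRing R] [CommRing A] [CommRing P]
    [CommRing C] [Algebra R A] [Algebra R P] [Algebra R C] (χ : P →ₐ[R] A)
    (hχ : Function.Surjective χ) (g : P →ₐ[R] C)
    (H : RingHom.ker χ.toRingHom ≤ RingHom.ker g.toRingHom) :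
    ∃ α : A →ₐ[R] C, ∀ p, α (χ p) = g p :=
  ⟨AlgHom.liftOfSurjective χ hχ g H, AlgHom.liftOfSurjective_apply χ hχ g H⟩

namespace DesData

variable {R : Type u} [CommRing R] (D : DesData R)

/-- The map `P → B`. -/
noncomputable def θB : MvPolynomial (Fin D.n) R →ₐ[R] D.B :=
  (Ideal.Quotient.mkₐ R D.𝔟).comp D.θ

theorem θB_apply (p : MvPolynomial (Fin D.n) R) : D.θB p = Ideal.Quotient.mk D.𝔟 (D.θ p) := rfl

theorem θB_f (j : Fin D.m) : D.θB (D.f j) = 0 := by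
  rw [θB_apply, Ideal.Quotient.eq_zero_iff_mem]
  exact D.θ_f_mem j

section Alpha

variable {A : Type u} [CommRing A] [Algebra R A] (χ : MvPolynomial (Fin D.n) R →ₐ[R] A)
  (hχ : Function.Surjective χ) (hker : RingHom.ker χ.toRingHom = Ideal.span (Set.range D.f))

include hχ hker in
theorem exists_α : ∃ α : A →ₐ[R] D.B, ∀ p, α (χ p) = D.θB p := by
  refine exists_lift_of_surjective (C := D.B) χ hχ D.θB ?_
  rw [hker, Ideal.span_le]
  rintro _ ⟨j, rfl⟩
  exact D.θB_f j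

end Alpha

section Beta

variable {Λ : Type u} [CommRing Λ] [Algebra R Λ]
  (hΛ : ∀ x : Λ, D.π ^ 2 • x = 0 → D.π • x = 0) (lam : Fin D.n → Λ)
  (φ' : MvPolynomial (Fin D.n) R →ₐ[R] Λ)
  (hφX : ∀ i, φ' (X i) = algebraMap R Λ (D.r i) + algebraMap R Λ (D.π ^ 4) * lam i)
  (hφf : ∀ j, φ' (D.f j) = 0)

/-- First approximation of `β`. -/
noncomputable def β₀ : D.T →ₐ[R] Λ :=
  evalAlg (aeval fun i => algebraMap R Λ D.π * lam i) (fun _ => 0)

theorem β₀_cR (x : R) : D.β₀ lam (D.cR x) = algebraMap R Λ x := by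
  rw [β₀, cR, evalAlg_C, ← MvPolynomial.algebraMap_eq, AlgHom.commutes]

theorem β₀_vv (i : Fin D.n) : D.β₀ lam (D.vv i) = algebraMap R Λ D.π * lam i := by
  rw [β₀, vv, evalAlg_C, aeval_X]

theorem β₀_ww (k : Fin D.c) : D.β₀ lam (D.ww k) = 0 := by
  rw [β₀, ww, evalAlg_X]

theorem β₀_z (i : Fin D.n) : D.β₀ lam (D.z i) = algebraMap R Λ D.π ^ 2 * lam i := by
  rw [z, map_add, map_mul, β₀_cR, β₀_vv, map_sum]
  have : ∀ k, D.β₀ lam (D.cR (D.N i k) * D.ww k) = 0 := by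
    intro k
    rw [map_mul, β₀_ww, mul_zero]
  rw [Finset.sum_congr rfl fun k _ => this k, Finset.sum_const_zero, add_zero]
  ring

include hφX in
theorem β₀_θ (p : MvPolynomial (Fin D.n) R) : D.β₀ lam (D.θ p) = φ' p := by
  have : (D.β₀ lam).comp D.θ = φ' := by
    apply MvPolynomial.algHom_ext
    intro i
    rw [AlgHom.comp_apply, θ_X, map_add, map_mul, β₀_cR, β₀_cR, β₀_z, hφX, map_pow, map_pow]
    ring
  exact AlgHom.congr_fun this p

include hΛ in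
theorem ann_pow_three' (x : Λ) (hx : algebraMap R Λ D.π ^ 3 * x = 0) :
    algebraMap R Λ D.π * x = 0 := by
  apply ann_pow_three (algebraMap R Λ D.π) _ x hx
  intro y hy
  have := hΛ y (by rw [Algebra.smul_def, map_pow]; exact hy)
  rwa [Algebra.smul_def] at this

include hΛ in
theorem ann_pow_two' (x : Λ) (hx : algebraMap R Λ D.π ^ 2 * x = 0) :
    algebraMap R Λ D.π * x = 0 := by
  have := hΛ x (by rw [Algebra.smul_def, map_pow]; exact hx)
  rwa [Algebra.smul_def] at this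

/-- The correction terms. -/
noncomputable def κ (j : Fin D.c) : Λ := D.β₀ lam (D.k j)

include hΛ hφX hφf in
theorem π_κ (j : Fin D.c) : algebraMap R Λ D.π * D.κ lam j = 0 := by
  apply D.ann_pow_three' hΛ
  have h1 : D.θ (D.f (Fin.castLE D.hcm j)) = D.cR D.π ^ 3 * D.k j := by
    rw [θ_f, g_castLE, cR_pow]
    ring
  have h2 := D.β₀_θ lam φ' hφX (D.f (Fin.castLE D.hcm j))
  rw [hφf, h1, map_mul, map_pow, β₀_cR] at h2
  exact h2

/-- Second approximation of `β`. -/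
noncomputable def β₁ : D.T →ₐ[R] Λ :=
  evalAlg (aeval fun i => algebraMap R Λ D.π * lam i) (fun k => - D.κ lam k)

theorem β₁_cR (x : R) : D.β₁ lam (D.cR x) = algebraMap R Λ x := by
  rw [β₁, cR, evalAlg_C, ← MvPolynomial.algebraMap_eq, AlgHom.commutes]

theorem β₁_C (p : MvPolynomial (Fin D.n) R) : D.β₁ lam (C p) = D.β₀ lam (C p) := by
  rw [β₁, β₀, evalAlg_C, evalAlg_C]

theorem β₁_ww (k : Fin D.c) : D.β₁ lam (D.ww k) = - D.κ lam k := by
  rw [β₁, ww, evalAlg_X]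

include hΛ hφX hφf in
theorem π_β₁_sub (p : D.T) : algebraMap R Λ D.π * (D.β₁ lam p - D.β₀ lam p) = 0 := by
  let Ann : Ideal Λ := LinearMap.ker (LinearMap.mulLeft Λ (algebraMap R Λ D.π))
  have hAnn : ∀ x, x ∈ Ann ↔ algebraMap R Λ D.π * x = 0 := fun x => by
    rw [LinearMap.mem_ker, LinearMap.mulLeft_apply]
  have : (Ideal.Quotient.mkₐ R Ann).comp (D.β₁ lam) = (Ideal.Quotient.mkₐ R Ann).comp (D.β₀ lam) := by
    apply MvPolynomial.algHom_ext'
    · apply AlgHom.ext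
      intro q
      change Ideal.Quotient.mk Ann (D.β₁ lam (C q)) = Ideal.Quotient.mk Ann (D.β₀ lam (C q))
      rw [β₁_C]
    · intro k
      change Ideal.Quotient.mk Ann (D.β₁ lam (D.ww k)) = Ideal.Quotient.mk Ann (D.β₀ lam (D.ww k))
      rw [β₁_ww, β₀_ww, map_neg, map_zero, neg_eq_zero, Ideal.Quotient.eq_zero_iff_mem, hAnn]
      exact D.π_κ hΛ lam φ' hφX hφf k
  have h2 := AlgHom.congr_fun this p
  simp only [AlgHom.comp_apply, Ideal.Quotient.mkₐ_eq_mk] at h2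
  rw [← hAnn, ← Ideal.Quotient.eq_zero_iff_mem, map_sub, h2, sub_self]

include hΛ hφX hφf in
theorem π_β₁ (p : D.T) : algebraMap R Λ D.π * D.β₁ lam p = algebraMap R Λ D.π * D.β₀ lam p := by
  have := D.π_β₁_sub hΛ lam φ' hφX hφf p
  rw [mul_sub, sub_eq_zero] at this
  exact this

include hΛ hφX hφf in
theorem β₁_k (j : Fin D.c) : D.β₁ lam (D.k j) = 0 := by
  have hκ := D.π_κ hΛ lam φ' hφX hφf j
  have e1 : D.β₁ lam (D.k j) = D.β₀ lam (C (D.κ₀ j)) +
      algebraMap R Λ (1 + D.π ^ 3 * D.t) * (- D.κ lam j) +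
      algebraMap R Λ D.π * D.β₀ lam (D.Q (Fin.castLE D.hcm j)) := by
    rw [k, map_add, map_add, map_mul, map_mul, β₁_C, β₁_cR, β₁_cR, β₁_ww,
      D.π_β₁ hΛ lam φ' hφX hφf]
  have e0 : D.κ lam j = D.β₀ lam (C (D.κ₀ j)) +
      algebraMap R Λ (1 + D.π ^ 3 * D.t) * 0 +
      algebraMap R Λ D.π * D.β₀ lam (D.Q (Fin.castLE D.hcm j)) := by
    rw [κ, k, map_add, map_add, map_mul, map_mul, β₀_cR, β₀_cR, β₀_ww]
  have e2 : algebraMap R Λ (1 + D.π ^ 3 * D.t) * D.κ lam j = D.κ lam j := by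
    rw [map_add, map_one, map_mul, map_pow, add_mul, one_mul]
    have : algebraMap R Λ D.π ^ 3 * algebraMap R Λ D.t * D.κ lam j =
        algebraMap R Λ D.π ^ 2 * algebraMap R Λ D.t * (algebraMap R Λ D.π * D.κ lam j) := by ring
    rw [this, hκ, mul_zero, add_zero]
  rw [e1, mul_neg, e2]
  rw [mul_zero, add_zero] at e0
  have e3 : D.β₀ lam (C (D.κ₀ j)) + -D.κ lam j +
      algebraMap R Λ D.π * D.β₀ lam (D.Q (Fin.castLE D.hcm j)) =
      (D.β₀ lam (C (D.κ₀ j)) + algebraMap R Λ D.π * D.β₀ lam (D.Q (Fin.castLE D.hcm j))) -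
        D.κ lam j := by ring
  rw [e3, ← e0, sub_self]

include hΛ hφX hφf in
theorem β₁_πg (j : Fin D.m) : D.β₁ lam (D.cR D.π * D.g j) = 0 := by
  rw [map_mul, β₁_cR, D.π_β₁ hΛ lam φ' hφX hφf]
  apply D.ann_pow_two' hΛ
  have h2 := D.β₀_θ lam φ' hφX (D.f j)
  rw [hφf, θ_f, map_mul, β₀_cR, map_pow] at h2
  exact h2

include hΛ hφX hφf in
theorem β₁_θ (p : MvPolynomial (Fin D.n) R) : D.β₁ lam (D.θ p) = φ' p := by
  have : (D.β₁ lam).comp D.θ = φ' := by
    apply MvPolynomial.algHom_ext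
    intro i
    rw [AlgHom.comp_apply, θ_X, map_add, map_mul, β₁_cR, β₁_cR, map_pow, pow_two, mul_assoc,
      D.π_β₁ hΛ lam φ' hφX hφf, β₀_z, hφX, map_pow]
    ring
  exact AlgHom.congr_fun this p

include hΛ hφX hφf in
theorem β₁_𝔟 (x : D.T) (hx : x ∈ D.𝔟) : D.β₁ lam x = 0 := by
  have : D.𝔟 ≤ RingHom.ker (D.β₁ lam).toRingHom := by
    rw [𝔟, sup_le_iff, Ideal.span_le, Ideal.span_le]
    constructor
    · rintro _ ⟨j, rfl⟩
      exact D.β₁_k hΛ lam φ' hφX hφf j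
    · rintro _ ⟨j, rfl⟩
      exact D.β₁_πg hΛ lam φ' hφX hφf j
  exact this hx

/-- The map `B → Λ`. -/
noncomputable def β : D.B →ₐ[R] Λ :=
  Ideal.Quotient.liftₐ D.𝔟 (D.β₁ lam) (D.β₁_𝔟 hΛ lam φ' hφX hφf)

theorem β_θB (p : MvPolynomial (Fin D.n) R) : D.β hΛ lam φ' hφX hφf (D.θB p) = φ' p := by
  change D.β₁ lam (D.θ p) = φ' p
  exact D.β₁_θ hΛ lam φ' hφX hφf p

end Beta

end DesData

end Groth.Agent.Lib.Helper22.Pop
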