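import Mathlib
import Groth.Prelude.Def_Smoothing
import Groth.Agent.Lib.Helper22.PopM
import Groth.Agent.S2032

set_option linter.style.haveILetI false
set_option linter.unusedSectionVars false

universe u

namespace Groth.Agent.Lib.Helper22.Pop

open MvPolynomial

theorem span_singleton_mul_span_range_le {S ι : Type*} [CommRing S] (a : S) (v : ι → S)
    (J : Ideal S) (h : ∀ i, a * v i ∈ J) : Ideal.span {a} * Ideal.span (Set.range v) ≤ J := by
  rw [Ideal.span_singleton_mul_le_iff]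
  intro z hz
  induction hz using Submodule.span_induction with
  | mem x hx =>
    obtain ⟨i, rfl⟩ := hx
    exact h i
  | zero => rw [mul_zero]; exact Ideal.zero_mem _
  | add x y _ _ hx hy => rw [mul_add]; exact Ideal.add_mem _ hx hy
  | smul c x _ hx =>
    rw [smul_eq_mul, mul_left_comm]
    exact Ideal.mul_mem_left _ _ hx

/-- To check `a * y ∈ J` for all `y` in a span, check it on generators. -/
theorem mul_mem_of_span {S : Type*} [CommRing S] (a : S) (s : Set S) (J : Ideal S)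
    (h : ∀ y ∈ s, a * y ∈ J) : ∀ y ∈ Ideal.span s, a * y ∈ J := by
  intro y hy
  induction hy using Submodule.span_induction with
  | mem x hx => exact h x hx
  | zero => rw [mul_zero]; exact Ideal.zero_mem _
  | add x y _ _ hx hy => rw [mul_add]; exact Ideal.add_mem _ hx hy
  | smul c x _ hx =>
    rw [smul_eq_mul, mul_left_comm]
    exact Ideal.mul_mem_left _ _ hx

namespace DesData

variable {R : Type u} [CommRing R] (D : DesData R)

/-- The Jacobian determinant of the `k j` in the `w`-variables. -/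
noncomputable def Δ : D.T :=
  Matrix.det (Matrix.of fun j l : Fin D.c => pderiv (id l) (D.k j))

theorem Δ_sub_one_mem : D.Δ - 1 ∈ Ideal.span {D.cR D.π} := by
  classical
  apply det_sub_one_mem
  intro j l
  rw [Matrix.of_apply, id_eq, k, map_add, map_add, pderiv_C, cR, cR, pderiv_C_mul, pderiv_C_mul,
    ww, pderiv_X, zero_add, Matrix.one_apply]
  by_cases hjl : j = l
  · subst hjl
    rw [Pi.single_eq_same, if_pos rfl, mul_one]
    have : (C (C (1 + D.π ^ 3 * D.t)) : D.T) + C (C D.π) * pderiv j (D.Q (Fin.castLE D.hcm j)) - 1 =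
        C (C D.π) * (C (C (D.π ^ 2 * D.t)) + pderiv j (D.Q (Fin.castLE D.hcm j))) := by
      simp only [map_add, map_mul, map_pow, map_one]
      ring
    rw [this]
    exact Ideal.mul_mem_right _ _ (Ideal.subset_span rfl)
  · rw [Pi.single_eq_of_ne hjl, if_neg hjl, mul_zero, zero_add, sub_zero]
    exact Ideal.mul_mem_right _ _ (Ideal.subset_span rfl)

theorem θ_C (x : R) : D.θ (C x) = D.cR x := by
  rw [← MvPolynomial.algebraMap_eq, AlgHom.commutes]
  rfl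

theorem ann_transfer (a b : R) (hab : ∀ y : R, a * y = 0 → b * y = 0) (x : D.T)
    (hx : D.cR a * x = 0) : D.cR b * x = 0 := by
  refine C_mul_eq_zero_transfer (C a) (C b) ?_ x hx
  intro y hy
  exact C_mul_eq_zero_transfer a b hab y hy

/-- The key inclusion: `r₀² π g_j ∈ (k) + 𝔟²` for the tail relations. -/
theorem kill_tail (r₀ : R) (h : ∀ x : R, D.π ^ 2 * x = 0 → D.π * (r₀ * x) = 0)
    (j : Fin D.m) (hj : C D.π * D.f j ∈
      Ideal.span (D.f '' {j' : Fin D.m | (j' : ℕ) < D.c}) ⊔ Ideal.span (Set.range D.f) ^ 2) :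
    D.cR r₀ ^ 2 * (D.cR D.π * D.g j) ∈ Ideal.span (Set.range D.k) ⊔ D.𝔟 ^ 2 := by
  have h1 := Ideal.mem_map_of_mem D.θ.toRingHom hj
  rw [Ideal.map_sup, Ideal.map_pow, Ideal.map_span, Ideal.map_span] at h1
  have hle1 : Ideal.span (D.θ.toRingHom '' (D.f '' {j' : Fin D.m | (j' : ℕ) < D.c})) ≤
      Ideal.span {D.cR D.π ^ 3} * Ideal.span (Set.range D.k) := by
    rw [Ideal.span_le]
    rintro _ ⟨_, ⟨j', hj', rfl⟩, rfl⟩
    have e : j' = Fin.castLE D.hcm ⟨j', hj'⟩ := Fin.ext rfl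
    change D.θ (D.f j') ∈ _
    rw [e, θ_f, g_castLE, cR_pow]
    have : D.cR D.π ^ 2 * (D.cR D.π * D.k ⟨j', hj'⟩) = D.cR D.π ^ 3 * D.k ⟨j', hj'⟩ := by ring
    rw [this]
    exact Ideal.mul_mem_mul (Ideal.subset_span rfl) (Ideal.subset_span ⟨_, rfl⟩)
  have hle2 : Ideal.span (D.θ.toRingHom '' Set.range D.f) ≤
      Ideal.span {D.cR D.π ^ 2} * Ideal.span (Set.range D.g) := by
    rw [Ideal.span_le]
    rintro _ ⟨_, ⟨j', rfl⟩, rfl⟩
    change D.θ (D.f j') ∈ _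
    rw [θ_f, cR_pow]
    exact Ideal.mul_mem_mul (Ideal.subset_span rfl) (Ideal.subset_span ⟨_, rfl⟩)
  have h2 : D.θ (C D.π * D.f j) ∈ Ideal.span {D.cR D.π ^ 3} * Ideal.span (Set.range D.k) ⊔
      Ideal.span {(D.cR D.π ^ 2) ^ 2} * Ideal.span (Set.range D.g) ^ 2 := by
    refine (sup_le_sup hle1 ?_) h1
    refine le_trans (Ideal.pow_right_mono hle2 2) ?_
    rw [mul_pow, Ideal.span_singleton_pow]
  obtain ⟨x₁, hx₁, x₂, hx₂, hx⟩ := Submodule.mem_sup.mp h2
  obtain ⟨z₁, hz₁, rfl⟩ := Ideal.mem_span_singleton_mul.mp hx₁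
  obtain ⟨z₂, hz₂, rfl⟩ := Ideal.mem_span_singleton_mul.mp hx₂
  rw [map_mul, θ_C, θ_f, cR_pow] at hx
  have h3 : D.cR (D.π ^ 3) * (D.g j - z₁ - D.cR D.π * z₂) = 0 := by
    rw [cR_pow]
    have : D.cR D.π ^ 3 * (D.g j - z₁ - D.cR D.π * z₂) =
        D.cR D.π * (D.cR D.π ^ 2 * D.g j) - (D.cR D.π ^ 3 * z₁ + (D.cR D.π ^ 2) ^ 2 * z₂) := by ring
    rw [this, hx, sub_self]
  have hab : ∀ y : R, D.π ^ 3 * y = 0 → (r₀ ^ 2 * D.π) * y = 0 := by
    intro y hy
    have e1 : D.π ^ 2 * (D.π * y) = 0 := by rw [← hy]; ring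
    have e2 := h _ e1
    have e3 : D.π ^ 2 * (r₀ * y) = 0 := by rw [← e2]; ring
    have e4 := h _ e3
    rw [← e4]; ring
  have h4 := D.ann_transfer _ _ hab _ h3
  have h5 : D.cR r₀ ^ 2 * (D.cR D.π * D.g j) =
      D.cR (r₀ ^ 2 * D.π) * z₁ + D.cR r₀ ^ 2 * (D.cR D.π ^ 2 * z₂) := by
    have : D.cR r₀ ^ 2 * (D.cR D.π * D.g j) - (D.cR (r₀ ^ 2 * D.π) * z₁ +
        D.cR r₀ ^ 2 * (D.cR D.π ^ 2 * z₂)) =
        D.cR (r₀ ^ 2 * D.π) * (D.g j - z₁ - D.cR D.π * z₂) := by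
      rw [cR_mul, cR_pow]; ring
    rw [← sub_eq_zero, this, h4]
  rw [h5]
  refine Ideal.add_mem _ (Ideal.mem_sup_left (Ideal.mul_mem_left _ _ hz₁))
    (Ideal.mem_sup_right (Ideal.mul_mem_left _ _ ?_))
  have hle3 : Ideal.span {D.cR D.π} * Ideal.span (Set.range D.g) ≤ D.𝔟 :=
    span_singleton_mul_span_range_le _ _ _ D.πg_mem
  have h6 : D.cR D.π ^ 2 * z₂ ∈ (Ideal.span {D.cR D.π} * Ideal.span (Set.range D.g)) ^ 2 := by
    rw [mul_pow, Ideal.span_singleton_pow]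
    exact Ideal.mul_mem_mul (Ideal.subset_span rfl) hz₂
  exact Ideal.pow_right_mono hle3 2 h6

/-- Part (ii): smoothness near `V(π)` where the annihilator condition holds. -/
theorem smooth_away_Δ (r₀ : R) (h : ∀ x : R, D.π ^ 2 * x = 0 → D.π * (r₀ * x) = 0)
    (hkt : ∀ j : Fin D.m, D.c ≤ (j : ℕ) → C D.π * D.f j ∈
      Ideal.span (D.f '' {j' : Fin D.m | (j' : ℕ) < D.c}) ⊔ Ideal.span (Set.range D.f) ^ 2) :
    Algebra.Smooth R (Localization.Away (Ideal.Quotient.mk D.𝔟 (D.cR r₀ ^ 2 * D.Δ))) := by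
  classical
  have hstd : Algebra.IsStandardSmooth (MvPolynomial (Fin D.n) R)
      (Localization.Away (Ideal.Quotient.mk D.𝔟 (D.cR r₀ ^ 2 * D.Δ))) := by
    refine Groth.Agent.S2032.core (R := MvPolynomial (Fin D.n) R) (A := D.B)
      D.k (Ideal.Quotient.mkₐ _ _) ?_ Ideal.Quotient.mk_surjective
      (Ideal.Quotient.mk D.𝔟 (D.cR r₀ ^ 2 * D.Δ)) (Ideal.Quotient.mk D.𝔟 (D.cR r₀ ^ 2))
      id Function.injective_id ?_ D.𝔟 Ideal.mk_ker D.𝔟_fg (D.cR r₀ ^ 2 * D.Δ) rfl ?_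
    · intro x hx
      refine Ideal.Quotient.eq_zero_iff_mem.mpr ?_
      exact (le_sup_left : _ ≤ D.𝔟) hx
    · rw [map_mul]
      rfl
    · have key : ∀ y ∈ D.𝔟, D.cR r₀ ^ 2 * y ∈ Ideal.span (Set.range D.k) ⊔ D.𝔟 ^ 2 := by
        intro y hy
        obtain ⟨y₁, hy₁, y₂, hy₂, rfl⟩ := Submodule.mem_sup.mp hy
        rw [mul_add]
        refine Ideal.add_mem _ (Ideal.mem_sup_left (Ideal.mul_mem_left _ _ hy₁)) ?_
        refine mul_mem_of_span _ _ _ ?_ y₂ hy₂
        rintro _ ⟨j, rfl⟩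
        by_cases hj : (j : ℕ) < D.c
        · have e : j = Fin.castLE D.hcm ⟨j, hj⟩ := Fin.ext rfl
          refine Ideal.mem_sup_left ?_
          change D.cR r₀ ^ 2 * (D.cR D.π * D.g j) ∈ _
          rw [e, g_castLE]
          refine Ideal.mul_mem_left _ _ (Ideal.mul_mem_left _ _ (Ideal.mul_mem_left _ _ ?_))
          exact Ideal.subset_span ⟨_, rfl⟩
        · exact D.kill_tail r₀ h j (hkt j (not_lt.mp hj))
      intro y hy
      rw [mul_right_comm]
      have := key y hy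
      rw [mul_comm]
      exact Ideal.mul_mem_left _ _ this
  haveI : Algebra.Smooth (MvPolynomial (Fin D.n) R)
      (Localization.Away (Ideal.Quotient.mk D.𝔟 (D.cR r₀ ^ 2 * D.Δ))) := inferInstance
  haveI : Algebra.Smooth R (MvPolynomial (Fin D.n) R) := ⟨inferInstance, inferInstance⟩
  exact Algebra.Smooth.comp R (MvPolynomial (Fin D.n) R) _

end DesData

end Groth.Agent.Lib.Helper22.Pop
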