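import Mathlib
import Groth.Prelude.Def_Smoothing
import Groth.Agent.Lib.Helper22.PopN

set_option linter.style.haveILetI false
set_option linter.unusedSectionVars false

universe u

namespace Groth.Agent.Lib.Helper22.Pop

open MvPolynomial

namespace DesData

variable {R : Type u} [CommRing R] (D : DesData R)

section Away

variable {A : Type u} [CommRing A] [Algebra R A] (χ : MvPolynomial (Fin D.n) R →ₐ[R] A)
  (hχ : Function.Surjective χ) (hker : RingHom.ker χ.toRingHom = Ideal.span (Set.range D.f))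

include hker in
theorem χ_f (j : Fin D.m) : χ (D.f j) = 0 := by
  have : D.f j ∈ RingHom.ker χ.toRingHom := by
    rw [hker]; exact Ideal.subset_span ⟨j, rfl⟩
  exact this

/-- The lifting step for formal smoothness of `B[1/π]`. -/
theorem exists_lift_away {S' : Type u} [CommRing S'] [Algebra R S'] (I : Ideal S')
    (a : MvPolynomial (Fin D.n) R →ₐ[R] S') (haf : ∀ j, a (D.f j) = 0)
    (uπ : S'ˣ) (huπ : (uπ : S') = algebraMap R S' D.π)
    (gbar : D.B →ₐ[R] S' ⧸ I)
    (hag : ∀ p, Ideal.Quotient.mk I (a p) = gbar (D.θB p)) :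
    ∃ G : D.B →ₐ[R] S', (Ideal.Quotient.mkₐ R I).comp G = gbar := by
  classical
  let W : Fin D.c → S' := fun k =>
    Function.surjInv Ideal.Quotient.mk_surjective (gbar (Ideal.Quotient.mk D.𝔟 (D.ww k)))
  have hW : ∀ k, Ideal.Quotient.mk I (W k) = gbar (Ideal.Quotient.mk D.𝔟 (D.ww k)) := fun k =>
    Function.surjInv_eq Ideal.Quotient.mk_surjective _
  let V : Fin D.n → S' := fun i => ((uπ⁻¹ : S'ˣ) : S') ^ 3 *
    (a (X i) - algebraMap R S' (D.r i) -
      algebraMap R S' D.π ^ 2 * ∑ k, algebraMap R S' (D.N i k) * W k)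
  let G₀ : D.T →ₐ[R] S' := evalAlg (aeval V) W
  have hG₀c : ∀ x, G₀ (D.cR x) = algebraMap R S' x := by
    intro x
    rw [cR, evalAlg_C, ← MvPolynomial.algebraMap_eq, AlgHom.commutes]
  have hG₀v : ∀ i, G₀ (D.vv i) = V i := by
    intro i
    rw [vv, evalAlg_C, aeval_X]
  have hG₀w : ∀ k, G₀ (D.ww k) = W k := by
    intro k
    rw [ww, evalAlg_X]
  have hinv : algebraMap R S' D.π ^ 3 * ((uπ⁻¹ : S'ˣ) : S') ^ 3 = 1 := by
    rw [← huπ, ← mul_pow, Units.mul_inv, one_pow]
  have hG₀θ : ∀ p, G₀ (D.θ p) = a p := by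
    have : G₀.comp D.θ = a := by
      apply MvPolynomial.algHom_ext
      intro i
      rw [AlgHom.comp_apply, θ_X, map_add, map_mul, hG₀c, hG₀c, z, map_add, map_mul, hG₀c, hG₀v,
        map_sum]
      have e1 : ∀ k, G₀ (D.cR (D.N i k) * D.ww k) = algebraMap R S' (D.N i k) * W k := by
        intro k
        rw [map_mul, hG₀c, hG₀w]
      rw [Finset.sum_congr rfl fun k _ => e1 k]
      have e2 : algebraMap R S' (D.π ^ 2) * (algebraMap R S' D.π * V i +
          ∑ k, algebraMap R S' (D.N i k) * W k) =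
          (algebraMap R S' D.π ^ 3 * ((uπ⁻¹ : S'ˣ) : S') ^ 3) *
            (a (X i) - algebraMap R S' (D.r i) -
              algebraMap R S' D.π ^ 2 * ∑ k, algebraMap R S' (D.N i k) * W k) +
          algebraMap R S' D.π ^ 2 * ∑ k, algebraMap R S' (D.N i k) * W k := by
        rw [map_pow]
        ring
      rw [e2, hinv]
      ring
    exact fun p => AlgHom.congr_fun this p
  have hG₀𝔟 : ∀ x ∈ D.𝔟, G₀ x = 0 := by
    have hle : D.𝔟 ≤ RingHom.ker G₀.toRingHom := by
      rw [𝔟, sup_le_iff, Ideal.span_le, Ideal.span_le]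
      constructor
      · rintro _ ⟨j, rfl⟩
        change G₀ (D.k j) = 0
        have h1 : D.θ (D.f (Fin.castLE D.hcm j)) = D.cR D.π ^ 3 * D.k j := by
          rw [θ_f, g_castLE, cR_pow]
          ring
        have h2 := hG₀θ (D.f (Fin.castLE D.hcm j))
        rw [haf, h1, map_mul, map_pow, hG₀c] at h2
        have h3 : G₀ (D.k j) = (((uπ⁻¹ : S'ˣ) : S') ^ 3 * algebraMap R S' D.π ^ 3) * G₀ (D.k j) := by
          rw [mul_comm (((uπ⁻¹ : S'ˣ) : S') ^ 3), hinv, one_mul]
        rw [h3, mul_assoc, h2, mul_zero]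
      · rintro _ ⟨j, rfl⟩
        change G₀ (D.cR D.π * D.g j) = 0
        have h2 := hG₀θ (D.f j)
        rw [haf, θ_f, pow_two, cR_mul, mul_assoc, map_mul, hG₀c] at h2
        have h3 : G₀ (D.cR D.π * D.g j) =
            (((uπ⁻¹ : S'ˣ) : S') * algebraMap R S' D.π) * G₀ (D.cR D.π * D.g j) := by
          rw [← huπ, Units.inv_mul, one_mul]
        rw [h3, mul_assoc, h2, mul_zero]
    exact fun x hx => hle hx
  refine ⟨Ideal.Quotient.liftₐ D.𝔟 G₀ hG₀𝔟, ?_⟩
  apply Ideal.Quotient.algHom_ext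
  apply MvPolynomial.algHom_ext'
  · apply MvPolynomial.algHom_ext
    intro i
    change Ideal.Quotient.mk I (G₀ (D.vv i)) = gbar (Ideal.Quotient.mk D.𝔟 (D.vv i))
    rw [hG₀v]
    -- compute the class of `V i`
    have h1 := hag (X i)
    rw [θB_apply, θ_X, z] at h1
    simp only [map_add, map_mul, map_sum] at h1
    have hc : ∀ x : R, gbar (Ideal.Quotient.mk D.𝔟 (D.cR x)) = algebraMap R (S' ⧸ I) x := by
      intro x
      rw [← algebraMap_B, AlgHom.commutes]
    simp only [hc] at h1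
    have hmkV : Ideal.Quotient.mk I (V i) = Ideal.Quotient.mk I (((uπ⁻¹ : S'ˣ) : S')) ^ 3 *
        (Ideal.Quotient.mk I (a (X i)) - algebraMap R (S' ⧸ I) (D.r i) -
          algebraMap R (S' ⧸ I) D.π ^ 2 * ∑ k, algebraMap R (S' ⧸ I) (D.N i k) *
            gbar (Ideal.Quotient.mk D.𝔟 (D.ww k))) := by
      simp only [V, map_mul, map_sub, map_pow, map_sum, hW]
      rfl
    rw [hmkV, h1]
    have hinv' : algebraMap R (S' ⧸ I) D.π ^ 3 * Ideal.Quotient.mk I (((uπ⁻¹ : S'ˣ) : S')) ^ 3 = 1 := by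
      have := congrArg (Ideal.Quotient.mk I) hinv
      rw [map_mul, map_pow, map_pow, map_one] at this
      exact this
    have e3 : ∀ (P Vb Sm : S' ⧸ I) (rr : S' ⧸ I) (U : S' ⧸ I), P ^ 3 * U ^ 3 = 1 →
        U ^ 3 * (rr + P ^ 2 * (P * Vb + Sm) - rr - P ^ 2 * Sm) = Vb := by
      intro P Vb Sm rr U hPU
      have : U ^ 3 * (rr + P ^ 2 * (P * Vb + Sm) - rr - P ^ 2 * Sm) = (P ^ 3 * U ^ 3) * Vb := by ring
      rw [this, hPU, one_mul]
    rw [map_pow]
    exact e3 _ _ _ _ _ hinv'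
  · intro k
    change Ideal.Quotient.mk I (G₀ (D.ww k)) = gbar (Ideal.Quotient.mk D.𝔟 (D.ww k))
    rw [hG₀w, hW]

include hχ hker in
/-- Part (i): `B[1/π]` is smooth over `R` if `A[1/π]` is. -/
theorem smooth_away_π (hsm : Algebra.Smooth R (Localization.Away (algebraMap R A D.π))) :
    Algebra.Smooth R (Localization.Away (algebraMap R D.B D.π)) := by
  classical
  haveI := hsm
  refine ⟨?_, inferInstance⟩
  apply Algebra.FormallySmooth.of_comp_surjective
  intro S' _ _ I hI gb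
  obtain ⟨α, hα⟩ := D.exists_α χ hχ hker
  obtain ⟨ιB, hιB⟩ : ∃ ιB : D.B →ₐ[R] Localization.Away (algebraMap R D.B D.π),
      ιB = IsScalarTower.toAlgHom R D.B _ := ⟨_, rfl⟩
  have hιB' : ∀ b, ιB b = algebraMap D.B _ b := fun b => by rw [hιB]; rfl
  have hu : IsUnit ((ιB.comp α) (algebraMap R A D.π)) := by
    rw [AlgHom.commutes, IsScalarTower.algebraMap_apply R D.B (Localization.Away (algebraMap R D.B D.π))]
    exact IsLocalization.Away.algebraMap_isUnit _
  obtain ⟨αloc, hαloc⟩ : ∃ αloc : Localization.Away (algebraMap R A D.π) →ₐ[R]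
      Localization.Away (algebraMap R D.B D.π),
      αloc = awayLiftAlg (algebraMap R A D.π) (ιB.comp α) hu := ⟨_, rfl⟩
  have hαloc' : ∀ x, αloc (algebraMap A _ x) = ιB (α x) := by
    intro x
    rw [hαloc, awayLiftAlg_algebraMap, AlgHom.comp_apply]
  obtain ⟨a', ha'⟩ := Algebra.FormallySmooth.comp_surjective R
    (Localization.Away (algebraMap R A D.π)) I hI (gb.comp αloc)
  obtain ⟨a, ha⟩ : ∃ a : MvPolynomial (Fin D.n) R →ₐ[R] S',
      a = a'.comp ((IsScalarTower.toAlgHom R A (Localization.Away (algebraMap R A D.π))).comp χ) :=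
    ⟨_, rfl⟩
  have ha_apply : ∀ p, a p = a' (algebraMap A _ (χ p)) := fun p => by rw [ha]; rfl
  have haf : ∀ j, a (D.f j) = 0 := by
    intro j
    rw [ha_apply, D.χ_f χ hker, map_zero, map_zero]
  have hπS : IsUnit (algebraMap R S' D.π) := by
    have h1 : IsUnit (algebraMap R (Localization.Away (algebraMap R A D.π)) D.π) := by
      rw [IsScalarTower.algebraMap_apply R A (Localization.Away (algebraMap R A D.π))]
      exact IsLocalization.Away.algebraMap_isUnit _
    have h2 := h1.map a'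
    rwa [AlgHom.commutes] at h2
  obtain ⟨uπ, huπ⟩ := hπS
  have hag : ∀ p, Ideal.Quotient.mk I (a p) = (gb.comp ιB) (D.θB p) := by
    intro p
    have h1 := AlgHom.congr_fun ha' (algebraMap A _ (χ p))
    rw [AlgHom.comp_apply, AlgHom.comp_apply, hαloc', hα, Ideal.Quotient.mkₐ_eq_mk] at h1
    rw [ha_apply, h1, AlgHom.comp_apply]
  obtain ⟨G, hG⟩ := D.exists_lift_away I a haf uπ huπ (gb.comp ιB) hag
  have hGu : IsUnit (G (algebraMap R D.B D.π)) := by
    rw [AlgHom.commutes, ← huπ]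
    exact uπ.isUnit
  refine ⟨awayLiftAlg (algebraMap R D.B D.π) G hGu, ?_⟩
  apply away_algHom_ext
  intro b
  rw [AlgHom.comp_apply, awayLiftAlg_algebraMap]
  have h2 := AlgHom.congr_fun hG b
  rw [AlgHom.comp_apply, AlgHom.comp_apply, hιB'] at h2
  exact h2

end Away

end DesData

end Groth.Agent.Lib.Helper22.Pop
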