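import Mathlib
import Groth.Prelude.Def_Smoothing
import Groth.Agent.Lib.Helper22.PopO
import Groth.Agent.Lib.helper10.SingIdeal

set_option linter.style.haveILetI false
set_option linter.unusedSectionVars false

universe u

namespace Groth.Agent.Lib.Helper22.Pop

open MvPolynomial

theorem eval_jacobianMinor {R : Type u} [CommRing R] {n m c : ℕ}
    (f : Fin m → MvPolynomial (Fin n) R) (rows : Fin c → Fin m) (cols : Fin c → Fin n)
    (r : Fin n → R) :
    eval r (Smoothing.jacobianMinor f rows cols) =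
      (Matrix.submatrix (Matrix.of fun (j : Fin c) (i : Fin n) => eval r (pderiv i (f (rows j))))
        id cols).det := by
  unfold Smoothing.jacobianMinor
  rw [RingHom.map_det]
  congr 1

/-- A strictly standard element has smooth localization. -/
theorem smooth_away_of_isStrictlyStandard {R A : Type u} [CommRing R] [CommRing A] [Algebra R A]
    [Algebra.FinitePresentation R A] {a : A} (ha : Smoothing.IsStrictlyStandard R A a) :
    Algebra.Smooth R (Localization.Away a) := by
  rw [← Algebra.basicOpen_subset_smoothLocus_iff_smooth]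
  intro q hq
  by_contra hcon
  have h1 := Groth.Agent.Lib.helper10.SingIdeal.mem_singularIdeal_of_isStrictlyStandard ha
  rw [Smoothing.singularIdeal, PrimeSpectrum.mem_vanishingIdeal] at h1
  exact hq (h1 q hcon)

theorem DesData.main {R Λ A : Type u} [CommRing R] [CommRing Λ] [Algebra R Λ] (D : DesData R)
    (hΛ : ∀ x : Λ, D.π ^ 2 • x = 0 → D.π • x = 0) [CommRing A] [Algebra R A]
    (φ : A →ₐ[R] Λ) (χ : MvPolynomial (Fin D.n) R →ₐ[R] A) (hχ : Function.Surjective χ)
    (hker : RingHom.ker χ.toRingHom = Ideal.span (Set.range D.f))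
    (hsmA : Algebra.Smooth R (Localization.Away (algebraMap R A D.π)))
    (hkt : ∀ j : Fin D.m, D.c ≤ (j : ℕ) → C D.π * D.f j ∈
          Ideal.span (D.f '' {j' : Fin D.m | (j' : ℕ) < D.c}) ⊔
            Ideal.span (Set.range D.f) ^ 2)
    (lam : Fin D.n → Λ)
    (hlam : ∀ i, φ (χ (X i)) = algebraMap R Λ (D.r i) + algebraMap R Λ (D.π ^ 4) * lam i) :
    ∃ (B : Type u) (_ : CommRing B) (_ : Algebra R B), Algebra.FinitePresentation R B ∧
      ∃ (α : A →ₐ[R] B) (β : B →ₐ[R] Λ), β.comp α = φ ∧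
        ∀ r : R, (∀ x : R, D.π ^ 2 * x = 0 → D.π * (r * x) = 0) →
          algebraMap R B r ∈ Smoothing.singularIdeal R B := by
  classical
  obtain ⟨φ', hφ'⟩ : ∃ φ' : MvPolynomial (Fin D.n) R →ₐ[R] Λ, φ' = φ.comp χ := ⟨_, rfl⟩
  have hφX : ∀ i, φ' (X i) = algebraMap R Λ (D.r i) + algebraMap R Λ (D.π ^ 4) * lam i := by
    intro i
    rw [hφ']
    exact hlam i
  have hφf : ∀ j, φ' (D.f j) = 0 := by
    intro j
    rw [hφ', AlgHom.comp_apply, D.χ_f χ hker, map_zero]
  obtain ⟨α, hα⟩ := D.exists_α χ hχ hker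
  refine ⟨D.B, inferInstance, inferInstance, inferInstance, α, D.β hΛ lam φ' hφX hφf, ?_, ?_⟩
  · apply AlgHom.ext
    intro a
    obtain ⟨p, rfl⟩ := hχ a
    rw [AlgHom.comp_apply, hα, DesData.β_θB, hφ', AlgHom.comp_apply]
  · intro r₀ hr₀
    rw [Smoothing.singularIdeal, PrimeSpectrum.mem_vanishingIdeal]
    intro q hq
    by_contra hr₀q
    apply hq
    change Algebra.IsSmoothAt R q.asIdeal
    by_cases hπq : algebraMap R D.B D.π ∈ q.asIdeal
    · -- near `V(π)`
      have hsm := D.smooth_away_Δ r₀ hr₀ hkt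
      refine isSmoothAt_of_smooth_away hsm q.asIdeal ?_
      intro hmem
      rw [map_mul, map_pow] at hmem
      rcases q.isPrime.mem_or_mem hmem with h1 | h1
      · exact hr₀q (q.isPrime.mem_of_pow_mem _ h1)
      · have h2 := D.Δ_sub_one_mem
        obtain ⟨e, he⟩ := Ideal.mem_span_singleton'.mp h2
        have h3 : Ideal.Quotient.mk D.𝔟 D.Δ - 1 ∈ q.asIdeal := by
          have : Ideal.Quotient.mk D.𝔟 D.Δ - 1 = Ideal.Quotient.mk D.𝔟 e * algebraMap R D.B D.π := by
            rw [DesData.algebraMap_B, ← map_mul, he, map_sub, map_one]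
          rw [this]
          exact Ideal.mul_mem_left _ _ hπq
        have h4 : (1 : D.B) ∈ q.asIdeal := by
          have : (1 : D.B) = Ideal.Quotient.mk D.𝔟 D.Δ - (Ideal.Quotient.mk D.𝔟 D.Δ - 1) := by ring
          rw [this]
          exact Ideal.sub_mem _ h1 h3
        exact q.isPrime.ne_top ((Ideal.eq_top_iff_one _).mpr h4)
    · -- away from `π`
      have hsm := D.smooth_away_π χ hχ hker hsmA
      exact isSmoothAt_of_smooth_away hsm q.asIdeal hπq

theorem desingularize {R Λ A : Type u} [CommRing R] [CommRing Λ]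
    [Algebra R Λ] (π : R) (hΛ : ∀ x : Λ, π ^ 2 • x = 0 → π • x = 0) [CommRing A] [Algebra R A]
    [Algebra.FinitePresentation R A] (φ : A →ₐ[R] Λ)
    (hπ : Smoothing.IsStrictlyStandard R A (algebraMap R A π))
    (ρ : A →ₐ[R] R ⧸ Ideal.span {π ^ 4})
    (hρ : ∀ (a : A) (r : R), Ideal.Quotient.mk (Ideal.span {π ^ 4}) r = ρ a →
      algebraMap R Λ r - φ a ∈ Ideal.span {algebraMap R Λ (π ^ 4)}) :
    ∃ (B : Type u) (_ : CommRing B) (_ : Algebra R B), Algebra.FinitePresentation R B ∧
      ∃ (α : A →ₐ[R] B) (β : B →ₐ[R] Λ), β.comp α = φ ∧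
        ∀ r : R, (∀ x : R, π ^ 2 * x = 0 → π * (r * x) = 0) →
          algebraMap R B r ∈ Smoothing.singularIdeal R B := by
  classical
  have hsmA := smooth_away_of_isStrictlyStandard hπ
  obtain ⟨P, hmem, hkill⟩ := hπ
  -- the section
  choose r hr using fun i => Ideal.Quotient.mk_surjective (ρ (P.hom (X i)))
  have hρχ : ∀ p, ρ (P.hom p) = Ideal.Quotient.mk (Ideal.span {π ^ 4}) (eval r p) := by
    have : ρ.comp P.hom = (Ideal.Quotient.mkₐ R (Ideal.span {π ^ 4})).comp (aeval r) := by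
      apply MvPolynomial.algHom_ext
      intro i
      rw [AlgHom.comp_apply, AlgHom.comp_apply, aeval_X, Ideal.Quotient.mkₐ_eq_mk, hr]
    exact fun p => AlgHom.congr_fun this p
  have hχf : ∀ j, P.hom (P.rel j) = 0 := by
    intro j
    have : P.rel j ∈ RingHom.ker P.hom.toRingHom := by
      rw [P.ker_eq]; exact Ideal.subset_span ⟨j, rfl⟩
    exact this
  have hη : ∀ j, ∃ η : R, eval r (P.rel j) = π ^ 4 * η := by
    intro j
    have h1 := hρχ (P.rel j)
    rw [hχf, map_zero] at h1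
    have h2 := Ideal.Quotient.eq_zero_iff_mem.mp h1.symm
    obtain ⟨η, hη⟩ := Ideal.mem_span_singleton'.mp h2
    exact ⟨η, by rw [← hη, mul_comm]⟩
  choose η hη using hη
  -- the coefficients
  obtain ⟨coef, hcoef⟩ := (Ideal.mem_span_range_iff_exists_fun (R := A)).mp hmem
  choose s hs using fun cols => Ideal.Quotient.mk_surjective (ρ (coef cols))
  obtain ⟨M, hM⟩ : ∃ M : Matrix (Fin P.c) (Fin P.n) R,
      M = Matrix.of fun (j : Fin P.c) (i : Fin P.n) =>
        eval r (pderiv i (P.rel (Fin.castLE P.hcm j))) := ⟨_, rfl⟩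
  have hsum : ∃ t : R, ∑ cols : Fin P.c → Fin P.n, s cols * (M.submatrix id cols).det =
      π * (1 + π ^ 3 * t) := by
    have h1 := congrArg ρ hcoef
    rw [AlgHom.commutes, map_sum] at h1
    have h2 : ∀ cols : Fin P.c → Fin P.n,
        ρ (coef cols * P.hom (Smoothing.jacobianMinor P.rel (Fin.castLE P.hcm) cols)) =
        Ideal.Quotient.mk (Ideal.span {π ^ 4}) (s cols * (M.submatrix id cols).det) := by
      intro cols
      rw [map_mul, hρχ, eval_jacobianMinor, ← hs, ← map_mul, hM]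
    rw [Finset.sum_congr rfl fun cols _ => h2 cols, ← map_sum] at h1
    have h3 : ∑ cols : Fin P.c → Fin P.n, s cols * (M.submatrix id cols).det - π ∈
        Ideal.span {π ^ 4} := by
      rw [← Ideal.Quotient.eq_zero_iff_mem, map_sub, h1, sub_eq_zero]
      rfl
    obtain ⟨t, ht⟩ := Ideal.mem_span_singleton'.mp h3
    refine ⟨t, ?_⟩
    have : ∑ cols : Fin P.c → Fin P.n, s cols * (M.submatrix id cols).det = t * π ^ 4 + π := by
      rw [ht]; ring
    rw [this]; ring
  obtain ⟨t, ht⟩ := hsum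
  obtain ⟨N, hN⟩ := exists_right_inv_of_minors M s
  -- the map to `Λ`
  have hlam : ∀ i, ∃ l : Λ, φ (P.hom (X i)) = algebraMap R Λ (r i) + algebraMap R Λ (π ^ 4) * l := by
    intro i
    have h1 := hρ (P.hom (X i)) (r i) (hr i)
    obtain ⟨μ, hμ⟩ := Ideal.mem_span_singleton'.mp h1
    refine ⟨-μ, ?_⟩
    have : φ (P.hom (X i)) = algebraMap R Λ (r i) - μ * algebraMap R Λ (π ^ 4) := by
      rw [hμ]; ring
    rw [this]; ring
  choose lam hlam using hlam
  have hN' : ∀ j k : Fin P.c, ∑ i, eval r (pderiv i (P.rel (Fin.castLE P.hcm j))) * N i k =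
      if j = k then π * (1 + π ^ 3 * t) else 0 := by
    intro j k
    have := hN j k
    rw [ht, hM] at this
    exact this
  have hkt : ∀ j : Fin P.m, P.c ≤ (j : ℕ) → C π * P.rel j ∈
      Ideal.span (P.rel '' {j' : Fin P.m | (j' : ℕ) < P.c}) ⊔
        Ideal.span (Set.range P.rel) ^ 2 := by
    intro j hj
    refine hkill (C π) ?_ j hj
    rw [← MvPolynomial.algebraMap_eq, AlgHom.commutes]
  exact DesData.main
    { π := π, n := P.n, m := P.m, c := P.c, hcm := P.hcm, f := P.rel, r := r, η := η, hη := hη,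
      N := N, t := t, hN := hN' } hΛ φ P.hom P.surj P.ker_eq hsmA hkt lam hlam

end Groth.Agent.Lib.Helper22.Pop
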