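import Mathlib
import Groth.Agent.S0559
import Groth.Agent.S5776
import Groth.Agent.S6820

/-!
# Parameters with annihilator condition (Popescu smoothing, for S2109)
-/

set_option autoImplicit false
set_option linter.style.haveILetI false
set_option linter.unusedSectionVars false

universe u
namespace Groth.Agent.Lib.Helper22.PopParam

open IsLocalRing


theorem ofList_take_ofFn {A : Type u} [CommRing A] (d : ℕ) (g : Fin d → A) (i : Fin d) :
    Ideal.ofList ((List.ofFn g).take i) =
      Ideal.span (Set.range fun j : {j : Fin d // (j : ℕ) < (i : ℕ)} => g j) := by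
  unfold Ideal.ofList
  congr 1
  ext a
  simp only [Set.mem_ofPred_eq, Set.mem_range, Subtype.exists, exists_prop]
  rw [List.mem_take_iff_getElem]
  constructor
  · rintro ⟨j, hj, rfl⟩
    simp only [List.length_ofFn, lt_inf_iff] at hj
    exact ⟨⟨j, hj.2⟩, hj.1, by simp⟩
  · rintro ⟨j, hj, rfl⟩
    exact ⟨j, by simp [hj], by simp⟩

/-- Lemma R -/
theorem mem_span_pow_of_mul_mem {A : Type u} [CommRing A] [IsRegularLocalRing A] (d : ℕ)
    (hd : ringKrullDim A = d) (p : Fin d → A) (hp : Ideal.span (Set.range p) = maximalIdeal A)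
    (e : ℕ) (he : 0 < e) (i : Fin d) (a : A)
    (h : p i * a ∈ Ideal.span (Set.range fun j : {j : Fin d // (j : ℕ) < (i : ℕ)} => p j ^ e)) :
    a ∈ Ideal.span (Set.range fun j : {j : Fin d // (j : ℕ) < (i : ℕ)} => p j ^ e) := by
  have hreg := Groth.Agent.S0559.result A d hd p hp
  have hw := Groth.Agent.S5776.result A A d p (fun j => if (j : ℕ) < (i : ℕ) then e else 1)
    (by intro j; split_ifs <;> omega) hreg.toIsWeaklyRegular
  have h1 := hw.regular_mod_prev i (by simp)
  rw [ofList_take_ofFn] at h1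
  have hI : (Ideal.span (Set.range fun j : {j : Fin d // (j : ℕ) < (i : ℕ)} =>
      p j ^ (if ((j : Fin d) : ℕ) < (i : ℕ) then e else 1))) =
      Ideal.span (Set.range fun j : {j : Fin d // (j : ℕ) < (i : ℕ)} => p j ^ e) := by
    congr 2
    funext j
    rw [if_pos j.2]
  rw [hI] at h1
  have hget : (List.ofFn fun j => p j ^ (if (j : ℕ) < (i : ℕ) then e else 1))[(i : ℕ)]'(by simp)
      = p i := by
    simp
  rw [hget] at h1
  set J := Ideal.span (Set.range fun j : {j : Fin d // (j : ℕ) < (i : ℕ)} => p j ^ e) with hJ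
  have h2 : p i • (Submodule.Quotient.mk a : A ⧸ (J • (⊤ : Submodule A A))) = 0 := by
    rw [← Submodule.Quotient.mk_smul, Submodule.Quotient.mk_eq_zero]
    simpa using h
  have h3 := h1 (by rw [h2, smul_zero] : p i • (Submodule.Quotient.mk a : A ⧸ (J • (⊤ : Submodule A A))) = p i • 0)
  rw [Submodule.Quotient.mk_eq_zero] at h3
  simpa using h3

theorem mk_eq_zero' {R : Type*} [CommRing R] (S : Submonoid R) {M : Type*} [AddCommGroup M]
    [Module R M] (y : M) (t : S) : LocalizedModule.mk y t = 0 ↔ ∃ u : S, u • y = 0 := by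
  rw [← LocalizedModule.zero_mk (1 : S), LocalizedModule.mk_eq]
  simp

variable {Λ : Type u} [CommRing Λ]

/-- the ideal generated by e-th powers of the entries before `i`. -/
def J (e : ℕ) {d : ℕ} (π : Fin d → Λ) (i : Fin d) : Ideal Λ :=
  Ideal.span (Set.range fun j : {j : Fin d // (j : ℕ) < (i : ℕ)} => π j ^ e)

theorem J_congr (e : ℕ) {d : ℕ} (π π' : Fin d → Λ) (i : Fin d)
    (h : ∀ j : Fin d, (j : ℕ) < (i : ℕ) → π j = π' j) : J e π i = J e π' i := by
  unfold J
  congr 2
  funext j
  rw [h j j.2]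

theorem J_map (q : Ideal Λ) [q.IsPrime] (e : ℕ) {d : ℕ} (p π : Fin d → Λ)
    (hπ : ∀ j, ∃ t ∈ q.primeCompl, π j = t * p j) (i : Fin d) :
    (J e π i).map (algebraMap Λ (Localization.AtPrime q)) =
      Ideal.span (Set.range fun j : {j : Fin d // (j : ℕ) < (i : ℕ)} =>
        (algebraMap Λ (Localization.AtPrime q) (p j)) ^ e) := by
  unfold J
  rw [Ideal.map_span, ← Set.range_comp]
  apply le_antisymm
  · rw [Ideal.span_le]
    rintro _ ⟨j, rfl⟩
    obtain ⟨t, ht, hj⟩ := hπ j
    simp only [Function.comp_apply, hj, mul_pow, map_mul, map_pow]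
    exact Ideal.mul_mem_left _ _ (Ideal.subset_span ⟨j, rfl⟩)
  · rw [Ideal.span_le]
    rintro _ ⟨j, rfl⟩
    obtain ⟨t, ht, hj⟩ := hπ j
    have hu : IsUnit (algebraMap Λ (Localization.AtPrime q) t) :=
      IsLocalization.map_units (Localization.AtPrime q) (⟨t, ht⟩ : q.primeCompl)
    have : (algebraMap Λ (Localization.AtPrime q) t) ^ e *
        (algebraMap Λ (Localization.AtPrime q) (p j)) ^ e ∈
        Ideal.span (Set.range ((algebraMap Λ (Localization.AtPrime q)) ∘
          fun j : {j : Fin d // (j : ℕ) < (i : ℕ)} => π j ^ e)) := by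
      apply Ideal.subset_span
      refine ⟨j, ?_⟩
      simp only [Function.comp_apply, hj, mul_pow, map_mul, map_pow]
    exact (Ideal.unit_mul_mem_iff_mem _ (hu.pow e)).mp this

theorem exists_mul_mem_J (q : Ideal Λ) [q.IsPrime] [IsRegularLocalRing (Localization.AtPrime q)]
    (d : ℕ) (hd : ringKrullDim (Localization.AtPrime q) = d) (e : ℕ) (he : 0 < e)
    (p π : Fin d → Λ)
    (hp : Ideal.span (Set.range fun j => algebraMap Λ (Localization.AtPrime q) (p j)) =
      maximalIdeal (Localization.AtPrime q))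
    (hπ : ∀ j, ∃ t ∈ q.primeCompl, π j = t * p j) (i : Fin d) (x : Λ)
    (h : ∃ u ∈ q.primeCompl, u * (π i * x) ∈ J e π i) :
    ∃ u ∈ q.primeCompl, u * x ∈ J e π i := by
  obtain ⟨u, hu, hux⟩ := h
  obtain ⟨t, ht, hti⟩ := hπ i
  have h1 := Ideal.mem_map_of_mem (algebraMap Λ (Localization.AtPrime q)) hux
  rw [J_map q e p π hπ i, hti] at h1
  simp only [map_mul] at h1
  have hu' : IsUnit (algebraMap Λ (Localization.AtPrime q) u) :=
    IsLocalization.map_units (Localization.AtPrime q) (⟨u, hu⟩ : q.primeCompl)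
  have ht' : IsUnit (algebraMap Λ (Localization.AtPrime q) t) :=
    IsLocalization.map_units (Localization.AtPrime q) (⟨t, ht⟩ : q.primeCompl)
  rw [Ideal.unit_mul_mem_iff_mem _ hu', mul_assoc, Ideal.unit_mul_mem_iff_mem _ ht'] at h1
  have h2 := mem_span_pow_of_mul_mem (A := Localization.AtPrime q) d hd
    (fun j => algebraMap Λ (Localization.AtPrime q) (p j)) hp e he i _ h1
  rw [← J_map q e p π hπ i,
    IsLocalization.algebraMap_mem_map_algebraMap_iff q.primeCompl] at h2
  obtain ⟨m, hm, hmx⟩ := h2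
  exact ⟨m, hm, hmx⟩

theorem exists_step [IsNoetherianRing Λ] (q : Ideal Λ) [q.IsPrime]
    [IsRegularLocalRing (Localization.AtPrime q)]
    (d : ℕ) (hd : ringKrullDim (Localization.AtPrime q) = d) (e : ℕ) (he : 0 < e)
    (p π : Fin d → Λ)
    (hp : Ideal.span (Set.range fun j => algebraMap Λ (Localization.AtPrime q) (p j)) =
      maximalIdeal (Localization.AtPrime q))
    (hπ : ∀ j, ∃ t ∈ q.primeCompl, π j = t * p j) (i : Fin d) :
    ∃ s ∈ q.primeCompl, ∀ x : Λ, (s * π i) ^ 2 * x ∈ J e π i → (s * π i) * x ∈ J e π i := by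
  have key : ∀ m : LocalizedModule q.primeCompl (Λ ⧸ J e π i), π i ^ 2 • m = 0 → π i • m = 0 := by
    intro m
    induction m using LocalizedModule.induction_on with
    | h xb t =>
      obtain ⟨x, rfl⟩ := Ideal.Quotient.mk_surjective xb
      rw [LocalizedModule.smul'_mk, LocalizedModule.smul'_mk, mk_eq_zero', mk_eq_zero']
      rintro ⟨u, hu⟩
      have hu' : (u : Λ) * (π i * (π i * x)) ∈ J e π i := by
        rw [← Ideal.Quotient.eq_zero_iff_mem]
        rw [← hu]
        simp only [Submonoid.smul_def, Algebra.smul_def, Ideal.Quotient.algebraMap_eq, map_mul,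
          map_pow]
        ring
      obtain ⟨v, hv, hvx⟩ := exists_mul_mem_J q d hd e he p π hp hπ i (π i * x) ⟨u, u.2, hu'⟩
      refine ⟨⟨v, hv⟩, ?_⟩
      have := (Ideal.Quotient.eq_zero_iff_mem).mpr hvx
      rw [← this]
      simp only [Submonoid.smul_def, Algebra.smul_def, Ideal.Quotient.algebraMap_eq, map_mul]
  obtain ⟨s, hs, hs'⟩ := Groth.Agent.S6820.result (Λ ⧸ J e π i) q.primeCompl (π i) key
  refine ⟨s, hs, fun x hx => ?_⟩
  have h1 := hs' 1 Nat.one_pos (Ideal.Quotient.mk _ x)
  rw [pow_one] at h1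
  have h2 : (s * π i) ^ 2 • (Ideal.Quotient.mk (J e π i) x) = 0 := by
    have := (Ideal.Quotient.eq_zero_iff_mem).mpr hx
    rw [← this]
    simp only [Algebra.smul_def, Ideal.Quotient.algebraMap_eq, map_mul, map_pow]
  have h3 := h1 h2
  rw [← Ideal.Quotient.eq_zero_iff_mem, ← h3]
  simp only [Algebra.smul_def, Ideal.Quotient.algebraMap_eq, map_mul]

theorem span_range_eq_of_unit_mul {A : Type*} [CommRing A] {ι : Type*} (f g : ι → A)
    (h : ∀ j, ∃ u, IsUnit u ∧ g j = u * f j) :
    Ideal.span (Set.range g) = Ideal.span (Set.range f) := by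
  apply le_antisymm
  · rw [Ideal.span_le]
    rintro _ ⟨j, rfl⟩
    obtain ⟨u, hu, hj⟩ := h j
    rw [hj]
    exact Ideal.mul_mem_left _ _ (Ideal.subset_span ⟨j, rfl⟩)
  · rw [Ideal.span_le]
    rintro _ ⟨j, rfl⟩
    obtain ⟨u, hu, hj⟩ := h j
    have : u * f j ∈ Ideal.span (Set.range g) := hj ▸ Ideal.subset_span ⟨j, rfl⟩
    exact (Ideal.unit_mul_mem_iff_mem _ hu).mp this

/-- generators of the maximal ideal of the localization coming from `Λ`. -/
theorem exists_gens (q : Ideal Λ) [q.IsPrime] [IsRegularLocalRing (Localization.AtPrime q)]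
    (d : ℕ) (hd : ringKrullDim (Localization.AtPrime q) = d) :
    ∃ p : Fin d → Λ, Ideal.span (Set.range fun j => algebraMap Λ (Localization.AtPrime q) (p j)) =
      maximalIdeal (Localization.AtPrime q) := by
  have h1 : (maximalIdeal (Localization.AtPrime q)).spanFinrank = d := by
    have := IsRegularLocalRing.spanFinrank_maximalIdeal (R := Localization.AtPrime q)
    rw [hd] at this
    exact_mod_cast this
  have hfg : (maximalIdeal (Localization.AtPrime q)).FG :=
    IsNoetherian.noetherian _
  obtain ⟨s, hs, hspan⟩ := Submodule.FG.exists_span_finset_card_eq_spanFinrank hfg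
  rw [h1] at hs
  let eq := s.equivFinOfCardEq hs
  let y : Fin d → Localization.AtPrime q := fun j => (eq.symm j : Localization.AtPrime q)
  have hy : Set.range y = (s : Set (Localization.AtPrime q)) := by
    ext a
    constructor
    · rintro ⟨j, rfl⟩
      exact (eq.symm j).2
    · intro ha
      exact ⟨eq ⟨a, ha⟩, by simp [y]⟩
  have hsurj : ∀ j, ∃ (a : Λ) (b : q.primeCompl),
      IsLocalization.mk' (Localization.AtPrime q) a b = y j :=
    fun j => by
      obtain ⟨⟨a, b⟩, hab⟩ := IsLocalization.mk'_surjective q.primeCompl (y j)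
      exact ⟨a, b, hab⟩
  choose a b hab using hsurj
  refine ⟨a, ?_⟩
  have h2 : Ideal.span (Set.range fun j => algebraMap Λ (Localization.AtPrime q) (a j)) =
      Ideal.span (Set.range y) := by
    apply span_range_eq_of_unit_mul
    intro j
    refine ⟨algebraMap Λ (Localization.AtPrime q) (b j),
      IsLocalization.map_units (Localization.AtPrime q) (b j), ?_⟩
    rw [← hab j, mul_comm, IsLocalization.mk'_spec]
  rw [h2, hy]
  exact hspan

theorem main [IsNoetherianRing Λ] (I q : Ideal Λ) [q.IsPrime] (n e d : ℕ) (hn : 0 < n)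
    (he : 0 < e)
    (hpow : (q ^ n).map (algebraMap Λ (Localization.AtPrime q)) ≤
      I.map (algebraMap Λ (Localization.AtPrime q)))
    [IsRegularLocalRing (Localization.AtPrime q)]
    (hd : ringKrullDim (Localization.AtPrime q) = d) :
    ∃ π : Fin d → Λ,
      Ideal.span (Set.range fun i => algebraMap Λ (Localization.AtPrime q) (π i)) =
        q.map (algebraMap Λ (Localization.AtPrime q)) ∧
      (∀ i, π i ^ n ∈ I) ∧
      ∀ (i : Fin d) (x : Λ), π i ^ 2 * x ∈ J e π i → π i * x ∈ J e π i := by
  obtain ⟨p, hp⟩ := exists_gens q d hd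
  -- initial choice
  have h0 : ∀ j, ∃ u ∈ q.primeCompl, u * p j ^ n ∈ I := by
    intro j
    have h1 : algebraMap Λ (Localization.AtPrime q) (p j) ∈
        maximalIdeal (Localization.AtPrime q) := by
      rw [← hp]
      exact Ideal.subset_span ⟨j, rfl⟩
    rw [← Localization.AtPrime.map_eq_maximalIdeal] at h1
    have h2 : algebraMap Λ (Localization.AtPrime q) (p j ^ n) ∈
        I.map (algebraMap Λ (Localization.AtPrime q)) := by
      apply hpow
      rw [Ideal.map_pow, map_pow]
      exact Ideal.pow_mem_pow h1 n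
    rw [IsLocalization.algebraMap_mem_map_algebraMap_iff q.primeCompl] at h2
    obtain ⟨m, hm, hmx⟩ := h2
    exact ⟨m, hm, hmx⟩
  choose u hu hup using h0
  have hP : ∀ k : ℕ, ∃ π : Fin d → Λ, (∀ j, ∃ t ∈ q.primeCompl, π j = t * p j) ∧
      (∀ j, π j ^ n ∈ I) ∧
      ∀ i : Fin d, (i : ℕ) < k → ∀ x, π i ^ 2 * x ∈ J e π i → π i * x ∈ J e π i := by
    intro k
    induction k with
    | zero =>
      refine ⟨fun j => u j * p j, fun j => ⟨u j, hu j, rfl⟩, fun j => ?_, fun i hi => ?_⟩
      · obtain ⟨n', rfl⟩ : ∃ n', n = n' + 1 := ⟨n - 1, by omega⟩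
        have : (u j * p j) ^ (n' + 1) = u j ^ n' * (u j * p j ^ (n' + 1)) := by ring
        rw [this]
        exact Ideal.mul_mem_left _ _ (hup j)
      · omega
    | succ k ih =>
      obtain ⟨π, h1, h2, h3⟩ := ih
      by_cases hk : k < d
      · obtain ⟨s, hs, hsx⟩ := exists_step q d hd e he p π hp h1 ⟨k, hk⟩
        classical
        refine ⟨Function.update π ⟨k, hk⟩ (s * π ⟨k, hk⟩), fun j => ?_, fun j => ?_,
          fun i hi x hx => ?_⟩
        · by_cases hj : j = ⟨k, hk⟩
          · subst hj
            obtain ⟨t, ht, hj⟩ := h1 ⟨k, hk⟩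
            rw [Function.update_self]
            refine ⟨s * t, q.primeCompl.mul_mem hs ht, ?_⟩
            rw [hj]; ring
          · rw [Function.update_of_ne hj]
            exact h1 j
        · by_cases hj : j = ⟨k, hk⟩
          · subst hj
            rw [Function.update_self, mul_pow]
            exact Ideal.mul_mem_left _ _ (h2 _)
          · rw [Function.update_of_ne hj]
            exact h2 j
        · have hJ : J e (Function.update π ⟨k, hk⟩ (s * π ⟨k, hk⟩)) i = J e π i := by
            apply J_congr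
            intro j hj
            rw [Function.update_of_ne]
            intro hjk
            rw [hjk] at hj
            simp only at hj
            omega
          rw [hJ] at hx ⊢
          by_cases hik : i = ⟨k, hk⟩
          · subst hik
            rw [Function.update_self] at hx ⊢
            exact hsx x hx
          · rw [Function.update_of_ne hik] at hx ⊢
            apply h3 i _ x hx
            have : (i : ℕ) ≠ k := fun h => hik (Fin.ext h)
            omega
      · refine ⟨π, h1, h2, fun i hi => h3 i ?_⟩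
        have := i.2
        omega
  obtain ⟨π, h1, h2, h3⟩ := hP d
  refine ⟨π, ?_, h2, fun i => h3 i i.2⟩
  rw [Localization.AtPrime.map_eq_maximalIdeal, ← hp]
  apply span_range_eq_of_unit_mul
  intro j
  obtain ⟨t, ht, hj⟩ := h1 j
  refine ⟨algebraMap Λ (Localization.AtPrime q) t,
    IsLocalization.map_units (Localization.AtPrime q) (⟨t, ht⟩ : q.primeCompl), ?_⟩
  rw [hj, map_mul]

end Groth.Agent.Lib.Helper22.PopParam
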