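import Mathlib
import Groth.Prelude.Def_Smoothing
import Groth.Agent.Lib.Helper22.PopP
import Groth.Agent.S6829

set_option linter.style.haveILetI false
set_option linter.unusedSectionVars false

universe u

namespace Groth.Agent.Lib.Helper22.Pop

open MvPolynomial TensorProduct

/-- Smoothness at primes composes. -/
theorem isSmoothAt_comp {R D B : Type*} [CommRing R] [CommRing D] [CommRing B] [Algebra R D]
    [Algebra D B] [Algebra R B] [IsScalarTower R D B] (q : Ideal B) [q.IsPrime] (p : Ideal D)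
    [p.IsPrime] [q.LiesOver p] (hp : Algebra.IsSmoothAt R p) (hq : Algebra.IsSmoothAt D q) :
    Algebra.IsSmoothAt R q := by
  letI := Localization.AtPrime.algebraOfLiesOver p q
  haveI : IsScalarTower D (Localization.AtPrime p) (Localization.AtPrime q) := inferInstance
  haveI : IsScalarTower R (Localization.AtPrime p) (Localization.AtPrime q) := inferInstance
  haveI : Algebra.FormallySmooth R (Localization.AtPrime p) := hp
  haveI : Algebra.FormallySmooth D (Localization.AtPrime q) := hq
  haveI : Algebra.FormallySmooth (Localization.AtPrime p) (Localization.AtPrime q) :=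
    Algebra.FormallySmooth.localization_base p.primeCompl
  exact Algebra.FormallySmooth.comp R (Localization.AtPrime p) (Localization.AtPrime q)

/-- An element of the singular ideal has smooth localization. -/
theorem smooth_away_of_mem_singularIdeal {R D : Type u} [CommRing R] [CommRing D] [Algebra R D]
    [Algebra.FinitePresentation R D] {d : D} (hd : d ∈ Smoothing.singularIdeal R D) :
    Algebra.Smooth R (Localization.Away d) := by
  rw [← Algebra.basicOpen_subset_smoothLocus_iff_smooth]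
  intro q hq
  by_contra hcon
  rw [Smoothing.singularIdeal, PrimeSpectrum.mem_vanishingIdeal] at hd
  exact hq (hd q hcon)

/-- Uniform annihilator bound on the smooth locus. -/
theorem ann_uniform {R D : Type u} [CommRing R] [CommRing D] [Algebra R D] [IsNoetherianRing D]
    [Algebra.FinitePresentation R D] (π : R) (hR : ∀ r : R, π ^ 2 * r = 0 → π * r = 0) (d : D)
    (hd : d ∈ Smoothing.singularIdeal R D) :
    ∃ N : ℕ, ∀ x : D, algebraMap R D π ^ 2 * x = 0 → algebraMap R D π * (d ^ N * x) = 0 := by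
  classical
  haveI := smooth_away_of_mem_singularIdeal hd
  haveI : Module.Flat R (Localization.Away d) := inferInstance
  have hpt : ∀ x : D, algebraMap R D π ^ 2 * x = 0 → ∃ N : ℕ, d ^ N * (algebraMap R D π * x) = 0 := by
    intro x hx
    have h1 : algebraMap R (Localization.Away d) (π ^ 2) * algebraMap D _ x = 0 := by
      rw [IsScalarTower.algebraMap_apply R D (Localization.Away d), ← map_mul, map_pow, hx, map_zero]
    have h2 := flat_ann π hR _ h1
    rw [IsScalarTower.algebraMap_apply R D (Localization.Away d), ← map_mul] at h2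
    obtain ⟨⟨_, N, rfl⟩, hN⟩ := (IsLocalization.map_eq_zero_iff (Submonoid.powers d) _ _).mp h2
    exact ⟨N, hN⟩
  let Ann : Ideal D := LinearMap.ker (LinearMap.mulLeft D (algebraMap R D π ^ 2))
  have hAnn : ∀ x, x ∈ Ann ↔ algebraMap R D π ^ 2 * x = 0 := fun x => by
    rw [LinearMap.mem_ker, LinearMap.mulLeft_apply]
  obtain ⟨S, hS⟩ : Ann.FG := IsNoetherian.noetherian Ann
  have hSmem : ∀ x ∈ S, algebraMap R D π ^ 2 * x = 0 := by
    intro x hx
    rw [← hAnn, ← hS]
    exact Submodule.subset_span hx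
  choose! Nf hNf using hpt
  refine ⟨S.sup Nf, ?_⟩
  intro x hx
  have hxA : x ∈ Ideal.span (S : Set D) := by
    rw [hS, hAnn]; exact hx
  have hle : Ideal.span (S : Set D) ≤
      LinearMap.ker (LinearMap.mulLeft D (algebraMap R D π * d ^ S.sup Nf)) := by
    rw [Ideal.span_le]
    intro y hy
    rw [SetLike.mem_coe, LinearMap.mem_ker, LinearMap.mulLeft_apply]
    have h1 := hNf y (hSmem y hy)
    have h2 : Nf y ≤ S.sup Nf := Finset.le_sup hy
    obtain ⟨e, he⟩ := Nat.exists_eq_add_of_le h2
    rw [he, pow_add]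
    have : algebraMap R D π * (d ^ Nf y * d ^ e) * y = d ^ e * (d ^ Nf y * (algebraMap R D π * y)) := by
      ring
    rw [this, h1, mul_zero]
  have := hle hxA
  rw [LinearMap.mem_ker, LinearMap.mulLeft_apply] at this
  rw [← this]
  ring

theorem desingularize_strictly_standard {R Λ A D : Type u} [CommRing R] [IsNoetherianRing R]
    [CommRing Λ] [Algebra R Λ] (π : R) (hR : ∀ r : R, π ^ 2 * r = 0 → π * r = 0)
    (hΛ : ∀ x : Λ, π ^ 2 • x = 0 → π • x = 0) [CommRing A] [Algebra R A]
    [Algebra.FinitePresentation R A] [CommRing D] [Algebra R D] [Algebra.FinitePresentation R D]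
    (φ : A →ₐ[R] Λ) (δ : D →ₐ[R] Λ) (hπ : Smoothing.IsStrictlyStandard R A (algebraMap R A π))
    (ψ : A →ₐ[R] D ⧸ Ideal.span {algebraMap R D (π ^ 4)})
    (hψ : ∀ (a : A) (d : D), Ideal.Quotient.mk (Ideal.span {algebraMap R D (π ^ 4)}) d = ψ a →
      δ d - φ a ∈ Ideal.span {algebraMap R Λ (π ^ 4)}) :
    ∃ (B : Type u) (_ : CommRing B) (_ : Algebra R B) (_ : Algebra D B) (_ : IsScalarTower R D B),
      Algebra.FinitePresentation R B ∧
      ∃ (α : A →ₐ[R] B) (β : B →ₐ[R] Λ), β.comp α = φ ∧
        β.comp (IsScalarTower.toAlgHom R D B) = δ ∧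
        (Smoothing.singularIdeal R D).map (algebraMap D B) ≤ Smoothing.singularIdeal D B ∧
        (Smoothing.singularIdeal R D).map (algebraMap D B) ≤ Smoothing.singularIdeal R B := by
  classical
  haveI : IsNoetherianRing D := Algebra.FiniteType.isNoetherianRing R D
  letI algDΛ : Algebra D Λ := δ.toRingHom.toAlgebra
  haveI : IsScalarTower R D Λ := IsScalarTower.of_algebraMap_eq (fun r => (δ.commutes r).symm)
  have hDΛ : ∀ d : D, algebraMap D Λ d = δ d := fun _ => rfl
  -- the base-changed data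
  let φ' : D ⊗[R] A →ₐ[D] Λ :=
    Algebra.TensorProduct.lift (Algebra.ofId D Λ) φ (fun _ _ => Commute.all _ _)
  have hφ' : ∀ (d : D) (a : A), φ' (d ⊗ₜ a) = δ d * φ a := by
    intro d a
    rw [Algebra.TensorProduct.lift_tmul]
    rfl
  have hstd : Smoothing.IsStrictlyStandard D (D ⊗[R] A) (algebraMap D (D ⊗[R] A) (algebraMap R D π)) := by
    have h1 := (Groth.Agent.S6829.result (R' := D) (algebraMap R A π)).2 hπ
    have h2 : algebraMap D (D ⊗[R] A) (algebraMap R D π) = (1 : D) ⊗ₜ[R] algebraMap R A π := by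
      rw [Algebra.TensorProduct.algebraMap_apply, Algebra.algebraMap_self, RingHom.id_apply,
        Algebra.algebraMap_eq_smul_one (R := R) (A := D), TensorProduct.smul_tmul,
        ← Algebra.algebraMap_eq_smul_one]
    rw [h2]
    exact h1
  have hΛ' : ∀ x : Λ, algebraMap R D π ^ 2 • x = 0 → algebraMap R D π • x = 0 := by
    intro x hx
    rw [Algebra.smul_def, map_pow, hDΛ, δ.commutes] at hx
    rw [Algebra.smul_def, hDΛ, δ.commutes]
    have := hΛ x (by rw [Algebra.smul_def, map_pow]; exact hx)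
    rwa [Algebra.smul_def] at this
  have hspan : Ideal.span {algebraMap R D (π ^ 4)} = Ideal.span {algebraMap R D π ^ 4} := by
    rw [map_pow]
  let e : (D ⧸ Ideal.span {algebraMap R D (π ^ 4)}) ≃ₐ[D] (D ⧸ Ideal.span {algebraMap R D π ^ 4}) :=
    Ideal.quotientEquivAlgOfEq D hspan
  have he : ∀ d : D, e (Ideal.Quotient.mk _ d) = Ideal.Quotient.mk _ d := fun d =>
    Ideal.quotientEquivAlgOfEq_mk D hspan d
  let ψ' : A →ₐ[R] D ⧸ Ideal.span {algebraMap R D π ^ 4} :=
    (e.toAlgHom.restrictScalars R).comp ψ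
  have hψ' : ∀ (a : A) (d : D), Ideal.Quotient.mk _ d = ψ a → ψ' a = Ideal.Quotient.mk _ d := by
    intro a d hd
    change e (ψ a) = _
    rw [← hd, he]
  let ρ' : D ⊗[R] A →ₐ[D] D ⧸ Ideal.span {algebraMap R D π ^ 4} :=
    Algebra.TensorProduct.lift (Algebra.ofId D _) ψ' (fun _ _ => Commute.all _ _)
  -- compatibility
  have hJ : Ideal.span {algebraMap D Λ (algebraMap R D π ^ 4)} =
      Ideal.span {algebraMap R Λ (π ^ 4)} := by
    rw [hDΛ, map_pow, δ.commutes, map_pow]
  have hker : ∀ x ∈ Ideal.span {algebraMap R D π ^ 4},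
      ((Ideal.Quotient.mkₐ D (Ideal.span {algebraMap D Λ (algebraMap R D π ^ 4)})).comp
        (Algebra.ofId D Λ)) x = 0 := by
    intro x hx
    obtain ⟨y, rfl⟩ := Ideal.mem_span_singleton'.mp hx
    rw [AlgHom.comp_apply, Ideal.Quotient.mkₐ_eq_mk, Ideal.Quotient.eq_zero_iff_mem]
    change algebraMap D Λ (y * algebraMap R D π ^ 4) ∈ _
    rw [map_mul]
    exact Ideal.mul_mem_left _ _ (Ideal.subset_span rfl)
  let δbar : (D ⧸ Ideal.span {algebraMap R D π ^ 4}) →ₐ[D]
      Λ ⧸ Ideal.span {algebraMap D Λ (algebraMap R D π ^ 4)} :=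
    Ideal.Quotient.liftₐ _ _ hker
  have hδbar : ∀ d : D, δbar (Ideal.Quotient.mk _ d) = Ideal.Quotient.mk _ (δ d) := fun d => rfl
  have hcomp : (Ideal.Quotient.mkₐ D (Ideal.span {algebraMap D Λ (algebraMap R D π ^ 4)})).comp φ' =
      δbar.comp ρ' := by
    apply Algebra.TensorProduct.ext'
    intro d a
    obtain ⟨d₀, hd₀⟩ := Ideal.Quotient.mk_surjective (ψ a)
    have h1 := hψ a d₀ hd₀
    have h2 : δbar ((Algebra.ofId D (D ⧸ Ideal.span {algebraMap R D π ^ 4})) d) =
        Ideal.Quotient.mk _ (δ d) := hδbar d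
    have hL : ((Ideal.Quotient.mkₐ D (Ideal.span {algebraMap D Λ (algebraMap R D π ^ 4)})).comp φ')
        (d ⊗ₜ[R] a) = Ideal.Quotient.mk _ (δ d) * Ideal.Quotient.mk _ (φ a) := by
      rw [AlgHom.comp_apply, hφ', Ideal.Quotient.mkₐ_eq_mk, map_mul]
    have hRr : (δbar.comp ρ') (d ⊗ₜ[R] a) =
        Ideal.Quotient.mk _ (δ d) * Ideal.Quotient.mk _ (δ d₀) := by
      rw [AlgHom.comp_apply, Algebra.TensorProduct.lift_tmul, hψ' a d₀ hd₀, map_mul, h2, hδbar]
    rw [hL, hRr]
    congr 1
    rw [eq_comm, Ideal.Quotient.eq, hJ]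
    exact h1
  have hρ' : ∀ (a' : D ⊗[R] A) (d : D),
      Ideal.Quotient.mk (Ideal.span {algebraMap R D π ^ 4}) d = ρ' a' →
      algebraMap D Λ d - φ' a' ∈ Ideal.span {algebraMap D Λ (algebraMap R D π ^ 4)} := by
    intro a' d hd
    have h1 := AlgHom.congr_fun hcomp a'
    rw [AlgHom.comp_apply, AlgHom.comp_apply, ← hd, hδbar, Ideal.Quotient.mkₐ_eq_mk] at h1
    rw [← Ideal.Quotient.eq]
    exact h1.symm
  obtain ⟨B, instB, algDB, hfp, α', β', hβα, hsing⟩ :=
    desingularize (R := D) (Λ := Λ) (A := D ⊗[R] A) (algebraMap R D π) hΛ' φ' hstd ρ' hρ'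
  letI algRB : Algebra R B := ((algebraMap D B).comp (algebraMap R D)).toAlgebra
  haveI tower : IsScalarTower R D B := IsScalarTower.of_algebraMap_eq (fun _ => rfl)
  haveI : Algebra.FinitePresentation D B := hfp
  have hfpR : Algebra.FinitePresentation R B := Algebra.FinitePresentation.trans R D B
  -- part (1)
  have hpart1 : ∀ d ∈ Smoothing.singularIdeal R D, algebraMap D B d ∈ Smoothing.singularIdeal D B := by
    intro d hd
    obtain ⟨N, hN⟩ := ann_uniform π hR d hd
    have h1 := hsing (d ^ N) hN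
    rw [Smoothing.singularIdeal, PrimeSpectrum.mem_vanishingIdeal] at h1 ⊢
    intro q hq
    have h2 := h1 q hq
    rw [map_pow] at h2
    exact q.isPrime.mem_of_pow_mem _ h2
  refine ⟨B, instB, algRB, algDB, tower, hfpR,
    (α'.restrictScalars R).comp Algebra.TensorProduct.includeRight, β'.restrictScalars R,
    ?_, ?_, ?_, ?_⟩
  · apply AlgHom.ext
    intro a
    have h1 := AlgHom.congr_fun hβα ((1 : D) ⊗ₜ[R] a)
    rw [AlgHom.comp_apply, hφ', map_one, one_mul] at h1
    exact h1
  · apply AlgHom.ext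
    intro d
    change β' (algebraMap D B d) = δ d
    rw [AlgHom.commutes, hDΛ]
  · rw [Ideal.map_le_iff_le_comap]
    exact hpart1
  · rw [Ideal.map_le_iff_le_comap]
    intro d hd
    rw [Ideal.mem_comap, Smoothing.singularIdeal, PrimeSpectrum.mem_vanishingIdeal]
    intro q hq
    by_contra hdq
    apply hq
    change Algebra.IsSmoothAt R q.asIdeal
    have hqD : Algebra.IsSmoothAt D q.asIdeal := by
      by_contra hcon
      have := hpart1 d hd
      rw [Smoothing.singularIdeal, PrimeSpectrum.mem_vanishingIdeal] at this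
      exact hdq (this q hcon)
    haveI : (q.asIdeal.comap (algebraMap D B)).IsPrime := Ideal.comap_isPrime _ _
    have hpD : Algebra.IsSmoothAt R (q.asIdeal.comap (algebraMap D B)) := by
      by_contra hcon
      rw [Smoothing.singularIdeal, PrimeSpectrum.mem_vanishingIdeal] at hd
      exact hdq (hd ⟨q.asIdeal.comap (algebraMap D B), inferInstance⟩ hcon)
    haveI : q.asIdeal.LiesOver (q.asIdeal.comap (algebraMap D B)) := ⟨rfl⟩
    exact isSmoothAt_comp q.asIdeal (q.asIdeal.comap (algebraMap D B)) hpD hqD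

end Groth.Agent.Lib.Helper22.Pop
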