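import Mathlib
import Groth.Prelude.Def_Smoothing
import Groth.Agent.Lib.Helper22.PopQ

set_option linter.style.haveILetI false
set_option linter.unusedSectionVars false

universe u

namespace Groth.Agent.Lib.Helper22.Pop

open MvPolynomial TensorProduct

/-- The lifting lemma with the square of `π` named. -/
theorem lifting_lemma' {R Λ C' : Type u} [CommRing R] [IsNoetherianRing R] [CommRing Λ]
    [Algebra R Λ] (π z : R) (hz : z = π ^ 2) (hR : ∀ r : R, z * r = 0 → π * r = 0)
    (hΛ : ∀ x : Λ, z • x = 0 → π • x = 0) [CommRing C'] [Algebra R C']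
    [Algebra (R ⧸ Ideal.span {z}) C'] [IsScalarTower R (R ⧸ Ideal.span {z}) C']
    [Algebra.FinitePresentation (R ⧸ Ideal.span {z}) C']
    (g : C' →ₐ[R] Λ ⧸ Ideal.span {algebraMap R Λ z}) :
    ∃ (D : Type u) (_ : CommRing D) (_ : Algebra R D), Algebra.FinitePresentation R D ∧
      ∃ (δ : D →ₐ[R] Λ) (ψ : C' →ₐ[R] D ⧸ Ideal.span {algebraMap R D π}),
        (∀ (c : C') (d : D) (l : Λ), Ideal.Quotient.mk (Ideal.span {algebraMap R D π}) d = ψ c →
          Ideal.Quotient.mk (Ideal.span {algebraMap R Λ z}) l = g c →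
            δ d - l ∈ Ideal.span {algebraMap R Λ π}) ∧
        (∀ (Q : Ideal D) [Q.IsPrime], algebraMap R D π ∉ Q → Algebra.IsSmoothAt R Q) ∧
        (∀ (Q : Ideal (D ⧸ Ideal.span {algebraMap R D π})) [Q.IsPrime],
          Algebra.IsSmoothAt (R ⧸ Ideal.span {z}) (Q.comap ψ) →
            Algebra.IsSmoothAt R (Q.comap (Ideal.Quotient.mk (Ideal.span {algebraMap R D π})))) := by
  subst hz
  exact lifting_lemma π hR hΛ g

/-- Away from the singular ideal: a smooth point is avoided by some element of the singular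
ideal. -/
theorem exists_mem_singularIdeal_notMem {R D : Type u} [CommRing R] [CommRing D] [Algebra R D]
    [Algebra.FinitePresentation R D] (p : Ideal D) [p.IsPrime] (hp : Algebra.IsSmoothAt R p) :
    ∃ h ∈ Smoothing.singularIdeal R D, h ∉ p := by
  by_contra hcon
  push Not at hcon
  have h1 : (⟨p, inferInstance⟩ : PrimeSpectrum D) ∈
      PrimeSpectrum.zeroLocus (Smoothing.singularIdeal R D : Set D) := by
    rw [PrimeSpectrum.mem_zeroLocus]
    exact fun h hh => hcon h hh
  rw [Smoothing.singularIdeal, PrimeSpectrum.zeroLocus_vanishingIdeal_eq_closure,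
    (Algebra.isOpen_smoothLocus (R := R) (A := D)).isClosed_compl.closure_eq] at h1
  exact h1 hp

/-- Smooth away from `π` puts `π` in the singular ideal. -/
theorem mem_singularIdeal_of_smooth_away {R B : Type u} [CommRing R] [CommRing B] [Algebra R B]
    (b : B) (h : ∀ (Q : Ideal B) [Q.IsPrime], b ∉ Q → Algebra.IsSmoothAt R Q) :
    b ∈ Smoothing.singularIdeal R B := by
  rw [Smoothing.singularIdeal, PrimeSpectrum.mem_vanishingIdeal]
  intro q hq
  by_contra hcon
  exact hq (h q.asIdeal hcon)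

theorem mem_radical_of_forall_prime {R D : Type u} [CommRing R] [CommRing D] [Algebra R D]
    [Algebra.FinitePresentation R D] (b d : D)
    (h : ∀ (Q : Ideal D) [Q.IsPrime], b ∈ Q → ¬ Algebra.IsSmoothAt R Q → d ∈ Q) :
    d ∈ (Smoothing.singularIdeal R D ⊔ Ideal.span {b}).radical := by
  rw [Ideal.radical_eq_sInf, Submodule.mem_sInf]
  rintro Q ⟨hQ, hQprime⟩
  haveI := hQprime
  have hb : b ∈ Q := hQ (Ideal.mem_sup_right (Ideal.subset_span rfl))
  refine h Q hb ?_
  intro hsm
  obtain ⟨x, hx, hxQ⟩ := exists_mem_singularIdeal_notMem Q hsm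
  exact hxQ (hQ (Ideal.mem_sup_left hx))

theorem ann_pow_of_ann {S : Type*} [CommRing S] (p : S) (h : ∀ x : S, p ^ 2 * x = 0 → p * x = 0)
    (k : ℕ) (x : S) (hx : p ^ (k + 1) * x = 0) : p * x = 0 := by
  induction k with
  | zero => simpa using hx
  | succ k ih =>
    apply ih
    have h1 : p ^ 2 * (p ^ k * x) = 0 := by rw [← hx]; ring
    have h2 := h _ h1
    rw [← h2]; ring

theorem desingularize_lifting_apply {R Λ A C : Type u} [CommRing R] [IsNoetherianRing R] [CommRing Λ]
    [Algebra R Λ] (π : R) (hR : ∀ r : R, π ^ 2 * r = 0 → π * r = 0)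
    (hΛ : ∀ x : Λ, π ^ 2 • x = 0 → π • x = 0) [CommRing A] [Algebra R A]
    [Algebra.FinitePresentation R A] (φ : A →ₐ[R] Λ)
    (hπ : Smoothing.IsStrictlyStandard R A (algebraMap R A π))
    [CommRing C] [Algebra R C] [Algebra (R ⧸ Ideal.span {π ^ 8}) C]
    [IsScalarTower R (R ⧸ Ideal.span {π ^ 8}) C]
    [Algebra.FinitePresentation (R ⧸ Ideal.span {π ^ 8}) C]
    (γ : A →ₐ[R] C) (g : C →ₐ[R] Λ ⧸ Ideal.span {algebraMap R Λ (π ^ 8)})
    (hfac : ∀ a : A, g (γ a) = Ideal.Quotient.mk (Ideal.span {algebraMap R Λ (π ^ 8)}) (φ a)) :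
    ∃ (B : Type u) (_ : CommRing B) (_ : Algebra R B), Algebra.FinitePresentation R B ∧
      ∃ (α : A →ₐ[R] B) (β : B →ₐ[R] Λ), β.comp α = φ ∧
        (∀ (Q : Ideal B) [Q.IsPrime], algebraMap R B π ∉ Q → Algebra.IsSmoothAt R Q) ∧
        (Smoothing.singularIdeal (R ⧸ Ideal.span {π ^ 8}) C).map g ≤
          ((Smoothing.singularIdeal R B).map β).radical.map
            (Ideal.Quotient.mk (Ideal.span {algebraMap R Λ (π ^ 8)})) := by
  classical
  have hR4 : ∀ r : R, π ^ 8 * r = 0 → π ^ 4 * r = 0 := by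
    intro r hr
    have h1 := ann_pow_of_ann π hR 7 r hr
    have : π ^ 4 * r = π ^ 3 * (π * r) := by ring
    rw [this, h1, mul_zero]
  have hΛ4 : ∀ x : Λ, π ^ 8 • x = 0 → π ^ 4 • x = 0 := by
    intro x hx
    rw [Algebra.smul_def, map_pow] at hx
    have h0 : ∀ y : Λ, algebraMap R Λ π ^ 2 * y = 0 → algebraMap R Λ π * y = 0 := by
      intro y hy
      have := hΛ y (by rw [Algebra.smul_def, map_pow]; exact hy)
      rwa [Algebra.smul_def] at this
    have h1 := ann_pow_of_ann (algebraMap R Λ π) h0 7 x hx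
    rw [Algebra.smul_def, map_pow]
    have : algebraMap R Λ π ^ 4 * x = algebraMap R Λ π ^ 3 * (algebraMap R Λ π * x) := by ring
    rw [this, h1, mul_zero]
  obtain ⟨D, instD, algD, fpD, δ, ψC, hcompat, hb, hc⟩ :=
    lifting_lemma' (π ^ 4) (π ^ 8) (by ring) hR4 hΛ4 g
  -- the composite `A → C → D/π⁴D`
  have hψ : ∀ (a : A) (d : D), Ideal.Quotient.mk (Ideal.span {algebraMap R D (π ^ 4)}) d =
      (ψC.comp γ) a → δ d - φ a ∈ Ideal.span {algebraMap R Λ (π ^ 4)} := by
    intro a d hd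
    exact hcompat (γ a) d (φ a) hd (hfac a).symm
  obtain ⟨B, instB, algRB, algDB, tower, fpB, α, β, hβα, hβδ, _, hsingR⟩ :=
    desingularize_strictly_standard π hR hΛ φ δ hπ (ψC.comp γ) hψ
  have hβδ' : ∀ d : D, β (algebraMap D B d) = δ d := fun d => AlgHom.congr_fun hβδ d
  -- smoothness away from `π`
  have hsmooth : ∀ (Q : Ideal B) [Q.IsPrime], algebraMap R B π ∉ Q → Algebra.IsSmoothAt R Q := by
    intro Q _ hQ
    haveI : (Q.comap (algebraMap D B)).IsPrime := Ideal.comap_isPrime _ _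
    have h1 : algebraMap R D (π ^ 4) ∉ Q.comap (algebraMap D B) := by
      intro hmem
      rw [Ideal.mem_comap, ← IsScalarTower.algebraMap_apply, map_pow] at hmem
      exact hQ (Ideal.IsPrime.mem_of_pow_mem inferInstance _ hmem)
    have h2 := hb (Q.comap (algebraMap D B)) h1
    obtain ⟨x, hx, hxQ⟩ := exists_mem_singularIdeal_notMem _ h2
    have h3 : algebraMap D B x ∈ Smoothing.singularIdeal R B :=
      hsingR (Ideal.mem_map_of_mem _ hx)
    rw [Smoothing.singularIdeal, PrimeSpectrum.mem_vanishingIdeal] at h3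
    by_contra hcon
    exact hxQ (h3 ⟨Q, inferInstance⟩ hcon)
  refine ⟨B, instB, algRB, fpB, α, β, hβα, hsmooth, ?_⟩
  -- the inclusion of ideals
  have hπB : algebraMap R B π ∈ Smoothing.singularIdeal R B :=
    mem_singularIdeal_of_smooth_away _ hsmooth
  have hπΛ : algebraMap R Λ π ∈ (Smoothing.singularIdeal R B).map β := by
    rw [← β.commutes]
    exact Ideal.mem_map_of_mem _ hπB
  rw [Ideal.map_le_iff_le_comap]
  intro c hcmem
  rw [Ideal.mem_comap]
  obtain ⟨d, hd⟩ := Ideal.Quotient.mk_surjective (ψC c)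
  obtain ⟨l, hl⟩ := Ideal.Quotient.mk_surjective (g c)
  -- `d` lies in every non-smooth prime containing `π`
  have hdrad : d ∈ (Smoothing.singularIdeal R D ⊔ Ideal.span {algebraMap R D (π ^ 4)}).radical := by
    apply mem_radical_of_forall_prime
    intro Q _ hπQ hQns
    have hker : RingHom.ker (Ideal.Quotient.mk (Ideal.span {algebraMap R D (π ^ 4)})) ≤ Q := by
      rw [Ideal.mk_ker, Ideal.span_le]
      rintro _ rfl
      exact hπQ
    haveI : (Q.map (Ideal.Quotient.mk (Ideal.span {algebraMap R D (π ^ 4)}))).IsPrime :=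
      Ideal.map_isPrime_of_surjective Ideal.Quotient.mk_surjective hker
    have hcomap : (Q.map (Ideal.Quotient.mk (Ideal.span {algebraMap R D (π ^ 4)}))).comap
        (Ideal.Quotient.mk (Ideal.span {algebraMap R D (π ^ 4)})) = Q := by
      rw [Ideal.comap_map_of_surjective _ Ideal.Quotient.mk_surjective, ← RingHom.ker_eq_comap_bot]
      exact sup_eq_left.mpr hker
    have h1 : ¬ Algebra.IsSmoothAt (R ⧸ Ideal.span {π ^ 8})
        ((Q.map (Ideal.Quotient.mk (Ideal.span {algebraMap R D (π ^ 4)}))).comap ψC) := by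
      intro hsm
      have h2 := hc _ hsm
      apply hQns
      convert h2 using 2
      exact hcomap.symm
    haveI : ((Q.map (Ideal.Quotient.mk (Ideal.span {algebraMap R D (π ^ 4)}))).comap ψC).IsPrime :=
      Ideal.comap_isPrime _ _
    rw [Smoothing.singularIdeal, PrimeSpectrum.mem_vanishingIdeal] at hcmem
    have h3 := hcmem ⟨(Q.map (Ideal.Quotient.mk (Ideal.span {algebraMap R D (π ^ 4)}))).comap ψC,
      inferInstance⟩ h1
    change ψC c ∈ Q.map _ at h3
    rw [← hd, ← Ideal.mem_comap, hcomap] at h3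
    exact h3
  obtain ⟨N, hN⟩ := hdrad
  obtain ⟨h, hh, y, hy, hhy⟩ := Submodule.mem_sup.mp hN
  obtain ⟨e, rfl⟩ := Ideal.mem_span_singleton'.mp hy
  have hδd : δ d ∈ ((Smoothing.singularIdeal R B).map β).radical := by
    refine ⟨N, ?_⟩
    rw [← map_pow, ← hhy, map_add, map_mul, δ.commutes, map_pow]
    refine Ideal.add_mem _ ?_ (Ideal.mul_mem_left _ _ (Ideal.pow_mem_of_mem _ hπΛ 4 (by norm_num)))
    rw [← hβδ']
    exact Ideal.mem_map_of_mem _ (hsingR (Ideal.mem_map_of_mem _ hh))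
  have hdiff := hcompat c d l hd hl
  have hlrad : l ∈ ((Smoothing.singularIdeal R B).map β).radical := by
    have : l = δ d - (δ d - l) := by ring
    rw [this]
    refine Ideal.sub_mem _ hδd (Ideal.le_radical ?_)
    obtain ⟨e', he'⟩ := Ideal.mem_span_singleton'.mp hdiff
    rw [← he', map_pow]
    exact Ideal.mul_mem_left _ _ (Ideal.pow_mem_of_mem _ hπΛ 4 (by norm_num))
  rw [← hl]
  exact Ideal.mem_map_of_mem _ hlrad

end Groth.Agent.Lib.Helper22.Pop
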