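import Mathlib
import Groth.Prelude.Def_Smoothing
import Groth.Agent.Lib.Helper22.PopR

set_option linter.style.haveILetI false
set_option linter.unusedSectionVars false

universe u

namespace Groth.Agent.Lib.Helper22.Pop

open MvPolynomial TensorProduct

/-- Smoothness at a prime passes to a quotient of the base (base change along a surjection). -/
theorem isSmoothAt_of_surjective_baseChange {R₁ A₁ R₂ A₂ : Type u} [CommRing R₁] [CommRing A₁]
    [CommRing R₂] [CommRing A₂] [Algebra R₁ A₁] [Algebra R₂ A₂]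
    (pR : R₁ →+* R₂) (hpR : Function.Surjective pR) (pA : A₁ →+* A₂)
    (hpA : Function.Surjective pA)
    (hcA : ∀ x, pA (algebraMap R₁ A₁ x) = algebraMap R₂ A₂ (pR x))
    (hkA : RingHom.ker pA ≤ (RingHom.ker pR).map (algebraMap R₁ A₁))
    (p₂ : Ideal A₂) [p₂.IsPrime] (p : Ideal A₁) [p.IsPrime] (hp : p = p₂.comap pA)
    (hsm : Algebra.IsSmoothAt R₁ p) : Algebra.IsSmoothAt R₂ p₂ := by
  classical
  subst hp
  haveI : Algebra.FormallySmooth R₁ (Localization.AtPrime (p₂.comap pA)) := hsm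
  change Algebra.FormallySmooth R₂ (Localization.AtPrime p₂)
  apply Algebra.FormallySmooth.of_comp_surjective
  intro S' _ _ I hI gb
  letI algR₁S : Algebra R₁ S' := ((algebraMap R₂ S').comp pR).toAlgebra
  have halgS : ∀ x, algebraMap R₁ S' x = algebraMap R₂ S' (pR x) := fun _ => rfl
  have halgSI : ∀ x, algebraMap R₁ (S' ⧸ I) x = algebraMap R₂ (S' ⧸ I) (pR x) := fun _ => rfl
  let loc : Localization.AtPrime (p₂.comap pA) →+* Localization.AtPrime p₂ :=
    Localization.localRingHom (p₂.comap pA) p₂ pA rfl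
  have hloc : ∀ x, loc (algebraMap A₁ _ x) = algebraMap A₂ _ (pA x) := fun x =>
    Localization.localRingHom_to_map _ _ _ rfl x
  let gb₁ : Localization.AtPrime (p₂.comap pA) →ₐ[R₁] S' ⧸ I :=
    { (gb : Localization.AtPrime p₂ →+* S' ⧸ I).comp loc with
      commutes' := by
        intro x
        change gb (loc (algebraMap R₁ _ x)) = _
        rw [IsScalarTower.algebraMap_apply R₁ A₁ (Localization.AtPrime (p₂.comap pA)), hloc, hcA,
          ← IsScalarTower.algebraMap_apply R₂ A₂ (Localization.AtPrime p₂), AlgHom.commutes, halgSI] }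
  have hgb₁ : ∀ y, gb₁ y = gb (loc y) := fun _ => rfl
  obtain ⟨a, ha⟩ := Algebra.FormallySmooth.comp_surjective R₁
    (Localization.AtPrime (p₂.comap pA)) I hI gb₁
  have ha' : ∀ y, Ideal.Quotient.mk I (a y) = gb (loc y) := by
    intro y
    have := AlgHom.congr_fun ha y
    rw [AlgHom.comp_apply, Ideal.Quotient.mkₐ_eq_mk, hgb₁] at this
    exact this
  let a₀ : A₁ →+* S' := (a : Localization.AtPrime (p₂.comap pA) →+* S').comp (algebraMap A₁ _)
  have ha₀ : ∀ x, a₀ x = a (algebraMap A₁ _ x) := fun _ => rfl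
  have hker : RingHom.ker pA ≤ RingHom.ker a₀ := by
    refine le_trans hkA ?_
    rw [Ideal.map_le_iff_le_comap]
    intro y hy
    rw [Ideal.mem_comap, RingHom.mem_ker, ha₀,
      ← IsScalarTower.algebraMap_apply R₁ A₁ (Localization.AtPrime (p₂.comap pA)), AlgHom.commutes,
      halgS]
    have : pR y = 0 := hy
    rw [this, map_zero]
  let a₁ : A₂ →+* S' := pA.liftOfSurjective hpA ⟨a₀, hker⟩
  have ha₁ : ∀ x, a₁ (pA x) = a₀ x := fun x => RingHom.liftOfSurjective_comp_apply pA hpA ⟨a₀, hker⟩ x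
  have hunits : ∀ y : p₂.primeCompl, IsUnit (a₁ y) := by
    rintro ⟨y, hy⟩
    obtain ⟨x, rfl⟩ := hpA y
    rw [ha₁, ha₀]
    have hx : x ∈ (p₂.comap pA).primeCompl := hy
    exact (IsLocalization.map_units (Localization.AtPrime (p₂.comap pA)) ⟨x, hx⟩).map a
  let a₂ : Localization.AtPrime p₂ →+* S' := IsLocalization.lift hunits
  have ha₂ : ∀ y, a₂ (algebraMap A₂ _ y) = a₁ y := fun y => IsLocalization.lift_eq hunits y
  refine ⟨{ a₂ with commutes' := ?_ }, ?_⟩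
  · intro z
    obtain ⟨y, rfl⟩ := hpR z
    change a₂ (algebraMap R₂ (Localization.AtPrime p₂) (pR y)) = _
    rw [IsScalarTower.algebraMap_apply R₂ A₂ (Localization.AtPrime p₂), ← hcA, ha₂, ha₁, ha₀,
      ← IsScalarTower.algebraMap_apply R₁ A₁ (Localization.AtPrime (p₂.comap pA)), AlgHom.commutes,
      halgS]
  · apply AlgHom.coe_ringHom_injective
    apply IsLocalization.ringHom_ext p₂.primeCompl
    ext y
    obtain ⟨x, rfl⟩ := hpA y
    change Ideal.Quotient.mk I (a₂ (algebraMap A₂ _ (pA x))) = gb (algebraMap A₂ _ (pA x))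
    rw [ha₂, ha₁, ha₀, ha', hloc]

/-- Consequence for singular ideals. -/
theorem map_mem_singularIdeal_of_surjective {R₁ A₁ R₂ A₂ : Type u} [CommRing R₁] [CommRing A₁]
    [CommRing R₂] [CommRing A₂] [Algebra R₁ A₁] [Algebra R₂ A₂]
    (pR : R₁ →+* R₂) (hpR : Function.Surjective pR) (pA : A₁ →+* A₂)
    (hpA : Function.Surjective pA)
    (hcA : ∀ x, pA (algebraMap R₁ A₁ x) = algebraMap R₂ A₂ (pR x))
    (hkA : RingHom.ker pA ≤ (RingHom.ker pR).map (algebraMap R₁ A₁))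
    (x : A₁) (hx : x ∈ Smoothing.singularIdeal R₁ A₁) : pA x ∈ Smoothing.singularIdeal R₂ A₂ := by
  rw [Smoothing.singularIdeal, PrimeSpectrum.mem_vanishingIdeal] at hx ⊢
  intro q hq
  haveI : (q.asIdeal.comap pA).IsPrime := Ideal.comap_isPrime _ _
  have := hx ⟨q.asIdeal.comap pA, inferInstance⟩ (fun hsm => hq
    (isSmoothAt_of_surjective_baseChange pR hpR pA hpA hcA hkA q.asIdeal _ rfl hsm))
  exact this

/-- Transport of strict standardness along an algebra isomorphism. -/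
theorem isStrictlyStandard_of_algEquiv {R A A' : Type u} [CommRing R] [CommRing A] [CommRing A']
    [Algebra R A] [Algebra R A'] (e : A ≃ₐ[R] A') (a : A)
    (ha : Smoothing.IsStrictlyStandard R A a) : Smoothing.IsStrictlyStandard R A' (e a) := by
  obtain ⟨P, hmem, hkill⟩ := ha
  let P' : Smoothing.MarkedPresentation R A' :=
    { n := P.n, m := P.m, c := P.c, hcn := P.hcn, hcm := P.hcm, rel := P.rel
      hom := e.toAlgHom.comp P.hom
      surj := e.surjective.comp P.surj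
      ker_eq := by
        rw [← P.ker_eq]
        ext x
        simp only [RingHom.mem_ker]
        change e (P.hom x) = 0 ↔ P.hom x = 0
        exact e.map_eq_zero_iff }
  refine ⟨P', ?_, ?_⟩
  · have h1 := Ideal.mem_map_of_mem e.toAlgHom.toRingHom hmem
    rw [Ideal.map_span] at h1
    have h2 : (Set.range fun cols : Fin P'.c → Fin P'.n =>
        P'.hom (Smoothing.jacobianMinor P'.rel (Fin.castLE P'.hcm) cols)) =
        e.toAlgHom.toRingHom '' Set.range fun cols : Fin P.c → Fin P.n =>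
          P.hom (Smoothing.jacobianMinor P.rel (Fin.castLE P.hcm) cols) := by
      ext y
      constructor
      · rintro ⟨cols, rfl⟩
        exact ⟨_, ⟨cols, rfl⟩, rfl⟩
      · rintro ⟨_, ⟨cols, rfl⟩, rfl⟩
        exact ⟨cols, rfl⟩
    rw [h2]
    exact h1
  · intro a' ha' j hj
    refine hkill a' ?_ j hj
    apply e.injective
    exact ha'

/-- One step of the reduction modulo `ϖ⁸` (Stacks 07F1, case `r = 1`), with abstract quotients. -/
theorem resolvable_step {R₁ A₁ Λ₁ R₂ A₂ Λ₂ : Type u} [CommRing R₁] [IsNoetherianRing R₁]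
    [CommRing A₁] [Algebra R₁ A₁] [Algebra.FinitePresentation R₁ A₁] [CommRing Λ₁] [Algebra R₁ Λ₁]
    [CommRing R₂] [CommRing A₂] [Algebra R₂ A₂] [CommRing Λ₂] [Algebra R₂ Λ₂]
    (φ₁ : A₁ →ₐ[R₁] Λ₁) (𝔮₁ : Ideal Λ₁) [𝔮₁.IsPrime] (ϖ : R₁)
    (hϖ𝔮 : algebraMap R₁ Λ₁ ϖ ∈ 𝔮₁)
    (hR₁ : ∀ x : R₁, ϖ ^ 2 * x = 0 → ϖ * x = 0) (hΛ₁ : ∀ x : Λ₁, ϖ ^ 2 • x = 0 → ϖ • x = 0)
    (hstd : Smoothing.IsStrictlyStandard R₁ A₁ (algebraMap R₁ A₁ ϖ))
    (pR : R₁ →+* R₂) (hpR : Function.Surjective pR) (hkR : RingHom.ker pR = Ideal.span {ϖ ^ 8})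
    (pA : A₁ →+* A₂) (hpA : Function.Surjective pA)
    (hkA : RingHom.ker pA = Ideal.span {algebraMap R₁ A₁ (ϖ ^ 8)})
    (pΛ : Λ₁ →+* Λ₂) (hpΛ : Function.Surjective pΛ)
    (hkΛ : RingHom.ker pΛ = Ideal.span {algebraMap R₁ Λ₁ (ϖ ^ 8)})
    (hcA : ∀ x, pA (algebraMap R₁ A₁ x) = algebraMap R₂ A₂ (pR x))
    (hcΛ : ∀ x, pΛ (algebraMap R₁ Λ₁ x) = algebraMap R₂ Λ₂ (pR x))
    (φ₂ : A₂ →ₐ[R₂] Λ₂) (hφ : ∀ a, φ₂ (pA a) = pΛ (φ₁ a))
    (hres : Smoothing.Resolvable R₂ φ₂ (𝔮₁.map pΛ)) : Smoothing.Resolvable R₁ φ₁ 𝔮₁ := by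
  classical
  obtain ⟨C₂, instC, algC, fpC, g₂, h₂, hh₂g₂, hsub, hnot⟩ := hres
  letI algR₁C : Algebra R₁ C₂ := ((algebraMap R₂ C₂).comp pR).toAlgebra
  have hR₁C : ∀ x, algebraMap R₁ C₂ x = algebraMap R₂ C₂ (pR x) := fun _ => rfl
  have hkerē : ∀ x ∈ Ideal.span {ϖ ^ 8}, pR x = 0 := by
    intro x hx
    rw [← hkR] at hx
    exact hx
  let ebar : R₁ ⧸ Ideal.span {ϖ ^ 8} →+* R₂ := Ideal.Quotient.lift _ pR hkerē
  have hebar : ∀ x, ebar (Ideal.Quotient.mk _ x) = pR x := fun _ => rfl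
  letI algQR₂ : Algebra (R₁ ⧸ Ideal.span {ϖ ^ 8}) R₂ := ebar.toAlgebra
  letI algQC : Algebra (R₁ ⧸ Ideal.span {ϖ ^ 8}) C₂ := ((algebraMap R₂ C₂).comp ebar).toAlgebra
  haveI tow1 : IsScalarTower R₁ (R₁ ⧸ Ideal.span {ϖ ^ 8}) C₂ :=
    IsScalarTower.of_algebraMap_eq (fun _ => rfl)
  haveI tow2 : IsScalarTower (R₁ ⧸ Ideal.span {ϖ ^ 8}) R₂ C₂ :=
    IsScalarTower.of_algebraMap_eq (fun _ => rfl)
  have hbij : Function.Bijective (Algebra.ofId (R₁ ⧸ Ideal.span {ϖ ^ 8}) R₂) := by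
    constructor
    · rw [injective_iff_map_eq_zero]
      intro x hx
      obtain ⟨y, rfl⟩ := Ideal.Quotient.mk_surjective x
      have h1 : pR y = 0 := hx
      rw [Ideal.Quotient.eq_zero_iff_mem, ← hkR]
      exact h1
    · intro z
      obtain ⟨y, rfl⟩ := hpR z
      exact ⟨Ideal.Quotient.mk _ y, rfl⟩
  let eQ : (R₁ ⧸ Ideal.span {ϖ ^ 8}) ≃ₐ[R₁ ⧸ Ideal.span {ϖ ^ 8}] R₂ :=
    AlgEquiv.ofBijective (Algebra.ofId _ R₂) hbij
  haveI : Algebra.FinitePresentation (R₁ ⧸ Ideal.span {ϖ ^ 8}) R₂ :=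
    Algebra.FinitePresentation.equiv eQ
  haveI : Algebra.FormallySmooth (R₁ ⧸ Ideal.span {ϖ ^ 8}) R₂ :=
    Algebra.FormallySmooth.of_equiv eQ
  haveI : Algebra.FinitePresentation R₂ C₂ := fpC
  haveI : Algebra.FinitePresentation (R₁ ⧸ Ideal.span {ϖ ^ 8}) C₂ :=
    Algebra.FinitePresentation.trans _ R₂ C₂
  -- the maps
  let γ : A₁ →ₐ[R₁] C₂ :=
    { (g₂ : A₂ →+* C₂).comp pA with
      commutes' := by
        intro x
        change g₂ (pA (algebraMap R₁ A₁ x)) = _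
        rw [hcA, AlgHom.commutes, hR₁C] }
  have hγ : ∀ a, γ a = g₂ (pA a) := fun _ => rfl
  have hkerι : ∀ x ∈ Ideal.span {algebraMap R₁ Λ₁ (ϖ ^ 8)}, pΛ x = 0 := by
    intro x hx
    rw [← hkΛ] at hx
    exact hx
  let ι' : Λ₁ ⧸ Ideal.span {algebraMap R₁ Λ₁ (ϖ ^ 8)} →+* Λ₂ := Ideal.Quotient.lift _ pΛ hkerι
  have hι'bij : Function.Bijective ι' := by
    constructor
    · rw [injective_iff_map_eq_zero]
      intro x hx
      obtain ⟨y, rfl⟩ := Ideal.Quotient.mk_surjective x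
      have h1 : pΛ y = 0 := hx
      rw [Ideal.Quotient.eq_zero_iff_mem, ← hkΛ]
      exact h1
    · intro z
      obtain ⟨y, rfl⟩ := hpΛ z
      exact ⟨Ideal.Quotient.mk _ y, rfl⟩
  let ι : Λ₂ ≃+* Λ₁ ⧸ Ideal.span {algebraMap R₁ Λ₁ (ϖ ^ 8)} :=
    (RingEquiv.ofBijective ι' hι'bij).symm
  have hι : ∀ l, ι (pΛ l) = Ideal.Quotient.mk _ l := by
    intro l
    have : pΛ l = RingEquiv.ofBijective ι' hι'bij (Ideal.Quotient.mk _ l) := rfl
    rw [this]
    exact RingEquiv.symm_apply_apply _ _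
  let g : C₂ →ₐ[R₁] Λ₁ ⧸ Ideal.span {algebraMap R₁ Λ₁ (ϖ ^ 8)} :=
    { (ι : Λ₂ →+* _).comp (h₂ : C₂ →+* Λ₂) with
      commutes' := by
        intro x
        change ι (h₂ (algebraMap R₁ C₂ x)) = _
        rw [hR₁C, AlgHom.commutes, ← hcΛ, hι]
        rfl }
  have hg : ∀ c, g c = ι (h₂ c) := fun _ => rfl
  have hfac : ∀ a, g (γ a) = Ideal.Quotient.mk _ (φ₁ a) := by
    intro a
    rw [hg, hγ, ← AlgHom.comp_apply, hh₂g₂, hφ, hι]
  obtain ⟨B, instB, algB, fpB, α, β, hβα, hsmooth, hincl⟩ :=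
    desingularize_lifting_apply ϖ hR₁ hΛ₁ φ₁ hstd γ g hfac
  -- common facts
  have hϖB : algebraMap R₁ B ϖ ∈ Smoothing.singularIdeal R₁ B :=
    mem_singularIdeal_of_smooth_away _ hsmooth
  have hϖΛ : algebraMap R₁ Λ₁ ϖ ∈ Smoothing.singRad R₁ β := by
    refine Ideal.le_radical ?_
    rw [← β.commutes]
    exact Ideal.mem_map_of_mem _ hϖB
  have hkerle : RingHom.ker pΛ ≤ Smoothing.singRad R₁ β := by
    rw [hkΛ, Ideal.span_le]
    rintro _ rfl
    rw [SetLike.mem_coe, map_pow]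
    exact Ideal.pow_mem_of_mem _ hϖΛ 8 (by norm_num)
  have hH : Smoothing.singularIdeal R₂ C₂ ≤
      Smoothing.singularIdeal (R₁ ⧸ Ideal.span {ϖ ^ 8}) C₂ := by
    intro c hc
    rw [Smoothing.singularIdeal, PrimeSpectrum.mem_vanishingIdeal] at hc ⊢
    intro q hq
    refine hc q (fun hsm => hq ?_)
    change Algebra.FormallySmooth (R₁ ⧸ Ideal.span {ϖ ^ 8}) (Localization.AtPrime q.asIdeal)
    haveI : Algebra.FormallySmooth R₂ (Localization.AtPrime q.asIdeal) := hsm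
    exact Algebra.FormallySmooth.comp _ R₂ _
  have key : ∀ c ∈ Smoothing.singularIdeal R₂ C₂, ∃ l ∈ Smoothing.singRad R₁ β, pΛ l = h₂ c := by
    intro c hc
    have h1 : g c ∈ ((Smoothing.singularIdeal R₁ B).map β).radical.map
        (Ideal.Quotient.mk (Ideal.span {algebraMap R₁ Λ₁ (ϖ ^ 8)})) :=
      hincl (Ideal.mem_map_of_mem _ (hH hc))
    rw [Ideal.mem_map_iff_of_surjective _ Ideal.Quotient.mk_surjective] at h1
    obtain ⟨l, hl, hlg⟩ := h1
    refine ⟨l, hl, ?_⟩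
    apply ι.injective
    rw [hι, hlg, hg]
  have hmaple : (Smoothing.singularIdeal R₂ C₂).map h₂ ≤ (Smoothing.singRad R₁ β).map pΛ := by
    rw [Ideal.map_le_iff_le_comap]
    intro c hc
    obtain ⟨l, hl, hlc⟩ := key c hc
    rw [Ideal.mem_comap, ← hlc]
    exact Ideal.mem_map_of_mem _ hl
  have hker𝔮 : RingHom.ker pΛ ≤ 𝔮₁ := by
    rw [hkΛ, Ideal.span_le]
    rintro _ rfl
    rw [SetLike.mem_coe, map_pow]
    exact Ideal.pow_mem_of_mem _ hϖ𝔮 8 (by norm_num)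
  refine ⟨B, instB, algB, fpB, α, β, hβα, ?_, ?_⟩
  · -- inclusion of singular radicals
    unfold Smoothing.singRad
    rw [Ideal.radical_le_radical_iff, Ideal.map_le_iff_le_comap]
    intro x hx
    rw [Ideal.mem_comap]
    have hkA' : RingHom.ker pA ≤ (RingHom.ker pR).map (algebraMap R₁ A₁) := by
      rw [hkA, hkR, Ideal.map_span, Set.image_singleton]
    have h1 := map_mem_singularIdeal_of_surjective pR hpR pA hpA hcA hkA' x hx
    have h2 : φ₂ (pA x) ∈ Smoothing.singRad R₂ h₂ :=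
      hsub (Ideal.le_radical (Ideal.mem_map_of_mem _ h1))
    obtain ⟨N, hN⟩ := h2
    have h3 := hmaple hN
    rw [Ideal.mem_map_iff_of_surjective _ hpΛ] at h3
    obtain ⟨l, hl, hlN⟩ := h3
    have h4 : φ₁ x ^ N - l ∈ RingHom.ker pΛ := by
      rw [RingHom.mem_ker, map_sub, map_pow, ← hφ, hlN, sub_self]
    have h5 : φ₁ x ^ N ∈ Smoothing.singRad R₁ β := by
      have : φ₁ x ^ N = (φ₁ x ^ N - l) + l := by ring
      rw [this]
      exact Ideal.add_mem _ (hkerle h4) hl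
    have h6 : φ₁ x ∈ (Smoothing.singRad R₁ β).radical := ⟨N, h5⟩
    unfold Smoothing.singRad at h6
    rw [Ideal.radical_idem] at h6
    exact h6
  · -- not contained in `𝔮₁`
    intro hle
    apply hnot
    haveI : (𝔮₁.map pΛ).IsPrime := Ideal.map_isPrime_of_surjective hpΛ hker𝔮
    unfold Smoothing.singRad
    rw [Ideal.IsPrime.radical_le_iff inferInstance]
    exact le_trans hmaple (Ideal.map_mono hle)

end Groth.Agent.Lib.Helper22.Pop
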