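import Mathlib
import Groth.Prelude.Def_Smoothing
import Groth.Agent.Lib.Helper22.PopS
import Groth.Agent.S6829

set_option linter.style.haveILetI false
set_option linter.unusedSectionVars false

universe u

namespace Groth.Agent.Lib.Helper22.Pop

open MvPolynomial TensorProduct

/-- The kernel of the factor map `S/I → S/(I ⊔ (s))`. -/
theorem ker_factor_sup_span {S : Type*} [CommRing S] (I I' : Ideal S) (s : S)
    (hI' : I' = I ⊔ Ideal.span {s}) (h : I ≤ I') :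
    RingHom.ker (Ideal.Quotient.factor h) = Ideal.span {Ideal.Quotient.mk I s} := by
  ext x
  obtain ⟨y, rfl⟩ := Ideal.Quotient.mk_surjective x
  rw [RingHom.mem_ker, Ideal.Quotient.factor_mk, Ideal.Quotient.eq_zero_iff_mem, hI',
    Ideal.mem_span_singleton']
  constructor
  · intro hy
    obtain ⟨a, ha, b, hb, rfl⟩ := Submodule.mem_sup.mp hy
    obtain ⟨c, rfl⟩ := Ideal.mem_span_singleton'.mp hb
    refine ⟨Ideal.Quotient.mk I c, ?_⟩
    rw [map_add, Ideal.Quotient.eq_zero_iff_mem.mpr ha, zero_add, map_mul]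
  · rintro ⟨c, hc⟩
    obtain ⟨c, rfl⟩ := Ideal.Quotient.mk_surjective c
    rw [← map_mul, Ideal.Quotient.eq] at hc
    have : y = (y - c * s) + c * s := by ring
    rw [this]
    refine Ideal.add_mem _ (Ideal.mem_sup_left ?_)
      (Ideal.mem_sup_right (Ideal.mul_mem_left _ _ (Ideal.subset_span rfl)))
    have h2 := Ideal.neg_mem_iff _ |>.mpr hc
    rwa [neg_sub] at h2

section Quot

variable {R A Λ : Type u} [CommRing R] [CommRing A] [Algebra R A] [CommRing Λ] [Algebra R Λ]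
  (φ : A →ₐ[R] Λ)

/-- The map induced by `φ` on quotients by an ideal of the base. -/
noncomputable def quotPhi (J : Ideal R) :
    (A ⧸ J.map (algebraMap R A)) →ₐ[R ⧸ J] (Λ ⧸ J.map (algebraMap R Λ)) :=
  AlgHom.extendScalarsOfSurjective (R := R) (S := R ⧸ J) Ideal.Quotient.mk_surjective
    (Ideal.quotientMapₐ (J.map (algebraMap R Λ)) φ (by
      rw [Ideal.map_le_iff_le_comap]
      intro x hx
      rw [Ideal.mem_comap, Ideal.mem_comap, AlgHom.commutes]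
      exact Ideal.mem_map_of_mem _ hx))

theorem quotPhi_mk (J : Ideal R) (a : A) :
    quotPhi φ J (Ideal.Quotient.mk _ a) = Ideal.Quotient.mk _ (φ a) := rfl

variable [IsNoetherianRing R] [Algebra.FinitePresentation R A] (𝔮 : Ideal Λ) [𝔮.IsPrime]

/-- Strict standardness passes to the quotient by an ideal of the base. -/
theorem isStrictlyStandard_quot (J : Ideal R) (a : A)
    (ha : Smoothing.IsStrictlyStandard R A a) :
    Smoothing.IsStrictlyStandard (R ⧸ J) (A ⧸ J.map (algebraMap R A)) (Ideal.Quotient.mk _ a) := by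
  have h1 := (Groth.Agent.S6829.result (R' := R ⧸ J) a).2 ha
  have h2 := isStrictlyStandard_of_algEquiv
    (Algebra.TensorProduct.quotIdealMapEquivQuotTensor A J).symm _ h1
  have h3 : (Algebra.TensorProduct.quotIdealMapEquivQuotTensor A J).symm ((1 : R ⧸ J) ⊗ₜ[R] a) =
      Ideal.Quotient.mk _ a := by
    rw [AlgEquiv.symm_apply_eq]
    rfl
  rw [h3] at h2
  exact h2

/-- A general step: from the quotient by `J' = J ⊔ (ϖ₀⁸)` to the quotient by `J`. -/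
theorem step_quot (J J' : Ideal R) (ϖ₀ : R) (hJ' : J' = J ⊔ Ideal.span {ϖ₀ ^ 8})
    (hϖ₀𝔮 : algebraMap R Λ ϖ₀ ∈ 𝔮) (hJ𝔮 : J.map (algebraMap R Λ) ≤ 𝔮)
    (hRJ : ∀ x : R ⧸ J, Ideal.Quotient.mk J ϖ₀ ^ 2 * x = 0 → Ideal.Quotient.mk J ϖ₀ * x = 0)
    (hΛJ : ∀ x : Λ ⧸ J.map (algebraMap R Λ),
      Ideal.Quotient.mk _ (algebraMap R Λ ϖ₀) ^ 2 * x = 0 →
        Ideal.Quotient.mk _ (algebraMap R Λ ϖ₀) * x = 0)
    (hstd : Smoothing.IsStrictlyStandard R A (algebraMap R A ϖ₀))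
    (φJ : (A ⧸ J.map (algebraMap R A)) →ₐ[R ⧸ J] (Λ ⧸ J.map (algebraMap R Λ)))
    (hφJ : ∀ a, φJ (Ideal.Quotient.mk _ a) = Ideal.Quotient.mk _ (φ a))
    (φJ' : (A ⧸ J'.map (algebraMap R A)) →ₐ[R ⧸ J'] (Λ ⧸ J'.map (algebraMap R Λ)))
    (hφJ' : ∀ a, φJ' (Ideal.Quotient.mk _ a) = Ideal.Quotient.mk _ (φ a))
    (hres : Smoothing.Resolvable (R ⧸ J') φJ'
      (𝔮.map (Ideal.Quotient.mk (J'.map (algebraMap R Λ))))) :
    Smoothing.Resolvable (R ⧸ J) φJ (𝔮.map (Ideal.Quotient.mk (J.map (algebraMap R Λ)))) := by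
  classical
  have hle : J ≤ J' := by rw [hJ']; exact le_sup_left
  have hleA : J.map (algebraMap R A) ≤ J'.map (algebraMap R A) := Ideal.map_mono hle
  have hleΛ : J.map (algebraMap R Λ) ≤ J'.map (algebraMap R Λ) := Ideal.map_mono hle
  have hJ'A : J'.map (algebraMap R A) =
      J.map (algebraMap R A) ⊔ Ideal.span {algebraMap R A (ϖ₀ ^ 8)} := by
    rw [hJ', Ideal.map_sup, Ideal.map_span, Set.image_singleton]
  have hJ'Λ : J'.map (algebraMap R Λ) =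
      J.map (algebraMap R Λ) ⊔ Ideal.span {algebraMap R Λ (ϖ₀ ^ 8)} := by
    rw [hJ', Ideal.map_sup, Ideal.map_span, Set.image_singleton]
  haveI : Algebra.FinitePresentation (R ⧸ J) (A ⧸ J.map (algebraMap R A)) :=
    finitePresentation_quot J
  have hker𝔮 : RingHom.ker (Ideal.Quotient.mk (J.map (algebraMap R Λ))) ≤ 𝔮 := by
    rw [Ideal.mk_ker]; exact hJ𝔮
  haveI : (𝔮.map (Ideal.Quotient.mk (J.map (algebraMap R Λ)))).IsPrime :=
    Ideal.map_isPrime_of_surjective Ideal.Quotient.mk_surjective hker𝔮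
  refine resolvable_step (R₁ := R ⧸ J) (A₁ := A ⧸ J.map (algebraMap R A))
    (Λ₁ := Λ ⧸ J.map (algebraMap R Λ)) (R₂ := R ⧸ J') (A₂ := A ⧸ J'.map (algebraMap R A))
    (Λ₂ := Λ ⧸ J'.map (algebraMap R Λ)) φJ _ (Ideal.Quotient.mk J ϖ₀) ?_ hRJ ?_ ?_
    (Ideal.Quotient.factor hle) (Ideal.Quotient.factor_surjective hle) ?_
    (Ideal.Quotient.factor hleA) (Ideal.Quotient.factor_surjective hleA) ?_
    (Ideal.Quotient.factor hleΛ) (Ideal.Quotient.factor_surjective hleΛ) ?_ ?_ ?_ φJ' ?_ ?_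
  · exact Ideal.mem_map_of_mem _ hϖ₀𝔮
  · intro x hx
    rw [Algebra.smul_def] at hx ⊢
    rw [map_pow] at hx
    exact hΛJ x hx
  · exact isStrictlyStandard_quot J _ hstd
  · rw [ker_factor_sup_span J J' (ϖ₀ ^ 8) hJ' hle, map_pow]
  · rw [ker_factor_sup_span _ _ (algebraMap R A (ϖ₀ ^ 8)) hJ'A hleA]
    rfl
  · rw [ker_factor_sup_span _ _ (algebraMap R Λ (ϖ₀ ^ 8)) hJ'Λ hleΛ]
    rfl
  · intro x
    obtain ⟨y, rfl⟩ := Ideal.Quotient.mk_surjective x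
    rfl
  · intro x
    obtain ⟨y, rfl⟩ := Ideal.Quotient.mk_surjective x
    rfl
  · intro a
    obtain ⟨b, rfl⟩ := Ideal.Quotient.mk_surjective a
    rw [Ideal.Quotient.factor_mk, hφJ', hφJ, Ideal.Quotient.factor_mk]
  · have : (𝔮.map (Ideal.Quotient.mk (J.map (algebraMap R Λ)))).map (Ideal.Quotient.factor hleΛ) =
        𝔮.map (Ideal.Quotient.mk (J'.map (algebraMap R Λ))) := by
      rw [Ideal.map_map]
      congr 1
    rw [this]
    exact hres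

/-- The bottom step: from the quotient by `(ϖ₀⁸)` to the ring itself. -/
theorem step_bottom (J' : Ideal R) (ϖ₀ : R) (hJ' : J' = Ideal.span {ϖ₀ ^ 8})
    (hϖ₀𝔮 : algebraMap R Λ ϖ₀ ∈ 𝔮)
    (hR : ∀ x : R, ϖ₀ ^ 2 * x = 0 → ϖ₀ * x = 0) (hΛ : ∀ x : Λ, ϖ₀ ^ 2 • x = 0 → ϖ₀ • x = 0)
    (hstd : Smoothing.IsStrictlyStandard R A (algebraMap R A ϖ₀))
    (φJ' : (A ⧸ J'.map (algebraMap R A)) →ₐ[R ⧸ J'] (Λ ⧸ J'.map (algebraMap R Λ)))
    (hφJ' : ∀ a, φJ' (Ideal.Quotient.mk _ a) = Ideal.Quotient.mk _ (φ a))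
    (hres : Smoothing.Resolvable (R ⧸ J') φJ'
      (𝔮.map (Ideal.Quotient.mk (J'.map (algebraMap R Λ))))) :
    Smoothing.Resolvable R φ 𝔮 := by
  refine resolvable_step (R₂ := R ⧸ J') (A₂ := A ⧸ J'.map (algebraMap R A))
    (Λ₂ := Λ ⧸ J'.map (algebraMap R Λ)) φ 𝔮 ϖ₀ hϖ₀𝔮 hR hΛ hstd
    (Ideal.Quotient.mk J') Ideal.Quotient.mk_surjective ?_
    (Ideal.Quotient.mk _) Ideal.Quotient.mk_surjective ?_
    (Ideal.Quotient.mk _) Ideal.Quotient.mk_surjective ?_ (fun _ => rfl) (fun _ => rfl) φJ' hφJ' hres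
  · rw [Ideal.mk_ker, hJ']
  · rw [Ideal.mk_ker, hJ', Ideal.map_span, Set.image_singleton]
  · rw [Ideal.mk_ker, hJ', Ideal.map_span, Set.image_singleton]

end Quot

theorem ann_transport {Λ : Type*} [CommRing Λ] (I I' : Ideal Λ) (h : I = I') (y : Λ)
    (H : ∀ x : Λ ⧸ I, Ideal.Quotient.mk I y ^ 2 * x = 0 → Ideal.Quotient.mk I y * x = 0) :
    ∀ x : Λ ⧸ I', Ideal.Quotient.mk I' y ^ 2 * x = 0 → Ideal.Quotient.mk I' y * x = 0 := by
  subst h
  exact H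

section Induction

variable {R : Type u} [CommRing R] {r : ℕ} (π : Fin r → R)

/-- The ideal generated by the eighth powers of the first `i` elements. -/
abbrev Kf (i : ℕ) : Ideal R :=
  Ideal.span (Set.range fun j : {j : Fin r // (j : ℕ) < i} => π j ^ 8)

theorem Kf_succ (i : ℕ) (hi : i < r) : Kf π (i + 1) = Kf π i ⊔ Ideal.span {π ⟨i, hi⟩ ^ 8} := by
  apply le_antisymm
  · rw [Ideal.span_le]
    rintro _ ⟨⟨j, hj⟩, rfl⟩
    by_cases hji : (j : ℕ) < i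
    · exact Ideal.mem_sup_left (Ideal.subset_span ⟨⟨j, hji⟩, rfl⟩)
    · have : j = ⟨i, hi⟩ := Fin.ext (by show (j : ℕ) = i; omega)
      subst this
      exact Ideal.mem_sup_right (Ideal.subset_span rfl)
  · refine sup_le ?_ ?_
    · rw [Ideal.span_le]
      rintro _ ⟨⟨j, hj⟩, rfl⟩
      exact Ideal.subset_span ⟨⟨j, by omega⟩, rfl⟩
    · rw [Ideal.span_le]
      rintro _ rfl
      exact Ideal.subset_span ⟨⟨⟨i, hi⟩, by simp⟩, rfl⟩

theorem Kf_zero : Kf π 0 = ⊥ := by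
  rw [Ideal.span_eq_bot]
  rintro _ ⟨⟨j, hj⟩, rfl⟩
  exact absurd hj (by omega)

theorem Kf_top : Kf π r = Ideal.span (Set.range fun i : Fin r => π i ^ 8) := by
  apply le_antisymm
  · rw [Ideal.span_le]
    rintro _ ⟨⟨j, hj⟩, rfl⟩
    exact Ideal.subset_span ⟨j, rfl⟩
  · rw [Ideal.span_le]
    rintro _ ⟨j, rfl⟩
    exact Ideal.subset_span ⟨⟨j, j.2⟩, rfl⟩

theorem Kf_map {Λ : Type u} [CommRing Λ] [Algebra R Λ] (i : ℕ) :
    (Kf π i).map (algebraMap R Λ) =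
      Ideal.span (Set.range fun j : {j : Fin r // (j : ℕ) < i} => algebraMap R Λ (π j) ^ 8) := by
  rw [Ideal.map_span]
  congr 1
  ext y
  constructor
  · rintro ⟨_, ⟨j, rfl⟩, rfl⟩
    exact ⟨j, by rw [map_pow]⟩
  · rintro ⟨j, rfl⟩
    exact ⟨_, ⟨j, rfl⟩, by rw [map_pow]⟩

end Induction

theorem resolvable_of_resolvable_mod_pow_eight {R A Λ : Type u} [CommRing R] [IsNoetherianRing R]
    [CommRing A] [Algebra R A] [Algebra.FinitePresentation R A] [CommRing Λ] [Algebra R Λ]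
    (φ : A →ₐ[R] Λ) (𝔮 : Ideal Λ) [𝔮.IsPrime] {r : ℕ} (hr : 0 < r) (π : Fin r → R)
    (hπ𝔮 : ∀ i, algebraMap R Λ (π i) ∈ 𝔮)
    (hR : ∀ i : Fin r, ∀ x : R ⧸ Ideal.span (Set.range fun j : {j : Fin r // (j : ℕ) < (i : ℕ)} => π j ^ 8),
      Ideal.Quotient.mk _ (π i) ^ 2 * x = 0 → Ideal.Quotient.mk _ (π i) * x = 0)
    (hΛ : ∀ i : Fin r, ∀ x : Λ ⧸ Ideal.span (Set.range fun j : {j : Fin r // (j : ℕ) < (i : ℕ)} =>
        algebraMap R Λ (π j) ^ 8),
      Ideal.Quotient.mk _ (algebraMap R Λ (π i)) ^ 2 * x = 0 → Ideal.Quotient.mk _ (algebraMap R Λ (π i)) * x = 0)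
    (hstd : ∀ i, Smoothing.IsStrictlyStandard R A (algebraMap R A (π i)))
    (K : Ideal R) (hK : K = Ideal.span (Set.range fun i => π i ^ 8))
    (φK : (A ⧸ K.map (algebraMap R A)) →ₐ[R ⧸ K] (Λ ⧸ K.map (algebraMap R Λ)))
    (hφK : ∀ a : A, φK (Ideal.Quotient.mk _ a) = Ideal.Quotient.mk _ (φ a))
    (hres : Smoothing.Resolvable (R ⧸ K) φK (𝔮.map (Ideal.Quotient.mk (K.map (algebraMap R Λ))))) :
    Smoothing.Resolvable R φ 𝔮 := by
  classical
  have hK𝔮 : ∀ i, (Kf π i).map (algebraMap R Λ) ≤ 𝔮 := by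
    intro i
    rw [Ideal.map_le_iff_le_comap, Ideal.span_le]
    rintro _ ⟨j, rfl⟩
    rw [SetLike.mem_coe, Ideal.mem_comap, map_pow]
    exact Ideal.pow_mem_of_mem _ (hπ𝔮 j) 8 (by norm_num)
  -- the downward induction
  have claim : ∀ d : ℕ, d + 1 ≤ r → ∀ (J : Ideal R), J = Kf π (r - d) →
      ∀ (φJ : (A ⧸ J.map (algebraMap R A)) →ₐ[R ⧸ J] (Λ ⧸ J.map (algebraMap R Λ))),
        (∀ a, φJ (Ideal.Quotient.mk _ a) = Ideal.Quotient.mk _ (φ a)) →
        Smoothing.Resolvable (R ⧸ J) φJ (𝔮.map (Ideal.Quotient.mk (J.map (algebraMap R Λ)))) := by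
    intro d
    induction d with
    | zero =>
      intro _ J hJ φJ hφJ
      have hJK : J = K := by rw [hJ, hK, Nat.sub_zero, Kf_top]
      subst hJK
      have : φJ = φK := by
        apply AlgHom.ext
        intro x
        obtain ⟨a, rfl⟩ := Ideal.Quotient.mk_surjective x
        rw [hφJ, hφK]
      rw [this]
      exact hres
    | succ d ih =>
      intro hd J hJ φJ hφJ
      subst hJ
      have hi : r - (d + 1) < r := by omega
      have hsucc : r - (d + 1) + 1 = r - d := by omega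
      have h1 := ih (by omega) (Kf π (r - d)) rfl (quotPhi φ _) (quotPhi_mk φ _)
      have hJ' : Kf π (r - d) = Kf π (r - (d + 1)) ⊔ Ideal.span {π ⟨r - (d + 1), hi⟩ ^ 8} := by
        rw [← hsucc]
        exact Kf_succ π _ hi
      refine step_quot φ 𝔮 (Kf π (r - (d + 1))) (Kf π (r - d)) (π ⟨r - (d + 1), hi⟩) hJ'
        (hπ𝔮 _) (hK𝔮 _) (hR ⟨r - (d + 1), hi⟩) ?_ (hstd _) φJ hφJ (quotPhi φ _) (quotPhi_mk φ _) h1
      exact ann_transport _ _ (Kf_map π _).symm _ (hΛ ⟨r - (d + 1), hi⟩)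
  have h1 := claim (r - 1) (by omega) (Kf π (r - (r - 1))) rfl (quotPhi φ _) (quotPhi_mk φ _)
  have hone : r - (r - 1) = 1 := by omega
  rw [hone] at h1
  have hJ1 : Kf π 1 = Ideal.span {π ⟨0, hr⟩ ^ 8} := by
    have := Kf_succ π 0 hr
    rw [Kf_zero, bot_sup_eq] at this
    exact this
  refine step_bottom φ 𝔮 (Kf π 1) (π ⟨0, hr⟩) hJ1 (hπ𝔮 _) ?_ ?_ (hstd _) (quotPhi φ _)
    (quotPhi_mk φ _) h1
  · intro x hx
    have h2 := hR ⟨0, hr⟩ (Ideal.Quotient.mk _ x) (by rw [← map_pow, ← map_mul, hx, map_zero])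
    rw [← map_mul, Ideal.Quotient.eq_zero_iff_mem] at h2
    have h3 : Kf π 0 = ⊥ := Kf_zero π
    have h4 : π ⟨0, hr⟩ * x ∈ Kf π 0 := h2
    rw [h3] at h4
    exact h4
  · intro x hx
    rw [Algebra.smul_def] at hx ⊢
    have h2 := hΛ ⟨0, hr⟩ (Ideal.Quotient.mk _ x)
      (by rw [← map_pow, ← map_mul, ← map_pow, hx, map_zero])
    rw [← map_mul, Ideal.Quotient.eq_zero_iff_mem] at h2
    have h3 : (Kf π 0).map (algebraMap R Λ) = ⊥ := by rw [Kf_zero, Ideal.map_bot]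
    have h4 : algebraMap R Λ (π ⟨0, hr⟩) * x ∈ (Kf π 0).map (algebraMap R Λ) := by
      rw [Kf_map]
      exact h2
    rw [h3] at h4
    exact h4

end Groth.Agent.Lib.Helper22.Pop
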