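import Mathlib

/-!
# Scaling ("homogenization") of polynomials and pull-back of ideal memberships along
`R[y] → R[1/u][y]`  (used for Stacks 07F0 / 07F5 delocalization lemmas)
-/

set_option autoImplicit false
set_option linter.style.haveILetI false
set_option linter.unusedSectionVars false

namespace Groth.Agent.Lib.Helper22.Pop

open MvPolynomial

universe u v

section Scale

variable {R₁ : Type u} [CommRing R₁] {ι : Type v}

/-- `Hs u d p = u^d · p(y/u)`, computed coefficientwise (exponent truncated). -/
noncomputable def Hs (u : R₁) (d : ℕ) : MvPolynomial ι R₁ →ₗ[R₁] MvPolynomial ι R₁ :=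
  (MvPolynomial.basisMonomials ι R₁).constr R₁
    fun m => monomial m (u ^ (d - m.sum fun _ e => e))

theorem Hs_monomial (u : R₁) (d : ℕ) (m : ι →₀ ℕ) (a : R₁) :
    Hs u d (monomial m a) = monomial m (u ^ (d - m.sum fun _ e => e) * a) := by
  have h1 : (monomial m a : MvPolynomial ι R₁) = a • (MvPolynomial.basisMonomials ι R₁ m) := by
    rw [MvPolynomial.coe_basisMonomials, smul_monomial, smul_eq_mul, mul_one]
  rw [h1, map_smul, Hs, Module.Basis.constr_basis, smul_monomial, smul_eq_mul, mul_comm]

theorem aeval_Hs {T : Type*} [CommRing T] [Algebra R₁ T] (u : R₁) (d : ℕ) (τ : ι → T)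
    (p : MvPolynomial ι R₁) (hd : p.totalDegree ≤ d) :
    aeval (fun i => algebraMap R₁ T u * τ i) (Hs u d p) = algebraMap R₁ T u ^ d * aeval τ p := by
  conv_lhs => rw [p.as_sum]
  conv_rhs => rw [p.as_sum]
  simp only [map_sum, Hs_monomial, aeval_monomial, Finset.mul_sum]
  refine Finset.sum_congr rfl fun m hm => ?_
  have hm' : (m.sum fun _ e => e) ≤ d := (le_totalDegree hm).trans hd
  have h2 : (m.prod fun i e => (algebraMap R₁ T u * τ i) ^ e) =
      algebraMap R₁ T u ^ (m.sum fun _ e => e) * m.prod fun i e => τ i ^ e := by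
    simp only [mul_pow, Finsupp.prod_mul]
    congr 1
    simp only [Finsupp.prod, Finsupp.sum]
    rw [Finset.prod_pow_eq_pow_sum]
  rw [h2, map_mul, map_pow]
  have h3 : algebraMap R₁ T u ^ d =
      algebraMap R₁ T u ^ (d - m.sum fun _ e => e) * algebraMap R₁ T u ^ (m.sum fun _ e => e) := by
    rw [← pow_add, Nat.sub_add_cancel hm']
  rw [h3]
  ring

end Scale

section ScaleDeriv

variable {S : Type u} [CommRing S] {ι : Type v}

theorem pderiv_scale (v : S) (i : ι) (p : MvPolynomial ι S) :
    pderiv i (aeval (fun j => C v * X j : ι → MvPolynomial ι S) p) =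
      C v * aeval (fun j => C v * X j : ι → MvPolynomial ι S) (pderiv i p) := by
  classical
  induction p using MvPolynomial.induction_on with
  | C a => simp
  | add p q hp hq => simp only [map_add, hp, hq, mul_add]
  | mul_X p j hp =>
    have h1 : pderiv i (p * X j) = pderiv i p * X j + p * pderiv i (X j) := by
      rw [Derivation.leibniz]; simp only [smul_eq_mul]; ring
    rw [h1, map_mul, aeval_X, Derivation.leibniz, hp]
    simp only [smul_eq_mul, map_add, map_mul, aeval_X, pderiv_C_mul]
    by_cases hij : j = i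
    · subst hij
      simp only [pderiv_X_self, map_one]
      ring
    · rw [pderiv_X_of_ne hij]
      simp only [map_zero, mul_zero, add_zero]
      ring

end ScaleDeriv

section Pullback

variable {R : Type u} [CommRing R] (M : Submonoid R) (S : Type u) [CommRing S] [Algebra R S]
  [IsLocalization M S] {ι : Type v}

attribute [local instance] MvPolynomial.algebraMvPolynomial in
/-- pull back an ideal membership from `S[ι]` to `R[ι]`, `S = M⁻¹R`. -/
theorem exists_C_mul_mem_of_map_mem (I : Ideal (MvPolynomial ι R)) (z : MvPolynomial ι R)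
    (hz : MvPolynomial.map (algebraMap R S) z ∈ I.map (MvPolynomial.map (algebraMap R S))) :
    ∃ m ∈ M, C m * z ∈ I := by
  have hz' : algebraMap (MvPolynomial ι R) (MvPolynomial ι S) z ∈
      I.map (algebraMap (MvPolynomial ι R) (MvPolynomial ι S)) := hz
  rw [IsLocalization.mem_map_algebraMap_iff (M.map (C (σ := ι)))] at hz'
  obtain ⟨⟨x, m⟩, hx⟩ := hz'
  rw [← map_mul, IsLocalization.eq_iff_exists (M.map (C (σ := ι)))] at hx
  obtain ⟨c, hc⟩ := hx
  obtain ⟨m₁, hm₁, hm₁'⟩ := m.2
  obtain ⟨m₂, hm₂, hm₂'⟩ := c.2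
  refine ⟨m₂ * m₁, M.mul_mem hm₂ hm₁, ?_⟩
  have : C (m₂ * m₁) * z = (c : MvPolynomial ι R) * (z * (m : MvPolynomial ι R)) := by
    rw [← hm₁', ← hm₂', C_mul]; ring
  rw [this, hc]
  exact I.mul_mem_left _ x.2

end Pullback


section Diff

variable {R : Type u} [CommRing R] {ι : Type v} {T : Type*} [CommRing T] [Algebra R T]

theorem aeval_sub_aeval_mem (a b : ι → T) (J : Ideal T) (h : ∀ i, a i - b i ∈ J)
    (p : MvPolynomial ι R) : aeval a p - aeval b p ∈ J := by
  have e : ∀ c : ι → T, (Ideal.Quotient.mkₐ R J) (aeval c p) =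
      aeval (fun i => Ideal.Quotient.mkₐ R J (c i)) p := by
    intro c
    exact MvPolynomial.comp_aeval_apply (R := R) c (Ideal.Quotient.mkₐ R J) p
  have h1 : (Ideal.Quotient.mkₐ R J) (aeval a p) = (Ideal.Quotient.mkₐ R J) (aeval b p) := by
    rw [e, e]
    congr 2
    funext i
    exact (Ideal.Quotient.eq).mpr (h i)
  exact (Ideal.Quotient.eq).mp h1

end Diff

section HM

variable {R₁ : Type u} [CommRing R₁] {ι : Type v} (u : R₁)

/-- the substitution `R₁[y] → R₁[1/u][y]`, `y ↦ y/u`. -/
noncomputable def Θs : MvPolynomial ι R₁ →+* MvPolynomial ι (Localization.Away u) :=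
  (aeval (fun j => C (IsLocalization.Away.invSelf (S := Localization.Away u) u) * X j :
    ι → MvPolynomial ι (Localization.Away u)) :
      MvPolynomial ι (Localization.Away u) →ₐ[Localization.Away u] _).toRingHom.comp
    (MvPolynomial.map (algebraMap R₁ (Localization.Away u)))

theorem C_u_mul_C_inv :
    (C (algebraMap R₁ (Localization.Away u) u) : MvPolynomial ι (Localization.Away u)) *
      C (IsLocalization.Away.invSelf (S := Localization.Away u) u) = 1 := by
  rw [← C_mul, IsLocalization.Away.mul_invSelf, C_1]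

theorem map_Hs (d : ℕ) (p : MvPolynomial ι R₁) (hd : p.totalDegree ≤ d) :
    MvPolynomial.map (algebraMap R₁ (Localization.Away u)) (Hs u d p) =
      C (algebraMap R₁ (Localization.Away u) u) ^ d * Θs u p := by
  have h := aeval_Hs (T := MvPolynomial ι (Localization.Away u)) u d
    (fun j => C (IsLocalization.Away.invSelf (S := Localization.Away u) u) * X j) p hd
  have e1 : ∀ j : ι, algebraMap R₁ (MvPolynomial ι (Localization.Away u)) u *
      (C (IsLocalization.Away.invSelf (S := Localization.Away u) u) * X j) = X j := by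
    intro j
    rw [IsScalarTower.algebraMap_apply R₁ (Localization.Away u), MvPolynomial.algebraMap_eq,
      ← mul_assoc, C_u_mul_C_inv, one_mul]
  simp only [e1] at h
  have e2 : ∀ q : MvPolynomial ι R₁, ∀ g : ι → MvPolynomial ι (Localization.Away u),
      (aeval g q : MvPolynomial ι (Localization.Away u)) =
      aeval g (MvPolynomial.map (algebraMap R₁ (Localization.Away u)) q) := by
    intro q g
    rw [aeval_def, aeval_def, eval₂_map]
    congr 1
  rw [e2, aeval_X_left_apply] at h
  rw [h, e2]
  rw [IsScalarTower.algebraMap_apply R₁ (Localization.Away u), MvPolynomial.algebraMap_eq]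
  rfl

theorem Θs_eq (d : ℕ) (p : MvPolynomial ι R₁) (hd : p.totalDegree ≤ d) :
    Θs u p = C (IsLocalization.Away.invSelf (S := Localization.Away u) u) ^ d *
      MvPolynomial.map (algebraMap R₁ (Localization.Away u)) (Hs u d p) := by
  rw [map_Hs u d p hd, ← mul_assoc, ← mul_pow, mul_comm (C (IsLocalization.Away.invSelf u)),
    C_u_mul_C_inv, one_pow, one_mul]

theorem Θs_C (a : R₁) : Θs u (C a : MvPolynomial ι R₁) = C (algebraMap R₁ _ a) := by
  simp [Θs]

theorem Θs_pderiv (d : ℕ) (i : ι) (p : MvPolynomial ι R₁) (hd : p.totalDegree ≤ d) :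
    Θs u (pderiv i p) = (C (algebraMap R₁ (Localization.Away u) u) *
      C (IsLocalization.Away.invSelf (S := Localization.Away u) u) ^ d) *
      MvPolynomial.map (algebraMap R₁ (Localization.Away u)) (pderiv i (Hs u d p)) := by
  have h1 := Θs_eq u d p hd
  have h2 : pderiv i (Θs u p) =
      C (IsLocalization.Away.invSelf (S := Localization.Away u) u) * Θs u (pderiv i p) := by
    show pderiv i (aeval _ (MvPolynomial.map _ p)) = _ * aeval _ (MvPolynomial.map _ (pderiv i p))
    rw [pderiv_scale, pderiv_map]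
  rw [h1, ← C_pow, pderiv_C_mul, pderiv_map, C_pow] at h2
  calc Θs u (pderiv i p) = (C (algebraMap R₁ (Localization.Away u) u) *
        C (IsLocalization.Away.invSelf (S := Localization.Away u) u)) * Θs u (pderiv i p) := by
        rw [C_u_mul_C_inv, one_mul]
    _ = C (algebraMap R₁ (Localization.Away u) u) *
        (C (IsLocalization.Away.invSelf (S := Localization.Away u) u) * Θs u (pderiv i p)) := by
        ring
    _ = _ := by rw [← h2]; ring

theorem homog_jacobian {σ : Type} [Fintype σ] [DecidableEq σ] (f : σ → MvPolynomial ι R₁)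
    (cols : σ → ι) (d : σ → ℕ) (hd : ∀ r, (f r).totalDegree ≤ d r) (s₀ : R₁)
    (h1 : C s₀ ∈ Ideal.span {Matrix.det (Matrix.of fun r r' : σ => pderiv (cols r') (f r))} ⊔
      Ideal.span (Set.range f)) :
    ∃ e : ℕ, C (u ^ e * s₀) ∈
      Ideal.span {Matrix.det (Matrix.of fun r r' : σ => pderiv (cols r') (Hs u (d r) (f r)))} ⊔
        Ideal.span (Set.range fun r => Hs u (d r) (f r)) := by
  classical
  have h2 := Ideal.mem_map_of_mem (Θs u) h1
  rw [Ideal.map_sup, Ideal.map_span, Ideal.map_span, Set.image_singleton, Θs_C] at h2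
  have hle : Ideal.span {Θs u (Matrix.det (Matrix.of fun r r' : σ => pderiv (cols r') (f r)))} ⊔
      Ideal.span (⇑(Θs u) '' Set.range f) ≤
      (Ideal.span {Matrix.det (Matrix.of fun r r' : σ => pderiv (cols r') (Hs u (d r) (f r)))} ⊔
        Ideal.span (Set.range fun r => Hs u (d r) (f r))).map
        (MvPolynomial.map (algebraMap R₁ (Localization.Away u))) := by
    refine sup_le ?_ ?_
    · rw [Ideal.span_le, Set.singleton_subset_iff]
      have e1 : Θs u (Matrix.det (Matrix.of fun r r' : σ => pderiv (cols r') (f r))) =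
          (∏ r, (C (algebraMap R₁ (Localization.Away u) u) *
            C (IsLocalization.Away.invSelf (S := Localization.Away u) u) ^ d r)) *
          MvPolynomial.map (algebraMap R₁ (Localization.Away u))
            (Matrix.det (Matrix.of fun r r' : σ => pderiv (cols r') (Hs u (d r) (f r)))) := by
        rw [RingHom.map_det, RingHom.map_det, ← Matrix.det_mul_column]
        congr 1
        refine Matrix.ext fun r r' => ?_
        simp only [RingHom.mapMatrix_apply, Matrix.map_apply, Matrix.of_apply]
        exact Θs_pderiv u (d r) (cols r') (f r) (hd r)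
      rw [e1]
      refine Ideal.mul_mem_left _ _ (Ideal.mem_map_of_mem _ ?_)
      exact Ideal.mem_sup_left (Ideal.subset_span rfl)
    · rw [Ideal.span_le]
      rintro _ ⟨_, ⟨r, rfl⟩, rfl⟩
      rw [Θs_eq u (d r) (f r) (hd r)]
      refine Ideal.mul_mem_left _ _ (Ideal.mem_map_of_mem _ ?_)
      exact Ideal.mem_sup_right (Ideal.subset_span ⟨r, rfl⟩)
  have h3 : MvPolynomial.map (algebraMap R₁ (Localization.Away u)) (C s₀ : MvPolynomial ι R₁) ∈
      (Ideal.span {Matrix.det (Matrix.of fun r r' : σ => pderiv (cols r') (Hs u (d r) (f r)))} ⊔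
        Ideal.span (Set.range fun r => Hs u (d r) (f r))).map
        (MvPolynomial.map (algebraMap R₁ (Localization.Away u))) := by
    rw [map_C]
    exact hle h2
  obtain ⟨m, ⟨e, rfl⟩, hm⟩ := exists_C_mul_mem_of_map_mem (Submonoid.powers u)
    (Localization.Away u) _ _ h3
  exact ⟨e, by rwa [C_mul]⟩

theorem Θs_X (j : ι) : Θs u (X j : MvPolynomial ι R₁) =
    C (IsLocalization.Away.invSelf (S := Localization.Away u) u) * X j := by
  simp [Θs]

theorem homog_tail {σ : Type} {κ : Type v} (f : σ → MvPolynomial ι R₁)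
    (d : σ → ℕ) (hd : ∀ r, (f r).totalDegree ≤ d r) (i : κ → ι) (g : MvPolynomial κ R₁) (s₁ : R₁)
    (h2 : C s₁ * rename i g ∈ Ideal.span (Set.range f)) :
    ∃ e : ℕ, C (u ^ e * s₁) * rename Sum.inl g ∈
      Ideal.span (Set.range fun r => (rename Sum.inr (Hs u (d r) (f r)) :
        MvPolynomial (κ ⊕ ι) R₁)) ⊔
        Ideal.span (Set.range fun k : κ => (C u * X (Sum.inl k) - X (Sum.inr (i k)) :
          MvPolynomial (κ ⊕ ι) R₁)) := by
  classical
  set J : Ideal (MvPolynomial (κ ⊕ ι) R₁) :=
    Ideal.span (Set.range fun r => (rename Sum.inr (Hs u (d r) (f r)) :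
        MvPolynomial (κ ⊕ ι) R₁)) ⊔
        Ideal.span (Set.range fun k : κ => (C u * X (Sum.inl k) - X (Sum.inr (i k)) :
          MvPolynomial (κ ⊕ ι) R₁)) with hJ
  set mp := MvPolynomial.map (σ := κ ⊕ ι) (algebraMap R₁ (Localization.Away u)) with hmp
  set vv : Localization.Away u := IsLocalization.Away.invSelf (S := Localization.Away u) u with hvv
  -- the substitution into the big ring
  let Θ' : MvPolynomial ι R₁ →+* MvPolynomial (κ ⊕ ι) (Localization.Away u) :=
    (rename Sum.inr : MvPolynomial ι (Localization.Away u) →ₐ[Localization.Away u] _).toRingHom.comp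
      (Θs u)
  have hΘ'f : ∀ r, Θ' (f r) ∈ J.map mp := by
    intro r
    show rename Sum.inr (Θs u (f r)) ∈ _
    rw [Θs_eq u (d r) (f r) (hd r), map_mul, ← map_rename]
    refine Ideal.mul_mem_left _ _ (Ideal.mem_map_of_mem _ ?_)
    exact Ideal.mem_sup_left (Ideal.subset_span ⟨r, rfl⟩)
  have h3 : Θ' (C s₁ * rename i g) ∈ J.map mp := by
    have := Ideal.mem_map_of_mem Θ' h2
    rw [Ideal.map_span] at this
    refine (Ideal.span_le.mpr ?_) this
    rintro _ ⟨_, ⟨r, rfl⟩, rfl⟩
    exact hΘ'f r
  -- identify the two evaluations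
  have e1 : Θ' (rename i g) = aeval (fun k => (C vv * X (Sum.inr (i k)) :
      MvPolynomial (κ ⊕ ι) (Localization.Away u))) g := by
    have : (Θ'.comp (rename i : MvPolynomial κ R₁ →ₐ[R₁] _).toRingHom) =
        (aeval (fun k => (C vv * X (Sum.inr (i k)) :
          MvPolynomial (κ ⊕ ι) (Localization.Away u))) : MvPolynomial κ R₁ →ₐ[R₁] _).toRingHom := by
      refine MvPolynomial.ringHom_ext (fun a => ?_) (fun k => ?_)
      · show rename Sum.inr (Θs u (rename i (C a))) = aeval _ (C a)
        rw [rename_C, Θs_C, rename_C, aeval_C]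
        exact (IsScalarTower.algebraMap_apply R₁ (Localization.Away u)
          (MvPolynomial (κ ⊕ ι) (Localization.Away u)) a).symm
      · show rename Sum.inr (Θs u (rename i (X k))) = aeval _ (X k)
        rw [rename_X, Θs_X, aeval_X, map_mul, rename_C, rename_X]
    exact congrArg (fun φ => φ g) this
  have e2 : mp (rename Sum.inl g) = aeval (fun k => (X (Sum.inl k) :
      MvPolynomial (κ ⊕ ι) (Localization.Away u))) g := by
    have : (mp.comp (rename Sum.inl : MvPolynomial κ R₁ →ₐ[R₁] _).toRingHom) =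
        (aeval (fun k => (X (Sum.inl k) :
          MvPolynomial (κ ⊕ ι) (Localization.Away u))) : MvPolynomial κ R₁ →ₐ[R₁] _).toRingHom := by
      refine MvPolynomial.ringHom_ext (fun a => ?_) (fun k => ?_)
      · show mp (rename Sum.inl (C a)) = aeval _ (C a)
        rw [rename_C, hmp, map_C, aeval_C]
        exact (IsScalarTower.algebraMap_apply R₁ (Localization.Away u)
          (MvPolynomial (κ ⊕ ι) (Localization.Away u)) a).symm
      · show mp (rename Sum.inl (X k)) = aeval _ (X k)
        rw [rename_X, hmp, map_X, aeval_X]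
    exact congrArg (fun φ => φ g) this
  have h4 : mp (rename Sum.inl g) - Θ' (rename i g) ∈ J.map mp := by
    rw [e1, e2]
    refine aeval_sub_aeval_mem _ _ _ (fun k => ?_) g
    have : (X (Sum.inl k) - C vv * X (Sum.inr (i k)) :
        MvPolynomial (κ ⊕ ι) (Localization.Away u)) =
        C vv * mp (C u * X (Sum.inl k) - X (Sum.inr (i k))) := by
      have hcv : (C vv * C (algebraMap R₁ (Localization.Away u) u) :
          MvPolynomial (κ ⊕ ι) (Localization.Away u)) = 1 := by
        rw [mul_comm]; exact C_u_mul_C_inv u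
      rw [hmp, map_sub, map_mul, map_C, map_X, map_X]
      linear_combination (-(X (Sum.inl k) : MvPolynomial (κ ⊕ ι) (Localization.Away u))) * hcv
    rw [this]
    refine Ideal.mul_mem_left _ _ (Ideal.mem_map_of_mem _ ?_)
    exact Ideal.mem_sup_right (Ideal.subset_span ⟨k, rfl⟩)
  have h5 : mp (C s₁ * rename Sum.inl g) ∈ J.map mp := by
    have : mp (C s₁ * rename Sum.inl g) =
        mp (C s₁) * (mp (rename Sum.inl g) - Θ' (rename i g)) + Θ' (C s₁ * rename i g) := by
      have hc : Θ' (C s₁) = mp (C s₁) := by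
        show rename Sum.inr (Θs u (C s₁)) = _
        rw [Θs_C, rename_C, hmp, map_C]
      rw [map_mul, map_mul, hc]; ring
    rw [this]
    exact Ideal.add_mem _ (Ideal.mul_mem_left _ _ h4) h3
  obtain ⟨m, ⟨e, rfl⟩, hm⟩ := exists_C_mul_mem_of_map_mem (Submonoid.powers u)
    (Localization.Away u) _ _ h5
  exact ⟨e, by rwa [C_mul, mul_assoc]⟩

end HM

end Groth.Agent.Lib.Helper22.Pop
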