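import Groth.Agent.Lib.helper10.SingIdeal

set_option autoImplicit false
set_option linter.style.haveILetI false
set_option linter.unusedSectionVars false

namespace Groth.Agent.Lib.Helper22.Pop

open MvPolynomial Smoothing

universe u

theorem exists_equiv_fin_extend {ι τ : Type} [Fintype ι] [Fintype τ] (dv : τ → ι)
    (hdv : Function.Injective dv) (eτ : τ ≃ Fin (Fintype.card τ))
    (hc : Fintype.card τ ≤ Fintype.card ι) :
    ∃ e : ι ≃ Fin (Fintype.card ι), ∀ t, e (dv t) = Fin.castLE hc (eτ t) := by
  classical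
  let e₀ := Fintype.equivFin ι
  let emb : Fin (Fintype.card τ) ↪ Fin (Fintype.card ι) :=
    ⟨fun k => e₀ (dv (eτ.symm k)), fun a b h => eτ.symm.injective (hdv (e₀.injective h))⟩
  obtain ⟨π, hπ⟩ := Groth.Agent.Lib.helper10.SingIdeal.exists_perm_extend hc emb
  refine ⟨e₀.trans π.symm, fun t => ?_⟩
  have h1 : π (Fin.castLE hc (eτ t)) = e₀ (dv t) := by
    rw [hπ (eτ t)]
    show e₀ (dv (eτ.symm (eτ t))) = _
    rw [Equiv.symm_apply_apply]
  rw [Equiv.trans_apply, ← h1, Equiv.symm_apply_apply]

variable {R B : Type u} [CommRing R] [CommRing B] [Algebra R B]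

theorem isElementaryStandard_of_data {ι σ τ : Type} [Fintype ι] [Fintype σ] [Fintype τ]
    [DecidableEq τ]
    (rel : σ → MvPolynomial ι R) (hom : MvPolynomial ι R →ₐ[R] B)
    (hsurj : Function.Surjective hom)
    (hker : RingHom.ker hom.toRingHom = Ideal.span (Set.range rel))
    (lead : τ → σ) (hlead : Function.Injective lead) (dv : τ → ι) (hdv : Function.Injective dv)
    (b b' : B)
    (hb : b = b' * hom (Matrix.det (Matrix.of fun j k : τ => pderiv (dv k) (rel (lead j)))))
    (hk : ∀ bt : MvPolynomial ι R, hom bt = b → ∀ j : σ,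
      bt * rel j ∈ Ideal.span (Set.range (rel ∘ lead)) ⊔ Ideal.span (Set.range rel) ^ 2) :
    IsElementaryStandard R B b := by
  classical
  have hcn : Fintype.card τ ≤ Fintype.card ι := Fintype.card_le_of_injective dv hdv
  have hcm : Fintype.card τ ≤ Fintype.card σ := Fintype.card_le_of_injective lead hlead
  let eτ := Fintype.equivFin τ
  obtain ⟨eι, heι⟩ := exists_equiv_fin_extend dv hdv eτ hcn
  obtain ⟨eσ, heσ⟩ := exists_equiv_fin_extend lead hlead eτ hcm
  have hrr : ∀ x : MvPolynomial ι R, rename eι.symm (rename eι x) = x := by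
    intro x; rw [rename_rename]; simp
  have hrr' : ∀ x : MvPolynomial (Fin (Fintype.card ι)) R, rename eι (rename eι.symm x) = x := by
    intro x; rw [rename_rename]; simp
  let P : MarkedPresentation R B :=
    { n := Fintype.card ι
      m := Fintype.card σ
      c := Fintype.card τ
      hcn := hcn
      hcm := hcm
      rel := fun j => rename eι (rel (eσ.symm j))
      hom := hom.comp (rename eι.symm)
      surj := by
        intro y
        obtain ⟨x, rfl⟩ := hsurj y
        exact ⟨rename eι x, by simp [hrr]⟩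
      ker_eq := by
        ext x
        have h1 : x ∈ RingHom.ker (hom.comp (rename eι.symm)).toRingHom ↔
            rename eι.symm x ∈ Ideal.span (Set.range rel) := by
          rw [← hker, RingHom.mem_ker, RingHom.mem_ker]
          rfl
        rw [h1]
        constructor
        · intro h
          have := Ideal.mem_map_of_mem (rename eι : MvPolynomial ι R →ₐ[R] _).toRingHom h
          rw [Ideal.map_span] at this
          have e : (rename eι : MvPolynomial ι R →ₐ[R] _).toRingHom (rename eι.symm x) = x :=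
            hrr' x
          rw [e] at this
          refine Ideal.span_mono ?_ this
          rintro _ ⟨_, ⟨j, rfl⟩, rfl⟩
          exact ⟨eσ j, by simp⟩
        · intro h
          have := Ideal.mem_map_of_mem
            (rename eι.symm : MvPolynomial (Fin (Fintype.card ι)) R →ₐ[R] _).toRingHom h
          rw [Ideal.map_span] at this
          refine Ideal.span_mono ?_ this
          rintro _ ⟨_, ⟨j, rfl⟩, rfl⟩
          exact ⟨eσ.symm j, (hrr _).symm⟩ }
  refine ⟨P, ⟨b', ?_⟩, ?_⟩
  · rw [hb]
    congr 1
    show hom _ = hom (rename eι.symm (Smoothing.jacobianMinor (fun j => rename eι (rel (eσ.symm j)))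
        (Fin.castLE hcm) (Fin.castLE hcn)))
    congr 1
    have : Smoothing.jacobianMinor (fun j => rename eι (rel (eσ.symm j)))
        (Fin.castLE hcm) (Fin.castLE hcn) =
        rename eι (Matrix.det (Matrix.of fun j k : τ => pderiv (dv k) (rel (lead j)))) := by
      unfold Smoothing.jacobianMinor
      rw [AlgHom.map_det, ← Matrix.det_submatrix_equiv_self eτ.symm]
      congr 1
      refine Matrix.ext fun j k => ?_
      simp only [Matrix.of_apply, AlgHom.mapMatrix_apply, Matrix.map_apply, Matrix.submatrix_apply]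
      have hk : Fin.castLE hcn k = eι (dv (eτ.symm k)) := by
        rw [heι, Equiv.apply_symm_apply]
      have hj : eσ.symm (Fin.castLE hcm j) = lead (eτ.symm j) := by
        rw [Equiv.symm_apply_eq, heσ, Equiv.apply_symm_apply]
      rw [hk, hj, pderiv_rename eι.injective]
    rw [this, hrr]
  · intro a'' ha'' j hj
    show a'' * rename eι (rel (eσ.symm j)) ∈
      Ideal.span ((fun j => rename eι (rel (eσ.symm j))) '' {j' : Fin (Fintype.card σ) |
        (j' : ℕ) < Fintype.card τ}) ⊔
        Ideal.span (Set.range fun j => rename eι (rel (eσ.symm j))) ^ 2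
    have h1 := hk (rename eι.symm a'') ha'' (eσ.symm j)
    have h2 := Ideal.mem_map_of_mem (rename eι : MvPolynomial ι R →ₐ[R] _).toRingHom h1
    rw [Ideal.map_sup, Ideal.map_pow, Ideal.map_span, Ideal.map_span] at h2
    have e : (rename eι : MvPolynomial ι R →ₐ[R] _).toRingHom
        (rename eι.symm a'' * rel (eσ.symm j)) = a'' * rename eι (rel (eσ.symm j)) := by
      show rename eι (rename eι.symm a'' * rel (eσ.symm j)) = _
      rw [map_mul, hrr']
    rw [e] at h2
    have hle : ∀ {I₁ I₂ J₁ J₂ : Ideal (MvPolynomial (Fin (Fintype.card ι)) R)}, I₁ ≤ I₂ → J₁ ≤ J₂ →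
        I₁ ⊔ J₁ ^ 2 ≤ I₂ ⊔ J₂ ^ 2 := fun h h' => sup_le_sup h (Ideal.pow_right_mono h' 2)
    refine hle (Ideal.span_mono ?_) (Ideal.span_mono ?_) h2
    · rintro _ ⟨_, ⟨k, rfl⟩, rfl⟩
      refine ⟨Fin.castLE hcm (eτ k), by simp, ?_⟩
      show rename eι (rel (eσ.symm (Fin.castLE hcm (eτ k)))) = rename eι (rel (lead k))
      rw [← heσ, Equiv.symm_apply_apply]
    · rintro _ ⟨_, ⟨i, rfl⟩, rfl⟩
      exact ⟨eσ i, by simp⟩

end Groth.Agent.Lib.Helper22.Pop
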