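import Groth.Agent.Lib.Helper22.PopU
import Groth.Agent.Lib.Helper22.PopV

set_option autoImplicit false
set_option linter.style.haveILetI false
set_option linter.unusedSectionVars false

namespace Groth.Agent.Lib.Helper22.Pop

open MvPolynomial Smoothing

universe u

section Gen

variable {R₁ : Type u} [CommRing R₁] {n N c t : ℕ}

/-- relations of the generic algebra -/
noncomputable def genRel (u u₀ : R₁) (F : Fin c → MvPolynomial (Fin N) R₁) (i : Fin n → Fin N)
    (g : Fin t → MvPolynomial (Fin n) R₁) :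
    (Fin c ⊕ Fin n) ⊕ Fin t → MvPolynomial (Fin n ⊕ Fin N) R₁ :=
  Sum.elim (Sum.elim (fun r => C u₀ * rename Sum.inr (F r))
    (fun k => C u₀ * (C u * X (Sum.inl k) - X (Sum.inr (i k))))) (fun j => rename Sum.inl (g j))

/-- distinguished variables -/
def genDv (cols : Fin c → Fin N) : Fin c ⊕ Fin n → Fin n ⊕ Fin N :=
  Sum.elim (fun r => Sum.inr (cols r)) (fun k => Sum.inl k)

theorem genDv_injective (cols : Fin c → Fin N) (hcols : Function.Injective cols) :
    Function.Injective (genDv (n := n) cols) := by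
  rintro (a | a) (b | b) h
  · simp only [genDv, Sum.elim_inl, Sum.inr.injEq] at h
    rw [hcols h]
  · simp [genDv] at h
  · simp [genDv] at h
  · simp only [genDv, Sum.elim_inr, Sum.inl.injEq] at h
    rw [h]

theorem gen_det (u u₀ : R₁) (F : Fin c → MvPolynomial (Fin N) R₁) (i : Fin n → Fin N)
    (g : Fin t → MvPolynomial (Fin n) R₁) (cols : Fin c → Fin N) :
    Matrix.det (Matrix.of fun j k : Fin c ⊕ Fin n =>
      pderiv (genDv cols k) (genRel u u₀ F i g (Sum.inl j))) =
      C u₀ ^ c * rename Sum.inr (Matrix.det (Matrix.of fun r r' : Fin c =>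
        pderiv (cols r') (F r))) * (C u₀ * C u) ^ n := by
  classical
  have hM : (Matrix.of fun j k : Fin c ⊕ Fin n =>
      pderiv (genDv cols k) (genRel u u₀ F i g (Sum.inl j))) =
      Matrix.fromBlocks
        ((C u₀ : MvPolynomial (Fin n ⊕ Fin N) R₁) •
          (rename Sum.inr : MvPolynomial (Fin N) R₁ →ₐ[R₁] _).mapMatrix
            (Matrix.of fun r r' : Fin c => pderiv (cols r') (F r)))
        0
        (Matrix.of fun (k : Fin n) (r' : Fin c) =>
          pderiv (Sum.inr (cols r')) (C u₀ * (C u * X (Sum.inl k) - X (Sum.inr (i k)))))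
        ((C u₀ * C u : MvPolynomial (Fin n ⊕ Fin N) R₁) • (1 : Matrix (Fin n) (Fin n) _)) := by
    refine Matrix.ext fun j k => ?_
    rcases j with r | k₁ <;> rcases k with r' | k₂
    · simp only [Matrix.of_apply, genDv, genRel, Sum.elim_inl, Matrix.fromBlocks_apply₁₁,
        Matrix.smul_apply, AlgHom.mapMatrix_apply, Matrix.map_apply, smul_eq_mul]
      rw [pderiv_C_mul, pderiv_rename Sum.inr_injective]
    · simp only [Matrix.of_apply, genDv, genRel, Sum.elim_inl, Sum.elim_inr,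
        Matrix.fromBlocks_apply₁₂, Matrix.zero_apply]
      rw [pderiv_C_mul]
      have : pderiv (Sum.inl k₂) (rename Sum.inr (F r) : MvPolynomial (Fin n ⊕ Fin N) R₁) = 0 := by
        apply pderiv_eq_zero_of_notMem_vars
        intro h
        have h' := (vars_rename Sum.inr (F r)) h
        simp at h'
      rw [this, mul_zero]
    · simp only [Matrix.of_apply, genDv, genRel, Sum.elim_inl, Sum.elim_inr,
        Matrix.fromBlocks_apply₂₁]
    · simp only [Matrix.of_apply, genDv, genRel, Sum.elim_inl, Sum.elim_inr,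
        Matrix.fromBlocks_apply₂₂, Matrix.smul_apply, smul_eq_mul, Matrix.one_apply]
      have hx : pderiv (Sum.inl k₂) (X (Sum.inr (i k₁)) : MvPolynomial (Fin n ⊕ Fin N) R₁) = 0 :=
        pderiv_X_of_ne (by simp)
      rw [pderiv_C_mul, map_sub, pderiv_C_mul, hx, sub_zero]
      by_cases h : k₁ = k₂
      · subst h
        rw [pderiv_X_self, if_pos rfl, mul_one, mul_one]
      · have hx' : pderiv (Sum.inl k₂) (X (Sum.inl k₁) : MvPolynomial (Fin n ⊕ Fin N) R₁) = 0 :=
          pderiv_X_of_ne (by simpa using h)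
        rw [hx', if_neg h, mul_zero, mul_zero, mul_zero]
  rw [hM, Matrix.det_fromBlocks_zero₁₂, Matrix.det_smul, Matrix.det_smul, Matrix.det_one, mul_one,
    ← AlgHom.map_det, Fintype.card_fin, Fintype.card_fin]

theorem C_mul_mem_lead (u u₀ : R₁) (F : Fin c → MvPolynomial (Fin N) R₁) (i : Fin n → Fin N)
    (g : Fin t → MvPolynomial (Fin n) R₁) (z : MvPolynomial (Fin n ⊕ Fin N) R₁)
    (hz : z ∈ Ideal.span (Set.range fun r => (rename Sum.inr (F r) :
        MvPolynomial (Fin n ⊕ Fin N) R₁)) ⊔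
        Ideal.span (Set.range fun k : Fin n => (C u * X (Sum.inl k) - X (Sum.inr (i k)) :
          MvPolynomial (Fin n ⊕ Fin N) R₁))) :
    C u₀ * z ∈ Ideal.span (Set.range (genRel u u₀ F i g ∘ Sum.inl)) := by
  rw [← Ideal.span_union] at hz
  refine Submodule.span_induction (p := fun z _ => C u₀ * z ∈
    Ideal.span (Set.range (genRel u u₀ F i g ∘ Sum.inl))) ?_ ?_ ?_ ?_ hz
  · rintro x (⟨r, rfl⟩ | ⟨k, rfl⟩)
    · exact Ideal.subset_span ⟨Sum.inl r, rfl⟩
    · exact Ideal.subset_span ⟨Sum.inr k, rfl⟩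
  · simp
  · intro x y _ _ hx hy
    rw [mul_add]
    exact Ideal.add_mem _ hx hy
  · intro a x _ hx
    rw [smul_eq_mul, mul_left_comm]
    exact Ideal.mul_mem_left _ _ hx

theorem generic_elementary_standard (u u₀ s₀ s₁ : R₁) (f : Fin c → MvPolynomial (Fin N) R₁)
    (cols : Fin c → Fin N) (hcols : Function.Injective cols) (d : Fin c → ℕ)
    (hd : ∀ r, (f r).totalDegree ≤ d r) (i : Fin n → Fin N)
    (g : Fin t → MvPolynomial (Fin n) R₁)
    (h1 : C s₀ ∈ Ideal.span {Matrix.det (Matrix.of fun r r' : Fin c => pderiv (cols r') (f r))} ⊔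
      Ideal.span (Set.range f))
    (h2 : ∀ j, C s₁ * rename i (g j) ∈ Ideal.span (Set.range f)) :
    ∃ a b : ℕ, IsElementaryStandard R₁
      (MvPolynomial (Fin n ⊕ Fin N) R₁ ⧸
        Ideal.span (Set.range (genRel u u₀ (fun r => Hs u (d r) (f r)) i g)))
      (algebraMap R₁ _ (u₀ ^ a * u ^ b * s₀ * s₁)) := by
  classical
  set F : Fin c → MvPolynomial (Fin N) R₁ := fun r => Hs u (d r) (f r) with hF
  set rel := genRel u u₀ F i g with hrel
  set I : Ideal (MvPolynomial (Fin n ⊕ Fin N) R₁) := Ideal.span (Set.range rel) with hI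
  obtain ⟨e, he⟩ := homog_jacobian u f cols d hd s₀ h1
  have h2' : ∀ j, ∃ e : ℕ, C (u ^ e * s₁) * rename Sum.inl (g j) ∈
      Ideal.span (Set.range fun r => (rename Sum.inr (F r) :
        MvPolynomial (Fin n ⊕ Fin N) R₁)) ⊔
        Ideal.span (Set.range fun k : Fin n => (C u * X (Sum.inl k) - X (Sum.inr (i k)) :
          MvPolynomial (Fin n ⊕ Fin N) R₁)) := fun j => homog_tail u f d hd i (g j) s₁ (h2 j)
  choose ej hej using h2'
  set E : ℕ := ∑ j, ej j with hE
  have hlead_le : Ideal.span (Set.range (rel ∘ Sum.inl)) ≤ I := by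
    refine Ideal.span_mono ?_
    rintro _ ⟨j, rfl⟩
    exact ⟨Sum.inl j, rfl⟩
  -- tail relations are killed
  have htail : ∀ j, C (u₀ * u ^ E * s₁) * (rename Sum.inl (g j) :
      MvPolynomial (Fin n ⊕ Fin N) R₁) ∈ Ideal.span (Set.range (rel ∘ Sum.inl)) := by
    intro j
    have hle : ej j ≤ E := Finset.single_le_sum (f := ej) (fun _ _ => Nat.zero_le _)
      (Finset.mem_univ j)
    have := C_mul_mem_lead u u₀ F i g _ (hej j)
    have h3 := Ideal.mul_mem_left _ (C (u ^ (E - ej j))) this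
    have e1 : C (u ^ (E - ej j)) * (C u₀ * (C (u ^ ej j * s₁) * (rename Sum.inl (g j) :
        MvPolynomial (Fin n ⊕ Fin N) R₁))) =
        C (u₀ * u ^ E * s₁) * rename Sum.inl (g j) := by
      have : u₀ * u ^ E * s₁ = u ^ (E - ej j) * (u₀ * (u ^ ej j * s₁)) := by
        rw [← Nat.sub_add_cancel hle, pow_add, Nat.sub_add_cancel hle]; ring
      rw [this]
      simp only [C_mul]
      ring
    rw [e1] at h3
    exact h3
  -- the Jacobian identity
  set DF := Matrix.det (Matrix.of fun r r' : Fin c => pderiv (cols r') (F r)) with hDF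
  set Δ := Matrix.det (Matrix.of fun j k : Fin c ⊕ Fin n =>
      pderiv (genDv cols k) (rel (Sum.inl j))) with hΔ
  have hΔ' : Δ = C u₀ ^ c * rename Sum.inr DF * (C u₀ * C u) ^ n := gen_det u u₀ F i g cols
  obtain ⟨y, hy, z, hz, hyz⟩ := Submodule.mem_sup.mp he
  obtain ⟨q₀, rfl⟩ := Ideal.mem_span_singleton'.mp hy
  have hz' : C u₀ * rename Sum.inr z ∈ Ideal.span (Set.range (rel ∘ Sum.inl)) := by
    refine C_mul_mem_lead u u₀ F i g _ (Ideal.mem_sup_left ?_)
    have := Ideal.mem_map_of_mem (rename Sum.inr : MvPolynomial (Fin N) R₁ →ₐ[R₁]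
      MvPolynomial (Fin n ⊕ Fin N) R₁).toRingHom hz
    rw [Ideal.map_span] at this
    refine Ideal.span_mono ?_ this
    rintro _ ⟨_, ⟨r, rfl⟩, rfl⟩
    exact ⟨r, rfl⟩
  -- the element
  set bt : MvPolynomial (Fin n ⊕ Fin N) R₁ :=
    C (u₀ ^ (c + n + 2) * u ^ (n + e + E) * s₀ * s₁) with hbt
  have hbt1 : bt = C (u₀ ^ 2 * u ^ E * s₁) * rename Sum.inr q₀ * Δ +
      C (u₀ ^ (c + n + 1) * u ^ (n + E) * s₁) * (C u₀ * rename Sum.inr z) := by
    have h4 : (C (u ^ e * s₀) : MvPolynomial (Fin n ⊕ Fin N) R₁) =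
        rename Sum.inr q₀ * rename Sum.inr DF + rename Sum.inr z := by
      rw [← map_mul, ← map_add, hyz, rename_C]
    have h5 : bt = C (u₀ ^ (c + n + 2) * u ^ (n + E) * s₁) * C (u ^ e * s₀) := by
      rw [hbt, ← C_mul]; congr 1; ring
    rw [h5, h4, hΔ']
    simp only [C_mul, C_pow]
    ring
  have hbt2 : bt = C (u₀ ^ (c + n + 1) * u ^ (n + e) * s₀) * C (u₀ * u ^ E * s₁) := by
    rw [hbt, ← C_mul]; congr 1; ring
  refine ⟨c + n + 2, n + e + E, ?_⟩
  refine isElementaryStandard_of_data (B := MvPolynomial (Fin n ⊕ Fin N) R₁ ⧸ I) rel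
    (Ideal.Quotient.mkₐ R₁ I) (Ideal.Quotient.mkₐ_surjective R₁ I) ?_ Sum.inl Sum.inl_injective
    (genDv cols) (genDv_injective cols hcols)
    _ (Ideal.Quotient.mk I (C (u₀ ^ 2 * u ^ E * s₁) * rename Sum.inr q₀)) ?_ ?_
  · ext x
    simp only [AlgHom.toRingHom_eq_coe, Ideal.Quotient.mkₐ_ker]
    exact Iff.rfl
  · have : algebraMap R₁ (MvPolynomial (Fin n ⊕ Fin N) R₁ ⧸ I)
        (u₀ ^ (c + n + 2) * u ^ (n + e + E) * s₀ * s₁) = Ideal.Quotient.mk I bt := rfl
    rw [this, hbt1]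
    show _ = _ * Ideal.Quotient.mk I Δ
    rw [← map_mul, map_add, add_eq_left, Ideal.Quotient.eq_zero_iff_mem]
    exact Ideal.mul_mem_left _ _ (hlead_le hz')
  · intro bt' hbt' j
    have hdiff : bt' - bt ∈ I := by
      rw [← Ideal.Quotient.eq]
      exact hbt'
    have hrelj : rel j ∈ I := Ideal.subset_span ⟨j, rfl⟩
    have h6 : bt' * rel j = (bt' - bt) * rel j + bt * rel j := by ring
    rw [h6]
    refine Ideal.add_mem _ (Ideal.mem_sup_right ?_) (Ideal.mem_sup_left ?_)
    · rw [pow_two]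
      exact Ideal.mul_mem_mul hdiff hrelj
    · rcases j with j | j
      · exact Ideal.mul_mem_left _ _ (Ideal.subset_span ⟨j, rfl⟩)
      · rw [hbt2, mul_assoc]
        exact Ideal.mul_mem_left _ _ (htail j)

end Gen

end Groth.Agent.Lib.Helper22.Pop
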