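import Groth.Agent.Lib.Helper22.PopU
import Groth.Agent.S2025
import Groth.Agent.S6860

/-!
# Front end for the delocalization lemmas: from a smooth algebra over a localization to
polynomial data over the base ring.
-/

set_option autoImplicit false
set_option linter.style.haveILetI false
set_option linter.unusedSectionVars false

namespace Groth.Agent.Lib.Helper22.Pop

open MvPolynomial

universe u v

section Denoms

variable {R : Type u} [CommRing R] (M : Submonoid R) (R' : Type u) [CommRing R'] [Algebra R R']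
  [IsLocalization M R'] {ι : Type v}

attribute [local instance] MvPolynomial.algebraMvPolynomial in
theorem exists_map_eq_C_mul (p : MvPolynomial ι R') :
    ∃ m ∈ M, ∃ q : MvPolynomial ι R,
      MvPolynomial.map (algebraMap R R') q = C (algebraMap R R' m) * p := by
  obtain ⟨⟨q, m⟩, hq⟩ := IsLocalization.surj (M.map (C (σ := ι))) p
  obtain ⟨m₁, hm₁, hm₁'⟩ := m.2
  refine ⟨m₁, hm₁, q, ?_⟩
  have h1 : algebraMap (MvPolynomial ι R) (MvPolynomial ι R') q =
      MvPolynomial.map (algebraMap R R') q := rfl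
  have h2 : algebraMap (MvPolynomial ι R) (MvPolynomial ι R') (m : MvPolynomial ι R) =
      C (algebraMap R R' m₁) := by
    rw [← hm₁']
    show MvPolynomial.map (algebraMap R R') (C m₁) = _
    rw [map_C]
  rw [← h1, ← hq, h2, mul_comm]

theorem aeval_eq_aeval_map {T : Type*} [CommRing T] [Algebra R' T] [Algebra R T]
    [IsScalarTower R R' T] (τ : ι → T) (q : MvPolynomial ι R) :
    aeval τ q = aeval τ (MvPolynomial.map (algebraMap R R') q) := by
  rw [aeval_def, aeval_def, eval₂_map, IsScalarTower.algebraMap_eq R R' T]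

end Denoms

section Clear

variable {R : Type u} [CommRing R] (M : Submonoid R) {R' : Type u} [CommRing R'] [Algebra R R']
  [IsLocalization M R'] {B'' : Type u} [CommRing B''] [Algebra R' B''] {N c : ℕ}
  (P : Algebra.SubmersivePresentation R' B'' (Fin N) (Fin c))

theorem clear_denoms :
    ∃ (f : Fin c → MvPolynomial (Fin N) R) (m : Fin c → R) (s₀ : R),
      (∀ r, m r ∈ M) ∧ s₀ ∈ M ∧
      (∀ r, MvPolynomial.map (algebraMap R R') (f r) = C (algebraMap R R' (m r)) * P.relation r) ∧
      C s₀ ∈ Ideal.span {Matrix.det (Matrix.of fun r r' : Fin c => pderiv (P.map r') (f r))} ⊔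
        Ideal.span (Set.range f) ∧
      ∀ z : MvPolynomial (Fin N) R, aeval P.val (MvPolynomial.map (algebraMap R R') z) = 0 →
        ∃ m' ∈ M, C m' * z ∈ Ideal.span (Set.range f) := by
  classical
  have h0 := fun r => exists_map_eq_C_mul M R' (P.relation r)
  choose m hm f hf using h0
  -- inverses
  have hinv : ∀ r, ∃ w : R', w * algebraMap R R' (m r) = 1 := fun r =>
    ⟨IsLocalization.mk' R' (1 : R) ⟨m r, hm r⟩, by
      rw [IsLocalization.mk'_spec, map_one]⟩
  choose w hw using hinv
  have hrel : ∀ r, P.relation r = C (w r) * MvPolynomial.map (algebraMap R R') (f r) := by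
    intro r
    rw [hf r, ← mul_assoc, ← C_mul, hw r, C_1, one_mul]
  have hrel_mem : ∀ r, P.relation r ∈ (Ideal.span (Set.range f)).map
      (MvPolynomial.map (algebraMap R R')) := by
    intro r
    rw [hrel r]
    exact Ideal.mul_mem_left _ _ (Ideal.mem_map_of_mem _ (Ideal.subset_span ⟨r, rfl⟩))
  have hker_le : P.ker ≤ (Ideal.span (Set.range f)).map (MvPolynomial.map (algebraMap R R')) := by
    rw [← P.span_range_relation_eq_ker, Ideal.span_le]
    rintro _ ⟨r, rfl⟩
    exact hrel_mem r
  -- (iii)
  have h3 : ∀ z : MvPolynomial (Fin N) R,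
      aeval P.val (MvPolynomial.map (algebraMap R R') z) = 0 →
        ∃ m' ∈ M, C m' * z ∈ Ideal.span (Set.range f) := by
    intro z hz
    refine exists_C_mul_mem_of_map_mem M R' _ z (hker_le ?_)
    rw [P.ker_eq_ker_aeval_val]
    exact hz
  -- (ii)
  set D := Matrix.det (Matrix.of fun r r' : Fin c => pderiv (P.map r') (f r)) with hD
  have hDmap : MvPolynomial.map (algebraMap R R') D =
      (∏ r, C (algebraMap R R' (m r))) * P.jacobiMatrix.det := by
    rw [hD, RingHom.map_det, ← Matrix.det_transpose P.jacobiMatrix, ← Matrix.det_mul_column]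
    congr 1
    refine Matrix.ext fun r r' => ?_
    simp only [RingHom.mapMatrix_apply, Matrix.map_apply, Matrix.of_apply, Matrix.transpose_apply,
      Algebra.PreSubmersivePresentation.jacobiMatrix_apply]
    rw [← pderiv_map, hf r, pderiv_C_mul]
  have hjac_mem : P.jacobiMatrix.det ∈ (Ideal.span {D} ⊔ Ideal.span (Set.range f)).map
      (MvPolynomial.map (algebraMap R R')) := by
    have : P.jacobiMatrix.det = (∏ r, C (w r)) * MvPolynomial.map (algebraMap R R') D := by
      rw [hDmap, ← mul_assoc, ← Finset.prod_mul_distrib]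
      simp only [← C_mul, hw, C_1, Finset.prod_const_one, one_mul]
    rw [this]
    exact Ideal.mul_mem_left _ _ (Ideal.mem_map_of_mem _
      (Ideal.mem_sup_left (Ideal.subset_span rfl)))
  have hone : MvPolynomial.map (algebraMap R R') (1 : MvPolynomial (Fin N) R) ∈
      (Ideal.span {D} ⊔ Ideal.span (Set.range f)).map (MvPolynomial.map (algebraMap R R')) := by
    rw [map_one]
    obtain ⟨v, hv⟩ := P.jacobian_isUnit.exists_left_inv
    obtain ⟨vt, rfl⟩ := P.algebraMap_surjective v
    have h4 : vt * P.jacobiMatrix.det - 1 ∈ P.ker := by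
      rw [P.ker_eq_ker_aeval_val, RingHom.mem_ker, map_sub, map_mul, map_one, sub_eq_zero]
      rw [Algebra.PreSubmersivePresentation.jacobian_eq_jacobiMatrix_det,
        Algebra.Generators.algebraMap_apply, Algebra.Generators.algebraMap_apply] at hv
      exact hv
    have h5 : (1 : MvPolynomial (Fin N) R') = vt * P.jacobiMatrix.det -
        (vt * P.jacobiMatrix.det - 1) := by ring
    rw [h5]
    refine Ideal.sub_mem _ (Ideal.mul_mem_left _ _ hjac_mem) ?_
    exact (Ideal.map_mono le_sup_right) (hker_le h4)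
  obtain ⟨s₀, hs₀, hs₀'⟩ := exists_C_mul_mem_of_map_mem M R' _ _ hone
  rw [mul_one] at hs₀'
  exact ⟨f, m, s₀, hm, hs₀, hf, hs₀', h3⟩

end Clear

section FrontEnd

variable {R A R' B' Λ' : Type u} [CommRing R] [CommRing A] [Algebra R A]
  [Algebra.FinitePresentation R A] (M : Submonoid R) [CommRing R'] [Algebra R R']
  [IsLocalization M R'] [CommRing B'] [Algebra R' B'] [Algebra R B'] [IsScalarTower R R' B']
  [Algebra.Smooth R' B'] [CommRing Λ'] [Algebra R' Λ'] [Algebra R Λ'] [IsScalarTower R R' Λ']

/-- Step: a standard smooth `R'`-algebra with Fin-indexed submersive presentation containing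
the images of the generators. -/
theorem exists_presentation (ψ : A →ₐ[R] B') {n : ℕ} (πA : MvPolynomial (Fin n) R →ₐ[R] A) :
    ∃ (B'' : Type u) (_ : CommRing B'') (_ : Algebra R' B'') (_ : Algebra B' B'')
      (_ : IsScalarTower R' B' B'') (_ : B'' →ₐ[B'] B') (N c : ℕ)
      (P : Algebra.SubmersivePresentation R' B'' (Fin N) (Fin c)) (r : Fin n → Fin c),
      ∀ k, P.val (P.map (r k)) = algebraMap B' B'' (ψ (πA (X k))) := by
  classical
  obtain ⟨B'', _, _, _, _, -, ⟨ρ⟩, hstd⟩ := Groth.Agent.S2025.result (R := R') (A := B')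
  let E : Finset B'' := Finset.univ.image (fun k : Fin n => algebraMap B' B'' (ψ (πA (X k))))
  obtain ⟨ι, σ, _, _, P, hP⟩ := Groth.Agent.S6860.result (R := R') (A := B'') E
  haveI := Fintype.ofFinite ι
  haveI := Fintype.ofFinite σ
  let eι : Fin (Fintype.card ι) ≃ ι := (Fintype.equivFin ι).symm
  let eσ : Fin (Fintype.card σ) ≃ σ := (Fintype.equivFin σ).symm
  have hE : ∀ k : Fin n, ∃ r : Fin (Fintype.card σ),
      (P.reindex eι eσ).val ((P.reindex eι eσ).map r) = algebraMap B' B'' (ψ (πA (X k))) := by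
    intro k
    have hk : algebraMap B' B'' (ψ (πA (X k))) ∈ (↑E : Set B'') := by
      simp only [E, Finset.coe_image, Finset.coe_univ, Set.image_univ, Set.mem_range]
      exact ⟨k, rfl⟩
    obtain ⟨r, hr⟩ := hP hk
    refine ⟨eσ.symm r, ?_⟩
    rw [← hr]
    simp [Algebra.PreSubmersivePresentation.reindex_map, Algebra.Generators.reindex_val]
  choose r hr using hE
  exact ⟨B'', inferInstance, inferInstance, inferInstance, inferInstance, ρ, _, _,
    P.reindex eι eσ, r, hr⟩


theorem front_end (ψ : A →ₐ[R] B') (h' : B' →ₐ[R'] Λ') :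
    ∃ (n N c t : ℕ) (πA : MvPolynomial (Fin n) R →ₐ[R] A) (g : Fin t → MvPolynomial (Fin n) R)
      (f : Fin c → MvPolynomial (Fin N) R) (cols : Fin c → Fin N) (i : Fin n → Fin N)
      (s₀ s₁ : R) (τ : Fin N → Λ'),
      Function.Surjective πA ∧ RingHom.ker πA.toRingHom = Ideal.span (Set.range g) ∧
      Function.Injective cols ∧ s₀ ∈ M ∧ s₁ ∈ M ∧
      C s₀ ∈ Ideal.span {Matrix.det (Matrix.of fun r r' : Fin c => pderiv (cols r') (f r))} ⊔
        Ideal.span (Set.range f) ∧
      (∀ j, C s₁ * rename i (g j) ∈ Ideal.span (Set.range f)) ∧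
      (∀ r, aeval τ (f r) = 0) ∧
      (∀ k, τ (i k) = h' (ψ (πA (X k)))) := by
  classical
  obtain ⟨n, πA, hπA, hfg⟩ := Algebra.FinitePresentation.out (R := R) (A := A)
  obtain ⟨S, hS⟩ := hfg
  let g : Fin S.card → MvPolynomial (Fin n) R := fun j => (S.equivFin.symm j : MvPolynomial (Fin n) R)
  have hrange : Set.range g = (S : Set (MvPolynomial (Fin n) R)) := by
    ext x
    constructor
    · rintro ⟨j, rfl⟩
      exact (S.equivFin.symm j).2
    · intro hx
      exact ⟨S.equivFin ⟨x, hx⟩, by simp [g]⟩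
  have hker : RingHom.ker πA.toRingHom = Ideal.span (Set.range g) := by
    rw [hrange, hS]
  obtain ⟨B'', _, _, _, _, ρ, N, c, P, r, hr⟩ := exists_presentation (R' := R') ψ πA
  obtain ⟨f, m, s₀, hm, hs₀, hf, h1, h3⟩ := clear_denoms M P
  -- the tail relations
  have hg0 : ∀ j, aeval P.val (MvPolynomial.map (algebraMap R R')
      (rename (fun k => P.map (r k)) (g j))) = 0 := by
    intro j
    rw [map_rename, aeval_rename]
    have e1 : (fun k => P.val (P.map (r k))) = fun k => algebraMap B' B'' (ψ (πA (X k))) :=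
      funext hr
    rw [Function.comp_def, e1]
    have e2 : aeval (fun k => algebraMap B' B'' (ψ (πA (X k))))
        (MvPolynomial.map (algebraMap R R') (g j)) =
        algebraMap B' B'' (aeval (fun k => ψ (πA (X k)))
          (MvPolynomial.map (algebraMap R R') (g j))) :=
      (MvPolynomial.comp_aeval_apply (R := R') (fun k => ψ (πA (X k)))
        (IsScalarTower.toAlgHom R' B' B'') _).symm
    rw [e2, ← aeval_eq_aeval_map R' (fun k => ψ (πA (X k))) (g j)]
    have e3 : aeval (fun k => ψ (πA (X k))) (g j) = (ψ.comp πA) (g j) := by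
      have := MvPolynomial.comp_aeval_apply (R := R) (X : Fin n → MvPolynomial (Fin n) R)
        (ψ.comp πA) (g j)
      rw [aeval_X_left_apply] at this
      exact this.symm
    have e4 : πA (g j) = 0 := by
      have : g j ∈ RingHom.ker πA.toRingHom := by
        rw [hker]; exact Ideal.subset_span ⟨j, rfl⟩
      exact this
    rw [e3, AlgHom.comp_apply, e4, map_zero, map_zero]
  have hg1 := fun j => h3 _ (hg0 j)
  choose mj hmj hmj' using hg1
  refine ⟨n, N, c, S.card, πA, g, f, P.map, fun k => P.map (r k), s₀, ∏ j, mj j,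
    fun v => h' (ρ (P.val v)), hπA, hker, P.map_inj, hs₀, prod_mem (fun j _ => hmj j), h1,
    ?_, ?_, ?_⟩
  · intro j
    have : ∏ j, mj j = (∏ j' ∈ Finset.univ.erase j, mj j') * mj j := by
      rw [Finset.prod_erase_mul _ _ (Finset.mem_univ j)]
    rw [this, C_mul, mul_assoc]
    exact Ideal.mul_mem_left _ _ (hmj' j)
  · intro r'
    rw [aeval_eq_aeval_map R' _ (f r'), hf r']
    have e5 : aeval (fun v => h' (ρ (P.val v))) (C (algebraMap R R' (m r')) * P.relation r') =
        (h'.comp (ρ.restrictScalars R')) (aeval P.val (C (algebraMap R R' (m r')) * P.relation r')) :=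
      (MvPolynomial.comp_aeval_apply (R := R') P.val (h'.comp (ρ.restrictScalars R')) _).symm
    rw [e5, map_mul, P.aeval_val_relation, mul_zero, map_zero]
  · intro k
    show h' (ρ (P.val (P.map (r k)))) = _
    rw [hr k, AlgHom.commutes]
    rfl

end FrontEnd

end Groth.Agent.Lib.Helper22.Pop
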