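import Groth.Agent.Lib.Helper22.PopW
import Groth.Agent.Lib.Helper22.PopX

set_option autoImplicit false
set_option linter.style.haveILetI false
set_option linter.unusedSectionVars false

namespace Groth.Agent.Lib.Helper22.Pop

open MvPolynomial Smoothing

universe u v

theorem totalDegree_map_le' {R₁ R₂ : Type u} [CommRing R₁] [CommRing R₂] {κ : Type v}
    (φ : R₁ →+* R₂) (q : MvPolynomial κ R₁) :
    (MvPolynomial.map φ q).totalDegree ≤ q.totalDegree := by
  unfold totalDegree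
  exact Finset.sup_mono (support_map_subset φ q)

section Denominators

variable {Λ Λ' : Type u} [CommRing Λ] [CommRing Λ'] (ι : Λ →+* Λ') (T : Submonoid Λ)

theorem common_denoms (hsurj : ∀ y : Λ', ∃ μ ∈ T, ∃ x : Λ, ι μ * y = ι x) {κ : Type} [Fintype κ]
    (τ : κ → Λ') : ∃ μ ∈ T, ∃ l : κ → Λ, ∀ v, ι μ * τ v = ι (l v) := by
  classical
  choose m hm x hx using fun v => hsurj (τ v)
  refine ⟨∏ v, m v, prod_mem (fun v _ => hm v), fun v => (∏ v' ∈ Finset.univ.erase v, m v') * x v,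
    fun v => ?_⟩
  rw [← Finset.prod_erase_mul _ _ (Finset.mem_univ v), map_mul, map_mul, mul_assoc, hx v]

theorem common_kill (hinj : ∀ x : Λ, ι x = 0 → ∃ μ ∈ T, μ * x = 0) {κ : Type} [Fintype κ]
    (x : κ → Λ) (hx : ∀ v, ι (x v) = 0) : ∃ μ ∈ T, ∀ v, μ * x v = 0 := by
  classical
  choose m hm hmx using fun v => hinj (x v) (hx v)
  refine ⟨∏ v, m v, prod_mem (fun v _ => hm v), fun v => ?_⟩
  rw [← Finset.prod_erase_mul _ _ (Finset.mem_univ v), mul_assoc, hmx v, mul_zero]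

end Denominators

section HsHom

variable {R₁ R₂ : Type u} [CommRing R₁] [CommRing R₂] {κ : Type v}

theorem map_Hs_hom (φ : R₁ →+* R₂) (w : R₁) (d : ℕ) (p : MvPolynomial κ R₁) :
    MvPolynomial.map φ (Hs w d p) = Hs (φ w) d (MvPolynomial.map φ p) := by
  induction p using MvPolynomial.induction_on' with
  | monomial m a =>
    rw [Hs_monomial, map_monomial, map_monomial, Hs_monomial, map_mul, map_pow]
  | add p q hp hq => rw [map_add, map_add, hp, hq, map_add, map_add]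

/-- evaluation of `Hs` over an algebra, expressed over the algebra itself -/
theorem aeval_Hs_eq_eval {Λ : Type u} [CommRing Λ] [Algebra R₁ Λ] (w : R₁) (d : ℕ)
    (p : MvPolynomial κ R₁) (l : κ → Λ) :
    aeval l (Hs w d p) =
      eval l (Hs (algebraMap R₁ Λ w) d (MvPolynomial.map (algebraMap R₁ Λ) p)) := by
  rw [aeval_def, eval₂_eq_eval_map, map_Hs_hom]

theorem map_eval_Hs_eq_zero {Λ Λ' : Type u} [CommRing Λ] [CommRing Λ'] (ι : Λ →+* Λ') (μ : Λ)
    (l : κ → Λ) (τ : κ → Λ') (hl : ∀ v, ι (l v) = ι μ * τ v) (d : ℕ) (q : MvPolynomial κ Λ)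
    (hd : q.totalDegree ≤ d) (hq : eval τ (MvPolynomial.map ι q) = 0) :
    ι (eval l (Hs μ d q)) = 0 := by
  have e1 : ι (eval l (Hs μ d q)) = eval (ι ∘ l) (MvPolynomial.map ι (Hs μ d q)) := by
    rw [eval_map]
    exact eval₂_comp ι l _
  have e2 : eval (ι ∘ l) (MvPolynomial.map ι (Hs μ d q)) =
      eval (ι ∘ l) (Hs (ι μ) d (MvPolynomial.map ι q)) :=
    congrArg (eval (ι ∘ l)) (map_Hs_hom ι μ d q)
  have h1 : (MvPolynomial.map ι q).totalDegree ≤ d := by
    refine le_trans ?_ hd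
    unfold totalDegree
    exact Finset.sup_mono (support_map_subset ι q)
  have h2 := aeval_Hs (T := Λ') (ι μ) d τ (MvPolynomial.map ι q) h1
  have h3 : (ι ∘ l) = fun v => (algebraMap Λ' Λ') (ι μ) * τ v := by
    funext v
    exact hl v
  have h4 : eval (ι ∘ l) (Hs (ι μ) d (MvPolynomial.map ι q)) =
      aeval (fun v => (algebraMap Λ' Λ') (ι μ) * τ v) (Hs (ι μ) d (MvPolynomial.map ι q)) := by
    rw [h3]; rfl
  have h5 : aeval τ (MvPolynomial.map ι q) = 0 := hq
  rw [e1, e2, h4, h2, h5, mul_zero]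

end HsHom

section GenMaps

variable {R₁ : Type u} [CommRing R₁] {n N c t : ℕ} (u u₀ : R₁)
  (F : Fin c → MvPolynomial (Fin N) R₁) (i : Fin n → Fin N) (g : Fin t → MvPolynomial (Fin n) R₁)

/-- the generic algebra -/
abbrev GenAlg : Type u :=
  MvPolynomial (Fin n ⊕ Fin N) R₁ ⧸ Ideal.span (Set.range (genRel u u₀ F i g))

theorem gen_maps {Λ : Type u} [CommRing Λ] [Algebra R₁ Λ] (ξ : Fin n → Λ) (l : Fin N → Λ)
    (ha : ∀ r, algebraMap R₁ Λ u₀ * aeval l (F r) = 0)
    (hb : ∀ k, algebraMap R₁ Λ u₀ * (algebraMap R₁ Λ u * ξ k - l (i k)) = 0)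
    (hc : ∀ j, aeval ξ (g j) = 0) :
    ∃ β : GenAlg u u₀ F i g →ₐ[R₁] Λ,
      (∀ k, β (Ideal.Quotient.mk _ (X (Sum.inl k))) = ξ k) ∧
      (∀ v, β (Ideal.Quotient.mk _ (X (Sum.inr v))) = l v) := by
  have hvan : ∀ x ∈ Ideal.span (Set.range (genRel u u₀ F i g)),
      (aeval (Sum.elim ξ l) : MvPolynomial (Fin n ⊕ Fin N) R₁ →ₐ[R₁] Λ) x = 0 := by
    intro x hx
    have hle : Ideal.span (Set.range (genRel u u₀ F i g)) ≤
        RingHom.ker (aeval (Sum.elim ξ l) : MvPolynomial (Fin n ⊕ Fin N) R₁ →ₐ[R₁] Λ).toRingHom := by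
      rw [Ideal.span_le]
      rintro _ ⟨j, rfl⟩
      rw [SetLike.mem_coe, RingHom.mem_ker]
      show aeval (Sum.elim ξ l) (genRel u u₀ F i g j) = 0
      rcases j with (r | k) | j
      · simp only [genRel, Sum.elim_inl, map_mul, aeval_C, aeval_rename]
        have : (Sum.elim ξ l ∘ Sum.inr) = l := rfl
        rw [this]
        exact ha r
      · simp only [genRel, Sum.elim_inl, Sum.elim_inr, map_mul, map_sub, aeval_C, aeval_X]
        exact hb k
      · simp only [genRel, Sum.elim_inr, aeval_rename]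
        have : (Sum.elim ξ l ∘ Sum.inl) = ξ := rfl
        rw [this]
        exact hc j
    exact hle hx
  refine ⟨Ideal.Quotient.liftₐ _ (aeval (Sum.elim ξ l)) hvan, fun k => ?_, fun v => ?_⟩
  · show aeval (Sum.elim ξ l) (X (Sum.inl k)) = _
    rw [aeval_X]; rfl
  · show aeval (Sum.elim ξ l) (X (Sum.inr v)) = _
    rw [aeval_X]; rfl

theorem gen_alpha {R : Type u} [CommRing R] [Algebra R R₁] (gR : Fin t → MvPolynomial (Fin n) R)
    (hg : ∀ j, g j = MvPolynomial.map (algebraMap R R₁) (gR j)) :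
    ∃ α₀ : MvPolynomial (Fin n) R →ₐ[R] GenAlg u u₀ F i g,
      (∀ k, α₀ (X k) = Ideal.Quotient.mk _ (X (Sum.inl k))) ∧ ∀ j, α₀ (gR j) = 0 := by
  refine ⟨aeval (fun k => Ideal.Quotient.mk _ (X (Sum.inl k))), fun k => by rw [aeval_X],
    fun j => ?_⟩
  rw [aeval_eq_aeval_map R₁]
  have e1 : aeval (fun k => (Ideal.Quotient.mk (Ideal.span (Set.range (genRel u u₀ F i g)))
      (X (Sum.inl k))))
      (MvPolynomial.map (algebraMap R R₁) (gR j)) =
      Ideal.Quotient.mkₐ R₁ _ (aeval (fun k => (X (Sum.inl k) : MvPolynomial (Fin n ⊕ Fin N) R₁))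
        (MvPolynomial.map (algebraMap R R₁) (gR j))) :=
    (MvPolynomial.comp_aeval_apply (R := R₁)
      (fun k => (X (Sum.inl k) : MvPolynomial (Fin n ⊕ Fin N) R₁))
      (Ideal.Quotient.mkₐ R₁ _) _).symm
  rw [e1]
  have e2 : aeval (fun k => (X (Sum.inl k) : MvPolynomial (Fin n ⊕ Fin N) R₁))
      (MvPolynomial.map (algebraMap R R₁) (gR j)) =
      rename Sum.inl (MvPolynomial.map (algebraMap R R₁) (gR j)) := by
    rw [rename_eq_aeval]
    rfl
  rw [e2, ← hg j]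
  exact (Ideal.Quotient.eq_zero_iff_mem).mpr (Ideal.subset_span ⟨Sum.inr j, rfl⟩)

end GenMaps

end Groth.Agent.Lib.Helper22.Pop
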