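import Groth.Agent.Lib.Helper22.PopY
import Groth.Agent.Lib.Helper22.PopM

set_option autoImplicit false
set_option linter.style.haveILetI false
set_option linter.unusedSectionVars false

namespace Groth.Agent.Lib.Helper22.Pop

open MvPolynomial Smoothing

universe u

theorem aeval_comp_eq {R A Λ : Type u} [CommRing R] [CommRing A] [Algebra R A] [CommRing Λ]
    [Algebra R Λ] {n : ℕ} (φ : A →ₐ[R] Λ) (πA : MvPolynomial (Fin n) R →ₐ[R] A)
    (p : MvPolynomial (Fin n) R) :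
    aeval (fun k => φ (πA (X k))) p = φ (πA p) := by
  have := MvPolynomial.comp_aeval_apply (R := R) (X : Fin n → MvPolynomial (Fin n) R)
    (φ.comp πA) p
  rw [aeval_X_left_apply] at this
  exact this.symm

theorem delocalize_base_core {R A Λ Λ' : Type u} [CommRing R] [CommRing A] [Algebra R A]
    [CommRing Λ] [Algebra R Λ] (φ : A →ₐ[R] Λ) (S : Submonoid R) [CommRing Λ'] [Algebra R Λ']
    (ιΛ : Λ →ₐ[R] Λ')
    (hsurj : ∀ y : Λ', ∃ s ∈ S, ∃ x : Λ, algebraMap R Λ' s * y = ιΛ x)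
    (hinj : ∀ x : Λ, ιΛ x = 0 → ∃ s ∈ S, algebraMap R Λ s * x = 0)
    {n N c t : ℕ} (πA : MvPolynomial (Fin n) R →ₐ[R] A) (g : Fin t → MvPolynomial (Fin n) R)
    (f : Fin c → MvPolynomial (Fin N) R) (cols : Fin c → Fin N) (i : Fin n → Fin N)
    (s₀ s₁ : R) (τ : Fin N → Λ')
    (hπA : Function.Surjective πA) (hker : RingHom.ker πA.toRingHom = Ideal.span (Set.range g))
    (hcols : Function.Injective cols) (hs₀ : s₀ ∈ S) (hs₁ : s₁ ∈ S)
    (h1 : C s₀ ∈ Ideal.span {Matrix.det (Matrix.of fun r r' : Fin c => pderiv (cols r') (f r))} ⊔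
        Ideal.span (Set.range f))
    (h2 : ∀ j, C s₁ * rename i (g j) ∈ Ideal.span (Set.range f))
    (hτ : ∀ r, aeval τ (f r) = 0) (hτi : ∀ k, τ (i k) = ιΛ (φ (πA (X k)))) :
    ∃ (B : Type u) (_ : CommRing B) (_ : Algebra R B) (α : A →ₐ[R] B) (β : B →ₐ[R] Λ),
      β.comp α = φ ∧ ∃ s ∈ S, IsElementaryStandard R B (algebraMap R B s) := by
  classical
  set T : Submonoid Λ := S.map (algebraMap R Λ) with hT
  have hsurj' : ∀ y : Λ', ∃ μ ∈ T, ∃ x : Λ, ιΛ.toRingHom μ * y = ιΛ.toRingHom x := by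
    intro y
    obtain ⟨s, hs, x, hx⟩ := hsurj y
    refine ⟨algebraMap R Λ s, ⟨s, hs, rfl⟩, x, ?_⟩
    show ιΛ (algebraMap R Λ s) * y = ιΛ x
    rw [AlgHom.commutes, hx]
  have hinj' : ∀ x : Λ, ιΛ.toRingHom x = 0 → ∃ μ ∈ T, μ * x = 0 := by
    intro x hx
    obtain ⟨s, hs, hsx⟩ := hinj x hx
    exact ⟨algebraMap R Λ s, ⟨s, hs, rfl⟩, hsx⟩
  obtain ⟨_, ⟨s, hs, rfl⟩, l, hl⟩ := common_denoms ιΛ.toRingHom T hsurj' τ
  have hl' : ∀ v, ιΛ (l v) = algebraMap R Λ' s * τ v := by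
    intro v
    have h0 : ιΛ (algebraMap R Λ s) * τ v = ιΛ (l v) := hl v
    rw [← h0, AlgHom.commutes]
  set d : Fin c → ℕ := fun r => (f r).totalDegree with hd
  set F : Fin c → MvPolynomial (Fin N) R := fun r => Hs s (d r) (f r) with hF
  -- torsion elements
  have hz₁ : ∀ r, ιΛ.toRingHom (aeval l (F r)) = 0 := by
    intro r
    rw [hF, aeval_Hs_eq_eval]
    refine map_eval_Hs_eq_zero ιΛ.toRingHom (algebraMap R Λ s) l τ (fun v => ?_) (d r) _
      (totalDegree_map_le' _ _) ?_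
    · show ιΛ (l v) = ιΛ (algebraMap R Λ s) * τ v
      rw [AlgHom.commutes]
      exact hl' v
    · rw [MvPolynomial.map_map]
      have : (ιΛ.toRingHom.comp (algebraMap R Λ)) = algebraMap R Λ' := by
        ext x
        exact ιΛ.commutes x
      rw [this, ← eval₂_eq_eval_map, ← aeval_def]
      exact hτ r
  have hz₂ : ∀ k, ιΛ.toRingHom (algebraMap R Λ s * φ (πA (X k)) - l (i k)) = 0 := by
    intro k
    show ιΛ (algebraMap R Λ s * φ (πA (X k)) - l (i k)) = 0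
    rw [map_sub, map_mul, AlgHom.commutes, hl' (i k), hτi k, sub_self]
  obtain ⟨_, ⟨s', hs', rfl⟩, hkill⟩ := common_kill ιΛ.toRingHom T hinj'
    (Sum.elim (fun r => aeval l (F r)) (fun k => algebraMap R Λ s * φ (πA (X k)) - l (i k)))
    (by
      rintro (r | k)
      · exact hz₁ r
      · exact hz₂ k)
  obtain ⟨β, hβ₁, hβ₂⟩ := gen_maps s s' F i g (fun k => φ (πA (X k))) l
    (fun r => hkill (Sum.inl r)) (fun k => hkill (Sum.inr k))
    (fun j => by
      rw [aeval_comp_eq φ πA (g j)]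
      have : g j ∈ RingHom.ker πA.toRingHom := by
        rw [hker]; exact Ideal.subset_span ⟨j, rfl⟩
      have h0 : πA (g j) = 0 := this
      rw [h0, map_zero])
  obtain ⟨α₀, hα₀, hα₀'⟩ := gen_alpha s s' F i g g (fun j => by
    rw [Algebra.algebraMap_self, MvPolynomial.map_id])
  have hle : RingHom.ker πA.toRingHom ≤ RingHom.ker α₀.toRingHom := by
    rw [hker, Ideal.span_le]
    rintro _ ⟨j, rfl⟩
    exact hα₀' j
  obtain ⟨α, hα⟩ := exists_lift_of_surjective πA hπA α₀ hle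
  obtain ⟨a, b, hstd⟩ := generic_elementary_standard s s' s₀ s₁ f cols hcols d (fun r => le_rfl)
    i g h1 h2
  refine ⟨GenAlg s s' F i g, inferInstance, inferInstance, α, β, ?_, s' ^ a * s ^ b * s₀ * s₁,
    ?_, hstd⟩
  · have h3 : (β.comp α).comp πA = φ.comp πA := by
      refine MvPolynomial.algHom_ext fun k => ?_
      show β (α (πA (X k))) = φ (πA (X k))
      rw [hα, hα₀, hβ₁]
    ext x
    obtain ⟨p, rfl⟩ := hπA x
    exact congrArg (fun ψ => ψ p) h3
  · exact S.mul_mem (S.mul_mem (S.mul_mem (S.pow_mem hs' a) (S.pow_mem hs b)) hs₀) hs₁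

end Groth.Agent.Lib.Helper22.Pop
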