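import Groth.Agent.Lib.Helper22.PopZ
import Groth.Agent.S2032

set_option autoImplicit false
set_option linter.style.haveILetI false
set_option linter.unusedSectionVars false

namespace Groth.Agent.Lib.Helper22.Pop

open MvPolynomial Smoothing

universe u

theorem mem_singularIdeal_of_smooth_localization_away {R B : Type u} [CommRing R] [CommRing B]
    [Algebra R B] [Algebra.FinitePresentation R B] (b : B)
    (h : Algebra.Smooth R (Localization.Away b)) : b ∈ Smoothing.singularIdeal R B := by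
  have h1 := (Algebra.basicOpen_subset_smoothLocus_iff_smooth (R := R) (A := B) (f := b)).mpr h
  rw [Smoothing.singularIdeal, PrimeSpectrum.mem_vanishingIdeal]
  intro q hq
  by_contra hcon
  exact hq (h1 hcon)

/-- transport of the polynomial identities along a coefficient ring map -/
theorem map_h1 {R R₁ : Type u} [CommRing R] [CommRing R₁] (χ : R →+* R₁) {N c : ℕ}
    (f : Fin c → MvPolynomial (Fin N) R) (cols : Fin c → Fin N) (s₀ : R)
    (h1 : C s₀ ∈ Ideal.span {Matrix.det (Matrix.of fun r r' : Fin c => pderiv (cols r') (f r))} ⊔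
        Ideal.span (Set.range f)) :
    C (χ s₀) ∈ Ideal.span {Matrix.det (Matrix.of fun r r' : Fin c =>
        pderiv (cols r') (MvPolynomial.map χ (f r)))} ⊔
        Ideal.span (Set.range fun r => MvPolynomial.map χ (f r)) := by
  have h := Ideal.mem_map_of_mem (MvPolynomial.map χ) h1
  rw [Ideal.map_sup, Ideal.map_span, Ideal.map_span, Set.image_singleton, map_C] at h
  have e1 : MvPolynomial.map χ (Matrix.det (Matrix.of fun r r' : Fin c => pderiv (cols r') (f r))) =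
      Matrix.det (Matrix.of fun r r' : Fin c => pderiv (cols r') (MvPolynomial.map χ (f r))) := by
    rw [RingHom.map_det]
    congr 1
    refine Matrix.ext fun r r' => ?_
    simp only [RingHom.mapMatrix_apply, Matrix.map_apply, Matrix.of_apply, pderiv_map]
  have e2 : (⇑(MvPolynomial.map χ) '' Set.range f) =
      Set.range fun r => MvPolynomial.map χ (f r) := by
    rw [← Set.range_comp]; rfl
  rw [e1, e2] at h
  exact h

theorem map_h2 {R R₁ : Type u} [CommRing R] [CommRing R₁] (χ : R →+* R₁) {n N c : ℕ}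
    (f : Fin c → MvPolynomial (Fin N) R) (i : Fin n → Fin N) (g : MvPolynomial (Fin n) R) (s₁ : R)
    (h2 : C s₁ * rename i g ∈ Ideal.span (Set.range f)) :
    C (χ s₁) * rename i (MvPolynomial.map χ g) ∈
      Ideal.span (Set.range fun r => MvPolynomial.map χ (f r)) := by
  have h := Ideal.mem_map_of_mem (MvPolynomial.map χ) h2
  rw [Ideal.map_span, map_mul, map_C, map_rename] at h
  have e2 : (⇑(MvPolynomial.map χ) '' Set.range f) =
      Set.range fun r => MvPolynomial.map χ (f r) := by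
    rw [← Set.range_comp]; rfl
  rw [e2] at h
  exact h

theorem delocalize_weak_inner {R R₁ A Λ : Type u} [CommRing R] [CommRing R₁] [CommRing A]
    [Algebra R A] [CommRing Λ] [Algebra R Λ] (φ : A →ₐ[R] Λ) (𝔮 : Ideal Λ) [𝔮.IsPrime]
    [Algebra R R₁] [Algebra R₁ Λ] [IsScalarTower R R₁ Λ] [Algebra.Smooth R R₁]
    (u u₀ : R₁) (hu : algebraMap R₁ Λ u ∉ 𝔮) (hu₀ : algebraMap R₁ Λ u₀ ∉ 𝔮)
    {n N c t : ℕ} (πA : MvPolynomial (Fin n) R →ₐ[R] A) (g : Fin t → MvPolynomial (Fin n) R)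
    (f : Fin c → MvPolynomial (Fin N) R) (cols : Fin c → Fin N) (i : Fin n → Fin N)
    (s₀ s₁ : R) (l : Fin N → Λ)
    (hπA : Function.Surjective πA) (hker : RingHom.ker πA.toRingHom = Ideal.span (Set.range g))
    (hcols : Function.Injective cols) (hs₀ : algebraMap R Λ s₀ ∉ 𝔮) (hs₁ : algebraMap R Λ s₁ ∉ 𝔮)
    (h1 : C s₀ ∈ Ideal.span {Matrix.det (Matrix.of fun r r' : Fin c => pderiv (cols r') (f r))} ⊔
        Ideal.span (Set.range f))
    (h2 : ∀ j, C s₁ * rename i (g j) ∈ Ideal.span (Set.range f))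
    (hz₁ : ∀ r, algebraMap R₁ Λ u₀ * eval l (Hs (algebraMap R₁ Λ u) (f r).totalDegree
      (MvPolynomial.map (algebraMap R Λ) (f r))) = 0)
    (hz₂ : ∀ k, algebraMap R₁ Λ u₀ * (algebraMap R₁ Λ u * φ (πA (X k)) - l (i k)) = 0) :
    ∃ (C' : Type u) (_ : CommRing C') (_ : Algebra R C'), Algebra.FinitePresentation R C' ∧
      ∃ (g' : A →ₐ[R] C') (h' : C' →ₐ[R] Λ), h'.comp g' = φ ∧
        ¬ (Smoothing.singularIdeal R C').map h' ≤ 𝔮 := by
  classical
  set f₁ : Fin c → MvPolynomial (Fin N) R₁ := fun r => MvPolynomial.map (algebraMap R R₁) (f r)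
    with hf₁
  set g₁ : Fin t → MvPolynomial (Fin n) R₁ := fun j => MvPolynomial.map (algebraMap R R₁) (g j)
    with hg₁
  set d : Fin c → ℕ := fun r => (f r).totalDegree with hd
  set F : Fin c → MvPolynomial (Fin N) R₁ := fun r => Hs u (d r) (f₁ r) with hF
  have hdeg : ∀ r, (f₁ r).totalDegree ≤ d r := fun r => totalDegree_map_le' _ _
  have h1' := map_h1 (algebraMap R R₁) f cols s₀ h1
  have h2' := fun j => map_h2 (algebraMap R R₁) f i (g j) s₁ (h2 j)
  have ha : ∀ r, algebraMap R₁ Λ u₀ * aeval l (F r) = 0 := by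
    intro r
    rw [hF, aeval_Hs_eq_eval]
    have : MvPolynomial.map (algebraMap R₁ Λ) (f₁ r) = MvPolynomial.map (algebraMap R Λ) (f r) := by
      rw [hf₁, MvPolynomial.map_map, ← IsScalarTower.algebraMap_eq]
    rw [this]
    exact hz₁ r
  obtain ⟨β, hβ₁, hβ₂⟩ := gen_maps u u₀ F i g₁ (fun k => φ (πA (X k))) l ha hz₂
    (fun j => by
      rw [hg₁, ← aeval_eq_aeval_map R₁, aeval_comp_eq φ πA (g j)]
      have : g j ∈ RingHom.ker πA.toRingHom := by
        rw [hker]; exact Ideal.subset_span ⟨j, rfl⟩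
      have h0 : πA (g j) = 0 := this
      rw [h0, map_zero])
  obtain ⟨α₀, hα₀, hα₀'⟩ := gen_alpha u u₀ F i g₁ g (fun j => rfl)
  have hle : RingHom.ker πA.toRingHom ≤ RingHom.ker α₀.toRingHom := by
    rw [hker, Ideal.span_le]
    rintro _ ⟨j, rfl⟩
    exact hα₀' j
  obtain ⟨α, hα⟩ := exists_lift_of_surjective πA hπA α₀ hle
  obtain ⟨a, b, hstd⟩ := generic_elementary_standard u u₀ (algebraMap R R₁ s₀)
    (algebraMap R R₁ s₁) f₁ cols hcols d hdeg i g₁ h1' h2'
  haveI hfp₁ : Algebra.FinitePresentation R₁ (GenAlg u u₀ F i g₁) :=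
    Algebra.FinitePresentation.quotient
      (Submodule.fg_span (Set.finite_range (genRel u u₀ F i g₁)))
  haveI hfpR₁ : Algebra.FinitePresentation R R₁ := Algebra.Smooth.finitePresentation
  haveI hfp : Algebra.FinitePresentation R (GenAlg u u₀ F i g₁) :=
    Algebra.FinitePresentation.trans R R₁ _
  set bel : GenAlg u u₀ F i g₁ := algebraMap R₁ _
    (u₀ ^ a * u ^ b * algebraMap R R₁ s₀ * algebraMap R R₁ s₁) with hbel
  have hsm₁ : Algebra.Smooth R₁ (Localization.Away bel) := by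
    haveI := Groth.Agent.S2032.result bel hstd
    infer_instance
  have hsm : Algebra.Smooth R (Localization.Away bel) := Algebra.Smooth.comp R R₁ _
  have hmem : bel ∈ Smoothing.singularIdeal R (GenAlg u u₀ F i g₁) :=
    mem_singularIdeal_of_smooth_localization_away bel hsm
  refine ⟨GenAlg u u₀ F i g₁, inferInstance, inferInstance, hfp, α, β.restrictScalars R, ?_, ?_⟩
  · have h3 : ((β.restrictScalars R).comp α).comp πA = φ.comp πA := by
      refine MvPolynomial.algHom_ext fun k => ?_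
      show β (α (πA (X k))) = φ (πA (X k))
      rw [hα, hα₀, hβ₁]
    ext x
    obtain ⟨p, rfl⟩ := hπA x
    exact congrArg (fun ψ => ψ p) h3
  · intro hle'
    have h4 : (β.restrictScalars R) bel ∈ 𝔮 := hle' (Ideal.mem_map_of_mem _ hmem)
    have h5 : (β.restrictScalars R) bel = algebraMap R₁ Λ u₀ ^ a * algebraMap R₁ Λ u ^ b *
        algebraMap R Λ s₀ * algebraMap R Λ s₁ := by
      show β bel = _
      rw [hbel, AlgHom.commutes, map_mul, map_mul, map_mul, map_pow, map_pow,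
        ← IsScalarTower.algebraMap_apply, ← IsScalarTower.algebraMap_apply]
    rw [h5] at h4
    have hprime : 𝔮.IsPrime := inferInstance
    rcases hprime.mem_or_mem h4 with h6 | h6
    · rcases hprime.mem_or_mem h6 with h7 | h7
      · rcases hprime.mem_or_mem h7 with h8 | h8
        · exact hu₀ (hprime.mem_of_pow_mem _ h8)
        · exact hu (hprime.mem_of_pow_mem _ h8)
      · exact hs₀ h7
    · exact hs₁ h6

theorem delocalize_weak_core {R A Λ Λq : Type u} [CommRing R] [CommRing A]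
    [Algebra R A] [CommRing Λ] [Algebra R Λ] (φ : A →ₐ[R] Λ) (𝔮 : Ideal Λ) [𝔮.IsPrime]
    [CommRing Λq] [Algebra Λ Λq] [IsLocalization.AtPrime Λq 𝔮] [Algebra R Λq]
    [IsScalarTower R Λ Λq]
    {n N c t : ℕ} (πA : MvPolynomial (Fin n) R →ₐ[R] A) (g : Fin t → MvPolynomial (Fin n) R)
    (f : Fin c → MvPolynomial (Fin N) R) (cols : Fin c → Fin N) (i : Fin n → Fin N)
    (s₀ s₁ : R) (τ : Fin N → Λq)
    (hπA : Function.Surjective πA) (hker : RingHom.ker πA.toRingHom = Ideal.span (Set.range g))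
    (hcols : Function.Injective cols) (hs₀ : algebraMap R Λ s₀ ∉ 𝔮) (hs₁ : algebraMap R Λ s₁ ∉ 𝔮)
    (h1 : C s₀ ∈ Ideal.span {Matrix.det (Matrix.of fun r r' : Fin c => pderiv (cols r') (f r))} ⊔
        Ideal.span (Set.range f))
    (h2 : ∀ j, C s₁ * rename i (g j) ∈ Ideal.span (Set.range f))
    (hτ : ∀ r, aeval τ (f r) = 0)
    (hτi : ∀ k, τ (i k) = algebraMap Λ Λq (φ (πA (X k)))) :
    ∃ (C' : Type u) (_ : CommRing C') (_ : Algebra R C'), Algebra.FinitePresentation R C' ∧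
      ∃ (g' : A →ₐ[R] C') (h' : C' →ₐ[R] Λ), h'.comp g' = φ ∧
        ¬ (Smoothing.singularIdeal R C').map h' ≤ 𝔮 := by
  classical
  set T : Submonoid Λ := 𝔮.primeCompl with hT
  have hsurj' : ∀ y : Λq, ∃ μ ∈ T, ∃ x : Λ, algebraMap Λ Λq μ * y = algebraMap Λ Λq x := by
    intro y
    obtain ⟨⟨x, m⟩, hx⟩ := IsLocalization.surj T y
    exact ⟨m, m.2, x, by rw [mul_comm]; exact hx⟩
  have hinj' : ∀ x : Λ, algebraMap Λ Λq x = 0 → ∃ μ ∈ T, μ * x = 0 := by
    intro x hx
    obtain ⟨m, hm⟩ := (IsLocalization.map_eq_zero_iff T Λq x).mp hx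
    exact ⟨m, m.2, hm⟩
  obtain ⟨μ, hμ, l, hl⟩ := common_denoms (algebraMap Λ Λq) T hsurj' τ
  -- torsion elements
  have hz₁ : ∀ r, algebraMap Λ Λq (eval l (Hs μ (f r).totalDegree
      (MvPolynomial.map (algebraMap R Λ) (f r)))) = 0 := by
    intro r
    refine map_eval_Hs_eq_zero (algebraMap Λ Λq) μ l τ (fun v => (hl v).symm) _ _
      (totalDegree_map_le' _ _) ?_
    rw [MvPolynomial.map_map, ← IsScalarTower.algebraMap_eq, ← eval₂_eq_eval_map, ← aeval_def]
    exact hτ r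
  have hz₂ : ∀ k, algebraMap Λ Λq (μ * φ (πA (X k)) - l (i k)) = 0 := by
    intro k
    rw [map_sub, map_mul, ← hl (i k), hτi k, sub_self]
  obtain ⟨μ₀, hμ₀, hkill⟩ := common_kill (algebraMap Λ Λq) T hinj'
    (Sum.elim (fun r => eval l (Hs μ (f r).totalDegree
      (MvPolynomial.map (algebraMap R Λ) (f r))))
      (fun k => μ * φ (πA (X k)) - l (i k)))
    (by
      rintro (r | k)
      · exact hz₁ r
      · exact hz₂ k)
  -- the polynomial base ring
  letI algR₁ : Algebra (MvPolynomial (Fin 2) R) Λ :=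
    (aeval ![μ, μ₀] : MvPolynomial (Fin 2) R →ₐ[R] Λ).toRingHom.toAlgebra
  haveI : IsScalarTower R (MvPolynomial (Fin 2) R) Λ :=
    IsScalarTower.of_algebraMap_eq (fun x => by
      show algebraMap R Λ x = aeval ![μ, μ₀] (algebraMap R (MvPolynomial (Fin 2) R) x)
      rw [AlgHom.commutes])
  have hu : algebraMap (MvPolynomial (Fin 2) R) Λ (X 0) = μ := by
    show aeval ![μ, μ₀] (X 0) = μ
    rw [aeval_X]; rfl
  have hu₀ : algebraMap (MvPolynomial (Fin 2) R) Λ (X 1) = μ₀ := by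
    show aeval ![μ, μ₀] (X 1) = μ₀
    rw [aeval_X]; rfl
  haveI : Algebra.Smooth R (MvPolynomial (Fin 2) R) :=
    ⟨inferInstance, inferInstance⟩
  refine delocalize_weak_inner (R₁ := MvPolynomial (Fin 2) R) φ 𝔮 (X 0) (X 1) ?_ ?_ πA g f cols i
    s₀ s₁ l hπA hker hcols hs₀ hs₁ h1 h2 ?_ ?_
  · rw [hu]; exact hμ
  · rw [hu₀]; exact hμ₀
  · intro r
    rw [hu, hu₀]
    exact hkill (Sum.inl r)
  · intro k
    rw [hu, hu₀]
    exact hkill (Sum.inr k)

open TensorProduct in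
theorem delocalize_weak_of_smooth {R A Λ Rₚ Λq B' : Type u} [CommRing R] [CommRing A]
    [Algebra R A] [Algebra.FinitePresentation R A] [CommRing Λ] [Algebra R Λ] (φ : A →ₐ[R] Λ)
    (𝔮 : Ideal Λ) [𝔮.IsPrime]
    [CommRing Rₚ] [Algebra R Rₚ] [IsLocalization.AtPrime Rₚ (𝔮.comap (algebraMap R Λ))]
    [CommRing Λq] [Algebra Λ Λq] [IsLocalization.AtPrime Λq 𝔮] [Algebra R Λq] [IsScalarTower R Λ Λq]
    [Algebra Rₚ Λq] [IsScalarTower R Rₚ Λq]
    [CommRing B'] [Algebra Rₚ B'] [Algebra.Smooth Rₚ B'] (g' : Rₚ ⊗[R] A →ₐ[Rₚ] B')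
    (h' : B' →ₐ[Rₚ] Λq)
    (hcomp : h'.comp g' = (Algebra.TensorProduct.lift (Algebra.ofId Rₚ Λq)
      ((IsScalarTower.toAlgHom R Λ Λq).comp φ) (fun _ _ => Commute.all _ _) :
        Rₚ ⊗[R] A →ₐ[Rₚ] Λq)) :
    ∃ (C' : Type u) (_ : CommRing C') (_ : Algebra R C'), Algebra.FinitePresentation R C' ∧
      ∃ (g'' : A →ₐ[R] C') (h'' : C' →ₐ[R] Λ), h''.comp g'' = φ ∧
        ¬ (Smoothing.singularIdeal R C').map h'' ≤ 𝔮 := by
  classical
  letI algRB : Algebra R B' := ((algebraMap Rₚ B').comp (algebraMap R Rₚ)).toAlgebra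
  haveI : IsScalarTower R Rₚ B' := IsScalarTower.of_algebraMap_eq (fun _ => rfl)
  let ψ : A →ₐ[R] B' := (g'.restrictScalars R).comp Algebra.TensorProduct.includeRight
  obtain ⟨n, N, c, t, πA, gg, f, cols, i, s₀, s₁, τ, hπA, hker, hcols, hs₀, hs₁, h1, h2, hτ, hτi⟩ :=
    front_end (R' := Rₚ) (𝔮.comap (algebraMap R Λ)).primeCompl ψ h'
  refine delocalize_weak_core φ 𝔮 πA gg f cols i s₀ s₁ τ hπA hker hcols hs₀ hs₁ h1 h2 hτ ?_
  intro k
  rw [hτi k]
  have h3 := congrArg (fun χ => χ ((1 : Rₚ) ⊗ₜ[R] πA (MvPolynomial.X k))) hcomp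
  simp only [AlgHom.comp_apply, Algebra.TensorProduct.lift_tmul, map_one, one_mul] at h3
  exact h3

end Groth.Agent.Lib.Helper22.Pop
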