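import Groth.Agent.Lib.Helper22.PopZa
import Groth.Agent.Lib.Helper22.PopQ
import Groth.Agent.Lib.Helper22.PopR

set_option autoImplicit false
set_option linter.style.haveILetI false
set_option linter.unusedSectionVars false

namespace Groth.Agent.Lib.Helper22.Pop

open MvPolynomial Smoothing

universe u

theorem nil_data {R A Λ Λq : Type u} [CommRing R] [IsNoetherianRing R] [CommRing A] [Algebra R A]
    [Algebra.FiniteType R A] [CommRing Λ] [Algebra R Λ] (φ : A →ₐ[R] Λ) (𝔮 : Ideal Λ) [𝔮.IsPrime]
    (hle : Smoothing.singRad R φ ≤ 𝔮) [CommRing Λq] [Algebra Λ Λq] [IsLocalization.AtPrime Λq 𝔮]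
    (hdim : ringKrullDim Λq = 0) :
    ∃ (r : ℕ) (a : Fin r → A) (N : ℕ) (lam : Λ),
      Ideal.span (Set.range a) = Smoothing.singularIdeal R A ∧ lam ∉ 𝔮 ∧
        ∀ ℓ, lam * φ (a ℓ) ^ N = 0 := by
  classical
  haveI : IsNoetherianRing A := Algebra.FiniteType.isNoetherianRing R A
  obtain ⟨s, hs⟩ := (isNoetherianRing_iff_ideal_fg A).mp inferInstance (Smoothing.singularIdeal R A)
  let a : Fin s.card → A := fun i => (s.equivFin.symm i : A)
  have hrange : Set.range a = (s : Set A) := by
    ext x
    constructor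
    · rintro ⟨j, rfl⟩
      exact (s.equivFin.symm j).2
    · intro hx
      exact ⟨s.equivFin ⟨x, hx⟩, by simp [a]⟩
  have hspan : Ideal.span (Set.range a) = Smoothing.singularIdeal R A := by rw [hrange, hs]
  haveI : IsLocalRing Λq := IsLocalization.AtPrime.isLocalRing Λq 𝔮
  haveI : Ring.KrullDimLE 0 Λq := Ring.krullDimLE_iff.mpr (le_of_eq hdim)
  have hmem : ∀ ℓ, φ (a ℓ) ∈ 𝔮 := by
    intro ℓ
    refine hle (Ideal.le_radical (Ideal.mem_map_of_mem _ ?_))
    rw [← hspan]
    exact Ideal.subset_span ⟨ℓ, rfl⟩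
  have hnil : ∀ ℓ, ∃ N : ℕ, ∃ m ∈ 𝔮.primeCompl, m * φ (a ℓ) ^ N = 0 := by
    intro ℓ
    have h1 : algebraMap Λ Λq (φ (a ℓ)) ∈ IsLocalRing.maximalIdeal Λq :=
      (IsLocalization.AtPrime.to_map_mem_maximal_iff Λq 𝔮 _).mpr (hmem ℓ)
    obtain ⟨N, hN⟩ := (Ring.KrullDimLE.isNilpotent_iff_mem_maximalIdeal).mpr h1
    rw [← map_pow, IsLocalization.map_eq_zero_iff 𝔮.primeCompl] at hN
    obtain ⟨m, hm⟩ := hN
    exact ⟨N, m, m.2, hm⟩
  choose Nf mf hmf hmf' using hnil
  refine ⟨s.card, a, ∑ ℓ, Nf ℓ, ∏ ℓ, mf ℓ, hspan, ?_, fun ℓ => ?_⟩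
  · exact (prod_mem (S := 𝔮.primeCompl) (fun ℓ _ => hmf ℓ))
  · have h1 : Nf ℓ ≤ ∑ ℓ, Nf ℓ := Finset.single_le_sum (f := Nf) (fun _ _ => Nat.zero_le _)
      (Finset.mem_univ ℓ)
    rw [← Finset.prod_erase_mul _ _ (Finset.mem_univ ℓ), ← Nat.sub_add_cancel h1, pow_add]
    calc (∏ x ∈ Finset.univ.erase ℓ, mf x) * mf ℓ *
          (φ (a ℓ) ^ ((∑ ℓ, Nf ℓ) - Nf ℓ) * φ (a ℓ) ^ Nf ℓ)
        = (∏ x ∈ Finset.univ.erase ℓ, mf x) * φ (a ℓ) ^ ((∑ ℓ, Nf ℓ) - Nf ℓ) *
          (mf ℓ * φ (a ℓ) ^ Nf ℓ) := by ring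
      _ = 0 := by rw [hmf' ℓ, mul_zero]


section Glue

variable {A : Type u} [CommRing A] {p m r : ℕ}

/-- variables of the glued algebra: `w_k`, `y_i`, `z`, `t_ij` -/
abbrev GW (p m r : ℕ) : Type := Fin p ⊕ (Fin r ⊕ (Unit ⊕ (Fin r × Fin m)))

variable (A p m r) in
noncomputable def gy (i : Fin r) : MvPolynomial (GW p m r) A := X (Sum.inr (Sum.inl i))

variable (A p m r) in
noncomputable def gz : MvPolynomial (GW p m r) A := X (Sum.inr (Sum.inr (Sum.inl ())))

variable (A p m r) in
noncomputable def gt (i : Fin r) (j : Fin m) : MvPolynomial (GW p m r) A :=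
  X (Sum.inr (Sum.inr (Sum.inr (i, j))))

variable (r) in
noncomputable def glueRel (f' : Fin m → MvPolynomial (Fin p) A) :
    Fin m ⊕ Fin r → MvPolynomial (GW p m r) A :=
  Sum.elim (fun j => rename Sum.inl (f' j) - ∑ i, gy A p m r i * gt A p m r i j)
    (fun i => gz A p m r * gy A p m r i)

variable (r) in
abbrev GlueAlg (f' : Fin m → MvPolynomial (Fin p) A) : Type u :=
  MvPolynomial (GW p m r) A ⧸ Ideal.span (Set.range (glueRel r f'))

theorem glue_lift (f' : Fin m → MvPolynomial (Fin p) A) {T : Type u} [CommRing T] [Algebra A T]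
    (w : Fin p → T) (y : Fin r → T) (z : T) (t : Fin r × Fin m → T)
    (h1 : ∀ j, aeval w (f' j) = ∑ i, y i * t (i, j)) (h2 : ∀ i, z * y i = 0) :
    ∃ G : GlueAlg r f' →ₐ[A] T,
      (∀ k, G (Ideal.Quotient.mk _ (X (Sum.inl k))) = w k) ∧
      (∀ i, G (Ideal.Quotient.mk _ (gy A p m r i)) = y i) ∧
      G (Ideal.Quotient.mk _ (gz A p m r)) = z ∧
      (∀ i j, G (Ideal.Quotient.mk _ (gt A p m r i j)) = t (i, j)) := by
  let ev : GW p m r → T := Sum.elim w (Sum.elim y (Sum.elim (fun _ => z) t))
  have hvan : ∀ x ∈ Ideal.span (Set.range (glueRel r f')),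
      (aeval ev : MvPolynomial (GW p m r) A →ₐ[A] T) x = 0 := by
    intro x hx
    have hle : Ideal.span (Set.range (glueRel r f')) ≤
        RingHom.ker (aeval ev : MvPolynomial (GW p m r) A →ₐ[A] T).toRingHom := by
      rw [Ideal.span_le]
      rintro _ ⟨j, rfl⟩
      rw [SetLike.mem_coe, RingHom.mem_ker]
      show aeval ev (glueRel r f' j) = 0
      rcases j with j | i
      · simp only [glueRel, Sum.elim_inl, map_sub, aeval_rename, map_sum, map_mul, gy, gt, aeval_X]
        have : (ev ∘ Sum.inl) = w := rfl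
        rw [this, h1 j]
        simp [ev]
      · simp only [glueRel, Sum.elim_inr, map_mul, gz, gy, aeval_X]
        exact h2 i
    exact hle hx
  refine ⟨Ideal.Quotient.liftₐ _ (aeval ev) hvan, fun k => ?_, fun i => ?_, ?_, fun i j => ?_⟩
  · show aeval ev (X (Sum.inl k)) = _
    rw [aeval_X]; rfl
  · show aeval ev (X _) = _
    rw [aeval_X]; rfl
  · show aeval ev (X _) = _
    rw [aeval_X]; rfl
  · show aeval ev (X _) = _
    rw [aeval_X]; rfl

/-- leading relations for the chart `y_ℓ ≠ 0` -/
def glueLead (ℓ : Fin r) : Fin m ⊕ Unit → Fin m ⊕ Fin r :=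
  Sum.elim Sum.inl (fun _ => Sum.inr ℓ)

/-- distinguished variables for the chart `y_ℓ ≠ 0` -/
def glueDv (p : ℕ) (ℓ : Fin r) : Fin m ⊕ Unit → GW p m r :=
  Sum.elim (fun j => Sum.inr (Sum.inr (Sum.inr (ℓ, j)))) (fun _ => Sum.inr (Sum.inr (Sum.inl ())))

theorem glueLead_injective (ℓ : Fin r) : Function.Injective (glueLead (m := m) ℓ) := by
  rintro (a | a) (b | b) h <;> simp_all [glueLead]

theorem glueDv_injective (ℓ : Fin r) : Function.Injective (glueDv (m := m) p ℓ) := by
  rintro (a | a) (b | b) h <;> simp_all [glueDv]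

theorem glue_det (f' : Fin m → MvPolynomial (Fin p) A) (ℓ : Fin r) :
    Matrix.det (Matrix.of fun j k : Fin m ⊕ Unit =>
      pderiv (glueDv p ℓ k) (glueRel r f' (glueLead ℓ j))) =
      (-gy A p m r ℓ) ^ m * gy A p m r ℓ := by
  classical
  have hM : (Matrix.of fun j k : Fin m ⊕ Unit =>
      pderiv (glueDv p ℓ k) (glueRel r f' (glueLead ℓ j))) =
      Matrix.fromBlocks ((-gy A p m r ℓ) • (1 : Matrix (Fin m) (Fin m) _)) 0 0
        ((gy A p m r ℓ) • (1 : Matrix Unit Unit _)) := by
    refine Matrix.ext fun j k => ?_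
    rcases j with j | j <;> rcases k with k | k
    · simp only [Matrix.of_apply, glueDv, glueLead, glueRel, Sum.elim_inl,
        Matrix.fromBlocks_apply₁₁, Matrix.smul_apply, smul_eq_mul, Matrix.one_apply]
      have h0 : pderiv (Sum.inr (Sum.inr (Sum.inr (ℓ, k))) : GW p m r)
          (rename Sum.inl (f' j) : MvPolynomial (GW p m r) A) = 0 := by
        apply pderiv_eq_zero_of_notMem_vars
        intro h
        have h' := (vars_rename Sum.inl (f' j)) h
        simp at h'
      rw [map_sub, h0, zero_sub, map_sum]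
      have h1 : ∀ i : Fin r, pderiv (Sum.inr (Sum.inr (Sum.inr (ℓ, k))) : GW p m r)
          (gy A p m r i * gt A p m r i j) =
          if i = ℓ then (if j = k then gy A p m r ℓ else 0) else 0 := by
        intro i
        rw [gy, gt, Derivation.leibniz, pderiv_X, pderiv_X]
        by_cases hi : i = ℓ
        · subst hi
          by_cases hjk : j = k
          · subst hjk
            simp [gy]
          · simp [hjk]
        · simp [hi]
      simp only [h1, Finset.sum_ite_eq', Finset.mem_univ, if_true]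
      by_cases hjk : j = k
      · simp [hjk]
      · simp [hjk]
    · simp only [Matrix.of_apply, glueDv, glueLead, glueRel, Sum.elim_inl, Sum.elim_inr,
        Matrix.fromBlocks_apply₁₂, Matrix.zero_apply]
      have h0 : pderiv (Sum.inr (Sum.inr (Sum.inl ())) : GW p m r)
          (rename Sum.inl (f' j) : MvPolynomial (GW p m r) A) = 0 := by
        apply pderiv_eq_zero_of_notMem_vars
        intro h
        have h' := (vars_rename Sum.inl (f' j)) h
        simp at h'
      rw [map_sub, h0, zero_sub, map_sum, neg_eq_zero]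
      refine Finset.sum_eq_zero fun i _ => ?_
      rw [gy, gt, Derivation.leibniz, pderiv_X, pderiv_X]
      simp
    · simp only [Matrix.of_apply, glueDv, glueLead, glueRel, Sum.elim_inl, Sum.elim_inr,
        Matrix.fromBlocks_apply₂₁, Matrix.zero_apply]
      rw [gz, gy, Derivation.leibniz, pderiv_X, pderiv_X]
      simp
    · simp only [Matrix.of_apply, glueDv, glueLead, glueRel, Sum.elim_inr,
        Matrix.fromBlocks_apply₂₂, Matrix.smul_apply, smul_eq_mul, Matrix.one_apply]
      rw [gz, gy, Derivation.leibniz, pderiv_X, pderiv_X]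
      simp
  rw [hM, Matrix.det_fromBlocks_zero₁₂, Matrix.det_smul, Matrix.det_smul, Matrix.det_one,
    Matrix.det_one, mul_one, mul_one, Fintype.card_fin, Fintype.card_unit, pow_one]

instance glue_fp (f' : Fin m → MvPolynomial (Fin p) A) :
    Algebra.FinitePresentation A (GlueAlg r f') :=
  Algebra.FinitePresentation.quotient
    (Submodule.fg_span (Set.finite_range (glueRel r f')))

theorem glue_y_mem (f' : Fin m → MvPolynomial (Fin p) A) (ℓ : Fin r) :
    (Ideal.Quotient.mk (Ideal.span (Set.range (glueRel r f'))) (gy A p m r ℓ)) ∈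
      Smoothing.singularIdeal A (GlueAlg r f') := by
  classical
  set I : Ideal (MvPolynomial (GW p m r) A) := Ideal.span (Set.range (glueRel r f')) with hI
  have hstd : IsElementaryStandard A (GlueAlg r f')
      (Ideal.Quotient.mk I (gy A p m r ℓ ^ (m + 2))) := by
    refine isElementaryStandard_of_data (B := GlueAlg r f') (glueRel r f')
      (Ideal.Quotient.mkₐ A I) (Ideal.Quotient.mkₐ_surjective A I) ?_ (glueLead ℓ)
      (glueLead_injective ℓ) (glueDv p ℓ) (glueDv_injective ℓ) _
      (Ideal.Quotient.mk I ((-1) ^ m * gy A p m r ℓ)) ?_ ?_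
    · ext x
      simp only [AlgHom.toRingHom_eq_coe, Ideal.Quotient.mkₐ_ker]
      exact Iff.rfl
    · rw [glue_det]
      show Ideal.Quotient.mk I _ = _ * Ideal.Quotient.mk I _
      rw [← map_mul]
      congr 1
      have h2 : ((-1 : MvPolynomial (GW p m r) A) ^ m) * (-1) ^ m = 1 := by
        rw [← mul_pow]; simp
      rw [neg_pow]
      calc gy A p m r ℓ ^ (m + 2) = 1 * gy A p m r ℓ ^ (m + 2) := by rw [one_mul]
        _ = ((-1 : MvPolynomial (GW p m r) A) ^ m) * (-1) ^ m * gy A p m r ℓ ^ (m + 2) := by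
            rw [h2]
        _ = _ := by ring
    · intro bt hbt j
      have hdiff : bt - gy A p m r ℓ ^ (m + 2) ∈ I := by
        rw [← Ideal.Quotient.eq]
        exact hbt
      have hrelj : glueRel r f' j ∈ I := Ideal.subset_span ⟨j, rfl⟩
      have h6 : bt * glueRel r f' j = (bt - gy A p m r ℓ ^ (m + 2)) * glueRel r f' j +
          gy A p m r ℓ ^ (m + 2) * glueRel r f' j := by ring
      rw [h6]
      refine Ideal.add_mem _ (Ideal.mem_sup_right ?_) (Ideal.mem_sup_left ?_)
      · rw [pow_two]
        exact Ideal.mul_mem_mul hdiff hrelj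
      · rcases j with j | i
        · exact Ideal.mul_mem_left _ _ (Ideal.subset_span ⟨Sum.inl j, rfl⟩)
        · have : gy A p m r ℓ ^ (m + 2) * glueRel r f' (Sum.inr i) =
              (gy A p m r ℓ ^ (m + 1) * gy A p m r i) * glueRel r f' (glueLead ℓ (Sum.inr ())) := by
            simp only [glueRel, glueLead, Sum.elim_inr]
            ring
          rw [this]
          exact Ideal.mul_mem_left _ _ (Ideal.subset_span ⟨Sum.inr (), rfl⟩)
  have h1 := Groth.Agent.Lib.helper10.SingIdeal.mem_singularIdeal_of_isStrictlyStandard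
    (Groth.Agent.Lib.helper10.SingIdeal.isStrictlyStandard_of_isElementaryStandard hstd)
  rw [Smoothing.singularIdeal, PrimeSpectrum.mem_vanishingIdeal] at h1 ⊢
  intro q hq
  have h2 := h1 q hq
  rw [map_pow] at h2
  exact q.2.mem_of_pow_mem _ h2

end Glue

section GlueZ

variable {R A C : Type u} [CommRing R] [CommRing A] [Algebra R A]
  [Algebra.FinitePresentation R A] [CommRing C] [Algebra A C] [Algebra R C] [IsScalarTower R A C]
  {p m r : ℕ}

theorem glue_z_mem (f' : Fin m → MvPolynomial (Fin p) A) (πC : MvPolynomial (Fin p) A →ₐ[A] C)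
    (hπC : Function.Surjective πC) (hkerC : RingHom.ker πC.toRingHom = Ideal.span (Set.range f'))
    (ct : MvPolynomial (Fin p) A) (hsm : Algebra.Smooth R (Localization.Away (πC ct))) :
    Ideal.Quotient.mk (Ideal.span (Set.range (glueRel r f')))
      (gz A p m r * rename Sum.inl ct) ∈ Smoothing.singularIdeal R (GlueAlg r f') := by
  classical
  set I : Ideal (MvPolynomial (GW p m r) A) := Ideal.span (Set.range (glueRel r f')) with hI
  set b : GlueAlg r f' := Ideal.Quotient.mk I (gz A p m r * rename Sum.inl ct) with hb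
  haveI hfpB : Algebra.FinitePresentation R (GlueAlg r f') :=
    Algebra.FinitePresentation.trans R A _
  haveI hfpBb : Algebra.FinitePresentation R (Localization.Away b) :=
    haveI : Algebra.FinitePresentation (GlueAlg r f') (Localization.Away b) :=
      IsLocalization.Away.finitePresentation b
    Algebra.FinitePresentation.trans R (GlueAlg r f') _
  refine mem_singularIdeal_of_smooth_localization_away b ⟨?_, hfpBb⟩
  haveI := hsm
  apply Algebra.FormallySmooth.of_comp_surjective
  intro T _ _ J hJ gb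
  -- facts in the localization
  have hbunit : IsUnit (algebraMap (GlueAlg r f') (Localization.Away b) b) :=
    IsLocalization.Away.algebraMap_isUnit b
  have hbmul : algebraMap (GlueAlg r f') (Localization.Away b) b =
      algebraMap _ _ (Ideal.Quotient.mk I (gz A p m r)) *
      algebraMap _ _ (Ideal.Quotient.mk I (rename Sum.inl ct)) := by
    rw [hb, map_mul, map_mul]
  have hz : IsUnit (algebraMap (GlueAlg r f') (Localization.Away b)
      (Ideal.Quotient.mk I (gz A p m r))) := by
    rw [hbmul] at hbunit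
    exact isUnit_of_mul_isUnit_left hbunit
  have hc : IsUnit (algebraMap (GlueAlg r f') (Localization.Away b)
      (Ideal.Quotient.mk I (rename Sum.inl ct))) := by
    rw [hbmul] at hbunit
    exact isUnit_of_mul_isUnit_right hbunit
  have hy : ∀ i, algebraMap (GlueAlg r f') (Localization.Away b)
      (Ideal.Quotient.mk I (gy A p m r i)) = 0 := by
    intro i
    have h0 : Ideal.Quotient.mk I (gz A p m r * gy A p m r i) = 0 :=
      Ideal.Quotient.eq_zero_iff_mem.mpr (Ideal.subset_span ⟨Sum.inr i, rfl⟩)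
    have h1 := congrArg (algebraMap (GlueAlg r f') (Localization.Away b)) h0
    rw [map_mul, map_mul, map_zero] at h1
    exact (hz.mul_right_eq_zero).mp h1
  -- the map C → B_b
  let κ₀ : MvPolynomial (Fin p) A →ₐ[A] Localization.Away b :=
    (IsScalarTower.toAlgHom A (GlueAlg r f') (Localization.Away b)).comp
      ((Ideal.Quotient.mkₐ A I).comp (rename Sum.inl))
  have hκ₀ : ∀ q, κ₀ q = algebraMap (GlueAlg r f') (Localization.Away b)
      (Ideal.Quotient.mk I (rename Sum.inl q)) := fun q => rfl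
  have hκ₀f : ∀ j, κ₀ (f' j) = 0 := by
    intro j
    rw [hκ₀]
    have h0 : (rename Sum.inl (f' j) : MvPolynomial (GW p m r) A) =
        glueRel r f' (Sum.inl j) + ∑ i, gy A p m r i * gt A p m r i j := by
      simp only [glueRel, Sum.elim_inl, sub_add_cancel]
    have h1 : Ideal.Quotient.mk I (glueRel r f' (Sum.inl j)) = 0 :=
      Ideal.Quotient.eq_zero_iff_mem.mpr (Ideal.subset_span ⟨Sum.inl j, rfl⟩)
    rw [h0, map_add, h1, zero_add, map_sum, map_sum]
    refine Finset.sum_eq_zero fun i _ => ?_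
    rw [map_mul, map_mul, hy i, zero_mul]
  have hle : RingHom.ker πC.toRingHom ≤ RingHom.ker κ₀.toRingHom := by
    rw [hkerC, Ideal.span_le]
    rintro _ ⟨j, rfl⟩
    exact hκ₀f j
  obtain ⟨κ, hκ⟩ := exists_lift_of_surjective πC hπC κ₀ hle
  have hκc : IsUnit ((κ.restrictScalars R) (πC ct)) := by
    show IsUnit (κ (πC ct))
    rw [hκ, hκ₀]
    exact hc
  obtain ⟨κc, hκc'⟩ : ∃ κc : Localization.Away (πC ct) →ₐ[R] Localization.Away b,
      ∀ x, κc (algebraMap C _ x) = κ x :=
    ⟨awayLiftAlg (πC ct) (κ.restrictScalars R) hκc, fun x => awayLiftAlg_algebraMap _ _ _ x⟩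
  obtain ⟨a', ha'⟩ := Algebra.FormallySmooth.comp_surjective R
    (Localization.Away (πC ct)) J hJ (gb.comp κc)
  have ha'' : ∀ x, Ideal.Quotient.mk J (a' x) = gb (κc x) := fun x => AlgHom.congr_fun ha' x
  -- `T` as an `A`-algebra
  letI algAT : Algebra A T :=
    (a'.toRingHom.comp (algebraMap A (Localization.Away (πC ct)))).toAlgebra
  have halgAT : ∀ x : A, algebraMap A T x = a' (algebraMap A (Localization.Away (πC ct)) x) :=
    fun x => rfl
  let ν : C →ₐ[A] T :=
    { toRingHom := a'.toRingHom.comp (algebraMap C (Localization.Away (πC ct)))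
      commutes' := fun x => by
        show a' (algebraMap C _ (algebraMap A C x)) = a' (algebraMap A _ x)
        rw [← IsScalarTower.algebraMap_apply] }
  have hν : ∀ x, ν x = a' (algebraMap C _ x) := fun x => rfl
  obtain ⟨G, hGw, hGy, hGz, hGt⟩ := glue_lift (r := r) f' (T := T)
    (fun k => ν (πC (X k))) (fun _ => 0)
    (Function.surjInv Ideal.Quotient.mk_surjective
      (gb (algebraMap (GlueAlg r f') (Localization.Away b) (Ideal.Quotient.mk I (gz A p m r)))))
    (fun ij => Function.surjInv Ideal.Quotient.mk_surjective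
      (gb (algebraMap (GlueAlg r f') (Localization.Away b)
        (Ideal.Quotient.mk I (gt A p m r ij.1 ij.2)))))
    (fun j => by
      have h0 : aeval (fun k => ν (πC (X k))) (f' j) = ν (πC (f' j)) := by
        have := MvPolynomial.comp_aeval_apply (R := A) (X : Fin p → MvPolynomial (Fin p) A)
          (ν.comp πC) (f' j)
        rw [aeval_X_left_apply] at this
        exact this.symm
      have h1 : πC (f' j) = 0 := by
        have : f' j ∈ RingHom.ker πC.toRingHom := by
          rw [hkerC]; exact Ideal.subset_span ⟨j, rfl⟩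
        exact this
      rw [h0, h1, map_zero]
      simp)
    (fun i => mul_zero _)
  -- compatibility of the lift
  have hcompat : ∀ x : GlueAlg r f', Ideal.Quotient.mk J (G x) =
      gb (algebraMap (GlueAlg r f') (Localization.Away b) x) := by
    have hA : ∀ x : A, gb (algebraMap A (Localization.Away b) x) =
        Ideal.Quotient.mk J (algebraMap A T x) := by
      intro x
      rw [halgAT, ha'', IsScalarTower.algebraMap_apply A C (Localization.Away (πC ct)), hκc',
        AlgHom.commutes]
    let Φ₁ : GlueAlg r f' →ₐ[A] T ⧸ J := (Ideal.Quotient.mkₐ A J).comp G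
    let Φ₂ : GlueAlg r f' →ₐ[A] T ⧸ J :=
      { toRingHom := gb.toRingHom.comp (algebraMap (GlueAlg r f') (Localization.Away b))
        commutes' := fun x => by
          show gb (algebraMap (GlueAlg r f') (Localization.Away b) (algebraMap A _ x)) = _
          rw [← IsScalarTower.algebraMap_apply, hA]
          rfl }
    have hΦ : Φ₁ = Φ₂ := by
      apply Ideal.Quotient.algHom_ext
      apply MvPolynomial.algHom_ext
      rintro (k | i | u | ⟨i, j⟩)
      · show Ideal.Quotient.mk J (G (Ideal.Quotient.mk I (X (Sum.inl k)))) =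
          gb (algebraMap _ _ (Ideal.Quotient.mk I (X (Sum.inl k))))
        rw [hGw, hν, ha'', hκc', hκ, hκ₀, rename_X]
      · show Ideal.Quotient.mk J (G (Ideal.Quotient.mk I (gy A p m r i))) =
          gb (algebraMap _ _ (Ideal.Quotient.mk I (gy A p m r i)))
        rw [hGy, hy, map_zero, map_zero]
      · show Ideal.Quotient.mk J (G (Ideal.Quotient.mk I (gz A p m r))) =
          gb (algebraMap _ _ (Ideal.Quotient.mk I (gz A p m r)))
        rw [hGz]
        exact Function.surjInv_eq Ideal.Quotient.mk_surjective _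
      · show Ideal.Quotient.mk J (G (Ideal.Quotient.mk I (gt A p m r i j))) =
          gb (algebraMap _ _ (Ideal.Quotient.mk I (gt A p m r i j)))
        rw [hGt]
        exact Function.surjInv_eq Ideal.Quotient.mk_surjective _
    intro x
    exact AlgHom.congr_fun hΦ x
  haveI : IsScalarTower R A T := IsScalarTower.of_algebraMap_eq (fun x => by
    rw [halgAT, ← IsScalarTower.algebraMap_apply, AlgHom.commutes])
  have hGu : IsUnit ((G.restrictScalars R) b) := by
    show IsUnit (G b)
    rw [← IsNilpotent.isUnit_quotient_mk_iff (I := J) ⟨2, hJ⟩, hcompat]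
    exact hbunit.map gb
  refine ⟨awayLiftAlg b (G.restrictScalars R) hGu, ?_⟩
  apply away_algHom_ext b
  intro x
  rw [AlgHom.comp_apply, awayLiftAlg_algebraMap]
  exact hcompat x

end GlueZ

section DimZero

theorem dim_zero_core {R A Λ C : Type u} [CommRing R] [CommRing A] [Algebra R A]
    [Algebra.FinitePresentation R A] [CommRing Λ] [Algebra R Λ] (φ : A →ₐ[R] Λ) (𝔮 : Ideal Λ)
    [𝔮.IsPrime] {r : ℕ} (a : Fin r → A) (N : ℕ) (lam : Λ)
    (hspan : Ideal.span (Set.range a) = Smoothing.singularIdeal R A) (hlam : lam ∉ 𝔮)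
    (hkill : ∀ ℓ, lam * φ (a ℓ) ^ N = 0)
    [CommRing C] [Algebra R C] [Algebra.FinitePresentation R C] (gC : A →ₐ[R] C) (hC : C →ₐ[R] Λ)
    (hcomp : hC.comp gC = φ) (hnot : ¬ (Smoothing.singularIdeal R C).map hC ≤ 𝔮) :
    Smoothing.Resolvable R φ 𝔮 := by
  classical
  letI algAC : Algebra A C := gC.toRingHom.toAlgebra
  haveI : IsScalarTower R A C := IsScalarTower.of_algebraMap_eq (fun x => (gC.commutes x).symm)
  haveI : Algebra.FinitePresentation A C :=
    Algebra.FinitePresentation.of_restrict_scalars_finitePresentation R A C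
  obtain ⟨p, πC, hπC, hfg⟩ := Algebra.FinitePresentation.out (R := A) (A := C)
  obtain ⟨S, hS⟩ := hfg
  let f' : Fin S.card → MvPolynomial (Fin p) A :=
    fun j => (S.equivFin.symm j : MvPolynomial (Fin p) A)
  have hrange : Set.range f' = (S : Set (MvPolynomial (Fin p) A)) := by
    ext x
    constructor
    · rintro ⟨j, rfl⟩
      exact (S.equivFin.symm j).2
    · intro hx
      exact ⟨S.equivFin ⟨x, hx⟩, by simp [f']⟩
  have hkerC : RingHom.ker πC.toRingHom = Ideal.span (Set.range f') := by
    rw [hrange, hS]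
  -- the smooth point of `C`
  rw [Ideal.map_le_iff_le_comap, SetLike.not_le_iff_exists] at hnot
  obtain ⟨c, hc, hc'⟩ := hnot
  rw [Ideal.mem_comap] at hc'
  obtain ⟨ct, rfl⟩ := hπC c
  have hsm : Algebra.Smooth R (Localization.Away (πC ct)) := smooth_away_of_mem_singularIdeal hc
  -- `Λ` as an `A`-algebra
  letI algAΛ : Algebra A Λ := φ.toRingHom.toAlgebra
  haveI : IsScalarTower R A Λ := IsScalarTower.of_algebraMap_eq (fun x => (φ.commutes x).symm)
  let hC' : C →ₐ[A] Λ :=
    { toRingHom := hC.toRingHom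
      commutes' := fun x => by
        show hC (gC x) = φ x
        rw [← hcomp]; rfl }
  have hfz : ∀ j, πC (f' j) = 0 := by
    intro j
    have : f' j ∈ RingHom.ker πC.toRingHom := by
      rw [hkerC]; exact Ideal.subset_span ⟨j, rfl⟩
    exact this
  have haev : ∀ q : MvPolynomial (Fin p) A, aeval (fun k => hC' (πC (X k))) q = hC (πC q) := by
    intro q
    have := MvPolynomial.comp_aeval_apply (R := A) (X : Fin p → MvPolynomial (Fin p) A)
      (hC'.comp πC) q
    rw [aeval_X_left_apply] at this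
    exact this.symm
  obtain ⟨h, hhw, hhy, hhz, hht⟩ := glue_lift (r := r) f' (T := Λ)
    (fun k => hC' (πC (X k))) (fun i => φ (a i) ^ N) lam (fun _ => 0)
    (fun j => by
      rw [haev, hfz, map_zero]
      simp)
    hkill
  set I : Ideal (MvPolynomial (GW p S.card r) A) := Ideal.span (Set.range (glueRel r f')) with hI
  haveI hfpB : Algebra.FinitePresentation R (GlueAlg r f') :=
    Algebra.FinitePresentation.trans R A _
  -- (i)
  have hi : ∀ ℓ, algebraMap A (GlueAlg r f') (a ℓ) * Ideal.Quotient.mk I (gy A p S.card r ℓ) ∈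
      Smoothing.singularIdeal R (GlueAlg r f') := by
    intro ℓ
    refine mem_singularIdeal_of_smooth_away _ ?_
    intro Q hQ hnot
    have h1 : Ideal.Quotient.mk I (gy A p S.card r ℓ) ∉ Q := fun h => hnot (Q.mul_mem_left _ h)
    have h2 : algebraMap A (GlueAlg r f') (a ℓ) ∉ Q := fun h => hnot (Q.mul_mem_right _ h)
    have hq : Algebra.IsSmoothAt A Q := by
      have := glue_y_mem (r := r) f' ℓ
      rw [Smoothing.singularIdeal, PrimeSpectrum.mem_vanishingIdeal] at this
      by_contra hcon
      exact h1 (this ⟨Q, hQ⟩ hcon)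
    have hp : Algebra.IsSmoothAt R (Q.under A) := by
      have h3 : a ℓ ∈ Smoothing.singularIdeal R A := by
        rw [← hspan]; exact Ideal.subset_span ⟨ℓ, rfl⟩
      rw [Smoothing.singularIdeal, PrimeSpectrum.mem_vanishingIdeal] at h3
      by_contra hcon
      exact h2 (h3 ⟨Q.under A, inferInstance⟩ hcon)
    exact isSmoothAt_comp Q (Q.under A) hp hq
  -- (ii)
  have hii := glue_z_mem (R := R) (r := r) f' πC hπC hkerC ct hsm
  have hhct : h (Ideal.Quotient.mk I (rename Sum.inl ct)) = hC (πC ct) := by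
    have := MvPolynomial.comp_aeval_apply (R := A) (X : Fin p → MvPolynomial (Fin p) A)
      (h.comp ((Ideal.Quotient.mkₐ A I).comp (rename Sum.inl))) ct
    rw [aeval_X_left_apply] at this
    rw [← haev]
    refine this.trans ?_
    congr 2
    funext k
    show h (Ideal.Quotient.mk I (rename Sum.inl (X k))) = _
    rw [rename_X, hhw]
  refine ⟨GlueAlg r f', inferInstance, inferInstance, hfpB,
    IsScalarTower.toAlgHom R A (GlueAlg r f'), h.restrictScalars R, ?_, ?_, ?_⟩
  · ext x
    show h (algebraMap A (GlueAlg r f') x) = φ x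
    rw [AlgHom.commutes]
    rfl
  · rw [Smoothing.singRad, Smoothing.singRad, Ideal.radical_le_radical_iff, ← hspan,
      Ideal.map_span, Ideal.span_le]
    rintro _ ⟨_, ⟨ℓ, rfl⟩, rfl⟩
    refine ⟨N + 1, ?_⟩
    have h4 := Ideal.mem_map_of_mem (h.restrictScalars R) (hi ℓ)
    have h5 : (h.restrictScalars R) (algebraMap A (GlueAlg r f') (a ℓ) *
        Ideal.Quotient.mk I (gy A p S.card r ℓ)) = φ (a ℓ) ^ (N + 1) := by
      show h (algebraMap A (GlueAlg r f') (a ℓ) * Ideal.Quotient.mk I (gy A p S.card r ℓ)) = _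
      rw [map_mul, AlgHom.commutes, hhy, pow_succ']
      rfl
    rw [h5] at h4
    exact h4
  · intro hle
    have h4 := Ideal.mem_map_of_mem (h.restrictScalars R) hii
    have h5 : (h.restrictScalars R) (Ideal.Quotient.mk I
        (gz A p S.card r * rename Sum.inl ct)) = lam * hC (πC ct) := by
      show h (Ideal.Quotient.mk I (gz A p S.card r * rename Sum.inl ct)) = _
      rw [map_mul, map_mul, hhz, hhct]
    rw [h5] at h4
    have h6 : lam * hC (πC ct) ∈ 𝔮 := hle (Ideal.le_radical h4)
    rcases (inferInstance : 𝔮.IsPrime).mem_or_mem h6 with h7 | h7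
    · exact hlam h7
    · exact hc' h7

end DimZero

end Groth.Agent.Lib.Helper22.Pop
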