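import Mathlib
import Groth.Agent.Lib.helper19.StdRetract

/-!
# Kaehler differentials of a symmetric algebra; the split cotangent sequence
-/

set_option autoImplicit false
set_option linter.style.haveILetI false
set_option linter.unusedSectionVars false

universe u

namespace Groth.Agent.Lib.Helper22.Pop

open TensorProduct KaehlerDifferential

section SymKaehler

variable {S M T : Type*} [CommRing S] [AddCommGroup M] [Module S M] [CommRing T] [Algebra S T]
  {f : M →ₗ[S] T} (hf : IsSymmetricAlgebra f)

/-- the algebra map `T → T ⊕ ε (T ⊗ M)`, `f m ↦ f m + ε (1 ⊗ m)`. -/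
noncomputable def symTsz : T →ₐ[S] TrivSqZeroExt T (T ⊗[S] M) :=
  hf.lift ((TrivSqZeroExt.inlAlgHom S T (T ⊗[S] M)).toLinearMap ∘ₗ f +
    ((TrivSqZeroExt.inrHom T (T ⊗[S] M)).restrictScalars S) ∘ₗ (TensorProduct.mk S T M 1))

theorem symTsz_apply (m : M) :
    symTsz hf (f m) = TrivSqZeroExt.inl (f m) + TrivSqZeroExt.inr ((1 : T) ⊗ₜ[S] m) := by
  rw [symTsz, IsSymmetricAlgebra.lift_eq]
  rfl

theorem symTsz_fst (t : T) : (symTsz hf t).fst = t := by
  have h : (TrivSqZeroExt.fstHom S T (T ⊗[S] M)).comp (symTsz hf) = AlgHom.id S T := by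
    apply hf.algHom_ext
    ext m
    simp [symTsz_apply]
  exact congr($h t)

/-- the universal derivation of a symmetric algebra. -/
noncomputable def symDer : Derivation S T (T ⊗[S] M) where
  toLinearMap := ((TrivSqZeroExt.sndHom T (T ⊗[S] M)).restrictScalars S) ∘ₗ (symTsz hf).toLinearMap
  map_one_eq_zero' := by simp
  leibniz' a b := by
    simp only [LinearMap.coe_comp, LinearMap.coe_restrictScalars, Function.comp_apply,
      AlgHom.toLinearMap_apply, map_mul, TrivSqZeroExt.sndHom_apply, TrivSqZeroExt.snd_mul,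
      symTsz_fst, op_smul_eq_smul]

theorem symDer_apply (m : M) : symDer hf (f m) = (1 : T) ⊗ₜ[S] m := by
  show ((symTsz hf) (f m)).snd = _
  rw [symTsz_apply]
  simp

theorem liftBaseChange_symDer (t : T) :
    LinearMap.liftBaseChange T ((D S T).toLinearMap ∘ₗ f) (symDer hf t) = D S T t := by
  induction t using hf.induction with
  | algebraMap r => simp
  | ι m =>
    rw [symDer_apply, LinearMap.liftBaseChange_tmul, one_smul]
    rfl
  | mul x y hx hy =>
    rw [Derivation.leibniz, map_add, map_smul, map_smul, hx, hy, Derivation.leibniz]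
  | add x y hx hy =>
    rw [map_add, map_add, hx, hy, map_add]

/-- `Ω[Sym M / S] ≃ Sym M ⊗ M`. -/
noncomputable def kaehlerSymEquiv : Ω[T⁄S] ≃ₗ[T] T ⊗[S] M := by
  refine LinearEquiv.ofLinear (symDer hf).liftKaehlerDifferential
    (LinearMap.liftBaseChange T ((D S T).toLinearMap ∘ₗ f)) ?_ ?_
  · apply TensorProduct.AlgebraTensorModule.ext
    intro t m
    simp only [LinearMap.comp_apply, LinearMap.liftBaseChange_tmul, LinearMap.id_apply, map_smul,
      Derivation.coeFn_coe, Derivation.liftKaehlerDifferential_comp_D, symDer_apply]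
    rw [TensorProduct.smul_tmul', smul_eq_mul, mul_one]
  · apply Derivation.liftKaehlerDifferential_unique
    apply Derivation.ext
    intro t
    show LinearMap.liftBaseChange T ((D S T).toLinearMap ∘ₗ f)
      ((symDer hf).liftKaehlerDifferential (D S T t)) = D S T t
    rw [Derivation.liftKaehlerDifferential_comp_D, liftBaseChange_symDer]

end SymKaehler

section Split

variable (R S T : Type*) [CommRing R] [CommRing S] [CommRing T] [Algebra R S] [Algebra R T]
  [Algebra S T] [IsScalarTower R S T]

/-- For `T` formally smooth over `S`, the cotangent sequence of `R → S → T` is split exact. -/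
theorem nonempty_kaehler_split [Algebra.FormallySmooth S T] :
    Nonempty (Ω[T⁄R] ≃ₗ[T] (T ⊗[S] Ω[S⁄R]) × Ω[T⁄S]) := by
  have hex := KaehlerDifferential.exact_mapBaseChange_map R S T
  have hinj : Function.Injective (mapBaseChange R S T) := by
    rw [injective_iff_map_eq_zero]
    intro x hx
    obtain ⟨y, rfl⟩ := (Algebra.H1Cotangent.exact_δ_mapBaseChange R S T x).mp hx
    rw [Subsingleton.elim y 0, map_zero]
  obtain ⟨l, hl⟩ := Module.projective_lifting_property (KaehlerDifferential.map R S T T)
    LinearMap.id (KaehlerDifferential.map_surjective R S T)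
  exact ⟨(hex.splitSurjectiveEquiv hinj ⟨l, hl⟩).1⟩

end Split

end Groth.Agent.Lib.Helper22.Pop
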