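import Mathlib
import Groth.Agent.Lib.Helper22.PopZc

/-!
# The localization of a symmetric algebra is a symmetric algebra
-/

set_option autoImplicit false
set_option linter.style.haveILetI false
set_option linter.unusedSectionVars false

universe u

namespace Groth.Agent.Lib.Helper22.Pop

open TensorProduct

section LocSym

variable (A : Type u) [CommRing A] (K : Type u) [AddCommGroup K] [Module A K] (a : A)
  (S T : Type u) [CommRing S] [CommRing T] [Algebra A S] [IsLocalization.Away a S]
  [Algebra (SymmetricAlgebra A K) T]
  [IsLocalization.Away (algebraMap A (SymmetricAlgebra A K) a) T]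
  [Algebra A T] [IsScalarTower A (SymmetricAlgebra A K) T] [Algebra S T] [IsScalarTower A S T]

/-- the structure map `S ⊗ K → (Sym K)_a`. -/
noncomputable def locSymMap : S ⊗[A] K →ₗ[S] T :=
  LinearMap.liftBaseChange S
    ((IsScalarTower.toAlgHom A (SymmetricAlgebra A K) T).toLinearMap ∘ₗ SymmetricAlgebra.ι A K)

theorem locSymMap_tmul (s : S) (k : K) :
    locSymMap A K S T (s ⊗ₜ k) =
      s • algebraMap (SymmetricAlgebra A K) T (SymmetricAlgebra.ι A K k) := by
  rw [locSymMap, LinearMap.liftBaseChange_tmul]
  rfl

/-- the map `Sym_A K → Sym_S (S ⊗ K)`. -/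
noncomputable def symBC : SymmetricAlgebra A K →ₐ[A] SymmetricAlgebra S (S ⊗[A] K) :=
  SymmetricAlgebra.lift
    (((SymmetricAlgebra.ι S (S ⊗[A] K)).restrictScalars A) ∘ₗ (TensorProduct.mk A S K 1))

theorem symBC_ι (k : K) :
    symBC A K S (SymmetricAlgebra.ι A K k) = SymmetricAlgebra.ι S (S ⊗[A] K) ((1 : S) ⊗ₜ k) := by
  rw [symBC, SymmetricAlgebra.lift_ι_apply]
  rfl

include a in
theorem isSymmetricAlgebra_locSymMap : IsSymmetricAlgebra (locSymMap A K S T) := by
  have hunit : IsUnit ((symBC A K S).toRingHom (algebraMap A (SymmetricAlgebra A K) a)) := by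
    have h1 : (symBC A K S).toRingHom (algebraMap A (SymmetricAlgebra A K) a) =
        algebraMap S (SymmetricAlgebra S (S ⊗[A] K)) (algebraMap A S a) := by
      show (symBC A K S) (algebraMap A (SymmetricAlgebra A K) a) = _
      rw [AlgHom.commutes, IsScalarTower.algebraMap_apply A S (SymmetricAlgebra S (S ⊗[A] K))]
    rw [h1]
    exact (IsLocalization.Away.algebraMap_isUnit (S := S) a).map _
  let g : T →+* SymmetricAlgebra S (S ⊗[A] K) :=
    IsLocalization.Away.lift (algebraMap A (SymmetricAlgebra A K) a) hunit
  have hg : ∀ c : SymmetricAlgebra A K, g (algebraMap _ T c) = symBC A K S c := fun c =>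
    IsLocalization.Away.lift_eq _ hunit c
  let L : SymmetricAlgebra S (S ⊗[A] K) →ₐ[S] T := SymmetricAlgebra.lift (locSymMap A K S T)
  have hgS : ∀ s : S, g (algebraMap S T s) = algebraMap S (SymmetricAlgebra S (S ⊗[A] K)) s := by
    have : (g.comp (algebraMap S T)) = algebraMap S (SymmetricAlgebra S (S ⊗[A] K)) := by
      apply IsLocalization.ringHom_ext (Submonoid.powers a)
      ext x
      simp only [RingHom.comp_apply]
      rw [← IsScalarTower.algebraMap_apply A S T, IsScalarTower.algebraMap_apply A
        (SymmetricAlgebra A K) T, hg, AlgHom.commutes,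
        ← IsScalarTower.algebraMap_apply A S (SymmetricAlgebra S (S ⊗[A] K))]
    exact fun s => congr($this s)
  -- L ∘ g = id
  have h1 : ∀ t : T, L (g t) = t := by
    have : (L.toRingHom.comp g) = RingHom.id T := by
      apply IsLocalization.ringHom_ext
        (Submonoid.powers (algebraMap A (SymmetricAlgebra A K) a))
      have h2 : ((L.restrictScalars A).comp (symBC A K S)) =
          IsScalarTower.toAlgHom A (SymmetricAlgebra A K) T := by
        apply SymmetricAlgebra.algHom_ext
        ext k
        show (SymmetricAlgebra.lift (locSymMap A K S T))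
          (symBC A K S (SymmetricAlgebra.ι A K k)) =
            algebraMap _ T (SymmetricAlgebra.ι A K k)
        rw [symBC_ι, SymmetricAlgebra.lift_ι_apply, locSymMap_tmul, one_smul]
      ext c
      simp only [RingHom.comp_apply, RingHom.id_apply]
      rw [hg]
      exact congr($h2 c)
    exact fun t => congr($this t)
  -- g ∘ L = id
  let gA : T →ₐ[S] SymmetricAlgebra S (S ⊗[A] K) := { g with commutes' := hgS }
  have h2 : ∀ y, g (L y) = y := by
    have : gA.comp L = AlgHom.id S _ := by
      apply SymmetricAlgebra.algHom_ext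
      apply TensorProduct.AlgebraTensorModule.ext
      intro s k
      simp only [LinearMap.comp_apply, AlgHom.toLinearMap_apply, AlgHom.comp_apply,
        AlgHom.id_apply]
      show g ((SymmetricAlgebra.lift (locSymMap A K S T)) _) = _
      rw [SymmetricAlgebra.lift_ι_apply, locSymMap_tmul, Algebra.smul_def, map_mul, hgS, hg,
        symBC_ι, ← Algebra.smul_def, ← map_smul, TensorProduct.smul_tmul', smul_eq_mul, mul_one]
      rfl
    exact fun y => congr($this y)
  exact ⟨Function.LeftInverse.injective h2, Function.RightInverse.surjective h1⟩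

end LocSym

end Groth.Agent.Lib.Helper22.Pop
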