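import Mathlib
import Groth.Agent.Lib.Helper22.PopZd

/-!
# Stacks 07CF: the symmetric algebra on the kernel of `Aⁿ → Ω` has free differentials
over the smooth locus.
-/

set_option autoImplicit false
set_option linter.style.haveILetI false
set_option linter.unusedSectionVars false

universe u

namespace Groth.Agent.Lib.Helper22.Pop

open TensorProduct KaehlerDifferential
open Groth.Agent.Lib.helper19.StdRetract (piMap formallySmooth_sym smooth_sym adjoin_range_ι)

section Core

variable (R : Type u) {A : Type u} [CommRing R] [CommRing A] [Algebra R A] {n : ℕ} (x : Fin n → A)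

/-- the split of `S ⊗ Aⁿ` over the smooth locus. -/
theorem nonempty_split_loc (hx : Function.Surjective (piMap R x)) (a : A)
    (S : Type u) [CommRing S] [Algebra A S] [IsLocalization.Away a S] [Algebra R S]
    [IsScalarTower R A S] [Algebra.FormallySmooth R S] :
    Nonempty ((S ⊗[A] (Fin n → A)) ≃ₗ[S]
      (S ⊗[A] LinearMap.ker (piMap R x)) × (S ⊗[A] Ω[A⁄R])) := by
  haveI : Module.Flat A S := IsLocalization.flat S (Submonoid.powers a)
  haveI : Algebra.FormallyEtale A S := Algebra.FormallyEtale.of_isLocalization (Submonoid.powers a)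
  haveI : Module.Projective S (S ⊗[A] Ω[A⁄R]) :=
    Module.Projective.of_equiv (tensorKaehlerEquivOfFormallyEtale R A S).symm
  have hex : Function.Exact ((LinearMap.ker (piMap R x)).subtype.baseChange S)
      ((piMap R x).baseChange S) := by
    have := Module.Flat.lTensor_exact S (LinearMap.exact_subtype_ker_map (piMap R x))
    intro y
    exact this y
  have hinj : Function.Injective ((LinearMap.ker (piMap R x)).subtype.baseChange S) :=
    Module.Flat.lTensor_preserves_injective_linearMap (M := S) _ (Submodule.subtype_injective _)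
  have hsurj : Function.Surjective ((piMap R x).baseChange S) :=
    LinearMap.lTensor_surjective S hx
  obtain ⟨l, hl⟩ := Module.projective_lifting_property ((piMap R x).baseChange S)
    LinearMap.id hsurj
  exact ⟨(hex.splitSurjectiveEquiv hinj ⟨l, hl⟩).1⟩

theorem sym_ker_core (hx : Function.Surjective (piMap R x)) (a : A)
    (S T : Type u) [CommRing S] [CommRing T] [Algebra A S] [IsLocalization.Away a S] [Algebra R S]
    [IsScalarTower R A S]
    [Algebra (SymmetricAlgebra A (LinearMap.ker (piMap R x))) T]
    [IsLocalization.Away (algebraMap A (SymmetricAlgebra A (LinearMap.ker (piMap R x))) a) T]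
    [Algebra A T] [IsScalarTower A (SymmetricAlgebra A (LinearMap.ker (piMap R x))) T]
    [Algebra S T] [IsScalarTower A S T] [Algebra R T] [IsScalarTower R S T]
    [Algebra.Smooth R S] [Module.Finite A (LinearMap.ker (piMap R x))] :
    Algebra.Smooth R T ∧ Module.Free T Ω[T⁄R] := by
  obtain ⟨e4⟩ := nonempty_split_loc R x hx a S
  -- `M = S ⊗ K` is finite projective
  haveI : Module.Projective S (S ⊗[A] LinearMap.ker (piMap R x)) :=
    Module.Projective.of_split (e4.symm.toLinearMap ∘ₗ LinearMap.inl S _ _)
      (LinearMap.fst S _ _ ∘ₗ e4.toLinearMap) (by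
        refine LinearMap.ext fun m => ?_
        simp only [LinearMap.comp_apply, LinearEquiv.coe_coe, LinearEquiv.apply_symm_apply,
          LinearMap.inl_apply, LinearMap.fst_apply, LinearMap.id_apply])
  haveI : Module.Finite S (S ⊗[A] LinearMap.ker (piMap R x)) := Module.Finite.base_change A S _
  have hsym := isSymmetricAlgebra_locSymMap A (LinearMap.ker (piMap R x)) a S T
  haveI : Algebra.Smooth S (SymmetricAlgebra S (S ⊗[A] LinearMap.ker (piMap R x))) :=
    smooth_sym S _
  haveI : Algebra.Smooth S T := Algebra.Smooth.of_equiv hsym.equiv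
  haveI : Algebra.FormallySmooth S T := inferInstance
  refine ⟨Algebra.Smooth.comp R S T, ?_⟩
  obtain ⟨e1⟩ := nonempty_kaehler_split R S T
  haveI : Algebra.FormallyEtale A S := Algebra.FormallyEtale.of_isLocalization (Submonoid.powers a)
  let e2 : Ω[T⁄S] ≃ₗ[T] T ⊗[S] (S ⊗[A] LinearMap.ker (piMap R x)) := kaehlerSymEquiv hsym
  let e3 : (T ⊗[S] Ω[S⁄R]) ≃ₗ[T] T ⊗[S] (S ⊗[A] Ω[A⁄R]) :=
    TensorProduct.AlgebraTensorModule.congr (LinearEquiv.refl T T)
      (tensorKaehlerEquivOfFormallyEtale R A S).symm
  let e5 : T ⊗[S] (S ⊗[A] (Fin n → A)) ≃ₗ[T]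
      (T ⊗[S] (S ⊗[A] LinearMap.ker (piMap R x))) × (T ⊗[S] (S ⊗[A] Ω[A⁄R])) :=
    (TensorProduct.AlgebraTensorModule.congr (LinearEquiv.refl T T) e4).trans
      (TensorProduct.prodRight S T T _ _)
  let e : Ω[T⁄R] ≃ₗ[T] T ⊗[S] (S ⊗[A] (Fin n → A)) :=
    e1.trans (((LinearEquiv.prodCongr e3 e2).trans (LinearEquiv.prodComm T _ _)).trans e5.symm)
  exact Module.Free.of_equiv e.symm

end Core

section Final

theorem finiteType_sym (A K : Type*) [CommRing A] [AddCommGroup K] [Module A K] [Module.Finite A K] :
    Algebra.FiniteType A (SymmetricAlgebra A K) := by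
  classical
  obtain ⟨s, hs⟩ := (Module.finite_def (R := A) (M := K)).1 inferInstance
  refine ⟨⟨s.image (SymmetricAlgebra.ι A K), ?_⟩⟩
  rw [eq_top_iff, ← adjoin_range_ι A K, Algebra.adjoin_le_iff]
  rintro _ ⟨k, rfl⟩
  have hk : k ∈ Submodule.span A (s : Set K) := by rw [hs]; trivial
  have : Submodule.span A (s : Set K) ≤
      (Subalgebra.toSubmodule (Algebra.adjoin A
        ((s.image (SymmetricAlgebra.ι A K) : Finset _) : Set (SymmetricAlgebra A K)))).comap
        (SymmetricAlgebra.ι A K) := by
    rw [Submodule.span_le]
    intro y hy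
    exact Algebra.subset_adjoin (by simpa using ⟨y, hy, rfl⟩)
  exact this hk

theorem away_tower_instances' {R A C : Type u} [CommRing R] [CommRing A] [CommRing C] [Algebra R A]
    [Algebra A C] [Algebra R C] [IsScalarTower R A C] (a : A)
    (S T : Type u) [CommRing S] [CommRing T] [Algebra A S] [IsLocalization.Away a S] [Algebra R S]
    [IsScalarTower R A S] [Algebra C T] [IsLocalization.Away (algebraMap A C a) T] [Algebra A T]
    [IsScalarTower A C T] [Algebra R T] [IsScalarTower R C T] :
    ∃ (_ : Algebra S T), IsScalarTower A S T ∧ IsScalarTower R S T := by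
  have hunit : IsUnit (algebraMap A T a) := by
    rw [IsScalarTower.algebraMap_apply A C T]
    exact IsLocalization.Away.algebraMap_isUnit _
  letI alg : Algebra S T := (IsLocalization.Away.lift (S := S) a hunit).toAlgebra
  have h1 : IsScalarTower A S T :=
    IsScalarTower.of_algebraMap_eq fun y => (IsLocalization.Away.lift_eq (S := S) a hunit y).symm
  refine ⟨alg, h1, IsScalarTower.of_algebraMap_eq fun r => ?_⟩
  rw [IsScalarTower.algebraMap_apply R A S, ← IsScalarTower.algebraMap_apply A S T,
    IsScalarTower.algebraMap_apply A C T, ← IsScalarTower.algebraMap_apply R A C,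
    ← IsScalarTower.algebraMap_apply R C T]

theorem away_tower_instances {R A C : Type u} [CommRing R] [CommRing A] [CommRing C] [Algebra R A]
    [Algebra A C] [Algebra R C] [IsScalarTower R A C] (a : A) :
    ∃ (_ : Algebra (Localization.Away a) (Localization.Away (algebraMap A C a))),
      IsScalarTower A (Localization.Away a) (Localization.Away (algebraMap A C a)) ∧
      IsScalarTower R (Localization.Away a) (Localization.Away (algebraMap A C a)) :=
  away_tower_instances' (R := R) (A := A) (C := C) a (Localization.Away a)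
    (Localization.Away (algebraMap A C a))

theorem exists_retract_free {R A : Type u} [CommRing R] [CommRing A] [Algebra R A]
    [Algebra.FinitePresentation R A] :
    ∃ (C : Type u) (_ : CommRing C) (_ : Algebra A C) (_ : Algebra R C) (_ : IsScalarTower R A C),
      Algebra.FiniteType A C ∧ Nonempty (C →ₐ[A] A) ∧
      ∀ a : A, Algebra.Smooth R (Localization.Away a) →
        Algebra.Smooth R (Localization.Away (algebraMap A C a)) ∧
        Module.Free (Localization.Away (algebraMap A C a))
          Ω[Localization.Away (algebraMap A C a)⁄R] := by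
  classical
  obtain ⟨n, f, hf⟩ := Algebra.FiniteType.iff_quotient_mvPolynomial''.mp
    (inferInstance : Algebra.FiniteType R A)
  let x : Fin n → A := fun i => f (MvPolynomial.X i)
  have hspan : Submodule.span A (Set.range fun i => D R A (x i)) = ⊤ := by
    rw [eq_top_iff, ← KaehlerDifferential.span_range_derivation, Submodule.span_le]
    rintro _ ⟨y, rfl⟩
    obtain ⟨p, rfl⟩ := hf y
    induction p using MvPolynomial.induction_on with
    | C r => simp [← MvPolynomial.algebraMap_eq]
    | add p q hp hq => rw [map_add, map_add]; exact Submodule.add_mem _ hp hq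
    | mul_X p i hp =>
      rw [map_mul, Derivation.leibniz]
      exact Submodule.add_mem _ (Submodule.smul_mem _ _ (Submodule.subset_span ⟨i, rfl⟩))
        (Submodule.smul_mem _ _ hp)
  have hπ : Function.Surjective (piMap R x) := by
    rw [← LinearMap.range_eq_top, piMap, Fintype.range_linearCombination, hspan]
  haveI : Module.Finite A (LinearMap.ker (piMap R x)) :=
    Module.Finite.iff_fg.2 (Module.FinitePresentation.fg_ker (piMap R x) hπ)
  refine ⟨SymmetricAlgebra A (LinearMap.ker (piMap R x)), inferInstance, inferInstance,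
    inferInstance, inferInstance, finiteType_sym A _, ⟨SymmetricAlgebra.algebraMapInv⟩, ?_⟩
  intro a hsm
  haveI := hsm
  obtain ⟨alg, h1, h2⟩ := away_tower_instances (R := R)
    (C := SymmetricAlgebra A (LinearMap.ker (piMap R x))) a
  letI := alg
  exact sym_ker_core R x hπ a (Localization.Away a) _

end Final

end Groth.Agent.Lib.Helper22.Pop
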