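import Mathlib
import Groth.Agent.Lib.Helper22.PopK
import Groth.Agent.Lib.Helper22.PopG

/-!
# Presentations and smoothness of a localization: the conormal splitting in elementary form
-/

set_option autoImplicit false
set_option linter.style.haveILetI false
set_option linter.unusedSectionVars false

universe u

namespace Groth.Agent.Lib.Helper22.Pop

open MvPolynomial KaehlerDifferential

section ChainRule

variable {R S : Type*} [CommRing R] [CommRing S] [Algebra R S] {ι : Type*} [Fintype ι]
  [DecidableEq ι] {M : Type*} [AddCommGroup M] [Module R M] [Module S M] [IsScalarTower R S M]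

/-- the chain rule for a derivation composed with an algebra map from a polynomial ring. -/
theorem derivation_algHom_eq_sum (ψ : MvPolynomial ι R →ₐ[R] S) (d : Derivation R S M)
    (p : MvPolynomial ι R) :
    d (ψ p) = ∑ v, ψ (pderiv v p) • d (ψ (X v)) := by
  induction p using MvPolynomial.induction_on with
  | C r =>
    simp only [pderiv_C, map_zero, zero_smul, Finset.sum_const_zero]
    rw [← MvPolynomial.algebraMap_eq, AlgHom.commutes, Derivation.map_algebraMap]
  | add p q hp hq =>
    simp only [map_add, add_smul, Finset.sum_add_distrib, hp, hq]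
  | mul_X p i hp =>
    have h1 : ∀ v, ψ (pderiv v (p * X i)) • d (ψ (X v)) =
        (if v = i then ψ p • d (ψ (X i)) else 0) +
          ψ (X i) • (ψ (pderiv v p) • d (ψ (X v))) := by
      intro v
      rw [Derivation.leibniz, pderiv_X, smul_eq_mul, smul_eq_mul, map_add, map_mul, map_mul,
        add_smul]
      congr 1
      · by_cases hv : v = i
        · subst hv; simp
        · simp [hv, Pi.single_eq_of_ne hv]
      · rw [smul_smul]
    rw [map_mul, Derivation.leibniz, hp]
    simp only [h1, Finset.sum_add_distrib, Finset.sum_ite_eq', Finset.mem_univ, if_true,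
      Finset.smul_sum]

end ChainRule

section KA

variable {R A : Type u} [CommRing R] [CommRing A] [Algebra R A] {ι : Type} [Fintype ι]
  [DecidableEq ι] (φ : MvPolynomial ι R →ₐ[R] A) (hφ : Function.Surjective φ)

include hφ in
/-- the kernel of `A^ι → Ω[A/R]` consists of the Jacobian rows of the relations. -/
theorem exists_mem_ker_pderiv (w : ι → A) (hw : ∑ v, w v • D R A (φ (X v)) = 0) :
    ∃ G ∈ RingHom.ker φ, ∀ v, w v = φ (pderiv v G) := by
  have hae : (aeval fun v => φ (X v) : MvPolynomial ι R →ₐ[R] A) = φ := by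
    apply MvPolynomial.algHom_ext
    intro v
    rw [aeval_X]
  let P₀ : Algebra.Generators R A ι :=
    Algebra.Generators.ofSurjective (fun v => φ (X v)) (by rw [hae]; exact hφ)
  have hval : ∀ v, P₀.val v = φ (X v) := fun v => rfl
  let c : P₀.toExtension.CotangentSpace := ∑ v, w v • P₀.cotangentSpaceBasis v
  have hc : P₀.toExtension.toKaehler c = 0 := by
    simp only [c, map_sum, map_smul, Algebra.Generators.toKaehler_cotangentSpaceBasis, hval]
    exact hw
  obtain ⟨y, hy⟩ := (Algebra.Extension.exact_cotangentComplex_toKaehler c).1 hc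
  obtain ⟨g, rfl⟩ := Algebra.Extension.Cotangent.mk_surjective y
  refine ⟨g.1, ?_, fun v => ?_⟩
  · have h2 : algebraMap P₀.Ring A g.1 = 0 := g.2
    rw [Algebra.Generators.algebraMap_apply] at h2
    rw [RingHom.mem_ker, ← h2]
    show φ g.1 = aeval (fun v => φ (X v)) g.1
    rw [hae]
  · have h1 : P₀.cotangentSpaceBasis.repr c v = w v := by
      simp only [c, map_sum, map_smul, Module.Basis.repr_self, Finsupp.coe_finset_sum,
        Finsupp.coe_smul, Finset.sum_apply, Pi.smul_apply, smul_eq_mul]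
      rw [Finset.sum_eq_single v]
      · simp
      · intro v' _ hv'
        simp [Finsupp.single_eq_of_ne hv'.symm]
      · intro h; exact absurd (Finset.mem_univ v) h
    rw [← h1, ← hy, Algebra.Extension.cotangentComplex_mk,
      Algebra.Generators.cotangentSpaceBasis_repr_one_tmul]
    show aeval (fun v => φ (X v)) (pderiv v g.1) = φ (pderiv v g.1)
    rw [hae]

end KA

section Loc

variable {R A : Type u} [CommRing R] [CommRing A] [Algebra R A] {ι : Type} [Fintype ι]
  [DecidableEq ι] (φ : MvPolynomial ι R →ₐ[R] A) (hφ : Function.Surjective φ)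
  (a : A) (S : Type u) [CommRing S] [Algebra A S] [IsLocalization.Away a S] [Algebra R S]
  [IsScalarTower R A S]

/-- the composite `R[x] → A → A_a`. -/
noncomputable def locHom : MvPolynomial ι R →ₐ[R] S := (IsScalarTower.toAlgHom R A S).comp φ

theorem locHom_apply (p : MvPolynomial ι R) : locHom φ S p = algebraMap A S (φ p) := rfl

include hφ in
/-- the kernel of `S^ι → Ω[S/R]` consists, up to powers of `a`, of Jacobian rows of relations. -/
theorem exists_pow_mul_eq_pderiv (w : ι → S) (hw : ∑ v, w v • D R S (locHom φ S (X v)) = 0) :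
    ∃ (t : ℕ) (G : MvPolynomial ι R), G ∈ RingHom.ker φ ∧
      ∀ v, algebraMap A S a ^ t * w v = locHom φ S (pderiv v G) := by
  obtain ⟨⟨b, n, rfl⟩, hb⟩ :=
    IsLocalization.exist_integer_multiples_of_finite (Submonoid.powers a) w
  choose w' hw' using hb
  have hw'' : ∀ v, algebraMap A S (w' v) = algebraMap A S a ^ n * w v := by
    intro v
    rw [hw' v]
    show (a ^ n) • w v = _
    rw [Algebra.smul_def, map_pow]
  have h1 : KaehlerDifferential.map R R A S (∑ v, w' v • D R A (φ (X v))) = 0 := by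
    simp only [map_sum, map_smul, KaehlerDifferential.map_D]
    have : ∀ v, w' v • D R S (algebraMap A S (φ (X v))) =
        algebraMap A S a ^ n • (w v • D R S (locHom φ S (X v))) := by
      intro v
      rw [← algebraMap_smul S (w' v), hw'', smul_smul]
      rfl
    simp only [this, ← Finset.smul_sum, hw, smul_zero]
  obtain ⟨⟨_, k, rfl⟩, hk⟩ :=
    (IsLocalizedModule.eq_zero_iff (Submonoid.powers a) (KaehlerDifferential.map R R A S)).1 h1
  have h2 : ∑ v, (a ^ k * w' v) • D R A (φ (X v)) = 0 := by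
    rw [← hk, Submonoid.smul_def, Finset.smul_sum]
    refine Finset.sum_congr rfl fun v _ => ?_
    rw [smul_smul]
  obtain ⟨G, hG, hGw⟩ := exists_mem_ker_pderiv φ hφ _ h2
  refine ⟨k + n, G, hG, fun v => ?_⟩
  rw [locHom_apply, ← hGw v, map_mul, map_pow, hw'', pow_add, mul_assoc]

include hφ in
/-- **Conormal retraction in elementary form**: if `A_a` is formally smooth over `R`, then the
Jacobian map on `I/I²` has a retraction after inverting `a`. -/
theorem exists_conormal_retraction [Algebra.FormallySmooth R S] (a' : MvPolynomial ι R)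
    (ha' : φ a' = a) {σ : Type} [Fintype σ] (gen : σ → MvPolynomial ι R)
    (hker : RingHom.ker φ = Ideal.span (Set.range gen)) :
    ∃ (e₁ : ℕ) (E : ι → MvPolynomial ι R), (∀ v, E v ∈ RingHom.ker φ) ∧
      ∀ g ∈ RingHom.ker φ, a' ^ e₁ * g - ∑ v, pderiv v g * E v ∈ RingHom.ker φ ^ 2 := by
  classical
  have hunit : IsUnit (locHom φ S a') := by
    rw [locHom_apply, ha']
    exact IsLocalization.Away.algebraMap_isUnit a
  let ψ' : Localization.Away a' →ₐ[R] S := awayLiftAlg a' (locHom φ S) hunit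
  have hψ' : ∀ p, ψ' (algebraMap _ (Localization.Away a') p) = locHom φ S p := fun p =>
    awayLiftAlg_algebraMap a' (locHom φ S) hunit p
  -- surjectivity
  have hψ'surj : Function.Surjective ψ' := by
    intro s
    obtain ⟨⟨x, ⟨_, n, rfl⟩⟩, hx⟩ := IsLocalization.surj (Submonoid.powers a) s
    obtain ⟨p, rfl⟩ := hφ x
    refine ⟨IsLocalization.mk' (Localization.Away a') p
      (⟨a' ^ n, n, rfl⟩ : Submonoid.powers a'), ?_⟩
    have h1 : ψ' (IsLocalization.mk' (Localization.Away a') p
        (⟨a' ^ n, n, rfl⟩ : Submonoid.powers a')) * algebraMap A S (a ^ n) =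
        s * algebraMap A S (a ^ n) := by
      have h2 := IsLocalization.mk'_spec (Localization.Away a') p
        (⟨a' ^ n, n, rfl⟩ : Submonoid.powers a')
      have h3 := congrArg ψ' h2
      rw [map_mul, hψ', hψ', locHom_apply, locHom_apply, map_pow, ha'] at h3
      rw [h3]
      exact hx.symm
    have hu : IsUnit (algebraMap A S (a ^ n)) := by
      rw [map_pow]
      exact (IsLocalization.Away.algebraMap_isUnit a).pow n
    exact hu.mul_left_injective h1
  -- the kernel of `ψ'`
  have hker1 : ∀ y, ψ' y = 0 → y ∈ (RingHom.ker φ).map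
      (algebraMap (MvPolynomial ι R) (Localization.Away a')) := by
    intro y hy
    obtain ⟨⟨p, ⟨_, n, rfl⟩⟩, hp⟩ := IsLocalization.surj (Submonoid.powers a') y
    have h1 : locHom φ S p = 0 := by
      rw [← hψ', ← hp, map_mul, hy, zero_mul]
    rw [locHom_apply, IsLocalization.map_eq_zero_iff (Submonoid.powers a)] at h1
    obtain ⟨⟨_, k, rfl⟩, hk⟩ := h1
    have h2 : a' ^ k * p ∈ RingHom.ker φ := by
      rw [RingHom.mem_ker, map_mul, map_pow, ha']
      exact hk
    have hu : IsUnit (algebraMap (MvPolynomial ι R) (Localization.Away a') (a' ^ (n + k))) := by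
      rw [map_pow]
      exact (IsLocalization.Away.algebraMap_isUnit a').pow _
    have h3 : y * algebraMap (MvPolynomial ι R) (Localization.Away a') (a' ^ (n + k)) ∈
        (RingHom.ker φ).map (algebraMap (MvPolynomial ι R) (Localization.Away a')) := by
      have : y * algebraMap (MvPolynomial ι R) (Localization.Away a') (a' ^ (n + k)) =
          algebraMap (MvPolynomial ι R) (Localization.Away a') (a' ^ k * p) := by
        rw [pow_add, map_mul, ← mul_assoc, hp, map_mul, mul_comm]
      rw [this]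
      exact Ideal.mem_map_of_mem _ h2
    obtain ⟨u, hu'⟩ := hu
    have : y = y * algebraMap (MvPolynomial ι R) (Localization.Away a') (a' ^ (n + k)) *
        ((u⁻¹ : (Localization.Away a')ˣ) : Localization.Away a') := by
      rw [← hu', mul_assoc, Units.mul_inv, mul_one]
    rw [this]
    exact Ideal.mul_mem_right _ _ h3
  have hker2 : (RingHom.ker φ).map (algebraMap (MvPolynomial ι R) (Localization.Away a')) ≤
      RingHom.ker (ψ' : Localization.Away a' →+* S) := by
    rw [Ideal.map_le_iff_le_comap]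
    intro p hp
    rw [Ideal.mem_comap, RingHom.mem_ker]
    show ψ' _ = 0
    rw [hψ', locHom_apply, (RingHom.mem_ker).1 hp, map_zero]
  let J2 : Ideal (Localization.Away a') :=
    (RingHom.ker φ ^ 2).map (algebraMap (MvPolynomial ι R) (Localization.Away a'))
  have hJ2 : ∀ y ∈ J2, ψ' y = 0 := by
    intro y hy
    have : J2 ≤ (RingHom.ker φ).map (algebraMap (MvPolynomial ι R) (Localization.Away a')) :=
      Ideal.map_mono (Ideal.pow_le_self two_ne_zero)
    exact hker2 (this hy)
  let g : (Localization.Away a' ⧸ J2) →ₐ[R] S := Ideal.Quotient.liftₐ J2 ψ' hJ2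
  have hgmk : ∀ y, g (Ideal.Quotient.mk J2 y) = ψ' y := fun y => rfl
  have hgsurj : Function.Surjective g := by
    intro s
    obtain ⟨y, rfl⟩ := hψ'surj s
    exact ⟨Ideal.Quotient.mk J2 y, hgmk y⟩
  have hkerg : ∀ z, g z = 0 → ∃ y ∈ (RingHom.ker φ).map
      (algebraMap (MvPolynomial ι R) (Localization.Away a')), z = Ideal.Quotient.mk J2 y := by
    intro z hz
    obtain ⟨y, rfl⟩ := Ideal.Quotient.mk_surjective z
    exact ⟨y, hker1 y (by rwa [hgmk] at hz), rfl⟩
  have hsq : ∀ z₁ z₂, g z₁ = 0 → g z₂ = 0 → z₁ * z₂ = 0 := by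
    intro z₁ z₂ h₁ h₂
    obtain ⟨y₁, hy₁, rfl⟩ := hkerg z₁ h₁
    obtain ⟨y₂, hy₂, rfl⟩ := hkerg z₂ h₂
    rw [← map_mul, Ideal.Quotient.eq_zero_iff_mem]
    show y₁ * y₂ ∈ (RingHom.ker φ ^ 2).map _
    rw [Ideal.map_pow, pow_two]
    exact Ideal.mul_mem_mul hy₁ hy₂
  have hsq' : RingHom.ker (g : (Localization.Away a' ⧸ J2) →+* S) ^ 2 = ⊥ := by
    rw [eq_bot_iff, pow_two, Ideal.mul_le]
    intro z₁ h₁ z₂ h₂
    rw [Ideal.mem_bot]
    exact hsq z₁ z₂ h₁ h₂
  have hnil : IsNilpotent (RingHom.ker (g : (Localization.Away a' ⧸ J2) →+* S)) := ⟨2, hsq'⟩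
  let sec : S →ₐ[R] (Localization.Away a' ⧸ J2) :=
    Algebra.FormallySmooth.liftOfSurjective (AlgHom.id R S) g hgsurj hnil
  have hsec : ∀ s, g (sec s) = s := fun s =>
    Algebra.FormallySmooth.liftOfSurjective_apply (AlgHom.id R S) g hgsurj hnil s
  let mkB : MvPolynomial ι R →ₐ[R] (Localization.Away a' ⧸ J2) :=
    (Ideal.Quotient.mkₐ R J2).comp (IsScalarTower.toAlgHom R (MvPolynomial ι R) (Localization.Away a'))
  have hmkB : ∀ p, mkB p = Ideal.Quotient.mk J2 (algebraMap _ (Localization.Away a') p) :=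
    fun p => rfl
  have hgmkB : ∀ p, g (mkB p) = locHom φ S p := fun p => by rw [hmkB, hgmk, hψ']
  let bb : ι → (Localization.Away a' ⧸ J2) := fun v => mkB (X v)
  let ξ : ι → (Localization.Away a' ⧸ J2) := fun v => sec (locHom φ S (X v))
  let hh : ι → (Localization.Away a' ⧸ J2) := fun v => bb v - ξ v
  have hhg : ∀ v, g (hh v) = 0 := fun v => by
    simp only [hh, bb, ξ, map_sub, hgmkB, hsec, sub_self]
  have hbb : ∀ p, aeval bb p = mkB p := by
    intro p
    have : (aeval bb : MvPolynomial ι R →ₐ[R] _) = mkB := by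
      apply MvPolynomial.algHom_ext
      intro v
      rw [aeval_X]
    rw [this]
  have hξ : ∀ p, aeval ξ p = sec (locHom φ S p) := by
    intro p
    have : (aeval ξ : MvPolynomial ι R →ₐ[R] _) = sec.comp (locHom φ S) := by
      apply MvPolynomial.algHom_ext
      intro v
      rw [aeval_X]
      rfl
    rw [this]
    rfl
  have hsum : ξ + hh = bb := by
    funext v
    simp only [Pi.add_apply, hh]
    ring
  -- the key identity
  have key : ∀ g₀ ∈ RingHom.ker φ, mkB g₀ = ∑ v, mkB (pderiv v g₀) * hh v := by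
    intro g₀ hg₀
    have h1 := taylor2 (R := R) ξ hh (RingHom.ker (g : (Localization.Away a' ⧸ J2) →+* S))
      (fun v => (RingHom.mem_ker).2 (hhg v)) g₀
    have h2 : aeval (ξ + hh) g₀ - aeval ξ g₀ - ∑ v, aeval ξ (pderiv v g₀) * hh v = 0 := by
      rw [hsq', Ideal.mem_bot] at h1
      exact h1
    rw [hsum, hbb, hξ, locHom_apply, (RingHom.mem_ker).1 hg₀, map_zero, map_zero, sub_zero,
      sub_eq_zero] at h2
    rw [h2]
    refine Finset.sum_congr rfl fun v _ => ?_
    rw [hξ]
    have h4 : (mkB (pderiv v g₀) - sec (locHom φ S (pderiv v g₀))) * hh v = 0 :=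
      hsq _ _ (by rw [map_sub, hgmkB, hsec, sub_self]) (hhg v)
    rw [sub_mul, sub_eq_zero] at h4
    exact h4.symm
  -- lift the `hh v`
  have hy : ∀ v, ∃ (n : ℕ) (E₀ : MvPolynomial ι R), E₀ ∈ RingHom.ker φ ∧
      hh v * mkB (a' ^ n) = mkB E₀ := by
    intro v
    obtain ⟨y, hyI, hyv⟩ := hkerg (hh v) (hhg v)
    obtain ⟨⟨⟨E₀, hE₀⟩, ⟨_, n, rfl⟩⟩, hx⟩ :=
      (IsLocalization.mem_map_algebraMap_iff (Submonoid.powers a') (Localization.Away a')).1 hyI
    refine ⟨n, E₀, hE₀, ?_⟩
    rw [hyv, hmkB, hmkB, ← map_mul]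
    exact congrArg _ hx
  choose n E₀ hE₀ hnE using hy
  let N : ℕ := ∑ v, n v
  have hnN : ∀ v, n v ≤ N := fun v => Finset.single_le_sum (fun _ _ => Nat.zero_le _)
    (Finset.mem_univ v)
  let E₁ : ι → MvPolynomial ι R := fun v => a' ^ (N - n v) * E₀ v
  have hE₁ : ∀ v, E₁ v ∈ RingHom.ker φ := fun v => Ideal.mul_mem_left _ _ (hE₀ v)
  have hNE : ∀ v, hh v * mkB (a' ^ N) = mkB (E₁ v) := by
    intro v
    have : a' ^ N = a' ^ n v * a' ^ (N - n v) := by
      rw [← pow_add, Nat.add_sub_cancel' (hnN v)]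
    rw [this, map_mul, ← mul_assoc, hnE, ← map_mul, mul_comm]
  have key2 : ∀ g₀ ∈ RingHom.ker φ, ∃ t : ℕ,
      a' ^ t * (a' ^ N * g₀ - ∑ v, pderiv v g₀ * E₁ v) ∈ RingHom.ker φ ^ 2 := by
    intro g₀ hg₀
    have h1 : mkB (a' ^ N * g₀ - ∑ v, pderiv v g₀ * E₁ v) = 0 := by
      rw [map_sub, map_mul, key g₀ hg₀, map_sum, Finset.mul_sum, sub_eq_zero]
      refine Finset.sum_congr rfl fun v _ => ?_
      rw [map_mul, ← hNE v]
      ring
    rw [hmkB, Ideal.Quotient.eq_zero_iff_mem] at h1
    obtain ⟨_, ⟨t, rfl⟩, ht⟩ := (IsLocalization.algebraMap_mem_map_algebraMap_iff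
      (Submonoid.powers a') (Localization.Away a') _ _).1 h1
    exact ⟨t, ht⟩
  choose t ht using fun j : σ => key2 (gen j) (by rw [hker]; exact Ideal.subset_span ⟨j, rfl⟩)
  let T : ℕ := ∑ j, t j
  have htT : ∀ j, t j ≤ T := fun j => Finset.single_le_sum (fun _ _ => Nat.zero_le _)
    (Finset.mem_univ j)
  refine ⟨T + N, fun v => a' ^ T * E₁ v, fun v => Ideal.mul_mem_left _ _ (hE₁ v), ?_⟩
  intro g₀ hg₀
  have hg₀' : g₀ ∈ Ideal.span (Set.range gen) := by rw [← hker]; exact hg₀
  induction hg₀' using Submodule.span_induction with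
  | mem x hx =>
    obtain ⟨j, rfl⟩ := hx
    have : a' ^ (T + N) * gen j - ∑ v, pderiv v (gen j) * (a' ^ T * E₁ v) =
        a' ^ (T - t j) * (a' ^ t j * (a' ^ N * gen j - ∑ v, pderiv v (gen j) * E₁ v)) := by
      rw [← mul_assoc, ← pow_add, Nat.sub_add_cancel (htT j), mul_sub, Finset.mul_sum, pow_add,
        mul_assoc]
      congr 1
      refine Finset.sum_congr rfl fun v _ => ?_
      ring
    rw [this]
    exact Ideal.mul_mem_left _ _ (ht j)
  | zero => simp
  | add x y hx hy hx' hy' =>
    have hxI : x ∈ RingHom.ker φ := by rw [hker]; exact hx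
    have hyI : y ∈ RingHom.ker φ := by rw [hker]; exact hy
    have : a' ^ (T + N) * (x + y) - ∑ v, pderiv v (x + y) * (a' ^ T * E₁ v) =
        (a' ^ (T + N) * x - ∑ v, pderiv v x * (a' ^ T * E₁ v)) +
        (a' ^ (T + N) * y - ∑ v, pderiv v y * (a' ^ T * E₁ v)) := by
      simp only [map_add, add_mul, Finset.sum_add_distrib]
      ring
    rw [this]
    exact Ideal.add_mem _ (hx' hxI) (hy' hyI)
  | smul c x hx hx' =>
    have hxI : x ∈ RingHom.ker φ := by rw [hker]; exact hx
    have : a' ^ (T + N) * (c • x) - ∑ v, pderiv v (c • x) * (a' ^ T * E₁ v) =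
        c * (a' ^ (T + N) * x - ∑ v, pderiv v x * (a' ^ T * E₁ v)) -
        x * ∑ v, pderiv v c * (a' ^ T * E₁ v) := by
      simp only [smul_eq_mul, Derivation.leibniz, add_mul, Finset.sum_add_distrib, mul_sub,
        Finset.mul_sum]
      ring_nf
    rw [this]
    refine Ideal.sub_mem _ (Ideal.mul_mem_left _ _ (hx' hxI)) ?_
    rw [pow_two]
    exact Ideal.mul_mem_mul hxI (Ideal.sum_mem _ fun v _ =>
      Ideal.mul_mem_left _ _ (Ideal.mul_mem_left _ _ (hE₁ v)))

end Loc

end Groth.Agent.Lib.Helper22.Pop
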