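import Groth.Agent.Lib.Helper22.PopV

/-!
# Strictly standard elements from presentation data over arbitrary finite index types
-/

set_option autoImplicit false
set_option linter.style.haveILetI false
set_option linter.unusedSectionVars false

namespace Groth.Agent.Lib.Helper22.Pop

open MvPolynomial Smoothing

universe u

variable {R B : Type u} [CommRing R] [CommRing B] [Algebra R B]

/-- transport of a presentation with arbitrary finite index types to a marked presentation. -/
noncomputable def markedOfData {ι σ : Type} [Fintype ι] [Fintype σ]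
    (rel : σ → MvPolynomial ι R) (hom : MvPolynomial ι R →ₐ[R] B)
    (hsurj : Function.Surjective hom)
    (hker : RingHom.ker hom.toRingHom = Ideal.span (Set.range rel))
    (eι : ι ≃ Fin (Fintype.card ι)) (eσ : σ ≃ Fin (Fintype.card σ)) (c : ℕ)
    (hcn : c ≤ Fintype.card ι) (hcm : c ≤ Fintype.card σ) : MarkedPresentation R B :=
  { n := Fintype.card ι
    m := Fintype.card σ
    c := c
    hcn := hcn
    hcm := hcm
    rel := fun j => rename eι (rel (eσ.symm j))
    hom := hom.comp (rename eι.symm)
    surj := by
      intro y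
      obtain ⟨x, rfl⟩ := hsurj y
      refine ⟨rename eι x, ?_⟩
      rw [AlgHom.comp_apply, rename_rename]
      simp
    ker_eq := by
      have hrr : ∀ x : MvPolynomial ι R, rename eι.symm (rename eι x) = x := by
        intro x; rw [rename_rename]; simp
      have hrr' : ∀ x : MvPolynomial (Fin (Fintype.card ι)) R,
          rename eι (rename eι.symm x) = x := by
        intro x; rw [rename_rename]; simp
      ext x
      have h1 : x ∈ RingHom.ker (hom.comp (rename eι.symm)).toRingHom ↔
          rename eι.symm x ∈ Ideal.span (Set.range rel) := by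
        rw [← hker, RingHom.mem_ker, RingHom.mem_ker]
        rfl
      rw [h1]
      constructor
      · intro h
        have := Ideal.mem_map_of_mem (rename eι : MvPolynomial ι R →ₐ[R] _).toRingHom h
        rw [Ideal.map_span] at this
        have e : (rename eι : MvPolynomial ι R →ₐ[R] _).toRingHom (rename eι.symm x) = x :=
          hrr' x
        rw [e] at this
        refine Ideal.span_mono ?_ this
        rintro _ ⟨_, ⟨j, rfl⟩, rfl⟩
        exact ⟨eσ j, by simp⟩
      · intro h
        have := Ideal.mem_map_of_mem
          (rename eι.symm : MvPolynomial (Fin (Fintype.card ι)) R →ₐ[R] _).toRingHom h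
        rw [Ideal.map_span] at this
        refine Ideal.span_mono ?_ this
        rintro _ ⟨_, ⟨j, rfl⟩, rfl⟩
        exact ⟨eσ.symm j, (hrr _).symm⟩ }

theorem isStrictlyStandard_of_data {ι σ τ : Type} [Fintype ι] [Fintype σ] [Fintype τ]
    [DecidableEq τ]
    (rel : σ → MvPolynomial ι R) (hom : MvPolynomial ι R →ₐ[R] B)
    (hsurj : Function.Surjective hom)
    (hker : RingHom.ker hom.toRingHom = Ideal.span (Set.range rel))
    (lead : τ → σ) (hlead : Function.Injective lead)
    (b : B)
    (hb : b ∈ Ideal.span (Set.range fun dv : τ → ι =>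
      hom (Matrix.det (Matrix.of fun j k : τ => pderiv (dv k) (rel (lead j))))))
    (hk : ∀ bt : MvPolynomial ι R, hom bt = b → ∀ j : σ,
      bt * rel j ∈ Ideal.span (Set.range (rel ∘ lead)) ⊔ Ideal.span (Set.range rel) ^ 2) :
    IsStrictlyStandard R B b := by
  classical
  have hcm : Fintype.card τ ≤ Fintype.card σ := Fintype.card_le_of_injective lead hlead
  let eτ := Fintype.equivFin τ
  let eι := Fintype.equivFin ι
  obtain ⟨eσ, heσ⟩ := exists_equiv_fin_extend lead hlead eτ hcm
  have hrr : ∀ x : MvPolynomial ι R, rename eι.symm (rename eι x) = x := by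
    intro x; rw [rename_rename]; simp
  have hrr' : ∀ x : MvPolynomial (Fin (Fintype.card ι)) R, rename eι (rename eι.symm x) = x := by
    intro x; rw [rename_rename]; simp
  by_cases hcn : Fintype.card τ ≤ Fintype.card ι
  · let P := markedOfData rel hom hsurj hker eι eσ (Fintype.card τ) hcn hcm
    refine ⟨P, ?_, ?_⟩
    · refine (Ideal.span_le.2 ?_) hb
      rintro _ ⟨dv, rfl⟩
      refine Ideal.subset_span ⟨fun k => eι (dv (eτ.symm k)), ?_⟩
      show hom (rename eι.symm (Smoothing.jacobianMinor (fun j => rename eι (rel (eσ.symm j)))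
        (Fin.castLE hcm) (fun k => eι (dv (eτ.symm k))))) = _
      congr 1
      have : Smoothing.jacobianMinor (fun j => rename eι (rel (eσ.symm j)))
          (Fin.castLE hcm) (fun k => eι (dv (eτ.symm k))) =
          rename eι (Matrix.det (Matrix.of fun j k : τ => pderiv (dv k) (rel (lead j)))) := by
        unfold Smoothing.jacobianMinor
        rw [AlgHom.map_det, ← Matrix.det_submatrix_equiv_self eτ.symm]
        congr 1
        refine Matrix.ext fun j k => ?_
        simp only [Matrix.of_apply, AlgHom.mapMatrix_apply, Matrix.map_apply,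
          Matrix.submatrix_apply]
        have hj : eσ.symm (Fin.castLE hcm j) = lead (eτ.symm j) := by
          rw [Equiv.symm_apply_eq, heσ, Equiv.apply_symm_apply]
        rw [hj, pderiv_rename eι.injective]
      rw [this, hrr]
    · intro (a'' : MvPolynomial (Fin (Fintype.card ι)) R) ha''
        (j : Fin (Fintype.card σ)) hj
      show a'' * rename eι (rel (eσ.symm j)) ∈
        Ideal.span ((fun j => rename eι (rel (eσ.symm j))) '' {j' : Fin (Fintype.card σ) |
          (j' : ℕ) < Fintype.card τ}) ⊔
          Ideal.span (Set.range fun j => rename eι (rel (eσ.symm j))) ^ 2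
      have h1 := hk (rename eι.symm a'') ha'' (eσ.symm j)
      have h2 := Ideal.mem_map_of_mem (rename eι : MvPolynomial ι R →ₐ[R] _).toRingHom h1
      rw [Ideal.map_sup, Ideal.map_pow, Ideal.map_span, Ideal.map_span] at h2
      have e : (rename eι : MvPolynomial ι R →ₐ[R] _).toRingHom
          (rename eι.symm a'' * rel (eσ.symm j)) = a'' * rename eι (rel (eσ.symm j)) := by
        show rename eι (rename eι.symm a'' * rel (eσ.symm j)) = _
        rw [map_mul, hrr']
      rw [e] at h2
      have hle : ∀ {I₁ I₂ J₁ J₂ : Ideal (MvPolynomial (Fin (Fintype.card ι)) R)}, I₁ ≤ I₂ →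
          J₁ ≤ J₂ → I₁ ⊔ J₁ ^ 2 ≤ I₂ ⊔ J₂ ^ 2 :=
        fun h h' => sup_le_sup h (Ideal.pow_right_mono h' 2)
      refine hle (Ideal.span_mono ?_) (Ideal.span_mono ?_) h2
      · rintro _ ⟨_, ⟨k, rfl⟩, rfl⟩
        refine ⟨Fin.castLE hcm (eτ k), by simp, ?_⟩
        show rename eι (rel (eσ.symm (Fin.castLE hcm (eτ k)))) = rename eι (rel (lead k))
        rw [← heσ, Equiv.symm_apply_apply]
      · rintro _ ⟨_, ⟨i, rfl⟩, rfl⟩
        exact ⟨eσ i, by simp⟩
  · -- all minors vanish, so `b = 0`
    have hb0 : b = 0 := by
      have : Ideal.span (Set.range fun dv : τ → ι =>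
          hom (Matrix.det (Matrix.of fun j k : τ => pderiv (dv k) (rel (lead j))))) = ⊥ := by
        rw [Ideal.span_eq_bot]
        rintro _ ⟨dv, rfl⟩
        have hni : ¬ Function.Injective dv := fun h => hcn (Fintype.card_le_of_injective dv h)
        rw [Function.Injective] at hni
        push_neg at hni
        obtain ⟨k₁, k₂, hkk, hne⟩ := hni
        show hom (Matrix.det (Matrix.of fun j k : τ => pderiv (dv k) (rel (lead j)))) = 0
        rw [Matrix.det_zero_of_column_eq hne, map_zero]
        intro j
        simp [hkk]
      rw [this, Ideal.mem_bot] at hb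
      exact hb
    let P := markedOfData rel hom hsurj hker eι eσ 0 (Nat.zero_le _) (Nat.zero_le _)
    refine ⟨P, ?_, ?_⟩
    · rw [hb0]; exact Ideal.zero_mem _
    · intro a'' ha'' j hj
      refine Submodule.mem_sup_right ?_
      have h1 : a'' ∈ Ideal.span (Set.range P.rel) := by
        rw [← P.ker_eq, RingHom.mem_ker]
        show P.hom a'' = 0
        rw [ha'', hb0]
      rw [pow_two]
      exact Ideal.mul_mem_mul h1 (Ideal.subset_span ⟨j, rfl⟩)

end Groth.Agent.Lib.Helper22.Pop
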