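import Mathlib
import Groth.Agent.Lib.Helper22.PopZf
import Groth.Agent.Lib.Helper22.PopZg
import Groth.Agent.Lib.Helper25.CauchyBinet

/-!
# Stacks 07EV core: a free kernel of `S^ι → Ω[S/R]` makes powers of `a` strictly standard
-/

set_option autoImplicit false
set_option linter.style.haveILetI false
set_option linter.unusedSectionVars false

universe u

namespace Groth.Agent.Lib.Helper22.Pop

open MvPolynomial KaehlerDifferential

section Main

variable {R A : Type u} [CommRing R] [CommRing A] [Algebra R A] {ι : Type} [Fintype ι]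
  [DecidableEq ι] (φ : MvPolynomial ι R →ₐ[R] A) (hφ : Function.Surjective φ)
  (a : A) (S : Type u) [CommRing S] [Algebra A S] [IsLocalization.Away a S] [Algebra R S]
  [IsScalarTower R A S]

theorem locHom_eq_zero {g : MvPolynomial ι R} (hg : g ∈ RingHom.ker φ) : locHom φ S g = 0 := by
  rw [locHom_apply, (RingHom.mem_ker).1 hg, map_zero]

theorem locHom_pderiv_mul_of_mem (c g : MvPolynomial ι R) (hg : g ∈ RingHom.ker φ) (v : ι) :
    locHom φ S (pderiv v (c * g)) = locHom φ S c * locHom φ S (pderiv v g) := by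
  rw [Derivation.leibniz, map_add, smul_eq_mul, smul_eq_mul, map_mul, map_mul,
    locHom_eq_zero φ S hg, zero_mul, add_zero]

include hφ in
theorem strictlyStandard_of_free_kernel [Algebra.FormallySmooth R S] (a' : MvPolynomial ι R)
    (ha' : φ a' = a) {σ : Type} [Fintype σ] (gen : σ → MvPolynomial ι R)
    (hker : RingHom.ker φ = Ideal.span (Set.range gen))
    {τ : Type} [Fintype τ] [DecidableEq τ]
    (θ : (τ → S) →ₗ[S] (ι → S)) (Ξ : (ι → S) →ₗ[S] (τ → S))
    (hθπ : ∀ u, ∑ v, θ u v • D R S (locHom φ S (X v)) = 0)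
    (hΞθ : ∀ u, Ξ (θ u) = u)
    (hθΞ : ∀ w : ι → S, ∑ v, w v • D R S (locHom φ S (X v)) = 0 → θ (Ξ w) = w) :
    ∃ e₀ : ℕ, ∀ n, e₀ ≤ n → Smoothing.IsStrictlyStandard R A (a ^ n) := by
  classical
  have hψa : locHom φ S a' = algebraMap A S a := by rw [locHom_apply, ha']
  have hgenI : ∀ j, gen j ∈ RingHom.ker φ := fun j => by
    rw [hker]; exact Ideal.subset_span ⟨j, rfl⟩
  -- Step 1: the leading relations
  have h1 : ∀ l : τ, ∃ (t : ℕ) (G : MvPolynomial ι R), G ∈ RingHom.ker φ ∧
      ∀ v, algebraMap A S a ^ t * θ (fun j => if l = j then 1 else 0) v =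
        locHom φ S (pderiv v G) := fun l =>
    exists_pow_mul_eq_pderiv φ hφ a S _ (hθπ _)
  choose t₀ F₀ hF₀ hF₀' using h1
  let t : ℕ := ∑ l, t₀ l
  have ht₀ : ∀ l, t₀ l ≤ t := fun l => Finset.single_le_sum (fun _ _ => Nat.zero_le _)
    (Finset.mem_univ l)
  let F : τ → MvPolynomial ι R := fun l => a' ^ (t - t₀ l) * F₀ l
  have hF : ∀ l, F l ∈ RingHom.ker φ := fun l => Ideal.mul_mem_left _ _ (hF₀ l)
  have hF' : ∀ l v, algebraMap A S a ^ t * θ (fun j => if l = j then 1 else 0) v =
      locHom φ S (pderiv v (F l)) := by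
    intro l v
    rw [locHom_pderiv_mul_of_mem φ S _ _ (hF₀ l), ← hF₀' l v, map_pow, hψa, ← mul_assoc,
      ← pow_add, Nat.sub_add_cancel (ht₀ l)]
  -- Step 2: injectivity of the conormal map up to powers of `a`
  obtain ⟨e₁, E, hE, hD1⟩ := exists_conormal_retraction φ hφ a S a' ha' gen hker
  have INJ : ∀ H ∈ RingHom.ker φ, (∀ v, locHom φ S (pderiv v H) = 0) →
      ∃ k : ℕ, a' ^ k * H ∈ RingHom.ker φ ^ 2 := by
    intro H hH h0
    have h2 : ∀ v, ∃ k : ℕ, a' ^ k * pderiv v H ∈ RingHom.ker φ := by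
      intro v
      have := h0 v
      rw [locHom_apply, IsLocalization.map_eq_zero_iff (Submonoid.powers a)] at this
      obtain ⟨⟨_, k, rfl⟩, hk⟩ := this
      refine ⟨k, ?_⟩
      rw [RingHom.mem_ker, map_mul, map_pow, ha']
      exact hk
    choose k hk using h2
    let K : ℕ := ∑ v, k v
    have hkK : ∀ v, k v ≤ K := fun v => Finset.single_le_sum (fun _ _ => Nat.zero_le _)
      (Finset.mem_univ v)
    refine ⟨K + e₁, ?_⟩
    have : a' ^ (K + e₁) * H = a' ^ K * (a' ^ e₁ * H - ∑ v, pderiv v H * E v) +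
        ∑ v, (a' ^ K * pderiv v H) * E v := by
      rw [mul_sub, Finset.mul_sum, pow_add, mul_assoc]
      simp only [mul_assoc]
      ring
    rw [this]
    refine Ideal.add_mem _ (Ideal.mul_mem_left _ _ (hD1 H hH)) (Ideal.sum_mem _ fun v _ => ?_)
    rw [pow_two]
    refine Ideal.mul_mem_mul ?_ (hE v)
    have : a' ^ K * pderiv v H = a' ^ (K - k v) * (a' ^ k v * pderiv v H) := by
      rw [← mul_assoc, ← pow_add, Nat.sub_add_cancel (hkK v)]
    rw [this]
    exact Ideal.mul_mem_left _ _ (hk v)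
  -- Step 3: the tail relations
  have tail : ∀ j : σ, ∃ Kj : ℕ, a' ^ Kj * gen j ∈
      Ideal.span (Set.range F) ⊔ RingHom.ker φ ^ 2 := by
    intro j
    let w : ι → S := fun v => locHom φ S (pderiv v (gen j))
    have hw : ∑ v, w v • D R S (locHom φ S (X v)) = 0 := by
      rw [← derivation_algHom_eq_sum (locHom φ S) (D R S) (gen j), locHom_eq_zero φ S (hgenI j),
        map_zero]
    have h3 := hθΞ w hw
    obtain ⟨⟨_, m, rfl⟩, hm⟩ :=
      IsLocalization.exist_integer_multiples_of_finite (Submonoid.powers a) (Ξ w)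
    choose c₀ hc₀ using hm
    choose c' hc' using fun l => hφ (c₀ l)
    have hψc : ∀ l, locHom φ S (c' l) = algebraMap A S a ^ m * Ξ w l := by
      intro l
      rw [locHom_apply, hc', hc₀ l]
      show (a ^ m) • Ξ w l = _
      rw [Algebra.smul_def, map_pow]
    let H : MvPolynomial ι R := a' ^ (m + t) * gen j - ∑ l, c' l * F l
    have hH : H ∈ RingHom.ker φ :=
      Ideal.sub_mem _ (Ideal.mul_mem_left _ _ (hgenI j))
        (Ideal.sum_mem _ fun l _ => Ideal.mul_mem_left _ _ (hF l))
    have hH0 : ∀ v, locHom φ S (pderiv v H) = 0 := by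
      intro v
      simp only [H, map_sub, map_sum]
      rw [locHom_pderiv_mul_of_mem φ S _ _ (hgenI j)]
      simp only [locHom_pderiv_mul_of_mem φ S _ _ (hF _), hψc, ← hF']
      rw [map_pow, hψa]
      have h4 : w v = ∑ l, Ξ w l * θ (fun j => if l = j then 1 else 0) v := by
        conv_lhs => rw [← h3, LinearMap.pi_apply_eq_sum_univ θ (Ξ w)]
        simp only [Finset.sum_apply, Pi.smul_apply, smul_eq_mul]
      show algebraMap A S a ^ (m + t) * w v - _ = 0
      rw [h4, Finset.mul_sum, sub_eq_zero]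
      refine Finset.sum_congr rfl fun l _ => ?_
      rw [pow_add]
      ring
    obtain ⟨k, hk⟩ := INJ H hH hH0
    refine ⟨k + (m + t), ?_⟩
    have : a' ^ (k + (m + t)) * gen j = ∑ l, (a' ^ k * c' l) * F l + a' ^ k * H := by
      simp only [H, mul_sub, Finset.mul_sum, pow_add]
      simp only [mul_assoc]
      ring
    rw [this]
    exact Submodule.add_mem_sup (Ideal.sum_mem _ fun l _ =>
      Ideal.mul_mem_left _ _ (Ideal.subset_span ⟨l, rfl⟩)) hk
  choose Kt hKt using tail
  -- Step 4: the minors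
  have minors : ∃ K₀ : ℕ, a ^ K₀ ∈ Ideal.span (Set.range fun dv : τ → ι =>
      φ (Matrix.det (Matrix.of fun j k : τ => pderiv (dv k) (F j)))) := by
    let Jm : Matrix τ ι S := fun l v => locHom φ S (pderiv v (F l))
    let Ψ : Matrix τ ι S := fun l v => Ξ (fun v' => if v = v' then 1 else 0) l
    have hprod : Ψ * Jm.transpose = algebraMap A S a ^ t • (1 : Matrix τ τ S) := by
      refine Matrix.ext fun l l' => ?_
      rw [Matrix.mul_apply, Matrix.smul_apply, Matrix.one_apply, smul_eq_mul]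
      simp only [Matrix.transpose_apply, Jm, Ψ, ← hF']
      have h5 := hΞθ (fun j => if l' = j then 1 else 0)
      rw [LinearMap.pi_apply_eq_sum_univ Ξ (θ (fun j => if l' = j then 1 else 0))] at h5
      have h6 := congrFun h5 l
      simp only [Finset.sum_apply, Pi.smul_apply, smul_eq_mul] at h6
      rw [show (if l = l' then (1 : S) else 0) = (if l' = l then 1 else 0) by
        simp only [eq_comm], ← h6, Finset.mul_sum]
      refine Finset.sum_congr rfl fun v _ => ?_
      ring
    have hdet := Groth.Agent.Lib.Helper25.CauchyBinet.det_mul_eq_sum Ψ Jm.transpose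
    rw [hprod, Matrix.det_smul, Matrix.det_one, mul_one] at hdet
    have hminor : ∀ f : τ → ι, (Matrix.of fun i j => Jm.transpose (f i) j).det =
        locHom φ S (Matrix.det (Matrix.of fun j k : τ => pderiv (f k) (F j))) := by
      intro f
      rw [AlgHom.map_det, ← Matrix.det_transpose]
      congr 1
    simp only [hminor] at hdet
    obtain ⟨⟨_, m', rfl⟩, hm'⟩ := IsLocalization.exist_integer_multiples_of_finite
      (Submonoid.powers a) (fun f : τ → ι => ∏ i, Ψ i (f i))
    choose s₀ hs₀ using hm'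
    have hs₀' : ∀ f, algebraMap A S (s₀ f) = algebraMap A S a ^ m' * ∏ i, Ψ i (f i) := by
      intro f
      rw [hs₀ f]
      show (a ^ m') • _ = _
      rw [Algebra.smul_def, map_pow]
    have h7 : algebraMap A S (a ^ (m' + Fintype.card τ * t)) =
        algebraMap A S (∑ f : τ → ι, s₀ f *
          φ (Matrix.det (Matrix.of fun j k : τ => pderiv (f k) (F j)))) := by
      rw [map_pow, pow_add, pow_mul', hdet, Finset.mul_sum, map_sum]
      refine Finset.sum_congr rfl fun f _ => ?_
      rw [map_mul, hs₀', locHom_apply, mul_assoc]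
    obtain ⟨⟨_, k', rfl⟩, hk'⟩ := (IsLocalization.eq_iff_exists (Submonoid.powers a) S).1 h7
    refine ⟨k' + (m' + Fintype.card τ * t), ?_⟩
    rw [pow_add]
    dsimp only at hk'
    rw [hk']
    refine Ideal.mul_mem_left _ _ (Ideal.sum_mem _ fun f _ => Ideal.mul_mem_left _ _ ?_)
    exact Ideal.subset_span ⟨f, rfl⟩
  obtain ⟨K₀, hK₀⟩ := minors
  -- Step 5: assemble
  let KT : ℕ := ∑ j, Kt j
  have hKT : ∀ j, Kt j ≤ KT := fun j => Finset.single_le_sum (fun _ _ => Nat.zero_le _)
    (Finset.mem_univ j)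
  refine ⟨K₀ + KT, fun n hn => ?_⟩
  let rel : τ ⊕ σ → MvPolynomial ι R := Sum.elim F gen
  have hrel : Ideal.span (Set.range rel) = RingHom.ker φ := by
    rw [hker]
    refine le_antisymm (Ideal.span_le.2 ?_) (Ideal.span_mono ?_)
    · rintro _ ⟨j | j, rfl⟩
      · have := hF j
        rwa [hker] at this
      · exact Ideal.subset_span ⟨j, rfl⟩
    · rintro _ ⟨j, rfl⟩
      exact ⟨Sum.inr j, rfl⟩
  refine isStrictlyStandard_of_data rel φ hφ hrel.symm Sum.inl Sum.inl_injective (a ^ n) ?_ ?_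
  · have : a ^ n = a ^ (n - K₀) * a ^ K₀ := by
      rw [← pow_add, Nat.sub_add_cancel (le_trans (Nat.le_add_right _ _) hn)]
    rw [this]
    exact Ideal.mul_mem_left _ _ hK₀
  · intro bt hbt j
    rw [hrel]
    rcases j with l | j
    · exact Submodule.mem_sup_left (Ideal.mul_mem_left _ _ (Ideal.subset_span ⟨l, rfl⟩))
    · have hKn : Kt j ≤ n := le_trans (hKT j) (le_trans (Nat.le_add_left _ _) hn)
      have h8 : bt - a' ^ n ∈ RingHom.ker φ := by
        rw [RingHom.mem_ker, map_sub, map_pow, ha', hbt, sub_self]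
      have : bt * rel (Sum.inr j) = (bt - a' ^ n) * gen j +
          a' ^ (n - Kt j) * (a' ^ Kt j * gen j) := by
        rw [← mul_assoc, ← pow_add, Nat.sub_add_cancel hKn]
        show bt * gen j = _
        ring
      rw [this]
      refine Ideal.add_mem _ (Submodule.mem_sup_right ?_) (Ideal.mul_mem_left _ _ (hKt j))
      rw [pow_two]
      exact Ideal.mul_mem_mul h8 (hgenI j)

end Main

end Groth.Agent.Lib.Helper22.Pop
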