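import Mathlib
import Groth.Agent.Lib.Helper22.PopZh

/-!
# Stacks 07EV: smooth with stably free differentials ⇒ powers are strictly standard
-/

set_option autoImplicit false
set_option linter.style.haveILetI false
set_option linter.unusedSectionVars false

universe u

namespace Groth.Agent.Lib.Helper22.Pop

open MvPolynomial KaehlerDifferential

section StablyFree

variable {S : Type*} [CommRing S] {Ω : Type*} [AddCommGroup Ω] [Module S Ω] {N p q : ℕ}
  (πN : (Fin N → S) →ₗ[S] Ω) (s : Ω →ₗ[S] (Fin N → S))
  (e : (Ω × (Fin p → S)) ≃ₗ[S] (Fin q → S))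

/-- the parametrization of the kernel of `S^N ⊕ S^q → Ω`. -/
noncomputable def thetaMap : ((Fin N ⊕ Fin p) → S) →ₗ[S] ((Fin N ⊕ Fin q) → S) where
  toFun u := Sum.elim (fun k => u (Sum.inl k) - s (πN (fun k' => u (Sum.inl k'))) k)
    (fun j => e (πN (fun k' => u (Sum.inl k')), fun i => u (Sum.inr i)) j)
  map_add' u u' := by
    have h1 : (fun k' => (u + u') (Sum.inl k')) =
        (fun k' => u (Sum.inl k')) + (fun k' => u' (Sum.inl k')) := rfl
    have h2 : (fun i => (u + u') (Sum.inr i)) =
        (fun i => u (Sum.inr i)) + (fun i => u' (Sum.inr i)) := rfl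
    funext v
    rcases v with k | j
    · show (u + u') (Sum.inl k) - s (πN (fun k' => (u + u') (Sum.inl k'))) k =
        (u (Sum.inl k) - s (πN (fun k' => u (Sum.inl k'))) k) +
          (u' (Sum.inl k) - s (πN (fun k' => u' (Sum.inl k'))) k)
      rw [h1, map_add, map_add, Pi.add_apply, Pi.add_apply]
      ring
    · show e (πN (fun k' => (u + u') (Sum.inl k')), fun i => (u + u') (Sum.inr i)) j =
        e (πN (fun k' => u (Sum.inl k')), fun i => u (Sum.inr i)) j +
          e (πN (fun k' => u' (Sum.inl k')), fun i => u' (Sum.inr i)) j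
      rw [h1, h2, map_add, ← Prod.mk_add_mk, map_add, Pi.add_apply]
  map_smul' c u := by
    have h1 : (fun k' => (c • u) (Sum.inl k')) = c • (fun k' => u (Sum.inl k')) := rfl
    have h2 : (fun i => (c • u) (Sum.inr i)) = c • (fun i => u (Sum.inr i)) := rfl
    funext v
    rcases v with k | j
    · show (c • u) (Sum.inl k) - s (πN (fun k' => (c • u) (Sum.inl k'))) k =
        c • (u (Sum.inl k) - s (πN (fun k' => u (Sum.inl k'))) k)
      rw [h1, map_smul, map_smul, Pi.smul_apply, Pi.smul_apply, smul_eq_mul, smul_eq_mul,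
        smul_eq_mul]
      ring
    · show e (πN (fun k' => (c • u) (Sum.inl k')), fun i => (c • u) (Sum.inr i)) j =
        c • e (πN (fun k' => u (Sum.inl k')), fun i => u (Sum.inr i)) j
      rw [h1, h2, map_smul, ← Prod.smul_mk, map_smul, Pi.smul_apply]

/-- its retraction. -/
noncomputable def xiMap : ((Fin N ⊕ Fin q) → S) →ₗ[S] ((Fin N ⊕ Fin p) → S) where
  toFun w := Sum.elim (fun k => w (Sum.inl k) + s (e.symm (fun j => w (Sum.inr j))).1 k)
    (fun i => (e.symm (fun j => w (Sum.inr j))).2 i)
  map_add' w w' := by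
    have h2 : (fun j => (w + w') (Sum.inr j)) =
        (fun j => w (Sum.inr j)) + (fun j => w' (Sum.inr j)) := rfl
    funext v
    rcases v with k | i
    · show (w + w') (Sum.inl k) + s (e.symm (fun j => (w + w') (Sum.inr j))).1 k =
        (w (Sum.inl k) + s (e.symm (fun j => w (Sum.inr j))).1 k) +
          (w' (Sum.inl k) + s (e.symm (fun j => w' (Sum.inr j))).1 k)
      rw [h2, map_add, Prod.fst_add, map_add, Pi.add_apply, Pi.add_apply]
      ring
    · show (e.symm (fun j => (w + w') (Sum.inr j))).2 i =
        (e.symm (fun j => w (Sum.inr j))).2 i + (e.symm (fun j => w' (Sum.inr j))).2 i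
      rw [h2, map_add, Prod.snd_add, Pi.add_apply]
  map_smul' c w := by
    have h2 : (fun j => (c • w) (Sum.inr j)) = c • (fun j => w (Sum.inr j)) := rfl
    funext v
    rcases v with k | i
    · show (c • w) (Sum.inl k) + s (e.symm (fun j => (c • w) (Sum.inr j))).1 k =
        c • (w (Sum.inl k) + s (e.symm (fun j => w (Sum.inr j))).1 k)
      rw [h2, map_smul, Prod.smul_fst, map_smul, Pi.smul_apply, Pi.smul_apply, smul_eq_mul,
        smul_eq_mul, smul_eq_mul]
      ring
    · show (e.symm (fun j => (c • w) (Sum.inr j))).2 i =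
        c • (e.symm (fun j => w (Sum.inr j))).2 i
      rw [h2, map_smul, Prod.smul_snd, Pi.smul_apply]

variable (hs : ∀ ω, πN (s ω) = ω)

include hs in
theorem piN_thetaMap (u : (Fin N ⊕ Fin p) → S) :
    πN (fun k => thetaMap πN s e u (Sum.inl k)) = 0 := by
  have : (fun k => thetaMap πN s e u (Sum.inl k)) =
      (fun k' => u (Sum.inl k')) - s (πN (fun k' => u (Sum.inl k'))) := rfl
  rw [this, map_sub, hs, sub_self]

include hs in
theorem xiMap_thetaMap (u : (Fin N ⊕ Fin p) → S) : xiMap s e (thetaMap πN s e u) = u := by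
  have h1 : (fun j => thetaMap πN s e u (Sum.inr j)) =
      e (πN (fun k' => u (Sum.inl k')), fun i => u (Sum.inr i)) := rfl
  funext v
  rcases v with k | i
  · show thetaMap πN s e u (Sum.inl k) +
      s (e.symm (fun j => thetaMap πN s e u (Sum.inr j))).1 k = _
    rw [h1, LinearEquiv.symm_apply_apply]
    show u (Sum.inl k) - s (πN (fun k' => u (Sum.inl k'))) k + _ = _
    ring
  · show (e.symm (fun j => thetaMap πN s e u (Sum.inr j))).2 i = _
    rw [h1, LinearEquiv.symm_apply_apply]

include hs in
theorem thetaMap_xiMap (w : (Fin N ⊕ Fin q) → S) (hw : πN (fun k => w (Sum.inl k)) = 0) :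
    thetaMap πN s e (xiMap s e w) = w := by
  have h1 : (fun k' => xiMap s e w (Sum.inl k')) =
      (fun k => w (Sum.inl k)) + s (e.symm (fun j => w (Sum.inr j))).1 := rfl
  have h2 : (fun i => xiMap s e w (Sum.inr i)) = (e.symm (fun j => w (Sum.inr j))).2 := rfl
  have h3 : πN (fun k' => xiMap s e w (Sum.inl k')) = (e.symm (fun j => w (Sum.inr j))).1 := by
    rw [h1, map_add, hw, hs, zero_add]
  funext v
  rcases v with k | j
  · show xiMap s e w (Sum.inl k) - s (πN (fun k' => xiMap s e w (Sum.inl k'))) k = _
    rw [h3]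
    show w (Sum.inl k) + s (e.symm (fun j => w (Sum.inr j))).1 k - _ = _
    ring
  · show e (πN (fun k' => xiMap s e w (Sum.inl k')), fun i => xiMap s e w (Sum.inr i)) j = _
    rw [h3, h2, Prod.mk.eta, LinearEquiv.apply_symm_apply]

end StablyFree

section Final

theorem exists_strictlyStandard_pow {R A : Type u} [CommRing R] [CommRing A]
    [Algebra R A] [Algebra.FinitePresentation R A] (a : A) [Algebra.Smooth R (Localization.Away a)]
    (p q : ℕ) (e : (Ω[Localization.Away a⁄R] × (Fin p → Localization.Away a)) ≃ₗ[Localization.Away a]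
      (Fin q → Localization.Away a)) :
    ∃ e₀ : ℕ, ∀ n : ℕ, e₀ ≤ n → Smoothing.IsStrictlyStandard R A (a ^ n) := by
  classical
  obtain ⟨N, f, hf⟩ := Algebra.FiniteType.iff_quotient_mvPolynomial''.mp
    (inferInstance : Algebra.FiniteType R A)
  let φ : MvPolynomial (Fin N ⊕ Fin q) R →ₐ[R] A :=
    aeval (Sum.elim (fun k => f (X k)) (fun _ => 0))
  have hφf : ∀ x, φ (rename Sum.inl x) = f x := by
    intro x
    have : φ.comp (rename Sum.inl) = f := by
      apply MvPolynomial.algHom_ext
      intro k
      simp [φ]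
    exact congr($this x)
  have hφ : Function.Surjective φ := fun y => by
    obtain ⟨x, rfl⟩ := hf y
    exact ⟨rename Sum.inl x, hφf x⟩
  obtain ⟨sgen, hsgen⟩ := Algebra.FinitePresentation.ker_fG_of_surjective φ hφ
  let gen : Fin sgen.card → MvPolynomial (Fin N ⊕ Fin q) R := fun j => (sgen.equivFin.symm j).1
  have hrange : Set.range gen = (sgen : Set (MvPolynomial (Fin N ⊕ Fin q) R)) := by
    ext x
    constructor
    · rintro ⟨j, rfl⟩
      exact (sgen.equivFin.symm j).2
    · intro hx
      exact ⟨sgen.equivFin ⟨x, hx⟩, by simp [gen]⟩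
  have hker : RingHom.ker φ = Ideal.span (Set.range gen) := by
    rw [hrange, hsgen]
    rfl
  obtain ⟨a', ha'⟩ := hφ a
  -- the map `πN`
  let ψ := locHom φ (Localization.Away a)
  let πN : (Fin N → Localization.Away a) →ₗ[Localization.Away a] Ω[Localization.Away a⁄R] :=
    Fintype.linearCombination (Localization.Away a) (fun k => D R (Localization.Away a)
      (ψ (X (Sum.inl k))))
  have hψinr : ∀ j, ψ (X (Sum.inr j)) = 0 := by
    intro j
    simp [ψ, locHom_apply, φ]
  have hπN : Function.Surjective πN := by
    rw [← LinearMap.range_eq_top, Fintype.range_linearCombination, eq_top_iff,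
      ← KaehlerDifferential.span_range_map_derivation_of_isLocalization R A (Localization.Away a)
        (Submonoid.powers a), Submodule.span_le]
    rintro _ ⟨y, rfl⟩
    obtain ⟨x, rfl⟩ := hf y
    show KaehlerDifferential.map R R A (Localization.Away a) (D R A (f x)) ∈ _
    rw [KaehlerDifferential.map_D, ← hφf, ← locHom_apply,
      derivation_algHom_eq_sum (locHom φ (Localization.Away a)) (D R (Localization.Away a))]
    refine Submodule.sum_mem _ fun v _ => Submodule.smul_mem _ _ ?_
    rcases v with k | j
    · exact Submodule.subset_span ⟨k, rfl⟩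
    · have := hψinr j
      simp only [ψ] at this
      rw [this, map_zero]
      exact Submodule.zero_mem _
  obtain ⟨s, hs⟩ := Module.projective_lifting_property πN LinearMap.id hπN
  have hs' : ∀ ω, πN (s ω) = ω := fun ω => congr($hs ω)
  have hsum : ∀ w : (Fin N ⊕ Fin q) → Localization.Away a,
      ∑ v, w v • D R (Localization.Away a) (locHom φ (Localization.Away a) (X v)) =
        πN (fun k => w (Sum.inl k)) := by
    intro w
    rw [Fintype.sum_sum_type, Fintype.linearCombination_apply]
    have : ∀ j, w (Sum.inr j) • D R (Localization.Away a)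
        (locHom φ (Localization.Away a) (X (Sum.inr j))) = 0 := by
      intro j
      have := hψinr j
      simp only [ψ] at this
      rw [this, map_zero, smul_zero]
    simp only [this, Finset.sum_const_zero, add_zero]
    rfl
  refine strictlyStandard_of_free_kernel φ hφ a (Localization.Away a) a' ha' gen hker
    (thetaMap πN s e) (xiMap s e) ?_ ?_ ?_
  · intro u
    rw [hsum]
    exact piN_thetaMap πN s e hs' u
  · exact xiMap_thetaMap πN s e hs'
  · intro w hw
    rw [hsum] at hw
    exact thetaMap_xiMap πN s e hs' w hw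

end Final

end Groth.Agent.Lib.Helper22.Pop
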