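import Mathlib
import Groth.Prelude.Def_Smoothing
import Groth.Agent.Lib.Helper22.DenseSm
import Groth.Agent.Lib.Helper22.PopG
import Groth.Agent.S2034

/-!
# Separable field extensions are ind-smooth; ind-smooth maps resolve every problem
-/

set_option autoImplicit false
set_option linter.style.haveILetI false
set_option linter.unusedSectionVars false

universe u

namespace Groth.Agent.Lib.Helper22.Pop

open Smoothing

/-- A geometrically reduced (= separable) field extension is ind-smooth. -/
theorem indSmooth_of_geometricallyReduced (k K : Type u) [Field k] [Field K] [Algebra k K]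
    [Algebra.IsGeometricallyReduced k K] : IndSmooth k K := by
  intro A _ _ hA f
  haveI := hA
  -- the image
  let A' : Subalgebra k K := f.range
  let f' : A →ₐ[k] A' := f.rangeRestrict
  have hf' : Function.Surjective f' := f.rangeRestrict_surjective
  haveI : Algebra.FiniteType k A' := Algebra.FiniteType.of_surjective f' hf'
  haveI : IsNoetherianRing A' := Algebra.FiniteType.isNoetherianRing k A'
  haveI : Algebra.FinitePresentation k A' := Algebra.FinitePresentation.of_finiteType.mp inferInstance
  -- the local ring at the generic point is geometrically reduced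
  have hgr : ∀ (p : Ideal A') [p.IsPrime], p ∈ minimalPrimes A' →
      Algebra.IsGeometricallyReduced k (Localization.AtPrime p) := by
    intro p _ hp
    have hp0 : p = ⊥ :=
      le_bot_iff.1 (hp.2 (⟨Ideal.bot_prime, le_rfl⟩ : (⊥ : Ideal A').IsPrime ∧ ⊥ ≤ (⊥ : Ideal A'))
        bot_le)
    have hunit : ∀ y : p.primeCompl, IsUnit (A'.val (y : A')) := by
      intro y
      have hy : (y : A') ≠ 0 := by
        intro h0
        apply y.2
        rw [h0]
        exact Ideal.zero_mem _
      have : A'.val (y : A') ≠ 0 := fun h => hy (Subtype.ext h)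
      exact isUnit_iff_ne_zero.2 this
    let g : Localization.AtPrime p →ₐ[k] K :=
      IsLocalization.liftAlgHom (M := p.primeCompl) (f := A'.val) hunit
    have hg : Function.Injective g := by
      rw [injective_iff_map_eq_zero]
      intro x hx
      obtain ⟨⟨y, s⟩, hys⟩ := IsLocalization.surj p.primeCompl x
      have h1 : g (x * algebraMap A' _ (s : A')) = g (algebraMap A' _ y) := congrArg g hys
      rw [map_mul, hx, zero_mul] at h1
      have h2 : g (algebraMap A' (Localization.AtPrime p) y) = A'.val y := by
        simp [g]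
      rw [h2] at h1
      have hy0 : y = 0 := Subtype.ext h1.symm
      rw [hy0, map_zero] at hys
      exact (IsLocalization.map_units (Localization.AtPrime p) s).mul_left_eq_zero.1 hys
    exact Algebra.IsGeometricallyReduced.of_injective g hg
  obtain ⟨U, hUd, hU⟩ := (DenseSm.exists_dense_open_smooth_iff k A').2 hgr
  -- a nonempty basic open inside `U`
  haveI : Nontrivial A' := inferInstance
  obtain ⟨p₀⟩ : Nonempty (PrimeSpectrum A') := inferInstance
  obtain ⟨p, hpU⟩ : ∃ p, p ∈ (U : Set (PrimeSpectrum A')) := hUd.nonempty
  obtain ⟨_, ⟨h, rfl⟩, hph, hhU⟩ :=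
    PrimeSpectrum.isTopologicalBasis_basic_opens.exists_subset_of_mem_open hpU U.2
  have hsm : Algebra.Smooth k (Localization.Away h) := by
    rw [← Algebra.basicOpen_subset_smoothLocus_iff_smooth]
    intro x hx
    exact hU x (hhU hx)
  have hh0 : A'.val h ≠ 0 := by
    intro h0
    have : h = 0 := Subtype.ext h0
    rw [this] at hph
    simp at hph
  refine ⟨Localization.Away h, inferInstance, inferInstance, hsm,
    (IsScalarTower.toAlgHom k A' (Localization.Away h)).comp f',
    awayLiftAlg h A'.val (isUnit_iff_ne_zero.2 hh0), ?_⟩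
  ext x
  simp only [AlgHom.comp_apply, IsScalarTower.coe_toAlgHom', awayLiftAlg_algebraMap]
  rfl

/-- An ind-smooth algebra resolves every local problem. -/
theorem resolvable_of_indSmooth {R A Λ : Type u} [CommRing R] [CommRing A] [Algebra R A]
    [Algebra.FinitePresentation R A] [CommRing Λ] [Algebra R Λ] (h : IndSmooth R Λ)
    (φ : A →ₐ[R] Λ) (𝔮 : Ideal Λ) (h𝔮 : 𝔮 ≠ ⊤) : Resolvable R φ 𝔮 := by
  obtain ⟨B, _, _, hB, g, hh, hgh⟩ := h A inferInstance φ
  haveI := hB
  have hsing : singularIdeal R B = ⊤ := by
    rw [singularIdeal, Algebra.smoothLocus_eq_univ, Set.compl_univ,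
      PrimeSpectrum.vanishingIdeal_empty]
  have hrad : singRad R hh = ⊤ := by
    rw [singRad, hsing, Ideal.map_top, Ideal.radical_top]
  refine ⟨B, inferInstance, inferInstance, inferInstance, g, hh, hgh, ?_, ?_⟩
  · rw [hrad]; exact le_top
  · rw [hrad]
    intro hle
    exact h𝔮 (top_le_iff.1 hle)

end Groth.Agent.Lib.Helper22.Pop
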