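import Mathlib
import Groth.Prelude.Def_Smoothing
import Groth.Agent.Lib.Helper22.PopG

set_option autoImplicit false
set_option linter.style.haveILetI false
set_option linter.unusedSectionVars false

universe u

namespace Groth.Agent.Lib.Helper22.Pop

open MvPolynomial

section BAlg

variable {A : Type u} [CommRing A] {r : ℕ} (a : Fin r → A) (d n : ℕ)

/-- the relations `x_i ^ n - ∑ z_il a_l` -/
noncomputable def bRel (i : Fin d) : MvPolynomial (Fin d ⊕ Fin d × Fin r) A :=
  X (Sum.inl i) ^ n - ∑ l, X (Sum.inr (i, l)) * C (a l)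

/-- the algebra `A[x_i, z_il] / (x_i ^ n - ∑ z_il a_l)` -/
def BAlg : Type u :=
  MvPolynomial (Fin d ⊕ Fin d × Fin r) A ⧸ Ideal.span (Set.range (bRel a d n))

noncomputable instance : CommRing (BAlg a d n) :=
  inferInstanceAs (CommRing (MvPolynomial (Fin d ⊕ Fin d × Fin r) A ⧸
    Ideal.span (Set.range (bRel a d n))))

noncomputable instance bAlgAlgebra (k : Type*) [CommRing k] [Algebra k A] :
    Algebra k (BAlg a d n) :=
  inferInstanceAs (Algebra k (MvPolynomial (Fin d ⊕ Fin d × Fin r) A ⧸
    Ideal.span (Set.range (bRel a d n))))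

instance (k : Type*) [CommRing k] [Algebra k A] : IsScalarTower k A (BAlg a d n) :=
  inferInstanceAs (IsScalarTower k A (MvPolynomial (Fin d ⊕ Fin d × Fin r) A ⧸
    Ideal.span (Set.range (bRel a d n))))

/-- the quotient map -/
noncomputable def bMk : MvPolynomial (Fin d ⊕ Fin d × Fin r) A →ₐ[A] BAlg a d n :=
  Ideal.Quotient.mkₐ A (Ideal.span (Set.range (bRel a d n)))

theorem bMk_surjective : Function.Surjective (bMk a d n) := Ideal.Quotient.mk_surjective

noncomputable def bx (i : Fin d) : BAlg a d n := bMk a d n (X (Sum.inl i))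

noncomputable def bz (i : Fin d) (l : Fin r) : BAlg a d n := bMk a d n (X (Sum.inr (i, l)))

theorem bMk_C (y : A) : bMk a d n (C y) = algebraMap A (BAlg a d n) y := by
  rw [← MvPolynomial.algebraMap_eq, AlgHom.commutes]

theorem bx_pow (i : Fin d) :
    bx a d n i ^ n = ∑ l, bz a d n i l * algebraMap A (BAlg a d n) (a l) := by
  have h : bMk a d n (bRel a d n i) = 0 :=
    Ideal.Quotient.eq_zero_iff_mem.2 (Ideal.subset_span ⟨i, rfl⟩)
  rw [bRel, map_sub, sub_eq_zero, map_pow, map_sum] at h
  rw [bx, h]
  refine Finset.sum_congr rfl fun l _ => ?_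
  rw [map_mul, bMk_C, bz]

theorem bAlg_ringHom_ext {T : Type*} [CommRing T] (F G : BAlg a d n →+* T)
    (hA : ∀ y, F (algebraMap A _ y) = G (algebraMap A _ y))
    (hx : ∀ i, F (bx a d n i) = G (bx a d n i))
    (hz : ∀ i l, F (bz a d n i l) = G (bz a d n i l)) : F = G := by
  apply Ideal.Quotient.ringHom_ext
  apply MvPolynomial.ringHom_ext
  · intro y
    have := hA y
    rw [← bMk_C] at this
    exact this
  · rintro (i | ⟨i, l⟩)
    · exact hx i
    · exact hz i l

variable (k : Type u) [CommRing k] [Algebra k A]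

/-- universal property -/
noncomputable def bLift {T : Type*} [CommRing T] [Algebra k T] (f : A →ₐ[k] T) (x : Fin d → T)
    (z : Fin d → Fin r → T) (h : ∀ i, x i ^ n = ∑ l, z i l * f (a l)) : BAlg a d n →ₐ[k] T :=
  Ideal.Quotient.liftₐ (Ideal.span (Set.range (bRel a d n)))
    (aevalTower f (Sum.elim x (fun p => z p.1 p.2))) (by
      intro p hp
      have hle : Ideal.span (Set.range (bRel a d n)) ≤
          RingHom.ker (aevalTower f (Sum.elim x (fun p => z p.1 p.2))).toRingHom := by
        rw [Ideal.span_le]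
        rintro _ ⟨i, rfl⟩
        show aevalTower f (Sum.elim x (fun p => z p.1 p.2)) (bRel a d n i) = 0
        simp [bRel, h i]
      exact RingHom.mem_ker.1 (hle hp))

theorem bLift_bMk {T : Type*} [CommRing T] [Algebra k T] (f : A →ₐ[k] T) (x : Fin d → T)
    (z : Fin d → Fin r → T) (h : ∀ i, x i ^ n = ∑ l, z i l * f (a l))
    (p : MvPolynomial (Fin d ⊕ Fin d × Fin r) A) :
    bLift a d n k f x z h (bMk a d n p) = aevalTower f (Sum.elim x (fun p => z p.1 p.2)) p :=
  rfl

theorem bLift_algebraMap {T : Type*} [CommRing T] [Algebra k T] (f : A →ₐ[k] T) (x : Fin d → T)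
    (z : Fin d → Fin r → T) (h : ∀ i, x i ^ n = ∑ l, z i l * f (a l)) (y : A) :
    bLift a d n k f x z h (algebraMap A _ y) = f y := by
  rw [← bMk_C, bLift_bMk]
  simp

theorem bLift_bx {T : Type*} [CommRing T] [Algebra k T] (f : A →ₐ[k] T) (x : Fin d → T)
    (z : Fin d → Fin r → T) (h : ∀ i, x i ^ n = ∑ l, z i l * f (a l)) (i : Fin d) :
    bLift a d n k f x z h (bx a d n i) = x i := by
  rw [bx, bLift_bMk]
  simp

theorem bLift_bz {T : Type*} [CommRing T] [Algebra k T] (f : A →ₐ[k] T) (x : Fin d → T)
    (z : Fin d → Fin r → T) (h : ∀ i, x i ^ n = ∑ l, z i l * f (a l)) (i : Fin d) (l : Fin r) :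
    bLift a d n k f x z h (bz a d n i l) = z i l := by
  rw [bz, bLift_bMk]
  simp

/-- the structure map from the polynomial ring in the `x_i` -/
noncomputable def bBase : MvPolynomial (Fin d) k →ₐ[k] BAlg a d n :=
  aeval (fun i => bx a d n i)

noncomputable instance bAlgAlgebraPoly : Algebra (MvPolynomial (Fin d) k) (BAlg a d n) :=
  (bBase a d n k).toRingHom.toAlgebra

theorem bAlg_algebraMap_apply (p : MvPolynomial (Fin d) k) :
    algebraMap (MvPolynomial (Fin d) k) (BAlg a d n) p = bBase a d n k p := rfl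

theorem bAlg_algebraMap_X (i : Fin d) :
    algebraMap (MvPolynomial (Fin d) k) (BAlg a d n) (X i) = bx a d n i := by
  rw [bAlg_algebraMap_apply, bBase, aeval_X]

instance : IsScalarTower k (MvPolynomial (Fin d) k) (BAlg a d n) :=
  IsScalarTower.of_algebraMap_eq fun x => ((bBase a d n k).commutes x).symm

instance bAlg_fp [Algebra.FinitePresentation k A] : Algebra.FinitePresentation k (BAlg a d n) := by
  haveI : Algebra.FinitePresentation k (MvPolynomial (Fin d ⊕ Fin d × Fin r) A) :=
    Algebra.FinitePresentation.trans k A _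
  exact Algebra.FinitePresentation.quotient (Submodule.fg_span (Set.finite_range (bRel a d n)))

instance bAlg_fp_poly [Algebra.FinitePresentation k A] :
    Algebra.FinitePresentation (MvPolynomial (Fin d) k) (BAlg a d n) :=
  Algebra.FinitePresentation.of_restrict_scalars_finitePresentation k _ _

/-- universal property over the polynomial ring -/
noncomputable def bLiftPoly {T : Type*} [CommRing T] [Algebra k T]
    [Algebra (MvPolynomial (Fin d) k) T] [IsScalarTower k (MvPolynomial (Fin d) k) T]
    (f : A →ₐ[k] T) (z : Fin d → Fin r → T)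
    (h : ∀ i, algebraMap (MvPolynomial (Fin d) k) T (X i) ^ n = ∑ l, z i l * f (a l)) :
    BAlg a d n →ₐ[MvPolynomial (Fin d) k] T :=
  { (bLift a d n k f (fun i => algebraMap (MvPolynomial (Fin d) k) T (X i)) z h).toRingHom with
    commutes' := by
      intro p
      have h1 : (bLift a d n k f (fun i => algebraMap (MvPolynomial (Fin d) k) T (X i)) z h).comp
          (bBase a d n k) = IsScalarTower.toAlgHom k (MvPolynomial (Fin d) k) T := by
        apply MvPolynomial.algHom_ext
        intro i
        rw [AlgHom.comp_apply, bBase, aeval_X, bLift_bx]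
        rfl
      exact congr($h1 p) }

theorem bLiftPoly_apply {T : Type*} [CommRing T] [Algebra k T]
    [Algebra (MvPolynomial (Fin d) k) T] [IsScalarTower k (MvPolynomial (Fin d) k) T]
    (f : A →ₐ[k] T) (z : Fin d → Fin r → T)
    (h : ∀ i, algebraMap (MvPolynomial (Fin d) k) T (X i) ^ n = ∑ l, z i l * f (a l))
    (b : BAlg a d n) :
    bLiftPoly a d n k f z h b =
      bLift a d n k f (fun i => algebraMap (MvPolynomial (Fin d) k) T (X i)) z h b := rfl


theorem bAlg_formallySmooth_away (j : Fin r)
    [Algebra.FormallySmooth k (Localization.Away (a j))] :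
    Algebra.FormallySmooth (MvPolynomial (Fin d) k)
      (Localization.Away (algebraMap A (BAlg a d n) (a j))) := by
  classical
  refine Algebra.FormallySmooth.of_comp_surjective fun T _ _ I hI g => ?_
  letI : Algebra k T :=
    ((algebraMap (MvPolynomial (Fin d) k) T).comp (algebraMap k (MvPolynomial (Fin d) k))).toAlgebra
  haveI : IsScalarTower k (MvPolynomial (Fin d) k) T :=
    IsScalarTower.of_algebraMap_eq fun _ => rfl
  -- the map `A_{a_j} → B_{b_j}`
  have hu : IsUnit (((IsScalarTower.toAlgHom k (BAlg a d n)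
      (Localization.Away (algebraMap A (BAlg a d n) (a j)))).comp
      (IsScalarTower.toAlgHom k A (BAlg a d n))) (a j)) :=
    IsLocalization.Away.algebraMap_isUnit (algebraMap A (BAlg a d n) (a j))
  let ι : Localization.Away (a j) →ₐ[k] Localization.Away (algebraMap A (BAlg a d n) (a j)) :=
    awayLiftAlg (a j) _ hu
  have hι : ∀ y : A, ι (algebraMap A _ y) =
      algebraMap (BAlg a d n) _ (algebraMap A (BAlg a d n) y) := fun y =>
    awayLiftAlg_algebraMap (a j) _ hu y
  obtain ⟨g₁, hg₁⟩ := Algebra.FormallySmooth.comp_surjective k (Localization.Away (a j)) I hI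
    ((g.restrictScalars k).comp ι)
  have hg₁' : ∀ y, Ideal.Quotient.mk I (g₁ y) = g (ι y) := fun y => congr($hg₁ y)
  -- notation
  let f : A →ₐ[k] T := g₁.comp (IsScalarTower.toAlgHom k A (Localization.Away (a j)))
  have hf : ∀ y, Ideal.Quotient.mk I (f y) =
      g (algebraMap (BAlg a d n) _ (algebraMap A (BAlg a d n) y)) := by
    intro y
    rw [← hι]
    exact hg₁' _
  have hfu : IsUnit (f (a j)) :=
    (IsLocalization.Away.algebraMap_isUnit (S := Localization.Away (a j)) (a j)).map g₁
  obtain ⟨u, hu'⟩ := hfu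
  -- lifts of the `z`
  have hz : ∀ i l, ∃ t : T, Ideal.Quotient.mk I t = g (algebraMap (BAlg a d n) _ (bz a d n i l)) :=
    fun i l => Ideal.Quotient.mk_surjective _
  choose z₀ hz₀ using hz
  let x : Fin d → T := fun i => algebraMap (MvPolynomial (Fin d) k) T (X i)
  let z : Fin d → Fin r → T := fun i l =>
    if l = j then ((u⁻¹ : Tˣ) : T) * (x i ^ n - ∑ l' ∈ Finset.univ.erase j, z₀ i l' * f (a l'))
    else z₀ i l
  have hrel : ∀ i, x i ^ n = ∑ l, z i l * f (a l) := by
    intro i
    rw [← Finset.add_sum_erase _ _ (Finset.mem_univ j)]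
    have h1 : z i j * f (a j) = x i ^ n - ∑ l' ∈ Finset.univ.erase j, z₀ i l' * f (a l') := by
      simp only [z, if_true]
      rw [← hu', mul_comm, ← mul_assoc, Units.mul_inv, one_mul]
    have h2 : ∑ l ∈ Finset.univ.erase j, z i l * f (a l) =
        ∑ l' ∈ Finset.univ.erase j, z₀ i l' * f (a l') := by
      refine Finset.sum_congr rfl fun l hl => ?_
      simp only [z, if_neg (Finset.ne_of_mem_erase hl)]
    rw [h1, h2, sub_add_cancel]
  let G₀ : BAlg a d n →ₐ[MvPolynomial (Fin d) k] T := bLiftPoly a d n k f z hrel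
  have hG₀A : ∀ y, G₀ (algebraMap A _ y) = f y := fun y => by
    rw [bLiftPoly_apply, bLift_algebraMap]
  have hG₀x : ∀ i, G₀ (bx a d n i) = x i := fun i => by
    rw [bLiftPoly_apply, bLift_bx]
  have hG₀z : ∀ i l, G₀ (bz a d n i l) = z i l := fun i l => by
    rw [bLiftPoly_apply, bLift_bz]
  have hGu : IsUnit (G₀ (algebraMap A (BAlg a d n) (a j))) := by
    rw [hG₀A, ← hu']
    exact u.isUnit
  refine ⟨awayLiftAlg _ G₀ hGu, ?_⟩
  apply away_algHom_ext
  intro b
  rw [AlgHom.comp_apply, awayLiftAlg_algebraMap]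
  show (Ideal.Quotient.mk I) (G₀ b) = g (algebraMap (BAlg a d n) _ b)
  have hx : ∀ i, Ideal.Quotient.mk I (x i) = g (algebraMap (BAlg a d n) _ (bx a d n i)) := by
    intro i
    rw [← bAlg_algebraMap_X a d n k, ← IsScalarTower.algebraMap_apply, AlgHom.commutes]
    rfl
  have key : ((Ideal.Quotient.mk I).comp G₀.toRingHom) =
      (g.toRingHom.comp (algebraMap (BAlg a d n)
        (Localization.Away (algebraMap A (BAlg a d n) (a j))))) := by
    apply bAlg_ringHom_ext
    · intro y
      show Ideal.Quotient.mk I (G₀ _) = g _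
      rw [hG₀A, hf]
    · intro i
      show Ideal.Quotient.mk I (G₀ _) = g _
      rw [hG₀x, hx]
    · intro i l
      show Ideal.Quotient.mk I (G₀ _) = g _
      rw [hG₀z]
      by_cases hl : l = j
      · subst hl
        have hunit : IsUnit (Ideal.Quotient.mk I (u : T)) := u.isUnit.map _
        apply hunit.mul_left_cancel
        have h1 : z i l * f (a l) = x i ^ n - ∑ l' ∈ Finset.univ.erase l, z₀ i l' * f (a l') := by
          simp only [z, if_true]
          rw [← hu', mul_comm, ← mul_assoc, Units.mul_inv, one_mul]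
        rw [← map_mul, hu', mul_comm, h1, map_sub, map_pow, hx, map_sum]
        have h2 : ∀ l', Ideal.Quotient.mk I (z₀ i l' * f (a l')) =
            g (algebraMap (BAlg a d n) _ (bz a d n i l' * algebraMap A _ (a l'))) := by
          intro l'
          rw [map_mul, hz₀, hf, map_mul, map_mul]
        simp only [h2]
        rw [← map_sum, ← map_sum, ← map_pow, ← map_pow, ← map_sub, ← map_sub, bx_pow,
          ← Finset.add_sum_erase _ _ (Finset.mem_univ l), add_sub_cancel_right, map_mul, map_mul,
          ← hf, mul_comm]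
      · simp only [z, if_neg hl]
        exact hz₀ i l
  exact congr($key b)

theorem bAlg_smooth_away_a [Algebra.FinitePresentation k A] (j : Fin r)
    [Algebra.Smooth k (Localization.Away (a j))] :
    Algebra.Smooth (MvPolynomial (Fin d) k)
      (Localization.Away (algebraMap A (BAlg a d n) (a j))) := by
  haveI : Algebra.FinitePresentation (BAlg a d n)
      (Localization.Away (algebraMap A (BAlg a d n) (a j))) :=
    IsLocalization.Away.finitePresentation (algebraMap A (BAlg a d n) (a j))
  exact ⟨bAlg_formallySmooth_away a d n k j,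
    Algebra.FinitePresentation.trans _ (BAlg a d n) _⟩

theorem bAlg_smooth_away_x [Algebra.FinitePresentation k A]
    (hsm : ∀ j, Algebra.Smooth k (Localization.Away (a j))) (i : Fin d) :
    Algebra.Smooth (MvPolynomial (Fin d) k)
      (Localization.Away (algebraMap (MvPolynomial (Fin d) k) (BAlg a d n) (X i))) := by
  rw [← Algebra.basicOpen_subset_smoothLocus_iff_smooth]
  intro P hP
  rw [SetLike.mem_coe, PrimeSpectrum.mem_basicOpen, bAlg_algebraMap_X] at hP
  by_cases hall : ∀ l, algebraMap A (BAlg a d n) (a l) ∈ P.asIdeal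
  · exfalso
    apply hP
    apply P.2.mem_of_pow_mem n
    rw [bx_pow]
    exact Ideal.sum_mem _ fun l _ => Ideal.mul_mem_left _ _ (hall l)
  · push Not at hall
    obtain ⟨l, hl⟩ := hall
    haveI := hsm l
    have h1 := (Algebra.basicOpen_subset_smoothLocus_iff_smooth
      (R := MvPolynomial (Fin d) k) (A := BAlg a d n)
      (f := algebraMap A (BAlg a d n) (a l))).mpr (bAlg_smooth_away_a a d n k l)
    exact h1 hl


end BAlg

end Groth.Agent.Lib.Helper22.Pop
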