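import Mathlib
import Groth.Prelude.Def_Smoothing
import Groth.Agent.Lib.Helper21.CMAff1
import Groth.Agent.S0559
import Groth.Agent.Lib.Helper22.PopE
import Groth.Agent.Lib.Helper22.PopZj

/-!
# Tail of the separable-residue-field case: flatness over the polynomial ring and the Artinian
quotient problem
-/

set_option autoImplicit false
set_option linter.style.haveILetI false
set_option linter.unusedSectionVars false

universe u

namespace Groth.Agent.Lib.Helper22.Pop

open Smoothing

open MvPolynomial IsLocalRing RingTheory.Sequence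

/-- A regular local ring of dimension `n` whose maximal ideal is generated by the images of the
variables is flat over the polynomial ring. -/
theorem flat_mvPolynomial_of_regular (κ : Type u) [Field κ] (n : ℕ) (O : Type u) [CommRing O]
    [IsRegularLocalRing O] (hd : ringKrullDim O = n) [Algebra (MvPolynomial (Fin n) κ) O]
    (hspan : Ideal.span (Set.range fun i => algebraMap (MvPolynomial (Fin n) κ) O (X i)) =
      maximalIdeal O) :
    Module.Flat (MvPolynomial (Fin n) κ) O := by
  classical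
  set θ : MvPolynomial (Fin n) κ →+* O := algebraMap (MvPolynomial (Fin n) κ) O with hθ
  set 𝔫 : Ideal (MvPolynomial (Fin n) κ) := (maximalIdeal O).comap θ with h𝔫
  haveI : 𝔫.IsPrime := Ideal.comap_isPrime _ _
  have hunit : ∀ y : 𝔫.primeCompl, IsUnit (θ y) := fun y => by
    by_contra h
    exact y.2 ((IsLocalRing.mem_maximalIdeal _).mpr h)
  let θ' : Localization.AtPrime 𝔫 →+* O := IsLocalization.lift (M := 𝔫.primeCompl) hunit
  letI aA'O : Algebra (Localization.AtPrime 𝔫) O := θ'.toAlgebra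
  haveI tw1 : IsScalarTower (MvPolynomial (Fin n) κ) (Localization.AtPrime 𝔫) O :=
    IsScalarTower.of_algebraMap_eq fun x => (IsLocalization.lift_eq hunit x).symm
  haveI hloc : IsLocalHom (algebraMap (Localization.AtPrime 𝔫) O) := by
    constructor
    intro a ha
    obtain ⟨p, s, rfl⟩ := IsLocalization.exists_mk'_eq 𝔫.primeCompl a
    have h1 : θ' (IsLocalization.mk' (Localization.AtPrime 𝔫) p s) * θ s = θ p := by
      rw [← IsLocalization.lift_eq (S := Localization.AtPrime 𝔫) hunit
          (s : MvPolynomial (Fin n) κ),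
        ← IsLocalization.lift_eq (S := Localization.AtPrime 𝔫) hunit p, ← map_mul,
        IsLocalization.mk'_spec]
    have h2 : IsUnit (θ p) := by
      rw [← h1]
      exact IsUnit.mul ha (hunit s)
    have h3 : p ∈ 𝔫.primeCompl := fun hp => (IsLocalRing.mem_maximalIdeal _).mp hp h2
    exact (IsLocalization.AtPrime.isUnit_mk'_iff (Localization.AtPrime 𝔫) 𝔫 p s).mpr h3
  have hX𝔫 : ∀ i, (X i : MvPolynomial (Fin n) κ) ∈ 𝔫 := by
    intro i
    show θ (X i) ∈ maximalIdeal O
    rw [← hspan]
    exact Ideal.subset_span ⟨i, rfl⟩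
  have hd' : ringKrullDim (Localization.AtPrime 𝔫) = n :=
    Groth.Agent.Lib.Helper21.CMAff.ringKrullDim_localization_eq κ n _ (RingEquiv.refl _) 𝔫 hX𝔫
  set xs : List (Localization.AtPrime 𝔫) := List.ofFn fun i : Fin n =>
    algebraMap (MvPolynomial (Fin n) κ) (Localization.AtPrime 𝔫) (X i) with hxsdef
  have hxs : ∀ x ∈ xs, x ∈ maximalIdeal (Localization.AtPrime 𝔫) := by
    intro x hx
    obtain ⟨i, rfl⟩ := (List.mem_ofFn' _ _).mp hx
    rw [IsLocalization.AtPrime.to_map_mem_maximal_iff _ 𝔫]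
    exact hX𝔫 i
  have hmap : xs.map (algebraMap (Localization.AtPrime 𝔫) O) = List.ofFn fun i => θ (X i) := by
    rw [hxsdef, List.map_ofFn]
    congr 1
    funext i
    rw [Function.comp_apply, ← IsScalarTower.algebraMap_apply]
  have hreg : IsWeaklyRegular O (List.ofFn fun i => θ (X i)) :=
    (Groth.Agent.S0559.result O n hd _ hspan).toIsWeaklyRegular
  have hreg' : IsWeaklyRegular O xs := by
    rw [← isWeaklyRegular_map_algebraMap_iff O O xs, hmap]
    exact hreg
  haveI hflA' : Module.Flat (Localization.AtPrime 𝔫) O :=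
    Groth.Agent.Lib.Helper7.MiracleFlat.flat_of_isWeaklyRegular (A := Localization.AtPrime 𝔫)
      (B := O) O xs hxs n hd' (by rw [hxsdef, List.length_ofFn]) hreg'
  exact (Module.flat_iff_of_isLocalization (Localization.AtPrime 𝔫) 𝔫.primeCompl O).mp hflA'

section Vars

variable (κ : Type*) [CommRing κ] (σ : Type*)

theorem mem_idealOfVars_iff (p : MvPolynomial σ κ) :
    p ∈ idealOfVars σ κ ↔ coeff 0 p = 0 := by
  rw [← pow_one (idealOfVars σ κ), mem_pow_idealOfVars_iff']
  constructor
  · intro h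
    exact h 0 (by simp)
  · intro h x hx
    have : x = 0 := by
      rw [Nat.lt_one_iff] at hx
      exact (Finsupp.degree_eq_zero_iff x).1 hx
    rw [this]
    exact h

/-- `κ ≃ κ[x] / (x)` -/
noncomputable def quotVarsEquiv : κ ≃+* (MvPolynomial σ κ ⧸ idealOfVars σ κ) :=
  RingEquiv.ofBijective ((Ideal.Quotient.mk (idealOfVars σ κ)).comp C) (by
    constructor
    · rw [injective_iff_map_eq_zero]
      intro c hc
      rw [RingHom.comp_apply, Ideal.Quotient.eq_zero_iff_mem, mem_idealOfVars_iff,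
        coeff_zero_C] at hc
      exact hc
    · intro y
      obtain ⟨p, rfl⟩ := Ideal.Quotient.mk_surjective y
      refine ⟨coeff 0 p, ?_⟩
      rw [RingHom.comp_apply, eq_comm, Ideal.Quotient.mk_eq_mk_iff_sub_mem, mem_idealOfVars_iff,
        coeff_sub, coeff_zero_C, sub_self])

@[simp] theorem quotVarsEquiv_apply (c : κ) :
    quotVarsEquiv κ σ c = Ideal.Quotient.mk (idealOfVars σ κ) (C c) := rfl

theorem idealOfVars_isMaximal (κ : Type*) [Field κ] (σ : Type*) :
    (idealOfVars σ κ).IsMaximal :=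
  Ideal.Quotient.maximal_of_isField _
    ((quotVarsEquiv κ σ).symm.toMulEquiv.isField (Field.toIsField κ))

end Vars



theorem indSmooth_quot_of_flat {R Λ : Type u} [CommRing R] [CommRing Λ] [Algebra R Λ]
    [Module.Flat R Λ] (M K : Ideal R) (hKM : K ≤ M)
    (hnil : IsNilpotent (M.map (Ideal.Quotient.mk K)))
    (h : IndSmooth (R ⧸ M) (Λ ⧸ M.map (algebraMap R Λ))) :
    IndSmooth (R ⧸ K) (Λ ⧸ K.map (algebraMap R Λ)) := by
  haveI := flat_quot (Λ := Λ) K
  exact indSmooth_of_nilpotent (M.map (Ideal.Quotient.mk K)) hnil (indSmooth_doubleQuot M K hKM h)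

theorem resolvable_of_local_indSmooth {R A Λ Λq : Type u} [CommRing R] [IsNoetherianRing R]
    [CommRing A] [Algebra R A] [Algebra.FinitePresentation R A] [CommRing Λ] [Algebra R Λ]
    (φ : A →ₐ[R] Λ) (𝔮 : Ideal Λ) [𝔮.IsPrime] (hmin : 𝔮 ∈ (singRad R φ).minimalPrimes)
    (hunit : ∀ x : R, x ∉ 𝔮.comap (algebraMap R Λ) → IsUnit x)
    [CommRing Λq] [Algebra Λ Λq] [IsLocalization.AtPrime Λq 𝔮] [Algebra R Λq]
    [IsScalarTower R Λ Λq] (hdim : ringKrullDim Λq = 0) (hind : IndSmooth R Λq) :
    Resolvable R φ 𝔮 := by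
  haveI : IsLocalization.AtPrime R (𝔮.comap (algebraMap R Λ)) :=
    IsLocalization.of_le_isUnit (fun x hx => hunit x hx)
  refine Groth.Agent.S2034.result (Rₚ := R) (Λq := Λq) φ 𝔮 hmin hdim ?_
  apply resolvable_of_indSmooth hind
  exact (IsLocalization.isPrime_of_isPrime_disjoint 𝔮.primeCompl Λq 𝔮 inferInstance
    (by rw [Set.disjoint_left]; intro x hx hx'; exact hx hx')).ne_top

theorem quot_localization_instances {R Λ Λq : Type u} [CommRing R] [CommRing Λ] [Algebra R Λ]
    (K : Ideal R) (q : Ideal Λ) [q.IsPrime] (hKq : K.map (algebraMap R Λ) ≤ q)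
    [hq' : (q.map (Ideal.Quotient.mk (K.map (algebraMap R Λ)))).IsPrime]
    [CommRing Λq] [Algebra Λ Λq] [IsLocalization.AtPrime Λq q] [Algebra R Λq]
    [IsScalarTower R Λ Λq] :
    ∃ (_ : Algebra (Λ ⧸ K.map (algebraMap R Λ)) (Λq ⧸ K.map (algebraMap R Λq))),
      IsScalarTower (R ⧸ K) (Λ ⧸ K.map (algebraMap R Λ)) (Λq ⧸ K.map (algebraMap R Λq)) ∧
      IsLocalization.AtPrime (Λq ⧸ K.map (algebraMap R Λq))
        (q.map (Ideal.Quotient.mk (K.map (algebraMap R Λ)))) := by
  have hmap : (K.map (algebraMap R Λ)).map (algebraMap Λ Λq) = K.map (algebraMap R Λq) := by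
    rw [Ideal.map_map, ← IsScalarTower.algebraMap_eq]
  have hle : K.map (algebraMap R Λ) ≤ (K.map (algebraMap R Λq)).comap (algebraMap Λ Λq) := by
    rw [← Ideal.map_le_iff_le_comap, hmap]
  letI alg : Algebra (Λ ⧸ K.map (algebraMap R Λ)) (Λq ⧸ K.map (algebraMap R Λq)) :=
    (Ideal.quotientMap (K.map (algebraMap R Λq)) (algebraMap Λ Λq) hle).toAlgebra
  refine ⟨alg, ?_, ?_⟩
  · apply IsScalarTower.of_algebraMap_eq
    intro x
    obtain ⟨x, rfl⟩ := Ideal.Quotient.mk_surjective x
    show Ideal.Quotient.mk _ (algebraMap R Λq x) =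
      Ideal.quotientMap (K.map (algebraMap R Λq)) (algebraMap Λ Λq) hle
        (Ideal.Quotient.mk _ (algebraMap R Λ x))
    rw [Ideal.quotientMap_mk, ← IsScalarTower.algebraMap_apply]
  · have h1 := IsLocalization.of_surjective q.primeCompl Λq
      (Ideal.Quotient.mk (K.map (algebraMap R Λ))) Ideal.Quotient.mk_surjective
      (Ideal.Quotient.mk (K.map (algebraMap R Λq))) Ideal.Quotient.mk_surjective
      (by ext x; rfl) (by rw [Ideal.mk_ker, Ideal.mk_ker, hmap])
    have h2 : q.primeCompl.map (Ideal.Quotient.mk (K.map (algebraMap R Λ))) =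
        (q.map (Ideal.Quotient.mk (K.map (algebraMap R Λ)))).primeCompl := by
      ext x
      obtain ⟨x, rfl⟩ := Ideal.Quotient.mk_surjective x
      rw [Submonoid.mem_map, Ideal.mem_primeCompl_iff, Ideal.mem_quotient_iff_mem hKq]
      constructor
      · rintro ⟨y, hy, hyx⟩ hx
        apply hy
        have h3 : y ∈ q := by
          rw [← Ideal.mem_quotient_iff_mem hKq, hyx, Ideal.mem_quotient_iff_mem hKq]
          exact hx
        exact h3
      · intro hx
        exact ⟨x, hx, rfl⟩
    rw [h2] at h1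
    exact h1

theorem nilradical_eq_of_isNilpotent {S : Type*} [CommRing S] (m : Ideal S) [hm : m.IsMaximal]
    (hnil : IsNilpotent m) : nilradical S = m := by
  have h1 : m ≤ nilradical S := by
    obtain ⟨N, hN⟩ := hnil
    intro x hx
    refine ⟨N, ?_⟩
    have : x ^ N ∈ m ^ N := Ideal.pow_mem_pow hx N
    rw [hN] at this
    exact this
  have h2 : nilradical S ≠ ⊤ := by
    intro h
    have h1' : (1 : S) ∈ nilradical S := h ▸ Submodule.mem_top
    obtain ⟨n, hn⟩ := h1'
    rw [one_pow] at hn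
    exact hm.ne_top ((Ideal.eq_top_iff_one _).2 (hn ▸ m.zero_mem))
  exact (hm.eq_of_le h2 h1).symm

theorem isUnit_of_notMem_prime_of_isNilpotent {S : Type*} [CommRing S] (m : Ideal S)
    [hm : m.IsMaximal] (hnil : IsNilpotent m) (p : Ideal S) [p.IsPrime] (x : S) (hx : x ∉ p) :
    IsUnit x := by
  have h0 := nilradical_eq_of_isNilpotent m hnil
  have h1 : (nilradical S).IsMaximal := h0 ▸ hm
  have h2 := ((Ring.krullDimLE_zero_and_isLocalRing_tfae S).out 3 2 rfl rfl).mp h1
  by_contra hu
  exact hx (nilradical_le_prime p ((h2 x).2 hu))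

theorem ringKrullDim_eq_zero_of_isNilpotent {S : Type*} [CommRing S] (m : Ideal S)
    [hm : m.IsMaximal] (hnil : IsNilpotent m) : ringKrullDim S = 0 := by
  have h0 := nilradical_eq_of_isNilpotent m hnil
  have h1 : (nilradical S).IsMaximal := h0 ▸ hm
  obtain ⟨h2, h3⟩ := ((Ring.krullDimLE_zero_and_isLocalRing_tfae S).out 3 0 rfl rfl).mp h1
  exact ringKrullDimZero_iff_ringKrullDim_eq_zero.1 h2

/-- The abstract tail: resolving the Artinian quotient problem. -/
theorem resolvable_quot_of_flat {R₀ Λ : Type u} [CommRing R₀] [IsNoetherianRing R₀] [CommRing Λ]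
    [Algebra R₀ Λ] (q : Ideal Λ) [q.IsPrime] (M K : Ideal R₀) [hM : M.IsMaximal] (hKM : K ≤ M)
    (hnil : IsNilpotent (M.map (Ideal.Quotient.mk K)))
    [Module.Flat R₀ (Localization.AtPrime q)]
    (hmax : M.map (algebraMap R₀ (Localization.AtPrime q)) =
      IsLocalRing.maximalIdeal (Localization.AtPrime q))
    (hind : IndSmooth (R₀ ⧸ M) (Localization.AtPrime q ⧸
      M.map (algebraMap R₀ (Localization.AtPrime q))))
    {C' : Type u} [CommRing C'] [Algebra (R₀ ⧸ K) C'] [Algebra.FinitePresentation (R₀ ⧸ K) C']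
    (ψ : C' →ₐ[R₀ ⧸ K] (Λ ⧸ K.map (algebraMap R₀ Λ))) :
    Resolvable (R₀ ⧸ K) ψ (q.map (Ideal.Quotient.mk (K.map (algebraMap R₀ Λ)))) := by
  have hind' := indSmooth_quot_of_flat (Λ := Localization.AtPrime q) M K hKM hnil hind
  -- `M Λ ≤ q`
  have hMq : M.map (algebraMap R₀ Λ) ≤ q := by
    rw [Ideal.map_le_iff_le_comap]
    intro x hx
    rw [Ideal.mem_comap, ← IsLocalization.AtPrime.to_map_mem_maximal_iff (Localization.AtPrime q) q,
      ← hmax, ← IsScalarTower.algebraMap_apply]
    exact Ideal.mem_map_of_mem _ hx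
  have hKq : K.map (algebraMap R₀ Λ) ≤ q := (Ideal.map_mono hKM).trans hMq
  haveI hq' : (q.map (Ideal.Quotient.mk (K.map (algebraMap R₀ Λ)))).IsPrime :=
    Ideal.map_isPrime_of_surjective Ideal.Quotient.mk_surjective (by rw [Ideal.mk_ker]; exact hKq)
  obtain ⟨alg, tower, loc⟩ := quot_localization_instances (Λq := Localization.AtPrime q) K q hKq
  letI := alg
  haveI := tower
  haveI := loc
  -- the maximal ideal of the quotient of the localization is nilpotent
  have hker : RingHom.ker (Ideal.Quotient.mk (K.map (algebraMap R₀ (Localization.AtPrime q)))) ≤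
      IsLocalRing.maximalIdeal (Localization.AtPrime q) := by
    rw [Ideal.mk_ker, ← hmax]
    exact Ideal.map_mono hKM
  haveI hmbar : ((IsLocalRing.maximalIdeal (Localization.AtPrime q)).map
      (Ideal.Quotient.mk (K.map (algebraMap R₀ (Localization.AtPrime q))))).IsMaximal :=
    Ideal.IsMaximal.map_of_surjective_of_ker_le Ideal.Quotient.mk_surjective hker
  have hnil' : IsNilpotent ((IsLocalRing.maximalIdeal (Localization.AtPrime q)).map
      (Ideal.Quotient.mk (K.map (algebraMap R₀ (Localization.AtPrime q))))) := by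
    obtain ⟨N, hN⟩ := hnil
    refine ⟨N, ?_⟩
    have h1 : (IsLocalRing.maximalIdeal (Localization.AtPrime q)).map
        (Ideal.Quotient.mk (K.map (algebraMap R₀ (Localization.AtPrime q)))) =
        (M.map (Ideal.Quotient.mk K)).map (algebraMap (R₀ ⧸ K)
          (Localization.AtPrime q ⧸ K.map (algebraMap R₀ (Localization.AtPrime q)))) := by
      rw [← hmax, Ideal.map_map, Ideal.map_map]
      rfl
    rw [h1, ← Ideal.map_pow, hN]
    exact Ideal.map_bot
  have hdim : ringKrullDim (Localization.AtPrime q ⧸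
      K.map (algebraMap R₀ (Localization.AtPrime q))) = 0 :=
    ringKrullDim_eq_zero_of_isNilpotent _ hnil'
  by_cases hle : singRad (R₀ ⧸ K) ψ ≤ q.map (Ideal.Quotient.mk (K.map (algebraMap R₀ Λ)))
  · have hmin0 : q.map (Ideal.Quotient.mk (K.map (algebraMap R₀ Λ))) ∈
        minimalPrimes (Λ ⧸ K.map (algebraMap R₀ Λ)) := by
      rw [← Ideal.height_eq_zero_iff]
      have h1 := IsLocalization.AtPrime.ringKrullDim_eq_height
        (q.map (Ideal.Quotient.mk (K.map (algebraMap R₀ Λ))))
        (Localization.AtPrime q ⧸ K.map (algebraMap R₀ (Localization.AtPrime q)))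
      rw [hdim] at h1
      exact_mod_cast h1.symm
    have hmin : q.map (Ideal.Quotient.mk (K.map (algebraMap R₀ Λ))) ∈
        (singRad (R₀ ⧸ K) ψ).minimalPrimes :=
      ⟨⟨hq', hle⟩, fun P hP hPq => hmin0.2 ⟨hP.1, bot_le⟩ hPq⟩
    haveI : (M.map (Ideal.Quotient.mk K)).IsMaximal :=
      Ideal.IsMaximal.map_of_surjective_of_ker_le Ideal.Quotient.mk_surjective
        (by rw [Ideal.mk_ker]; exact hKM)
    exact resolvable_of_local_indSmooth
      (Λq := Localization.AtPrime q ⧸ K.map (algebraMap R₀ (Localization.AtPrime q))) ψ _ hmin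
      (fun x hx => isUnit_of_notMem_prime_of_isNilpotent _ hnil _ x hx) hdim hind'
  · exact ⟨C', inferInstance, inferInstance, inferInstance, AlgHom.id _ _, ψ, AlgHom.comp_id ψ,
      le_rfl, hle⟩

end Groth.Agent.Lib.Helper22.Pop
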