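import Mathlib
import Groth.Agent.Lib.Helper22.PopZl
import Groth.Agent.Lib.Helper22.PopB
import Groth.Agent.Lib.Helper22.PopParamA
import Groth.Agent.Lib.Helper21.KosPoly
import Groth.Agent.S6822

set_option autoImplicit false
set_option linter.style.haveILetI false
set_option linter.unusedSectionVars false

universe u

namespace Groth.Agent.Lib.Helper22.Pop

open Smoothing MvPolynomial

theorem mul_mem_of_pow_mul_mem {S : Type*} [CommRing S] (I : Ideal S) (p : S)
    (h : ∀ x : S, p ^ 2 * x ∈ I → p * x ∈ I) (m : ℕ) (x : S) (hx : p ^ (m + 1) * x ∈ I) :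
    p * x ∈ I := by
  induction m with
  | zero => simpa using hx
  | succ m ih =>
    apply ih
    have h1 : p ^ 2 * (p ^ m * x) ∈ I := by
      have : p ^ 2 * (p ^ m * x) = p ^ (m + 1 + 1) * x := by ring
      rw [this]; exact hx
    have h2 := h _ h1
    have : p ^ (m + 1) * x = p * (p ^ m * x) := by ring
    rw [this]; exact h2

theorem poly_ann_condition {k : Type u} [CommRing k] (d c : ℕ) (i : Fin d)
    (x : MvPolynomial (Fin d) k ⧸ Ideal.span (Set.range
      fun j : {j : Fin d // (j : ℕ) < (i : ℕ)} => ((X (j : Fin d) : MvPolynomial (Fin d) k) ^ c) ^ 8))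
    (hx : Ideal.Quotient.mk _ ((X i : MvPolynomial (Fin d) k) ^ c) ^ 2 * x = 0) :
    Ideal.Quotient.mk _ ((X i : MvPolynomial (Fin d) k) ^ c) * x = 0 := by
  obtain ⟨y, rfl⟩ := Ideal.Quotient.mk_surjective x
  rw [← map_pow, ← map_mul, Ideal.Quotient.eq_zero_iff_mem] at hx
  rw [← map_mul, Ideal.Quotient.eq_zero_iff_mem]
  have hset : Ideal.span (Set.range
      fun j : {j : Fin d // (j : ℕ) < (i : ℕ)} => ((X (j : Fin d) : MvPolynomial (Fin d) k) ^ c) ^ 8) =
      Ideal.span ((fun j : Fin d => (X j : MvPolynomial (Fin d) k) ^ (c * 8)) ''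
        {j : Fin d | (j : ℕ) < (i : ℕ)}) := by
    congr 1
    ext p
    simp only [Set.mem_range, Subtype.exists, Set.mem_image, Set.mem_ofPred_eq, pow_mul]
    constructor
    · rintro ⟨j, hj, rfl⟩
      exact ⟨j, hj, rfl⟩
    · rintro ⟨j, hj, rfl⟩
      exact ⟨j, hj, rfl⟩
  rw [hset] at hx ⊢
  have h1 : (X i : MvPolynomial (Fin d) k) ^ (c * 8) * y ∈
      Ideal.span ((fun j : Fin d => (X j : MvPolynomial (Fin d) k) ^ (c * 8)) ''
        {j : Fin d | (j : ℕ) < (i : ℕ)}) := by
    have : (X i : MvPolynomial (Fin d) k) ^ (c * 8) * y =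
        (X i) ^ (c * 6) * (((X i) ^ c) ^ 2 * y) := by ring
    rw [this]
    exact Ideal.mul_mem_left _ _ hx
  have h2 := Groth.Agent.Lib.Helper21.KosPoly.mem_of_X_pow_mul_mem
    {j : Fin d | (j : ℕ) < (i : ℕ)} (c * 8) i (by simp) y h1
  exact Ideal.mul_mem_left _ _ h2

theorem lam_ann_condition {R Λ : Type u} [CommRing R] [CommRing Λ] [Algebra R Λ] (d c : ℕ)
    (hc : 0 < c) (X' : Fin d → R)
    (hann : ∀ (i : Fin d) (x : Λ), algebraMap R Λ (X' i) ^ 2 * x ∈
        PopParam.J (c * 8) (fun i => algebraMap R Λ (X' i)) i →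
      algebraMap R Λ (X' i) * x ∈ PopParam.J (c * 8) (fun i => algebraMap R Λ (X' i)) i)
    (i : Fin d)
    (x : Λ ⧸ Ideal.span (Set.range fun j : {j : Fin d // (j : ℕ) < (i : ℕ)} =>
        algebraMap R Λ (X' j ^ c) ^ 8))
    (hx : Ideal.Quotient.mk _ (algebraMap R Λ (X' i ^ c)) ^ 2 * x = 0) :
    Ideal.Quotient.mk _ (algebraMap R Λ (X' i ^ c)) * x = 0 := by
  obtain ⟨y, rfl⟩ := Ideal.Quotient.mk_surjective x
  rw [← map_pow, ← map_mul, Ideal.Quotient.eq_zero_iff_mem] at hx
  rw [← map_mul, Ideal.Quotient.eq_zero_iff_mem]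
  have hset : Ideal.span (Set.range fun j : {j : Fin d // (j : ℕ) < (i : ℕ)} =>
        algebraMap R Λ (X' j ^ c) ^ 8) =
      PopParam.J (c * 8) (fun i => algebraMap R Λ (X' i)) i := by
    unfold PopParam.J
    congr 2
    funext j
    rw [map_pow, ← pow_mul]
  rw [hset] at hx ⊢
  obtain ⟨c', rfl⟩ : ∃ c', c = c' + 1 := ⟨c - 1, by omega⟩
  have h1 : algebraMap R Λ (X' i) * y ∈
      PopParam.J ((c' + 1) * 8) (fun i => algebraMap R Λ (X' i)) i := by
    apply mul_mem_of_pow_mul_mem _ _ (hann i) (2 * c' + 1) y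
    have : algebraMap R Λ (X' i) ^ (2 * c' + 1 + 1) * y =
        algebraMap R Λ (X' i ^ (c' + 1)) ^ 2 * y := by
      rw [map_pow]; ring
    rw [this]; exact hx
  have : algebraMap R Λ (X' i ^ (c' + 1)) * y =
      algebraMap R Λ (X' i) ^ c' * (algebraMap R Λ (X' i) * y) := by
    rw [map_pow]; ring
  rw [this]
  exact Ideal.mul_mem_left _ _ h1


theorem resolvable_quot_vars {k : Type u} [Field k] (d : ℕ) {Λ : Type u} [CommRing Λ]
    [Algebra k Λ] [Algebra (MvPolynomial (Fin d) k) Λ]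
    [IsScalarTower k (MvPolynomial (Fin d) k) Λ]
    (q : Ideal Λ) [q.IsPrime] [IsRegularLocalRing (Localization.AtPrime q)]
    (hd : ringKrullDim (Localization.AtPrime q) = d)
    (hspan : Ideal.span (Set.range fun i => algebraMap Λ (Localization.AtPrime q)
        (algebraMap (MvPolynomial (Fin d) k) Λ (X i))) =
      q.map (algebraMap Λ (Localization.AtPrime q)))
    [Algebra.IsGeometricallyReduced k q.ResidueField]
    (K : Ideal (MvPolynomial (Fin d) k)) (hKM : K ≤ idealOfVars (Fin d) k)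
    (hMK : ∀ i, ∃ N, (X i : MvPolynomial (Fin d) k) ^ N ∈ K)
    {C' : Type u} [CommRing C'] [Algebra (MvPolynomial (Fin d) k ⧸ K) C']
    [Algebra.FinitePresentation (MvPolynomial (Fin d) k ⧸ K) C']
    (ψ : C' →ₐ[MvPolynomial (Fin d) k ⧸ K] (Λ ⧸ K.map (algebraMap (MvPolynomial (Fin d) k) Λ))) :
    Resolvable (MvPolynomial (Fin d) k ⧸ K) ψ
      (q.map (Ideal.Quotient.mk (K.map (algebraMap (MvPolynomial (Fin d) k) Λ)))) := by
  haveI := idealOfVars_isMaximal k (Fin d)
  have hnil : IsNilpotent ((idealOfVars (Fin d) k).map (Ideal.Quotient.mk K)) := by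
    rw [Ideal.FG.isNilpotent_iff_le_nilradical ((idealOfVars_fg (Fin d) k).map _),
      Ideal.map_span, Ideal.span_le]
    rintro _ ⟨_, ⟨i, rfl⟩, rfl⟩
    obtain ⟨N, hN⟩ := hMK i
    refine ⟨N, ?_⟩
    rw [← map_pow]
    exact Ideal.Quotient.eq_zero_iff_mem.2 hN
  have hspan' : Ideal.span (Set.range fun i => algebraMap (MvPolynomial (Fin d) k)
      (Localization.AtPrime q) (X i)) = IsLocalRing.maximalIdeal (Localization.AtPrime q) := by
    rw [← Localization.AtPrime.map_eq_maximalIdeal, ← hspan]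
    congr 2
  have hmax : (idealOfVars (Fin d) k).map (algebraMap (MvPolynomial (Fin d) k)
      (Localization.AtPrime q)) = IsLocalRing.maximalIdeal (Localization.AtPrime q) := by
    rw [← hspan', Ideal.map_span, ← Set.range_comp]
    rfl
  haveI : Module.Flat (MvPolynomial (Fin d) k) (Localization.AtPrime q) :=
    flat_mvPolynomial_of_regular k d (Localization.AtPrime q) hd hspan'
  have hind : IndSmooth (MvPolynomial (Fin d) k ⧸ idealOfVars (Fin d) k)
      (Localization.AtPrime q ⧸ (idealOfVars (Fin d) k).map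
        (algebraMap (MvPolynomial (Fin d) k) (Localization.AtPrime q))) := by
    refine indSmooth_of_ringEquiv (Λ := q.ResidueField) (quotVarsEquiv k (Fin d))
      (Ideal.quotEquivOfEq hmax.symm) ?_ (indSmooth_of_geometricallyReduced k q.ResidueField)
    intro r
    rw [quotVarsEquiv_apply]
    show Ideal.quotEquivOfEq hmax.symm (Ideal.Quotient.mk _ (algebraMap k _ r)) =
      Ideal.Quotient.mk _ (algebraMap (MvPolynomial (Fin d) k) (Localization.AtPrime q) (C r))
    rw [Ideal.quotEquivOfEq_mk, ← MvPolynomial.algebraMap_eq, ← IsScalarTower.algebraMap_apply]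
  exact resolvable_quot_of_flat q (idealOfVars (Fin d) k) K hKM hnil hmax hind ψ


/-- Step D: the problem over the polynomial ring is resolvable once the powers of the variables
are strictly standard. -/
theorem resolvable_of_vars {k : Type u} [Field k] (d : ℕ) (hd0 : 0 < d) {Λ : Type u} [CommRing Λ]
    [Algebra k Λ] [Algebra (MvPolynomial (Fin d) k) Λ]
    [IsScalarTower k (MvPolynomial (Fin d) k) Λ]
    (q : Ideal Λ) [q.IsPrime] [IsRegularLocalRing (Localization.AtPrime q)]
    (hd : ringKrullDim (Localization.AtPrime q) = d)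
    (hspan : Ideal.span (Set.range fun i => algebraMap Λ (Localization.AtPrime q)
        (algebraMap (MvPolynomial (Fin d) k) Λ (X i))) =
      q.map (algebraMap Λ (Localization.AtPrime q)))
    [Algebra.IsGeometricallyReduced k q.ResidueField]
    {C : Type u} [CommRing C] [Algebra (MvPolynomial (Fin d) k) C]
    [Algebra.FinitePresentation (MvPolynomial (Fin d) k) C]
    (ψ : C →ₐ[MvPolynomial (Fin d) k] Λ) (c : ℕ) (hc : 0 < c)
    (hstd : ∀ i : Fin d, IsStrictlyStandard (MvPolynomial (Fin d) k) C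
      (algebraMap (MvPolynomial (Fin d) k) C (X i ^ c)))
    (hann : ∀ (i : Fin d) (x : Λ), algebraMap (MvPolynomial (Fin d) k) Λ (X i) ^ 2 * x ∈
        PopParam.J (c * 8) (fun i => algebraMap (MvPolynomial (Fin d) k) Λ (X i)) i →
      algebraMap (MvPolynomial (Fin d) k) Λ (X i) * x ∈
        PopParam.J (c * 8) (fun i => algebraMap (MvPolynomial (Fin d) k) Λ (X i)) i) :
    Resolvable (MvPolynomial (Fin d) k) ψ q := by
  have hXq : ∀ i : Fin d, algebraMap (MvPolynomial (Fin d) k) Λ (X i) ∈ q := by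
    intro i
    rw [← IsLocalization.AtPrime.to_map_mem_maximal_iff (Localization.AtPrime q) q,
      ← Localization.AtPrime.map_eq_maximalIdeal, ← hspan]
    exact Ideal.subset_span ⟨i, rfl⟩
  have hKM : Ideal.span (Set.range fun i : Fin d => ((X i : MvPolynomial (Fin d) k) ^ c) ^ 8) ≤
      idealOfVars (Fin d) k := by
    rw [Ideal.span_le]
    rintro _ ⟨i, rfl⟩
    show ((X i : MvPolynomial (Fin d) k) ^ c) ^ 8 ∈ idealOfVars (Fin d) k
    rw [← pow_mul]
    obtain ⟨m, hm⟩ : ∃ m, c * 8 = m + 1 := ⟨c * 8 - 1, by omega⟩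
    rw [hm, pow_succ]
    exact Ideal.mul_mem_left _ _ (Ideal.subset_span ⟨i, rfl⟩)
  haveI := finitePresentation_quot (A := C)
    (Ideal.span (Set.range fun i : Fin d => ((X i : MvPolynomial (Fin d) k) ^ c) ^ 8))
  refine Groth.Agent.S6822.result ψ q hd0 (fun i => (X i : MvPolynomial (Fin d) k) ^ c) ?_
    (fun i x hx => poly_ann_condition d c i x hx)
    (fun i x hx => lam_ann_condition d c hc (fun i => (X i : MvPolynomial (Fin d) k)) hann i x hx)
    hstd _ rfl (quotMapBar _ ψ) (fun a => quotMapBar_mk _ ψ a)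
    (resolvable_quot_vars d q hd hspan _ hKM (fun i => ⟨c * 8, ?_⟩) _)
  · intro i
    rw [map_pow]
    exact Ideal.pow_mem_of_mem _ (hXq i) c hc
  · rw [pow_mul]
    exact Ideal.subset_span ⟨i, rfl⟩

end Groth.Agent.Lib.Helper22.Pop
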