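import Mathlib
import Groth.Prelude.Def_Smoothing

set_option autoImplicit false
set_option linter.style.haveILetI false
set_option linter.unusedSectionVars false

universe u

namespace Groth.Agent.Lib.Helper22.Pop

open Smoothing MvPolynomial

theorem singularIdeal_le_of_formallySmooth (k R₀ B : Type u) [CommRing k] [CommRing R₀]
    [Algebra k R₀] [Algebra.FormallySmooth k R₀] [CommRing B] [Algebra k B] [Algebra R₀ B]
    [IsScalarTower k R₀ B] : singularIdeal R₀ B ≤ singularIdeal k B := by
  unfold singularIdeal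
  apply PrimeSpectrum.vanishingIdeal_anti_mono
  rw [Set.compl_subset_compl]
  intro P hP
  haveI : Algebra.FormallySmooth R₀ (Localization.AtPrime P.asIdeal) := hP
  exact Algebra.FormallySmooth.comp k R₀ (Localization.AtPrime P.asIdeal)

/-- Descent of a resolution along a smooth base `k → R₀`. -/
theorem resolvable_descend {k R₀ A C Λ : Type u} [CommRing k] [CommRing R₀] [Algebra k R₀]
    [Algebra.FormallySmooth k R₀] [Algebra.FinitePresentation k R₀]
    [CommRing A] [Algebra k A] [CommRing C] [Algebra k C] [Algebra R₀ C] [IsScalarTower k R₀ C]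
    [CommRing Λ] [Algebra k Λ] [Algebra R₀ Λ] [IsScalarTower k R₀ Λ]
    (φ : A →ₐ[k] Λ) (ι : A →ₐ[k] C) (ψ : C →ₐ[R₀] Λ) (hψ : ∀ y, ψ (ι y) = φ y) (q : Ideal Λ)
    (hsing : ∀ y ∈ singularIdeal k A, ι y ∈ singularIdeal R₀ C)
    (hres : Resolvable R₀ ψ q) : Resolvable k φ q := by
  obtain ⟨B', _, _, hfp, g, h, hgh, h1, h2⟩ := hres
  haveI := hfp
  letI : Algebra k B' := ((algebraMap R₀ B').comp (algebraMap k R₀)).toAlgebra
  haveI : IsScalarTower k R₀ B' := IsScalarTower.of_algebraMap_eq fun _ => rfl
  haveI : Algebra.FinitePresentation k B' := Algebra.FinitePresentation.trans k R₀ B'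
  have hle : singRad R₀ h ≤ singRad k (h.restrictScalars k) := by
    unfold singRad
    apply Ideal.radical_mono
    rw [Ideal.map_le_iff_le_comap]
    intro x hx
    exact Ideal.mem_map_of_mem (h.restrictScalars k)
      (singularIdeal_le_of_formallySmooth k R₀ B' hx)
  refine ⟨B', inferInstance, inferInstance, inferInstance, (g.restrictScalars k).comp ι,
    h.restrictScalars k, ?_, ?_, fun hcon => h2 (hle.trans hcon)⟩
  · ext y
    show h (g (ι y)) = φ y
    rw [← hψ, ← hgh]
    rfl
  · refine le_trans ?_ (h1.trans hle)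
    unfold singRad
    rw [Ideal.radical_le_radical_iff, Ideal.map_le_iff_le_comap]
    intro y hy
    rw [Ideal.mem_comap, ← hψ]
    exact Ideal.le_radical (Ideal.mem_map_of_mem ψ (hsing y hy))

theorem exists_equiv_of_free (S M : Type u) [CommRing S] [AddCommGroup M] [Module S M]
    [Module.Free S M] [Module.Finite S M] :
    ∃ q : ℕ, Nonempty ((M × (Fin 0 → S)) ≃ₗ[S] (Fin q → S)) := by
  classical
  cases subsingleton_or_nontrivial S with
  | inl hS =>
    haveI : Subsingleton M := Module.subsingleton S M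
    refine ⟨0, ⟨?_⟩⟩
    exact LinearEquiv.ofSubsingleton _ _
  | inr hS =>
    let b := Module.Free.chooseBasis S M
    let e₁ : M ≃ₗ[S] (Module.Free.ChooseBasisIndex S M → S) := b.equivFun
    let e₂ : (Module.Free.ChooseBasisIndex S M → S) ≃ₗ[S]
        (Fin (Fintype.card (Module.Free.ChooseBasisIndex S M)) → S) :=
      LinearEquiv.funCongrLeft S S (Fintype.equivFin _).symm
    refine ⟨Fintype.card (Module.Free.ChooseBasisIndex S M), ⟨?_⟩⟩
    exact (LinearEquiv.prodUnique (R := S) (M := M) (M₂ := Fin 0 → S)).trans (e₁.trans e₂)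

theorem exists_pow_map_le {Λ : Type u} [CommRing Λ] [IsNoetherianRing Λ] (I q : Ideal Λ)
    [q.IsPrime] (hq : q ∈ I.minimalPrimes) :
    ∃ n : ℕ, 0 < n ∧ (q ^ n).map (algebraMap Λ (Localization.AtPrime q)) ≤
      I.map (algebraMap Λ (Localization.AtPrime q)) := by
  obtain ⟨n, hn⟩ := Ideal.exists_pow_le_of_le_radical_of_fg
    (I := q.map (algebraMap Λ (Localization.AtPrime q)))
    (J := I.map (algebraMap Λ (Localization.AtPrime q)))
    (by rw [IsLocalization.AtPrime.radical_map_of_mem_minimalPrimes (A := Localization.AtPrime q) q I hq])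
    (IsNoetherian.noetherian _)
  refine ⟨n + 1, Nat.succ_pos n, ?_⟩
  rw [Ideal.map_pow]
  exact (Ideal.pow_le_pow_right (Nat.le_succ n)).trans hn

end Groth.Agent.Lib.Helper22.Pop
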