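import Mathlib
import Groth.Agent.Lib.Helper22.PopZk
import Groth.Agent.Lib.Helper22.PopZm
import Groth.Agent.Lib.Helper22.PopZn
import Groth.Agent.Lib.Helper22.PopZe
import Groth.Agent.Lib.Helper22.PopZi
import Groth.Agent.Lib.Helper22.PopQ
import Groth.Agent.Lib.Helper22.PopZa
import Groth.Agent.Lib.Helper7.RegularFree

set_option autoImplicit false
set_option linter.style.haveILetI false
set_option linter.unusedSectionVars false

universe u

namespace Groth.Agent.Lib.Helper22.Pop

open Smoothing MvPolynomial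

/-- the dimension zero case -/
theorem sep_case_dim_zero {k A Λ : Type u} [Field k] [CommRing A]
    [Algebra k A] [Algebra.FinitePresentation k A] [CommRing Λ] [Algebra k Λ]
    (φ : A →ₐ[k] Λ) (𝔮 : Ideal Λ) [𝔮.IsPrime] (hmin : 𝔮 ∈ (Smoothing.singRad k φ).minimalPrimes)
    (hd : ringKrullDim (Localization.AtPrime 𝔮) = 0)
    (hbot : IsLocalRing.maximalIdeal (Localization.AtPrime 𝔮) = ⊥)
    [Algebra.IsGeometricallyReduced k 𝔮.ResidueField] : Smoothing.Resolvable k φ 𝔮 := by
  have hind : IndSmooth k (Localization.AtPrime 𝔮) := by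
    refine indSmooth_of_ringEquiv (Λ := 𝔮.ResidueField) (RingEquiv.refl k)
      ((Ideal.quotEquivOfEq hbot).trans (RingEquiv.quotientBot _)) ?_
      (indSmooth_of_geometricallyReduced k 𝔮.ResidueField)
    intro r
    show RingEquiv.quotientBot _ (Ideal.quotEquivOfEq hbot
      (Ideal.Quotient.mk _ (algebraMap k _ r))) = algebraMap k _ r
    rw [Ideal.quotEquivOfEq_mk]
    rfl
  refine resolvable_of_local_indSmooth (Λq := Localization.AtPrime 𝔮) φ 𝔮 hmin ?_ hd hind
  intro x hx
  apply IsUnit.mk0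
  rintro rfl
  apply hx
  rw [Ideal.mem_comap, map_zero]
  exact Ideal.zero_mem _

/-- the positive-dimensional case -/
theorem sep_case_pos {k A Λ : Type u} [Field k] [CommRing A] [Algebra k A]
    [Algebra.FinitePresentation k A] [CommRing Λ] [Algebra k Λ] [IsNoetherianRing Λ]
    (φ : A →ₐ[k] Λ) (𝔮 : Ideal Λ) [𝔮.IsPrime] [IsRegularLocalRing (Localization.AtPrime 𝔮)]
    [Algebra.IsGeometricallyReduced k 𝔮.ResidueField]
    {r : ℕ} (a : Fin r → A) (hspan : Ideal.span (Set.range a) = singularIdeal k A)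
    (d : ℕ) (hd0 : 0 < d) (hd : ringKrullDim (Localization.AtPrime 𝔮) = d) (n : ℕ) (hn : 0 < n)
    (hpow : (𝔮 ^ n).map (algebraMap Λ (Localization.AtPrime 𝔮)) ≤
      ((singularIdeal k A).map φ).map (algebraMap Λ (Localization.AtPrime 𝔮))) :
    Resolvable k φ 𝔮 := by
  classical
  have hsm : ∀ j, Algebra.Smooth k (Localization.Away (a j)) := fun j =>
    smooth_away_of_mem_singularIdeal (hspan ▸ Ideal.subset_span ⟨j, rfl⟩)
  -- the retract `C` of `B`
  obtain ⟨C, _, _, _, _, hft, ⟨ρ⟩, hC⟩ :=
    exists_retract_free (R := MvPolynomial (Fin d) k) (A := BAlg a d n)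
  haveI := hft
  haveI : Algebra.FiniteType (MvPolynomial (Fin d) k) C :=
    Algebra.FiniteType.trans (S := BAlg a d n) inferInstance inferInstance
  haveI : Algebra.FinitePresentation (MvPolynomial (Fin d) k) C :=
    Algebra.FinitePresentation.of_finiteType.mp inferInstance
  letI algkC : Algebra k C :=
    ((algebraMap (MvPolynomial (Fin d) k) C).comp (algebraMap k (MvPolynomial (Fin d) k))).toAlgebra
  haveI : IsScalarTower k (MvPolynomial (Fin d) k) C := IsScalarTower.of_algebraMap_eq fun _ => rfl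
  haveI : IsScalarTower k (BAlg a d n) C := IsScalarTower.of_algebraMap_eq fun x => by
    rw [IsScalarTower.algebraMap_apply k (MvPolynomial (Fin d) k) C,
      IsScalarTower.algebraMap_apply (MvPolynomial (Fin d) k) (BAlg a d n) C,
      ← IsScalarTower.algebraMap_apply k (MvPolynomial (Fin d) k) (BAlg a d n)]
  -- strictly standard powers
  have hstd0 : ∀ i : Fin d, ∃ e₀ : ℕ, ∀ m, e₀ ≤ m →
      IsStrictlyStandard (MvPolynomial (Fin d) k) C
        (algebraMap (MvPolynomial (Fin d) k) C (X i) ^ m) := by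
    intro i
    have h1 := hC (algebraMap (MvPolynomial (Fin d) k) (BAlg a d n) (X i))
      (bAlg_smooth_away_x a d n k hsm i)
    rw [← IsScalarTower.algebraMap_apply (MvPolynomial (Fin d) k) (BAlg a d n) C (X i)] at h1
    obtain ⟨h2, h3⟩ := h1
    haveI := h2
    haveI := h3
    obtain ⟨q', ⟨e⟩⟩ := exists_equiv_of_free
      (Localization.Away (algebraMap (MvPolynomial (Fin d) k) C (X i)))
      Ω[Localization.Away (algebraMap (MvPolynomial (Fin d) k) C (X i))⁄MvPolynomial (Fin d) k]
    exact exists_strictlyStandard_pow (algebraMap (MvPolynomial (Fin d) k) C (X i)) 0 q' e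
  choose e₀ he₀ using hstd0
  have hc : 0 < Finset.univ.sup e₀ + 1 := Nat.succ_pos _
  have hstd : ∀ i, IsStrictlyStandard (MvPolynomial (Fin d) k) C
      (algebraMap (MvPolynomial (Fin d) k) C (X i ^ (Finset.univ.sup e₀ + 1))) := fun i => by
    rw [map_pow]
    exact he₀ i _ ((Finset.le_sup (Finset.mem_univ i)).trans (Nat.le_succ _))
  -- the parameters
  obtain ⟨π, hπspan, hπI, hπann⟩ := PopParam.main ((singularIdeal k A).map φ) 𝔮 n
    ((Finset.univ.sup e₀ + 1) * 8) d hn (by positivity) hpow hd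
  have hlam : ∀ i, ∃ lam : Fin r → Λ, π i ^ n = ∑ l, lam l * φ (a l) := by
    intro i
    have := hπI i
    rw [← hspan, Ideal.map_span, ← Set.range_comp, Ideal.mem_span_range_iff_exists_fun] at this
    obtain ⟨lam, hl⟩ := this
    exact ⟨lam, hl.symm⟩
  choose lam hlam' using hlam
  -- the algebra structure on `Λ`
  letI algΛ : Algebra (MvPolynomial (Fin d) k) Λ :=
    (aeval π : MvPolynomial (Fin d) k →ₐ[k] Λ).toRingHom.toAlgebra
  haveI : IsScalarTower k (MvPolynomial (Fin d) k) Λ := IsScalarTower.of_algebraMap_eq fun x =>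
    ((aeval π : MvPolynomial (Fin d) k →ₐ[k] Λ).commutes x).symm
  have hX : ∀ i, algebraMap (MvPolynomial (Fin d) k) Λ (X i) = π i := fun i => aeval_X π i
  have hfun : (fun i => algebraMap (MvPolynomial (Fin d) k) Λ (X i)) = π := funext hX
  let ψB : BAlg a d n →ₐ[MvPolynomial (Fin d) k] Λ :=
    bLiftPoly a d n k φ lam (fun i => by rw [hX]; exact hlam' i)
  let ψC : C →ₐ[MvPolynomial (Fin d) k] Λ :=
    ψB.comp (ρ.restrictScalars (MvPolynomial (Fin d) k))
  have hres : Resolvable (MvPolynomial (Fin d) k) ψC 𝔮 := by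
    refine resolvable_of_vars d hd0 𝔮 hd ?_ ψC _ hc hstd ?_
    · simp only [hX]
      exact hπspan
    · rw [hfun]
      simp only [hX]
      exact hπann
  refine resolvable_descend φ ((IsScalarTower.toAlgHom k (BAlg a d n) C).comp
    (IsScalarTower.toAlgHom k A (BAlg a d n))) ψC ?_ 𝔮 ?_ hres
  · intro y
    show ψB (ρ (algebraMap (BAlg a d n) C (algebraMap A (BAlg a d n) y))) = φ y
    rw [ρ.commutes]
    show ψB (algebraMap A _ y) = φ y
    rw [bLiftPoly_apply, bLift_algebraMap]
  · have hle : Ideal.span (Set.range a) ≤ (singularIdeal (MvPolynomial (Fin d) k) C).comap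
        ((IsScalarTower.toAlgHom k (BAlg a d n) C).comp
          (IsScalarTower.toAlgHom k A (BAlg a d n))) := by
      rw [Ideal.span_le]
      rintro _ ⟨j, rfl⟩
      haveI := hsm j
      exact mem_singularIdeal_of_smooth_localization_away _
        (hC (algebraMap A (BAlg a d n) (a j)) (bAlg_smooth_away_a a d n k j)).1
    intro y hy
    rw [← hspan] at hy
    exact hle hy

/-- Stacks 16.10.3: the separable residue field case. -/
theorem sep_case {k A Λ : Type u} [Field k] [CommRing A]
    [Algebra k A] [Algebra.FinitePresentation k A] [CommRing Λ] [Algebra k Λ] [IsNoetherianRing Λ]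
    (φ : A →ₐ[k] Λ) (𝔮 : Ideal Λ) [𝔮.IsPrime] (hmin : 𝔮 ∈ (Smoothing.singRad k φ).minimalPrimes)
    [IsRegularLocalRing (Localization.AtPrime 𝔮)]
    [Algebra.IsGeometricallyReduced k 𝔮.ResidueField] : Smoothing.Resolvable k φ 𝔮 := by
  classical
  obtain ⟨d, hd⟩ := Groth.Agent.Lib.Helper7.RegularFree.exists_dim (A := Localization.AtPrime 𝔮)
  haveI : IsNoetherianRing A := Algebra.FiniteType.isNoetherianRing k A
  obtain ⟨s, hs⟩ := (isNoetherianRing_iff_ideal_fg A).mp inferInstance (singularIdeal k A)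
  let a : Fin s.card → A := fun i => (s.equivFin.symm i : A)
  have hrange : Set.range a = (s : Set A) := by
    ext x
    constructor
    · rintro ⟨j, rfl⟩
      exact (s.equivFin.symm j).2
    · intro hx
      exact ⟨s.equivFin ⟨x, hx⟩, by simp [a]⟩
  have hspan : Ideal.span (Set.range a) = singularIdeal k A := by rw [hrange, hs]
  have hmin' : 𝔮 ∈ ((singularIdeal k A).map φ).minimalPrimes := by
    rw [← Ideal.radical_minimalPrimes]
    exact hmin
  obtain ⟨n, hn, hpow⟩ := exists_pow_map_le _ 𝔮 hmin'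
  rcases Nat.eq_zero_or_pos d with rfl | hd0
  · obtain ⟨π, hπ, -, -⟩ := PopParam.main ((singularIdeal k A).map φ) 𝔮 n 1 0 hn one_pos hpow hd
    have hbot : IsLocalRing.maximalIdeal (Localization.AtPrime 𝔮) = ⊥ := by
      rw [← Localization.AtPrime.map_eq_maximalIdeal, ← hπ]
      simp
    exact sep_case_dim_zero φ 𝔮 hmin (by exact_mod_cast hd) hbot
  · exact sep_case_pos φ 𝔮 a hspan d hd0 hd n hn hpow

end Groth.Agent.Lib.Helper22.Pop
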