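import Mathlib
import Groth.Prelude.Def_Smoothing
import Groth.Agent.Lib.Helper22.PopG

/-!
# The algebra `A[z_il] / (π_i ^ n - ∑ z_il a_l)` with `π_i` in the base ring
-/

set_option autoImplicit false
set_option linter.style.haveILetI false
set_option linter.unusedSectionVars false

universe u

namespace Groth.Agent.Lib.Helper22.Pop

open MvPolynomial

section QAlg

variable {R A : Type u} [CommRing R] [CommRing A] [Algebra R A] {r : ℕ} (a : Fin r → A)
  {d : ℕ} (π : Fin d → R) (n : ℕ)

/-- the relations `π_i ^ n - ∑ z_il a_l` -/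
noncomputable def qRel (i : Fin d) : MvPolynomial (Fin d × Fin r) A :=
  C (algebraMap R A (π i)) ^ n - ∑ l, X (i, l) * C (a l)

/-- the algebra `A[z_il] / (π_i ^ n - ∑ z_il a_l)` -/
def QAlg : Type u :=
  MvPolynomial (Fin d × Fin r) A ⧸ Ideal.span (Set.range (qRel a π n))

noncomputable instance : CommRing (QAlg a π n) :=
  inferInstanceAs (CommRing (MvPolynomial (Fin d × Fin r) A ⧸
    Ideal.span (Set.range (qRel a π n))))

noncomputable instance qAlgAlgebra (k : Type*) [CommRing k] [Algebra k A] :
    Algebra k (QAlg a π n) :=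
  inferInstanceAs (Algebra k (MvPolynomial (Fin d × Fin r) A ⧸
    Ideal.span (Set.range (qRel a π n))))

instance (k : Type*) [CommRing k] [Algebra k A] : IsScalarTower k A (QAlg a π n) :=
  inferInstanceAs (IsScalarTower k A (MvPolynomial (Fin d × Fin r) A ⧸
    Ideal.span (Set.range (qRel a π n))))

/-- the quotient map -/
noncomputable def qMk : MvPolynomial (Fin d × Fin r) A →ₐ[A] QAlg a π n :=
  Ideal.Quotient.mkₐ A (Ideal.span (Set.range (qRel a π n)))

noncomputable def qz (i : Fin d) (l : Fin r) : QAlg a π n := qMk a π n (X (i, l))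

theorem qMk_C (y : A) : qMk a π n (C y) = algebraMap A (QAlg a π n) y := by
  rw [← MvPolynomial.algebraMap_eq, AlgHom.commutes]

theorem q_pow (i : Fin d) :
    algebraMap R (QAlg a π n) (π i) ^ n =
      ∑ l, qz a π n i l * algebraMap A (QAlg a π n) (a l) := by
  have h : qMk a π n (qRel a π n i) = 0 :=
    Ideal.Quotient.eq_zero_iff_mem.2 (Ideal.subset_span ⟨i, rfl⟩)
  rw [qRel, map_sub, sub_eq_zero, map_pow, map_sum, qMk_C,
    ← IsScalarTower.algebraMap_apply] at h
  rw [h]
  refine Finset.sum_congr rfl fun l _ => ?_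
  rw [map_mul, qMk_C, qz]

theorem qAlg_ringHom_ext {T : Type*} [CommRing T] (F G : QAlg a π n →+* T)
    (hA : ∀ y, F (algebraMap A _ y) = G (algebraMap A _ y))
    (hz : ∀ i l, F (qz a π n i l) = G (qz a π n i l)) : F = G := by
  apply Ideal.Quotient.ringHom_ext
  apply MvPolynomial.ringHom_ext
  · intro y
    have := hA y
    rw [← qMk_C] at this
    exact this
  · rintro ⟨i, l⟩
    exact hz i l

/-- universal property -/
noncomputable def qLift {T : Type*} [CommRing T] [Algebra R T] (f : A →ₐ[R] T)
    (z : Fin d → Fin r → T) (h : ∀ i, algebraMap R T (π i) ^ n = ∑ l, z i l * f (a l)) :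
    QAlg a π n →ₐ[R] T :=
  Ideal.Quotient.liftₐ (Ideal.span (Set.range (qRel a π n)))
    (aevalTower f (fun p => z p.1 p.2)) (by
      intro p hp
      have hle : Ideal.span (Set.range (qRel a π n)) ≤
          RingHom.ker (aevalTower f (fun p => z p.1 p.2)).toRingHom := by
        rw [Ideal.span_le]
        rintro _ ⟨i, rfl⟩
        show aevalTower f (fun p => z p.1 p.2) (qRel a π n i) = 0
        simp [qRel, h i]
      exact RingHom.mem_ker.1 (hle hp))

theorem qLift_qMk {T : Type*} [CommRing T] [Algebra R T] (f : A →ₐ[R] T)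
    (z : Fin d → Fin r → T) (h : ∀ i, algebraMap R T (π i) ^ n = ∑ l, z i l * f (a l))
    (p : MvPolynomial (Fin d × Fin r) A) :
    qLift a π n f z h (qMk a π n p) = aevalTower f (fun p => z p.1 p.2) p :=
  rfl

theorem qLift_algebraMap {T : Type*} [CommRing T] [Algebra R T] (f : A →ₐ[R] T)
    (z : Fin d → Fin r → T) (h : ∀ i, algebraMap R T (π i) ^ n = ∑ l, z i l * f (a l)) (y : A) :
    qLift a π n f z h (algebraMap A _ y) = f y := by
  rw [← qMk_C, qLift_qMk]
  simp

theorem qLift_qz {T : Type*} [CommRing T] [Algebra R T] (f : A →ₐ[R] T)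
    (z : Fin d → Fin r → T) (h : ∀ i, algebraMap R T (π i) ^ n = ∑ l, z i l * f (a l))
    (i : Fin d) (l : Fin r) :
    qLift a π n f z h (qz a π n i l) = z i l := by
  rw [qz, qLift_qMk]
  simp

instance qAlg_fp [Algebra.FinitePresentation R A] :
    Algebra.FinitePresentation R (QAlg a π n) := by
  haveI : Algebra.FinitePresentation R (MvPolynomial (Fin d × Fin r) A) :=
    Algebra.FinitePresentation.trans R A _
  exact Algebra.FinitePresentation.quotient (Submodule.fg_span (Set.finite_range (qRel a π n)))

theorem qAlg_formallySmooth_away (j : Fin r)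
    [Algebra.FormallySmooth R (Localization.Away (a j))] :
    Algebra.FormallySmooth R (Localization.Away (algebraMap A (QAlg a π n) (a j))) := by
  classical
  refine Algebra.FormallySmooth.of_comp_surjective fun T _ _ I hI g => ?_
  have hu : IsUnit (((IsScalarTower.toAlgHom R (QAlg a π n)
      (Localization.Away (algebraMap A (QAlg a π n) (a j)))).comp
      (IsScalarTower.toAlgHom R A (QAlg a π n))) (a j)) :=
    IsLocalization.Away.algebraMap_isUnit (algebraMap A (QAlg a π n) (a j))
  let ι : Localization.Away (a j) →ₐ[R] Localization.Away (algebraMap A (QAlg a π n) (a j)) :=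
    awayLiftAlg (a j) _ hu
  have hι : ∀ y : A, ι (algebraMap A _ y) =
      algebraMap (QAlg a π n) _ (algebraMap A (QAlg a π n) y) := fun y =>
    awayLiftAlg_algebraMap (a j) _ hu y
  obtain ⟨g₁, hg₁⟩ := Algebra.FormallySmooth.comp_surjective R (Localization.Away (a j)) I hI
    (g.comp ι)
  have hg₁' : ∀ y, Ideal.Quotient.mk I (g₁ y) = g (ι y) := fun y => congr($hg₁ y)
  let f : A →ₐ[R] T := g₁.comp (IsScalarTower.toAlgHom R A (Localization.Away (a j)))
  have hf : ∀ y, Ideal.Quotient.mk I (f y) =
      g (algebraMap (QAlg a π n) _ (algebraMap A (QAlg a π n) y)) := by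
    intro y
    rw [← hι]
    exact hg₁' _
  have hfu : IsUnit (f (a j)) :=
    (IsLocalization.Away.algebraMap_isUnit (S := Localization.Away (a j)) (a j)).map g₁
  obtain ⟨u, hu'⟩ := hfu
  have hz : ∀ i l, ∃ t : T, Ideal.Quotient.mk I t = g (algebraMap (QAlg a π n) _ (qz a π n i l)) :=
    fun i l => Ideal.Quotient.mk_surjective _
  choose z₀ hz₀ using hz
  let x : Fin d → T := fun i => algebraMap R T (π i)
  let z : Fin d → Fin r → T := fun i l =>
    if l = j then ((u⁻¹ : Tˣ) : T) * (x i ^ n - ∑ l' ∈ Finset.univ.erase j, z₀ i l' * f (a l'))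
    else z₀ i l
  have hrel : ∀ i, x i ^ n = ∑ l, z i l * f (a l) := by
    intro i
    rw [← Finset.add_sum_erase _ _ (Finset.mem_univ j)]
    have h1 : z i j * f (a j) = x i ^ n - ∑ l' ∈ Finset.univ.erase j, z₀ i l' * f (a l') := by
      simp only [z, if_true]
      rw [← hu', mul_comm, ← mul_assoc, Units.mul_inv, one_mul]
    have h2 : ∑ l ∈ Finset.univ.erase j, z i l * f (a l) =
        ∑ l' ∈ Finset.univ.erase j, z₀ i l' * f (a l') := by
      refine Finset.sum_congr rfl fun l hl => ?_
      simp only [z, if_neg (Finset.ne_of_mem_erase hl)]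
    rw [h1, h2, sub_add_cancel]
  let G₀ : QAlg a π n →ₐ[R] T := qLift a π n f z hrel
  have hG₀A : ∀ y, G₀ (algebraMap A _ y) = f y := fun y => qLift_algebraMap a π n f z hrel y
  have hG₀z : ∀ i l, G₀ (qz a π n i l) = z i l := fun i l => qLift_qz a π n f z hrel i l
  have hGu : IsUnit (G₀ (algebraMap A (QAlg a π n) (a j))) := by
    rw [hG₀A, ← hu']
    exact u.isUnit
  refine ⟨awayLiftAlg _ G₀ hGu, ?_⟩
  apply away_algHom_ext
  intro b
  rw [AlgHom.comp_apply, awayLiftAlg_algebraMap]
  show (Ideal.Quotient.mk I) (G₀ b) = g (algebraMap (QAlg a π n) _ b)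
  have hx : ∀ i, Ideal.Quotient.mk I (x i) =
      g (algebraMap (QAlg a π n) _ (algebraMap R (QAlg a π n) (π i))) := by
    intro i
    rw [← IsScalarTower.algebraMap_apply, AlgHom.commutes]
    rfl
  have key : ((Ideal.Quotient.mk I).comp G₀.toRingHom) =
      (g.toRingHom.comp (algebraMap (QAlg a π n)
        (Localization.Away (algebraMap A (QAlg a π n) (a j))))) := by
    apply qAlg_ringHom_ext
    · intro y
      show Ideal.Quotient.mk I (G₀ _) = g _
      rw [hG₀A, hf]
    · intro i l
      show Ideal.Quotient.mk I (G₀ _) = g _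
      rw [hG₀z]
      by_cases hl : l = j
      · subst hl
        have hunit : IsUnit (Ideal.Quotient.mk I (u : T)) := u.isUnit.map _
        apply hunit.mul_left_cancel
        have h1 : z i l * f (a l) = x i ^ n - ∑ l' ∈ Finset.univ.erase l, z₀ i l' * f (a l') := by
          simp only [z, if_true]
          rw [← hu', mul_comm, ← mul_assoc, Units.mul_inv, one_mul]
        rw [← map_mul, hu', mul_comm, h1, map_sub, map_pow, hx, map_sum]
        have h2 : ∀ l', Ideal.Quotient.mk I (z₀ i l' * f (a l')) =
            g (algebraMap (QAlg a π n) _ (qz a π n i l' * algebraMap A _ (a l'))) := by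
          intro l'
          rw [map_mul, hz₀, hf, map_mul, map_mul]
        simp only [h2]
        rw [← map_sum, ← map_sum, ← map_pow, ← map_pow, ← map_sub, ← map_sub, q_pow,
          ← Finset.add_sum_erase _ _ (Finset.mem_univ l), add_sub_cancel_right, map_mul, map_mul,
          ← hf, mul_comm]
      · simp only [z, if_neg hl]
        exact hz₀ i l
  exact congr($key b)

theorem qAlg_smooth_away_a [Algebra.FinitePresentation R A] (j : Fin r)
    [Algebra.Smooth R (Localization.Away (a j))] :
    Algebra.Smooth R (Localization.Away (algebraMap A (QAlg a π n) (a j))) := by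
  haveI : Algebra.FinitePresentation (QAlg a π n)
      (Localization.Away (algebraMap A (QAlg a π n) (a j))) :=
    IsLocalization.Away.finitePresentation (algebraMap A (QAlg a π n) (a j))
  exact ⟨qAlg_formallySmooth_away a π n j,
    Algebra.FinitePresentation.trans _ (QAlg a π n) _⟩

theorem qAlg_smooth_away_pi [Algebra.FinitePresentation R A]
    (hsm : ∀ j, Algebra.Smooth R (Localization.Away (a j))) (i : Fin d) :
    Algebra.Smooth R (Localization.Away (algebraMap R (QAlg a π n) (π i))) := by
  rw [← Algebra.basicOpen_subset_smoothLocus_iff_smooth]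
  intro P hP
  rw [SetLike.mem_coe, PrimeSpectrum.mem_basicOpen] at hP
  by_cases hall : ∀ l, algebraMap A (QAlg a π n) (a l) ∈ P.asIdeal
  · exfalso
    apply hP
    apply P.2.mem_of_pow_mem n
    rw [q_pow]
    exact Ideal.sum_mem _ fun l _ => Ideal.mul_mem_left _ _ (hall l)
  · push Not at hall
    obtain ⟨l, hl⟩ := hall
    haveI := hsm l
    have h1 := (Algebra.basicOpen_subset_smoothLocus_iff_smooth
      (R := R) (A := QAlg a π n)
      (f := algebraMap A (QAlg a π n) (a l))).mpr (qAlg_smooth_away_a a π n l)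
    exact h1 hl

end QAlg

end Groth.Agent.Lib.Helper22.Pop
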