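import Mathlib
import Groth.Agent.Lib.Helper22.PopZl

/-!
# The Artinian quotient problem for an arbitrary model of the localization
-/

set_option autoImplicit false
set_option linter.style.haveILetI false
set_option linter.unusedSectionVars false

universe u

namespace Groth.Agent.Lib.Helper22.Pop

open Smoothing

theorem resolvable_quot_of_flat' {R₀ Λ Λq : Type u} [CommRing R₀] [IsNoetherianRing R₀] [CommRing Λ]
    [Algebra R₀ Λ] (q : Ideal Λ) [q.IsPrime] [CommRing Λq] [Algebra Λ Λq]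
    [IsLocalization.AtPrime Λq q] [Algebra R₀ Λq] [IsScalarTower R₀ Λ Λq]
    (M K : Ideal R₀) [hM : M.IsMaximal] (hKM : K ≤ M)
    (hnil : IsNilpotent (M.map (Ideal.Quotient.mk K)))
    [Module.Flat R₀ Λq]
    (hmax0 : M.map (algebraMap R₀ Λq) = q.map (algebraMap Λ Λq))
    (hind : IndSmooth (R₀ ⧸ M) (Λq ⧸
      M.map (algebraMap R₀ Λq)))
    {C' : Type u} [CommRing C'] [Algebra (R₀ ⧸ K) C'] [Algebra.FinitePresentation (R₀ ⧸ K) C']
    (ψ : C' →ₐ[R₀ ⧸ K] (Λ ⧸ K.map (algebraMap R₀ Λ))) :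
    Resolvable (R₀ ⧸ K) ψ (q.map (Ideal.Quotient.mk (K.map (algebraMap R₀ Λ)))) := by
  haveI : IsLocalRing Λq := IsLocalization.AtPrime.isLocalRing Λq q
  have hmax : M.map (algebraMap R₀ Λq) = IsLocalRing.maximalIdeal Λq :=
    hmax0.trans (IsLocalization.AtPrime.map_eq_maximalIdeal q Λq)
  have hind' := indSmooth_quot_of_flat (Λ := Λq) M K hKM hnil hind
  -- `M Λ ≤ q`
  have hMq : M.map (algebraMap R₀ Λ) ≤ q := by
    rw [Ideal.map_le_iff_le_comap]
    intro x hx
    rw [Ideal.mem_comap, ← IsLocalization.AtPrime.to_map_mem_maximal_iff Λq q,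
      ← hmax, ← IsScalarTower.algebraMap_apply]
    exact Ideal.mem_map_of_mem _ hx
  have hKq : K.map (algebraMap R₀ Λ) ≤ q := (Ideal.map_mono hKM).trans hMq
  haveI hq' : (q.map (Ideal.Quotient.mk (K.map (algebraMap R₀ Λ)))).IsPrime :=
    Ideal.map_isPrime_of_surjective Ideal.Quotient.mk_surjective (by rw [Ideal.mk_ker]; exact hKq)
  obtain ⟨alg, tower, loc⟩ := quot_localization_instances (Λq := Λq) K q hKq
  letI := alg
  haveI := tower
  haveI := loc
  -- the maximal ideal of the quotient of the localization is nilpotent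
  have hker : RingHom.ker (Ideal.Quotient.mk (K.map (algebraMap R₀ Λq))) ≤
      IsLocalRing.maximalIdeal Λq := by
    rw [Ideal.mk_ker, ← hmax]
    exact Ideal.map_mono hKM
  haveI hmbar : ((IsLocalRing.maximalIdeal Λq).map
      (Ideal.Quotient.mk (K.map (algebraMap R₀ Λq)))).IsMaximal :=
    Ideal.IsMaximal.map_of_surjective_of_ker_le Ideal.Quotient.mk_surjective hker
  have hnil' : IsNilpotent ((IsLocalRing.maximalIdeal Λq).map
      (Ideal.Quotient.mk (K.map (algebraMap R₀ Λq)))) := by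
    obtain ⟨N, hN⟩ := hnil
    refine ⟨N, ?_⟩
    have h1 : (IsLocalRing.maximalIdeal Λq).map
        (Ideal.Quotient.mk (K.map (algebraMap R₀ Λq))) =
        (M.map (Ideal.Quotient.mk K)).map (algebraMap (R₀ ⧸ K)
          (Λq ⧸ K.map (algebraMap R₀ Λq))) := by
      rw [← hmax, Ideal.map_map, Ideal.map_map]
      rfl
    rw [h1, ← Ideal.map_pow, hN]
    exact Ideal.map_bot
  have hdim : ringKrullDim (Λq ⧸
      K.map (algebraMap R₀ Λq)) = 0 :=
    ringKrullDim_eq_zero_of_isNilpotent _ hnil'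
  by_cases hle : singRad (R₀ ⧸ K) ψ ≤ q.map (Ideal.Quotient.mk (K.map (algebraMap R₀ Λ)))
  · have hmin0 : q.map (Ideal.Quotient.mk (K.map (algebraMap R₀ Λ))) ∈
        minimalPrimes (Λ ⧸ K.map (algebraMap R₀ Λ)) := by
      rw [← Ideal.height_eq_zero_iff]
      have h1 := IsLocalization.AtPrime.ringKrullDim_eq_height
        (q.map (Ideal.Quotient.mk (K.map (algebraMap R₀ Λ))))
        (Λq ⧸ K.map (algebraMap R₀ Λq))
      rw [hdim] at h1
      exact_mod_cast h1.symm
    have hmin : q.map (Ideal.Quotient.mk (K.map (algebraMap R₀ Λ))) ∈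
        (singRad (R₀ ⧸ K) ψ).minimalPrimes :=
      ⟨⟨hq', hle⟩, fun P hP hPq => hmin0.2 ⟨hP.1, bot_le⟩ hPq⟩
    haveI : (M.map (Ideal.Quotient.mk K)).IsMaximal :=
      Ideal.IsMaximal.map_of_surjective_of_ker_le Ideal.Quotient.mk_surjective
        (by rw [Ideal.mk_ker]; exact hKM)
    exact resolvable_of_local_indSmooth
      (Λq := Λq ⧸ K.map (algebraMap R₀ Λq)) ψ _ hmin
      (fun x hx => isUnit_of_notMem_prime_of_isNilpotent _ hnil _ x hx) hdim hind'
  · exact ⟨C', inferInstance, inferInstance, inferInstance, AlgHom.id _ _, ψ, AlgHom.comp_id ψ,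
      le_rfl, hle⟩

end Groth.Agent.Lib.Helper22.Pop
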