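import Mathlib
import Groth.Agent.Lib.Helper22.PopZp
import Groth.Agent.Lib.Helper22.PopZq
import Groth.Agent.Lib.Helper22.PopQ

set_option autoImplicit false
set_option linter.style.haveILetI false
set_option linter.unusedSectionVars false

universe u

namespace Groth.Agent.Lib.Helper22.Pop

open Smoothing MvPolynomial

/-- If the extended singular ideal is the unit ideal, the map factors through a smooth algebra. -/
theorem factors_of_singRad_eq_top {R A Λ : Type u} [CommRing R] [IsNoetherianRing R] [CommRing A]
    [Algebra R A] [Algebra.FinitePresentation R A] [CommRing Λ] [Algebra R Λ] (φ : A →ₐ[R] Λ)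
    (h : singRad R φ = ⊤) :
    ∃ (B : Type u) (_ : CommRing B) (_ : Algebra R B), Algebra.Smooth R B ∧
      ∃ (g : A →ₐ[R] B) (h : B →ₐ[R] Λ), h.comp g = φ := by
  classical
  haveI : IsNoetherianRing A := Algebra.FiniteType.isNoetherianRing R A
  obtain ⟨s, hs⟩ := (isNoetherianRing_iff_ideal_fg A).mp inferInstance (singularIdeal R A)
  let a : Fin s.card → A := fun i => (s.equivFin.symm i : A)
  have hrange : Set.range a = (s : Set A) := by
    ext x
    constructor
    · rintro ⟨j, rfl⟩
      exact (s.equivFin.symm j).2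
    · intro hx
      exact ⟨s.equivFin ⟨x, hx⟩, by simp [a]⟩
  have hspan : Ideal.span (Set.range a) = singularIdeal R A := by rw [hrange, hs]
  have hsm : ∀ j, Algebra.Smooth R (Localization.Away (a j)) := fun j =>
    smooth_away_of_mem_singularIdeal (hspan ▸ Ideal.subset_span ⟨j, rfl⟩)
  have h1 : (1 : Λ) ∈ (singularIdeal R A).map φ := by
    rw [singRad, Ideal.radical_eq_top] at h
    rw [h]; exact Submodule.mem_top
  rw [← hspan, Ideal.map_span, ← Set.range_comp, Ideal.mem_span_range_iff_exists_fun] at h1
  obtain ⟨lam, hlam⟩ := h1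
  let π : Fin 1 → R := fun _ => 1
  have hrel : ∀ i : Fin 1, algebraMap R Λ (π i) ^ 1 = ∑ l, (fun _ l => lam l) i l * φ (a l) := by
    intro i
    simp only [π, map_one, one_pow]
    exact hlam.symm
  have hsmQ : Algebra.Smooth R (QAlg a π 1) := by
    have h2 := qAlg_smooth_away_pi a π 1 hsm 0
    rw [← Algebra.basicOpen_subset_smoothLocus_iff_smooth] at h2
    have h3 : Algebra.smoothLocus R (QAlg a π 1) = Set.univ := by
      rw [Set.eq_univ_iff_forall]
      intro P
      apply h2
      rw [SetLike.mem_coe, PrimeSpectrum.mem_basicOpen]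
      simp only [π, map_one]
      exact P.2.one_notMem
    rw [Algebra.smoothLocus_eq_univ_iff] at h3
    exact ⟨h3, inferInstance⟩
  refine ⟨QAlg a π 1, inferInstance, inferInstance, hsmQ,
    IsScalarTower.toAlgHom R A (QAlg a π 1), qLift a π 1 φ (fun _ l => lam l) hrel, ?_⟩
  ext y
  exact qLift_algebraMap a π 1 φ _ hrel y

/-- Noetherian induction: if every problem can be resolved at the minimal primes of its extended
singular ideal, the algebra is ind-smooth. -/
theorem indSmooth_of_forall_resolvable {R Λ : Type u} [CommRing R] [IsNoetherianRing R]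
    [CommRing Λ] [IsNoetherianRing Λ] [Algebra R Λ]
    (H : ∀ (A : Type u) [CommRing A] [Algebra R A] [Algebra.FinitePresentation R A]
      (φ : A →ₐ[R] Λ) (q : Ideal Λ) [q.IsPrime], q ∈ (singRad R φ).minimalPrimes →
      Resolvable R φ q) : IndSmooth R Λ := by
  have key : ∀ I : Ideal Λ, ∀ (A : Type u) [CommRing A] [Algebra R A]
      [Algebra.FinitePresentation R A] (φ : A →ₐ[R] Λ), singRad R φ = I →
      ∃ (B : Type u) (_ : CommRing B) (_ : Algebra R B), Algebra.Smooth R B ∧
        ∃ (g : A →ₐ[R] B) (h : B →ₐ[R] Λ), h.comp g = φ := by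
    intro I
    induction I using WellFoundedGT.induction with
    | ind I ih =>
      intro A _ _ _ φ hI
      by_cases htop : I = ⊤
      · exact factors_of_singRad_eq_top φ (hI.trans htop)
      · obtain ⟨q, hq⟩ := Ideal.nonempty_minimalPrimes htop
        haveI : q.IsPrime := hq.1.1
        obtain ⟨B, _, _, hB, g, h, hgh, h1, h2⟩ := H A φ q (hI ▸ hq)
        haveI := hB
        have hlt : I < singRad R h := by
          refine lt_of_le_of_ne (hI ▸ h1) ?_
          intro heq
          apply h2
          rw [← heq]
          exact hq.1.2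
        obtain ⟨B', _, _, hB', g', h', hgh'⟩ := ih (singRad R h) hlt B h rfl
        exact ⟨B', inferInstance, inferInstance, hB', g'.comp g, h', by
          rw [← AlgHom.comp_assoc, hgh', hgh]⟩
  intro A _ _ hA f
  haveI := hA
  exact key _ A f rfl

end Groth.Agent.Lib.Helper22.Pop
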