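import Mathlib
import Groth.Agent.Lib.Helper22.PopZr
import Groth.Agent.Lib.Helper22.PopZn
import Groth.Agent.Lib.Helper22.PopZe
import Groth.Agent.Lib.Helper22.PopZi
import Groth.Agent.Lib.Helper22.PopZa
import Groth.Agent.Lib.Helper22.PopB
import Groth.Agent.S6822

set_option autoImplicit false
set_option linter.style.haveILetI false
set_option linter.unusedSectionVars false

universe u

namespace Groth.Agent.Lib.Helper22.Pop

open Smoothing MvPolynomial

/-- resolving at the generic point of a domain -/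
theorem resolvable_bot {R A Λ K L : Type u} [CommRing R] [IsDomain R] [IsNoetherianRing R]
    [CommRing A] [Algebra R A] [Algebra.FinitePresentation R A] [CommRing Λ] [IsDomain Λ]
    [Algebra R Λ] [NoZeroSMulDivisors R Λ]
    [Field K] [Algebra R K] [IsFractionRing R K] [Field L] [Algebra Λ L] [IsFractionRing Λ L]
    [Algebra K L] [Algebra R L] [IsScalarTower R K L] [IsScalarTower R Λ L]
    [Algebra.IsGeometricallyReduced K L] (φ : A →ₐ[R] Λ)
    (hmin : (⊥ : Ideal Λ) ∈ (singRad R φ).minimalPrimes) : Resolvable R φ ⊥ := by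
  haveI : (⊥ : Ideal Λ).IsPrime := Ideal.isPrime_bot
  have hinj : Function.Injective (algebraMap R Λ) := FaithfulSMul.algebraMap_injective R Λ
  have h1 : (Ideal.primeCompl ((⊥ : Ideal Λ).comap (algebraMap R Λ))) = nonZeroDivisors R := by
    ext x
    rw [Ideal.mem_primeCompl_iff, Ideal.mem_comap, Ideal.mem_bot, mem_nonZeroDivisors_iff_ne_zero,
      map_eq_zero_iff _ hinj]
  haveI : IsLocalization.AtPrime K ((⊥ : Ideal Λ).comap (algebraMap R Λ)) := by
    show IsLocalization _ K
    rw [h1]
    infer_instance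
  have h2 : (Ideal.primeCompl (⊥ : Ideal Λ)) = nonZeroDivisors Λ := by
    ext x
    rw [Ideal.mem_primeCompl_iff, Ideal.mem_bot, mem_nonZeroDivisors_iff_ne_zero]
  haveI : IsLocalization.AtPrime L (⊥ : Ideal Λ) := by
    show IsLocalization _ L
    rw [h2]
    infer_instance
  refine Groth.Agent.S2034.result (Rₚ := K) (Λq := L) φ ⊥ hmin (ringKrullDim_eq_zero_of_field L) ?_
  apply resolvable_of_indSmooth (indSmooth_of_geometricallyReduced K L)
  rw [Ideal.map_bot]
  exact bot_ne_top

theorem quot_empty_ann {S : Type*} [CommRing S] [IsDomain S] {ι : Type*} [IsEmpty ι] (f : ι → S)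
    (p : S) (hp : p ≠ 0) (x : S ⧸ Ideal.span (Set.range f))
    (hx : Ideal.Quotient.mk _ p ^ 2 * x = 0) : Ideal.Quotient.mk _ p * x = 0 := by
  obtain ⟨y, rfl⟩ := Ideal.Quotient.mk_surjective x
  have hI : Ideal.span (Set.range f) = ⊥ := by rw [Set.range_eq_empty, Ideal.span_empty]
  rw [← map_pow, ← map_mul, Ideal.Quotient.eq_zero_iff_mem, hI, Ideal.mem_bot] at hx
  rw [← map_mul, Ideal.Quotient.eq_zero_iff_mem, hI, Ideal.mem_bot]
  rcases mul_eq_zero.1 hx with h | h
  · exact absurd h (pow_ne_zero _ hp)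
  · rw [h, mul_zero]

/-- resolving at a prime generated by a uniformizer of the base -/
theorem resolvable_of_uniformizer {R A Λ : Type u} [CommRing R] [IsDomain R] [IsNoetherianRing R]
    [CommRing A] [Algebra R A] [Algebra.FinitePresentation R A] [CommRing Λ] [IsDomain Λ]
    [Algebra R Λ] [NoZeroSMulDivisors R Λ] [Module.Flat R Λ]
    (φ : A →ₐ[R] Λ) (q : Ideal Λ) [q.IsPrime] [IsLocalization.AtPrime Λ q]
    (π : R) (hπ0 : π ≠ 0) (M : Ideal R) [M.IsMaximal] (hM : M = Ideal.span {π})
    (hq : M.map (algebraMap R Λ) = q)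
    (n : ℕ) (hpow : algebraMap R Λ π ^ n ∈ (singularIdeal R A).map φ)
    (hind : IndSmooth (R ⧸ M) (Λ ⧸ M.map (algebraMap R Λ))) : Resolvable R φ q := by
  classical
  have hinj : Function.Injective (algebraMap R Λ) := FaithfulSMul.algebraMap_injective R Λ
  haveI : IsNoetherianRing A := Algebra.FiniteType.isNoetherianRing R A
  obtain ⟨s, hs⟩ := (isNoetherianRing_iff_ideal_fg A).mp inferInstance (singularIdeal R A)
  let a : Fin s.card → A := fun i => (s.equivFin.symm i : A)
  have hrange : Set.range a = (s : Set A) := by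
    ext x
    constructor
    · rintro ⟨j, rfl⟩
      exact (s.equivFin.symm j).2
    · intro hx
      exact ⟨s.equivFin ⟨x, hx⟩, by simp [a]⟩
  have hspan : Ideal.span (Set.range a) = singularIdeal R A := by rw [hrange, hs]
  have hsm : ∀ j, Algebra.Smooth R (Localization.Away (a j)) := fun j =>
    smooth_away_of_mem_singularIdeal (hspan ▸ Ideal.subset_span ⟨j, rfl⟩)
  rw [← hspan, Ideal.map_span, ← Set.range_comp, Ideal.mem_span_range_iff_exists_fun] at hpow
  obtain ⟨lam, hlam⟩ := hpow
  let π' : Fin 1 → R := fun _ => π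
  have hrel : ∀ i : Fin 1, algebraMap R Λ (π' i) ^ n = ∑ l, (fun _ l => lam l) i l * φ (a l) :=
    fun i => hlam.symm
  -- the retract `C` of `Q`
  obtain ⟨C, _, _, _, _, hft, ⟨ρ⟩, hC⟩ := exists_retract_free (R := R) (A := QAlg a π' n)
  haveI := hft
  haveI : Algebra.FiniteType R C :=
    Algebra.FiniteType.trans (S := QAlg a π' n) inferInstance inferInstance
  haveI : Algebra.FinitePresentation R C := Algebra.FinitePresentation.of_finiteType.mp inferInstance
  -- strictly standard power
  obtain ⟨e₀, he₀⟩ : ∃ e₀ : ℕ, ∀ m, e₀ ≤ m →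
      IsStrictlyStandard R C (algebraMap R C π ^ m) := by
    have h1 := hC (algebraMap R (QAlg a π' n) π) (qAlg_smooth_away_pi a π' n hsm 0)
    rw [← IsScalarTower.algebraMap_apply R (QAlg a π' n) C π] at h1
    obtain ⟨h2, h3⟩ := h1
    haveI := h2
    haveI := h3
    obtain ⟨q', ⟨e⟩⟩ := exists_equiv_of_free (Localization.Away (algebraMap R C π))
      Ω[Localization.Away (algebraMap R C π)⁄R]
    exact exists_strictlyStandard_pow (algebraMap R C π) 0 q' e
  have hstd : IsStrictlyStandard R C (algebraMap R C (π ^ (e₀ + 1))) := by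
    rw [map_pow]
    exact he₀ _ (Nat.le_succ _)
  let ψQ : QAlg a π' n →ₐ[R] Λ := qLift a π' n φ (fun _ l => lam l) hrel
  let ψC : C →ₐ[R] Λ := ψQ.comp (ρ.restrictScalars R)
  have hπq : algebraMap R Λ π ∈ q := by
    rw [← hq, hM]
    exact Ideal.mem_map_of_mem _ (Ideal.mem_span_singleton_self π)
  have hpne : algebraMap R Λ (π ^ (e₀ + 1)) ≠ 0 := by
    rw [Ne, map_eq_zero_iff _ hinj]
    exact pow_ne_zero _ hπ0
  have hemp : ∀ i : Fin 1, IsEmpty {j : Fin 1 // (j : ℕ) < (i : ℕ)} := by
    intro i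
    constructor
    rintro ⟨j, hj⟩
    have := i.2
    omega
  have hres : Resolvable R ψC q := by
    haveI := finitePresentation_quot (A := C)
      (Ideal.span (Set.range fun _ : Fin 1 => (π ^ (e₀ + 1)) ^ 8))
    refine Groth.Agent.S6822.result ψC q Nat.one_pos (fun _ : Fin 1 => π ^ (e₀ + 1))
      (fun _ => ?_) (fun i x hx => ?_) (fun i x hx => ?_) (fun _ => hstd) _ rfl
      (quotMapBar _ ψC) (fun c => quotMapBar_mk _ ψC c) ?_
    · rw [map_pow]
      exact Ideal.pow_mem_of_mem _ hπq _ (Nat.succ_pos _)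
    · haveI := hemp i
      exact quot_empty_ann _ _ (pow_ne_zero _ hπ0) x hx
    · haveI := hemp i
      exact quot_empty_ann _ _ hpne x hx
    · refine resolvable_quot_of_flat' (Λq := Λ) q M _ ?_ ?_ ?_ hind _
      · rw [Ideal.span_le, hM]
        rintro _ ⟨i, rfl⟩
        show (π ^ (e₀ + 1)) ^ 8 ∈ Ideal.span {π}
        rw [← pow_mul, Nat.add_mul, pow_add, one_mul, pow_succ]
        exact Ideal.mul_mem_left _ _ (Ideal.mul_mem_left _ _ (Ideal.mem_span_singleton_self π))
      · refine ⟨(e₀ + 1) * 8, ?_⟩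
        rw [hM, Ideal.map_span, Set.image_singleton, Ideal.span_singleton_pow, ← map_pow,
          Ideal.zero_eq_bot, Ideal.span_singleton_eq_bot, Ideal.Quotient.eq_zero_iff_mem, pow_mul]
        exact Ideal.subset_span ⟨0, rfl⟩
      · rw [hq]
        exact (Ideal.map_id q).symm
  refine resolvable_descend (k := R) (R₀ := R) φ
    ((IsScalarTower.toAlgHom R (QAlg a π' n) C).comp (IsScalarTower.toAlgHom R A (QAlg a π' n)))
    ψC ?_ q ?_ hres
  · intro y
    show ψQ (ρ (algebraMap (QAlg a π' n) C (algebraMap A (QAlg a π' n) y))) = φ y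
    rw [ρ.commutes]
    exact qLift_algebraMap a π' n φ _ hrel y
  · have hle : Ideal.span (Set.range a) ≤ (singularIdeal R C).comap
        ((IsScalarTower.toAlgHom R (QAlg a π' n) C).comp
          (IsScalarTower.toAlgHom R A (QAlg a π' n))) := by
      rw [Ideal.span_le]
      rintro _ ⟨j, rfl⟩
      haveI := hsm j
      exact mem_singularIdeal_of_smooth_localization_away _
        (hC (algebraMap A (QAlg a π' n) (a j)) (qAlg_smooth_away_a a π' n j)).1
    intro y hy
    rw [← hspan] at hy
    exact hle hy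

end Groth.Agent.Lib.Helper22.Pop
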