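import Mathlib
import Groth.Agent.Lib.Helper22.PopZs

set_option autoImplicit false
set_option linter.style.haveILetI false
set_option linter.unusedSectionVars false

universe u

namespace Groth.Agent.Lib.Helper22.Pop

open Smoothing MvPolynomial IsLocalRing

theorem indSmooth_dvr {R Λ K L : Type u} [CommRing R] [IsDomain R]
    [IsDiscreteValuationRing R] [CommRing Λ] [IsDomain Λ] [IsDiscreteValuationRing Λ] [Algebra R Λ]
    [NoZeroSMulDivisors R Λ] [IsLocalHom (algebraMap R Λ)]
    (he : (IsLocalRing.maximalIdeal R).map (algebraMap R Λ) = IsLocalRing.maximalIdeal Λ)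
    [Algebra.IsGeometricallyReduced (IsLocalRing.ResidueField R) (IsLocalRing.ResidueField Λ)]
    [Field K] [Algebra R K] [IsFractionRing R K] [Field L] [Algebra Λ L] [IsFractionRing Λ L]
    [Algebra K L] [Algebra R L] [IsScalarTower R K L] [IsScalarTower R Λ L]
    [Algebra.IsGeometricallyReduced K L] :
    Smoothing.IndSmooth R Λ := by
  apply indSmooth_of_forall_resolvable
  intro A _ _ _ φ q _ hmin
  by_cases hq0 : q = ⊥
  · subst hq0
    exact resolvable_bot (K := K) (L := L) φ hmin
  · have hqmax : q = maximalIdeal Λ :=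
      IsLocalRing.eq_maximalIdeal (Ring.DimensionLEOne.maximalOfPrime hq0 inferInstance)
    obtain ⟨π, hπ⟩ := IsDiscreteValuationRing.exists_irreducible R
    have hMπ : maximalIdeal R = Ideal.span {π} :=
      (IsDiscreteValuationRing.irreducible_iff_uniformizer π).1 hπ
    have hΛπ : maximalIdeal Λ = Ideal.span {algebraMap R Λ π} := by
      rw [← he, hMπ, Ideal.map_span, Set.image_singleton]
    have hirr : Irreducible (algebraMap R Λ π) :=
      (IsDiscreteValuationRing.irreducible_iff_uniformizer _).2 hΛπ
    have hne : (singularIdeal R A).map φ ≠ ⊥ := by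
      intro h0
      have h1 : singRad R φ = ⊥ := by
        rw [singRad, h0]
        exact Ideal.radical_eq_iff.2 Ideal.isPrime_bot.isRadical
      rw [h1] at hmin
      exact hq0 (le_bot_iff.1 (hmin.2 ⟨Ideal.isPrime_bot, le_rfl⟩ bot_le))
    obtain ⟨n, hn⟩ := IsDiscreteValuationRing.ideal_eq_span_pow_irreducible hne hirr
    have hpow : algebraMap R Λ π ^ n ∈ (singularIdeal R A).map φ := by
      rw [hn]
      exact Ideal.mem_span_singleton_self _
    haveI : IsLocalization.AtPrime Λ q := by
      show IsLocalization q.primeCompl Λ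
      apply IsLocalization.of_le_isUnit
      intro x hx
      rw [Ideal.mem_primeCompl_iff, hqmax, IsLocalRing.mem_maximalIdeal, mem_nonunits_iff,
        not_not] at hx
      exact hx
    refine resolvable_of_uniformizer φ q π hπ.ne_zero (maximalIdeal R) hMπ (by rw [he, hqmax]) n
      hpow ?_
    refine indSmooth_of_ringEquiv (R := ResidueField R) (Λ := ResidueField Λ) (RingEquiv.refl _)
      (Ideal.quotEquivOfEq he.symm) ?_ (indSmooth_of_geometricallyReduced _ _)
    intro r
    obtain ⟨r, rfl⟩ := IsLocalRing.residue_surjective r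
    rfl

end Groth.Agent.Lib.Helper22.Pop
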