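import Mathlib
import Groth.Prelude.Def_CAlgX
import Groth.Agent.Lib.helper19.RegBasis
import Groth.Agent.Lib.helper19.RegularLocal

/-!
# Derivation toolkit for S9288 (Stacks 07EK-type lemma)
-/

set_option autoImplicit false
set_option linter.style.haveILetI false
set_option linter.unusedSectionVars false
universe u

namespace Groth.Agent.Lib.Helper22.RegDer

open IsLocalRing TensorProduct KaehlerDifferential

/-- a `ρ`-derivation `R → K` for a ring hom `ρ : R →+* K` -/
structure RDer {R K : Type*} [CommRing R] [CommRing K] (ρ : R →+* K) where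
  toFun : R → K
  map_add' : ∀ a b, toFun (a + b) = toFun a + toFun b
  leibniz' : ∀ a b, toFun (a * b) = ρ a * toFun b + ρ b * toFun a

namespace RDer

variable {R K : Type*} [CommRing R] [CommRing K] {ρ : R →+* K}

instance : CoeFun (RDer ρ) (fun _ => R → K) := ⟨RDer.toFun⟩

theorem map_add (D : RDer ρ) (a b : R) : D (a + b) = D a + D b := D.map_add' a b

theorem leibniz (D : RDer ρ) (a b : R) : D (a * b) = ρ a * D b + ρ b * D a := D.leibniz' a b

theorem map_zero (D : RDer ρ) : D 0 = 0 := by
  have h := D.map_add 0 0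
  rw [add_zero] at h
  exact left_eq_add.mp h

theorem map_one (D : RDer ρ) : D 1 = 0 := by
  have h := D.leibniz 1 1
  rw [mul_one, _root_.map_one, one_mul] at h
  exact left_eq_add.mp h

/-- the underlying additive map -/
def toAddMonoidHom (D : RDer ρ) : R →+ K where
  toFun := D
  map_zero' := D.map_zero
  map_add' := D.map_add

theorem map_neg (D : RDer ρ) (a : R) : D (-a) = -D a := D.toAddMonoidHom.map_neg a

theorem map_sub (D : RDer ρ) (a b : R) : D (a - b) = D a - D b := D.toAddMonoidHom.map_sub a b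

theorem map_sum (D : RDer ρ) {ι : Type*} (s : Finset ι) (f : ι → R) :
    D (∑ i ∈ s, f i) = ∑ i ∈ s, D (f i) := _root_.map_sum D.toAddMonoidHom f s

/-- precomposition with a ring hom -/
def comp {S : Type*} [CommRing S] (D : RDer ρ) (f : S →+* R) : RDer (ρ.comp f) where
  toFun s := D (f s)
  map_add' a b := by rw [_root_.map_add, D.map_add]
  leibniz' a b := by rw [_root_.map_mul, D.leibniz]; rfl

@[simp] theorem comp_apply {S : Type*} [CommRing S] (D : RDer ρ) (f : S →+* R) (s : S) :
    D.comp f s = D (f s) := rfl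

/-- postcomposition with a ring hom -/
def post {K' : Type*} [CommRing K'] (D : RDer ρ) (ι : K →+* K') : RDer (ι.comp ρ) where
  toFun s := ι (D s)
  map_add' a b := by rw [D.map_add, _root_.map_add]
  leibniz' a b := by rw [D.leibniz, _root_.map_add, _root_.map_mul, _root_.map_mul]; rfl

@[simp] theorem post_apply {K' : Type*} [CommRing K'] (D : RDer ρ) (ι : K →+* K') (s : R) :
    D.post ι s = ι (D s) := rfl

/-- transport along an equality of ring homs -/
def congr {ρ' : R →+* K} (D : RDer ρ) (h : ρ = ρ') : RDer ρ' where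
  toFun := D
  map_add' := D.map_add
  leibniz' a b := by rw [← h]; exact D.leibniz a b

@[simp] theorem congr_apply {ρ' : R →+* K} (D : RDer ρ) (h : ρ = ρ') (s : R) :
    D.congr h s = D s := rfl

/-- difference -/
def sub (D E : RDer ρ) : RDer ρ where
  toFun s := D s - E s
  map_add' a b := by rw [D.map_add, E.map_add]; ring
  leibniz' a b := by rw [D.leibniz, E.leibniz]; ring

@[simp] theorem sub_apply (D E : RDer ρ) (s : R) : D.sub E s = D s - E s := rfl

/-- a derivation w.r.t. `ρ` kills the square of an ideal killed by `ρ` -/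
theorem eq_zero_of_mem_sq (D : RDer ρ) (I : Ideal R) (hI : ∀ x ∈ I, ρ x = 0) {x : R}
    (hx : x ∈ I ^ 2) : D x = 0 := by
  rw [pow_two] at hx
  refine Submodule.mul_induction_on hx ?_ ?_
  · intro a ha b hb
    rw [D.leibniz, hI a ha, hI b hb, zero_mul, zero_mul, add_zero]
  · intro a b ha hb
    rw [D.map_add, ha, hb, add_zero]

end RDer

/-- uniqueness of derivations on a polynomial ring -/
theorem mvPolynomial_ext {σ k K : Type*} [CommRing k] [CommRing K]
    {ρ : MvPolynomial σ k →+* K} (D E : RDer ρ)
    (hC : ∀ c, D (MvPolynomial.C c) = E (MvPolynomial.C c))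
    (hX : ∀ i, D (MvPolynomial.X i) = E (MvPolynomial.X i)) (q : MvPolynomial σ k) :
    D q = E q := by
  induction q using MvPolynomial.induction_on with
  | C a => exact hC a
  | add p q hp hq => rw [D.map_add, E.map_add, hp, hq]
  | mul_X p i hp => rw [D.leibniz, E.leibniz, hp, hX]

/-- a derivation on a localization at a prime, vanishing on the image of the prime, vanishes on
the maximal ideal -/
theorem eq_zero_of_mem_maximalIdeal {P A₀ K : Type*} [CommRing P] [CommRing A₀] [Field K]
    [Algebra P A₀] (𝔭 : Ideal P) [𝔭.IsPrime] [IsLocalization.AtPrime A₀ 𝔭] [IsLocalRing A₀]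
    (ρ : A₀ →+* K) (hρ : ∀ f ∈ maximalIdeal A₀, ρ f = 0) (E : RDer ρ)
    (hE : ∀ q ∈ 𝔭, E (algebraMap P A₀ q) = 0) :
    ∀ f ∈ maximalIdeal A₀, E f = 0 := by
  intro f hf
  obtain ⟨⟨q, s⟩, hqs⟩ := IsLocalization.surj 𝔭.primeCompl f
  simp only at hqs
  have hq : q ∈ 𝔭 := by
    rw [← IsLocalization.AtPrime.to_map_mem_maximal_iff A₀ 𝔭 q, ← hqs]
    exact Ideal.mul_mem_right _ _ hf
  have h1 : E (f * algebraMap P A₀ s) = 0 := by rw [hqs]; exact hE q hq
  rw [E.leibniz, hρ f hf, zero_mul, zero_add] at h1
  have hu : IsUnit (ρ (algebraMap P A₀ s)) := (IsLocalization.map_units A₀ s).map ρ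
  exact (mul_eq_zero.mp h1).resolve_left hu.ne_zero

/-- a derivation of a field extension from a differential basis -/
theorem exists_der_of_basis {k K : Type*} [Field k] [Field K] [Algebra k K]
    (F : IntermediateField k K) {m : ℕ} (y : Fin m → F)
    (hli : LinearIndependent F (fun i => KaehlerDifferential.D k F (y i)))
    (hsp : Submodule.span F (Set.range (fun i => KaehlerDifferential.D k F (y i))) = ⊤)
    (e : Fin m → K) :
    ∃ E : RDer (algebraMap F K), (∀ c, E (algebraMap k F c) = 0) ∧ ∀ i, E (y i) = e i := by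
  let b : Module.Basis (Fin m) F (Ω[F⁄k]) := Module.Basis.mk hli hsp.ge
  let L : Ω[F⁄k] →ₗ[F] K := b.constr F e
  have hL : ∀ i, L (KaehlerDifferential.D k F (y i)) = e i := by
    intro i
    have h1 : b i = KaehlerDifferential.D k F (y i) := by
      simp [b]
    rw [← h1]
    exact b.constr_basis F e i
  refine ⟨⟨fun x => L (KaehlerDifferential.D k F x), ?_, ?_⟩, ?_, hL⟩
  · intro a c
    rw [map_add, map_add]
  · intro a c
    rw [Derivation.leibniz, map_add, map_smul, map_smul, Algebra.smul_def, Algebra.smul_def]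
  · intro c
    change L (KaehlerDifferential.D k F (algebraMap k F c)) = 0
    rw [Derivation.map_algebraMap, map_zero]

/-- dual derivations for a family in the maximal ideal independent modulo its square -/
theorem exists_der_dual (p : ℕ) [Fact p.Prime] (A₀ : Type u) [CommRing A₀] [IsLocalRing A₀]
    [CharP A₀ p] {h : ℕ} (f : Fin h → A₀) (hf : ∀ i, f i ∈ maximalIdeal A₀)
    (hind : ∀ a : Fin h → A₀, ∑ i, a i * f i ∈ maximalIdeal A₀ ^ 2 →
      ∀ i, a i ∈ maximalIdeal A₀) (j : Fin h) :
    ∃ d : RDer (residue A₀), ∀ i, d (f i) = if i = j then 1 else 0 := by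
  have hinj := Helper19.RegBasis.kerCotangentToTensor_int_injective p A₀
  have hI : RingHom.ker (algebraMap A₀ (ResidueField A₀)) = maximalIdeal A₀ :=
    IsLocalRing.ker_residue
  let t : Fin h → ResidueField A₀ ⊗[A₀] Ω[A₀⁄ℤ] :=
    fun i => (1 : ResidueField A₀) ⊗ₜ[A₀] KaehlerDifferential.D ℤ A₀ (f i)
  have hli : LinearIndependent (ResidueField A₀) t := by
    rw [Fintype.linearIndependent_iff]
    intro c hc
    have hex : ∀ i, ∃ a : A₀, residue A₀ a = c i := fun i => residue_surjective (c i)
    choose a ha using hex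
    have hmem : ∀ i, f i ∈ RingHom.ker (algebraMap A₀ (ResidueField A₀)) := by
      intro i; rw [hI]; exact hf i
    have hsum : ∑ i, a i * f i ∈ RingHom.ker (algebraMap A₀ (ResidueField A₀)) :=
      Ideal.sum_mem _ (fun i _ => Ideal.mul_mem_left _ _ (hmem i))
    have h1 : kerCotangentToTensor ℤ A₀ (ResidueField A₀)
        (Ideal.toCotangent _ ⟨∑ i, a i * f i, hsum⟩) = 0 := by
      rw [kerCotangentToTensor_toCotangent]
      simp only
      rw [map_sum, tmul_sum, ← hc]
      refine Finset.sum_congr rfl (fun i _ => ?_)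
      rw [Derivation.leibniz, tmul_add, tmul_smul, tmul_smul]
      have h2 : (f i) • ((1 : ResidueField A₀) ⊗ₜ[A₀] KaehlerDifferential.D ℤ A₀ (a i)) = 0 := by
        rw [smul_tmul', Algebra.smul_def, mul_one]
        have : algebraMap A₀ (ResidueField A₀) (f i) = 0 := hmem i
        rw [this, zero_tmul]
      rw [h2, add_zero, ← ha i]
      change a i • t i = residue A₀ (a i) • t i
      rw [← algebraMap_smul (ResidueField A₀) (a i) (t i)]
      rfl
    have h3 := (map_eq_zero_iff _ hinj).mp h1
    rw [Ideal.toCotangent_eq_zero] at h3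
    simp only at h3
    rw [hI] at h3
    intro i
    rw [← ha i, residue_eq_zero_iff]
    exact hind a h3 i
  let bs := Module.Basis.span hli
  let Λ' : Submodule.span (ResidueField A₀) (Set.range t) →ₗ[ResidueField A₀] ResidueField A₀ :=
    bs.constr (ResidueField A₀) (fun i => if i = j then 1 else 0)
  obtain ⟨Λ, hΛ⟩ := LinearMap.exists_extend Λ'
  have hΛt : ∀ i, Λ (t i) = if i = j then 1 else 0 := by
    intro i
    have h1 : (bs i : ResidueField A₀ ⊗[A₀] Ω[A₀⁄ℤ]) = t i :=
      congrArg Subtype.val (Module.Basis.span_apply hli i)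
    have h2 : Λ (bs i : ResidueField A₀ ⊗[A₀] Ω[A₀⁄ℤ]) = Λ' (bs i) :=
      congrArg (fun g => g (bs i)) hΛ
    rw [← h1, h2]
    exact bs.constr_basis (ResidueField A₀) _ i
  refine ⟨⟨fun x => Λ ((1 : ResidueField A₀) ⊗ₜ[A₀] KaehlerDifferential.D ℤ A₀ x), ?_, ?_⟩, hΛt⟩
  · intro x y
    rw [map_add, tmul_add, map_add]
  · intro x y
    rw [Derivation.leibniz, tmul_add, tmul_smul, tmul_smul, map_add,
      ← algebraMap_smul (ResidueField A₀) x, ← algebraMap_smul (ResidueField A₀) y,
      map_smul, map_smul, smul_eq_mul, smul_eq_mul]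
    rfl

theorem regular_quot_dim : ∀ (h : ℕ) (A : Type u) [CommRing A] [IsRegularLocalRing A]
    (g : Fin h → A), (∀ i, g i ∈ maximalIdeal A) →
    (∀ a : Fin h → A, ∑ i, a i * g i ∈ maximalIdeal A ^ 2 → ∀ i, a i ∈ maximalIdeal A) →
    IsRegularLocalRing (A ⧸ Ideal.span (Set.range g)) ∧
      ringKrullDim (A ⧸ Ideal.span (Set.range g)) + h = ringKrullDim A := by
  intro h
  induction h with
  | zero =>
    intro A _ _ g _ _
    have hbot : Ideal.span (Set.range g) = ⊥ := by
      rw [Set.range_eq_empty, Ideal.span_empty]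
    let e : (A ⧸ Ideal.span (Set.range g)) ≃+* A :=
      (Ideal.quotEquivOfEq hbot).trans (RingEquiv.quotientBot A)
    refine ⟨IsRegularLocalRing.of_ringEquiv e.symm, ?_⟩
    rw [ringKrullDim_eq_of_ringEquiv e]
    simp
  | succ h ih =>
    intro A _ _ g hg hind
    have hx : g 0 ∈ maximalIdeal A := hg 0
    have hx2 : g 0 ∉ maximalIdeal A ^ 2 := by
      intro hmem
      have := hind (Pi.single 0 1) (by
        rw [Finset.sum_eq_single 0]
        · simpa using hmem
        · intro b _ hb
          simp [Pi.single_eq_of_ne hb]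
        · intro h0; exact absurd (Finset.mem_univ _) h0) 0
      rw [Pi.single_eq_same] at this
      exact (maximalIdeal.isMaximal A).ne_top ((Ideal.eq_top_iff_one _).mpr this)
    obtain ⟨hreg', hd'⟩ :=
      Groth.Agent.Lib.helper19.isRegularLocalRing_quotient_span_singleton hx hx2
    let I : Ideal A := Ideal.span ({g 0} : Set A)
    let g' : Fin h → A ⧸ I := fun i => Ideal.Quotient.mk I (g i.succ)
    have hM' : maximalIdeal (A ⧸ I) = (maximalIdeal A).map (Ideal.Quotient.mk I) :=
      Groth.Agent.Lib.helper19.maximalIdeal_quotient I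
    have hg' : ∀ i, g' i ∈ maximalIdeal (A ⧸ I) := by
      intro i
      rw [hM']
      exact Ideal.mem_map_of_mem _ (hg i.succ)
    have hind' : ∀ a' : Fin h → A ⧸ I, ∑ i, a' i * g' i ∈ maximalIdeal (A ⧸ I) ^ 2 →
        ∀ i, a' i ∈ maximalIdeal (A ⧸ I) := by
      intro a' hsum
      have hex : ∀ i, ∃ a : A, Ideal.Quotient.mk I a = a' i :=
        fun i => Ideal.Quotient.mk_surjective (a' i)
      choose a ha using hex
      rw [hM', ← Ideal.map_pow] at hsum
      obtain ⟨z, hz, hzs⟩ :=
        (Ideal.mem_map_iff_of_surjective _ Ideal.Quotient.mk_surjective).1 hsum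
      have h1 : Ideal.Quotient.mk I (∑ i, a i * g i.succ) = ∑ i, a' i * g' i := by
        rw [map_sum]
        refine Finset.sum_congr rfl (fun i _ => ?_)
        rw [map_mul, ha]
      have h2 : (∑ i, a i * g i.succ) - z ∈ I := by
        rw [← Ideal.Quotient.eq, h1, hzs]
      obtain ⟨c, hc⟩ := Ideal.mem_span_singleton'.mp h2
      have h3 := hind (Fin.cons (-c) a) (by
        rw [Fin.sum_univ_succ]
        simp only [Fin.cons_zero, Fin.cons_succ]
        have : -c * g 0 + ∑ i : Fin h, a i * g i.succ = z := by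
          rw [neg_mul, hc]; ring
        rw [this]
        exact hz)
      intro i
      rw [hM', ← ha i]
      have := h3 i.succ
      rw [Fin.cons_succ] at this
      exact Ideal.mem_map_of_mem _ this
    obtain ⟨hreg'', hd''⟩ := ih (A ⧸ I) g' hg' hind'
    have hle : I ≤ Ideal.span (Set.range g) :=
      (Ideal.span_singleton_le_iff_mem _).2 (Ideal.subset_span ⟨0, rfl⟩)
    have hmap : (Ideal.span (Set.range g)).map (Ideal.Quotient.mk I) = Ideal.span (Set.range g') := by
      rw [Ideal.map_span]
      apply le_antisymm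
      · rw [Ideal.span_le]
        rintro _ ⟨_, ⟨i, rfl⟩, rfl⟩
        refine Fin.cases ?_ (fun i => ?_) i
        · have : Ideal.Quotient.mk I (g 0) = 0 :=
            Ideal.Quotient.eq_zero_iff_mem.mpr (Ideal.subset_span rfl)
          rw [this]
          exact Ideal.zero_mem _
        · exact Ideal.subset_span ⟨i, rfl⟩
      · rw [Ideal.span_le]
        rintro _ ⟨i, rfl⟩
        exact Ideal.subset_span ⟨g i.succ, ⟨i.succ, rfl⟩, rfl⟩
    let e : (A ⧸ I) ⧸ Ideal.span (Set.range g') ≃+* A ⧸ Ideal.span (Set.range g) :=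
      (Ideal.quotEquivOfEq hmap.symm).trans (DoubleQuot.quotQuotEquivQuotOfLE hle)
    refine ⟨IsRegularLocalRing.of_ringEquiv e, ?_⟩
    rw [← ringKrullDim_eq_of_ringEquiv e, ← hd', ← hd'']
    push_cast
    rw [add_assoc]


section ExtSec
open TrivSqZeroExt

variable {k A : Type u} [Field k] [CommRing A] [IsLocalRing A] [Algebra k A]

/-- the twisted structure map `k → K[ε]`, `c ↦ c̄ + d(c) ε` -/
noncomputable def twist (d : k → ResidueField A)
    (hadd : ∀ a b, d (a + b) = d a + d b)
    (hmul : ∀ a b, d (a * b) = algebraMap k (ResidueField A) a * d b +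
      algebraMap k (ResidueField A) b * d a) :
    k →+* TrivSqZeroExt (ResidueField A) (ResidueField A) where
  toFun c := inl (algebraMap k (ResidueField A) c) + inr (d c)
  map_one' := by
    have h1 : d 1 = 0 := by
      have h := hmul 1 1
      rw [mul_one, map_one, one_mul] at h
      exact left_eq_add.mp h
    rw [h1, map_one, inr_zero, add_zero, inl_one]
  map_mul' a b := by
    refine TrivSqZeroExt.ext ?_ ?_
    · simp
    · simp only [snd_add, snd_inl, snd_inr, zero_add, snd_mul, fst_add, fst_inl, fst_inr, add_zero,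
        smul_eq_mul, MulOpposite.smul_eq_mul_unop, MulOpposite.unop_op]
      rw [hmul a b]
      ring
  map_zero' := by
    have h0 : d 0 = 0 := by
      have h := hadd 0 0
      rw [add_zero] at h
      exact left_eq_add.mp h
    rw [h0, map_zero, inr_zero, add_zero, inl_zero]
  map_add' a b := by
    rw [hadd, map_add, inl_add, inr_add]
    abel

local notation "KK" => ResidueField A
local notation "BB" => TrivSqZeroExt (ResidueField A) (ResidueField A)

theorem exists_extension (hfs : CAlgX.IsAdicFormallySmooth k A (maximalIdeal A))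
    (d : k → ResidueField A)
    (hadd : ∀ a b, d (a + b) = d a + d b)
    (hmul : ∀ a b, d (a * b) = algebraMap k (ResidueField A) a * d b +
      algebraMap k (ResidueField A) b * d a) :
    ∃ D : A → ResidueField A, (∀ a b, D (a + b) = D a + D b) ∧
      (∀ a b, D (a * b) = residue A a * D b + residue A b * D a) ∧
      ∀ c, D (algebraMap k A c) = d c := by
  letI algB : Algebra k BB := (twist d hadd hmul).toAlgebra
  have halg : ∀ c : k, algebraMap k BB c = inl (algebraMap k KK c) + inr (d c) := fun c => rfl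
  let J : Ideal BB := RingHom.ker (fstHom KK KK KK : BB →ₐ[KK] KK).toRingHom
  have hJmem : ∀ x : BB, x ∈ J ↔ x.fst = 0 := fun x => Iff.rfl
  have hJ2 : J ^ 2 = ⊥ := by
    rw [eq_bot_iff, pow_two, Ideal.mul_le]
    intro x hx y hy
    rw [hJmem] at hx hy
    rw [Ideal.mem_bot]
    refine TrivSqZeroExt.ext ?_ ?_
    · rw [fst_mul, hx, zero_mul, fst_zero]
    · rw [snd_mul, hx, hy, zero_smul, MulOpposite.op_zero, zero_smul, add_zero, snd_zero]
  let ψr : A →+* BB ⧸ J := (Ideal.Quotient.mk J).comp ((inlHom KK KK).comp (residue A))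
  have hψr : ∀ a, ψr a = Ideal.Quotient.mk J (inl (residue A a)) := fun a => rfl
  let ψ : A →ₐ[k] BB ⧸ J :=
    { ψr with
      commutes' := by
        intro c
        change ψr (algebraMap k A c) = Ideal.Quotient.mk J (algebraMap k BB c)
        rw [hψr, halg, Ideal.Quotient.eq, hJmem]
        have : residue A (algebraMap k A c) = algebraMap k KK c := rfl
        rw [this, fst_sub, fst_add, fst_inl, fst_inr, add_zero, sub_self] }
  have hψ : ∀ a, ψ a = Ideal.Quotient.mk J (inl (residue A a)) := fun a => rfl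
  obtain ⟨χ, hχ⟩ := hfs BB J hJ2 ψ ⟨1, by
    intro x hx
    rw [pow_one] at hx
    rw [hψ, (residue_eq_zero_iff x).mpr hx, inl_zero, map_zero]⟩
  have hfst : ∀ a : A, (χ a).fst = residue A a := by
    intro a
    have h : Ideal.Quotient.mk J (χ a) = ψ a := congrArg (fun g => g a) hχ
    rw [hψ, Ideal.Quotient.eq, hJmem, fst_sub, fst_inl, sub_eq_zero] at h
    exact h
  refine ⟨fun a => (χ a).snd, ?_, ?_, ?_⟩
  · intro a b
    simp only [map_add, snd_add]
  · intro a b
    simp only [map_mul, snd_mul, hfst, smul_eq_mul, MulOpposite.smul_eq_mul_unop,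
      MulOpposite.unop_op]
    ring
  · intro c
    have : χ (algebraMap k A c) = algebraMap k BB c := χ.commutes c
    simp only [this, halg, snd_add, snd_inl, snd_inr, zero_add]


end ExtSec

end Groth.Agent.Lib.Helper22.RegDer
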