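import Mathlib
import Groth.Prelude.Def_CAlgX
import Groth.Agent.Lib.Helper22.RegDerA
import Groth.Prelude.Def_Found
import Groth.Agent.S2036
import Groth.Agent.S2082
import Groth.Agent.Lib.Helper12.FEquiC

set_option autoImplicit false
set_option linter.style.haveILetI false
set_option linter.unusedSectionVars false
universe u

namespace Groth.Agent.Lib.Helper22.RegDer

open IsLocalRing TensorProduct KaehlerDifferential MvPolynomial

section Key

variable {k A : Type u} [Field k] [CommRing A] [IsLocalRing A]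
  [Algebra k A]

theorem map_mem_maximalIdeal {m : ℕ} (φ : MvPolynomial (Fin m) k →ₐ[k] A)
    {A₀ : Type u} [CommRing A₀] [IsLocalRing A₀] [Algebra (MvPolynomial (Fin m) k) A₀]
    (𝔭 : Ideal (MvPolynomial (Fin m) k)) [𝔭.IsPrime] [IsLocalization.AtPrime A₀ 𝔭]
    (h𝔭 : 𝔭 = Ideal.comap φ.toRingHom (maximalIdeal A))
    (ψ : A₀ →+* A) (hψ : ∀ q, ψ (algebraMap (MvPolynomial (Fin m) k) A₀ q) = φ q)
    (x : A₀) (hx : x ∈ maximalIdeal A₀) : ψ x ∈ maximalIdeal A := by
  obtain ⟨⟨q, s⟩, hqs⟩ := IsLocalization.surj 𝔭.primeCompl x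
  simp only at hqs
  have hq : q ∈ 𝔭 := by
    rw [← IsLocalization.AtPrime.to_map_mem_maximal_iff A₀ 𝔭 q, ← hqs]
    exact Ideal.mul_mem_right _ _ hx
  have h1 : ψ x * ψ (algebraMap (MvPolynomial (Fin m) k) A₀ s) ∈ maximalIdeal A := by
    rw [← map_mul, hqs, hψ]
    rw [h𝔭] at hq
    exact hq
  have hu : IsUnit (ψ (algebraMap (MvPolynomial (Fin m) k) A₀ s)) :=
    (IsLocalization.map_units A₀ s).map ψ
  rcases (Ideal.IsPrime.mem_or_mem (maximalIdeal.isMaximal A).isPrime h1) with h | h
  · exact h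
  · exact absurd hu ((IsLocalRing.mem_maximalIdeal _).mp h)

theorem key (p : ℕ) [Fact p.Prime] [CharP k p] (hfs : CAlgX.IsAdicFormallySmooth k A (maximalIdeal A))
    (F : IntermediateField k (ResidueField A)) {m : ℕ} (φ : MvPolynomial (Fin m) k →ₐ[k] A)
    (hφ : ∀ i : Fin m, residue A (φ (X i)) ∈ F)
    (hli : LinearIndependent F
      (fun i : Fin m => KaehlerDifferential.D k F ⟨residue A (φ (X i)), hφ i⟩))
    (hsp : Submodule.span F (Set.range
      (fun i : Fin m => KaehlerDifferential.D k F ⟨residue A (φ (X i)), hφ i⟩)) = ⊤)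
    {A₀ : Type u} [CommRing A₀] [IsLocalRing A₀] [Algebra (MvPolynomial (Fin m) k) A₀]
    (𝔭 : Ideal (MvPolynomial (Fin m) k)) [𝔭.IsPrime] [IsLocalization.AtPrime A₀ 𝔭]
    (h𝔭 : 𝔭 = Ideal.comap φ.toRingHom (maximalIdeal A))
    (ψ : A₀ →+* A) (hψ : ∀ q, ψ (algebraMap (MvPolynomial (Fin m) k) A₀ q) = φ q)
    {h : ℕ} (f : Fin h → A₀) (hf : ∀ i, f i ∈ maximalIdeal A₀)
    (hind : ∀ a : Fin h → A₀, ∑ i, a i * f i ∈ maximalIdeal A₀ ^ 2 →
      ∀ i, a i ∈ maximalIdeal A₀)
    (a : Fin h → A) (hsum : ∑ i, a i * ψ (f i) ∈ maximalIdeal A ^ 2) (j : Fin h) :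
    a j ∈ maximalIdeal A := by
  let ck : k →+* A₀ := (algebraMap (MvPolynomial (Fin m) k) A₀).comp MvPolynomial.C
  haveI : CharP A₀ p := charP_of_injective_ringHom (f := ck) (RingHom.injective _) p
  obtain ⟨d, hd⟩ := exists_der_dual p A₀ f hf hind j
  let ρ0 : A₀ →+* ResidueField A := (residue A).comp ψ
  have hρ0 : ∀ x ∈ maximalIdeal A₀, ρ0 x = 0 := by
    intro x hx
    obtain ⟨⟨q, s⟩, hqs⟩ := IsLocalization.surj 𝔭.primeCompl x
    simp only at hqs
    have hq : q ∈ 𝔭 := by
      rw [← IsLocalization.AtPrime.to_map_mem_maximal_iff A₀ 𝔭 q, ← hqs]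
      exact Ideal.mul_mem_right _ _ hx
    have h1 : ρ0 x * ρ0 (algebraMap (MvPolynomial (Fin m) k) A₀ s) = 0 := by
      rw [← map_mul, hqs]
      change residue A (ψ (algebraMap (MvPolynomial (Fin m) k) A₀ q)) = 0
      rw [hψ, residue_eq_zero_iff]
      rw [h𝔭] at hq
      exact hq
    have hu : IsUnit (ρ0 (algebraMap (MvPolynomial (Fin m) k) A₀ s)) :=
      (IsLocalization.map_units A₀ s).map ρ0
    exact (mul_eq_zero.mp h1).resolve_right hu.ne_zero
  let ι : ResidueField A₀ →+* ResidueField A := Ideal.Quotient.lift (maximalIdeal A₀) ρ0 hρ0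
  have hι : ι.comp (residue A₀) = ρ0 := by
    ext x
    change Ideal.Quotient.lift (maximalIdeal A₀) ρ0 hρ0 (Ideal.Quotient.mk _ x) = ρ0 x
    rw [Ideal.Quotient.lift_mk]
  let d' : RDer ρ0 := (d.post ι).congr hι
  have hd' : ∀ x, d' x = ι (d x) := fun x => rfl
  have hck : ∀ c, ψ (ck c) = algebraMap k A c := by
    intro c
    change ψ (algebraMap (MvPolynomial (Fin m) k) A₀ (C c)) = _
    rw [hψ]
    exact φ.commutes c
  have hρck : ∀ c, ρ0 (ck c) = algebraMap k (ResidueField A) c := by
    intro c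
    change residue A (ψ (ck c)) = _
    rw [hck]
    rfl
  obtain ⟨D, hDadd, hDmul, hDk⟩ := exists_extension hfs (fun c => d' (ck c))
    (by intro x y; simp only [map_add, d'.map_add])
    (by intro x y; simp only [map_mul, d'.leibniz, hρck])
  let DD : RDer (residue A) := ⟨D, hDadd, hDmul⟩
  have hDD : ∀ x, DD x = D x := fun x => rfl
  let E : RDer ρ0 := (DD.comp ψ).sub d'
  have hE : ∀ x, E x = D (ψ x) - d' x := fun x => rfl
  have hEk : ∀ c, E (ck c) = 0 := by
    intro c
    rw [hE, hck, hDk, sub_self]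
  -- compare with a derivation through `F`
  let ybar : Fin m → F := fun i => ⟨residue A (φ (X i)), hφ i⟩
  obtain ⟨Ebar, hEbark, hEbary⟩ := exists_der_of_basis F ybar hli hsp
    (fun i => E (algebraMap (MvPolynomial (Fin m) k) A₀ (X i)))
  let π : MvPolynomial (Fin m) k →+* F := (MvPolynomial.aeval ybar : _ →ₐ[k] F).toRingHom
  have hπC : ∀ c, π (C c) = algebraMap k F c := by
    intro c
    change MvPolynomial.aeval ybar (C c) = _
    rw [MvPolynomial.aeval_C]
  have hπX : ∀ i, π (X i) = ybar i := by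
    intro i
    change MvPolynomial.aeval ybar (X i) = _
    rw [MvPolynomial.aeval_X]
  have hπ : (algebraMap F (ResidueField A)).comp π =
      ρ0.comp (algebraMap (MvPolynomial (Fin m) k) A₀) := by
    apply MvPolynomial.ringHom_ext
    · intro c
      rw [RingHom.comp_apply, hπC, RingHom.comp_apply]
      change _ = ρ0 (ck c)
      rw [hρck]
      rfl
    · intro i
      rw [RingHom.comp_apply, hπX, RingHom.comp_apply]
      change _ = residue A (ψ (algebraMap (MvPolynomial (Fin m) k) A₀ (X i)))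
      rw [hψ]
      rfl
  let EP : RDer (ρ0.comp (algebraMap (MvPolynomial (Fin m) k) A₀)) :=
    E.comp (algebraMap (MvPolynomial (Fin m) k) A₀)
  let EP' : RDer (ρ0.comp (algebraMap (MvPolynomial (Fin m) k) A₀)) := (Ebar.comp π).congr hπ
  have hEq : ∀ q, EP q = EP' q := by
    refine mvPolynomial_ext EP EP' ?_ ?_
    · intro c
      change E (ck c) = Ebar (π (C c))
      rw [hEk, hπC, hEbark]
    · intro i
      change E (algebraMap (MvPolynomial (Fin m) k) A₀ (X i)) = Ebar (π (X i))
      rw [hπX, hEbary]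
  have hE𝔭 : ∀ q ∈ 𝔭, E (algebraMap (MvPolynomial (Fin m) k) A₀ q) = 0 := by
    intro q hq
    have hπq : π q = 0 := by
      have h1 : algebraMap F (ResidueField A) (π q) = 0 := by
        rw [← RingHom.comp_apply, hπ]
        change residue A (ψ (algebraMap (MvPolynomial (Fin m) k) A₀ q)) = 0
        rw [hψ, residue_eq_zero_iff]
        rw [h𝔭] at hq
        exact hq
      exact (map_eq_zero _).mp h1
    change EP q = 0
    rw [hEq]
    change Ebar (π q) = 0
    rw [hπq, Ebar.map_zero]
  have hEm := eq_zero_of_mem_maximalIdeal 𝔭 ρ0 hρ0 E hE𝔭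
  have hDg : ∀ i, D (ψ (f i)) = if i = j then 1 else 0 := by
    intro i
    have h1 := hEm (f i) (hf i)
    rw [hE, sub_eq_zero] at h1
    rw [h1, hd', hd]
    split_ifs
    · exact map_one ι
    · exact map_zero ι
  have hres : ∀ i, residue A (ψ (f i)) = 0 := fun i => hρ0 (f i) (hf i)
  have h0 : DD (∑ i, a i * ψ (f i)) = 0 :=
    DD.eq_zero_of_mem_sq (maximalIdeal A) (fun x hx => (residue_eq_zero_iff x).mpr hx) hsum
  rw [DD.map_sum] at h0
  have h1 : ∑ i, DD (a i * ψ (f i)) = residue A (a j) := by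
    rw [Finset.sum_eq_single j]
    · rw [DD.leibniz, hDD, hDD, hDg, if_pos rfl, mul_one, hres, zero_mul, add_zero]
    · intro i _ hij
      rw [DD.leibniz, hDD, hDD, hDg, if_neg hij, mul_zero, hres, zero_mul, add_zero]
    · intro hj
      exact absurd (Finset.mem_univ j) hj
  rw [h1] at h0
  exact (residue_eq_zero_iff _).mp h0

end Key


section Main

variable {k A : Type u} [Field k] [CommRing A] [IsLocalRing A] [IsNoetherianRing A] [Algebra k A]

theorem isRegularLocalRing_of_geomRegular (hA : CAlg.IsGeometricallyRegular k A) :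
    IsRegularLocalRing A := by
  haveI h1 : IsRegularRing (TensorProduct k k A) := hA k (Module.Finite.self k)
  haveI : IsRegularRing A := IsRegularRing.of_ringEquiv (Algebra.TensorProduct.lid k A).toRingEquiv
  exact IsRegularLocalRing.of_isRegularRing_of_isLocalRing A

/-- lifting a basis of the cotangent space -/
theorem exists_params (A₀ : Type u) [CommRing A₀] [IsRegularLocalRing A₀] :
    ∃ (h : ℕ) (f : Fin h → A₀), (∀ i, f i ∈ maximalIdeal A₀) ∧
      (∀ a : Fin h → A₀, ∑ i, a i * f i ∈ maximalIdeal A₀ ^ 2 → ∀ i, a i ∈ maximalIdeal A₀) ∧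
      Ideal.span (Set.range f) = maximalIdeal A₀ ∧ ((h : ℕ) : WithBot ℕ∞) = ringKrullDim A₀ := by
  let b := Module.finBasis (ResidueField A₀) (CotangentSpace A₀)
  have hex : ∀ i, ∃ x : maximalIdeal A₀, (maximalIdeal A₀).toCotangent x = b i :=
    fun i => (maximalIdeal A₀).toCotangent_surjective (b i)
  choose x hx using hex
  refine ⟨_, fun i => (x i : A₀), fun i => (x i).2, ?_, ?_, ?_⟩
  · intro a hsum
    have hmem : ∑ i, a i * (x i : A₀) ∈ maximalIdeal A₀ :=
      Ideal.sum_mem _ (fun i _ => Ideal.mul_mem_left _ _ (x i).2)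
    have h1 : (maximalIdeal A₀).toCotangent ⟨∑ i, a i * (x i : A₀), hmem⟩ = 0 := by
      rw [Ideal.toCotangent_eq_zero]
      exact hsum
    have h2 : (⟨∑ i, a i * (x i : A₀), hmem⟩ : maximalIdeal A₀) = ∑ i, a i • x i := by
      apply Subtype.ext
      simp
    rw [h2, map_sum] at h1
    have h3 : ∑ i, residue A₀ (a i) • b i = 0 := by
      rw [← h1]
      refine Finset.sum_congr rfl (fun i _ => ?_)
      rw [map_smul, hx]
      exact (algebraMap_smul (ResidueField A₀) (a i) (b i))
    intro i
    have := Fintype.linearIndependent_iff.mp b.linearIndependent (fun i => residue A₀ (a i)) h3 i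
    exact (residue_eq_zero_iff _).mp this
  · have h1 : Submodule.span (ResidueField A₀)
        ((maximalIdeal A₀).toCotangent '' (Set.range x)) = ⊤ := by
      have : (maximalIdeal A₀).toCotangent '' (Set.range x) = Set.range b := by
        rw [← Set.range_comp]
        congr 1
        funext i
        exact hx i
      rw [this, b.span_eq]
    rw [CotangentSpace.span_image_eq_top_iff] at h1
    have h2 := congrArg (Submodule.map (maximalIdeal A₀).subtype) h1
    rw [Submodule.map_span, Submodule.map_top, Submodule.range_subtype, ← Set.range_comp] at h2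
    exact h2
  · exact (IsRegularLocalRing.iff_finrank_cotangentSpace A₀).mp inferInstance


set_option maxHeartbeats 800000 in
theorem main (p : ℕ) [Fact p.Prime] [CharP k p] (hA : CAlg.IsGeometricallyRegular k A)
    (F : IntermediateField k (ResidueField A)) (m : ℕ)
    (φ : MvPolynomial (Fin m) k →ₐ[k] A)
    (hφ : ∀ i : Fin m, residue A (φ (X i)) ∈ F)
    (hli : LinearIndependent F
      (fun i : Fin m => KaehlerDifferential.D k F ⟨residue A (φ (X i)), hφ i⟩))
    (hsp : Submodule.span F (Set.range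
      (fun i : Fin m => KaehlerDifferential.D k F ⟨residue A (φ (X i)), hφ i⟩)) = ⊤) :
    letI := φ.toRingHom.toAlgebra
    Module.Flat (MvPolynomial (Fin m) k) A ∧
      IsRegularLocalRing (A ⧸ Ideal.map φ.toRingHom
        (Ideal.comap φ.toRingHom (maximalIdeal A))) := by
  letI algPA : Algebra (MvPolynomial (Fin m) k) A := φ.toRingHom.toAlgebra
  haveI hAreg : IsRegularLocalRing A := isRegularLocalRing_of_geomRegular hA
  have hfs : CAlgX.IsAdicFormallySmooth k A (maximalIdeal A) :=
    (Groth.Agent.S2036.result p).mp hA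
  haveI h𝔭prime : (Ideal.comap φ.toRingHom (maximalIdeal A)).IsPrime :=
    Ideal.comap_isPrime _ _
  have hunits : ∀ y : (Ideal.comap φ.toRingHom (maximalIdeal A)).primeCompl,
      IsUnit (φ.toRingHom y) := by
    intro y
    have h1 : φ.toRingHom y ∉ maximalIdeal A := y.2
    exact (IsLocalRing.notMem_maximalIdeal).mp h1
  let ψ : Localization.AtPrime (Ideal.comap φ.toRingHom (maximalIdeal A)) →+* A :=
    IsLocalization.lift hunits
  have hψ : ∀ q, ψ (algebraMap (MvPolynomial (Fin m) k)
      (Localization.AtPrime (Ideal.comap φ.toRingHom (maximalIdeal A))) q) = φ q :=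
    fun q => IsLocalization.lift_eq hunits q
  haveI : IsRegularRing (MvPolynomial (Fin m) k) := inferInstance
  haveI hA₀reg : IsRegularLocalRing
      (Localization.AtPrime (Ideal.comap φ.toRingHom (maximalIdeal A))) := inferInstance
  obtain ⟨h, f, hf, hind, hspan, hdim₀⟩ :=
    exists_params (Localization.AtPrime (Ideal.comap φ.toRingHom (maximalIdeal A)))
  have hψm : ∀ x ∈ maximalIdeal
      (Localization.AtPrime (Ideal.comap φ.toRingHom (maximalIdeal A))), ψ x ∈ maximalIdeal A :=
    map_mem_maximalIdeal φ (Ideal.comap φ.toRingHom (maximalIdeal A)) rfl ψ hψ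
  have hgind : ∀ a : Fin h → A, ∑ i, a i * ψ (f i) ∈ maximalIdeal A ^ 2 →
      ∀ i, a i ∈ maximalIdeal A :=
    fun a hsum j => key p hfs F φ hφ hli hsp (Ideal.comap φ.toRingHom (maximalIdeal A)) rfl ψ hψ
      f hf hind a hsum j
  obtain ⟨hreg, hdim⟩ := regular_quot_dim h A (fun i => ψ (f i)) (fun i => hψm _ (hf i)) hgind
  have hJ1 : (maximalIdeal (Localization.AtPrime
      (Ideal.comap φ.toRingHom (maximalIdeal A)))).map ψ =
      Ideal.span (Set.range fun i => ψ (f i)) := by
    rw [← hspan, Ideal.map_span, ← Set.range_comp]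
    rfl
  have hJ2 : Ideal.map φ.toRingHom (Ideal.comap φ.toRingHom (maximalIdeal A)) =
      (maximalIdeal (Localization.AtPrime
        (Ideal.comap φ.toRingHom (maximalIdeal A)))).map ψ := by
    rw [← Localization.AtPrime.map_eq_maximalIdeal, Ideal.map_map]
    congr 1
    exact RingHom.ext (fun q => (hψ q).symm)
  constructor
  · letI algA₀A : Algebra (Localization.AtPrime (Ideal.comap φ.toRingHom (maximalIdeal A))) A :=
      ψ.toAlgebra
    haveI : IsScalarTower (MvPolynomial (Fin m) k)
        (Localization.AtPrime (Ideal.comap φ.toRingHom (maximalIdeal A))) A :=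
      IsScalarTower.of_algebraMap_eq (fun q => (hψ q).symm)
    haveI : IsLocalHom (algebraMap
        (Localization.AtPrime (Ideal.comap φ.toRingHom (maximalIdeal A))) A) :=
      ((IsLocalRing.local_hom_TFAE ψ).out 0 3).mpr (fun x hx => hψm x hx)
    haveI : LocCoh.IsCohenMacaulayLocalRing A :=
      Groth.Agent.Lib.Helper12.FEqui.isCMLocalRing_of_isRegularLocalRing A
    haveI : Module.Flat (Localization.AtPrime (Ideal.comap φ.toRingHom (maximalIdeal A))) A :=
      Groth.Agent.S2082.result (by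
        have e : (A ⧸ (maximalIdeal (Localization.AtPrime
            (Ideal.comap φ.toRingHom (maximalIdeal A)))).map (algebraMap _ A)) ≃+*
            A ⧸ Ideal.span (Set.range fun i => ψ (f i)) := Ideal.quotEquivOfEq hJ1
        rw [ringKrullDim_eq_of_ringEquiv e, ← hdim₀, ← hdim, add_comm])
    haveI : Module.Flat (MvPolynomial (Fin m) k)
        (Localization.AtPrime (Ideal.comap φ.toRingHom (maximalIdeal A))) :=
      IsLocalization.flat _ (Ideal.comap φ.toRingHom (maximalIdeal A)).primeCompl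
    exact Module.Flat.trans (MvPolynomial (Fin m) k)
      (Localization.AtPrime (Ideal.comap φ.toRingHom (maximalIdeal A))) A
  · exact IsRegularLocalRing.of_ringEquiv (Ideal.quotEquivOfEq (hJ2.trans hJ1).symm)

end Main

end Groth.Agent.Lib.Helper22.RegDer
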