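import Mathlib
import Groth.Prelude.Def_Found
import Groth.Agent.Lib.Helper22.RegHomLocA
import Groth.Agent.Lib.Helper22.RegDerB
import Groth.Agent.S2036
import Groth.Agent.S9282

/-!
# Stage 0 of the characteristic `p` resolution lemma: local facts about geometrically regular
algebras
-/

set_option autoImplicit false
set_option linter.style.haveILetI false
set_option linter.unusedSectionVars false

universe u

namespace Groth.Agent.Lib.Helper22.Pop

open IsLocalRing TensorProduct

/-- geometric regularity passes to the localization at a prime. -/
theorem geomRegular_localization {k Λ : Type u} [Field k] [CommRing Λ] [Algebra k Λ]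
    (h : CAlg.IsGeometricallyRegular k Λ) (q : Ideal Λ) [q.IsPrime] :
    CAlg.IsGeometricallyRegular k (Localization.AtPrime q) := by
  intro k' _ _ hfin
  haveI h1 : IsRegularRing (k' ⊗[k] Λ) := h k' hfin
  haveI h2 : IsRegularRing (Λ ⊗[k] k') :=
    IsRegularRing.of_ringEquiv (Algebra.TensorProduct.comm k k' Λ).toRingEquiv
  haveI h3 : IsRegularRing (Localization.AtPrime q ⊗[k] k') :=
    Groth.Agent.Lib.Helper22.RegHomLoc.isRegularRing_localization_tensor k Λ q k'
  exact IsRegularRing.of_ringEquiv
    (Algebra.TensorProduct.comm k (Localization.AtPrime q) k').toRingEquiv

/-- For a geometrically regular Noetherian local algebra over a field of characteristic `p`, the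
first cotangent homology of the residue field is finite-dimensional. -/
theorem h1Cotangent_finite {k O : Type u} [Field k] (p : ℕ) [Fact p.Prime] [CharP k p]
    [CommRing O] [IsLocalRing O] [IsNoetherianRing O] [Algebra k O]
    (h : CAlg.IsGeometricallyRegular k O) :
    Module.Finite (ResidueField O) (Algebra.H1Cotangent k (ResidueField O)) := by
  have hfs : CAlgX.IsAdicFormallySmooth k O (maximalIdeal O) :=
    (Groth.Agent.S2036.result p).mp h
  haveI : IsLocalHom (algebraMap k O) := by
    constructor
    intro x hx
    apply IsUnit.mk0
    rintro rfl
    rw [map_zero] at hx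
    exact not_isUnit_zero hx
  have hinj := Groth.Agent.S9282.result k O hfs
  haveI : Subsingleton Ω[ResidueField O⁄O] :=
    KaehlerDifferential.subsingleton_of_surjective O (ResidueField O) residue_surjective
  haveI : Algebra.FinitePresentation O (ResidueField O) :=
    Algebra.FinitePresentation.of_surjective (f := Algebra.ofId O (ResidueField O))
      residue_surjective (by
        have : RingHom.ker (Algebra.ofId O (ResidueField O)).toRingHom = maximalIdeal O :=
          ker_residue
        rw [this]
        exact IsNoetherian.noetherian _)
  haveI : Module.Finite (ResidueField O) (Algebra.H1Cotangent O (ResidueField O)) :=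
    inferInstance
  exact Module.Finite.of_injective _ hinj

end Groth.Agent.Lib.Helper22.Pop
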