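import Mathlib
import Groth.Agent.Lib.Helper22.ArtUnionD

/-!
# Stage 1a: the family version of the union lemma for Artinian local algebras, with an abstract
residue map
-/

set_option autoImplicit false
set_option linter.style.haveILetI false
set_option linter.unusedSectionVars false
universe u

namespace Groth.Agent.Lib.Helper22.ArtUnion

open TensorProduct IsLocalRing

section Family

variable {k K Λ : Type u} [Field k] [Field K] [Algebra k K] [CommRing Λ] [Algebra k Λ]
  [IsLocalRing Λ]

/-- finite-dimensionality over a section of the residue field (abstract residue map) -/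
theorem finite_of_section' (π : Λ →+* K) (σ : K →+* Λ)
    (hσ : π.comp σ = RingHom.id _) {d : ℕ} (lam : Fin d → Λ)
    (hlam : Ideal.span (Set.range lam) = RingHom.ker π) (n : ℕ)
    (hn : RingHom.ker π ^ n = ⊥) :
    letI : Algebra K Λ := σ.toAlgebra
    Module.Finite K Λ := by
  letI : Algebra K Λ := σ.toAlgebra
  have htop := closure_eq_top σ lam π hσ hlam n hn
  have hadj : Algebra.adjoin K (Set.range lam) = ⊤ := by
    apply Subalgebra.toSubring_injective
    rw [Algebra.adjoin_eq_ring_closure, Algebra.top_toSubring]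
    exact htop
  haveI : Algebra.FiniteType K Λ := by
    classical
    refine ⟨⟨Finset.univ.image lam, ?_⟩⟩
    rw [Finset.coe_image, Finset.coe_univ, Set.image_univ]
    exact hadj
  haveI : Algebra.IsIntegral K Λ := by
    refine ⟨fun x => ?_⟩
    have h1 : x = algebraMap K Λ (π x) + (x - algebraMap K Λ (π x)) := by ring
    rw [h1]
    refine IsIntegral.add isIntegral_algebraMap ?_
    rcases Nat.eq_zero_or_pos n with h0 | hpos
    · subst h0
      rw [pow_zero, Ideal.one_eq_top] at hn
      have : (1 : Λ) ∈ (⊥ : Ideal Λ) := hn ▸ Submodule.mem_top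
      rw [Ideal.mem_bot] at this
      exact absurd this one_ne_zero
    · refine IsIntegral.of_pow hpos ?_
      have hmem : x - algebraMap K Λ (π x) ∈ RingHom.ker π := by
        rw [RingHom.mem_ker, map_sub]
        have : π (σ (π x)) = π x := congrArg (fun f => f (π x)) hσ
        change π x - π (σ (π x)) = 0
        rw [this, sub_self]
      have h2 := Ideal.pow_mem_pow hmem n
      rw [hn, Ideal.mem_bot] at h2
      rw [h2]
      exact isIntegral_zero
  exact Algebra.IsIntegral.finite

set_option maxHeartbeats 1600000 in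
/-- the family version: a fixed coefficient field `σ`, and for every finite set `E` a finite set
`S₀` of elements of the residue field such that for every finite `S ⊇ S₀` there is a good
subalgebra containing `E` and `σ (k(S))`, all of whose residues lie in `k(S)`. -/
theorem family (p : ℕ) [Fact p.Prime] [CharP k p] [IsArtinianRing Λ]
    (π : Λ →+* K) (hπ : Function.Surjective π) (hker : RingHom.ker π = maximalIdeal Λ)
    (hπk : ∀ c, π (algebraMap k Λ c) = algebraMap k K c)
    (hH : Module.Finite K (Algebra.H1Cotangent k K)) :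
    ∃ σ : K →+* Λ, π.comp σ = RingHom.id K ∧ ∀ E : Finset Λ, ∃ S₀ : Finset K,
      ∀ S : Finset K, S₀ ⊆ S →
      ∃ (A : Subalgebra k Λ) (_ : IsLocalRing A), (↑E : Set Λ) ⊆ A ∧ IsArtinianRing A ∧
        Module.Flat A Λ ∧ Algebra.EssFiniteType k A ∧
        (maximalIdeal A).map (algebraMap A Λ) = maximalIdeal Λ ∧
        (∀ x ∈ FF k S, σ x ∈ A) ∧ (∀ a ∈ A, π a ∈ FF k S) := by
  classical
  -- nilpotency
  obtain ⟨n, hn⟩ : ∃ n : ℕ, maximalIdeal Λ ^ n = ⊥ := by
    have h1 := IsArtinianRing.isNilpotent_jacobson_bot (R := Λ)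
    rw [IsLocalRing.jacobson_eq_maximalIdeal ⊥ bot_ne_top] at h1
    exact h1
  -- generators
  obtain ⟨d, lam, hlam⟩ := Submodule.fg_iff_exists_fin_generating_family.mp
    (IsNoetherian.noetherian (maximalIdeal Λ))
  have hlam' : Ideal.span (Set.range lam) = RingHom.ker π := by
    rw [hker]; exact hlam
  have hn' : RingHom.ker π ^ n = ⊥ := by rw [hker]; exact hn
  -- the claim
  obtain ⟨σ, hσ, S₀, hS₀⟩ := claim p hH n Λ (algebraMap k Λ) π hπ
    (by ext c; exact hπk c) d lam hlam' hn'
  refine ⟨σ, hσ, fun E => ?_⟩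
  letI algK : Algebra K Λ := σ.toAlgebra
  haveI hfin : Module.Finite K Λ := finite_of_section' π σ hσ lam hlam' n hn'
  have hπσ : ∀ x, π (algebraMap K Λ x) = x :=
    fun x => congrArg (fun f => f x) hσ
  let u := Module.finBasis K Λ
  -- the finite set
  let S1 : Finset K := Finset.univ.image (fun c => u.repr 1 c)
  let S2 : Finset K := Finset.univ.image
    (fun abc : Fin _ × Fin _ × Fin _ => u.repr (u abc.1 * u abc.2.1) abc.2.2)
  let S3 : Finset K := Finset.univ.image
    (fun tc : Fin d × Fin _ => u.repr (lam tc.1) tc.2)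
  let S4 : Finset K := (E ×ˢ Finset.univ).image (fun ec => u.repr ec.1 ec.2)
  let S5 : Finset K := Finset.univ.image (fun c => π (u c))
  refine ⟨S₀ ∪ S1 ∪ S2 ∪ S3 ∪ S4 ∪ S5, fun S hSS => ?_⟩
  have hS₀S : S₀ ⊆ S := by
    intro x hx; apply hSS; simp only [Finset.mem_union]; tauto
  have h1 : ∀ c, u.repr 1 c ∈ FF k S := by
    intro c
    refine mem_FF_of_mem (hSS ?_)
    have : u.repr 1 c ∈ S1 := Finset.mem_image_of_mem _ (Finset.mem_univ c)
    simp only [Finset.mem_union]; tauto
  have hmul : ∀ a b c, u.repr (u a * u b) c ∈ FF k S := by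
    intro a b c
    refine mem_FF_of_mem (hSS ?_)
    have : u.repr (u a * u b) c ∈ S2 :=
      Finset.mem_image.mpr ⟨(a, b, c), Finset.mem_univ _, rfl⟩
    simp only [Finset.mem_union]; tauto
  have hlamS : ∀ t c, u.repr (lam t) c ∈ FF k S := by
    intro t c
    refine mem_FF_of_mem (hSS ?_)
    have : u.repr (lam t) c ∈ S3 := Finset.mem_image.mpr ⟨(t, c), Finset.mem_univ _, rfl⟩
    simp only [Finset.mem_union]; tauto
  have hES : ∀ e ∈ E, ∀ c, u.repr e c ∈ FF k S := by
    intro e he c
    refine mem_FF_of_mem (hSS ?_)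
    have : u.repr e c ∈ S4 :=
      Finset.mem_image.mpr ⟨(e, c), Finset.mem_product.mpr ⟨he, Finset.mem_univ _⟩, rfl⟩
    simp only [Finset.mem_union]; tauto
  have hS5 : ∀ c, π (u c) ∈ S := by
    intro c
    apply hSS
    have : π (u c) ∈ S5 := Finset.mem_image_of_mem _ (Finset.mem_univ c)
    simp only [Finset.mem_union]; tauto
  -- the subalgebra
  have hRR : RR k σ lam S₀ ≤ coordSubring u (FF k S) h1 hmul := by
    apply Subring.closure_le.mpr
    rintro x (⟨y, hy, rfl⟩ | ⟨t, rfl⟩)
    · exact algebraMap_mem_coordSubring u (FF k S) h1 hmul (FF_mono hS₀S hy)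
    · exact hlamS t
  let A : Subalgebra k Λ :=
    { coordSubring u (FF k S) h1 hmul with
      algebraMap_mem' := fun c => hRR (hS₀ c) }
  have hA : ∀ x, x ∈ A ↔ ∀ c, u.repr x c ∈ FF k S := fun x => Iff.rfl
  haveI hArt : IsArtinianRing A := isArtinianRing_of_coord u (FF k S) A hA
  haveI hLoc : IsLocalRing A := isLocalRing_subalgebra A
  refine ⟨A, hLoc, ?_, hArt, flat_of_coord u (FF k S) A hA, ?_, ?_, ?_, ?_⟩
  · intro e he
    exact (hA e).mpr (hES e he)
  · exact essFiniteType_of_coord π hπσ hπk hker n hn u S hS5 A hA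
  · exact map_maximalIdeal_subalgebra A lam hlam (fun t => (hA _).mpr (hlamS t))
  · intro x hx
    exact algebraMap_mem_of_mem u (FF k S) A hA hx
  · intro a ha
    rw [← u.sum_repr a, map_sum]
    refine Subfield.sum_mem _ (fun c _ => ?_)
    rw [Algebra.smul_def, map_mul, hπσ]
    exact (FF k S).mul_mem ((hA a).mp ha c) (mem_FF_of_mem (hS5 c))

end Family

end Groth.Agent.Lib.Helper22.ArtUnion
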