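import Mathlib
import Groth.Agent.Lib.Helper22.PopZv
import Groth.Agent.Lib.Helper22.PopParamA

/-!
# Stage 1b: good subalgebras whose residue field is generated by residues of elements coming
from a ring of numerators (the Frobenius trick)
-/

set_option autoImplicit false
set_option linter.style.haveILetI false
set_option linter.unusedSectionVars false
universe u

namespace Groth.Agent.Lib.Helper22.ArtUnion

open TensorProduct IsLocalRing

section Good

variable {k K O : Type u} [Field k] [Field K] [Algebra k K] [CommRing O] [Algebra k O]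
  [IsLocalRing O]

/-- the Frobenius trick: `q₀`-th powers only depend on the residue. -/
theorem pow_eq_sigma_pow (p : ℕ) [Fact p.Prime] [CharP O p] (π : O →+* K) (σ : K →+* O)
    (hσ : π.comp σ = RingHom.id K) (n : ℕ) (hn : RingHom.ker π ^ n = ⊥) (x : O) :
    x ^ (p ^ n) = σ (π x ^ (p ^ n)) := by
  have hmem : x - σ (π x) ∈ RingHom.ker π := by
    rw [RingHom.mem_ker, map_sub]
    have : π (σ (π x)) = π x := congrArg (fun f => f (π x)) hσ
    rw [this, sub_self]
  have h0 : (x - σ (π x)) ^ (p ^ n) = 0 := by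
    have h1 := Ideal.pow_mem_pow hmem (p ^ n)
    have h2 : RingHom.ker π ^ (p ^ n) ≤ RingHom.ker π ^ n :=
      Ideal.pow_le_pow_right (Nat.lt_pow_self (Fact.out : p.Prime).one_lt).le
    have h3 := h2 h1
    rw [hn, Ideal.mem_bot] at h3
    exact h3
  have h4 : x = σ (π x) + (x - σ (π x)) := by ring
  conv_lhs => rw [h4]
  rw [add_pow_char_pow, h0, add_zero, map_pow]

set_option maxHeartbeats 1600000 in
theorem exists_good (p : ℕ) [Fact p.Prime] [CharP k p] [IsArtinianRing O]
    (π : O →+* K) (hπ : Function.Surjective π) (hker : RingHom.ker π = maximalIdeal O)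
    (hπk : ∀ c, π (algebraMap k O c) = algebraMap k K c)
    (hH : Module.Finite K (Algebra.H1Cotangent k K))
    {L : Type u} [CommRing L] (ι : L →+* O)
    (hfrac : ∀ x : O, ∃ a s : L, IsUnit (ι s) ∧ x * ι s = ι a)
    (E : Finset O) :
    ∃ (A : Subalgebra k O) (_ : IsLocalRing A), (↑E : Set O) ⊆ A ∧ IsArtinianRing A ∧
      Module.Flat A O ∧ Algebra.EssFiniteType k A ∧
      (maximalIdeal A).map (algebraMap A O) = maximalIdeal O ∧
      ∃ lams : Finset L, (∀ l ∈ lams, ι l ∈ A) ∧
        (∀ a ∈ A, π a ∈ Subfield.closure (Set.range (algebraMap k K) ∪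
          (fun l => π (ι l)) '' (lams : Set L))) ∧
        ∃ xs : Finset L, (∀ x ∈ xs, ι x ∈ A ∧ ι x ∈ maximalIdeal O) ∧
          Ideal.span (ι '' (xs : Set L)) = maximalIdeal O := by
  classical
  haveI : CharP O p := charP_of_injective_algebraMap (algebraMap k O).injective p
  -- nilpotency
  obtain ⟨n, hn⟩ : ∃ n : ℕ, maximalIdeal O ^ n = ⊥ := by
    have h1 := IsArtinianRing.isNilpotent_jacobson_bot (R := O)
    rw [IsLocalRing.jacobson_eq_maximalIdeal ⊥ bot_ne_top] at h1
    exact h1
  have hn' : RingHom.ker π ^ n = ⊥ := by rw [hker]; exact hn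
  have hq0 : 0 < p ^ n := pow_pos (Fact.out : p.Prime).pos n
  obtain ⟨q₁, hq₁⟩ : ∃ q₁, p ^ n = q₁ + 1 := ⟨p ^ n - 1, by omega⟩
  -- generators of the maximal ideal
  obtain ⟨d, lam, hlam⟩ := Submodule.fg_iff_exists_fin_generating_family.mp
    (IsNoetherian.noetherian (maximalIdeal O))
  obtain ⟨σ, hσ, hfam⟩ := family p π hπ hker hπk hH
  have hfrob : ∀ x : O, x ^ (p ^ n) = σ (π x ^ (p ^ n)) :=
    pow_eq_sigma_pow p π σ hσ n hn'
  obtain ⟨S₁, hS₁⟩ := hfam (E ∪ Finset.univ.image lam)
  -- fractions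
  have hfr1 : ∀ x : K, ∃ a s : L, IsUnit (ι s) ∧ σ x * ι s = ι a := fun x => hfrac (σ x)
  choose a s hsu has using hfr1
  have hfr2 : ∀ t : Fin d, ∃ b s' : L, IsUnit (ι s') ∧ lam t * ι s' = ι b := fun t => hfrac (lam t)
  choose b s' hs'u hbs' using hfr2
  let S₂ : Finset K := S₁ ∪ S₁.image (fun x => π (ι (s x)) ^ (p ^ n)) ∪
    Finset.univ.image (fun t => π (ι (s' t)) ^ (p ^ n))
  have hS₁S₂ : S₁ ⊆ S₂ := by
    intro x hx; simp only [S₂, Finset.mem_union]; tauto
  obtain ⟨A, hLoc, hEA, hArt, hflat, hess, hmax, hσA, hπA⟩ := hS₁ S₂ hS₁S₂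
  have hαmem : ∀ x ∈ S₁, π (ι (s x)) ^ (p ^ n) ∈ FF k S₂ := by
    intro x hx
    refine mem_FF_of_mem ?_
    have : π (ι (s x)) ^ (p ^ n) ∈ S₁.image (fun x => π (ι (s x)) ^ (p ^ n)) :=
      Finset.mem_image_of_mem _ hx
    simp only [S₂, Finset.mem_union]; tauto
  have hα'mem : ∀ t, π (ι (s' t)) ^ (p ^ n) ∈ FF k S₂ := by
    intro t
    refine mem_FF_of_mem ?_
    have : π (ι (s' t)) ^ (p ^ n) ∈ Finset.univ.image (fun t => π (ι (s' t)) ^ (p ^ n)) :=
      Finset.mem_image_of_mem _ (Finset.mem_univ t)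
    simp only [S₂, Finset.mem_union]; tauto
  have hunit : ∀ z : L, IsUnit (ι z) → π (ι z) ≠ 0 := by
    intro z hz h0
    have : ι z ∈ maximalIdeal O := by rw [← hker, RingHom.mem_ker]; exact h0
    exact (IsLocalRing.mem_maximalIdeal _).mp this hz
  refine ⟨A, hLoc, fun e he => hEA (Finset.mem_coe.mpr (Finset.mem_union_left _ he)), hArt, hflat,
    hess, hmax, ?_⟩
  -- the elements
  have hy : ∀ x ∈ S₁, ι (a x * s x ^ q₁) = σ (x * π (ι (s x)) ^ (p ^ n)) := by
    intro x hx
    rw [map_mul, map_pow, ← has, mul_assoc, ← pow_succ', ← hq₁, hfrob, map_mul]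
  have hw : ∀ x, ι (s x ^ (p ^ n)) = σ (π (ι (s x)) ^ (p ^ n)) := by
    intro x
    rw [map_pow, hfrob]
  have hw' : ∀ t, ι (s' t ^ (p ^ n)) = σ (π (ι (s' t)) ^ (p ^ n)) := by
    intro t
    rw [map_pow, hfrob]
  have hπσ : ∀ x, π (σ x) = x := fun x => congrArg (fun f => f x) hσ
  refine ⟨S₁.image (fun x => a x * s x ^ q₁) ∪ S₁.image (fun x => s x ^ (p ^ n)) ∪
    Finset.univ.image (fun t => s' t ^ (p ^ n)), ?_, ?_, ?_⟩
  · intro l hl
    simp only [Finset.mem_union, Finset.mem_image, Finset.mem_univ, true_and] at hl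
    rcases hl with (⟨x, hx, rfl⟩ | ⟨x, hx, rfl⟩) | ⟨t, rfl⟩
    · rw [hy x hx]
      exact hσA _ ((FF k S₂).mul_mem (mem_FF_of_mem (hS₁S₂ hx)) (hαmem x hx))
    · rw [hw]
      exact hσA _ (hαmem x hx)
    · rw [hw']
      exact hσA _ (hα'mem t)
  · intro z hz
    have h1 := hπA z hz
    have hle : FF k S₂ ≤ Subfield.closure (Set.range (algebraMap k K) ∪
        (fun l => π (ι l)) '' ((S₁.image (fun x => a x * s x ^ q₁) ∪
          S₁.image (fun x => s x ^ (p ^ n)) ∪
          Finset.univ.image (fun t => s' t ^ (p ^ n)) : Finset L) : Set L)) := by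
      apply Subfield.closure_le.mpr
      rintro y (hy' | hy')
      · exact Subfield.subset_closure (Or.inl hy')
      · have hy'' : y ∈ S₂ := hy'
        simp only [S₂, Finset.mem_union, Finset.mem_image, Finset.mem_univ, true_and] at hy''
        have hmemw : ∀ x ∈ S₁, π (ι (s x)) ^ (p ^ n) ∈ Subfield.closure
            (Set.range (algebraMap k K) ∪
            (fun l => π (ι l)) '' ((S₁.image (fun x => a x * s x ^ q₁) ∪
              S₁.image (fun x => s x ^ (p ^ n)) ∪
              Finset.univ.image (fun t => s' t ^ (p ^ n)) : Finset L) : Set L)) := by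
          intro x hx
          apply Subfield.subset_closure
          right
          refine ⟨s x ^ (p ^ n), ?_, ?_⟩
          · simp only [Finset.coe_union, Finset.coe_image, Set.mem_union, Set.mem_image,
              Finset.mem_coe]
            left; right
            exact ⟨x, hx, rfl⟩
          · show π (ι (s x ^ (p ^ n))) = _
            rw [hw, hπσ]
        rcases hy'' with (hy'' | ⟨x, hx, rfl⟩) | ⟨t, rfl⟩
        · -- `y ∈ S₁`
          have h2 : y * π (ι (s y)) ^ (p ^ n) ∈ Subfield.closure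
              (Set.range (algebraMap k K) ∪
              (fun l => π (ι l)) '' ((S₁.image (fun x => a x * s x ^ q₁) ∪
                S₁.image (fun x => s x ^ (p ^ n)) ∪
                Finset.univ.image (fun t => s' t ^ (p ^ n)) : Finset L) : Set L)) := by
            apply Subfield.subset_closure
            right
            refine ⟨a y * s y ^ q₁, ?_, ?_⟩
            · simp only [Finset.coe_union, Finset.coe_image, Set.mem_union, Set.mem_image,
                Finset.mem_coe]
              left; left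
              exact ⟨y, hy'', rfl⟩
            · show π (ι (a y * s y ^ q₁)) = _
              rw [hy y hy'', hπσ]
          have h3 := hmemw y hy''
          have hne : π (ι (s y)) ^ (p ^ n) ≠ 0 := pow_ne_zero _ (hunit _ (hsu y))
          have : y = y * π (ι (s y)) ^ (p ^ n) * (π (ι (s y)) ^ (p ^ n))⁻¹ := by
            rw [mul_assoc, mul_inv_cancel₀ hne, mul_one]
          rw [this]
          exact Subfield.mul_mem _ h2 (Subfield.inv_mem _ h3)
        · exact hmemw x hx
        · apply Subfield.subset_closure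
          right
          refine ⟨s' t ^ (p ^ n), ?_, ?_⟩
          · simp only [Finset.coe_union, Finset.coe_image, Set.mem_union, Set.mem_image,
              Finset.mem_coe, Finset.mem_univ, true_and]
            right
            exact ⟨t, rfl⟩
          · show π (ι (s' t ^ (p ^ n))) = _
            rw [hw', hπσ]
    exact hle h1
  · refine ⟨Finset.univ.image (fun t => b t * s' t ^ q₁), ?_, ?_⟩
    · intro x hx
      simp only [Finset.mem_image, Finset.mem_univ, true_and] at hx
      obtain ⟨t, rfl⟩ := hx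
      have hlamA : lam t ∈ A := hEA (Finset.mem_coe.mpr (Finset.mem_union_right _
        (Finset.mem_image_of_mem _ (Finset.mem_univ t))))
      have hx1 : ι (b t * s' t ^ q₁) = lam t * σ (π (ι (s' t)) ^ (p ^ n)) := by
        rw [map_mul, map_pow, ← hbs', mul_assoc, ← pow_succ', ← hq₁, hfrob]
      have hlamm : lam t ∈ maximalIdeal O := by
        rw [← hlam]; exact Ideal.subset_span ⟨t, rfl⟩
      rw [hx1]
      exact ⟨A.mul_mem hlamA (hσA _ (hα'mem t)), Ideal.mul_mem_right _ _ hlamm⟩
    · have himg : ι '' ((Finset.univ.image (fun t => b t * s' t ^ q₁) : Finset L) : Set L) =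
          Set.range (fun t => ι (s' t) ^ (p ^ n) * lam t) := by
        ext z
        simp only [Finset.coe_image, Finset.coe_univ, Set.image_univ, Set.mem_image,
          Set.mem_range, exists_exists_eq_and]
        constructor
        · rintro ⟨t, rfl⟩
          refine ⟨t, ?_⟩
          rw [map_mul, map_pow, ← hbs', mul_assoc, ← pow_succ', ← hq₁, mul_comm]
        · rintro ⟨t, rfl⟩
          refine ⟨t, ?_⟩
          rw [map_mul, map_pow, ← hbs', mul_assoc, ← pow_succ', ← hq₁, mul_comm]
      rw [himg, ← hlam]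
      exact Groth.Agent.Lib.Helper22.PopParam.span_range_eq_of_unit_mul lam _
        (fun t => ⟨ι (s' t) ^ (p ^ n), (hs'u t).pow _, rfl⟩)

end Good

end Groth.Agent.Lib.Helper22.ArtUnion
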