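import Mathlib

/-!
# Miscellaneous lemmas for the characteristic `p` resolution lemma
-/

set_option autoImplicit false
set_option linter.style.haveILetI false
set_option linter.unusedSectionVars false
universe u

namespace Groth.Agent.Lib.Helper22.Pop

open IsLocalRing

/-- pigeonhole: a high power of a finitely generated ideal lies in the ideal of powers. -/
theorem span_image_pow_le {A : Type*} [CommRing A] {ι : Type*} (f : ι → A) (e : ℕ)
    (s : Finset ι) :
    Ideal.span (f '' (s : Set ι)) ^ (s.card * e + 1) ≤
      Ideal.span ((fun i => f i ^ e) '' (s : Set ι)) := by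
  classical
  induction s using Finset.induction_on with
  | empty => simp
  | insert a s ha ih =>
    rw [Finset.card_insert_of_notMem ha, Finset.coe_insert, Set.image_insert_eq,
      Set.image_insert_eq, Ideal.span_insert, Ideal.span_insert]
    have h1 : (s.card + 1) * e + 1 = e + (s.card * e + 1) := by ring
    rw [h1]
    refine Ideal.sup_pow_add_le_pow_sup_pow.trans (sup_le_sup ?_ ih)
    rw [Ideal.span_singleton_pow]

theorem span_range_pow_le {A : Type*} [CommRing A] {d : ℕ} (f : Fin d → A) (e : ℕ) :
    Ideal.span (Set.range f) ^ (d * e + 1) ≤ Ideal.span (Set.range fun i => f i ^ e) := by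
  have := span_image_pow_le f e (Finset.univ : Finset (Fin d))
  simpa using this

/-- selection of a minimal generating subfamily of the maximal ideal of a regular local ring. -/
theorem exists_gens_subfamily (O : Type u) [CommRing O] [IsRegularLocalRing O] (d : ℕ)
    (hd : ringKrullDim O = d) (T : Set O) (hT : Ideal.span T = maximalIdeal O) :
    ∃ x : Fin d → O, (∀ i, x i ∈ T) ∧ Ideal.span (Set.range x) = maximalIdeal O := by
  classical
  have hTm : ∀ y ∈ T, y ∈ maximalIdeal O := fun y hy => hT ▸ Ideal.subset_span hy
  let s : Set (maximalIdeal O) := {y | (y : O) ∈ T}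
  have hs : Submodule.span O s = ⊤ := by
    apply Submodule.map_injective_of_injective (maximalIdeal O).subtype_injective
    rw [Submodule.map_span, Submodule.map_top, Submodule.range_subtype]
    have : (maximalIdeal O).subtype '' s = T := by
      ext y
      constructor
      · rintro ⟨z, hz, rfl⟩
        exact hz
      · intro hy
        exact ⟨⟨y, hTm y hy⟩, hy, rfl⟩
    rw [this]
    exact hT
  have hspan : Submodule.span (ResidueField O) ((maximalIdeal O).toCotangent '' s) = ⊤ :=
    CotangentSpace.span_image_eq_top_iff.mpr hs
  obtain ⟨b, hbs, hbspan, hbli⟩ :=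
    exists_linearIndependent (ResidueField O) ((maximalIdeal O).toCotangent '' s)
  rw [hspan] at hbspan
  have hli : LinearIndependent (ResidueField O) ((↑) : b → CotangentSpace O) := hbli
  let B : Module.Basis b (ResidueField O) (CotangentSpace O) :=
    Module.Basis.mk hli (by rw [Subtype.range_coe]; exact hbspan.ge)
  haveI : Fintype b := FiniteDimensional.fintypeBasisIndex B
  have hcard : Fintype.card b = d := by
    have h1 := Module.finrank_eq_card_basis B
    have h2 := (IsRegularLocalRing.iff_finrank_cotangentSpace O).mp inferInstance
    rw [hd, h1] at h2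
    exact_mod_cast h2
  let eq : Fin d ≃ b := (Fintype.equivFinOfCardEq hcard).symm
  have hex : ∀ v : b, ∃ y : maximalIdeal O, y ∈ s ∧ (maximalIdeal O).toCotangent y = v := by
    intro v
    obtain ⟨y, hy, hyv⟩ := hbs v.2
    exact ⟨y, hy, hyv⟩
  choose y hys hyv using hex
  refine ⟨fun i => (y (eq i) : O), fun i => hys (eq i), ?_⟩
  have h1 : Submodule.span (ResidueField O)
      ((maximalIdeal O).toCotangent '' (Set.range fun i => y (eq i))) = ⊤ := by
    have : (maximalIdeal O).toCotangent '' (Set.range fun i => y (eq i)) = b := by
      ext v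
      constructor
      · rintro ⟨_, ⟨i, rfl⟩, rfl⟩
        rw [hyv]
        exact (eq i).2
      · intro hv
        refine ⟨y ⟨v, hv⟩, ⟨eq.symm ⟨v, hv⟩, ?_⟩, hyv ⟨v, hv⟩⟩
        simp
    rw [this]
    exact hbspan
  rw [CotangentSpace.span_image_eq_top_iff] at h1
  have h2 := congrArg (Submodule.map (maximalIdeal O).subtype) h1
  rw [Submodule.map_span, Submodule.map_top, Submodule.range_subtype, ← Set.range_comp] at h2
  exact h2

/-- `d` generators of the maximal ideal of a regular local ring of dimension `d` are independent
modulo the square of the maximal ideal. -/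
theorem indep_of_span_eq (O : Type u) [CommRing O] [IsRegularLocalRing O] (d : ℕ)
    (hd : ringKrullDim O = d) (g : Fin d → O) (hg : Ideal.span (Set.range g) = maximalIdeal O)
    (a : Fin d → O) (hsum : ∑ i, a i * g i ∈ maximalIdeal O ^ 2) (i : Fin d) :
    a i ∈ maximalIdeal O := by
  classical
  have hgm : ∀ i, g i ∈ maximalIdeal O := fun i => hg ▸ Ideal.subset_span ⟨i, rfl⟩
  let x : Fin d → maximalIdeal O := fun i => ⟨g i, hgm i⟩
  have hs : Submodule.span O (Set.range x) = ⊤ := by
    apply Submodule.map_injective_of_injective (maximalIdeal O).subtype_injective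
    rw [Submodule.map_span, Submodule.map_top, Submodule.range_subtype, ← Set.range_comp]
    exact hg
  have hspan : Submodule.span (ResidueField O)
      (Set.range fun i => (maximalIdeal O).toCotangent (x i)) = ⊤ := by
    have := CotangentSpace.span_image_eq_top_iff.mpr hs
    rwa [← Set.range_comp] at this
  have hfr : Module.finrank (ResidueField O) (CotangentSpace O) = d := by
    have h2 := (IsRegularLocalRing.iff_finrank_cotangentSpace O).mp inferInstance
    rw [hd] at h2
    exact_mod_cast h2
  have hli : LinearIndependent (ResidueField O)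
      (fun i => (maximalIdeal O).toCotangent (x i)) :=
    linearIndependent_of_top_le_span_of_card_eq_finrank hspan.ge (by simp [hfr])
  have hmem : ∑ i, a i * g i ∈ maximalIdeal O :=
    Ideal.sum_mem _ (fun i _ => Ideal.mul_mem_left _ _ (hgm i))
  have h1 : (maximalIdeal O).toCotangent ⟨∑ i, a i * g i, hmem⟩ = 0 := by
    rw [Ideal.toCotangent_eq_zero]
    exact hsum
  have h2 : (⟨∑ i, a i * g i, hmem⟩ : maximalIdeal O) = ∑ i, a i • x i := by
    apply Subtype.ext
    simp [x]
  rw [h2, map_sum] at h1
  have h3 : ∑ i, residue O (a i) • (maximalIdeal O).toCotangent (x i) = 0 := by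
    rw [← h1]
    refine Finset.sum_congr rfl (fun i _ => ?_)
    rw [map_smul]
    exact (algebraMap_smul (ResidueField O) (a i) _)
  have := Fintype.linearIndependent_iff.mp hli (fun i => residue O (a i)) h3 i
  exact (residue_eq_zero_iff _).mp this

/-- a finitely generated (essentially of finite type) formally unramified field extension is
geometrically reduced. -/
theorem geomReduced_of_unramified (κ F : Type u) [Field κ] [Field F] [Algebra κ F]
    [Algebra.FormallyUnramified κ F] [Algebra.EssFiniteType κ F] :
    Algebra.IsGeometricallyReduced κ F := by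
  rw [Algebra.isGeometricallyReduced_field_iff]
  exact Algebra.FormallyUnramified.isReduced_of_field (AlgebraicClosure κ)
    (TensorProduct κ (AlgebraicClosure κ) F)

end Groth.Agent.Lib.Helper22.Pop
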