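import Mathlib

/-!
# Kähler differentials of finitely generated field extensions: spanning and differential bases
-/

set_option autoImplicit false
set_option linter.style.haveILetI false
set_option linter.unusedSectionVars false
universe u

namespace Groth.Agent.Lib.Helper22.Pop

open IntermediateField

/-- the differentials of the generators span the Kähler differentials of a generated field
extension. -/
theorem span_D_adjoin {k K : Type u} [Field k] [Field K] [Algebra k K] (S : Set K) :
    Submodule.span (adjoin k S) (Set.range fun s : S =>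
      KaehlerDifferential.D k (adjoin k S) ⟨s, subset_adjoin k S s.2⟩) = ⊤ := by
  rw [eq_top_iff, ← KaehlerDifferential.span_range_derivation, Submodule.span_le]
  rintro _ ⟨⟨x, hx⟩, rfl⟩
  induction hx using adjoin_induction with
  | mem x hx => exact Submodule.subset_span ⟨⟨x, hx⟩, rfl⟩
  | algebraMap c =>
    have : (⟨algebraMap k K c, IntermediateField.algebraMap_mem _ c⟩ : adjoin k S) = algebraMap k (adjoin k S) c :=
      rfl
    rw [this, Derivation.map_algebraMap]
    exact Submodule.zero_mem _
  | add x y hx hy ihx ihy =>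
    have : (⟨x + y, add_mem hx hy⟩ : adjoin k S) = ⟨x, hx⟩ + ⟨y, hy⟩ := rfl
    rw [this, map_add]
    exact Submodule.add_mem _ ihx ihy
  | inv x hx ih =>
    have : (⟨x⁻¹, inv_mem hx⟩ : adjoin k S) = (⟨x, hx⟩ : adjoin k S)⁻¹ := rfl
    rw [this, Derivation.leibniz_inv]
    exact Submodule.smul_mem _ _ ih
  | mul x y hx hy ihx ihy =>
    have : (⟨x * y, mul_mem hx hy⟩ : adjoin k S) = ⟨x, hx⟩ * ⟨y, hy⟩ := rfl
    rw [this, Derivation.leibniz]
    exact Submodule.add_mem _ (Submodule.smul_mem _ _ ihy) (Submodule.smul_mem _ _ ihx)

/-- extraction of a differential basis from a finite family of generators. -/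
theorem exists_differential_basis {k K : Type u} [Field k] [Field K] [Algebra k K]
    (F : IntermediateField k K) {L : Type u} (res : L → K) (lams : Finset L)
    (hsub : ∀ l ∈ lams, res l ∈ F)
    (hspan : Submodule.span F (Set.range fun l : lams =>
      KaehlerDifferential.D k F ⟨res l, hsub l l.2⟩) = ⊤) :
    ∃ (t : ℕ) (y : Fin t → L) (hy : ∀ i, y i ∈ lams),
      LinearIndependent F (fun i => KaehlerDifferential.D k F ⟨res (y i), hsub _ (hy i)⟩) ∧
      Submodule.span F (Set.range fun i =>
        KaehlerDifferential.D k F ⟨res (y i), hsub _ (hy i)⟩) = ⊤ := by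
  classical
  let v : lams → Ω[F⁄k] := fun l => KaehlerDifferential.D k F ⟨res l, hsub l l.2⟩
  obtain ⟨b, hbs, hbspan, hbli⟩ := exists_linearIndependent F (Set.range v)
  have hbspan' : Submodule.span F b = ⊤ := hbspan.trans hspan
  have hbfin : b.Finite := (Set.finite_range v).subset hbs
  haveI : Fintype b := hbfin.fintype
  let eq : Fin (Fintype.card b) ≃ b := (Fintype.equivFin b).symm
  have hex : ∀ w : b, ∃ l : lams, v l = w := fun w => hbs w.2
  choose l hl using hex
  have hfam : (fun i => KaehlerDifferential.D k F
      ⟨res (l (eq i) : L), hsub _ (l (eq i)).2⟩) = fun i => ((eq i : b) : Ω[F⁄k]) := by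
    funext i
    exact hl (eq i)
  refine ⟨Fintype.card b, fun i => (l (eq i) : L), fun i => (l (eq i)).2, ?_, ?_⟩
  · rw [hfam]
    exact hbli.comp eq eq.injective
  · rw [hfam]
    have : (Set.range fun i => ((eq i : b) : Ω[F⁄k])) = b := by
      ext w
      constructor
      · rintro ⟨i, rfl⟩
        exact (eq i).2
      · intro hw
        exact ⟨eq.symm ⟨w, hw⟩, by simp⟩
    rw [this]
    exact hbspan'

end Groth.Agent.Lib.Helper22.Pop
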