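import Mathlib
import Groth.Agent.Lib.Helper22.PopZl
import Groth.Agent.Lib.Helper22.PopParamA
import Groth.Agent.Lib.Helper21.KosPoly

/-!
# The `R`-side of the characteristic `p` resolution lemma: subset annihilator conditions
-/

set_option autoImplicit false
set_option linter.style.haveILetI false
set_option linter.unusedSectionVars false
universe u

namespace Groth.Agent.Lib.Helper22.Pop

open IsLocalRing MvPolynomial

/-- the ideal generated by the `e`-th powers of the entries indexed by `S`. -/
def JS {R : Type*} [CommRing R] (e : ℕ) {d : ℕ} (π : Fin d → R) (S : Finset (Fin d)) : Ideal R :=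
  Ideal.span ((fun j => π j ^ e) '' (S : Set (Fin d)))

theorem JS_mono {R : Type*} [CommRing R] (e : ℕ) {d : ℕ} (π : Fin d → R) {S T : Finset (Fin d)}
    (h : S ⊆ T) : JS e π S ≤ JS e π T :=
  Ideal.span_mono (Set.image_mono (Finset.coe_subset.mpr h))

theorem JS_congr {R : Type*} [CommRing R] (e : ℕ) {d : ℕ} (π π' : Fin d → R)
    (S : Finset (Fin d)) (h : ∀ j ∈ S, π j = π' j) : JS e π S = JS e π' S := by
  unfold JS
  congr 1
  apply Set.image_congr
  intro j hj
  show π j ^ e = π' j ^ e
  rw [h j hj]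

theorem mem_JS_iff {R : Type*} [CommRing R] (e : ℕ) {d : ℕ} (π : Fin d → R)
    (S : Finset (Fin d)) (x : R) :
    x ∈ JS e π S ↔ ∃ c : S → R, ∑ j, c j * π j ^ e = x := by
  unfold JS
  have : (fun j => π j ^ e) '' (S : Set (Fin d)) = Set.range fun j : S => π j ^ e := by
    ext y
    constructor
    · rintro ⟨j, hj, rfl⟩
      exact ⟨⟨j, hj⟩, rfl⟩
    · rintro ⟨j, rfl⟩
      exact ⟨j, j.2, rfl⟩
  rw [this, Ideal.mem_span_range_iff_exists_fun]

/-- In a regular local algebra over a field, a regular system of parameters has the subset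
nonzerodivisor property. -/
theorem regular_subset_nzd (k : Type u) [Field k] (O : Type u) [CommRing O] [Algebra k O]
    [IsRegularLocalRing O] (d : ℕ) (hd : ringKrullDim O = d) (g : Fin d → O)
    (hg : Ideal.span (Set.range g) = maximalIdeal O) (e : ℕ) (he : 0 < e)
    (i : Fin d) (S : Finset (Fin d)) (hi : i ∉ S) (x : O) (hx : g i * x ∈ JS e g S) :
    x ∈ JS e g S := by
  classical
  letI alg : Algebra (MvPolynomial (Fin d) k) O := (aeval g : MvPolynomial (Fin d) k →ₐ[k] O).toAlgebra
  have hX : ∀ j, algebraMap (MvPolynomial (Fin d) k) O (X j) = g j := fun j => aeval_X g j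
  haveI : Module.Flat (MvPolynomial (Fin d) k) O := by
    refine flat_mvPolynomial_of_regular k d O hd ?_
    simp only [hX]
    exact hg
  obtain ⟨c, hc⟩ := (mem_JS_iff e g S _).mp hx
  -- the relation
  let f : Option S → MvPolynomial (Fin d) k := fun o =>
    match o with
    | none => X i
    | some j => -(X (j : Fin d)) ^ e
  let xx : Option S → O := fun o =>
    match o with
    | none => x
    | some j => c j
  have hrel : ∑ o, f o • xx o = 0 := by
    rw [Fintype.sum_option]
    simp only [f, xx, Algebra.smul_def, map_neg, map_pow, hX]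
    rw [← hc]
    simp only [neg_mul, Finset.sum_neg_distrib]
    rw [add_neg_eq_zero]
    refine Finset.sum_congr rfl (fun j _ => ?_)
    ring
  obtain ⟨k', a, y, hxa, hfa⟩ := Module.Flat.isTrivialRelation_of_sum_smul_eq_zero
    (R := MvPolynomial (Fin d) k) (M := O) (f := f) (x := xx) hrel
  have hmem : ∀ l, a none l ∈ Ideal.span
      ((fun j : Fin d => (X j : MvPolynomial (Fin d) k) ^ e) '' (S : Set (Fin d))) := by
    intro l
    have h1 := hfa l
    rw [Fintype.sum_option] at h1
    simp only [f] at h1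
    have h2 : (X i : MvPolynomial (Fin d) k) * a none l =
        ∑ j : S, (X (j : Fin d)) ^ e * a (some j) l := by
      rw [← sub_eq_zero, ← h1]
      simp only [neg_mul, Finset.sum_neg_distrib]
      ring
    have h3 : (X i : MvPolynomial (Fin d) k) ^ e * a none l ∈ Ideal.span
        ((fun j : Fin d => (X j : MvPolynomial (Fin d) k) ^ e) '' (S : Set (Fin d))) := by
      obtain ⟨e', rfl⟩ : ∃ e', e = e' + 1 := ⟨e - 1, by omega⟩
      rw [pow_succ, mul_assoc, h2]
      refine Ideal.mul_mem_left _ _ (Ideal.sum_mem _ (fun j _ => ?_))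
      exact Ideal.mul_mem_right _ _ (Ideal.subset_span ⟨j, j.2, rfl⟩)
    exact Groth.Agent.Lib.Helper21.KosPoly.mem_of_X_pow_mul_mem (S : Set (Fin d)) e i
      (by simpa using hi) _ h3
  have hx' : x = ∑ l, a none l • y l := hxa none
  rw [hx']
  refine Ideal.sum_mem _ (fun l _ => ?_)
  rw [Algebra.smul_def]
  refine Ideal.mul_mem_right _ _ ?_
  have hmap : (Ideal.span ((fun j : Fin d => (X j : MvPolynomial (Fin d) k) ^ e) ''
      (S : Set (Fin d)))).map (algebraMap (MvPolynomial (Fin d) k) O) = JS e g S := by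
    unfold JS
    rw [Ideal.map_span, ← Set.image_comp]
    congr 1
    apply Set.image_congr
    intro j _
    simp only [Function.comp_apply, map_pow, hX]
  rw [← hmap]
  exact Ideal.mem_map_of_mem _ (hmem l)

/-- a multiplier killing the `p`-torsion modulo an ideal. -/
theorem exists_sat_mult {R : Type*} [CommRing R] [IsNoetherianRing R] (p : Ideal R) [p.IsPrime]
    (I : Ideal R) :
    ∃ σ ∈ p.primeCompl, ∀ x : R, (∃ v ∈ p.primeCompl, v * x ∈ I) → σ * x ∈ I := by
  classical
  let T : Ideal R := (I.map (algebraMap R (Localization.AtPrime p))).comap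
    (algebraMap R (Localization.AtPrime p))
  have hT : ∀ x, x ∈ T ↔ ∃ v ∈ p.primeCompl, v * x ∈ I := by
    intro x
    show algebraMap R (Localization.AtPrime p) x ∈ I.map _ ↔ _
    rw [IsLocalization.algebraMap_mem_map_algebraMap_iff p.primeCompl]
  obtain ⟨s, hs⟩ := (isNoetherianRing_iff_ideal_fg R).mp inferInstance T
  have hv : ∀ x : s, ∃ v ∈ p.primeCompl, v * (x : R) ∈ I := fun x =>
    (hT x).mp (hs ▸ Ideal.subset_span x.2)
  choose v hvp hvI using hv
  refine ⟨∏ x : s, v x, Submonoid.prod_mem _ (fun x _ => hvp x), fun x hx => ?_⟩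
  have hxT : x ∈ Ideal.span (s : Set R) := hs ▸ (hT x).mpr hx
  refine Submodule.span_induction (p := fun y _ => (∏ x : s, v x) * y ∈ I) ?_ ?_ ?_ ?_ hxT
  · intro y hy
    have h1 : (∏ x : s, v x) = (∏ x ∈ Finset.univ.erase (⟨y, hy⟩ : s), v x) * v ⟨y, hy⟩ := by
      rw [Finset.prod_erase_mul _ _ (Finset.mem_univ _)]
    rw [h1, mul_assoc]
    exact Ideal.mul_mem_left _ _ (hvI ⟨y, hy⟩)
  · rw [mul_zero]; exact Ideal.zero_mem _
  · intro y z _ _ hy hz
    rw [mul_add]; exact Ideal.add_mem _ hy hz
  · intro a y _ hy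
    rw [smul_eq_mul, mul_left_comm]
    exact Ideal.mul_mem_left _ _ hy

end Groth.Agent.Lib.Helper22.Pop
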