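import Mathlib
import Groth.Agent.Lib.Helper22.PopZz

/-!
# The `R`-side of the characteristic `p` resolution lemma: the multipliers
-/

set_option autoImplicit false
set_option linter.style.haveILetI false
set_option linter.unusedSectionVars false
universe u

namespace Groth.Agent.Lib.Helper22.Pop

open IsLocalRing MvPolynomial

theorem JS_map {R : Type*} [CommRing R] (p : Ideal R) [p.IsPrime] (e : ℕ) {d : ℕ}
    (π σ : Fin d → R) (hσ : ∀ j, σ j ∈ p.primeCompl) (S : Finset (Fin d)) :
    (JS e (fun j => σ j * π j) S).map (algebraMap R (Localization.AtPrime p)) =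
      JS e (fun j => algebraMap R (Localization.AtPrime p) (π j)) S := by
  unfold JS
  rw [Ideal.map_span, ← Set.image_comp]
  apply le_antisymm
  · rw [Ideal.span_le]
    rintro _ ⟨j, hj, rfl⟩
    simp only [Function.comp_apply, mul_pow, map_mul, map_pow]
    exact Ideal.mul_mem_left _ _ (Ideal.subset_span ⟨j, hj, rfl⟩)
  · rw [Ideal.span_le]
    rintro _ ⟨j, hj, rfl⟩
    have hu : IsUnit (algebraMap R (Localization.AtPrime p) (σ j)) :=
      IsLocalization.map_units (Localization.AtPrime p) (⟨σ j, hσ j⟩ : p.primeCompl)
    have : (algebraMap R (Localization.AtPrime p) (σ j)) ^ e *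
        (algebraMap R (Localization.AtPrime p) (π j)) ^ e ∈
        Ideal.span ((⇑(algebraMap R (Localization.AtPrime p)) ∘ fun j => (σ j * π j) ^ e) ''
          (S : Set (Fin d))) := by
      apply Ideal.subset_span
      refine ⟨j, hj, ?_⟩
      simp only [Function.comp_apply, mul_pow, map_mul, map_pow]
    exact (Ideal.unit_mul_mem_iff_mem _ (hu.pow e)).mp this

theorem exists_subset_mult {R : Type u} [CommRing R] [IsNoetherianRing R] (p : Ideal R)
    [p.IsPrime] (d e : ℕ) (π : Fin d → R)
    (hloc : ∀ (i : Fin d) (S : Finset (Fin d)), i ∉ S → ∀ x : Localization.AtPrime p,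
      algebraMap R (Localization.AtPrime p) (π i) * x ∈
        JS e (fun j => algebraMap R (Localization.AtPrime p) (π j)) S →
      x ∈ JS e (fun j => algebraMap R (Localization.AtPrime p) (π j)) S) :
    ∃ σ : Fin d → R, (∀ i, σ i ∈ p.primeCompl) ∧
      ∀ (i : Fin d) (S : Finset (Fin d)), (∀ j ∈ S, j < i) → ∀ x : R,
        (σ i * π i) ^ 2 * x ∈ JS e (fun j => σ j * π j) S →
        σ i * π i * x ∈ JS e (fun j => σ j * π j) S := by
  classical
  have hP : ∀ k : ℕ, ∃ σ : Fin d → R, (∀ i, σ i ∈ p.primeCompl) ∧
      ∀ (i : Fin d), (i : ℕ) < k → ∀ (S : Finset (Fin d)), (∀ j ∈ S, j < i) → ∀ x : R,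
        (σ i * π i) ^ 2 * x ∈ JS e (fun j => σ j * π j) S →
        σ i * π i * x ∈ JS e (fun j => σ j * π j) S := by
    intro k
    induction k with
    | zero =>
      exact ⟨fun _ => 1, fun _ => p.primeCompl.one_mem, fun i hi => absurd hi (Nat.not_lt_zero _)⟩
    | succ k ih =>
      obtain ⟨σ, hσ, hcond⟩ := ih
      by_cases hk : k < d
      · let kk : Fin d := ⟨k, hk⟩
        have hsat : ∀ S : Finset (Fin d), ∃ τ ∈ p.primeCompl, ∀ x : R,
            (∃ v ∈ p.primeCompl, v * x ∈ JS e (fun j => σ j * π j) S) →
            τ * x ∈ JS e (fun j => σ j * π j) S :=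
          fun S => exists_sat_mult p _
        choose τ hτp hτ using hsat
        let PS : Finset (Finset (Fin d)) := (Finset.univ.filter (fun j : Fin d => j < kk)).powerset
        let τ₀ : R := ∏ S ∈ PS, τ S
        have hτ₀ : τ₀ ∈ p.primeCompl := Submonoid.prod_mem _ (fun S _ => hτp S)
        let σ' : Fin d → R := Function.update σ kk τ₀
        have hσ' : ∀ i, σ' i ∈ p.primeCompl := by
          intro i
          by_cases hi : i = kk
          · subst hi
            simp only [σ', Function.update_self]
            exact hτ₀
          · simp only [σ', Function.update_of_ne hi]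
            exact hσ i
        have hJS : ∀ (i : Fin d), (i : ℕ) ≤ k → ∀ (S : Finset (Fin d)), (∀ j ∈ S, j < i) →
            JS e (fun j => σ' j * π j) S = JS e (fun j => σ j * π j) S := by
          intro i hi S hS
          apply JS_congr
          intro j hj
          have hjk : j ≠ kk := by
            intro h
            have := hS j hj
            rw [h] at this
            have h2 : (kk : ℕ) < (i : ℕ) := this
            simp only [kk] at h2
            omega
          simp only [σ', Function.update_of_ne hjk]
        refine ⟨σ', hσ', fun i hi S hS x hx => ?_⟩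
        rw [hJS i (by omega) S hS] at hx ⊢
        by_cases hik : i = kk
        · subst hik
          simp only [σ', Function.update_self] at hx ⊢
          have hkS : kk ∉ S := fun h => lt_irrefl _ (hS kk h)
          have hSPS : S ∈ PS := by
            simp only [PS, Finset.mem_powerset]
            intro j hj
            simp only [Finset.mem_filter, Finset.mem_univ, true_and]
            exact hS j hj
          -- pass to the localization
          have h1 := Ideal.mem_map_of_mem (algebraMap R (Localization.AtPrime p)) hx
          rw [JS_map p e π σ hσ S] at h1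
          have hu : IsUnit (algebraMap R (Localization.AtPrime p) τ₀) :=
            IsLocalization.map_units (Localization.AtPrime p) (⟨τ₀, hτ₀⟩ : p.primeCompl)
          have h2 : algebraMap R (Localization.AtPrime p) ((τ₀ * π kk) ^ 2 * x) =
              (algebraMap R (Localization.AtPrime p) τ₀) ^ 2 *
              (algebraMap R (Localization.AtPrime p) (π kk) *
                (algebraMap R (Localization.AtPrime p) (π kk) *
                  algebraMap R (Localization.AtPrime p) x)) := by
            simp only [map_mul, map_pow]
            ring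
          rw [h2, Ideal.unit_mul_mem_iff_mem _ (hu.pow 2)] at h1
          have h3 := hloc kk S hkS _ (hloc kk S hkS _ h1)
          rw [← JS_map p e π σ hσ S,
            IsLocalization.algebraMap_mem_map_algebraMap_iff p.primeCompl] at h3
          have h4 := hτ S x h3
          have h5 : τ₀ = (∏ S' ∈ PS.erase S, τ S') * τ S := by
            simp only [τ₀]
            rw [Finset.prod_erase_mul _ _ hSPS]
          have h6 : τ₀ * π kk * x = (∏ S' ∈ PS.erase S, τ S') * π kk * (τ S * x) := by
            rw [h5]; ring
          rw [h6]
          exact Ideal.mul_mem_left _ _ h4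
        · have hik' : (i : ℕ) ≠ k := fun h => hik (Fin.ext h)
          simp only [σ', Function.update_of_ne hik] at hx ⊢
          exact hcond i (by omega) S hS x hx
      · refine ⟨σ, hσ, fun i hi => hcond i ?_⟩
        have := i.2
        omega
  obtain ⟨σ, hσ, hcond⟩ := hP d
  exact ⟨σ, hσ, fun i => hcond i i.2⟩

end Groth.Agent.Lib.Helper22.Pop
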