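import Mathlib
import Groth.Agent.Lib.Helper22.PopZza

/-!
# The `R`-side: the monomial decomposition for the multiplier variables
-/

set_option autoImplicit false
set_option linter.style.haveILetI false
set_option linter.unusedSectionVars false
universe u

namespace Groth.Agent.Lib.Helper22.Pop

open MvPolynomial

section Mono

variable {R : Type u} [CommRing R] {d : ℕ} (e : ℕ) (π : Fin d → R)

/-- the parameters `u_i π_i` in `R[u]`. -/
noncomputable def ptil (i : Fin d) : MvPolynomial (Fin d) R := X i * C (π i)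

theorem ptil_pow (i : Fin d) (m : ℕ) :
    ptil π i ^ m = monomial (Finsupp.single i m) (π i ^ m) := by
  rw [ptil, mul_pow, X_pow_eq_monomial, ← C_pow, mul_comm, C_mul_monomial, mul_one]

/-- the set of earlier indices whose exponent is at least `e`. -/
def Sα (i : Fin d) (α : Fin d →₀ ℕ) : Finset (Fin d) :=
  Finset.univ.filter (fun j => j < i ∧ e ≤ α j)

theorem Sα_mono (i : Fin d) {α β : Fin d →₀ ℕ} (h : α ≤ β) : Sα e i α ⊆ Sα e i β := by
  intro j hj
  simp only [Sα, Finset.mem_filter, Finset.mem_univ, true_and] at hj ⊢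
  exact ⟨hj.1, hj.2.trans (h j)⟩

theorem Sα_add_single (i : Fin d) (α : Fin d →₀ ℕ) (m : ℕ) :
    Sα e i (Finsupp.single i m + α) = Sα e i α := by
  ext j
  simp only [Sα, Finset.mem_filter, Finset.mem_univ, true_and]
  constructor
  · rintro ⟨h1, h2⟩
    refine ⟨h1, ?_⟩
    have hji : i ≠ j := fun h => by rw [h] at h1; exact lt_irrefl _ h1
    rwa [Finsupp.add_apply, Finsupp.single_apply, if_neg hji, zero_add] at h2
  · rintro ⟨h1, h2⟩
    refine ⟨h1, ?_⟩
    rw [Finsupp.add_apply]
    omega

theorem coeff_mem_of_mem_J (i : Fin d) (f : MvPolynomial (Fin d) R)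
    (hf : f ∈ PopParam.J e (ptil π) i) (α : Fin d →₀ ℕ) :
    coeff α f ∈ JS e π (Sα e i α) := by
  classical
  unfold PopParam.J at hf
  induction hf using Submodule.span_induction generalizing α with
  | mem x hx =>
    obtain ⟨j, rfl⟩ := hx
    simp only [ptil_pow, coeff_monomial]
    split_ifs with h
    · apply Ideal.subset_span
      refine ⟨j, ?_, rfl⟩
      simp only [Sα, Finset.coe_filter, Finset.mem_univ, true_and, Set.mem_ofPred_eq]
      refine ⟨Fin.lt_def.mpr j.2, ?_⟩
      rw [← h, Finsupp.single_eq_same]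
    · exact Ideal.zero_mem _
  | zero => rw [coeff_zero]; exact Ideal.zero_mem _
  | add x y _ _ hx hy => rw [coeff_add]; exact Ideal.add_mem _ (hx α) (hy α)
  | smul a x _ hx =>
    rw [smul_eq_mul, coeff_mul]
    refine Ideal.sum_mem _ (fun bc hbc => ?_)
    refine Ideal.mul_mem_left _ _ (JS_mono e π (Sα_mono e i ?_) (hx bc.2))
    have hbc' := Finset.HasAntidiagonal.mem_antidiagonal.mp hbc
    rw [← hbc']
    exact le_add_self

theorem monomial_mem_J (i : Fin d) (α : Fin d →₀ ℕ) (c : R) (hc : c ∈ JS e π (Sα e i α)) :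
    monomial α c ∈ PopParam.J e (ptil π) i := by
  classical
  unfold JS at hc
  induction hc using Submodule.span_induction with
  | mem x hx =>
    obtain ⟨j, hj, rfl⟩ := hx
    simp only [Sα, Finset.coe_filter, Finset.mem_univ, true_and, Set.mem_ofPred_eq] at hj
    have hle : Finsupp.single j e ≤ α := Finsupp.single_le_iff.mpr hj.2
    have h1 : monomial α (π j ^ e) =
        monomial (α - Finsupp.single j e) 1 * ptil π j ^ e := by
      rw [ptil_pow, monomial_mul, one_mul, tsub_add_cancel_of_le hle]
    rw [h1]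
    refine Ideal.mul_mem_left _ _ (Ideal.subset_span ⟨⟨j, Fin.lt_def.mp hj.1⟩, rfl⟩)
  | zero => rw [map_zero]; exact Ideal.zero_mem _
  | add x y _ _ hx hy => rw [map_add]; exact Ideal.add_mem _ hx hy
  | smul a x _ hx =>
    rw [smul_eq_mul, ← C_mul_monomial]
    exact Ideal.mul_mem_left _ _ hx

theorem mem_J_of_coeff_mem (i : Fin d) (f : MvPolynomial (Fin d) R)
    (h : ∀ α, coeff α f ∈ JS e π (Sα e i α)) : f ∈ PopParam.J e (ptil π) i := by
  rw [as_sum f]
  exact Ideal.sum_mem _ (fun α _ => monomial_mem_J e π i α _ (h α))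

/-- the annihilator condition in `R[u]` from the subset conditions in `R`. -/
theorem ptil_ann (i : Fin d)
    (hcond : ∀ (S : Finset (Fin d)), (∀ j ∈ S, j < i) → ∀ x : R,
      π i ^ 2 * x ∈ JS e π S → π i * x ∈ JS e π S)
    (f : MvPolynomial (Fin d) R) (hf : ptil π i ^ 2 * f ∈ PopParam.J e (ptil π) i) :
    ptil π i * f ∈ PopParam.J e (ptil π) i := by
  classical
  apply mem_J_of_coeff_mem
  intro β
  have h1 : ptil π i * f = monomial (Finsupp.single i 1) (π i) * f := by
    rw [← pow_one (ptil π i), ptil_pow, pow_one]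
  rw [h1, coeff_monomial_mul']
  split_ifs with hle
  · have hβ : β = Finsupp.single i 1 + (β - Finsupp.single i 1) :=
      (add_tsub_cancel_of_le hle).symm
    have hS : ∀ j ∈ Sα e i (β - Finsupp.single i 1), j < i := by
      intro j hj
      simp only [Sα, Finset.mem_filter, Finset.mem_univ, true_and] at hj
      exact hj.1
    have h2 := coeff_mem_of_mem_J e π i _ hf (Finsupp.single i 2 + (β - Finsupp.single i 1))
    rw [ptil_pow, coeff_monomial_mul, Sα_add_single] at h2
    have h3 := hcond _ hS _ h2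
    rw [hβ, Sα_add_single]
    rwa [← hβ]
  · exact Ideal.zero_mem _

end Mono

end Groth.Agent.Lib.Helper22.Pop
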