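import Mathlib
import Groth.Agent.Lib.Helper22.PopParamA

/-!
# The `Λ`-side of the characteristic `p` resolution lemma: multipliers with prescribed
coefficients
-/

set_option autoImplicit false
set_option linter.style.haveILetI false
set_option linter.unusedSectionVars false
universe u

namespace Groth.Agent.Lib.Helper22.Pop

open IsLocalRing

theorem lambda_init {Λ : Type u} [CommRing Λ] (q : Ideal Λ) [q.IsPrime] (n : ℕ) (hn : 0 < n)
    (p : Λ) {r : ℕ} (b : Fin r → Λ) (lloc : Fin r → Localization.AtPrime q)
    (hlloc : algebraMap Λ (Localization.AtPrime q) p ^ n =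
      ∑ l, lloc l * algebraMap Λ (Localization.AtPrime q) (b l)) :
    ∃ (T : Λ) (lam : Fin r → Λ), T ∈ q.primeCompl ∧ (T * p) ^ n = ∑ l, lam l * b l ∧
      ∀ l, algebraMap Λ (Localization.AtPrime q) (lam l) =
        algebraMap Λ (Localization.AtPrime q) T ^ n * lloc l := by
  classical
  obtain ⟨t, ht⟩ := IsLocalization.exist_integer_multiples_of_finset q.primeCompl
    (Finset.univ.image lloc)
  have h0 : ∀ l, ∃ y : Λ, algebraMap Λ (Localization.AtPrime q) y =
      algebraMap Λ (Localization.AtPrime q) (t : Λ) * lloc l := by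
    intro l
    obtain ⟨y, hy⟩ := ht (lloc l) (Finset.mem_image_of_mem _ (Finset.mem_univ l))
    refine ⟨y, ?_⟩
    rw [hy, Algebra.smul_def]
  choose lam0 hlam0 using h0
  have h1 : algebraMap Λ (Localization.AtPrime q) ((t : Λ) * p ^ n) =
      algebraMap Λ (Localization.AtPrime q) (∑ l, lam0 l * b l) := by
    rw [map_mul, map_pow, hlloc, map_sum, Finset.mul_sum]
    refine Finset.sum_congr rfl (fun l _ => ?_)
    rw [map_mul, hlam0, mul_assoc]
  obtain ⟨t', ht'⟩ := (IsLocalization.eq_iff_exists q.primeCompl _).mp h1
  obtain ⟨n', rfl⟩ : ∃ n', n = n' + 1 := ⟨n - 1, by omega⟩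
  refine ⟨(t' : Λ) * (t : Λ), fun l => ((t' : Λ) * (t : Λ)) ^ n' * (t' : Λ) * lam0 l,
    q.primeCompl.mul_mem t'.2 t.2, ?_, fun l => ?_⟩
  · have h2 : ((t' : Λ) * (t : Λ) * p) ^ (n' + 1) =
        ((t' : Λ) * (t : Λ)) ^ n' * ((t' : Λ) * ((t : Λ) * p ^ (n' + 1))) := by ring
    rw [h2, ht', Finset.mul_sum, Finset.mul_sum]
    refine Finset.sum_congr rfl (fun l _ => ?_)
    ring
  · simp only [map_mul, map_pow]
    rw [hlam0]
    ring

theorem lambda_side {Λ : Type u} [CommRing Λ] [IsNoetherianRing Λ] (q : Ideal Λ) [q.IsPrime]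
    [IsRegularLocalRing (Localization.AtPrime q)] (d : ℕ)
    (hd : ringKrullDim (Localization.AtPrime q) = d) (e : ℕ) (he : 0 < e) (n : ℕ) (hn : 0 < n)
    (p : Fin d → Λ)
    (hp : Ideal.span (Set.range fun j => algebraMap Λ (Localization.AtPrime q) (p j)) =
      maximalIdeal (Localization.AtPrime q))
    {r : ℕ} (b : Fin r → Λ) (lloc : Fin d → Fin r → Localization.AtPrime q)
    (hlloc : ∀ i, algebraMap Λ (Localization.AtPrime q) (p i) ^ n =
      ∑ l, lloc i l * algebraMap Λ (Localization.AtPrime q) (b l)) :
    ∃ (s : Fin d → Λ) (lam : Fin d → Fin r → Λ), (∀ i, s i ∈ q.primeCompl) ∧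
      (∀ i, (s i * p i) ^ n = ∑ l, lam i l * b l) ∧
      (∀ i l, algebraMap Λ (Localization.AtPrime q) (lam i l) =
        algebraMap Λ (Localization.AtPrime q) (s i) ^ n * lloc i l) ∧
      ∀ (i : Fin d) (x : Λ), (s i * p i) ^ 2 * x ∈ PopParam.J e (fun j => s j * p j) i →
        s i * p i * x ∈ PopParam.J e (fun j => s j * p j) i := by
  classical
  have hinit := fun i => lambda_init q n hn (p i) b (lloc i) (hlloc i)
  choose T lam0 hT hpow0 hmap0 using hinit
  have hP : ∀ k : ℕ, ∃ (s : Fin d → Λ) (lam : Fin d → Fin r → Λ), (∀ i, s i ∈ q.primeCompl) ∧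
      (∀ i, (s i * p i) ^ n = ∑ l, lam i l * b l) ∧
      (∀ i l, algebraMap Λ (Localization.AtPrime q) (lam i l) =
        algebraMap Λ (Localization.AtPrime q) (s i) ^ n * lloc i l) ∧
      ∀ (i : Fin d), (i : ℕ) < k → ∀ x : Λ,
        (s i * p i) ^ 2 * x ∈ PopParam.J e (fun j => s j * p j) i →
        s i * p i * x ∈ PopParam.J e (fun j => s j * p j) i := by
    intro k
    induction k with
    | zero => exact ⟨T, lam0, hT, hpow0, hmap0, fun i hi => absurd hi (Nat.not_lt_zero _)⟩
    | succ k ih =>
      obtain ⟨s, lam, hs, hpow, hmap, hcond⟩ := ih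
      by_cases hk : k < d
      · let kk : Fin d := ⟨k, hk⟩
        obtain ⟨s₀, hs₀, hstep⟩ := PopParam.exists_step q d hd e he p (fun j => s j * p j) hp
          (fun j => ⟨s j, hs j, rfl⟩) kk
        let s' : Fin d → Λ := Function.update s kk (s₀ * s kk)
        let lam' : Fin d → Fin r → Λ := Function.update lam kk (fun l => s₀ ^ n * lam kk l)
        have hJ : ∀ i : Fin d, (i : ℕ) ≤ k →
            PopParam.J e (fun j => s' j * p j) i = PopParam.J e (fun j => s j * p j) i := by
          intro i hi
          apply PopParam.J_congr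
          intro j hj
          have hjk : j ≠ kk := by
            intro h
            rw [h] at hj
            simp only [kk] at hj
            omega
          simp only [s', Function.update_of_ne hjk]
        refine ⟨s', lam', fun i => ?_, fun i => ?_, fun i l => ?_, fun i hi x hx => ?_⟩
        · by_cases hi : i = kk
          · subst hi
            simp only [s', Function.update_self]
            exact q.primeCompl.mul_mem hs₀ (hs _)
          · simp only [s', Function.update_of_ne hi]
            exact hs i
        · by_cases hi : i = kk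
          · subst hi
            simp only [s', lam', Function.update_self]
            have : (s₀ * s kk * p kk) ^ n = s₀ ^ n * (s kk * p kk) ^ n := by ring
            rw [this, hpow, Finset.mul_sum]
            refine Finset.sum_congr rfl (fun l _ => ?_)
            ring
          · simp only [s', lam', Function.update_of_ne hi]
            exact hpow i
        · by_cases hi : i = kk
          · subst hi
            simp only [s', lam', Function.update_self, map_mul, map_pow]
            rw [hmap]
            ring
          · simp only [s', lam', Function.update_of_ne hi]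
            exact hmap i l
        · rw [hJ i (by omega)] at hx ⊢
          by_cases hik : i = kk
          · subst hik
            simp only [s', Function.update_self] at hx ⊢
            have e1 : (s₀ * s kk * p kk) ^ 2 * x = (s₀ * (s kk * p kk)) ^ 2 * x := by ring
            have e2 : s₀ * s kk * p kk * x = s₀ * (s kk * p kk) * x := by ring
            rw [e1] at hx
            rw [e2]
            exact hstep x hx
          · have hik' : (i : ℕ) ≠ k := fun h => hik (Fin.ext h)
            simp only [s', Function.update_of_ne hik] at hx ⊢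
            exact hcond i (by omega) x hx
      · refine ⟨s, lam, hs, hpow, hmap, fun i hi => hcond i ?_⟩
        have := i.2
        omega
  obtain ⟨s, lam, hs, hpow, hmap, hcond⟩ := hP d
  exact ⟨s, lam, hs, hpow, hmap, fun i => hcond i i.2⟩

/-- correcting approximate coefficients to exact ones. -/
theorem exists_lloc {O : Type*} [CommRing O] (m : Ideal O) {r : ℕ} (bt : Fin r → O) (n N : ℕ)
    (hnN : n ≤ N) (hpow : m ^ n ≤ Ideal.span (Set.range bt)) (x : O) (mu : Fin r → O)
    (hx : x - ∑ l, mu l * bt l ∈ m ^ N) :
    ∃ lloc : Fin r → O, x = ∑ l, lloc l * bt l ∧ ∀ l, lloc l - mu l ∈ m ^ (N - n) := by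
  have h1 : m ^ N ≤ m ^ (N - n) • Ideal.span (Set.range bt) := by
    have : N = (N - n) + n := by omega
    conv_lhs => rw [this, pow_add]
    rw [smul_eq_mul]
    exact Ideal.mul_mono_right hpow
  have h2 := h1 hx
  rw [Submodule.mem_ideal_smul_span_iff_exists_sum] at h2
  obtain ⟨a, ha, hsum⟩ := h2
  refine ⟨fun l => mu l + a l, ?_, fun l => ?_⟩
  · rw [Finsupp.sum_fintype _ _ (fun i => by simp)] at hsum
    simp only [smul_eq_mul] at hsum
    have : x = ∑ l, mu l * bt l + ∑ l, a l * bt l := by
      rw [hsum]; ring
    rw [this, ← Finset.sum_add_distrib]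
    refine Finset.sum_congr rfl (fun l _ => ?_)
    ring
  · simp only [add_sub_cancel_left]
    exact ha l

end Groth.Agent.Lib.Helper22.Pop
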