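import Mathlib
import Groth.Prelude.Def_Found
import Groth.Agent.Lib.Helper22.PopZu
import Groth.Agent.Lib.Helper22.PopZw

/-!
# Stage 2a: good subalgebras of `Λ_q / q^N Λ_q` with numerators in `Λ`
-/

set_option autoImplicit false
set_option linter.style.haveILetI false
set_option linter.unusedSectionVars false
universe u

namespace Groth.Agent.Lib.Helper22.Pop

open IsLocalRing

set_option maxHeartbeats 1600000 in
theorem exists_good_loc {k Λ : Type u} [Field k] [CommRing Λ] [Algebra k Λ] [IsNoetherianRing Λ]
    (q : Ideal Λ) [q.IsPrime] (p : ℕ) [Fact p.Prime] [CharP k p]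
    (hreg : CAlg.IsGeometricallyRegular k (Localization.AtPrime q)) (N : ℕ) (hN : 2 ≤ N)
    (E₀ : Finset Λ) :
    ∃ (D : Subalgebra k (Localization.AtPrime q ⧸ maximalIdeal (Localization.AtPrime q) ^ N))
      (_ : IsLocalRing D), IsLocalHom (algebraMap D
        (Localization.AtPrime q ⧸ maximalIdeal (Localization.AtPrime q) ^ N)) ∧
      Module.Flat D (Localization.AtPrime q ⧸ maximalIdeal (Localization.AtPrime q) ^ N) ∧
      (maximalIdeal D).map (algebraMap D
        (Localization.AtPrime q ⧸ maximalIdeal (Localization.AtPrime q) ^ N)) =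
        (maximalIdeal (Localization.AtPrime q)).map (Ideal.Quotient.mk _) ∧
      (∀ e ∈ E₀, Ideal.Quotient.mk (maximalIdeal (Localization.AtPrime q) ^ N)
        (algebraMap Λ (Localization.AtPrime q) e) ∈ D) ∧
      ∃ lams : Finset Λ,
        (∀ l ∈ lams, Ideal.Quotient.mk (maximalIdeal (Localization.AtPrime q) ^ N)
          (algebraMap Λ (Localization.AtPrime q) l) ∈ D) ∧
        (∀ a : Localization.AtPrime q,
          Ideal.Quotient.mk (maximalIdeal (Localization.AtPrime q) ^ N) a ∈ D →
          residue (Localization.AtPrime q) a ∈ IntermediateField.adjoin k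
            ((fun l => residue (Localization.AtPrime q) (algebraMap Λ (Localization.AtPrime q) l)) ''
              (lams : Set Λ))) ∧
        ∃ xs : Finset Λ,
          (∀ x ∈ xs, Ideal.Quotient.mk (maximalIdeal (Localization.AtPrime q) ^ N)
            (algebraMap Λ (Localization.AtPrime q) x) ∈ D ∧ x ∈ q) ∧
          Ideal.span (algebraMap Λ (Localization.AtPrime q) '' (xs : Set Λ)) =
            maximalIdeal (Localization.AtPrime q) := by
  classical
  haveI hOreg : IsRegularLocalRing (Localization.AtPrime q) :=
    Groth.Agent.Lib.Helper22.RegDer.isRegularLocalRing_of_geomRegular hreg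
  have hH := h1Cotangent_finite p hreg
  have hne : maximalIdeal (Localization.AtPrime q) ^ N ≠ ⊤ := by
    intro h
    have h1 : maximalIdeal (Localization.AtPrime q) ^ N ≤ maximalIdeal (Localization.AtPrime q) :=
      Ideal.pow_le_self (by omega)
    rw [h] at h1
    exact (maximalIdeal.isMaximal _).ne_top (top_le_iff.mp h1)
  haveI : Nontrivial (Localization.AtPrime q ⧸ maximalIdeal (Localization.AtPrime q) ^ N) :=
    Ideal.Quotient.nontrivial_iff.mpr hne
  haveI hloc : IsLocalRing (Localization.AtPrime q ⧸ maximalIdeal (Localization.AtPrime q) ^ N) :=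
    IsLocalRing.of_surjective' (Ideal.Quotient.mk _) Ideal.Quotient.mk_surjective
  -- the residue map
  let π : (Localization.AtPrime q ⧸ maximalIdeal (Localization.AtPrime q) ^ N) →+*
      ResidueField (Localization.AtPrime q) :=
    Ideal.Quotient.lift _ (residue (Localization.AtPrime q)) (fun a ha => by
      rw [residue_eq_zero_iff]
      exact Ideal.pow_le_self (by omega) ha)
  have hπmk : ∀ a, π (Ideal.Quotient.mk _ a) = residue _ a := fun a => Ideal.Quotient.lift_mk _ _ _
  have hπ : Function.Surjective π := by
    intro x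
    obtain ⟨a, rfl⟩ := residue_surjective x
    exact ⟨Ideal.Quotient.mk _ a, hπmk a⟩
  have hker : RingHom.ker π = maximalIdeal _ :=
    IsLocalRing.eq_maximalIdeal (RingHom.ker_isMaximal_of_surjective π hπ)
  have hmaxmap : maximalIdeal (Localization.AtPrime q ⧸ maximalIdeal (Localization.AtPrime q) ^ N) =
      (maximalIdeal (Localization.AtPrime q)).map (Ideal.Quotient.mk _) := by
    rw [← hker]
    ext x
    obtain ⟨a, rfl⟩ := Ideal.Quotient.mk_surjective x
    rw [RingHom.mem_ker, hπmk, residue_eq_zero_iff]
    constructor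
    · intro ha
      exact Ideal.mem_map_of_mem _ ha
    · intro ha
      rw [Ideal.mem_map_iff_of_surjective _ Ideal.Quotient.mk_surjective] at ha
      obtain ⟨b, hb, hba⟩ := ha
      have h1 : b - a ∈ maximalIdeal (Localization.AtPrime q) ^ N :=
        Ideal.Quotient.eq.mp hba
      have h2 : b - a ∈ maximalIdeal (Localization.AtPrime q) := Ideal.pow_le_self (by omega) h1
      have : a = b - (b - a) := by ring
      rw [this]
      exact Ideal.sub_mem _ hb h2
  haveI : IsArtinianRing (Localization.AtPrime q ⧸ maximalIdeal (Localization.AtPrime q) ^ N) := by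
    rw [isArtinianRing_iff_isNilpotent_maximalIdeal]
    refine ⟨N, ?_⟩
    rw [hmaxmap, ← Ideal.map_pow, Ideal.zero_eq_bot, Ideal.map_quotient_self]
  have hπk : ∀ c, π (algebraMap k _ c) = algebraMap k (ResidueField (Localization.AtPrime q)) c := by
    intro c
    have : algebraMap k (Localization.AtPrime q ⧸ maximalIdeal (Localization.AtPrime q) ^ N) c =
        Ideal.Quotient.mk _ (algebraMap k (Localization.AtPrime q) c) := rfl
    rw [this, hπmk]
    rfl
  let ι : Λ →+* (Localization.AtPrime q ⧸ maximalIdeal (Localization.AtPrime q) ^ N) :=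
    (Ideal.Quotient.mk _).comp (algebraMap Λ (Localization.AtPrime q))
  have hfrac : ∀ x : Localization.AtPrime q ⧸ maximalIdeal (Localization.AtPrime q) ^ N,
      ∃ a s : Λ, IsUnit (ι s) ∧ x * ι s = ι a := by
    intro x
    obtain ⟨y, rfl⟩ := Ideal.Quotient.mk_surjective x
    obtain ⟨⟨a, s⟩, hys⟩ := IsLocalization.surj q.primeCompl y
    refine ⟨a, s, ?_, ?_⟩
    · exact (IsLocalization.map_units (Localization.AtPrime q) s).map (Ideal.Quotient.mk _)
    · show Ideal.Quotient.mk _ y * Ideal.Quotient.mk _ (algebraMap Λ _ (s : Λ)) =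
        Ideal.Quotient.mk _ (algebraMap Λ _ a)
      rw [← map_mul]
      exact congrArg _ hys
  obtain ⟨D, hDloc, hED, hDart, hDflat, -, hDmax, lams, hlams, hres, xs, hxs, hxspan⟩ :=
    Groth.Agent.Lib.Helper22.ArtUnion.exists_good p π hπ hker hπk hH ι hfrac (E₀.image ι)
  haveI := hDart
  refine ⟨D, hDloc, Groth.Agent.Lib.Helper22.ArtUnion.isLocalHom_subalgebra D, hDflat,
    hDmax.trans hmaxmap, ?_, lams, hlams, ?_, xs, ?_, ?_⟩
  · intro e he
    exact hED (Finset.mem_coe.mpr (Finset.mem_image_of_mem ι he))
  · intro a ha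
    have h1 := hres _ ha
    rw [hπmk] at h1
    have h2 : (fun l => π (ι l)) '' (lams : Set Λ) =
        (fun l => residue (Localization.AtPrime q) (algebraMap Λ (Localization.AtPrime q) l)) ''
          (lams : Set Λ) := by
      apply Set.image_congr
      intro l _
      exact hπmk _
    rw [h2] at h1
    exact h1
  · intro x hx
    obtain ⟨h1, h2⟩ := hxs x hx
    refine ⟨h1, ?_⟩
    rw [hmaxmap] at h2
    have h3 : algebraMap Λ (Localization.AtPrime q) x ∈ maximalIdeal (Localization.AtPrime q) := by
      rw [Ideal.mem_map_iff_of_surjective _ Ideal.Quotient.mk_surjective] at h2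
      obtain ⟨b, hb, hba⟩ := h2
      have h1 : b - algebraMap Λ (Localization.AtPrime q) x ∈
          maximalIdeal (Localization.AtPrime q) ^ N := Ideal.Quotient.eq.mp hba
      have h2 := Ideal.pow_le_self (by omega : N ≠ 0) h1
      have : algebraMap Λ (Localization.AtPrime q) x =
          b - (b - algebraMap Λ (Localization.AtPrime q) x) := by ring
      rw [this]
      exact Ideal.sub_mem _ hb h2
    exact (IsLocalization.AtPrime.to_map_mem_maximal_iff (Localization.AtPrime q) q x).mp h3
  · -- Nakayama
    have hle : Ideal.span (algebraMap Λ (Localization.AtPrime q) '' (xs : Set Λ)) ≤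
        maximalIdeal (Localization.AtPrime q) := by
      rw [Ideal.span_le]
      rintro _ ⟨x, hx, rfl⟩
      have h2 := (hxs x hx).2
      rw [hmaxmap] at h2
      rw [Ideal.mem_map_iff_of_surjective _ Ideal.Quotient.mk_surjective] at h2
      obtain ⟨b, hb, hba⟩ := h2
      have h1 : b - algebraMap Λ (Localization.AtPrime q) x ∈
          maximalIdeal (Localization.AtPrime q) ^ N := Ideal.Quotient.eq.mp hba
      have h2 := Ideal.pow_le_self (by omega : N ≠ 0) h1
      have : algebraMap Λ (Localization.AtPrime q) x =
          b - (b - algebraMap Λ (Localization.AtPrime q) x) := by ring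
      show algebraMap Λ (Localization.AtPrime q) x ∈ maximalIdeal (Localization.AtPrime q)
      rw [this]
      exact Ideal.sub_mem _ hb h2
    apply le_antisymm hle
    have hmap : (Ideal.span (algebraMap Λ (Localization.AtPrime q) '' (xs : Set Λ))).map
        (Ideal.Quotient.mk (maximalIdeal (Localization.AtPrime q) ^ N)) =
        (maximalIdeal (Localization.AtPrime q)).map (Ideal.Quotient.mk _) := by
      rw [Ideal.map_span, ← Set.image_comp, ← hmaxmap, ← hxspan]
      rfl
    have hsup : maximalIdeal (Localization.AtPrime q) ≤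
        Ideal.span (algebraMap Λ (Localization.AtPrime q) '' (xs : Set Λ)) ⊔
          maximalIdeal (Localization.AtPrime q) ^ N := by
      have h1 := congrArg (Ideal.comap (Ideal.Quotient.mk
        (maximalIdeal (Localization.AtPrime q) ^ N))) hmap
      rw [Ideal.comap_map_of_surjective _ Ideal.Quotient.mk_surjective,
        Ideal.comap_map_of_surjective _ Ideal.Quotient.mk_surjective, ← RingHom.ker_eq_comap_bot,
        Ideal.mk_ker] at h1
      rw [h1]
      exact le_sup_left
    refine Submodule.le_of_le_smul_of_le_jacobson_bot (I := maximalIdeal (Localization.AtPrime q))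
      (IsNoetherian.noetherian _) (IsLocalRing.maximalIdeal_le_jacobson _) ?_
    refine hsup.trans (sup_le_sup_left ?_ _)
    obtain ⟨N', rfl⟩ : ∃ N', N = N' + 2 := ⟨N - 2, by omega⟩
    rw [smul_eq_mul]
    have : maximalIdeal (Localization.AtPrime q) ^ (N' + 2) =
        maximalIdeal (Localization.AtPrime q) * maximalIdeal (Localization.AtPrime q) *
          maximalIdeal (Localization.AtPrime q) ^ N' := by
      rw [pow_add, pow_two, mul_comm]
    rw [this, mul_assoc]
    exact Ideal.mul_mono_right Ideal.mul_le_left

end Groth.Agent.Lib.Helper22.Pop
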