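import Mathlib
import Groth.Prelude.Def_Found
import Groth.Agent.Lib.Helper22.PopZu
import Groth.Agent.Lib.Helper22.PopZx
import Groth.Agent.Lib.Helper22.PopZy
import Groth.Agent.Lib.Helper22.RegDerB
import Groth.Agent.Lib.Helper7.RegularFree

/-!
# Stage 2b: the choice of the variables of the chart (inside the local ring)
-/

set_option autoImplicit false
set_option linter.style.haveILetI false
set_option linter.unusedSectionVars false
universe u

namespace Groth.Agent.Lib.Helper22.Pop

open IsLocalRing MvPolynomial

set_option maxHeartbeats 1600000 in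
theorem exists_params_chart {k Λ : Type u} [Field k] [CommRing Λ] [Algebra k Λ]
    [IsNoetherianRing Λ] (q : Ideal Λ) [q.IsPrime] (p : ℕ) [Fact p.Prime] [CharP k p]
    (hreg : CAlg.IsGeometricallyRegular k (Localization.AtPrime q)) (d : ℕ)
    [IsRegularLocalRing (Localization.AtPrime q)]
    (hd : ringKrullDim (Localization.AtPrime q) = d)
    (lams xs : Finset Λ)
    (hxspan : Ideal.span (algebraMap Λ (Localization.AtPrime q) '' (xs : Set Λ)) =
      maximalIdeal (Localization.AtPrime q)) :
    ∃ (t : ℕ) (y : Fin t → Λ) (hy : ∀ i, y i ∈ lams) (h d' : ℕ)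
      (γ : Fin h → MvPolynomial (Fin t) k) (x' : Fin d' → Λ),
      h + d' = d ∧ (∀ j, x' j ∈ xs) ∧
      Submodule.span (IntermediateField.adjoin k
          ((fun l => residue (Localization.AtPrime q) (algebraMap Λ (Localization.AtPrime q) l)) ''
            (lams : Set Λ)))
        (Set.range fun i : Fin t => KaehlerDifferential.D k (IntermediateField.adjoin k
          ((fun l => residue (Localization.AtPrime q) (algebraMap Λ (Localization.AtPrime q) l)) ''
            (lams : Set Λ)))
          ⟨residue (Localization.AtPrime q) (algebraMap Λ (Localization.AtPrime q) (y i)),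
            IntermediateField.subset_adjoin k _ ⟨y i, hy i, rfl⟩⟩) = ⊤ ∧
      (∀ i, algebraMap Λ (Localization.AtPrime q) (aeval y (γ i)) ∈
        maximalIdeal (Localization.AtPrime q)) ∧
      (∀ a₀ : MvPolynomial (Fin t) k,
        algebraMap Λ (Localization.AtPrime q) (aeval y a₀) ∈ maximalIdeal (Localization.AtPrime q) →
        ∃ s : MvPolynomial (Fin t) k,
          algebraMap Λ (Localization.AtPrime q) (aeval y s) ∉ maximalIdeal (Localization.AtPrime q) ∧
          s * a₀ ∈ Ideal.span (Set.range γ)) ∧
      Ideal.span (Set.range (fun i => algebraMap Λ (Localization.AtPrime q) (aeval y (γ i))) ∪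
        Set.range (fun j => algebraMap Λ (Localization.AtPrime q) (x' j))) =
        maximalIdeal (Localization.AtPrime q) := by
  classical
  set res : Λ → ResidueField (Localization.AtPrime q) :=
    fun l => residue (Localization.AtPrime q) (algebraMap Λ (Localization.AtPrime q) l) with hres
  set F := IntermediateField.adjoin k (res '' (lams : Set Λ)) with hF
  have hsub : ∀ l ∈ lams, res l ∈ F := fun l hl =>
    IntermediateField.subset_adjoin k _ ⟨l, hl, rfl⟩
  have hspanF : Submodule.span F (Set.range fun l : lams =>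
      KaehlerDifferential.D k F ⟨res l, hsub l l.2⟩) = ⊤ := by
    rw [eq_top_iff, ← span_D_adjoin (res '' (lams : Set Λ))]
    apply Submodule.span_mono
    rintro _ ⟨⟨s, l, hl, rfl⟩, rfl⟩
    exact ⟨⟨l, hl⟩, rfl⟩
  obtain ⟨t, y, hy, hli, hsp⟩ := exists_differential_basis F res lams hsub hspanF
  -- the map from the polynomial ring
  let φ' : MvPolynomial (Fin t) k →ₐ[k] Localization.AtPrime q :=
    aeval (fun i => algebraMap Λ (Localization.AtPrime q) (y i))
  have hφ'eq : ∀ a, φ' a = algebraMap Λ (Localization.AtPrime q) (aeval y a) := by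
    intro a
    have : (φ' : MvPolynomial (Fin t) k →ₐ[k] Localization.AtPrime q) =
        (IsScalarTower.toAlgHom k Λ (Localization.AtPrime q)).comp (aeval y) := by
      apply MvPolynomial.algHom_ext
      intro i
      simp [φ']
    rw [this]
    rfl
  have hφ'X : ∀ i, φ' (X i) = algebraMap Λ (Localization.AtPrime q) (y i) := fun i => aeval_X _ i
  have hφ' : ∀ i : Fin t, residue (Localization.AtPrime q) (φ' (X i)) ∈ F := by
    intro i
    rw [hφ'X]
    exact hsub _ (hy i)
  have hfam : (fun i : Fin t => KaehlerDifferential.D k F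
      ⟨residue (Localization.AtPrime q) (φ' (X i)), hφ' i⟩) =
      fun i => KaehlerDifferential.D k F ⟨res (y i), hsub _ (hy i)⟩ := by
    funext i
    congr 1
    exact Subtype.ext (show residue (Localization.AtPrime q) (φ' (X i)) = res (y i) by
      rw [hφ'X])
  have hli' : LinearIndependent F (fun i : Fin t => KaehlerDifferential.D k F
      ⟨residue (Localization.AtPrime q) (φ' (X i)), hφ' i⟩) := by rw [hfam]; exact hli
  have hsp' : Submodule.span F (Set.range (fun i : Fin t => KaehlerDifferential.D k F
      ⟨residue (Localization.AtPrime q) (φ' (X i)), hφ' i⟩)) = ⊤ := by rw [hfam]; exact hsp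
  have hfs : CAlgX.IsAdicFormallySmooth k (Localization.AtPrime q)
      (maximalIdeal (Localization.AtPrime q)) := (Groth.Agent.S2036.result p).mp hreg
  -- the localization of the polynomial ring
  haveI hp'prime : (Ideal.comap φ'.toRingHom (maximalIdeal (Localization.AtPrime q))).IsPrime :=
    Ideal.comap_isPrime _ _
  set p' := Ideal.comap φ'.toRingHom (maximalIdeal (Localization.AtPrime q)) with hp'
  have hunits : ∀ z : p'.primeCompl, IsUnit (φ'.toRingHom z) := by
    intro z
    have h1 : φ'.toRingHom z ∉ maximalIdeal (Localization.AtPrime q) := z.2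
    exact (IsLocalRing.notMem_maximalIdeal).mp h1
  let ψ' : Localization.AtPrime p' →+* Localization.AtPrime q := IsLocalization.lift hunits
  have hψ' : ∀ a, ψ' (algebraMap (MvPolynomial (Fin t) k) (Localization.AtPrime p') a) = φ' a :=
    fun a => IsLocalization.lift_eq hunits a
  haveI : IsRegularRing (MvPolynomial (Fin t) k) := inferInstance
  haveI hA₀reg : IsRegularLocalRing (Localization.AtPrime p') := inferInstance
  obtain ⟨h, hh⟩ := Groth.Agent.Lib.Helper7.RegularFree.exists_dim (A := Localization.AtPrime p')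
  obtain ⟨G, hG⟩ := (isNoetherianRing_iff_ideal_fg (MvPolynomial (Fin t) k)).mp inferInstance p'
  have hT : Ideal.span (algebraMap (MvPolynomial (Fin t) k) (Localization.AtPrime p') ''
      (G : Set (MvPolynomial (Fin t) k))) = maximalIdeal (Localization.AtPrime p') := by
    rw [← Localization.AtPrime.map_eq_maximalIdeal, ← Ideal.map_span, hG]
  obtain ⟨f, hfT, hfspan⟩ := exists_gens_subfamily (Localization.AtPrime p') h hh _ hT
  choose γ hγG hγf using hfT
  have hγp' : ∀ i, γ i ∈ p' := fun i => hG ▸ Ideal.subset_span (hγG i)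
  have hf : ∀ i, f i ∈ maximalIdeal (Localization.AtPrime p') := fun i =>
    hfspan ▸ Ideal.subset_span ⟨i, rfl⟩
  have hind := indep_of_span_eq (Localization.AtPrime p') h hh f hfspan
  have hgind : ∀ a : Fin h → Localization.AtPrime q,
      ∑ i, a i * ψ' (f i) ∈ maximalIdeal (Localization.AtPrime q) ^ 2 →
      ∀ i, a i ∈ maximalIdeal (Localization.AtPrime q) :=
    fun a hsum j => Groth.Agent.Lib.Helper22.RegDer.key p hfs F φ' hφ' hli' hsp' p' rfl ψ' hψ'
      f hf hind a hsum j
  have hψf : ∀ i, ψ' (f i) = algebraMap Λ (Localization.AtPrime q) (aeval y (γ i)) := by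
    intro i
    rw [← hγf, hψ', hφ'eq]
  have hgm : ∀ i, ψ' (f i) ∈ maximalIdeal (Localization.AtPrime q) := by
    intro i
    rw [← hγf, hψ']
    exact hγp' i
  obtain ⟨hreg1, hdim1⟩ := Groth.Agent.Lib.Helper22.RegDer.regular_quot_dim h
    (Localization.AtPrime q) (fun i => ψ' (f i)) hgm hgind
  haveI := hreg1
  obtain ⟨d', hd'⟩ := Groth.Agent.Lib.Helper7.RegularFree.exists_dim
    (A := Localization.AtPrime q ⧸ Ideal.span (Set.range fun i => ψ' (f i)))
  have hdd : h + d' = d := by
    rw [hd', hd] at hdim1
    have : ((d' + h : ℕ) : WithBot ℕ∞) = (d : ℕ) := by exact_mod_cast hdim1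
    have := WithBot.coe_injective this
    have h3 : d' + h = d := by exact_mod_cast this
    omega
  -- the maximal ideal of the quotient
  have hker : RingHom.ker (Ideal.Quotient.mk (Ideal.span (Set.range fun i => ψ' (f i)))) ≤
      maximalIdeal (Localization.AtPrime q) := by
    rw [Ideal.mk_ker, Ideal.span_le]
    rintro _ ⟨i, rfl⟩
    exact hgm i
  have hmax1 : (maximalIdeal (Localization.AtPrime q)).map
      (Ideal.Quotient.mk (Ideal.span (Set.range fun i => ψ' (f i)))) = maximalIdeal _ :=
    (IsLocalRing.eq_maximalIdeal (Ideal.IsMaximal.map_of_surjective_of_ker_le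
      Ideal.Quotient.mk_surjective hker))
  have hT₁ : Ideal.span ((fun x => Ideal.Quotient.mk (Ideal.span (Set.range fun i => ψ' (f i)))
      (algebraMap Λ (Localization.AtPrime q) x)) '' (xs : Set Λ)) = maximalIdeal _ := by
    rw [← hmax1, ← hxspan, Ideal.map_span, ← Set.image_comp]
    rfl
  obtain ⟨xb, hxbT, hxbspan⟩ := exists_gens_subfamily _ d' hd' _ hT₁
  choose x' hx'xs hx'xb using hxbT
  refine ⟨t, y, hy, h, d', γ, x', hdd, hx'xs, hsp, fun i => by rw [← hψf]; exact hgm i, ?_, ?_⟩
  · intro a₀ ha₀
    have h1 : a₀ ∈ p' := by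
      rw [hp', Ideal.mem_comap]
      show φ' a₀ ∈ _
      rw [hφ'eq]; exact ha₀
    have h2 : algebraMap (MvPolynomial (Fin t) k) (Localization.AtPrime p') a₀ ∈
        (Ideal.span (Set.range γ)).map (algebraMap _ (Localization.AtPrime p')) := by
      rw [Ideal.map_span, ← Set.range_comp]
      have : (⇑(algebraMap (MvPolynomial (Fin t) k) (Localization.AtPrime p')) ∘ γ) = f := by
        funext i; exact hγf i
      rw [this, hfspan]
      exact (IsLocalization.AtPrime.to_map_mem_maximal_iff _ p' a₀).mpr h1
    rw [IsLocalization.algebraMap_mem_map_algebraMap_iff p'.primeCompl] at h2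
    obtain ⟨s, hs, hsa⟩ := h2
    refine ⟨s, ?_, hsa⟩
    rw [← hφ'eq]
    exact hs
  · -- generation
    set I := Ideal.span (Set.range (fun i => algebraMap Λ (Localization.AtPrime q) (aeval y (γ i))) ∪
      Set.range (fun j => algebraMap Λ (Localization.AtPrime q) (x' j))) with hI
    have hkerI : RingHom.ker (Ideal.Quotient.mk (Ideal.span (Set.range fun i => ψ' (f i)))) ≤ I := by
      rw [Ideal.mk_ker]
      apply Ideal.span_mono
      rintro _ ⟨i, rfl⟩
      left
      exact ⟨i, (hψf i).symm⟩
    have hmapI : I.map (Ideal.Quotient.mk (Ideal.span (Set.range fun i => ψ' (f i)))) =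
        maximalIdeal _ := by
      apply le_antisymm
      · rw [← hmax1]
        apply Ideal.map_mono
        rw [hI, Ideal.span_le]
        rintro _ (⟨i, rfl⟩ | ⟨j, rfl⟩)
        · show algebraMap Λ (Localization.AtPrime q) (aeval y (γ i)) ∈ _
          rw [← hψf]; exact hgm i
        · rw [← hxspan]
          exact Ideal.subset_span ⟨x' j, hx'xs j, rfl⟩
      · rw [← hxbspan, Ideal.span_le]
        rintro _ ⟨j, rfl⟩
        rw [← hx'xb]
        exact Ideal.mem_map_of_mem _ (Ideal.subset_span (Or.inr ⟨j, rfl⟩))
    have h1 := congrArg (Ideal.comap (Ideal.Quotient.mk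
      (Ideal.span (Set.range fun i => ψ' (f i))))) (hmapI.trans hmax1.symm)
    rw [Ideal.comap_map_of_surjective _ Ideal.Quotient.mk_surjective,
      Ideal.comap_map_of_surjective _ Ideal.Quotient.mk_surjective, ← RingHom.ker_eq_comap_bot,
      sup_eq_left.mpr hkerI, sup_eq_left.mpr hker] at h1
    exact h1

end Groth.Agent.Lib.Helper22.Pop
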