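import Mathlib
import Groth.Agent.Lib.Helper22.PopZx
import Groth.Agent.Lib.Helper22.RegDerA
import Groth.Agent.Lib.Helper7.MiracleFlat
import Groth.Agent.S0559

/-!
# Stage 2c: the polynomial ring of the chart, its parameters, and flatness
-/

set_option autoImplicit false
set_option linter.style.haveILetI false
set_option linter.unusedSectionVars false
universe u

namespace Groth.Agent.Lib.Helper22.Pop

open IsLocalRing MvPolynomial

section Chart

variable {k Λ : Type u} [Field k] [CommRing Λ] [Algebra k Λ] {t h d' : ℕ}

/-- the map from the polynomial ring of the chart -/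
noncomputable def chartHom (y : Fin t → Λ) (x' : Fin d' → Λ) :
    MvPolynomial (Fin t ⊕ Fin d') k →ₐ[k] Λ := aeval (Sum.elim y x')

/-- the parameters of the chart -/
noncomputable def chartPi (d' : ℕ) (γ : Fin h → MvPolynomial (Fin t) k) :
    Fin (h + d') → MvPolynomial (Fin t ⊕ Fin d') k :=
  Fin.addCases (fun i => rename Sum.inl (γ i)) (fun j => X (Sum.inr j))

theorem chartHom_rename (y : Fin t → Λ) (x' : Fin d' → Λ) (a : MvPolynomial (Fin t) k) :
    chartHom y x' (rename Sum.inl a) = aeval y a := by
  rw [chartHom, aeval_rename, Sum.elim_comp_inl]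

theorem chartHom_X_inr (y : Fin t → Λ) (x' : Fin d' → Λ) (j : Fin d') :
    chartHom (k := k) y x' (X (Sum.inr j)) = x' j := by
  rw [chartHom, aeval_X, Sum.elim_inr]

theorem chartHom_X_inl (y : Fin t → Λ) (x' : Fin d' → Λ) (i : Fin t) :
    chartHom (k := k) y x' (X (Sum.inl i)) = y i := by
  rw [chartHom, aeval_X, Sum.elim_inl]

/-- decomposition of a polynomial into its `Y`-part and a multiple of the `X`-variables -/
theorem exists_decomp (a : MvPolynomial (Fin t ⊕ Fin d') k) :
    ∃ a₀ : MvPolynomial (Fin t) k, a - rename Sum.inl a₀ ∈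
      Ideal.span (Set.range fun j : Fin d' => (X (Sum.inr j) : MvPolynomial (Fin t ⊕ Fin d') k)) := by
  induction a using MvPolynomial.induction_on with
  | C c =>
    refine ⟨C c, ?_⟩
    rw [rename_C, sub_self]
    exact Ideal.zero_mem _
  | add a b ha hb =>
    obtain ⟨a₀, ha₀⟩ := ha
    obtain ⟨b₀, hb₀⟩ := hb
    refine ⟨a₀ + b₀, ?_⟩
    rw [map_add]
    have : a + b - (rename Sum.inl a₀ + rename Sum.inl b₀) =
        (a - rename Sum.inl a₀) + (b - rename Sum.inl b₀) := by ring
    rw [this]
    exact Ideal.add_mem _ ha₀ hb₀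
  | mul_X a s ha =>
    obtain ⟨a₀, ha₀⟩ := ha
    rcases s with i | j
    · refine ⟨a₀ * X i, ?_⟩
      rw [map_mul, rename_X]
      have : a * X (Sum.inl i) - rename Sum.inl a₀ * X (Sum.inl i) =
          X (Sum.inl i) * (a - rename Sum.inl a₀) := by ring
      rw [this]
      exact Ideal.mul_mem_left _ _ ha₀
    · refine ⟨0, ?_⟩
      rw [map_zero, sub_zero]
      exact Ideal.mul_mem_left _ _ (Ideal.subset_span ⟨j, rfl⟩)

end Chart

section Main

variable {k Λ : Type u} [Field k] [CommRing Λ] [Algebra k Λ] [IsNoetherianRing Λ]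
  (q : Ideal Λ) [q.IsPrime] [IsRegularLocalRing (Localization.AtPrime q)] {t h d' : ℕ}
  (hd : ringKrullDim (Localization.AtPrime q) = ((h + d' : ℕ) : WithBot ℕ∞))
  (y : Fin t → Λ) (γ : Fin h → MvPolynomial (Fin t) k) (x' : Fin d' → Λ)
  (hx'q : ∀ j, x' j ∈ q)
  (hγm : ∀ i, algebraMap Λ (Localization.AtPrime q) (aeval y (γ i)) ∈
    maximalIdeal (Localization.AtPrime q))
  (hγgen : ∀ a₀ : MvPolynomial (Fin t) k,
    algebraMap Λ (Localization.AtPrime q) (aeval y a₀) ∈ maximalIdeal (Localization.AtPrime q) →
    ∃ s : MvPolynomial (Fin t) k,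
      algebraMap Λ (Localization.AtPrime q) (aeval y s) ∉ maximalIdeal (Localization.AtPrime q) ∧
      s * a₀ ∈ Ideal.span (Set.range γ))
  (hgen : Ideal.span (Set.range (fun i => algebraMap Λ (Localization.AtPrime q) (aeval y (γ i))) ∪
    Set.range (fun j => algebraMap Λ (Localization.AtPrime q) (x' j))) =
    maximalIdeal (Localization.AtPrime q))

include hx'q hγm in
theorem chartPi_mem (i : Fin (h + d')) : chartHom y x' (chartPi d' γ i) ∈ q := by
  refine Fin.addCases (fun i => ?_) (fun j => ?_) i
  · simp only [chartPi, Fin.addCases_left]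
    rw [chartHom_rename]
    exact (IsLocalization.AtPrime.to_map_mem_maximal_iff (Localization.AtPrime q) q _).mp (hγm i)
  · simp only [chartPi, Fin.addCases_right]
    rw [chartHom_X_inr]
    exact hx'q j

include hgen in
theorem chartPi_span :
    Ideal.span (Set.range fun i => algebraMap Λ (Localization.AtPrime q)
      (chartHom y x' (chartPi d' γ i))) = maximalIdeal (Localization.AtPrime q) := by
  rw [← hgen]
  congr 1
  ext z
  constructor
  · rintro ⟨i, rfl⟩
    refine Fin.addCases (fun i => ?_) (fun j => ?_) i
    · left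
      refine ⟨i, ?_⟩
      simp only [chartPi, Fin.addCases_left]
      rw [chartHom_rename]
    · right
      refine ⟨j, ?_⟩
      simp only [chartPi, Fin.addCases_right]
      rw [chartHom_X_inr]
  · rintro (⟨i, rfl⟩ | ⟨j, rfl⟩)
    · refine ⟨Fin.castAdd d' i, ?_⟩
      simp only [chartPi, Fin.addCases_left]
      rw [chartHom_rename]
    · refine ⟨Fin.natAdd h j, ?_⟩
      simp only [chartPi, Fin.addCases_right]
      rw [chartHom_X_inr]

include hx'q hγm hγgen in
theorem chartPi_span_loc :
    Ideal.span (Set.range fun i => algebraMap (MvPolynomial (Fin t ⊕ Fin d') k)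
      (Localization.AtPrime (Ideal.comap (chartHom (k := k) y x').toRingHom q))
      (chartPi d' γ i)) =
      maximalIdeal (Localization.AtPrime (Ideal.comap (chartHom (k := k) y x').toRingHom q)) := by
  apply le_antisymm
  · rw [Ideal.span_le]
    rintro _ ⟨i, rfl⟩
    show _ ∈ maximalIdeal _
    rw [IsLocalization.AtPrime.to_map_mem_maximal_iff _
      (Ideal.comap (chartHom (k := k) y x').toRingHom q)]
    exact chartPi_mem q y γ x' hx'q hγm i
  · rw [← Localization.AtPrime.map_eq_maximalIdeal, Ideal.map_le_iff_le_comap]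
    intro a ha
    rw [Ideal.mem_comap]
    obtain ⟨a₀, ha₀⟩ := exists_decomp a
    -- the `X`-part
    have h1 : algebraMap (MvPolynomial (Fin t ⊕ Fin d') k)
        (Localization.AtPrime (Ideal.comap (chartHom (k := k) y x').toRingHom q))
        (a - rename Sum.inl a₀) ∈ Ideal.span (Set.range fun i =>
          algebraMap (MvPolynomial (Fin t ⊕ Fin d') k)
          (Localization.AtPrime (Ideal.comap (chartHom (k := k) y x').toRingHom q))
          (chartPi d' γ i)) := by
      have hle : Ideal.span (Set.range fun j : Fin d' =>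
          (X (Sum.inr j) : MvPolynomial (Fin t ⊕ Fin d') k)) ≤
          (Ideal.span (Set.range fun i => algebraMap (MvPolynomial (Fin t ⊕ Fin d') k)
            (Localization.AtPrime (Ideal.comap (chartHom (k := k) y x').toRingHom q))
            (chartPi d' γ i))).comap (algebraMap _ _) := by
        rw [Ideal.span_le]
        rintro _ ⟨j, rfl⟩
        apply Ideal.subset_span
        refine ⟨Fin.natAdd h j, ?_⟩
        simp only [chartPi, Fin.addCases_right]
      exact hle ha₀
    -- the `Y`-part
    have hXq : ∀ b ∈ Ideal.span (Set.range fun j : Fin d' =>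
        (X (Sum.inr j) : MvPolynomial (Fin t ⊕ Fin d') k)), chartHom y x' b ∈ q := by
      intro b hb
      have hle : Ideal.span (Set.range fun j : Fin d' =>
          (X (Sum.inr j) : MvPolynomial (Fin t ⊕ Fin d') k)) ≤
          Ideal.comap (chartHom (k := k) y x').toRingHom q := by
        rw [Ideal.span_le]
        rintro _ ⟨j, rfl⟩
        show chartHom y x' (X (Sum.inr j)) ∈ q
        rw [chartHom_X_inr]
        exact hx'q j
      exact hle hb
    have h2 : aeval y a₀ ∈ q := by
      have h3 : chartHom y x' (rename Sum.inl a₀) = chartHom y x' a - chartHom y x' (a - rename Sum.inl a₀) := by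
        rw [map_sub]; ring
      rw [← chartHom_rename y x', h3]
      exact Ideal.sub_mem _ ha (hXq _ ha₀)
    have h4 : algebraMap Λ (Localization.AtPrime q) (aeval y a₀) ∈
        maximalIdeal (Localization.AtPrime q) :=
      (IsLocalization.AtPrime.to_map_mem_maximal_iff (Localization.AtPrime q) q _).mpr h2
    obtain ⟨s, hs, hsa⟩ := hγgen a₀ h4
    have hsunit : IsUnit (algebraMap (MvPolynomial (Fin t ⊕ Fin d') k)
        (Localization.AtPrime (Ideal.comap (chartHom (k := k) y x').toRingHom q))
        (rename Sum.inl s)) := by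
      apply IsLocalization.map_units _
        (⟨rename Sum.inl s, ?_⟩ : (Ideal.comap (chartHom (k := k) y x').toRingHom q).primeCompl)
      intro hmem
      apply hs
      rw [IsLocalization.AtPrime.to_map_mem_maximal_iff (Localization.AtPrime q) q]
      have : chartHom y x' (rename Sum.inl s) ∈ q := hmem
      rwa [chartHom_rename] at this
    have h5 : algebraMap (MvPolynomial (Fin t ⊕ Fin d') k)
        (Localization.AtPrime (Ideal.comap (chartHom (k := k) y x').toRingHom q))
        (rename Sum.inl (s * a₀)) ∈ Ideal.span (Set.range fun i =>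
          algebraMap (MvPolynomial (Fin t ⊕ Fin d') k)
          (Localization.AtPrime (Ideal.comap (chartHom (k := k) y x').toRingHom q))
          (chartPi d' γ i)) := by
      have hle : Ideal.span (Set.range γ) ≤
          (Ideal.span (Set.range fun i => algebraMap (MvPolynomial (Fin t ⊕ Fin d') k)
            (Localization.AtPrime (Ideal.comap (chartHom (k := k) y x').toRingHom q))
            (chartPi d' γ i))).comap ((algebraMap (MvPolynomial (Fin t ⊕ Fin d') k)
              (Localization.AtPrime (Ideal.comap (chartHom (k := k) y x').toRingHom q))).comp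
              (rename Sum.inl : MvPolynomial (Fin t) k →ₐ[k]
                MvPolynomial (Fin t ⊕ Fin d') k).toRingHom) := by
        rw [Ideal.span_le]
        rintro _ ⟨i, rfl⟩
        apply Ideal.subset_span
        refine ⟨Fin.castAdd d' i, ?_⟩
        simp only [chartPi, Fin.addCases_left]
        rfl
      exact hle hsa
    rw [map_mul, map_mul, Ideal.unit_mul_mem_iff_mem _ hsunit] at h5
    have : algebraMap (MvPolynomial (Fin t ⊕ Fin d') k)
        (Localization.AtPrime (Ideal.comap (chartHom (k := k) y x').toRingHom q)) a =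
        algebraMap (MvPolynomial (Fin t ⊕ Fin d') k)
          (Localization.AtPrime (Ideal.comap (chartHom (k := k) y x').toRingHom q))
          (a - rename Sum.inl a₀) +
        algebraMap (MvPolynomial (Fin t ⊕ Fin d') k)
          (Localization.AtPrime (Ideal.comap (chartHom (k := k) y x').toRingHom q))
          (rename Sum.inl a₀) := by
      rw [← map_add]; congr 1; ring
    rw [this]
    exact Ideal.add_mem _ h1 h5

end Main

end Groth.Agent.Lib.Helper22.Pop
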