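import Mathlib
import Groth.Agent.Lib.Helper22.PopZx
import Groth.Agent.Lib.Helper22.RegDerA
import Groth.Agent.Lib.Helper7.MiracleFlat
import Groth.Agent.S0559

/-!
# Stage 2d: dimension of the local ring of the chart and flatness of the local homomorphism
-/

set_option autoImplicit false
set_option linter.style.haveILetI false
set_option linter.unusedSectionVars false
universe u

namespace Groth.Agent.Lib.Helper22.Pop

open IsLocalRing RingTheory.Sequence

section DimFlat

variable {R Λ : Type u} [CommRing R] [CommRing Λ] (φ : R →+* Λ) (q : Ideal Λ) [q.IsPrime]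
  [IsRegularLocalRing (Localization.AtPrime q)]
  [IsRegularLocalRing (Localization.AtPrime (Ideal.comap φ q))] (d : ℕ)
  (hd : ringKrullDim (Localization.AtPrime q) = d) (π : Fin d → R)
  (hπloc : Ideal.span (Set.range fun i => algebraMap R (Localization.AtPrime (Ideal.comap φ q)) (π i)) =
    maximalIdeal (Localization.AtPrime (Ideal.comap φ q)))
  (hπO : Ideal.span (Set.range fun i => algebraMap Λ (Localization.AtPrime q) (φ (π i))) =
    maximalIdeal (Localization.AtPrime q))

include hd hπloc hπO in
theorem chart_dim : ringKrullDim (Localization.AtPrime (Ideal.comap φ q)) = d := by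
  set ψ := Localization.localRingHom (Ideal.comap φ q) q φ rfl with hψ
  have hψmap : ∀ a, ψ (algebraMap R _ a) = algebraMap Λ _ (φ a) := fun a =>
    Localization.localRingHom_to_map _ _ _ _ a
  have hψm : ∀ x ∈ maximalIdeal (Localization.AtPrime (Ideal.comap φ q)),
      ψ x ∈ maximalIdeal (Localization.AtPrime q) := by
    intro x hx
    rw [IsLocalRing.mem_maximalIdeal, mem_nonunits_iff] at hx ⊢
    intro hu
    exact hx (isUnit_of_map_unit ψ x hu)
  have hmem : ∀ i, algebraMap R (Localization.AtPrime (Ideal.comap φ q)) (π i) ∈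
      maximalIdeal (Localization.AtPrime (Ideal.comap φ q)) := fun i =>
    hπloc ▸ Ideal.subset_span ⟨i, rfl⟩
  have hind : ∀ a : Fin d → Localization.AtPrime (Ideal.comap φ q),
      ∑ i, a i * algebraMap R (Localization.AtPrime (Ideal.comap φ q)) (π i) ∈
        maximalIdeal (Localization.AtPrime (Ideal.comap φ q)) ^ 2 →
      ∀ i, a i ∈ maximalIdeal (Localization.AtPrime (Ideal.comap φ q)) := by
    intro a hsum i
    have h1 : ψ (∑ i, a i * algebraMap R (Localization.AtPrime (Ideal.comap φ q)) (π i)) ∈
        maximalIdeal (Localization.AtPrime q) ^ 2 := by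
      have hle : maximalIdeal (Localization.AtPrime (Ideal.comap φ q)) ^ 2 ≤
          (maximalIdeal (Localization.AtPrime q) ^ 2).comap ψ := by
        refine le_trans ?_ (Ideal.le_comap_pow ψ 2)
        exact Ideal.pow_right_mono (fun x hx => hψm x hx) 2
      exact hle hsum
    rw [map_sum] at h1
    simp only [map_mul, hψmap] at h1
    have h2 := indep_of_span_eq (Localization.AtPrime q) d hd _ hπO (fun i => ψ (a i)) h1 i
    rw [IsLocalRing.mem_maximalIdeal, mem_nonunits_iff] at h2 ⊢
    intro hu
    exact h2 (hu.map ψ)
  obtain ⟨-, hdim⟩ := Groth.Agent.Lib.Helper22.RegDer.regular_quot_dim d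
    (Localization.AtPrime (Ideal.comap φ q)) _ hmem hind
  have h0 : ringKrullDim (Localization.AtPrime (Ideal.comap φ q) ⧸
      Ideal.span (Set.range fun i => algebraMap R (Localization.AtPrime (Ideal.comap φ q)) (π i))) = 0 := by
    rw [ringKrullDim_eq_of_ringEquiv (Ideal.quotEquivOfEq hπloc)]
    exact ringKrullDim_eq_zero_of_field (ResidueField (Localization.AtPrime (Ideal.comap φ q)))
  rw [h0, zero_add] at hdim
  exact hdim.symm

include hd hπloc hπO in
theorem chart_flat : (Localization.localRingHom (Ideal.comap φ q) q φ rfl).Flat := by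
  have hdim := chart_dim φ q d hd π hπloc hπO
  set ψ := Localization.localRingHom (Ideal.comap φ q) q φ rfl with hψ
  have hψmap : ∀ a, ψ (algebraMap R _ a) = algebraMap Λ _ (φ a) := fun a =>
    Localization.localRingHom_to_map _ _ _ _ a
  show letI : Algebra _ _ := ψ.toAlgebra; Module.Flat _ _
  letI alg : Algebra (Localization.AtPrime (Ideal.comap φ q)) (Localization.AtPrime q) := ψ.toAlgebra
  haveI : IsLocalHom (algebraMap (Localization.AtPrime (Ideal.comap φ q))
      (Localization.AtPrime q)) := by
    show IsLocalHom ψ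
    infer_instance
  set xs : List (Localization.AtPrime (Ideal.comap φ q)) := List.ofFn fun i : Fin d =>
    algebraMap R (Localization.AtPrime (Ideal.comap φ q)) (π i) with hxsdef
  have hxs : ∀ x ∈ xs, x ∈ maximalIdeal (Localization.AtPrime (Ideal.comap φ q)) := by
    intro x hx
    obtain ⟨i, rfl⟩ := (List.mem_ofFn' _ _).mp hx
    exact hπloc ▸ Ideal.subset_span ⟨i, rfl⟩
  have hmap : xs.map (algebraMap (Localization.AtPrime (Ideal.comap φ q)) (Localization.AtPrime q)) =
      List.ofFn fun i => algebraMap Λ (Localization.AtPrime q) (φ (π i)) := by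
    rw [hxsdef, List.map_ofFn]
    congr 1
    funext i
    exact hψmap (π i)
  have hreg : IsWeaklyRegular (Localization.AtPrime q)
      (List.ofFn fun i => algebraMap Λ (Localization.AtPrime q) (φ (π i))) :=
    (Groth.Agent.S0559.result (Localization.AtPrime q) d hd _ hπO).toIsWeaklyRegular
  have hreg' : IsWeaklyRegular (Localization.AtPrime q) xs := by
    rw [← isWeaklyRegular_map_algebraMap_iff (Localization.AtPrime q) (Localization.AtPrime q) xs,
      hmap]
    exact hreg
  exact Groth.Agent.Lib.Helper7.MiracleFlat.flat_of_isWeaklyRegular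
    (A := Localization.AtPrime (Ideal.comap φ q)) (B := Localization.AtPrime q)
    (Localization.AtPrime q) xs hxs d hdim (by rw [hxsdef, List.length_ofFn]) hreg'

end DimFlat

end Groth.Agent.Lib.Helper22.Pop
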