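import Mathlib
import Groth.Prelude.Def_Smoothing
import Groth.Agent.Lib.Helper22.PopE
import Groth.Agent.Lib.Helper22.PopZj
import Groth.Agent.Lib.Helper22.PopZx
import Groth.Agent.Lib.Helper5.RegHomDescent

/-!
# Stage 3: the good subalgebra is ind-smooth over the Artinian chart ring (abstract form)
-/

set_option autoImplicit false
set_option linter.style.haveILetI false
set_option linter.unusedSectionVars false
universe u

namespace Groth.Agent.Lib.Helper22.Pop

open IsLocalRing Smoothing

/-- ideal contraction for a faithfully flat subalgebra -/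
theorem contraction_sub {k O : Type*} [CommRing k] [CommRing O] [Algebra k O]
    (D : Subalgebra k O) [Module.FaithfullyFlat D O] {r : ℕ} (b : Fin r → D) (x : D)
    (hx : (x : O) ∈ Ideal.span (Set.range fun l => (b l : O))) :
    ∃ μ : Fin r → D, x = ∑ l, μ l * b l := by
  have h1 : (Ideal.span (Set.range b)).map (algebraMap D O) =
      Ideal.span (Set.range fun l => (b l : O)) := by
    rw [Ideal.map_span, ← Set.range_comp]
    rfl
  have h2 : x ∈ ((Ideal.span (Set.range b)).map (algebraMap D O)).comap (algebraMap D O) := by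
    rw [Ideal.mem_comap, h1]
    exact hx
  rw [Ideal.comap_map_eq_self_of_faithfullyFlat, Ideal.mem_span_range_iff_exists_fun] at h2
  obtain ⟨μ, hμ⟩ := h2
  exact ⟨μ, hμ.symm⟩

section LemmaL

variable {k S O K : Type u} [Field k] [CommRing S] [IsLocalRing S] [Algebra k S]
  [CommRing O] [Algebra k O] [IsLocalRing O] [Algebra S O] [IsScalarTower k S O] [Module.Flat S O]
  (hnil : IsNilpotent (maximalIdeal S))
  (hSmax : (maximalIdeal S).map (algebraMap S O) = maximalIdeal O)
  (D : Subalgebra k O) [IsLocalRing D] [IsLocalHom (algebraMap D O)] [Module.Flat D O]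
  (hDmax : (maximalIdeal D).map (algebraMap D O) = maximalIdeal O)
  (hSD : ∀ s : S, algebraMap S O s ∈ D)
  [Field K] [Algebra k K] (ρ : O →+* K) (hρk : ∀ c, ρ (algebraMap k O c) = algebraMap k K c)
  (hρker : RingHom.ker ρ = maximalIdeal O)
  (F : IntermediateField k K) [Algebra.EssFiniteType k F]
  (hDF : ∀ x : D, ρ x ∈ F) (hFD : ∀ z : F, ∃ x : D, ρ x = z)
  {t : ℕ} (y : Fin t → S)
  (hy : Submodule.span F (Set.range fun i => KaehlerDifferential.D k F
    ⟨ρ (algebraMap S O (y i)), hDF ⟨_, hSD (y i)⟩⟩) = ⊤)

include hnil hSmax hDmax hSD hρk hρker hDF hFD hy in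
theorem lemmaL (P : Type u) [CommRing P] [Algebra S P] [Algebra.FinitePresentation S P]
    (f : P →ₐ[S] O) (hf : ∀ x, f x ∈ D) :
    ∃ (B : Type u) (_ : CommRing B) (_ : Algebra S B), Algebra.Smooth S B ∧
      ∃ (g : P →ₐ[S] B) (h : B →ₐ[S] O), h.comp g = f := by
  classical
  letI algSD : Algebra S D := ((algebraMap S O).codRestrict D hSD).toAlgebra
  haveI : IsScalarTower S D O := IsScalarTower.of_algebraMap_eq fun _ => rfl
  haveI : Module.FaithfullyFlat D O := Module.FaithfullyFlat.of_flat_of_isLocalHom
  haveI : Module.Flat S D := Groth.Agent.Lib.Helper5.RegHom.flat_of_comp_faithfullyFlat S D O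
  have hmax : (maximalIdeal S).map (algebraMap S D) = maximalIdeal D := by
    have h1 : ((maximalIdeal S).map (algebraMap S D)).map (algebraMap D O) =
        (maximalIdeal D).map (algebraMap D O) := by
      rw [Ideal.map_map, ← IsScalarTower.algebraMap_eq, hSmax, hDmax]
    have h2 := congrArg (Ideal.comap (algebraMap D O)) h1
    rwa [Ideal.comap_map_eq_self_of_faithfullyFlat, Ideal.comap_map_eq_self_of_faithfullyFlat]
      at h2
  -- the residue map on `D`
  let ρD : D →+* F := (ρ.comp (algebraMap D O)).codRestrict F hDF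
  have hρDsurj : Function.Surjective ρD := by
    intro z
    obtain ⟨x, hx⟩ := hFD z
    exact ⟨x, Subtype.ext hx⟩
  have hker : RingHom.ker ρD = maximalIdeal D := by
    ext x
    rw [RingHom.mem_ker]
    constructor
    · intro hx
      have h1 : ρ (x : O) = 0 := congrArg Subtype.val hx
      have h2 : (x : O) ∈ maximalIdeal O := by rw [← hρker]; exact h1
      rw [IsLocalRing.mem_maximalIdeal, mem_nonunits_iff] at h2 ⊢
      intro hu
      exact h2 (hu.map (algebraMap D O))
    · intro hx
      apply Subtype.ext
      show ρ (x : O) = 0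
      have h2 : (x : O) ∈ maximalIdeal O := by
        rw [IsLocalRing.mem_maximalIdeal, mem_nonunits_iff] at hx ⊢
        intro hu
        exact hx (isUnit_of_map_unit (algebraMap D O) x hu)
      rw [← hρker] at h2
      exact h2
  have hkill : ∀ a ∈ maximalIdeal S, (ρD.comp (algebraMap S D)) a = 0 := by
    intro a ha
    have h1 : algebraMap S D a ∈ maximalIdeal D := by
      rw [← hmax]
      exact Ideal.mem_map_of_mem _ ha
    rw [← hker] at h1
    exact h1
  letI algκF : Algebra (ResidueField S) F :=
    (Ideal.Quotient.lift (maximalIdeal S) (ρD.comp (algebraMap S D)) hkill).toAlgebra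
  have halgκF : ∀ s : S, algebraMap (ResidueField S) F (residue S s) = ρD (algebraMap S D s) :=
    fun s => rfl
  haveI : IsScalarTower k (ResidueField S) F := by
    apply IsScalarTower.of_algebraMap_eq
    intro c
    have h1 : algebraMap k (ResidueField S) c = residue S (algebraMap k S c) := rfl
    rw [h1, halgκF]
    apply Subtype.ext
    show algebraMap k K c = ρ (algebraMap S O (algebraMap k S c))
    rw [← IsScalarTower.algebraMap_apply, hρk]
  haveI : Algebra.FormallyUnramified (ResidueField S) F := by
    constructor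
    refine subsingleton_of_forall_eq 0 (fun w => ?_)
    obtain ⟨w', rfl⟩ := KaehlerDifferential.map_surjective k (ResidueField S) F w
    have hw' : w' ∈ Submodule.span F (Set.range fun i => KaehlerDifferential.D k F
        ⟨ρ (algebraMap S O (y i)), hDF ⟨_, hSD (y i)⟩⟩) := by
      rw [hy]; exact Submodule.mem_top
    induction hw' using Submodule.span_induction with
    | mem x hx =>
      obtain ⟨i, rfl⟩ := hx
      rw [KaehlerDifferential.map_D]
      have h1 : (⟨ρ (algebraMap S O (y i)), hDF ⟨_, hSD (y i)⟩⟩ : F) =
          algebraMap (ResidueField S) F (residue S (y i)) := rfl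
      rw [h1]
      exact (KaehlerDifferential.D (ResidueField S) F).map_algebraMap _
    | zero => exact map_zero _
    | add x z _ _ hx hz => rw [map_add, hx, hz, add_zero]
    | smul a x _ hx => rw [map_smul, hx, smul_zero]
  haveI : Algebra.EssFiniteType (ResidueField S) F :=
    Algebra.EssFiniteType.of_comp k (ResidueField S) F
  haveI := geomReduced_of_unramified (ResidueField S) F
  have hindF : IndSmooth (ResidueField S) F := indSmooth_of_geometricallyReduced (ResidueField S) F
  have hind : IndSmooth S D := by
    refine indSmooth_of_nilpotent (maximalIdeal S) hnil ?_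
    let e₂ : F ≃+* D ⧸ (maximalIdeal S).map (algebraMap S D) :=
      (RingHom.quotientKerEquivOfSurjective hρDsurj).symm.trans
        (Ideal.quotEquivOfEq (hker.trans hmax.symm))
    refine indSmooth_of_ringEquiv (R := ResidueField S) (Λ := F) (RingEquiv.refl _) e₂ ?_ hindF
    intro r
    obtain ⟨s, rfl⟩ := residue_surjective r
    rw [halgκF]
    show Ideal.quotEquivOfEq (hker.trans hmax.symm)
      ((RingHom.quotientKerEquivOfSurjective hρDsurj).symm (ρD (algebraMap S D s))) = _
    have h1 : (RingHom.quotientKerEquivOfSurjective hρDsurj).symm (ρD (algebraMap S D s)) =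
        Ideal.Quotient.mk _ (algebraMap S D s) := by
      rw [RingEquiv.symm_apply_eq]
      rfl
    rw [h1, Ideal.quotEquivOfEq_mk]
    rfl
  -- apply ind-smoothness
  let f' : P →ₐ[S] D :=
    { toRingHom := f.toRingHom.codRestrict D hf
      commutes' := fun s => Subtype.ext (f.commutes s) }
  obtain ⟨B, _, _, hB, g, h', hgh⟩ := hind P inferInstance f'
  refine ⟨B, inferInstance, inferInstance, hB, g, (IsScalarTower.toAlgHom S D O).comp h', ?_⟩
  ext x
  show ((h' (g x) : D) : O) = f x
  have := congrArg (fun F => F x) hgh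
  simp only [AlgHom.comp_apply] at this
  rw [this]
  rfl

end LemmaL

end Groth.Agent.Lib.Helper22.Pop
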