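import Mathlib

/-!
# The Artinian quotients `O ⧸ m ^ N` of a local ring
-/

set_option autoImplicit false
set_option linter.style.haveILetI false
set_option linter.unusedSectionVars false
universe u

namespace Groth.Agent.Lib.Helper22.Pop

open IsLocalRing

section QuotPow

variable (O : Type*) [CommRing O] [IsLocalRing O] (N : ℕ)

theorem quotPow_ne_top (hN : 1 ≤ N) : maximalIdeal O ^ N ≠ ⊤ := by
  intro h
  have h1 : maximalIdeal O ^ N ≤ maximalIdeal O := Ideal.pow_le_self (by omega)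
  rw [h] at h1
  exact (maximalIdeal.isMaximal _).ne_top (top_le_iff.mp h1)

theorem quotPow_nontrivial (hN : 1 ≤ N) : Nontrivial (O ⧸ maximalIdeal O ^ N) :=
  Ideal.Quotient.nontrivial_iff.mpr (quotPow_ne_top O N hN)

theorem quotPow_isLocalRing (hN : 1 ≤ N) : IsLocalRing (O ⧸ maximalIdeal O ^ N) := by
  haveI := quotPow_nontrivial O N hN
  exact IsLocalRing.of_surjective' (Ideal.Quotient.mk _) Ideal.Quotient.mk_surjective

/-- the residue map of `O ⧸ m ^ N` -/
noncomputable def quotPowResidue (hN : 1 ≤ N) : (O ⧸ maximalIdeal O ^ N) →+* ResidueField O :=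
  Ideal.Quotient.lift _ (residue O) (fun a ha => by
    rw [residue_eq_zero_iff]
    exact Ideal.pow_le_self (by omega) ha)

theorem quotPowResidue_mk (hN : 1 ≤ N) (a : O) :
    quotPowResidue O N hN (Ideal.Quotient.mk _ a) = residue O a :=
  Ideal.Quotient.lift_mk _ _ _

theorem quotPowResidue_surjective (hN : 1 ≤ N) : Function.Surjective (quotPowResidue O N hN) := by
  intro x
  obtain ⟨a, rfl⟩ := residue_surjective x
  exact ⟨Ideal.Quotient.mk _ a, quotPowResidue_mk O N hN a⟩

theorem quotPowResidue_ker (hN : 1 ≤ N) [IsLocalRing (O ⧸ maximalIdeal O ^ N)] :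
    RingHom.ker (quotPowResidue O N hN) = maximalIdeal (O ⧸ maximalIdeal O ^ N) :=
  IsLocalRing.eq_maximalIdeal
    (RingHom.ker_isMaximal_of_surjective _ (quotPowResidue_surjective O N hN))

theorem quotPow_maximalIdeal (hN : 1 ≤ N) [IsLocalRing (O ⧸ maximalIdeal O ^ N)] :
    maximalIdeal (O ⧸ maximalIdeal O ^ N) = (maximalIdeal O).map (Ideal.Quotient.mk _) := by
  rw [← quotPowResidue_ker O N hN]
  ext x
  obtain ⟨a, rfl⟩ := Ideal.Quotient.mk_surjective x
  rw [RingHom.mem_ker, quotPowResidue_mk, residue_eq_zero_iff]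
  constructor
  · intro ha
    exact Ideal.mem_map_of_mem _ ha
  · intro ha
    rw [Ideal.mem_map_iff_of_surjective _ Ideal.Quotient.mk_surjective] at ha
    obtain ⟨b, hb, hba⟩ := ha
    have h1 : b - a ∈ maximalIdeal O ^ N := Ideal.Quotient.eq.mp hba
    have h2 : b - a ∈ maximalIdeal O := Ideal.pow_le_self (by omega) h1
    have : a = b - (b - a) := by ring
    rw [this]
    exact Ideal.sub_mem _ hb h2

theorem quotPow_isNilpotent (hN : 1 ≤ N) [IsLocalRing (O ⧸ maximalIdeal O ^ N)] :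
    IsNilpotent (maximalIdeal (O ⧸ maximalIdeal O ^ N)) := by
  refine ⟨N, ?_⟩
  rw [quotPow_maximalIdeal O N hN, ← Ideal.map_pow, Ideal.zero_eq_bot, Ideal.map_quotient_self]

theorem quotPow_mk_mem_maximalIdeal (hN : 1 ≤ N) [IsLocalRing (O ⧸ maximalIdeal O ^ N)] (a : O) :
    Ideal.Quotient.mk (maximalIdeal O ^ N) a ∈ maximalIdeal (O ⧸ maximalIdeal O ^ N) ↔
      a ∈ maximalIdeal O := by
  rw [← quotPowResidue_ker O N hN, RingHom.mem_ker, quotPowResidue_mk, residue_eq_zero_iff]

end QuotPow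

end Groth.Agent.Lib.Helper22.Pop
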