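import Mathlib
import Groth.Prelude.Def_Found
import Groth.Prelude.Def_Smoothing
import Groth.Agent.Lib.Helper22.PopZzd
import Groth.Agent.Lib.Helper22.PopZze
import Groth.Agent.Lib.Helper22.PopZzf
import Groth.Agent.Lib.Helper22.PopZzg
import Groth.Agent.Lib.Helper22.PopZzh
import Groth.Agent.Lib.Helper22.PopZzi

/-!
# Stage 3 (concrete): the chart, the good subalgebra and its ind-smoothness
-/

set_option autoImplicit false
set_option linter.style.haveILetI false
set_option linter.unusedSectionVars false
universe u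

namespace Groth.Agent.Lib.Helper22.Pop

open IsLocalRing MvPolynomial Smoothing

/-- the local ring of the chart -/
abbrev PChartLoc (k : Type u) {Λ : Type u} [Field k] [CommRing Λ] [Algebra k Λ] (q : Ideal Λ)
    [q.IsPrime] {t d' : ℕ} (y : Fin t → Λ) (x' : Fin d' → Λ) : Type u :=
  Localization.AtPrime (Ideal.comap (chartHom (k := k) y x').toRingHom q)

/-- the Artinian quotient of a local ring -/
abbrev QuotPow (O : Type*) [CommRing O] [IsLocalRing O] (N : ℕ) := O ⧸ maximalIdeal O ^ N

theorem flat_quotientMap {R Λ : Type*} [CommRing R] [CommRing Λ] (ψ : R →+* Λ) (hψ : ψ.Flat)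
    (I : Ideal R) (J : Ideal Λ) (hJ : I.map ψ = J) (hle : I ≤ J.comap ψ) :
    letI : Algebra (R ⧸ I) (Λ ⧸ J) := (Ideal.quotientMap J ψ hle).toAlgebra
    Module.Flat (R ⧸ I) (Λ ⧸ J) := by
  subst hJ
  letI : Algebra R Λ := ψ.toAlgebra
  haveI : Module.Flat R Λ := hψ
  have h1 : Module.Flat (R ⧸ I) (Λ ⧸ I.map (algebraMap R Λ)) := flat_quot (Λ := Λ) I
  have h2 : (algebraMap (R ⧸ I) (Λ ⧸ I.map (algebraMap R Λ))).Flat :=
    RingHom.flat_algebraMap_iff.mpr h1
  exact h2

set_option maxHeartbeats 3200000 in
theorem exists_chart_good {k Λ : Type u} [Field k] [CommRing Λ] [Algebra k Λ] [IsNoetherianRing Λ]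
    (q : Ideal Λ) [q.IsPrime] (p : ℕ) [Fact p.Prime] [CharP k p]
    (hreg : CAlg.IsGeometricallyRegular k (Localization.AtPrime q))
    [IsRegularLocalRing (Localization.AtPrime q)] (d : ℕ)
    (hd : ringKrullDim (Localization.AtPrime q) = d) (N : ℕ) (hN : 2 ≤ N) (E₀ : Finset Λ) :
    ∃ (t d' : ℕ) (y : Fin t → Λ) (x' : Fin d' → Λ) (π : Fin d → MvPolynomial (Fin t ⊕ Fin d') k),
      Ideal.span (Set.range fun i => algebraMap Λ (Localization.AtPrime q) (chartHom y x' (π i))) =
        maximalIdeal (Localization.AtPrime q) ∧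
      Ideal.span (Set.range fun i => algebraMap (MvPolynomial (Fin t ⊕ Fin d') k)
        (PChartLoc k q y x') (π i)) = maximalIdeal (PChartLoc k q y x') ∧
      ringKrullDim (PChartLoc k q y x') = d ∧
      ∃ (D : Subalgebra k (QuotPow (Localization.AtPrime q) N))
        (_ : Algebra (QuotPow (PChartLoc k q y x') N) (QuotPow (Localization.AtPrime q) N)),
        Module.FaithfullyFlat D (QuotPow (Localization.AtPrime q) N) ∧
        (∀ e ∈ E₀, Ideal.Quotient.mk (maximalIdeal (Localization.AtPrime q) ^ N)
          (algebraMap Λ (Localization.AtPrime q) e) ∈ D) ∧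
        (∀ x : MvPolynomial (Fin t ⊕ Fin d') k,
          algebraMap (QuotPow (PChartLoc k q y x') N) (QuotPow (Localization.AtPrime q) N)
            (Ideal.Quotient.mk _ (algebraMap _ (PChartLoc k q y x') x)) =
          Ideal.Quotient.mk _ (algebraMap Λ (Localization.AtPrime q) (chartHom y x' x))) ∧
        (∀ s, algebraMap (QuotPow (PChartLoc k q y x') N) (QuotPow (Localization.AtPrime q) N) s ∈ D) ∧
        ∀ (P : Type u) [CommRing P] [Algebra (QuotPow (PChartLoc k q y x') N) P]
          [Algebra.FinitePresentation (QuotPow (PChartLoc k q y x') N) P]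
          (f : P →ₐ[QuotPow (PChartLoc k q y x') N] QuotPow (Localization.AtPrime q) N),
          (∀ x, f x ∈ D) →
          ∃ (B : Type u) (_ : CommRing B) (_ : Algebra (QuotPow (PChartLoc k q y x') N) B),
            Algebra.Smooth (QuotPow (PChartLoc k q y x') N) B ∧
            ∃ (g : P →ₐ[QuotPow (PChartLoc k q y x') N] B)
              (h : B →ₐ[QuotPow (PChartLoc k q y x') N] QuotPow (Localization.AtPrime q) N),
              h.comp g = f := by
  classical
  obtain ⟨D, hDloc, hDlocal, hDflat, hDmax, hE₀, lams, hlams, hres, xs, hxs, hxspan⟩ :=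
    exists_good_loc q p hreg N hN E₀
  obtain ⟨t, y, hy, h, d', γ, x', hhd, hx'xs, hΩ, hγm, hγgen, hgen⟩ :=
    exists_params_chart q p hreg d hd lams xs hxspan
  subst hhd
  have hx'q : ∀ j, x' j ∈ q := fun j => (hxs _ (hx'xs j)).2
  have hπO := chartPi_span q y γ x' hgen
  have hπloc := chartPi_span_loc q y γ x' hx'q hγm hγgen
  have hdim := chart_dim (chartHom (k := k) y x').toRingHom q (h + d') hd (chartPi d' γ) hπloc hπO
  have hflat := chart_flat (chartHom (k := k) y x').toRingHom q (h + d') hd (chartPi d' γ) hπloc hπO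
  refine ⟨t, d', y, x', chartPi d' γ, hπO, hπloc, hdim, D, ?_⟩
  haveI hSloc : IsLocalRing (QuotPow (PChartLoc k q y x') N) :=
    quotPow_isLocalRing (PChartLoc k q y x') N (by omega)
  haveI hOloc : IsLocalRing (QuotPow (Localization.AtPrime q) N) :=
    quotPow_isLocalRing (Localization.AtPrime q) N (by omega)
  let ψ : PChartLoc k q y x' →+* Localization.AtPrime q :=
    Localization.localRingHom _ q (chartHom (k := k) y x').toRingHom rfl
  have hψmap : ∀ a, ψ (algebraMap _ (PChartLoc k q y x') a) =
      algebraMap Λ (Localization.AtPrime q) (chartHom y x' a) := fun a =>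
    Localization.localRingHom_to_map _ _ _ _ a
  have hmapm : (maximalIdeal (PChartLoc k q y x')).map ψ = maximalIdeal (Localization.AtPrime q) := by
    rw [← hπloc, Ideal.map_span, ← Set.range_comp, ← hπO]
    congr 2
    funext i
    exact hψmap _
  have hle : maximalIdeal (PChartLoc k q y x') ^ N ≤
      (maximalIdeal (Localization.AtPrime q) ^ N).comap ψ := by
    rw [← Ideal.map_le_iff_le_comap, Ideal.map_pow, hmapm]
  letI algSO : Algebra (QuotPow (PChartLoc k q y x') N) (QuotPow (Localization.AtPrime q) N) :=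
    (Ideal.quotientMap _ ψ hle).toAlgebra
  have halg : ∀ a : PChartLoc k q y x',
      algebraMap (QuotPow (PChartLoc k q y x') N) (QuotPow (Localization.AtPrime q) N)
        (Ideal.Quotient.mk _ a) = Ideal.Quotient.mk _ (ψ a) := fun a => rfl
  have hcompat : ∀ x : MvPolynomial (Fin t ⊕ Fin d') k,
      algebraMap (QuotPow (PChartLoc k q y x') N) (QuotPow (Localization.AtPrime q) N)
        (Ideal.Quotient.mk _ (algebraMap _ (PChartLoc k q y x') x)) =
      Ideal.Quotient.mk _ (algebraMap Λ (Localization.AtPrime q) (chartHom y x' x)) := by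
    intro x
    rw [halg, hψmap]
  haveI tower : IsScalarTower k (QuotPow (PChartLoc k q y x') N)
      (QuotPow (Localization.AtPrime q) N) := by
    apply IsScalarTower.of_algebraMap_eq
    intro c
    have h1 : algebraMap k (QuotPow (PChartLoc k q y x') N) c =
        Ideal.Quotient.mk _ (algebraMap (MvPolynomial (Fin t ⊕ Fin d') k)
          (PChartLoc k q y x') (C c)) := by
      have : algebraMap k (QuotPow (PChartLoc k q y x') N) c =
          Ideal.Quotient.mk _ (algebraMap k (PChartLoc k q y x') c) := rfl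
      rw [this, IsScalarTower.algebraMap_apply k (MvPolynomial (Fin t ⊕ Fin d') k)
        (PChartLoc k q y x'), MvPolynomial.algebraMap_eq]
    rw [h1, hcompat, ← MvPolynomial.algebraMap_eq, AlgHom.commutes]
    rfl
  haveI hflatSO : Module.Flat (QuotPow (PChartLoc k q y x') N)
      (QuotPow (Localization.AtPrime q) N) := by
    have hJ : (maximalIdeal (PChartLoc k q y x') ^ N).map ψ =
        maximalIdeal (Localization.AtPrime q) ^ N := by
      rw [Ideal.map_pow, hmapm]
    exact flat_quotientMap ψ hflat _ _ hJ hle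
  have hcomp : (algebraMap (QuotPow (PChartLoc k q y x') N)
      (QuotPow (Localization.AtPrime q) N)).comp (Ideal.Quotient.mk _) =
      (Ideal.Quotient.mk _).comp ψ := by
    ext x
    rfl
  have hSmax : (maximalIdeal (QuotPow (PChartLoc k q y x') N)).map
      (algebraMap (QuotPow (PChartLoc k q y x') N) (QuotPow (Localization.AtPrime q) N)) =
      maximalIdeal (QuotPow (Localization.AtPrime q) N) := by
    rw [quotPow_maximalIdeal (PChartLoc k q y x') N (by omega),
      quotPow_maximalIdeal (Localization.AtPrime q) N (by omega), Ideal.map_map, hcomp,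
      ← Ideal.map_map, hmapm]
  have hnil := quotPow_isNilpotent (PChartLoc k q y x') N (by omega)
  have hDmax' : (maximalIdeal D).map (algebraMap D (QuotPow (Localization.AtPrime q) N)) =
      maximalIdeal (QuotPow (Localization.AtPrime q) N) := by
    rw [quotPow_maximalIdeal (Localization.AtPrime q) N (by omega)]
    exact hDmax
  haveI := hDlocal
  haveI := hDflat
  haveI hff : Module.FaithfullyFlat D (QuotPow (Localization.AtPrime q) N) :=
    Module.FaithfullyFlat.of_flat_of_isLocalHom (A := D) (B := QuotPow (Localization.AtPrime q) N)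
  -- the image of the polynomial ring lies in `D`
  have hD1 : ∀ x : MvPolynomial (Fin t ⊕ Fin d') k,
      Ideal.Quotient.mk (maximalIdeal (Localization.AtPrime q) ^ N)
        (algebraMap Λ (Localization.AtPrime q) (chartHom y x' x)) ∈ D := by
    let Φ : MvPolynomial (Fin t ⊕ Fin d') k →ₐ[k] QuotPow (Localization.AtPrime q) N :=
      (Ideal.Quotient.mkₐ k _).comp
        ((IsScalarTower.toAlgHom k Λ (Localization.AtPrime q)).comp (chartHom y x'))
    have h1 : (⊤ : Subalgebra k (MvPolynomial (Fin t ⊕ Fin d') k)) ≤ D.comap Φ := by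
      rw [← MvPolynomial.adjoin_range_X, Algebra.adjoin_le_iff]
      rintro _ ⟨i | j, rfl⟩
      · show Ideal.Quotient.mk _ (algebraMap Λ (Localization.AtPrime q)
          (chartHom y x' (X (Sum.inl i)))) ∈ D
        rw [chartHom_X_inl]
        exact hlams _ (hy i)
      · show Ideal.Quotient.mk _ (algebraMap Λ (Localization.AtPrime q)
          (chartHom y x' (X (Sum.inr j)))) ∈ D
        rw [chartHom_X_inr]
        exact (hxs _ (hx'xs j)).1
    intro x
    exact h1 (Algebra.mem_top (x := x))
  have hSD : ∀ s, algebraMap (QuotPow (PChartLoc k q y x') N)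
      (QuotPow (Localization.AtPrime q) N) s ∈ D := by
    intro s
    obtain ⟨x, rfl⟩ := Ideal.Quotient.mk_surjective s
    obtain ⟨a, b, rfl⟩ := IsLocalization.exists_mk'_eq
      (Ideal.comap (chartHom (k := k) y x').toRingHom q).primeCompl x
    have h1 : IsLocalization.mk' (PChartLoc k q y x') a b *
        algebraMap _ (PChartLoc k q y x') (b : MvPolynomial (Fin t ⊕ Fin d') k) =
        algebraMap _ (PChartLoc k q y x') a := IsLocalization.mk'_spec _ a b
    have h2 : algebraMap (QuotPow (PChartLoc k q y x') N) (QuotPow (Localization.AtPrime q) N)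
        (Ideal.Quotient.mk _ (IsLocalization.mk' (PChartLoc k q y x') a b)) *
        Ideal.Quotient.mk _ (algebraMap Λ (Localization.AtPrime q)
          (chartHom y x' (b : MvPolynomial (Fin t ⊕ Fin d') k))) =
        Ideal.Quotient.mk _ (algebraMap Λ (Localization.AtPrime q) (chartHom y x' a)) := by
      rw [← hcompat, ← hcompat, ← map_mul, ← map_mul, h1]
    have hbq : chartHom y x' (b : MvPolynomial (Fin t ⊕ Fin d') k) ∉ q := b.2
    have hu : IsUnit (Ideal.Quotient.mk (maximalIdeal (Localization.AtPrime q) ^ N)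
        (algebraMap Λ (Localization.AtPrime q)
          (chartHom y x' (b : MvPolynomial (Fin t ⊕ Fin d') k)))) :=
      (IsLocalization.map_units (Localization.AtPrime q)
        (⟨_, hbq⟩ : q.primeCompl)).map (Ideal.Quotient.mk _)
    have hu' : IsUnit (⟨_, hD1 (b : MvPolynomial (Fin t ⊕ Fin d') k)⟩ : D) :=
      isUnit_of_map_unit (algebraMap D (QuotPow (Localization.AtPrime q) N)) _ hu
    obtain ⟨u, hu''⟩ := hu'
    have h4 : Ideal.Quotient.mk (maximalIdeal (Localization.AtPrime q) ^ N)
        (algebraMap Λ (Localization.AtPrime q)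
          (chartHom y x' (b : MvPolynomial (Fin t ⊕ Fin d') k))) *
        (((u⁻¹ : Dˣ) : D) : QuotPow (Localization.AtPrime q) N) = 1 := by
      have h5 : ((u : D) : QuotPow (Localization.AtPrime q) N) =
          Ideal.Quotient.mk _ (algebraMap Λ (Localization.AtPrime q)
            (chartHom y x' (b : MvPolynomial (Fin t ⊕ Fin d') k))) := by rw [hu'']
      rw [← h5, ← MulMemClass.coe_mul, Units.mul_inv]
      rfl
    have h3 : algebraMap (QuotPow (PChartLoc k q y x') N) (QuotPow (Localization.AtPrime q) N)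
        (Ideal.Quotient.mk _ (IsLocalization.mk' (PChartLoc k q y x') a b)) =
        Ideal.Quotient.mk _ (algebraMap Λ (Localization.AtPrime q) (chartHom y x' a)) *
          (((u⁻¹ : Dˣ) : D) : QuotPow (Localization.AtPrime q) N) := by
      rw [← h2, mul_assoc, h4, mul_one]
    rw [h3]
    exact D.mul_mem (hD1 a) (SetLike.coe_mem _)
  -- the residue map
  let ρ := quotPowResidue (Localization.AtPrime q) N (by omega)
  have hρmk : ∀ a, ρ (Ideal.Quotient.mk _ a) = residue (Localization.AtPrime q) a :=
    fun a => quotPowResidue_mk _ _ _ a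
  have hρk : ∀ c, ρ (algebraMap k (QuotPow (Localization.AtPrime q) N) c) =
      algebraMap k (ResidueField (Localization.AtPrime q)) c := by
    intro c
    have : algebraMap k (QuotPow (Localization.AtPrime q) N) c =
        Ideal.Quotient.mk _ (algebraMap k (Localization.AtPrime q) c) := rfl
    rw [this, hρmk]
    rfl
  have hρker : RingHom.ker ρ = maximalIdeal (QuotPow (Localization.AtPrime q) N) :=
    quotPowResidue_ker _ _ _
  set res : Λ → ResidueField (Localization.AtPrime q) :=
    fun l => residue (Localization.AtPrime q) (algebraMap Λ (Localization.AtPrime q) l) with hresdef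
  set F := IntermediateField.adjoin k (res '' (lams : Set Λ)) with hF
  haveI : Algebra.EssFiniteType k F :=
    IntermediateField.essFiniteType_iff.mpr ⟨lams.image res, by rw [Finset.coe_image]⟩
  have hDF : ∀ x : D, ρ x ∈ F := by
    intro x
    obtain ⟨a, ha⟩ := Ideal.Quotient.mk_surjective (x : QuotPow (Localization.AtPrime q) N)
    have h1 := hres a (ha ▸ x.2)
    rw [← ha, hρmk]
    exact h1
  have hFD : ∀ z : F, ∃ x : D, ρ x = z := by
    rintro ⟨z, hz⟩
    show ∃ x : D, ρ x = z
    induction hz using IntermediateField.adjoin_induction with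
    | mem z hz =>
      obtain ⟨l, hl, rfl⟩ := hz
      exact ⟨⟨_, hlams l hl⟩, hρmk _⟩
    | algebraMap c => exact ⟨algebraMap k D c, hρk c⟩
    | add a b _ _ ha hb =>
      obtain ⟨x₁, rfl⟩ := ha
      obtain ⟨x₂, rfl⟩ := hb
      exact ⟨x₁ + x₂, by rw [AddMemClass.coe_add, map_add]⟩
    | mul a b _ _ ha hb =>
      obtain ⟨x₁, rfl⟩ := ha
      obtain ⟨x₂, rfl⟩ := hb
      exact ⟨x₁ * x₂, by rw [MulMemClass.coe_mul, map_mul]⟩
    | inv a _ ha =>
      obtain ⟨x₁, rfl⟩ := ha
      by_cases h0 : ρ (x₁ : QuotPow (Localization.AtPrime q) N) = 0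
      · exact ⟨0, by rw [h0, inv_zero, ZeroMemClass.coe_zero, map_zero]⟩
      · have h1 : (x₁ : QuotPow (Localization.AtPrime q) N) ∉
            maximalIdeal (QuotPow (Localization.AtPrime q) N) := by
          rw [← hρker]
          exact h0
        have h2 : IsUnit (x₁ : QuotPow (Localization.AtPrime q) N) := by
          rw [IsLocalRing.mem_maximalIdeal, mem_nonunits_iff, not_not] at h1
          exact h1
        obtain ⟨u, hu⟩ := isUnit_of_map_unit
          (algebraMap D (QuotPow (Localization.AtPrime q) N)) x₁ h2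
        refine ⟨((u⁻¹ : Dˣ) : D), ?_⟩
        apply eq_inv_of_mul_eq_one_left
        rw [← map_mul, ← hu, ← MulMemClass.coe_mul, Units.inv_mul]
        exact map_one ρ
  -- the coordinates
  let y' : Fin t → QuotPow (PChartLoc k q y x') N := fun i =>
    Ideal.Quotient.mk _ (algebraMap (MvPolynomial (Fin t ⊕ Fin d') k) (PChartLoc k q y x')
      (X (Sum.inl i)))
  have hy'eq : ∀ i, ρ (algebraMap (QuotPow (PChartLoc k q y x') N)
      (QuotPow (Localization.AtPrime q) N) (y' i)) = res (y i) := by
    intro i
    show ρ (algebraMap (QuotPow (PChartLoc k q y x') N) (QuotPow (Localization.AtPrime q) N)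
      (Ideal.Quotient.mk _ (algebraMap (MvPolynomial (Fin t ⊕ Fin d') k) (PChartLoc k q y x')
        (X (Sum.inl i))))) = _
    rw [hcompat, chartHom_X_inl, hρmk]
  have hy' : Submodule.span F (Set.range fun i => KaehlerDifferential.D k F
      ⟨ρ (algebraMap (QuotPow (PChartLoc k q y x') N) (QuotPow (Localization.AtPrime q) N) (y' i)),
        hDF ⟨_, hSD (y' i)⟩⟩) = ⊤ := by
    rw [← hΩ]
    congr 2
    funext i
    congr 1
    exact Subtype.ext (hy'eq i)
  refine ⟨algSO, hff, hE₀, hcompat, hSD, ?_⟩
  intro P _ _ _ f hf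
  exact lemmaL hnil hSmax D hDmax' hSD ρ hρk hρker F hDF hFD y' hy' P f hf

end Groth.Agent.Lib.Helper22.Pop
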