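import Mathlib
import Groth.Prelude.Def_Smoothing
import Groth.Agent.Lib.Helper22.PopZk

/-!
# Stage 3b: applying the ind-smoothness to the algebra `B₀` specialized over the chart
-/

set_option autoImplicit false
set_option linter.style.haveILetI false
set_option linter.unusedSectionVars false
universe u

namespace Groth.Agent.Lib.Helper22.Pop

open MvPolynomial TensorProduct

set_option maxHeartbeats 1600000 in
theorem lemmaL_bAlg {k A S T : Type u} [Field k] [CommRing A] [Algebra k A]
    [Algebra.FinitePresentation k A] [CommRing S] [Algebra k S] [CommRing T] [Algebra k T]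
    [Algebra S T] [IsScalarTower k S T] (D : Subalgebra k T) (hSD : ∀ s, algebraMap S T s ∈ D)
    (hL : ∀ (P : Type u) [CommRing P] [Algebra S P] [Algebra.FinitePresentation S P]
      (f : P →ₐ[S] T), (∀ x, f x ∈ D) →
      ∃ (B : Type u) (_ : CommRing B) (_ : Algebra S B), Algebra.Smooth S B ∧
        ∃ (g : P →ₐ[S] B) (h : B →ₐ[S] T), h.comp g = f)
    {r : ℕ} (a : Fin r → A) (d n : ℕ) (πb : Fin d → S) (φb : A →ₐ[k] T) (hφD : ∀ y, φb y ∈ D)
    (μ : Fin d → Fin r → T) (hμD : ∀ i l, μ i l ∈ D)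
    (hrel : ∀ i, algebraMap S T (πb i) ^ n = ∑ l, μ i l * φb (a l)) :
    ∃ (B : Type u) (_ : CommRing B) (_ : Algebra S B), Algebra.Smooth S B ∧
      ∃ (fA : A →+* B) (zb : Fin d → Fin r → B) (h : B →ₐ[S] T),
        (∀ c : k, fA (algebraMap k A c) = algebraMap S B (algebraMap k S c)) ∧
        (∀ i, algebraMap S B (πb i) ^ n = ∑ l, zb i l * fA (a l)) ∧
        (∀ y, h (fA y) = φb y) ∧ (∀ i l, h (zb i l) = μ i l) := by
  classical
  letI algP₀S : Algebra (MvPolynomial (Fin d) k) S :=
    (aeval πb : MvPolynomial (Fin d) k →ₐ[k] S).toRingHom.toAlgebra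
  haveI : IsScalarTower k (MvPolynomial (Fin d) k) S := IsScalarTower.of_algebraMap_eq fun x =>
    ((aeval πb : MvPolynomial (Fin d) k →ₐ[k] S).commutes x).symm
  have hXS : ∀ i, algebraMap (MvPolynomial (Fin d) k) S (X i) = πb i := fun i => aeval_X πb i
  letI algP₀T : Algebra (MvPolynomial (Fin d) k) T :=
    ((algebraMap S T).comp (algebraMap (MvPolynomial (Fin d) k) S)).toAlgebra
  haveI : IsScalarTower (MvPolynomial (Fin d) k) S T := IsScalarTower.of_algebraMap_eq fun _ => rfl
  haveI : IsScalarTower k (MvPolynomial (Fin d) k) T := IsScalarTower.of_algebraMap_eq fun x => by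
    rw [IsScalarTower.algebraMap_apply (MvPolynomial (Fin d) k) S T,
      ← IsScalarTower.algebraMap_apply k (MvPolynomial (Fin d) k) S,
      ← IsScalarTower.algebraMap_apply k S T]
  have hXT : ∀ i, algebraMap (MvPolynomial (Fin d) k) T (X i) = algebraMap S T (πb i) := fun i => by
    rw [IsScalarTower.algebraMap_apply (MvPolynomial (Fin d) k) S T, hXS]
  let fB : BAlg a d n →ₐ[MvPolynomial (Fin d) k] T :=
    bLiftPoly a d n k φb μ (fun i => by rw [hXT]; exact hrel i)
  -- the lift into `D`
  let φD : A →ₐ[k] D := φb.codRestrict D hφD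
  let gD : BAlg a d n →ₐ[k] D := bLift a d n k φD (fun i => ⟨algebraMap S T (πb i), hSD _⟩)
    (fun i l => ⟨μ i l, hμD i l⟩) (fun i => by
      apply Subtype.ext
      rw [SubmonoidClass.coe_pow, AddSubmonoidClass.coe_finset_sum]
      simp only [MulMemClass.coe_mul]
      exact hrel i)
  have hfBD : ∀ b, fB b = (gD b : T) := by
    have h1 : (fB : BAlg a d n →+* T) = (D.val.toRingHom).comp gD.toRingHom := by
      apply bAlg_ringHom_ext
      · intro y
        show fB (algebraMap A _ y) = (gD (algebraMap A _ y) : T)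
        rw [bLiftPoly_apply, bLift_algebraMap, bLift_algebraMap]
        rfl
      · intro i
        show fB (bx a d n i) = (gD (bx a d n i) : T)
        rw [bLiftPoly_apply, bLift_bx, bLift_bx, hXT]
      · intro i l
        show fB (bz a d n i l) = (gD (bz a d n i l) : T)
        rw [bLiftPoly_apply, bLift_bz, bLift_bz]
    intro b
    exact congrArg (fun F => F b) h1
  let f : S ⊗[MvPolynomial (Fin d) k] BAlg a d n →ₐ[S] T :=
    Algebra.TensorProduct.lift (Algebra.ofId S T) fB (fun _ _ => Commute.all _ _)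
  have hf : ∀ x, f x ∈ D := by
    intro x
    induction x using TensorProduct.induction_on with
    | zero => rw [map_zero]; exact D.zero_mem
    | add x y hx hy => rw [map_add]; exact D.add_mem hx hy
    | tmul s b =>
      rw [Algebra.TensorProduct.lift_tmul]
      refine D.mul_mem (hSD s) ?_
      rw [hfBD]
      exact SetLike.coe_mem _
  obtain ⟨B, _, _, hB, g, h, hgh⟩ := hL (S ⊗[MvPolynomial (Fin d) k] BAlg a d n) f hf
  have hgh' : ∀ x, h (g x) = f x := fun x => congrArg (fun F => F x) hgh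
  refine ⟨B, inferInstance, inferInstance, hB,
    g.toRingHom.comp ((Algebra.TensorProduct.includeRight :
      BAlg a d n →ₐ[MvPolynomial (Fin d) k] S ⊗[MvPolynomial (Fin d) k] BAlg a d n).toRingHom.comp
        (algebraMap A (BAlg a d n))),
    fun i l => g ((1 : S) ⊗ₜ[MvPolynomial (Fin d) k] bz a d n i l), h, ?_, ?_, ?_, ?_⟩
  · intro c
    show g ((1 : S) ⊗ₜ[MvPolynomial (Fin d) k] algebraMap A (BAlg a d n) (algebraMap k A c)) = _
    rw [← IsScalarTower.algebraMap_apply k A (BAlg a d n),
      IsScalarTower.algebraMap_apply k (MvPolynomial (Fin d) k) (BAlg a d n),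
      Algebra.algebraMap_eq_smul_one, ← TensorProduct.smul_tmul, ← Algebra.algebraMap_eq_smul_one,
      ← IsScalarTower.algebraMap_apply k (MvPolynomial (Fin d) k) S]
    have : (algebraMap k S c) ⊗ₜ[MvPolynomial (Fin d) k] (1 : BAlg a d n) =
        algebraMap S (S ⊗[MvPolynomial (Fin d) k] BAlg a d n) (algebraMap k S c) := rfl
    rw [this, AlgHom.commutes]
  · intro i
    show algebraMap S B (πb i) ^ n = ∑ l, g ((1 : S) ⊗ₜ[MvPolynomial (Fin d) k] bz a d n i l) *
      g ((1 : S) ⊗ₜ[MvPolynomial (Fin d) k] algebraMap A (BAlg a d n) (a l))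
    have h1 : (πb i) ⊗ₜ[MvPolynomial (Fin d) k] (1 : BAlg a d n) =
        (1 : S) ⊗ₜ[MvPolynomial (Fin d) k] bx a d n i := by
      rw [← hXS, Algebra.algebraMap_eq_smul_one, TensorProduct.smul_tmul,
        ← Algebra.algebraMap_eq_smul_one, bAlg_algebraMap_X]
    have h2 : algebraMap S B (πb i) = g ((1 : S) ⊗ₜ[MvPolynomial (Fin d) k] bx a d n i) := by
      rw [← h1]
      have : (πb i) ⊗ₜ[MvPolynomial (Fin d) k] (1 : BAlg a d n) =
          algebraMap S (S ⊗[MvPolynomial (Fin d) k] BAlg a d n) (πb i) := rfl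
      rw [this, AlgHom.commutes]
    rw [h2, ← map_pow, Algebra.TensorProduct.tmul_pow, one_pow, bx_pow, TensorProduct.tmul_sum,
      map_sum]
    refine Finset.sum_congr rfl (fun l _ => ?_)
    rw [← map_mul, Algebra.TensorProduct.tmul_mul_tmul, one_mul]
  · intro y
    show h (g ((1 : S) ⊗ₜ[MvPolynomial (Fin d) k] algebraMap A (BAlg a d n) y)) = φb y
    rw [hgh', Algebra.TensorProduct.lift_tmul, map_one, one_mul, bLiftPoly_apply, bLift_algebraMap]
  · intro i l
    show h (g ((1 : S) ⊗ₜ[MvPolynomial (Fin d) k] bz a d n i l)) = μ i l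
    rw [hgh', Algebra.TensorProduct.lift_tmul, map_one, one_mul, bLiftPoly_apply, bLift_bz]

end Groth.Agent.Lib.Helper22.Pop
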