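import Mathlib
import Groth.Prelude.Def_Smoothing
import Groth.Agent.S2034
import Groth.Agent.Lib.Helper22.PopZx
import Groth.Agent.Lib.Helper22.PopZzi

/-!
# Stage 5 helpers: local factorizations through smooth algebras
-/

set_option autoImplicit false
set_option linter.style.haveILetI false
set_option linter.unusedSectionVars false
universe u

namespace Groth.Agent.Lib.Helper22.Pop

open Smoothing IsLocalRing TensorProduct

theorem resolvable_of_factor_smooth {R A Λ B : Type u} [CommRing R] [CommRing A] [Algebra R A]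
    [CommRing Λ] [Algebra R Λ] (φ : A →ₐ[R] Λ) (𝔮 : Ideal Λ) (h𝔮 : 𝔮 ≠ ⊤) [CommRing B] [Algebra R B]
    [Algebra.Smooth R B] (g : A →ₐ[R] B) (hh : B →ₐ[R] Λ) (hgh : hh.comp g = φ) :
    Resolvable R φ 𝔮 := by
  have hsing : singularIdeal R B = ⊤ := by
    rw [singularIdeal, Algebra.smoothLocus_eq_univ, Set.compl_univ,
      PrimeSpectrum.vanishingIdeal_empty]
  have hrad : singRad R hh = ⊤ := by
    rw [singRad, hsing, Ideal.map_top, Ideal.radical_top]
  refine ⟨B, inferInstance, inferInstance, inferInstance, g, hh, hgh, ?_, ?_⟩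
  · rw [hrad]; exact le_top
  · rw [hrad]
    intro hle
    exact h𝔮 (top_le_iff.1 hle)

theorem resolvable_of_local_factor {R A Λ Rₚ Λq : Type u} [CommRing R] [IsNoetherianRing R]
    [CommRing A] [Algebra R A] [Algebra.FinitePresentation R A] [CommRing Λ] [Algebra R Λ]
    (φ : A →ₐ[R] Λ) (𝔮 : Ideal Λ) [𝔮.IsPrime] (hmin : 𝔮 ∈ (singRad R φ).minimalPrimes)
    [CommRing Rₚ] [Algebra R Rₚ] [IsLocalization.AtPrime Rₚ (𝔮.comap (algebraMap R Λ))]
    [CommRing Λq] [Algebra Λ Λq] [IsLocalization.AtPrime Λq 𝔮] [Algebra R Λq] [IsScalarTower R Λ Λq]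
    [Algebra Rₚ Λq] [IsScalarTower R Rₚ Λq] (hdim : ringKrullDim Λq = 0)
    (B' : Type u) [CommRing B'] [Algebra Rₚ B'] [Algebra.Smooth Rₚ B']
    (g : A →+* B') (hg : ∀ x : R, g (algebraMap R A x) = algebraMap Rₚ B' (algebraMap R Rₚ x))
    (h : B' →ₐ[Rₚ] Λq) (hcomp : ∀ y, h (g y) = algebraMap Λ Λq (φ y)) : Resolvable R φ 𝔮 := by
  refine Groth.Agent.S2034.result (Rₚ := Rₚ) (Λq := Λq) φ 𝔮 hmin hdim ?_
  letI algRB' : Algebra R B' := ((algebraMap Rₚ B').comp (algebraMap R Rₚ)).toAlgebra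
  haveI : IsScalarTower R Rₚ B' := IsScalarTower.of_algebraMap_eq fun _ => rfl
  let g' : A →ₐ[R] B' := { g with commutes' := hg }
  let G : Rₚ ⊗[R] A →ₐ[Rₚ] B' :=
    Algebra.TensorProduct.lift (Algebra.ofId Rₚ B') g' (fun _ _ => Commute.all _ _)
  have h𝔮 : 𝔮.map (algebraMap Λ Λq) ≠ ⊤ :=
    (IsLocalization.isPrime_of_isPrime_disjoint 𝔮.primeCompl Λq 𝔮 inferInstance
      (by rw [Set.disjoint_left]; intro x hx hx'; exact hx hx')).ne_top
  refine resolvable_of_factor_smooth _ _ h𝔮 G h ?_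
  apply AlgHom.ext
  intro x
  induction x using TensorProduct.induction_on with
  | zero => simp
  | add x y hx hy => rw [map_add, map_add, hx, hy]
  | tmul z y =>
    rw [AlgHom.comp_apply, Algebra.TensorProduct.lift_tmul, Algebra.TensorProduct.lift_tmul,
      map_mul, Algebra.ofId_apply, Algebra.ofId_apply, AlgHom.commutes]
    congr 1
    exact hcomp y

theorem resolvable_of_local_smooth_factor {R A Λ Λq : Type u} [CommRing R] [IsNoetherianRing R]
    [CommRing A] [Algebra R A] [Algebra.FinitePresentation R A] [CommRing Λ] [Algebra R Λ]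
    (φ : A →ₐ[R] Λ) (𝔮 : Ideal Λ) [𝔮.IsPrime]
    [CommRing Λq] [Algebra Λ Λq] [IsLocalization.AtPrime Λq 𝔮] [Algebra R Λq] [IsScalarTower R Λ Λq]
    (hdim : ringKrullDim Λq = 0)
    (hfac : ∃ (B' : Type u) (_ : CommRing B')
      (_ : Algebra (Localization.AtPrime (𝔮.comap (algebraMap R Λ))) B'),
      Algebra.Smooth (Localization.AtPrime (𝔮.comap (algebraMap R Λ))) B' ∧
      ∃ (g : A →+* B') (h : B' →+* Λq),
        (∀ x : R, g (algebraMap R A x) = algebraMap _ B'
          (algebraMap R (Localization.AtPrime (𝔮.comap (algebraMap R Λ))) x)) ∧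
        (∀ x : R, h (algebraMap _ B'
          (algebraMap R (Localization.AtPrime (𝔮.comap (algebraMap R Λ))) x)) = algebraMap R Λq x) ∧
        ∀ y, h (g y) = algebraMap Λ Λq (φ y)) :
    Resolvable R φ 𝔮 := by
  by_cases hle : singRad R φ ≤ 𝔮
  · have hmin0 : 𝔮 ∈ minimalPrimes Λ := by
      rw [← Ideal.height_eq_zero_iff]
      have h1 := IsLocalization.AtPrime.ringKrullDim_eq_height 𝔮 Λq
      rw [hdim] at h1
      exact_mod_cast h1.symm
    have hmin : 𝔮 ∈ (singRad R φ).minimalPrimes :=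
      ⟨⟨inferInstance, hle⟩, fun P hP hPq => hmin0.2 ⟨hP.1, bot_le⟩ hPq⟩
    obtain ⟨B', _, _, hsm, g, h, hg, hh, hcomp⟩ := hfac
    haveI := hsm
    have hunit : ∀ y : (𝔮.comap (algebraMap R Λ)).primeCompl, IsUnit (algebraMap R Λq y) := by
      intro y
      rw [IsScalarTower.algebraMap_apply R Λ Λq]
      exact IsLocalization.map_units Λq (⟨algebraMap R Λ y, y.2⟩ : 𝔮.primeCompl)
    letI algRpΛq : Algebra (Localization.AtPrime (𝔮.comap (algebraMap R Λ))) Λq :=
      (IsLocalization.lift (M := (𝔮.comap (algebraMap R Λ)).primeCompl) hunit).toAlgebra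
    haveI : IsScalarTower R (Localization.AtPrime (𝔮.comap (algebraMap R Λ))) Λq :=
      IsScalarTower.of_algebraMap_eq fun x => (IsLocalization.lift_eq hunit x).symm
    have hcommutes : h.comp (algebraMap (Localization.AtPrime (𝔮.comap (algebraMap R Λ))) B') =
        algebraMap (Localization.AtPrime (𝔮.comap (algebraMap R Λ))) Λq := by
      apply IsLocalization.ringHom_ext (𝔮.comap (algebraMap R Λ)).primeCompl
      ext x
      rw [RingHom.comp_apply, RingHom.comp_apply, hh, RingHom.comp_apply,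
        ← IsScalarTower.algebraMap_apply]
    let h' : B' →ₐ[Localization.AtPrime (𝔮.comap (algebraMap R Λ))] Λq :=
      { h with commutes' := fun z => congrArg (fun F => F z) hcommutes }
    exact resolvable_of_local_factor φ 𝔮 hmin hdim B' g hg h' hcomp
  · exact ⟨A, inferInstance, inferInstance, inferInstance, AlgHom.id _ _, φ, AlgHom.comp_id φ,
      le_rfl, hle⟩

/-- ring homs out of `R_r ⧸ m ^ N` -/
theorem exists_quotPow_hom {R T : Type*} [CommRing R] [CommRing T] (r : Ideal R) [r.IsPrime]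
    (N d e : ℕ) (hN : d * e + 1 ≤ N) (π' : Fin d → R)
    (hπloc : Ideal.span (Set.range fun i => algebraMap R (Localization.AtPrime r) (π' i)) =
      maximalIdeal (Localization.AtPrime r))
    (θ : R →+* T) (hθu : ∀ x, x ∉ r → IsUnit (θ x)) (hθπ : ∀ i, θ (π' i) ^ e = 0) :
    ∃ Θ : (Localization.AtPrime r ⧸ maximalIdeal (Localization.AtPrime r) ^ N) →+* T,
      ∀ x, Θ (Ideal.Quotient.mk _ (algebraMap R (Localization.AtPrime r) x)) = θ x := by
  have hunit : ∀ y : r.primeCompl, IsUnit (θ y) := fun y => hθu y y.2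
  let θ₁ : Localization.AtPrime r →+* T := IsLocalization.lift (M := r.primeCompl) hunit
  have hθ₁ : ∀ x, θ₁ (algebraMap R _ x) = θ x := fun x => IsLocalization.lift_eq hunit x
  have hker : ∀ z ∈ maximalIdeal (Localization.AtPrime r) ^ N, θ₁ z = 0 := by
    have h1 : maximalIdeal (Localization.AtPrime r) ^ N ≤ RingHom.ker θ₁ := by
      refine (Ideal.pow_le_pow_right hN).trans ?_
      rw [← hπloc]
      refine (span_range_pow_le _ e).trans ?_
      rw [Ideal.span_le]
      rintro _ ⟨i, rfl⟩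
      show θ₁ (algebraMap R _ (π' i) ^ e) = 0
      rw [map_pow, hθ₁, hθπ]
    intro z hz
    exact h1 hz
  refine ⟨Ideal.Quotient.lift _ θ₁ hker, fun x => ?_⟩
  rw [Ideal.Quotient.lift_mk, hθ₁]

theorem quotPow_hom_ext {R T : Type*} [CommRing R] [CommRing T] (r : Ideal R) [r.IsPrime] (N : ℕ)
    (Θ₁ Θ₂ : (Localization.AtPrime r ⧸ maximalIdeal (Localization.AtPrime r) ^ N) →+* T)
    (h : ∀ x, Θ₁ (Ideal.Quotient.mk _ (algebraMap R (Localization.AtPrime r) x)) =
      Θ₂ (Ideal.Quotient.mk _ (algebraMap R (Localization.AtPrime r) x))) : Θ₁ = Θ₂ := by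
  apply Ideal.Quotient.ringHom_ext
  apply IsLocalization.ringHom_ext r.primeCompl
  ext x
  exact h x

/-- the algebra structure on the quotient of the localization -/
noncomputable abbrev quotLocAlgebra {R : Type*} (Λ Λq : Type*) [CommRing R] [CommRing Λ]
    [Algebra R Λ] (K : Ideal R) [CommRing Λq] [Algebra Λ Λq] [Algebra R Λq] [IsScalarTower R Λ Λq] :
    Algebra (Λ ⧸ K.map (algebraMap R Λ)) (Λq ⧸ K.map (algebraMap R Λq)) :=
  (Ideal.quotientMap (K.map (algebraMap R Λq)) (algebraMap Λ Λq) (by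
    rw [← Ideal.map_le_iff_le_comap, Ideal.map_map, ← IsScalarTower.algebraMap_eq R Λ Λq])).toAlgebra

theorem quotLoc_instances {R Λ Λq : Type u} [CommRing R] [CommRing Λ] [Algebra R Λ]
    (K : Ideal R) (q : Ideal Λ) [q.IsPrime] (hKq : K.map (algebraMap R Λ) ≤ q)
    [hq' : (q.map (Ideal.Quotient.mk (K.map (algebraMap R Λ)))).IsPrime]
    [CommRing Λq] [Algebra Λ Λq] [IsLocalization.AtPrime Λq q] [Algebra R Λq]
    [IsScalarTower R Λ Λq] :
    letI := quotLocAlgebra Λ Λq K
    IsScalarTower (R ⧸ K) (Λ ⧸ K.map (algebraMap R Λ)) (Λq ⧸ K.map (algebraMap R Λq)) ∧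
      IsLocalization.AtPrime (Λq ⧸ K.map (algebraMap R Λq))
        (q.map (Ideal.Quotient.mk (K.map (algebraMap R Λ)))) := by
  have hmap : (K.map (algebraMap R Λ)).map (algebraMap Λ Λq) = K.map (algebraMap R Λq) := by
    rw [Ideal.map_map, ← IsScalarTower.algebraMap_eq]
  letI alg := quotLocAlgebra Λ Λq K
  refine ⟨?_, ?_⟩
  · apply IsScalarTower.of_algebraMap_eq
    intro x
    obtain ⟨x, rfl⟩ := Ideal.Quotient.mk_surjective x
    show Ideal.Quotient.mk _ (algebraMap R Λq x) =
      Ideal.quotientMap (K.map (algebraMap R Λq)) (algebraMap Λ Λq) _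
        (Ideal.Quotient.mk _ (algebraMap R Λ x))
    rw [Ideal.quotientMap_mk, ← IsScalarTower.algebraMap_apply]
  · have h1 := IsLocalization.of_surjective q.primeCompl Λq
      (Ideal.Quotient.mk (K.map (algebraMap R Λ))) Ideal.Quotient.mk_surjective
      (Ideal.Quotient.mk (K.map (algebraMap R Λq))) Ideal.Quotient.mk_surjective
      (by ext x; rfl) (by rw [Ideal.mk_ker, Ideal.mk_ker, hmap])
    have h2 : q.primeCompl.map (Ideal.Quotient.mk (K.map (algebraMap R Λ))) =
        (q.map (Ideal.Quotient.mk (K.map (algebraMap R Λ)))).primeCompl := by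
      ext x
      obtain ⟨x, rfl⟩ := Ideal.Quotient.mk_surjective x
      rw [Submonoid.mem_map, Ideal.mem_primeCompl_iff, Ideal.mem_quotient_iff_mem hKq]
      constructor
      · rintro ⟨y, hy, hyx⟩ hx
        apply hy
        have h3 : y ∈ q := by
          rw [← Ideal.mem_quotient_iff_mem hKq, hyx, Ideal.mem_quotient_iff_mem hKq]
          exact hx
        exact h3
      · intro hx
        exact ⟨x, hx, rfl⟩
    rw [h2] at h1
    exact h1

end Groth.Agent.Lib.Helper22.Pop
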