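import Mathlib
import Groth.Prelude.Def_Smoothing
import Groth.Agent.Lib.Helper22.PopB
import Groth.Agent.Lib.Helper22.PopZk

/-!
# Stage 5 helper: lifting the map out of `(R̃ ⊗ C₀) ⧸ K`
-/

set_option autoImplicit false
set_option linter.style.haveILetI false
set_option linter.unusedSectionVars false
universe u

namespace Groth.Agent.Lib.Helper22.Pop

open MvPolynomial TensorProduct

set_option maxHeartbeats 1600000 in
theorem exists_quot_lift
    {k A Λ Rt C₀ B' T : Type u} [Field k] [CommRing A] [Algebra k A]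
    [CommRing Λ] [Algebra k Λ] (φ : A →ₐ[k] Λ) {r : ℕ} (a : Fin r → A) (d n : ℕ)
    [CommRing Rt] [Algebra k Rt] [Algebra Rt Λ] [IsScalarTower k Rt Λ]
    [Algebra (MvPolynomial (Fin d) k) Rt] [IsScalarTower k (MvPolynomial (Fin d) k) Rt]
    [Algebra (MvPolynomial (Fin d) k) Λ] [IsScalarTower (MvPolynomial (Fin d) k) Rt Λ]
    [IsScalarTower k (MvPolynomial (Fin d) k) Λ]
    (lam : Fin d → Fin r → Λ)
    (hlam : ∀ i, algebraMap (MvPolynomial (Fin d) k) Λ (X i) ^ n = ∑ l, lam i l * φ (a l))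
    [CommRing C₀] [Algebra (MvPolynomial (Fin d) k) C₀]
    (ρ₀ : C₀ →ₐ[MvPolynomial (Fin d) k] BAlg a d n)
    (K : Ideal Rt)
    [CommRing B'] [Algebra Rt B'] (hKB' : ∀ x ∈ K, algebraMap Rt B' x = 0)
    (fA' : A →+* B')
    (hfA'k : ∀ c : k, fA' (algebraMap k A c) = algebraMap Rt B' (algebraMap k Rt c))
    (zB' : Fin d → Fin r → B')
    (hrelB' : ∀ i, algebraMap Rt B' (algebraMap (MvPolynomial (Fin d) k) Rt (X i)) ^ n =
      ∑ l, zB' i l * fA' (a l))
    [CommRing T] (τ : Λ →+* T) (h' : B' →+* T)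
    (h1 : ∀ x : Rt, h' (algebraMap Rt B' x) = τ (algebraMap Rt Λ x))
    (h2 : ∀ y, h' (fA' y) = τ (φ y))
    (h3 : ∀ i l, h' (zB' i l) = τ (lam i l)) :
    ∃ g : ((Rt ⊗[MvPolynomial (Fin d) k] C₀) ⧸
        K.map (algebraMap Rt (Rt ⊗[MvPolynomial (Fin d) k] C₀))) →+* B',
      (∀ x : Rt, g (Ideal.Quotient.mk _ (algebraMap Rt _ x)) = algebraMap Rt B' x) ∧
      ∀ c : Rt ⊗[MvPolynomial (Fin d) k] C₀, h' (g (Ideal.Quotient.mk _ c)) =
        τ ((Algebra.TensorProduct.lift (Algebra.ofId Rt Λ)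
          ((bLiftPoly a d n k φ lam hlam).comp ρ₀) (fun _ _ => Commute.all _ _) :
            Rt ⊗[MvPolynomial (Fin d) k] C₀ →ₐ[Rt] Λ) c) := by
  classical
  letI algP₀B' : Algebra (MvPolynomial (Fin d) k) B' :=
    ((algebraMap Rt B').comp (algebraMap (MvPolynomial (Fin d) k) Rt)).toAlgebra
  haveI : IsScalarTower (MvPolynomial (Fin d) k) Rt B' := IsScalarTower.of_algebraMap_eq fun _ => rfl
  letI algkB' : Algebra k B' := ((algebraMap Rt B').comp (algebraMap k Rt)).toAlgebra
  haveI : IsScalarTower k Rt B' := IsScalarTower.of_algebraMap_eq fun _ => rfl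
  haveI : IsScalarTower k (MvPolynomial (Fin d) k) B' := IsScalarTower.of_algebraMap_eq fun c => by
    show algebraMap Rt B' (algebraMap k Rt c) =
      algebraMap Rt B' (algebraMap (MvPolynomial (Fin d) k) Rt (algebraMap k _ c))
    rw [← IsScalarTower.algebraMap_apply k (MvPolynomial (Fin d) k) Rt]
  let fA'' : A →ₐ[k] B' := { fA' with commutes' := hfA'k }
  let gB : BAlg a d n →ₐ[MvPolynomial (Fin d) k] B' := bLiftPoly a d n k fA'' zB' hrelB'
  let g₀ : C₀ →ₐ[MvPolynomial (Fin d) k] B' := gB.comp ρ₀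
  let gt : Rt ⊗[MvPolynomial (Fin d) k] C₀ →ₐ[Rt] B' :=
    Algebra.TensorProduct.lift (Algebra.ofId Rt B') g₀ (fun _ _ => Commute.all _ _)
  have hgtK : ∀ z ∈ K.map (algebraMap Rt (Rt ⊗[MvPolynomial (Fin d) k] C₀)),
      gt.toRingHom z = 0 := by
    have hle : K.map (algebraMap Rt (Rt ⊗[MvPolynomial (Fin d) k] C₀)) ≤
        RingHom.ker gt.toRingHom := by
      rw [Ideal.map_le_iff_le_comap]
      intro x hx
      rw [Ideal.mem_comap, RingHom.mem_ker]
      show gt (algebraMap Rt _ x) = 0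
      rw [AlgHom.commutes]
      exact hKB' x hx
    exact fun z hz => hle hz
  refine ⟨Ideal.Quotient.lift _ gt.toRingHom hgtK, fun x => ?_, fun c => ?_⟩
  · rw [Ideal.Quotient.lift_mk]
    exact gt.commutes x
  · rw [Ideal.Quotient.lift_mk]
    show h' (gt c) = _
    have hB : ∀ b : BAlg a d n, h' (gB b) = τ (bLiftPoly a d n k φ lam hlam b) := by
      have h4 : h'.comp gB.toRingHom = τ.comp (bLiftPoly a d n k φ lam hlam).toRingHom := by
        apply bAlg_ringHom_ext
        · intro y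
          show h' (gB (algebraMap A _ y)) = τ (bLiftPoly a d n k φ lam hlam (algebraMap A _ y))
          rw [bLiftPoly_apply, bLift_algebraMap, bLiftPoly_apply, bLift_algebraMap]
          exact h2 y
        · intro i
          show h' (gB (bx a d n i)) = τ (bLiftPoly a d n k φ lam hlam (bx a d n i))
          rw [bLiftPoly_apply, bLift_bx, bLiftPoly_apply, bLift_bx]
          show h' (algebraMap Rt B' (algebraMap (MvPolynomial (Fin d) k) Rt (X i))) = _
          rw [h1, ← IsScalarTower.algebraMap_apply]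
        · intro i l
          show h' (gB (bz a d n i l)) = τ (bLiftPoly a d n k φ lam hlam (bz a d n i l))
          rw [bLiftPoly_apply, bLift_bz, bLiftPoly_apply, bLift_bz]
          exact h3 i l
      exact fun b => congrArg (fun F => F b) h4
    induction c using TensorProduct.induction_on with
    | zero => simp
    | add x y hx hy => rw [map_add, map_add, map_add, map_add, hx, hy]
    | tmul x c₀ =>
      rw [Algebra.TensorProduct.lift_tmul, Algebra.TensorProduct.lift_tmul, map_mul, map_mul,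
        Algebra.ofId_apply, Algebra.ofId_apply, h1]
      congr 1
      exact hB (ρ₀ c₀)

end Groth.Agent.Lib.Helper22.Pop
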