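import Mathlib
import Groth.Prelude.Def_Smoothing
import Groth.Agent.Lib.Helper22.PopB
import Groth.Agent.Lib.Helper22.PopZk
import Groth.Agent.Lib.Helper22.PopZl
import Groth.Agent.Lib.Helper22.PopZzj
import Groth.Agent.Lib.Helper22.PopZzl
import Groth.Agent.Lib.Helper22.PopZzm

/-!
# Stage 5: the reduced problem is resolvable
-/

set_option autoImplicit false
set_option linter.style.haveILetI false
set_option linter.unusedSectionVars false
universe u

namespace Groth.Agent.Lib.Helper22.Pop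

open Smoothing IsLocalRing MvPolynomial TensorProduct

set_option maxHeartbeats 6400000 in
theorem reduced_resolvable
    {k A Λ R Rt C₀ : Type u} [Field k] [CommRing A] [Algebra k A] [Algebra.FinitePresentation k A]
    [CommRing Λ] [Algebra k Λ] (φ : A →ₐ[k] Λ) (q : Ideal Λ) [q.IsPrime]
    {r : ℕ} (a : Fin r → A) (d n : ℕ)
    [CommRing R] [Algebra k R] (φR : R →+* Λ)
    [CommRing Rt] [IsNoetherianRing Rt] [Algebra k Rt] [Algebra R Rt] [IsScalarTower k R Rt]
    [Algebra Rt Λ] [IsScalarTower k Rt Λ]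
    (hC : ∀ x : R, algebraMap Rt Λ (algebraMap R Rt x) = φR x)
    [Algebra (MvPolynomial (Fin d) k) Rt] [IsScalarTower k (MvPolynomial (Fin d) k) Rt]
    [Algebra (MvPolynomial (Fin d) k) Λ] [IsScalarTower (MvPolynomial (Fin d) k) Rt Λ]
    [IsScalarTower k (MvPolynomial (Fin d) k) Λ]
    (π' : Fin d → R) (u : Fin d → Rt)
    (hX : ∀ i, algebraMap (MvPolynomial (Fin d) k) Rt (X i) = u i * algebraMap R Rt (π' i))
    (hu : ∀ i, algebraMap Rt Λ (u i) ∉ q)
    (lam : Fin d → Fin r → Λ)
    (hlam : ∀ i, algebraMap (MvPolynomial (Fin d) k) Λ (X i) ^ n = ∑ l, lam i l * φ (a l))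
    [CommRing C₀] [Algebra (MvPolynomial (Fin d) k) C₀]
    [Algebra.FinitePresentation (MvPolynomial (Fin d) k) C₀]
    (ρ₀ : C₀ →ₐ[MvPolynomial (Fin d) k] BAlg a d n)
    (e N : ℕ) (hN : d * e + 1 ≤ N) (K : Ideal Rt)
    (hK : ∀ i, (u i * algebraMap R Rt (π' i)) ^ e ∈ K)
    (hKq : K.map (algebraMap Rt Λ) ≤ q)
    (hπloc : Ideal.span (Set.range fun i =>
      algebraMap R (Localization.AtPrime (Ideal.comap φR q)) (π' i)) =
      maximalIdeal (Localization.AtPrime (Ideal.comap φR q)))
    (hKO : maximalIdeal (Localization.AtPrime q) ^ (d * e + 1) ≤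
      K.map (algebraMap Rt (Localization.AtPrime q)))
    [Algebra (QuotPow (Localization.AtPrime (Ideal.comap φR q)) N)
      (QuotPow (Localization.AtPrime q) N)]
    (hcompat : ∀ x : R, algebraMap (QuotPow (Localization.AtPrime (Ideal.comap φR q)) N)
        (QuotPow (Localization.AtPrime q) N)
        (Ideal.Quotient.mk _ (algebraMap R (Localization.AtPrime (Ideal.comap φR q)) x)) =
      Ideal.Quotient.mk _ (algebraMap Λ (Localization.AtPrime q) (φR x)))
    (Bb : Type u) [CommRing Bb] [Algebra (QuotPow (Localization.AtPrime (Ideal.comap φR q)) N) Bb]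
    [Algebra.Smooth (QuotPow (Localization.AtPrime (Ideal.comap φR q)) N) Bb]
    (fA : A →+* Bb) (zb : Fin d → Fin r → Bb)
    (h : Bb →ₐ[QuotPow (Localization.AtPrime (Ideal.comap φR q)) N]
      QuotPow (Localization.AtPrime q) N)
    (hfAk : ∀ c : k, fA (algebraMap k A c) =
      algebraMap (QuotPow (Localization.AtPrime (Ideal.comap φR q)) N) Bb
        (algebraMap k (QuotPow (Localization.AtPrime (Ideal.comap φR q)) N) c))
    (hrel : ∀ i, algebraMap (QuotPow (Localization.AtPrime (Ideal.comap φR q)) N) Bb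
        (Ideal.Quotient.mk _ (algebraMap R (Localization.AtPrime (Ideal.comap φR q)) (π' i))) ^ n =
      ∑ l, zb i l * fA (a l))
    (hhA : ∀ y, h (fA y) = Ideal.Quotient.mk _ (algebraMap Λ (Localization.AtPrime q) (φ y)))
    (μt : Fin d → Fin r → Localization.AtPrime q)
    (hhz : ∀ i l, h (zb i l) = Ideal.Quotient.mk _ (μt i l))
    (hlamμ : ∀ i l, algebraMap Λ (Localization.AtPrime q) (lam i l) -
      algebraMap Λ (Localization.AtPrime q) (algebraMap Rt Λ (u i)) ^ n * μt i l ∈
        maximalIdeal (Localization.AtPrime q) ^ (d * e + 1)) :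
    Resolvable (Rt ⧸ K)
      (quotMapBar K (Algebra.TensorProduct.lift (Algebra.ofId Rt Λ)
        ((bLiftPoly a d n k φ lam hlam).comp ρ₀) (fun _ _ => Commute.all _ _) :
          Rt ⊗[MvPolynomial (Fin d) k] C₀ →ₐ[Rt] Λ))
      (q.map (Ideal.Quotient.mk (K.map (algebraMap Rt Λ)))) := by
  classical
  haveI : Algebra.FinitePresentation (Rt ⧸ K) ((Rt ⊗[MvPolynomial (Fin d) k] C₀) ⧸
      K.map (algebraMap Rt (Rt ⊗[MvPolynomial (Fin d) k] C₀))) := finitePresentation_quot K
  haveI hq' : (q.map (Ideal.Quotient.mk (K.map (algebraMap Rt Λ)))).IsPrime :=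
    Ideal.map_isPrime_of_surjective Ideal.Quotient.mk_surjective (by rw [Ideal.mk_ker]; exact hKq)
  letI algΛbOb := quotLocAlgebra Λ (Localization.AtPrime q) K
  obtain ⟨tower, loc⟩ := quotLoc_instances (Λq := Localization.AtPrime q) K q hKq
  haveI := tower
  haveI := loc
  have halgΛb : ∀ x : Λ, algebraMap (Λ ⧸ K.map (algebraMap Rt Λ))
      (Localization.AtPrime q ⧸ K.map (algebraMap Rt (Localization.AtPrime q)))
      (Ideal.Quotient.mk _ x) = Ideal.Quotient.mk _ (algebraMap Λ (Localization.AtPrime q) x) :=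
    fun x => rfl
  -- dimension zero
  have hKOm : K.map (algebraMap Rt (Localization.AtPrime q)) ≤
      maximalIdeal (Localization.AtPrime q) := by
    rw [IsScalarTower.algebraMap_eq Rt Λ (Localization.AtPrime q), ← Ideal.map_map,
      ← Localization.AtPrime.map_eq_maximalIdeal]
    exact Ideal.map_mono hKq
  haveI hmbar : ((maximalIdeal (Localization.AtPrime q)).map
      (Ideal.Quotient.mk (K.map (algebraMap Rt (Localization.AtPrime q))))).IsMaximal :=
    Ideal.IsMaximal.map_of_surjective_of_ker_le Ideal.Quotient.mk_surjective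
      (by rw [Ideal.mk_ker]; exact hKOm)
  have hnil' : IsNilpotent ((maximalIdeal (Localization.AtPrime q)).map
      (Ideal.Quotient.mk (K.map (algebraMap Rt (Localization.AtPrime q))))) := by
    refine ⟨d * e + 1, ?_⟩
    rw [← Ideal.map_pow, Ideal.zero_eq_bot, Ideal.map_eq_bot_iff_le_ker, Ideal.mk_ker]
    exact hKO
  have hdim : ringKrullDim (Localization.AtPrime q ⧸
      K.map (algebraMap Rt (Localization.AtPrime q))) = 0 :=
    ringKrullDim_eq_zero_of_isNilpotent _ hnil'
  refine resolvable_of_local_smooth_factor (Λq := Localization.AtPrime q ⧸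
    K.map (algebraMap Rt (Localization.AtPrime q))) _ _ hdim ?_
  -- the map `R → Rₚ`
  have hnotmem : ∀ x : Rt, algebraMap Rt Λ x ∉ q → IsUnit (algebraMap (Rt ⧸ K)
      (Localization.AtPrime ((q.map (Ideal.Quotient.mk (K.map (algebraMap Rt Λ)))).comap
        (algebraMap (Rt ⧸ K) (Λ ⧸ K.map (algebraMap Rt Λ))))) (Ideal.Quotient.mk K x)) := by
    intro x hx
    refine IsLocalization.map_units _ (⟨Ideal.Quotient.mk K x, ?_⟩ :
      ((q.map (Ideal.Quotient.mk (K.map (algebraMap Rt Λ)))).comap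
        (algebraMap (Rt ⧸ K) (Λ ⧸ K.map (algebraMap Rt Λ)))).primeCompl)
    show ¬ (algebraMap (Rt ⧸ K) (Λ ⧸ K.map (algebraMap Rt Λ)) (Ideal.Quotient.mk K x) ∈
      q.map (Ideal.Quotient.mk (K.map (algebraMap Rt Λ))))
    rw [show algebraMap (Rt ⧸ K) (Λ ⧸ K.map (algebraMap Rt Λ)) (Ideal.Quotient.mk K x) =
      Ideal.Quotient.mk _ (algebraMap Rt Λ x) from rfl, Ideal.mem_quotient_iff_mem hKq]
    exact hx
  let θ : R →+* Localization.AtPrime ((q.map (Ideal.Quotient.mk (K.map (algebraMap Rt Λ)))).comap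
      (algebraMap (Rt ⧸ K) (Λ ⧸ K.map (algebraMap Rt Λ)))) :=
    (algebraMap (Rt ⧸ K) _).comp ((Ideal.Quotient.mk K).comp (algebraMap R Rt))
  have hθu : ∀ x, x ∉ Ideal.comap φR q → IsUnit (θ x) := fun x hx =>
    hnotmem _ (by rw [hC]; exact hx)
  have hθπ : ∀ i, θ (π' i) ^ e = 0 := by
    intro i
    have h1 : algebraMap (Rt ⧸ K) (Localization.AtPrime
        ((q.map (Ideal.Quotient.mk (K.map (algebraMap Rt Λ)))).comap
        (algebraMap (Rt ⧸ K) (Λ ⧸ K.map (algebraMap Rt Λ)))))
        (Ideal.Quotient.mk K ((u i * algebraMap R Rt (π' i)) ^ e)) = 0 := by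
      rw [Ideal.Quotient.eq_zero_iff_mem.mpr (hK i), map_zero]
    rw [mul_pow, map_mul, map_mul, map_pow, map_pow, map_pow, map_pow] at h1
    exact (((hnotmem (u i) (hu i)).pow e).mul_right_eq_zero).mp h1
  obtain ⟨Θ, hΘ⟩ := exists_quotPow_hom (Ideal.comap φR q) N d e hN π' hπloc θ hθu hθπ
  letI algSRp : Algebra (QuotPow (Localization.AtPrime (Ideal.comap φR q)) N)
      (Localization.AtPrime ((q.map (Ideal.Quotient.mk (K.map (algebraMap Rt Λ)))).comap
        (algebraMap (Rt ⧸ K) (Λ ⧸ K.map (algebraMap Rt Λ))))) := Θ.toAlgebra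
  have halgS : ∀ s, algebraMap (QuotPow (Localization.AtPrime (Ideal.comap φR q)) N)
      (Localization.AtPrime ((q.map (Ideal.Quotient.mk (K.map (algebraMap Rt Λ)))).comap
        (algebraMap (Rt ⧸ K) (Λ ⧸ K.map (algebraMap Rt Λ))))) s = Θ s := fun s => rfl
  -- the map `Rₚ → O ⧸ K O`
  have hunit : ∀ y : ((q.map (Ideal.Quotient.mk (K.map (algebraMap Rt Λ)))).comap
      (algebraMap (Rt ⧸ K) (Λ ⧸ K.map (algebraMap Rt Λ)))).primeCompl,
      IsUnit (algebraMap (Rt ⧸ K) (Localization.AtPrime q ⧸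
        K.map (algebraMap Rt (Localization.AtPrime q))) y) := by
    intro y
    rw [IsScalarTower.algebraMap_apply (Rt ⧸ K) (Λ ⧸ K.map (algebraMap Rt Λ))
      (Localization.AtPrime q ⧸ K.map (algebraMap Rt (Localization.AtPrime q)))]
    exact IsLocalization.map_units _ (⟨algebraMap (Rt ⧸ K) (Λ ⧸ K.map (algebraMap Rt Λ)) y, y.2⟩ :
      (q.map (Ideal.Quotient.mk (K.map (algebraMap Rt Λ)))).primeCompl)
  let αp : Localization.AtPrime ((q.map (Ideal.Quotient.mk (K.map (algebraMap Rt Λ)))).comap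
      (algebraMap (Rt ⧸ K) (Λ ⧸ K.map (algebraMap Rt Λ)))) →+*
      (Localization.AtPrime q ⧸ K.map (algebraMap Rt (Localization.AtPrime q))) :=
    IsLocalization.lift (M := ((q.map (Ideal.Quotient.mk (K.map (algebraMap Rt Λ)))).comap
      (algebraMap (Rt ⧸ K) (Λ ⧸ K.map (algebraMap Rt Λ)))).primeCompl) hunit
  have hαp : ∀ x, αp (algebraMap (Rt ⧸ K) _ x) = algebraMap (Rt ⧸ K) (Localization.AtPrime q ⧸
      K.map (algebraMap Rt (Localization.AtPrime q))) x := fun x => IsLocalization.lift_eq hunit x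
  letI algRpOb : Algebra (Localization.AtPrime ((q.map (Ideal.Quotient.mk
      (K.map (algebraMap Rt Λ)))).comap (algebraMap (Rt ⧸ K) (Λ ⧸ K.map (algebraMap Rt Λ)))))
      (Localization.AtPrime q ⧸ K.map (algebraMap Rt (Localization.AtPrime q))) := αp.toAlgebra
  letI algSOb : Algebra (QuotPow (Localization.AtPrime (Ideal.comap φR q)) N)
      (Localization.AtPrime q ⧸ K.map (algebraMap Rt (Localization.AtPrime q))) :=
    (αp.comp Θ).toAlgebra
  haveI : IsScalarTower (QuotPow (Localization.AtPrime (Ideal.comap φR q)) N)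
      (Localization.AtPrime ((q.map (Ideal.Quotient.mk (K.map (algebraMap Rt Λ)))).comap
        (algebraMap (Rt ⧸ K) (Λ ⧸ K.map (algebraMap Rt Λ)))))
      (Localization.AtPrime q ⧸ K.map (algebraMap Rt (Localization.AtPrime q))) :=
    IsScalarTower.of_algebraMap_eq fun _ => rfl
  -- the factor map
  have hNle : maximalIdeal (Localization.AtPrime q) ^ N ≤
      K.map (algebraMap Rt (Localization.AtPrime q)) :=
    (Ideal.pow_le_pow_right hN).trans hKO
  let fac : QuotPow (Localization.AtPrime q) N →+*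
      (Localization.AtPrime q ⧸ K.map (algebraMap Rt (Localization.AtPrime q))) :=
    Ideal.Quotient.factor hNle
  have hfac : ∀ x, fac (Ideal.Quotient.mk _ x) = Ideal.Quotient.mk _ x := fun x =>
    Ideal.Quotient.factor_mk hNle x
  have hmkRt : ∀ x : Rt, algebraMap (Rt ⧸ K) (Localization.AtPrime q ⧸
      K.map (algebraMap Rt (Localization.AtPrime q))) (Ideal.Quotient.mk K x) =
      Ideal.Quotient.mk _ (algebraMap Λ (Localization.AtPrime q) (algebraMap Rt Λ x)) := by
    intro x
    rw [← IsScalarTower.algebraMap_apply Rt Λ (Localization.AtPrime q)]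
    rfl
  have hSeq : fac.comp (algebraMap (QuotPow (Localization.AtPrime (Ideal.comap φR q)) N)
      (QuotPow (Localization.AtPrime q) N)) = αp.comp Θ := by
    apply quotPow_hom_ext
    intro x
    rw [RingHom.comp_apply, RingHom.comp_apply, hcompat, hfac, hΘ]
    show _ = αp (algebraMap (Rt ⧸ K) _ (Ideal.Quotient.mk K (algebraMap R Rt x)))
    rw [hαp, hmkRt, hC]
  let h₁ : Bb →ₐ[QuotPow (Localization.AtPrime (Ideal.comap φR q)) N]
      (Localization.AtPrime q ⧸ K.map (algebraMap Rt (Localization.AtPrime q))) :=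
    { toRingHom := fac.comp h.toRingHom
      commutes' := fun s => by
        show fac (h (algebraMap _ Bb s)) = αp (Θ s)
        rw [h.commutes]
        exact congrArg (fun F => F s) hSeq }
  have hh₁ : ∀ b, h₁ b = fac (h b) := fun b => rfl
  let h' : (Localization.AtPrime ((q.map (Ideal.Quotient.mk (K.map (algebraMap Rt Λ)))).comap
      (algebraMap (Rt ⧸ K) (Λ ⧸ K.map (algebraMap Rt Λ))))) ⊗[QuotPow
        (Localization.AtPrime (Ideal.comap φR q)) N] Bb →ₐ[Localization.AtPrime
          ((q.map (Ideal.Quotient.mk (K.map (algebraMap Rt Λ)))).comap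
      (algebraMap (Rt ⧸ K) (Λ ⧸ K.map (algebraMap Rt Λ))))]
      (Localization.AtPrime q ⧸ K.map (algebraMap Rt (Localization.AtPrime q))) :=
    Algebra.TensorProduct.lift (Algebra.ofId _ _) h₁ (fun _ _ => Commute.all _ _)
  letI algRtB' : Algebra Rt ((Localization.AtPrime ((q.map (Ideal.Quotient.mk
      (K.map (algebraMap Rt Λ)))).comap (algebraMap (Rt ⧸ K) (Λ ⧸ K.map (algebraMap Rt Λ))))) ⊗[QuotPow
        (Localization.AtPrime (Ideal.comap φR q)) N] Bb) :=
    ((algebraMap (Localization.AtPrime ((q.map (Ideal.Quotient.mk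
      (K.map (algebraMap Rt Λ)))).comap (algebraMap (Rt ⧸ K) (Λ ⧸ K.map (algebraMap Rt Λ))))) _).comp
      ((algebraMap (Rt ⧸ K) _).comp (Ideal.Quotient.mk K))).toAlgebra
  have halgRtB' : ∀ x : Rt, algebraMap Rt ((Localization.AtPrime ((q.map (Ideal.Quotient.mk
      (K.map (algebraMap Rt Λ)))).comap (algebraMap (Rt ⧸ K) (Λ ⧸ K.map (algebraMap Rt Λ))))) ⊗[QuotPow
        (Localization.AtPrime (Ideal.comap φR q)) N] Bb) x =
      (algebraMap (Rt ⧸ K) (Localization.AtPrime ((q.map (Ideal.Quotient.mk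
      (K.map (algebraMap Rt Λ)))).comap (algebraMap (Rt ⧸ K) (Λ ⧸ K.map (algebraMap Rt Λ)))))
        (Ideal.Quotient.mk K x)) ⊗ₜ 1 := fun x => rfl
  have hΘtmul : ∀ (s : QuotPow (Localization.AtPrime (Ideal.comap φR q)) N) (b : Bb),
      (Θ s) ⊗ₜ[QuotPow (Localization.AtPrime (Ideal.comap φR q)) N] b =
      (1 : Localization.AtPrime ((q.map (Ideal.Quotient.mk
      (K.map (algebraMap Rt Λ)))).comap (algebraMap (Rt ⧸ K) (Λ ⧸ K.map (algebraMap Rt Λ))))) ⊗ₜ
        (algebraMap _ Bb s * b) := by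
    intro s b
    rw [← halgS, Algebra.algebraMap_eq_smul_one, TensorProduct.smul_tmul, Algebra.smul_def]
  -- apply the lifting lemma
  obtain ⟨g, hg1, hg2⟩ := exists_quot_lift φ a d n lam hlam ρ₀ K
    (B' := (Localization.AtPrime ((q.map (Ideal.Quotient.mk
      (K.map (algebraMap Rt Λ)))).comap (algebraMap (Rt ⧸ K) (Λ ⧸ K.map (algebraMap Rt Λ))))) ⊗[QuotPow
        (Localization.AtPrime (Ideal.comap φR q)) N] Bb)
    (by
      intro x hx
      rw [halgRtB', Ideal.Quotient.eq_zero_iff_mem.mpr hx, map_zero, TensorProduct.zero_tmul])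
    ((Algebra.TensorProduct.includeRight : Bb →ₐ[QuotPow (Localization.AtPrime (Ideal.comap φR q)) N]
      _).toRingHom.comp fA)
    (by
      intro c
      show (1 : Localization.AtPrime ((q.map (Ideal.Quotient.mk
        (K.map (algebraMap Rt Λ)))).comap (algebraMap (Rt ⧸ K) (Λ ⧸ K.map (algebraMap Rt Λ))))) ⊗ₜ
        fA (algebraMap k A c) = _
      rw [hfAk, halgRtB']
      have h1 := hΘtmul (algebraMap k _ c) 1
      rw [mul_one] at h1
      rw [← h1]
      congr 1
      have h2 : algebraMap k (QuotPow (Localization.AtPrime (Ideal.comap φR q)) N) c =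
          Ideal.Quotient.mk _ (algebraMap R (Localization.AtPrime (Ideal.comap φR q))
            (algebraMap k R c)) := by
        rw [← IsScalarTower.algebraMap_apply k R (Localization.AtPrime (Ideal.comap φR q))]
        rfl
      rw [h2, hΘ]
      show algebraMap (Rt ⧸ K) _ (Ideal.Quotient.mk K (algebraMap R Rt (algebraMap k R c))) = _
      rw [← IsScalarTower.algebraMap_apply k R Rt])
    (fun i l => algebraMap Rt _ (u i) ^ n * ((1 : Localization.AtPrime ((q.map (Ideal.Quotient.mk
        (K.map (algebraMap Rt Λ)))).comap (algebraMap (Rt ⧸ K) (Λ ⧸ K.map (algebraMap Rt Λ))))) ⊗ₜ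
          zb i l))
    (by
      intro i
      rw [hX, map_mul, mul_pow]
      have h1 : algebraMap Rt ((Localization.AtPrime ((q.map (Ideal.Quotient.mk
          (K.map (algebraMap Rt Λ)))).comap (algebraMap (Rt ⧸ K)
            (Λ ⧸ K.map (algebraMap Rt Λ))))) ⊗[QuotPow
          (Localization.AtPrime (Ideal.comap φR q)) N] Bb) (algebraMap R Rt (π' i)) =
          (1 : Localization.AtPrime ((q.map (Ideal.Quotient.mk
          (K.map (algebraMap Rt Λ)))).comap (algebraMap (Rt ⧸ K) (Λ ⧸ K.map (algebraMap Rt Λ))))) ⊗ₜ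
            (algebraMap (QuotPow (Localization.AtPrime (Ideal.comap φR q)) N) Bb
              (Ideal.Quotient.mk (maximalIdeal (Localization.AtPrime (Ideal.comap φR q)) ^ N)
              (algebraMap R (Localization.AtPrime (Ideal.comap φR q)) (π' i)))) := by
        rw [halgRtB']
        have h2 := hΘtmul (Ideal.Quotient.mk
          (maximalIdeal (Localization.AtPrime (Ideal.comap φR q)) ^ N)
          (algebraMap R (Localization.AtPrime (Ideal.comap φR q)) (π' i))) 1
        rw [mul_one, hΘ] at h2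
        exact h2
      rw [h1, Algebra.TensorProduct.tmul_pow, one_pow, hrel, TensorProduct.tmul_sum,
        Finset.mul_sum]
      refine Finset.sum_congr rfl (fun l _ => ?_)
      show _ = _ * ((1 : Localization.AtPrime ((q.map (Ideal.Quotient.mk
        (K.map (algebraMap Rt Λ)))).comap (algebraMap (Rt ⧸ K) (Λ ⧸ K.map (algebraMap Rt Λ))))) ⊗ₜ
          fA (a l))
      rw [mul_assoc, Algebra.TensorProduct.tmul_mul_tmul, one_mul])
    ((Ideal.Quotient.mk (K.map (algebraMap Rt (Localization.AtPrime q)))).comp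
      (algebraMap Λ (Localization.AtPrime q))) h'.toRingHom
    (by
      intro x
      show h' (algebraMap Rt _ x) = _
      rw [halgRtB', Algebra.TensorProduct.lift_tmul, map_one, mul_one, Algebra.ofId_apply]
      show αp _ = _
      rw [hαp, hmkRt]
      rfl)
    (by
      intro y
      show h' ((1 : Localization.AtPrime ((q.map (Ideal.Quotient.mk
        (K.map (algebraMap Rt Λ)))).comap (algebraMap (Rt ⧸ K) (Λ ⧸ K.map (algebraMap Rt Λ))))) ⊗ₜ
          fA y) = _
      rw [Algebra.TensorProduct.lift_tmul, map_one, one_mul, hh₁, hhA, hfac]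
      rfl)
    (by
      intro i l
      show h' (algebraMap Rt _ (u i) ^ n * ((1 : Localization.AtPrime ((q.map (Ideal.Quotient.mk
        (K.map (algebraMap Rt Λ)))).comap (algebraMap (Rt ⧸ K) (Λ ⧸ K.map (algebraMap Rt Λ))))) ⊗ₜ
          zb i l)) = _
      rw [map_mul, map_pow, halgRtB', Algebra.TensorProduct.lift_tmul, map_one, mul_one,
        Algebra.ofId_apply, Algebra.TensorProduct.lift_tmul, map_one, one_mul, hh₁, hhz, hfac]
      show αp _ ^ n * _ = _
      rw [hαp, hmkRt, ← map_pow, ← map_mul, RingHom.comp_apply, eq_comm,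
        Ideal.Quotient.eq]
      exact hKO (hlamμ i l))
  refine ⟨_, inferInstance, inferInstance, inferInstance, g, h'.toRingHom, ?_, ?_, ?_⟩
  · intro x
    obtain ⟨x, rfl⟩ := Ideal.Quotient.mk_surjective x
    have : algebraMap (Rt ⧸ K) ((Rt ⊗[MvPolynomial (Fin d) k] C₀) ⧸
        K.map (algebraMap Rt (Rt ⊗[MvPolynomial (Fin d) k] C₀))) (Ideal.Quotient.mk K x) =
        Ideal.Quotient.mk _ (algebraMap Rt _ x) := rfl
    rw [this, hg1]
    rfl
  · intro x
    obtain ⟨x, rfl⟩ := Ideal.Quotient.mk_surjective x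
    show h' (algebraMap _ _ (algebraMap (Rt ⧸ K) _ (Ideal.Quotient.mk K x))) = _
    rw [AlgHom.commutes]
    exact hαp _
  · intro y
    obtain ⟨c, rfl⟩ := Ideal.Quotient.mk_surjective y
    rw [hg2, quotMapBar_mk, halgΛb]
    rfl

end Groth.Agent.Lib.Helper22.Pop
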