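import Mathlib
import Groth.Prelude.Def_Smoothing
import Groth.Agent.S6822
import Groth.Agent.S6829
import Groth.Agent.Lib.Helper22.PopB
import Groth.Agent.Lib.Helper22.PopZa
import Groth.Agent.Lib.Helper22.PopZk
import Groth.Agent.Lib.Helper22.PopZm
import Groth.Agent.Lib.Helper22.PopZn
import Groth.Agent.Lib.Helper22.PopZx
import Groth.Agent.Lib.Helper22.PopZzb
import Groth.Agent.Lib.Helper22.PopZzn

/-!
# Stage 5: the tail of the characteristic `p` argument
-/

set_option autoImplicit false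
set_option linter.style.haveILetI false
set_option linter.unusedSectionVars false
universe u

namespace Groth.Agent.Lib.Helper22.Pop

open Smoothing IsLocalRing MvPolynomial TensorProduct

theorem span_range_unit_mul {O : Type*} [CommRing O] {ι : Type*} (v f : ι → O)
    (hv : ∀ i, IsUnit (v i)) :
    Ideal.span (Set.range fun i => v i * f i) = Ideal.span (Set.range f) := by
  apply le_antisymm
  · rw [Ideal.span_le]
    rintro _ ⟨i, rfl⟩
    exact Ideal.mul_mem_left _ _ (Ideal.subset_span ⟨i, rfl⟩)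
  · rw [Ideal.span_le]
    rintro _ ⟨i, rfl⟩
    exact (Ideal.unit_mul_mem_iff_mem _ (hv i)).mp (Ideal.subset_span ⟨i, rfl⟩)

theorem smooth_away_baseChange {R S A : Type u} [CommRing R] [CommRing S] [Algebra R S]
    [CommRing A] [Algebra R A] (g : A) [Algebra.Smooth R (Localization.Away g)] :
    Algebra.Smooth S (Localization.Away ((1 : S) ⊗ₜ[R] g)) :=
  Algebra.Smooth.of_equiv
    (IsLocalization.Away.tensorProductEquivTMulRight R S g (Localization.Away g))

set_option maxHeartbeats 6400000 in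
theorem charp_tail {k A Λ : Type u} [Field k] [CommRing A] [Algebra k A]
    [Algebra.FinitePresentation k A] [CommRing Λ] [Algebra k Λ] [IsNoetherianRing Λ]
    (φ : A →ₐ[k] Λ) (𝔮 : Ideal Λ) [𝔮.IsPrime]
    {r : ℕ} (a : Fin r → A) (hspan : Ideal.span (Set.range a) = singularIdeal k A)
    (d : ℕ) (hd0 : 0 < d) (n : ℕ)
    (C : Type u) [CommRing C] [Algebra (MvPolynomial (Fin d) k) C] [Algebra (BAlg a d n) C]
    [IsScalarTower (MvPolynomial (Fin d) k) (BAlg a d n) C]
    [Algebra.FinitePresentation (MvPolynomial (Fin d) k) C]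
    (ρ : C →ₐ[BAlg a d n] BAlg a d n)
    (hCa : ∀ j, Algebra.Smooth (MvPolynomial (Fin d) k)
      (Localization.Away (algebraMap (BAlg a d n) C (algebraMap A (BAlg a d n) (a j)))))
    (c : ℕ) (hc : 0 < c)
    (hstd : ∀ i, IsStrictlyStandard (MvPolynomial (Fin d) k) C
      (algebraMap (MvPolynomial (Fin d) k) C (X i ^ c)))
    (R : Type u) [CommRing R] [Algebra k R] [Algebra.FormallySmooth k R]
    [Algebra.FinitePresentation k R] (φR : R →ₐ[k] Λ)
    (π' : Fin d → R)
    (hπ'O : Ideal.span (Set.range fun i => algebraMap Λ (Localization.AtPrime 𝔮) (φR (π' i))) =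
      maximalIdeal (Localization.AtPrime 𝔮))
    (hπ'loc : Ideal.span (Set.range fun i =>
      algebraMap R (Localization.AtPrime (Ideal.comap φR.toRingHom 𝔮)) (π' i)) =
      maximalIdeal (Localization.AtPrime (Ideal.comap φR.toRingHom 𝔮)))
    (hsub : ∀ (i : Fin d) (S : Finset (Fin d)), (∀ j ∈ S, j < i) → ∀ x : R,
      π' i ^ 2 * x ∈ JS (c * 8) π' S → π' i * x ∈ JS (c * 8) π' S)
    (s : Fin d → Λ) (hs : ∀ i, s i ∉ 𝔮) (lam : Fin d → Fin r → Λ)
    (hpow_s : ∀ i, (s i * φR (π' i)) ^ n = ∑ l, lam i l * φ (a l))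
    (hannΛ : ∀ (i : Fin d) (x : Λ),
      (s i * φR (π' i)) ^ 2 * x ∈ PopParam.J (c * 8) (fun j => s j * φR (π' j)) i →
      s i * φR (π' i) * x ∈ PopParam.J (c * 8) (fun j => s j * φR (π' j)) i)
    (N : ℕ) (hN : d * (c * 8) + 1 ≤ N)
    [Algebra (QuotPow (Localization.AtPrime (Ideal.comap φR.toRingHom 𝔮)) N)
      (QuotPow (Localization.AtPrime 𝔮) N)]
    (hcompat : ∀ x : R, algebraMap (QuotPow (Localization.AtPrime (Ideal.comap φR.toRingHom 𝔮)) N)
        (QuotPow (Localization.AtPrime 𝔮) N)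
        (Ideal.Quotient.mk _ (algebraMap R (Localization.AtPrime (Ideal.comap φR.toRingHom 𝔮)) x)) =
      Ideal.Quotient.mk _ (algebraMap Λ (Localization.AtPrime 𝔮) (φR x)))
    (Bb : Type u) [CommRing Bb]
    [Algebra (QuotPow (Localization.AtPrime (Ideal.comap φR.toRingHom 𝔮)) N) Bb]
    [Algebra.Smooth (QuotPow (Localization.AtPrime (Ideal.comap φR.toRingHom 𝔮)) N) Bb]
    (fA : A →+* Bb) (zb : Fin d → Fin r → Bb)
    (h : Bb →ₐ[QuotPow (Localization.AtPrime (Ideal.comap φR.toRingHom 𝔮)) N]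
      QuotPow (Localization.AtPrime 𝔮) N)
    (hfAk : ∀ c : k, fA (algebraMap k A c) =
      algebraMap (QuotPow (Localization.AtPrime (Ideal.comap φR.toRingHom 𝔮)) N) Bb
        (algebraMap k (QuotPow (Localization.AtPrime (Ideal.comap φR.toRingHom 𝔮)) N) c))
    (hrel : ∀ i, algebraMap (QuotPow (Localization.AtPrime (Ideal.comap φR.toRingHom 𝔮)) N) Bb
        (Ideal.Quotient.mk _
          (algebraMap R (Localization.AtPrime (Ideal.comap φR.toRingHom 𝔮)) (π' i))) ^ n =
      ∑ l, zb i l * fA (a l))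
    (hhA : ∀ y, h (fA y) = Ideal.Quotient.mk _ (algebraMap Λ (Localization.AtPrime 𝔮) (φ y)))
    (μt : Fin d → Fin r → Localization.AtPrime 𝔮)
    (hhz : ∀ i l, h (zb i l) = Ideal.Quotient.mk _ (μt i l))
    (hlamμ : ∀ i l, algebraMap Λ (Localization.AtPrime 𝔮) (lam i l) -
      algebraMap Λ (Localization.AtPrime 𝔮) (s i) ^ n * μt i l ∈
        maximalIdeal (Localization.AtPrime 𝔮) ^ (d * (c * 8) + 1)) :
    Resolvable k φ 𝔮 := by
  classical
  haveI : IsNoetherianRing R := Algebra.FiniteType.isNoetherianRing k R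
  -- the algebra structures
  letI algRΛ : Algebra R Λ := φR.toRingHom.toAlgebra
  haveI : IsScalarTower k R Λ := IsScalarTower.of_algebraMap_eq fun c => (φR.commutes c).symm
  letI algRtΛ : Algebra (MvPolynomial (Fin d) R) Λ :=
    (aeval s : MvPolynomial (Fin d) R →ₐ[R] Λ).toRingHom.toAlgebra
  have halgRt : ∀ f, algebraMap (MvPolynomial (Fin d) R) Λ f = aeval s f := fun f => rfl
  haveI : IsScalarTower R (MvPolynomial (Fin d) R) Λ := IsScalarTower.of_algebraMap_eq fun x => by
    rw [halgRt, MvPolynomial.algebraMap_eq, aeval_C]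
  haveI : IsScalarTower k (MvPolynomial (Fin d) R) Λ := IsScalarTower.of_algebraMap_eq fun c => by
    rw [IsScalarTower.algebraMap_apply k R (MvPolynomial (Fin d) R),
      ← IsScalarTower.algebraMap_apply R (MvPolynomial (Fin d) R) Λ,
      ← IsScalarTower.algebraMap_apply k R Λ]
  have hC : ∀ x : R, algebraMap (MvPolynomial (Fin d) R) Λ
      (algebraMap R (MvPolynomial (Fin d) R) x) = φR.toRingHom x := fun x => by
    rw [← IsScalarTower.algebraMap_apply R (MvPolynomial (Fin d) R) Λ]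
    rfl
  letI algP₀Rt : Algebra (MvPolynomial (Fin d) k) (MvPolynomial (Fin d) R) :=
    (aeval (ptil π') : MvPolynomial (Fin d) k →ₐ[k] MvPolynomial (Fin d) R).toRingHom.toAlgebra
  haveI : IsScalarTower k (MvPolynomial (Fin d) k) (MvPolynomial (Fin d) R) :=
    IsScalarTower.of_algebraMap_eq fun x =>
      ((aeval (ptil π') : MvPolynomial (Fin d) k →ₐ[k] MvPolynomial (Fin d) R).commutes x).symm
  have hX' : ∀ i, algebraMap (MvPolynomial (Fin d) k) (MvPolynomial (Fin d) R) (X i) =
      ptil π' i := fun i => aeval_X _ i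
  have hX : ∀ i, algebraMap (MvPolynomial (Fin d) k) (MvPolynomial (Fin d) R) (X i) =
      X i * algebraMap R (MvPolynomial (Fin d) R) (π' i) := fun i => by
    rw [hX', ptil, MvPolynomial.algebraMap_eq]
  letI algP₀Λ : Algebra (MvPolynomial (Fin d) k) Λ :=
    ((algebraMap (MvPolynomial (Fin d) R) Λ).comp
      (algebraMap (MvPolynomial (Fin d) k) (MvPolynomial (Fin d) R))).toAlgebra
  haveI : IsScalarTower (MvPolynomial (Fin d) k) (MvPolynomial (Fin d) R) Λ :=
    IsScalarTower.of_algebraMap_eq fun _ => rfl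
  haveI : IsScalarTower k (MvPolynomial (Fin d) k) Λ := IsScalarTower.of_algebraMap_eq fun c => by
    rw [IsScalarTower.algebraMap_apply (MvPolynomial (Fin d) k) (MvPolynomial (Fin d) R) Λ,
      ← IsScalarTower.algebraMap_apply k (MvPolynomial (Fin d) k) (MvPolynomial (Fin d) R),
      ← IsScalarTower.algebraMap_apply k (MvPolynomial (Fin d) R) Λ]
  have hXu : ∀ i, algebraMap (MvPolynomial (Fin d) R) Λ (X i) = s i := fun i => by
    rw [halgRt, aeval_X]
  have hptilΛ : ∀ i, algebraMap (MvPolynomial (Fin d) R) Λ (ptil π' i) = s i * φR (π' i) := by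
    intro i
    rw [ptil, map_mul, hXu, ← MvPolynomial.algebraMap_eq, hC]
    rfl
  have hXΛ : ∀ i, algebraMap (MvPolynomial (Fin d) k) Λ (X i) = s i * φR (π' i) := fun i => by
    rw [IsScalarTower.algebraMap_apply (MvPolynomial (Fin d) k) (MvPolynomial (Fin d) R) Λ, hX',
      hptilΛ]
  have hlam : ∀ i, algebraMap (MvPolynomial (Fin d) k) Λ (X i) ^ n = ∑ l, lam i l * φ (a l) :=
    fun i => by rw [hXΛ]; exact hpow_s i
  -- the parameters lie in `𝔮`
  have hπ'q : ∀ i, φR (π' i) ∈ 𝔮 := by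
    intro i
    rw [← IsLocalization.AtPrime.to_map_mem_maximal_iff (Localization.AtPrime 𝔮) 𝔮, ← hπ'O]
    exact Ideal.subset_span ⟨i, rfl⟩
  let ρ₀ : C →ₐ[MvPolynomial (Fin d) k] BAlg a d n := ρ.restrictScalars (MvPolynomial (Fin d) k)
  let ψt : MvPolynomial (Fin d) R ⊗[MvPolynomial (Fin d) k] C →ₐ[MvPolynomial (Fin d) R] Λ :=
    Algebra.TensorProduct.lift (Algebra.ofId (MvPolynomial (Fin d) R) Λ)
      ((bLiftPoly a d n k φ lam hlam).comp ρ₀) (fun _ _ => Commute.all _ _)
  -- the ideal `K`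
  set K : Ideal (MvPolynomial (Fin d) R) :=
    Ideal.span (Set.range fun i : Fin d => (ptil π' i ^ c) ^ 8) with hKdef
  have hπq : ∀ i, algebraMap (MvPolynomial (Fin d) R) Λ (ptil π' i ^ c) ∈ 𝔮 := by
    intro i
    rw [map_pow, hptilΛ]
    exact Ideal.pow_mem_of_mem _ (Ideal.mul_mem_left _ _ (hπ'q i)) c hc
  have hKq : K.map (algebraMap (MvPolynomial (Fin d) R) Λ) ≤ 𝔮 := by
    rw [Ideal.map_span, Ideal.span_le]
    rintro _ ⟨_, ⟨i, rfl⟩, rfl⟩
    rw [map_pow]
    exact Ideal.pow_mem_of_mem _ (hπq i) 8 (by norm_num)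
  have hK : ∀ i, ((X i : MvPolynomial (Fin d) R) *
      algebraMap R (MvPolynomial (Fin d) R) (π' i)) ^ (c * 8) ∈ K := by
    intro i
    rw [MvPolynomial.algebraMap_eq, pow_mul]
    exact Ideal.subset_span ⟨i, rfl⟩
  have hsunit : ∀ i, IsUnit (algebraMap Λ (Localization.AtPrime 𝔮) (s i)) := fun i =>
    IsLocalization.map_units (Localization.AtPrime 𝔮) (⟨s i, hs i⟩ : 𝔮.primeCompl)
  have hKO : maximalIdeal (Localization.AtPrime 𝔮) ^ (d * (c * 8) + 1) ≤
      K.map (algebraMap (MvPolynomial (Fin d) R) (Localization.AtPrime 𝔮)) := by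
    have h1 : maximalIdeal (Localization.AtPrime 𝔮) = Ideal.span (Set.range fun i =>
        algebraMap Λ (Localization.AtPrime 𝔮) (s i) *
          algebraMap Λ (Localization.AtPrime 𝔮) (φR (π' i))) := by
      rw [span_range_unit_mul _ _ hsunit, hπ'O]
    rw [h1]
    refine (span_range_pow_le _ (c * 8)).trans ?_
    rw [Ideal.span_le]
    rintro _ ⟨i, rfl⟩
    have h2 : (algebraMap Λ (Localization.AtPrime 𝔮) (s i) *
        algebraMap Λ (Localization.AtPrime 𝔮) (φR (π' i))) ^ (c * 8) =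
        algebraMap (MvPolynomial (Fin d) R) (Localization.AtPrime 𝔮) ((ptil π' i ^ c) ^ 8) := by
      rw [IsScalarTower.algebraMap_apply (MvPolynomial (Fin d) R) Λ (Localization.AtPrime 𝔮),
        ← pow_mul, map_pow, hptilΛ, map_pow, map_mul]
    show (algebraMap Λ (Localization.AtPrime 𝔮) (s i) *
        algebraMap Λ (Localization.AtPrime 𝔮) (φR (π' i))) ^ (c * 8) ∈
      K.map (algebraMap (MvPolynomial (Fin d) R) (Localization.AtPrime 𝔮))
    rw [h2]
    exact Ideal.mem_map_of_mem _ (Ideal.subset_span ⟨i, rfl⟩)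
  -- the reduced problem
  have hres := reduced_resolvable φ 𝔮 a d n φR.toRingHom hC π'
    (fun i => (X i : MvPolynomial (Fin d) R)) hX (fun i => by rw [hXu]; exact hs i) lam hlam ρ₀
    (c * 8) N hN K hK hKq hπ'loc hKO hcompat Bb fA zb h hfAk hrel hhA μt hhz
    (fun i l => by rw [hXu]; exact hlamμ i l)
  -- the annihilator conditions
  have hannR : ∀ (i : Fin d) (f : MvPolynomial (Fin d) R),
      algebraMap (MvPolynomial (Fin d) R) (MvPolynomial (Fin d) R) (ptil π' i) ^ 2 * f ∈
        PopParam.J (c * 8) (fun i => algebraMap (MvPolynomial (Fin d) R) (MvPolynomial (Fin d) R)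
          (ptil π' i)) i →
      algebraMap (MvPolynomial (Fin d) R) (MvPolynomial (Fin d) R) (ptil π' i) * f ∈
        PopParam.J (c * 8) (fun i => algebraMap (MvPolynomial (Fin d) R) (MvPolynomial (Fin d) R)
          (ptil π' i)) i := fun i f hf => ptil_ann (c * 8) π' i (hsub i) f hf
  have hfunΛ : (fun i => algebraMap (MvPolynomial (Fin d) R) Λ (ptil π' i)) =
      fun j => s j * φR (π' j) := funext hptilΛ
  have hannΛ' : ∀ (i : Fin d) (x : Λ),
      algebraMap (MvPolynomial (Fin d) R) Λ (ptil π' i) ^ 2 * x ∈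
        PopParam.J (c * 8) (fun i => algebraMap (MvPolynomial (Fin d) R) Λ (ptil π' i)) i →
      algebraMap (MvPolynomial (Fin d) R) Λ (ptil π' i) * x ∈
        PopParam.J (c * 8) (fun i => algebraMap (MvPolynomial (Fin d) R) Λ (ptil π' i)) i := by
    intro i x hx
    rw [hfunΛ, hptilΛ] at hx ⊢
    exact hannΛ i x hx
  -- strictly standard
  have hstd' : ∀ i, IsStrictlyStandard (MvPolynomial (Fin d) R)
      (MvPolynomial (Fin d) R ⊗[MvPolynomial (Fin d) k] C)
      (algebraMap (MvPolynomial (Fin d) R) _ (ptil π' i ^ c)) := by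
    intro i
    have h1 := (Groth.Agent.S6829.result (R := MvPolynomial (Fin d) k) (A := C)
      (R' := MvPolynomial (Fin d) R)
      (algebraMap (MvPolynomial (Fin d) k) C (X i ^ c))).2 (hstd i)
    have h2 : algebraMap (MvPolynomial (Fin d) R)
        (MvPolynomial (Fin d) R ⊗[MvPolynomial (Fin d) k] C) (ptil π' i ^ c) =
        (1 : MvPolynomial (Fin d) R) ⊗ₜ[MvPolynomial (Fin d) k]
          (algebraMap (MvPolynomial (Fin d) k) C (X i ^ c)) := by
      rw [Algebra.TensorProduct.algebraMap_apply, Algebra.algebraMap_self_apply, ← hX', ← map_pow,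
        Algebra.algebraMap_eq_smul_one, TensorProduct.smul_tmul, ← Algebra.algebraMap_eq_smul_one]
    rw [h2]
    exact h1
  haveI := finitePresentation_quot
    (A := MvPolynomial (Fin d) R ⊗[MvPolynomial (Fin d) k] C) K
  have hres' : Resolvable (MvPolynomial (Fin d) R) ψt 𝔮 := by
    refine Groth.Agent.S6822.result ψt 𝔮 hd0 (fun i => ptil π' i ^ c) hπq
      (fun i x hx => lam_ann_condition (R := MvPolynomial (Fin d) R)
        (Λ := MvPolynomial (Fin d) R) d c hc (ptil π') hannR i x hx)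
      (fun i x hx => lam_ann_condition (R := MvPolynomial (Fin d) R) (Λ := Λ) d c hc (ptil π')
        hannΛ' i x hx)
      hstd' K rfl (quotMapBar K ψt) (fun a => quotMapBar_mk K ψt a) hres
  -- descend to `k`
  haveI : Algebra.FormallySmooth k (MvPolynomial (Fin d) R) :=
    Algebra.FormallySmooth.comp k R (MvPolynomial (Fin d) R)
  haveI : Algebra.FinitePresentation k (MvPolynomial (Fin d) R) :=
    Algebra.FinitePresentation.trans k R (MvPolynomial (Fin d) R)
  let ι₀ : A →+* MvPolynomial (Fin d) R ⊗[MvPolynomial (Fin d) k] C :=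
    (Algebra.TensorProduct.includeRight : C →ₐ[MvPolynomial (Fin d) k]
      MvPolynomial (Fin d) R ⊗[MvPolynomial (Fin d) k] C).toRingHom.comp
      ((algebraMap (BAlg a d n) C).comp (algebraMap A (BAlg a d n)))
  have hι₀ : ∀ y, ι₀ y = (1 : MvPolynomial (Fin d) R) ⊗ₜ[MvPolynomial (Fin d) k]
      (algebraMap (BAlg a d n) C (algebraMap A (BAlg a d n) y)) := fun y => rfl
  let ι : A →ₐ[k] MvPolynomial (Fin d) R ⊗[MvPolynomial (Fin d) k] C :=
    { ι₀ with
      commutes' := by
        intro x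
        show ι₀ (algebraMap k A x) = _
        rw [hι₀, ← IsScalarTower.algebraMap_apply k A (BAlg a d n),
          IsScalarTower.algebraMap_apply k (MvPolynomial (Fin d) k) (BAlg a d n),
          ← IsScalarTower.algebraMap_apply (MvPolynomial (Fin d) k) (BAlg a d n) C,
          Algebra.algebraMap_eq_smul_one, ← TensorProduct.smul_tmul,
          ← Algebra.algebraMap_eq_smul_one,
          ← IsScalarTower.algebraMap_apply k (MvPolynomial (Fin d) k) (MvPolynomial (Fin d) R)]
        rfl }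
  refine resolvable_descend φ ι ψt ?_ 𝔮 ?_ hres'
  · intro y
    show ψt (ι₀ y) = φ y
    rw [hι₀, Algebra.TensorProduct.lift_tmul, map_one, one_mul]
    show bLiftPoly a d n k φ lam hlam (ρ (algebraMap (BAlg a d n) C (algebraMap A _ y))) = φ y
    rw [ρ.commutes]
    show bLiftPoly a d n k φ lam hlam (algebraMap A _ y) = φ y
    rw [bLiftPoly_apply, bLift_algebraMap]
  · have hle : Ideal.span (Set.range a) ≤
        (singularIdeal (MvPolynomial (Fin d) R)
          (MvPolynomial (Fin d) R ⊗[MvPolynomial (Fin d) k] C)).comap ι := by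
      rw [Ideal.span_le]
      rintro _ ⟨j, rfl⟩
      haveI := hCa j
      rw [SetLike.mem_coe, Ideal.mem_comap]
      show ι₀ (a j) ∈ _
      rw [hι₀]
      exact mem_singularIdeal_of_smooth_localization_away _
        (smooth_away_baseChange (R := MvPolynomial (Fin d) k) (S := MvPolynomial (Fin d) R)
          (algebraMap (BAlg a d n) C (algebraMap A (BAlg a d n) (a j))))
    intro y hy
    rw [← hspan] at hy
    exact hle hy

end Groth.Agent.Lib.Helper22.Pop
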