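import Mathlib
import Groth.Prelude.Def_Found
import Groth.Prelude.Def_Smoothing
import Groth.Agent.Lib.Helper22.PopZo
import Groth.Agent.Lib.Helper22.PopZz
import Groth.Agent.Lib.Helper22.PopZza
import Groth.Agent.Lib.Helper22.PopZzc
import Groth.Agent.Lib.Helper22.PopZzj
import Groth.Agent.Lib.Helper22.PopZzk
import Groth.Agent.Lib.Helper22.PopZzo

/-!
# The positive-dimensional case of the characteristic `p` resolution step
-/

set_option autoImplicit false
set_option linter.style.haveILetI false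
set_option linter.unusedSectionVars false
universe u

namespace Groth.Agent.Lib.Helper22.Pop

open Smoothing IsLocalRing MvPolynomial TensorProduct

set_option maxHeartbeats 6400000 in
theorem charp_case_pos {k A Λ : Type u} [Field k] (p : ℕ) [Fact p.Prime] [CharP k p]
    [CommRing A] [Algebra k A] [Algebra.FinitePresentation k A] [CommRing Λ] [Algebra k Λ]
    [IsNoetherianRing Λ] (φ : A →ₐ[k] Λ) (𝔮 : Ideal Λ) [𝔮.IsPrime]
    (hreg : CAlg.IsGeometricallyRegular k (Localization.AtPrime 𝔮))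
    [IsRegularLocalRing (Localization.AtPrime 𝔮)]
    {r : ℕ} (a : Fin r → A) (hspan : Ideal.span (Set.range a) = singularIdeal k A)
    (d : ℕ) (hd0 : 0 < d) (hd : ringKrullDim (Localization.AtPrime 𝔮) = d) (n : ℕ) (hn : 0 < n)
    (hpow : (𝔮 ^ n).map (algebraMap Λ (Localization.AtPrime 𝔮)) ≤
      ((singularIdeal k A).map φ).map (algebraMap Λ (Localization.AtPrime 𝔮))) :
    Resolvable k φ 𝔮 := by
  classical
  have hsm : ∀ j, Algebra.Smooth k (Localization.Away (a j)) := fun j =>
    smooth_away_of_mem_singularIdeal (hspan ▸ Ideal.subset_span ⟨j, rfl⟩)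
  -- the retract `C` of `B`
  obtain ⟨C, _, _, _, _, hft, ⟨ρ⟩, hC⟩ :=
    exists_retract_free (R := MvPolynomial (Fin d) k) (A := BAlg a d n)
  haveI := hft
  haveI : Algebra.FiniteType (MvPolynomial (Fin d) k) C :=
    Algebra.FiniteType.trans (S := BAlg a d n) inferInstance inferInstance
  haveI : Algebra.FinitePresentation (MvPolynomial (Fin d) k) C :=
    Algebra.FinitePresentation.of_finiteType.mp inferInstance
  -- strictly standard powers
  have hstd0 : ∀ i : Fin d, ∃ e₀ : ℕ, ∀ m, e₀ ≤ m →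
      IsStrictlyStandard (MvPolynomial (Fin d) k) C
        (algebraMap (MvPolynomial (Fin d) k) C (X i) ^ m) := by
    intro i
    have h1 := hC (algebraMap (MvPolynomial (Fin d) k) (BAlg a d n) (X i))
      (bAlg_smooth_away_x a d n k hsm i)
    rw [← IsScalarTower.algebraMap_apply (MvPolynomial (Fin d) k) (BAlg a d n) C (X i)] at h1
    obtain ⟨h2, h3⟩ := h1
    haveI := h2
    haveI := h3
    obtain ⟨q', ⟨e⟩⟩ := exists_equiv_of_free
      (Localization.Away (algebraMap (MvPolynomial (Fin d) k) C (X i)))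
      Ω[Localization.Away (algebraMap (MvPolynomial (Fin d) k) C (X i))⁄MvPolynomial (Fin d) k]
    exact exists_strictlyStandard_pow (algebraMap (MvPolynomial (Fin d) k) C (X i)) 0 q' e
  choose e₀ he₀ using hstd0
  obtain ⟨c, hcdef⟩ : ∃ c, c = Finset.univ.sup e₀ + 1 := ⟨_, rfl⟩
  have hc : 0 < c := by rw [hcdef]; exact Nat.succ_pos _
  have hstd : ∀ i, IsStrictlyStandard (MvPolynomial (Fin d) k) C
      (algebraMap (MvPolynomial (Fin d) k) C (X i ^ c)) := fun i => by
    rw [map_pow]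
    exact he₀ i _ (by rw [hcdef]; exact (Finset.le_sup (Finset.mem_univ i)).trans (Nat.le_succ _))
  have hCa : ∀ j, Algebra.Smooth (MvPolynomial (Fin d) k)
      (Localization.Away (algebraMap (BAlg a d n) C (algebraMap A (BAlg a d n) (a j)))) := by
    intro j
    haveI := hsm j
    exact (hC (algebraMap A (BAlg a d n) (a j)) (bAlg_smooth_away_a a d n k j)).1
  have he : 0 < c * 8 := by positivity
  -- the generators of `A`
  obtain ⟨sA, hsA⟩ := (Algebra.FiniteType.out : (⊤ : Subalgebra k A).FG)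
  -- the chart
  obtain ⟨N, hNdef⟩ : ∃ N, N = n + (d * (c * 8) + 1) := ⟨_, rfl⟩
  obtain ⟨t, d', y, x', π, hπO, hπloc, hdim, D, algSO, hff, hE₀, hcompat, hSD, hL⟩ :=
    exists_chart_good 𝔮 p hreg d hd N (by omega) (sA.image φ)
  letI := algSO
  haveI := hff
  -- the tower
  haveI tower : IsScalarTower k (QuotPow (PChartLoc k 𝔮 y x') N)
      (QuotPow (Localization.AtPrime 𝔮) N) := by
    apply IsScalarTower.of_algebraMap_eq
    intro c'
    have h1 : algebraMap k (QuotPow (PChartLoc k 𝔮 y x') N) c' =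
        Ideal.Quotient.mk _ (algebraMap (MvPolynomial (Fin t ⊕ Fin d') k)
          (PChartLoc k 𝔮 y x') (MvPolynomial.C c')) := by
      have : algebraMap k (QuotPow (PChartLoc k 𝔮 y x') N) c' =
          Ideal.Quotient.mk _ (algebraMap k (PChartLoc k 𝔮 y x') c') := rfl
      rw [this, IsScalarTower.algebraMap_apply k (MvPolynomial (Fin t ⊕ Fin d') k)
        (PChartLoc k 𝔮 y x'), MvPolynomial.algebraMap_eq]
    rw [h1, hcompat, ← MvPolynomial.algebraMap_eq, AlgHom.commutes]
    rfl
  -- the multipliers on the `R`-side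
  have hloc : ∀ (i : Fin d) (S : Finset (Fin d)), i ∉ S → ∀ x : PChartLoc k 𝔮 y x',
      algebraMap (MvPolynomial (Fin t ⊕ Fin d') k) (PChartLoc k 𝔮 y x') (π i) * x ∈
        JS (c * 8) (fun j => algebraMap (MvPolynomial (Fin t ⊕ Fin d') k)
          (PChartLoc k 𝔮 y x') (π j)) S →
      x ∈ JS (c * 8) (fun j => algebraMap (MvPolynomial (Fin t ⊕ Fin d') k)
          (PChartLoc k 𝔮 y x') (π j)) S :=
    fun i S hi x hx => regular_subset_nzd k (PChartLoc k 𝔮 y x') d hdim
      (fun j => algebraMap (MvPolynomial (Fin t ⊕ Fin d') k) (PChartLoc k 𝔮 y x') (π j)) hπloc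
      (c * 8) he i S hi x hx
  obtain ⟨σ, hσ, hsub⟩ := exists_subset_mult
    (Ideal.comap (chartHom (k := k) y x').toRingHom 𝔮) d (c * 8) π hloc
  have hπ'loc : Ideal.span (Set.range fun i => algebraMap (MvPolynomial (Fin t ⊕ Fin d') k)
      (PChartLoc k 𝔮 y x') (σ i * π i)) = maximalIdeal (PChartLoc k 𝔮 y x') := by
    have h1 : (fun i => algebraMap (MvPolynomial (Fin t ⊕ Fin d') k)
        (PChartLoc k 𝔮 y x') (σ i * π i)) = fun i => algebraMap (MvPolynomial (Fin t ⊕ Fin d') k)
        (PChartLoc k 𝔮 y x') (σ i) * algebraMap (MvPolynomial (Fin t ⊕ Fin d') k)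
        (PChartLoc k 𝔮 y x') (π i) := funext fun i => map_mul _ _ _
    rw [h1, span_range_unit_mul _ _ (fun i => IsLocalization.map_units (PChartLoc k 𝔮 y x')
      (⟨σ i, hσ i⟩ : (Ideal.comap (chartHom (k := k) y x').toRingHom 𝔮).primeCompl)), hπloc]
  have hπ'O : Ideal.span (Set.range fun i => algebraMap Λ (Localization.AtPrime 𝔮)
      (chartHom y x' (σ i * π i))) = maximalIdeal (Localization.AtPrime 𝔮) := by
    have h1 : (fun i => algebraMap Λ (Localization.AtPrime 𝔮) (chartHom y x' (σ i * π i))) =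
        fun i => algebraMap Λ (Localization.AtPrime 𝔮) (chartHom y x' (σ i)) *
          algebraMap Λ (Localization.AtPrime 𝔮) (chartHom y x' (π i)) := funext fun i => by
      rw [map_mul, map_mul]
    rw [h1, span_range_unit_mul _ _ (fun i => IsLocalization.map_units (Localization.AtPrime 𝔮)
      (⟨chartHom y x' (σ i), hσ i⟩ : 𝔮.primeCompl)), hπO]
  -- the images in `D`
  let Φ : A →ₐ[k] QuotPow (Localization.AtPrime 𝔮) N :=
    (Ideal.Quotient.mkₐ k _).comp ((IsScalarTower.toAlgHom k Λ (Localization.AtPrime 𝔮)).comp φ)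
  have hΦ : ∀ z, Φ z = Ideal.Quotient.mk _ (algebraMap Λ (Localization.AtPrime 𝔮) (φ z)) :=
    fun z => rfl
  have hAD : ∀ z, Φ z ∈ D := by
    have h1 : (⊤ : Subalgebra k A) ≤ D.comap Φ := by
      rw [← hsA, Algebra.adjoin_le_iff]
      intro z hz
      exact hE₀ _ (Finset.mem_image_of_mem φ hz)
    exact fun z => h1 Algebra.mem_top
  have hRD : ∀ x : MvPolynomial (Fin t ⊕ Fin d') k,
      Ideal.Quotient.mk (maximalIdeal (Localization.AtPrime 𝔮) ^ N)
        (algebraMap Λ (Localization.AtPrime 𝔮) (chartHom y x' x)) ∈ D := fun x => by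
    rw [← hcompat]
    exact hSD _
  -- the coefficients `μ`
  have hmO : ∀ i, algebraMap Λ (Localization.AtPrime 𝔮) (chartHom y x' (σ i * π i)) ∈
      maximalIdeal (Localization.AtPrime 𝔮) := fun i => by
    rw [← hπ'O]
    exact Ideal.subset_span ⟨i, rfl⟩
  have hpow' : maximalIdeal (Localization.AtPrime 𝔮) ^ n ≤
      Ideal.span (Set.range fun l => algebraMap Λ (Localization.AtPrime 𝔮) (φ (a l))) := by
    have h1 : ((singularIdeal k A).map φ).map (algebraMap Λ (Localization.AtPrime 𝔮)) =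
        Ideal.span (Set.range fun l => algebraMap Λ (Localization.AtPrime 𝔮) (φ (a l))) := by
      rw [← hspan, Ideal.map_span, Ideal.map_span, ← Set.range_comp, ← Set.range_comp]
      rfl
    rw [← h1, ← Localization.AtPrime.map_eq_maximalIdeal, ← Ideal.map_pow]
    exact hpow
  have hxspan : ∀ i, Ideal.Quotient.mk (maximalIdeal (Localization.AtPrime 𝔮) ^ N)
      (algebraMap Λ (Localization.AtPrime 𝔮) (chartHom y x' (σ i * π i))) ^ n ∈
      Ideal.span (Set.range fun l => ((⟨Φ (a l), hAD (a l)⟩ : D) :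
        QuotPow (Localization.AtPrime 𝔮) N)) := by
    intro i
    have h1 : algebraMap Λ (Localization.AtPrime 𝔮) (chartHom y x' (σ i * π i)) ^ n ∈
        Ideal.span (Set.range fun l => algebraMap Λ (Localization.AtPrime 𝔮) (φ (a l))) :=
      hpow' (Ideal.pow_mem_pow (hmO i) n)
    have h2 := Ideal.mem_map_of_mem
      (Ideal.Quotient.mk (maximalIdeal (Localization.AtPrime 𝔮) ^ N)) h1
    rw [Ideal.map_span, ← Set.range_comp, map_pow] at h2
    exact h2
  have hμ : ∀ i, ∃ μD : Fin r → D,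
      (⟨Ideal.Quotient.mk (maximalIdeal (Localization.AtPrime 𝔮) ^ N)
        (algebraMap Λ (Localization.AtPrime 𝔮) (chartHom y x' (σ i * π i))) ^ n,
        D.pow_mem (hRD _) n⟩ : D) = ∑ l, μD l * ⟨Φ (a l), hAD (a l)⟩ :=
    fun i => contraction_sub D _ _ (hxspan i)
  choose μD hμD using hμ
  have hμt : ∀ i l, ∃ m : Localization.AtPrime 𝔮,
      Ideal.Quotient.mk (maximalIdeal (Localization.AtPrime 𝔮) ^ N) m =
        (μD i l : QuotPow (Localization.AtPrime 𝔮) N) := fun i l =>
    Ideal.Quotient.mk_surjective _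
  choose μt hμt' using hμt
  have hμrel : ∀ i, Ideal.Quotient.mk (maximalIdeal (Localization.AtPrime 𝔮) ^ N)
      (algebraMap Λ (Localization.AtPrime 𝔮) (chartHom y x' (σ i * π i))) ^ n =
      ∑ l, (μD i l : QuotPow (Localization.AtPrime 𝔮) N) * Φ (a l) := by
    intro i
    have h1 := congrArg (fun z : D => (z : QuotPow (Localization.AtPrime 𝔮) N)) (hμD i)
    simp only [AddSubmonoidClass.coe_finset_sum, MulMemClass.coe_mul] at h1
    exact h1
  have hx' : ∀ i, algebraMap Λ (Localization.AtPrime 𝔮) (chartHom y x' (σ i * π i)) ^ n -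
      ∑ l, μt i l * algebraMap Λ (Localization.AtPrime 𝔮) (φ (a l)) ∈
        maximalIdeal (Localization.AtPrime 𝔮) ^ N := by
    intro i
    rw [← Ideal.Quotient.eq_zero_iff_mem, map_sub, map_pow, map_sum, hμrel i, sub_eq_zero]
    refine Finset.sum_congr rfl (fun l _ => ?_)
    rw [map_mul, hμt', hΦ]
  have hll : ∀ i, ∃ lloc : Fin r → Localization.AtPrime 𝔮,
      algebraMap Λ (Localization.AtPrime 𝔮) (chartHom y x' (σ i * π i)) ^ n =
        ∑ l, lloc l * algebraMap Λ (Localization.AtPrime 𝔮) (φ (a l)) ∧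
      ∀ l, lloc l - μt i l ∈ maximalIdeal (Localization.AtPrime 𝔮) ^ (N - n) := fun i =>
    exists_lloc (maximalIdeal (Localization.AtPrime 𝔮))
      (fun l => algebraMap Λ (Localization.AtPrime 𝔮) (φ (a l))) n N (by omega) hpow' _ (μt i)
      (hx' i)
  choose lloc hlloc hllocμ using hll
  -- the `Λ`-side
  obtain ⟨s, lam, hs, hpow_s, hmap, hannΛ⟩ := lambda_side 𝔮 d hd (c * 8) he n hn
    (fun i => chartHom y x' (σ i * π i)) hπ'O (fun l => φ (a l)) lloc hlloc
  have hlamμ : ∀ i l, algebraMap Λ (Localization.AtPrime 𝔮) (lam i l) -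
      algebraMap Λ (Localization.AtPrime 𝔮) (s i) ^ n * μt i l ∈
        maximalIdeal (Localization.AtPrime 𝔮) ^ (d * (c * 8) + 1) := by
    intro i l
    have h1 : algebraMap Λ (Localization.AtPrime 𝔮) (lam i l) -
        algebraMap Λ (Localization.AtPrime 𝔮) (s i) ^ n * μt i l =
        algebraMap Λ (Localization.AtPrime 𝔮) (s i) ^ n * (lloc i l - μt i l) := by
      rw [hmap]; ring
    rw [h1]
    have h2 : N - n = d * (c * 8) + 1 := by omega
    rw [← h2]
    exact Ideal.mul_mem_left _ _ (hllocμ i l)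
  -- the smooth algebra over the Artinian chart ring
  obtain ⟨Bb, _, _, hBsm, fA, zb, h, hfAk, hrel, hhA, hhz⟩ := lemmaL_bAlg D hSD hL a d n
    (fun i => Ideal.Quotient.mk (maximalIdeal (PChartLoc k 𝔮 y x') ^ N)
      (algebraMap (MvPolynomial (Fin t ⊕ Fin d') k) (PChartLoc k 𝔮 y x') (σ i * π i)))
    Φ hAD (fun i l => (μD i l : QuotPow (Localization.AtPrime 𝔮) N)) (fun i l => (μD i l).2)
    (fun i => by rw [hcompat]; exact hμrel i)
  haveI := hBsm
  exact charp_tail φ 𝔮 a hspan d hd0 n C ρ hCa c hc hstd (MvPolynomial (Fin t ⊕ Fin d') k)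
    (chartHom y x') (fun i => σ i * π i) hπ'O hπ'loc hsub s hs lam hpow_s hannΛ N (by omega)
    hcompat Bb fA zb h hfAk hrel hhA μt (fun i l => by rw [hhz, hμt']) hlamμ

end Groth.Agent.Lib.Helper22.Pop
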