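import Mathlib
import Groth.Prelude.Def_Found
import Groth.Prelude.Def_Smoothing
import Groth.Agent.Lib.Helper22.PopZu
import Groth.Agent.Lib.Helper22.PopZzp
import Groth.Agent.Lib.Helper22.GeomRed2
import Groth.Agent.Lib.Helper12.QExcA

/-!
# The characteristic `p` resolution step (Stacks 16.11.4)
-/

set_option autoImplicit false
set_option linter.style.haveILetI false
set_option linter.unusedSectionVars false
universe u

namespace Groth.Agent.Lib.Helper22.Pop

open Smoothing IsLocalRing MvPolynomial TensorProduct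

/-- a geometrically regular local algebra which is a field is geometrically reduced. -/
theorem geomReduced_residueField_of_bot {k Λ : Type u} [Field k] [CommRing Λ] [Algebra k Λ]
    (𝔮 : Ideal Λ) [𝔮.IsPrime]
    (hreg : CAlg.IsGeometricallyRegular k (Localization.AtPrime 𝔮))
    (hbot : maximalIdeal (Localization.AtPrime 𝔮) = ⊥) :
    Algebra.IsGeometricallyReduced k 𝔮.ResidueField := by
  apply Groth.Agent.Lib.Helper22.GeomRed2.isGeometricallyReduced_of_forall_purelyInseparable
  intro k' _ _ hfin _
  haveI h1 : IsRegularRing (k' ⊗[k] Localization.AtPrime 𝔮) := hreg k' hfin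
  haveI h2 : IsReduced (k' ⊗[k] Localization.AtPrime 𝔮) :=
    Groth.Agent.Lib.Helper12.QExc.isReduced_of_isRegularRing _
  have hbij : Function.Bijective (IsScalarTower.toAlgHom k (Localization.AtPrime 𝔮)
      𝔮.ResidueField) := by
    constructor
    · rw [injective_iff_map_eq_zero]
      intro x hx
      have h3 : x ∈ maximalIdeal (Localization.AtPrime 𝔮) := by
        rw [← IsLocalRing.residue_eq_zero_iff]
        exact hx
      rw [hbot] at h3
      exact h3
    · exact IsLocalRing.residue_surjective
  let e : Localization.AtPrime 𝔮 ≃ₐ[k] 𝔮.ResidueField := AlgEquiv.ofBijective _ hbij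
  let e' : k' ⊗[k] Localization.AtPrime 𝔮 ≃ₐ[k'] k' ⊗[k] 𝔮.ResidueField :=
    Algebra.TensorProduct.congr AlgEquiv.refl e
  exact isReduced_of_injective e'.symm.toRingHom e'.symm.injective

theorem charp_case {k A Λ : Type u} [Field k] (p : ℕ) [Fact p.Prime]
    [CharP k p] [CommRing A] [Algebra k A] [Algebra.FinitePresentation k A] [CommRing Λ] [Algebra k Λ]
    [IsNoetherianRing Λ] (hreg : CAlg.IsGeometricallyRegular k Λ) (φ : A →ₐ[k] Λ) (𝔮 : Ideal Λ)
    [𝔮.IsPrime] (hmin : 𝔮 ∈ (Smoothing.singRad k φ).minimalPrimes) :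
    Smoothing.Resolvable k φ 𝔮 := by
  classical
  have hregO := geomRegular_localization hreg 𝔮
  haveI hOreg : IsRegularLocalRing (Localization.AtPrime 𝔮) :=
    Groth.Agent.Lib.Helper22.RegDer.isRegularLocalRing_of_geomRegular hregO
  obtain ⟨d, hd⟩ := Groth.Agent.Lib.Helper7.RegularFree.exists_dim (A := Localization.AtPrime 𝔮)
  haveI : IsNoetherianRing A := Algebra.FiniteType.isNoetherianRing k A
  obtain ⟨s, hs⟩ := (isNoetherianRing_iff_ideal_fg A).mp inferInstance (singularIdeal k A)
  let a : Fin s.card → A := fun i => (s.equivFin.symm i : A)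
  have hrange : Set.range a = (s : Set A) := by
    ext x
    constructor
    · rintro ⟨j, rfl⟩
      exact (s.equivFin.symm j).2
    · intro hx
      exact ⟨s.equivFin ⟨x, hx⟩, by simp [a]⟩
  have hspan : Ideal.span (Set.range a) = singularIdeal k A := by rw [hrange, hs]
  have hmin' : 𝔮 ∈ ((singularIdeal k A).map φ).minimalPrimes := by
    rw [← Ideal.radical_minimalPrimes]
    exact hmin
  obtain ⟨n, hn, hpow⟩ := exists_pow_map_le _ 𝔮 hmin'
  rcases Nat.eq_zero_or_pos d with rfl | hd0
  · obtain ⟨π, hπ, -, -⟩ := PopParam.main ((singularIdeal k A).map φ) 𝔮 n 1 0 hn one_pos hpow hd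
    have hbot : IsLocalRing.maximalIdeal (Localization.AtPrime 𝔮) = ⊥ := by
      rw [← Localization.AtPrime.map_eq_maximalIdeal, ← hπ]
      simp
    haveI := geomReduced_residueField_of_bot 𝔮 hregO hbot
    exact sep_case_dim_zero φ 𝔮 hmin (by exact_mod_cast hd) hbot
  · exact charp_case_pos p φ 𝔮 hregO a hspan d hd0 hd n hn hpow

end Groth.Agent.Lib.Helper22.Pop
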