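import Mathlib
import Groth.Prelude.Def_Found
import Groth.Prelude.Def_Smoothing
import Groth.Agent.S2029
import Groth.Agent.S19959
import Groth.Agent.Lib.Helper22.PopB
import Groth.Agent.Lib.Helper22.PopE
import Groth.Agent.Lib.Helper22.PopR
import Groth.Agent.Lib.Helper22.PopZr
import Groth.Agent.Lib.helper10.SingIdeal

/-!
# Popescu's theorem: reduction to the case of a base field
-/

set_option autoImplicit false
set_option linter.style.haveILetI false
set_option linter.unusedSectionVars false
universe u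

namespace Groth.Agent.Lib.Helper22.Pop

open Smoothing IsLocalRing TensorProduct

theorem formallySmooth_of_subsingleton (R A : Type*) [CommRing R] [CommRing A] [Algebra R A]
    [Subsingleton A] : Algebra.FormallySmooth R A := by
  haveI : Subsingleton Ω[A⁄R] := Module.subsingleton A _
  haveI : Subsingleton (Algebra.H1Cotangent R A) := Module.subsingleton A _
  exact ⟨inferInstance, inferInstance⟩

theorem indSmooth_of_subsingleton (R Λ : Type u) [CommRing R] [CommRing Λ] [Algebra R Λ]
    [Subsingleton R] : IndSmooth R Λ := by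
  intro A _ _ hA f
  haveI := hA
  haveI : Subsingleton A := by
    have h1 : (1 : A) = 0 := by
      have : algebraMap R A 1 = algebraMap R A 0 := by rw [Subsingleton.elim (1 : R) 0]
      rw [map_one, map_zero] at this
      exact this
    exact subsingleton_of_zero_eq_one h1.symm
  haveI := formallySmooth_of_subsingleton R A
  exact ⟨A, inferInstance, inferInstance, ⟨inferInstance, inferInstance⟩, AlgHom.id R A, f,
    AlgHom.comp_id f⟩

theorem fp_of_markedPresentation {R A : Type u} [CommRing R] [CommRing A] [Algebra R A]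
    (P : MarkedPresentation R A) : Algebra.FinitePresentation R A := by
  refine Algebra.FinitePresentation.of_surjective P.surj ?_
  rw [P.ker_eq]
  exact Submodule.fg_span (Set.finite_range P.rel)

/-- over a reduced base, the annihilator condition passes to flat algebras -/
theorem ann_of_flat_reduced {R Λ : Type u} [CommRing R] [IsReduced R] [CommRing Λ] [Algebra R Λ]
    [Module.Flat R Λ] (π : R) (x : Λ) (hx : π ^ 2 • x = 0) : π • x = 0 := by
  classical
  have hrel : ∑ i : Fin 1, (fun _ => π ^ 2) i • (fun _ => x) i = 0 := by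
    simp only [Finset.univ_unique, Finset.sum_singleton]
    exact hx
  obtain ⟨κ, a, y, hxy, ha⟩ := Module.Flat.isTrivialRelation_of_sum_smul_eq_zero
    (R := R) (M := Λ) hrel
  have hx' : x = ∑ j, a 0 j • y j := hxy 0
  have ha' : ∀ j, π ^ 2 * a 0 j = 0 := by
    intro j
    have := ha j
    simpa using this
  have ha'' : ∀ j, π * a 0 j = 0 := by
    intro j
    have h1 : (π * a 0 j) ^ 2 = 0 := by
      have : (π * a 0 j) ^ 2 = π ^ 2 * a 0 j * a 0 j := by ring
      rw [this, ha' j, zero_mul]
    exact pow_eq_zero_iff (two_ne_zero) |>.mp h1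
  rw [hx', Finset.smul_sum]
  refine Finset.sum_eq_zero (fun j _ => ?_)
  rw [smul_smul, ha'' j, zero_smul]

set_option maxHeartbeats 1600000 in
/-- if `π` is strictly standard and the problem modulo `π⁸` is ind-smooth, the map factors through
a smooth algebra. -/
theorem factor_of_std {R B Λ : Type u} [CommRing R] [IsNoetherianRing R] [CommRing B] [Algebra R B]
    [Algebra.FinitePresentation R B] [CommRing Λ] [Algebra R Λ] (β : B →ₐ[R] Λ) (π : R)
    (hR : ∀ r : R, π ^ 2 * r = 0 → π * r = 0) (hΛ : ∀ x : Λ, π ^ 2 • x = 0 → π • x = 0)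
    (hstd : IsStrictlyStandard R B (algebraMap R B π))
    (hind : IndSmooth (R ⧸ Ideal.span {π ^ 8})
      (Λ ⧸ (Ideal.span {π ^ 8}).map (algebraMap R Λ))) :
    ∃ (B' : Type u) (_ : CommRing B') (_ : Algebra R B'), Algebra.Smooth R B' ∧
      ∃ (g : B →ₐ[R] B') (h : B' →ₐ[R] Λ), h.comp g = β := by
  classical
  haveI := finitePresentation_quot (A := B) (Ideal.span {π ^ 8})
  obtain ⟨C, _, _, hC, g₁, h₁, hgh₁⟩ := hind _ inferInstance (quotMapBar (Ideal.span {π ^ 8}) β)
  haveI := hC
  have hgh₁' : ∀ b, h₁ (g₁ b) = quotMapBar (Ideal.span {π ^ 8}) β b :=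
    fun b => congrArg (fun F => F b) hgh₁
  letI algRC : Algebra R C :=
    ((algebraMap (R ⧸ Ideal.span {π ^ 8}) C).comp (Ideal.Quotient.mk _)).toAlgebra
  haveI : IsScalarTower R (R ⧸ Ideal.span {π ^ 8}) C := IsScalarTower.of_algebraMap_eq fun _ => rfl
  let γ : B →ₐ[R] C :=
    { toRingHom := g₁.toRingHom.comp (Ideal.Quotient.mk _)
      commutes' := by
        intro x
        show g₁ (Ideal.Quotient.mk _ (algebraMap R B x)) = _
        have : Ideal.Quotient.mk ((Ideal.span {π ^ 8}).map (algebraMap R B)) (algebraMap R B x) =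
            algebraMap (R ⧸ Ideal.span {π ^ 8}) _ (Ideal.Quotient.mk _ x) := rfl
        rw [this, AlgHom.commutes]
        rfl }
  have hγ : ∀ b, γ b = g₁ (Ideal.Quotient.mk _ b) := fun b => rfl
  have hideal : (Ideal.span {π ^ 8}).map (algebraMap R Λ) =
      Ideal.span {algebraMap R Λ (π ^ 8)} := by
    rw [Ideal.map_span, Set.image_singleton]
  let ι : (Λ ⧸ (Ideal.span {π ^ 8}).map (algebraMap R Λ)) ≃+*
      (Λ ⧸ Ideal.span {algebraMap R Λ (π ^ 8)}) := Ideal.quotEquivOfEq hideal
  have hι : ∀ l, ι (Ideal.Quotient.mk _ l) = Ideal.Quotient.mk _ l := fun l =>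
    Ideal.quotEquivOfEq_mk hideal l
  let g : C →ₐ[R] Λ ⧸ Ideal.span {algebraMap R Λ (π ^ 8)} :=
    { toRingHom := ι.toRingHom.comp h₁.toRingHom
      commutes' := by
        intro x
        show ι (h₁ (algebraMap (R ⧸ Ideal.span {π ^ 8}) C (Ideal.Quotient.mk _ x))) = _
        rw [AlgHom.commutes]
        have : algebraMap (R ⧸ Ideal.span {π ^ 8})
            (Λ ⧸ (Ideal.span {π ^ 8}).map (algebraMap R Λ)) (Ideal.Quotient.mk _ x) =
            Ideal.Quotient.mk _ (algebraMap R Λ x) := rfl
        rw [this, hι]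
        rfl }
  have hg : ∀ c, g c = ι (h₁ c) := fun c => rfl
  have hfac : ∀ b, g (γ b) = Ideal.Quotient.mk _ (β b) := by
    intro b
    rw [hg, hγ, hgh₁', quotMapBar_mk, hι]
  obtain ⟨B', _, _, hB', α, β', hβα, hsmooth, hincl⟩ :=
    Groth.Agent.S19959.result π hR hΛ β hstd γ g hfac
  haveI := hB'
  have hϖB : algebraMap R B' π ∈ singularIdeal R B' := mem_singularIdeal_of_smooth_away _ hsmooth
  have hϖΛ : algebraMap R Λ π ∈ singRad R β' := by
    refine Ideal.le_radical ?_
    rw [← β'.commutes]
    exact Ideal.mem_map_of_mem _ hϖB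
  have hsingC : singularIdeal (R ⧸ Ideal.span {π ^ 8}) C = ⊤ := by
    rw [singularIdeal, Algebra.smoothLocus_eq_univ, Set.compl_univ,
      PrimeSpectrum.vanishingIdeal_empty]
  have htop : singRad R β' = ⊤ := by
    rw [Ideal.eq_top_iff_one]
    have h1 : (1 : Λ ⧸ Ideal.span {algebraMap R Λ (π ^ 8)}) ∈
        ((singularIdeal R B').map β').radical.map
          (Ideal.Quotient.mk (Ideal.span {algebraMap R Λ (π ^ 8)})) := by
      apply hincl
      rw [hsingC, Ideal.map_top]
      exact Submodule.mem_top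
    rw [Ideal.mem_map_iff_of_surjective _ Ideal.Quotient.mk_surjective] at h1
    obtain ⟨l, hl, hl1⟩ := h1
    have h2 : l - 1 ∈ Ideal.span {algebraMap R Λ (π ^ 8)} := by
      rw [← Ideal.Quotient.eq_zero_iff_mem, map_sub, hl1, map_one, sub_self]
    have h3 : l - 1 ∈ singRad R β' := by
      refine (Ideal.span_le.mpr ?_) h2
      rintro _ rfl
      rw [SetLike.mem_coe, map_pow]
      exact Ideal.pow_mem_of_mem _ hϖΛ 8 (by norm_num)
    have : (1 : Λ) = l - (l - 1) := by ring
    rw [this]
    exact Ideal.sub_mem _ hl h3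
  obtain ⟨B'', _, _, hB'', g'', h'', hgh''⟩ := factors_of_singRad_eq_top β' htop
  exact ⟨B'', inferInstance, inferInstance, hB'', g''.comp α, h'', by
    rw [← AlgHom.comp_assoc, hgh'', hβα]⟩

end Groth.Agent.Lib.Helper22.Pop
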