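import Mathlib
import Groth.Prelude.Def_Found
import Groth.Prelude.Def_Smoothing
import Groth.Agent.S6823
import Groth.Agent.S6824
import Groth.Agent.Lib.Helper22.PopZzr
import Groth.Agent.Lib.Helper22.GeomRed
import Groth.Agent.Lib.Helper5.RegHomIso

/-!
# Popescu's theorem
-/

set_option autoImplicit false
set_option linter.style.haveILetI false
set_option linter.unusedSectionVars false
universe u

namespace Groth.Agent.Lib.Helper22.Pop

open Smoothing IsLocalRing TensorProduct

/-- the case of a base field -/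
theorem indSmooth_field (k Λ : Type u) [Field k] [CommRing Λ] [IsNoetherianRing Λ] [Algebra k Λ]
    (hreg : CAlg.IsGeometricallyRegular k Λ) : IndSmooth k Λ := by
  apply indSmooth_of_forall_resolvable
  intro A _ _ _ φ q _ hmin
  obtain ⟨p, hp⟩ := CharP.exists k
  rcases CharP.char_is_prime_or_zero k p with hprime | hzero
  · haveI : Fact p.Prime := ⟨hprime⟩
    exact Groth.Agent.S6824.result p hreg φ q hmin
  · subst hzero
    haveI : CharZero k := CharP.charP_to_charZero k
    haveI : IsRegularLocalRing (Localization.AtPrime q) :=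
      Groth.Agent.Lib.Helper22.RegDer.isRegularLocalRing_of_geomRegular
        (geomRegular_localization hreg q)
    haveI : Algebra.IsGeometricallyReduced k q.ResidueField :=
      Groth.Agent.Lib.Helper22.GeomRed.isGeometricallyReduced_of_perfectField
    exact Groth.Agent.S6823.result φ q hmin

theorem isRegularHom_quot {R Λ : Type u} [CommRing R] [CommRing Λ] [Algebra R Λ]
    (hreg : CAlg.IsRegularHom R Λ) (I : Ideal R) :
    CAlg.IsRegularHom (R ⧸ I) (Λ ⧸ I.map (algebraMap R Λ)) := by
  have h1 := Groth.Agent.Lib.Helper5.RegHom.isRegularHom_baseChange R Λ (R ⧸ I) hreg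
  exact Groth.Agent.Lib.Helper5.RegHom.isRegularHom_of_algEquiv (R ⧸ I) _ _
    (Algebra.TensorProduct.quotIdealMapEquivQuotTensor Λ I).symm h1

set_option maxHeartbeats 1600000 in
theorem popescu_step
    (hF : ∀ (k Λ : Type u) [Field k] [CommRing Λ] [IsNoetherianRing Λ] [Algebra k Λ],
      CAlg.IsGeometricallyRegular k Λ → IndSmooth k Λ)
    {R Λ : Type u} [CommRing R] [IsNoetherianRing R] [CommRing Λ] [IsNoetherianRing Λ]
    [Algebra R Λ] (hreg : CAlg.IsRegularHom R Λ)
    (hind : ∀ J : Ideal R, J ≠ ⊥ → IndSmooth (R ⧸ J) (Λ ⧸ J.map (algebraMap R Λ))) :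
    IndSmooth R Λ := by
  classical
  haveI : Module.Flat R Λ := hreg.1
  by_cases htriv : Subsingleton R
  · exact indSmooth_of_subsingleton R Λ
  haveI : Nontrivial R := not_subsingleton_iff_nontrivial.mp htriv
  by_cases hnil : nilradical R = ⊥
  swap
  · exact indSmooth_of_nilpotent (nilradical R) (IsNoetherianRing.isNilpotent_nilradical R)
      (hind _ hnil)
  haveI : IsReduced R := nilradical_eq_bot_iff.mp hnil
  obtain ⟨p₁, hp₁⟩ := Ideal.nonempty_minimalPrimes (I := (⊥ : Ideal R)) bot_ne_top
  haveI : p₁.IsPrime := hp₁.1.1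
  -- the localization at `p₁` is a field
  haveI : Ring.KrullDimLE 0 (Localization.AtPrime p₁) :=
    Ring.KrullDimLE.of_isLocalization p₁ hp₁ _
  have hfield : IsField (Localization.AtPrime p₁) := Ring.KrullDimLE.isField_of_isReduced
  have hmax : maximalIdeal (Localization.AtPrime p₁) = ⊥ :=
    (IsLocalRing.isField_iff_maximalIdeal_eq).mp hfield
  have hbij : Function.Bijective (IsScalarTower.toAlgHom R (Localization.AtPrime p₁)
      p₁.ResidueField) := by
    constructor
    · rw [injective_iff_map_eq_zero]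
      intro x hx
      have h3 : x ∈ maximalIdeal (Localization.AtPrime p₁) := by
        rw [← IsLocalRing.residue_eq_zero_iff]
        exact hx
      rw [hmax] at h3
      exact h3
    · exact IsLocalRing.residue_surjective
  let e : Localization.AtPrime p₁ ≃ₐ[R] p₁.ResidueField := AlgEquiv.ofBijective _ hbij
  haveI : IsLocalization p₁.primeCompl p₁.ResidueField :=
    IsLocalization.isLocalization_of_algEquiv p₁.primeCompl e
  obtain ⟨hN, hgr⟩ := hreg.2 p₁
  haveI := hN
  have hindK : IndSmooth p₁.ResidueField (p₁.Fiber Λ) := hF _ _ hgr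
  intro A _ _ hA φ
  haveI := hA
  obtain ⟨B', _, _, hB', g, h, hgh⟩ := hindK (p₁.ResidueField ⊗[R] A) inferInstance
    (Algebra.TensorProduct.map (AlgHom.id p₁.ResidueField p₁.ResidueField) φ)
  haveI := hB'
  obtain ⟨B, _, _, α, β, hβα, s, hs, hstd⟩ :=
    Groth.Agent.S2029.result φ p₁.primeCompl g h hgh
  haveI : Algebra.FinitePresentation R B := by
    obtain ⟨P, -, -⟩ := hstd
    exact fp_of_markedPresentation P
  have hstd' := Groth.Agent.Lib.helper10.SingIdeal.isStrictlyStandard_of_isElementaryStandard hstd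
  have hR : ∀ r : R, s ^ 2 * r = 0 → s * r = 0 := by
    intro r hr
    have h1 : (s * r) ^ 2 = 0 := by
      have : (s * r) ^ 2 = s ^ 2 * r * r := by ring
      rw [this, hr, zero_mul]
    exact (pow_eq_zero_iff two_ne_zero).mp h1
  have hΛ : ∀ x : Λ, s ^ 2 • x = 0 → s • x = 0 := fun x hx => ann_of_flat_reduced s x hx
  have hs8 : Ideal.span {s ^ 8} ≠ ⊥ := by
    intro h0
    rw [Ideal.span_singleton_eq_bot] at h0
    apply hs
    apply Ideal.IsPrime.mem_of_pow_mem inferInstance 8
    rw [h0]
    exact Ideal.zero_mem _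
  obtain ⟨B'', _, _, hsm, g'', h'', hgh''⟩ := factor_of_std β s hR hΛ hstd' (hind _ hs8)
  exact ⟨B'', inferInstance, inferInstance, hsm, g''.comp α, h'', by
    rw [← AlgHom.comp_assoc, hgh'', hβα]⟩

theorem popescu_of_field_case
    (hF : ∀ (k Λ : Type u) [Field k] [CommRing Λ] [IsNoetherianRing Λ] [Algebra k Λ],
      CAlg.IsGeometricallyRegular k Λ → IndSmooth k Λ)
    {R Λ : Type u} [CommRing R] [IsNoetherianRing R] [CommRing Λ] [IsNoetherianRing Λ]
    [Algebra R Λ] (hreg : CAlg.IsRegularHom R Λ) : IndSmooth R Λ := by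
  have key : ∀ I : Ideal R, IndSmooth (R ⧸ I) (Λ ⧸ I.map (algebraMap R Λ)) := by
    intro I
    induction I using WellFoundedGT.induction with
    | ind I ih =>
      refine popescu_step hF (isRegularHom_quot hreg I) ?_
      intro J' hJ'
      have hIJ : I < J'.comap (Ideal.Quotient.mk I) := by
        refine lt_of_le_of_ne ?_ ?_
        · intro x hx
          rw [Ideal.mem_comap, Ideal.Quotient.eq_zero_iff_mem.mpr hx]
          exact Ideal.zero_mem _
        · intro heq
          apply hJ'
          rw [← Ideal.map_comap_of_surjective _ Ideal.Quotient.mk_surjective J', ← heq,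
            Ideal.map_quotient_self]
      have h1 := ih _ hIJ
      have h2 := indSmooth_doubleQuot (Λ := Λ) (J'.comap (Ideal.Quotient.mk I)) I hIJ.le h1
      rw [Ideal.map_comap_of_surjective _ Ideal.Quotient.mk_surjective J'] at h2
      exact h2
  exact popescu_step hF hreg (fun J _ => key J)

/-- **Popescu's theorem**. -/
theorem popescu {R Λ : Type u} [CommRing R] [IsNoetherianRing R] [CommRing Λ] [IsNoetherianRing Λ]
    [Algebra R Λ] (hreg : CAlg.IsRegularHom R Λ) : IndSmooth R Λ :=
  popescu_of_field_case (fun k Λ _ _ _ _ h => indSmooth_field k Λ h) hreg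

end Groth.Agent.Lib.Helper22.Pop
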