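import Mathlib
import Groth.Agent.Lib.Helper22.GeomRed2

/-!
# `k((T_1,…,T_r))` is geometrically reduced over `k` (helper22)
-/

set_option autoImplicit false
set_option linter.style.haveILetI false
universe u
noncomputable section
namespace Groth.Agent.Lib.Helper22.PowSerSep

open TensorProduct

variable (k k' : Type u) [Field k] [Field k'] [Algebra k k'] (σ : Type*)

/-- The comparison map `k[[T]] ⊗_k k' → k'[[T]]`. -/
def cmp : MvPowerSeries σ k ⊗[k] k' →ₐ[k] MvPowerSeries σ k' :=
  Algebra.TensorProduct.productMap (MvPowerSeries.mapAlgHom (Algebra.ofId k k'))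
    (IsScalarTower.toAlgHom k k' (MvPowerSeries σ k'))

theorem cmp_tmul (a : MvPowerSeries σ k) (c : k') :
    cmp k k' σ (a ⊗ₜ c) = MvPowerSeries.map (algebraMap k k') a * MvPowerSeries.C c := by
  simp [cmp, Algebra.TensorProduct.productMap_apply_tmul, MvPowerSeries.mapAlgHom_apply,
    MvPowerSeries.c_eq_algebraMap]

/-- For a finite extension `k'/k` the comparison map is injective. -/
theorem cmp_injective [Module.Finite k k'] : Function.Injective (cmp k k' σ) := by
  rw [injective_iff_map_eq_zero]
  intro z hz
  let b := Module.Free.chooseBasis k k'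
  obtain ⟨c, rfl⟩ := TensorProduct.eq_repr_basis_right b z
  suffices h : c = 0 by rw [h]; simp
  have hsum : (c.sum fun i a => MvPowerSeries.map (algebraMap k k') a * MvPowerSeries.C (b i)) = 0 := by
    rw [← hz]
    simp only [Finsupp.sum]
    rw [map_sum]
    refine Finset.sum_congr rfl fun i _ => ?_
    rw [cmp_tmul]
  ext i m
  have hm := congrArg (MvPowerSeries.coeff m) hsum
  rw [Finsupp.sum, map_sum, map_zero] at hm
  simp only [MvPowerSeries.coeff_mul_C, MvPowerSeries.coeff_map] at hm
  have hli := b.linearIndependent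
  rw [linearIndependent_iff'] at hli
  have := hli c.support (fun i => MvPowerSeries.coeff m (c i)) (by
    rw [← hm]
    refine Finset.sum_congr rfl fun i _ => ?_
    rw [Algebra.smul_def]) 
  by_cases hi : i ∈ c.support
  · simpa using this i hi
  · rw [Finsupp.notMem_support_iff.mp hi]
    simp

theorem isReduced_tensor_mvPowerSeries [Module.Finite k k'] :
    IsReduced (MvPowerSeries σ k ⊗[k] k') :=
  isReduced_of_injective (cmp k k' σ) (cmp_injective k k' σ)

theorem isReduced_tensor_fractionRing [Module.Finite k k'] :
    IsReduced (FractionRing (MvPowerSeries σ k) ⊗[k] k') := by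
  let A := MvPowerSeries σ k
  let K := FractionRing A
  letI alg : Algebra (A ⊗[k] k') (K ⊗[k] k') :=
    (Algebra.TensorProduct.map (IsScalarTower.toAlgHom k A K) (AlgHom.id k k')).toRingHom.toAlgebra
  haveI tw : IsScalarTower A (A ⊗[k] k') (K ⊗[k] k') :=
    ⟨fun a x y => by
      rw [Algebra.smul_def (a • x) y, Algebra.smul_def x y, ← smul_mul_assoc]
      congr 1
      change Algebra.TensorProduct.map (IsScalarTower.toAlgHom k A K) (AlgHom.id k k') (a • x) =
        a • Algebra.TensorProduct.map (IsScalarTower.toAlgHom k A K) (AlgHom.id k k') x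
      rw [Algebra.smul_def a x, map_mul, Algebra.smul_def a
        (Algebra.TensorProduct.map (IsScalarTower.toAlgHom k A K) (AlgHom.id k k') x)]
      congr 1⟩
  have H : (algebraMap (A ⊗[k] k') (K ⊗[k] k')).comp
      (Algebra.TensorProduct.includeRight : k' →ₐ[k] A ⊗[k] k').toRingHom =
      (Algebra.TensorProduct.includeRight : k' →ₐ[k] K ⊗[k] k').toRingHom := by
    ext c
    change Algebra.TensorProduct.map (IsScalarTower.toAlgHom k A K) (AlgHom.id k k')
      ((1 : A) ⊗ₜ[k] c) = (1 : K) ⊗ₜ[k] c
    simp
  haveI hloc : IsLocalization (Algebra.algebraMapSubmonoid (A ⊗[k] k') (nonZeroDivisors A))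
      (K ⊗[k] k') :=
    IsLocalization.tensorProduct_tensorProduct k k' (nonZeroDivisors A) K H
  haveI := isReduced_tensor_mvPowerSeries k k' σ
  exact isReduced_localizationPreserves
    (Algebra.algebraMapSubmonoid (A ⊗[k] k') (nonZeroDivisors A)) (K ⊗[k] k') inferInstance

/-- `k((T_1, …, T_r))` is geometrically reduced over `k`. -/
theorem isGeometricallyReduced_fractionRing_mvPowerSeries (σ : Type) :
    Algebra.IsGeometricallyReduced k (FractionRing (MvPowerSeries σ k)) := by
  apply Groth.Agent.Lib.Helper22.GeomRed2.isGeometricallyReduced_of_forall_purelyInseparable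
  intro k' _ _ _ _
  haveI := isReduced_tensor_fractionRing k k' σ
  exact isReduced_of_injective
    (Algebra.TensorProduct.comm k k' (FractionRing (MvPowerSeries σ k)))
    (Algebra.TensorProduct.comm k k' (FractionRing (MvPowerSeries σ k))).injective

end Groth.Agent.Lib.Helper22.PowSerSep
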