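import Mathlib
import Groth.Agent.Lib.Helper22.SchGeomConn12

/-!
# Irreducible components of a product of schemes over a field (helper22)

EGA IV 4.2-type statement: the irreducible components of `X ×_k Y` are the irreducible components
of the `X' ×_k Y'` for `X'`, `Y'` irreducible components of `X`, `Y`.
-/

set_option autoImplicit false
set_option linter.style.haveILetI false
universe u
noncomputable section
namespace Groth.Agent.Lib.Helper22.ProdComp

open CategoryTheory CategoryTheory.Limits AlgebraicGeometry
open Groth.Agent.Lib.Helper22.SchGeomConn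

variable {k : Type u} [Field k] {X Y : Scheme.{u}} (f : X ⟶ Spec (CommRingCat.of k))
  (g : Y ⟶ Spec (CommRingCat.of k))

/-- Generizations lift along the first projection inside a fibre of the second projection. -/
theorem exists_generization_fst (z : ↥(pullback f g)) (x₁ : X)
    (h : x₁ ⤳ pullback.fst f g z) :
    ∃ z₁ : ↥(pullback f g), z₁ ⤳ z ∧ pullback.fst f g z₁ = x₁ ∧
      pullback.snd f g z₁ = pullback.snd f g z := by
  set y := pullback.snd f g z with hy
  let j := Y.fromSpecResidueField y
  let ι := pullback.fst (pullback.snd f g) j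
  have hzr : z ∈ Set.range ι := by
    rw [Scheme.Pullback.range_fst, Scheme.range_fromSpecResidueField]
    exact hy.symm
  obtain ⟨z', hz'⟩ := hzr
  have hpb : IsPullback (ι ≫ pullback.fst f g) (pullback.snd (pullback.snd f g) j) f (j ≫ g) :=
    (IsPullback.of_hasPullback (pullback.snd f g) j).paste_horiz
      (IsPullback.of_hasPullback f g)
  haveI : Flat (j ≫ g) := inferInstance
  haveI : Flat (ι ≫ pullback.fst f g) :=
    MorphismProperty.of_isPullback (P := @Flat) hpb.flip inferInstance
  have hgen := Flat.generalizingMap (ι ≫ pullback.fst f g)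
  have h' : x₁ ⤳ (ι ≫ pullback.fst f g) z' := by
    rw [Scheme.Hom.comp_apply, hz']
    exact h
  obtain ⟨z₁', hz₁', hz₁'x⟩ := hgen h'
  refine ⟨ι z₁', ?_, ?_, ?_⟩
  · rw [← hz']
    exact hz₁'.map ι.continuous
  · rw [← Scheme.Hom.comp_apply]
    exact hz₁'x
  · have : pullback.snd f g (ι z₁') ∈ Set.range j := by
      rw [← Scheme.Hom.comp_apply, pullback.condition, Scheme.Hom.comp_apply]
      exact ⟨_, rfl⟩
    rw [Scheme.range_fromSpecResidueField] at this
    exact this

/-- Generizations lift along the second projection inside a fibre of the first projection. -/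
theorem exists_generization_snd (z : ↥(pullback f g)) (y₁ : Y)
    (h : y₁ ⤳ pullback.snd f g z) :
    ∃ z₁ : ↥(pullback f g), z₁ ⤳ z ∧ pullback.snd f g z₁ = y₁ ∧
      pullback.fst f g z₁ = pullback.fst f g z := by
  set x := pullback.fst f g z with hx
  let j := X.fromSpecResidueField x
  let ι := pullback.fst (pullback.fst f g) j
  have hzr : z ∈ Set.range ι := by
    rw [Scheme.Pullback.range_fst, Scheme.range_fromSpecResidueField]
    exact hx.symm
  obtain ⟨z', hz'⟩ := hzr
  have hpb : IsPullback (ι ≫ pullback.snd f g) (pullback.snd (pullback.fst f g) j) g (j ≫ f) :=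
    (IsPullback.of_hasPullback (pullback.fst f g) j).paste_horiz
      (IsPullback.of_hasPullback f g).flip
  haveI : Flat (j ≫ f) := inferInstance
  haveI : Flat (ι ≫ pullback.snd f g) :=
    MorphismProperty.of_isPullback (P := @Flat) hpb.flip inferInstance
  have hgen := Flat.generalizingMap (ι ≫ pullback.snd f g)
  have h' : y₁ ⤳ (ι ≫ pullback.snd f g) z' := by
    rw [Scheme.Hom.comp_apply, hz']
    exact h
  obtain ⟨z₁', hz₁', hz₁'x⟩ := hgen h'
  refine ⟨ι z₁', ?_, ?_, ?_⟩
  · rw [← hz']
    exact hz₁'.map ι.continuous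
  · rw [← Scheme.Hom.comp_apply]
    exact hz₁'x
  · have : pullback.fst f g (ι z₁') ∈ Set.range j := by
      rw [← Scheme.Hom.comp_apply, pullback.condition, Scheme.Hom.comp_apply]
      exact ⟨_, rfl⟩
    rw [Scheme.range_fromSpecResidueField] at this
    exact this

/-- EGA IV 4.2.x: irreducible components of `X ×_k Y`. -/
theorem mem_irreducibleComponents_pullback_iff (W : Set ↥(pullback f g)) :
    W ∈ irreducibleComponents ↥(pullback f g) ↔
      ∃ X' ∈ irreducibleComponents ↥X, ∃ Y' ∈ irreducibleComponents ↥Y,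
        Maximal (fun V : Set ↥(pullback f g) => IsIrreducible V ∧
          V ⊆ ⇑(pullback.fst f g) ⁻¹' X' ∩ ⇑(pullback.snd f g) ⁻¹' Y') W := by
  set p := pullback.fst f g with hp
  set q := pullback.snd f g with hq
  haveI : Flat f := inferInstance
  haveI : Flat g := inferInstance
  haveI : Flat p := inferInstance
  haveI : Flat q := inferInstance
  have hpg : GeneralizingMap p := Flat.generalizingMap p
  have hqg : GeneralizingMap q := Flat.generalizingMap q
  constructor
  · intro hW
    have hWcl : IsClosed W := isClosed_of_mem_irreducibleComponents W hW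
    set ζ := hW.1.genericPoint with hζdef
    have hζ : IsGenericPoint ζ W := hW.1.isGenericPoint_genericPoint hWcl
    have hζc : closure {ζ} ∈ irreducibleComponents ↥(pullback f g) := by
      rw [hζ.def]; exact hW
    refine ⟨closure {p ζ},
      closure_singleton_mem_irreducibleComponents_of_generalizingMap p hpg ζ hζc,
      closure {q ζ},
      closure_singleton_mem_irreducibleComponents_of_generalizingMap q hqg ζ hζc, ?_⟩
    refine ⟨⟨hW.1, ?_⟩, fun V hV hWV => hW.2 hV.1 hWV⟩
    rw [← hζ.def]
    apply closure_minimal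
    · rw [Set.singleton_subset_iff]
      exact ⟨subset_closure rfl, subset_closure rfl⟩
    · exact (isClosed_closure.preimage p.continuous).inter (isClosed_closure.preimage q.continuous)
  · rintro ⟨X', hX', Y', hY', hmax⟩
    have hX'cl : IsClosed X' := isClosed_of_mem_irreducibleComponents X' hX'
    have hY'cl : IsClosed Y' := isClosed_of_mem_irreducibleComponents Y' hY'
    set S : Set ↥(pullback f g) := ⇑p ⁻¹' X' ∩ ⇑q ⁻¹' Y' with hS
    have hScl : IsClosed S := (hX'cl.preimage p.continuous).inter (hY'cl.preimage q.continuous)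
    have hWirr : IsIrreducible W := hmax.1.1
    have hWS : W ⊆ S := hmax.1.2
    have hWcl : IsClosed W := by
      have h1 : closure W ⊆ W :=
        hmax.2 ⟨hWirr.closure, closure_minimal hWS hScl⟩ subset_closure
      exact closure_eq_iff_isClosed.mp (subset_antisymm h1 subset_closure)
    set ω := hWirr.genericPoint with hωdef
    have hω : IsGenericPoint ω W := hWirr.isGenericPoint_genericPoint hWcl
    have hωS : ω ∈ S := hWS hω.mem
    set ξ' := hX'.1.genericPoint
    have hξ' : IsGenericPoint ξ' X' := hX'.1.isGenericPoint_genericPoint hX'cl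
    set η' := hY'.1.genericPoint
    have hη' : IsGenericPoint η' Y' := hY'.1.isGenericPoint_genericPoint hY'cl
    -- key: a generization of `ω` inside `S` equals `ω`
    have key : ∀ z₁ : ↥(pullback f g), z₁ ⤳ ω → z₁ ∈ S → z₁ = ω := by
      intro z₁ hz₁ hz₁S
      have h1 : W ⊆ closure {z₁} := by
        rw [← hω.def]
        exact specializes_iff_closure_subset.mp hz₁
      have h2 : closure {z₁} ⊆ W :=
        hmax.2 ⟨isIrreducible_singleton.closure,
          closure_minimal (Set.singleton_subset_iff.mpr hz₁S) hScl⟩ h1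
      have h3 : ω ⤳ z₁ := by
        rw [specializes_iff_mem_closure, hω.def]
        exact h2 (subset_closure rfl)
      exact (hz₁.antisymm h3).eq
    have hpω : p ω = ξ' := by
      have h1 : ξ' ⤳ p ω := hξ'.specializes hωS.1
      obtain ⟨z₁, hz₁, hz₁p, hz₁q⟩ := exists_generization_fst f g ω ξ' h1
      have hz₁S : z₁ ∈ S := by
        refine ⟨?_, ?_⟩
        · change p z₁ ∈ X'
          rw [hz₁p]; exact hξ'.mem
        · change q z₁ ∈ Y'
          rw [hz₁q]; exact hωS.2
      rw [← key z₁ hz₁ hz₁S]
      exact hz₁p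
    have hqω : q ω = η' := by
      have h1 : η' ⤳ q ω := hη'.specializes hωS.2
      obtain ⟨z₁, hz₁, hz₁q, hz₁p⟩ := exists_generization_snd f g ω η' h1
      have hz₁S : z₁ ∈ S := by
        refine ⟨?_, ?_⟩
        · change p z₁ ∈ X'
          rw [hz₁p]; exact hωS.1
        · change q z₁ ∈ Y'
          rw [hz₁q]; exact hη'.mem
      rw [← key z₁ hz₁ hz₁S]
      exact hz₁q
    obtain ⟨W₁, hW₁, hWW₁⟩ := exists_mem_irreducibleComponents_subset_of_isIrreducible W hWirr
    have hW₁cl : IsClosed W₁ := isClosed_of_mem_irreducibleComponents W₁ hW₁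
    set ζ₁ := hW₁.1.genericPoint
    have hζ₁ : IsGenericPoint ζ₁ W₁ := hW₁.1.isGenericPoint_genericPoint hW₁cl
    have hζ₁ω : ζ₁ ⤳ ω := hζ₁.specializes (hWW₁ hω.mem)
    have hpζ₁ : p ζ₁ = ξ' :=
      eq_of_specializes_genericPoint_of_mem_irreducibleComponents hX' hξ'
        (hpω ▸ hζ₁ω.map p.continuous)
    have hqζ₁ : q ζ₁ = η' :=
      eq_of_specializes_genericPoint_of_mem_irreducibleComponents hY' hη'
        (hqω ▸ hζ₁ω.map q.continuous)
    have hζ₁S : ζ₁ ∈ S := by
      refine ⟨?_, ?_⟩
      · change p ζ₁ ∈ X'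
        rw [hpζ₁]; exact hξ'.mem
      · change q ζ₁ ∈ Y'
        rw [hqζ₁]; exact hη'.mem
    have hW₁S : W₁ ⊆ S := by
      rw [← hζ₁.def]
      exact closure_minimal (Set.singleton_subset_iff.mpr hζ₁S) hScl
    have hW₁W : W₁ ⊆ W := hmax.2 ⟨hW₁.1, hW₁S⟩ hWW₁
    rw [subset_antisymm hWW₁ hW₁W]
    exact hW₁

end Groth.Agent.Lib.Helper22.ProdComp
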