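import Mathlib
import Groth.Agent.Lib.Helper5.StalkBCH
import Groth.Agent.Lib.Helper22.SchGeomRed
import Groth.Agent.S4628

/-!
# Reducedness of products at geometrically reduced points (helper22)
-/

set_option autoImplicit false
set_option linter.style.haveILetI false
universe u
noncomputable section
namespace Groth.Agent.Lib.Helper22.ProdRed

open CategoryTheory CategoryTheory.Limits AlgebraicGeometry

/-- If `X` is geometrically reduced at `x` and `Y` is reduced, then `X ×_k Y` has reduced local
rings at all points above `x`. -/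
theorem isReduced_stalk_pullback (k : Type u) [Field k] (X : Scheme.{u})
    [X.Over (Spec (CommRingCat.of k))] {Y : Scheme.{u}} (g : Y ⟶ Spec (CommRingCat.of k))
    [AlgebraicGeometry.IsReduced Y]
    (x : ↥X) (hx : Curv2.IsGeomReducedAt k X x)
    (z : ↥(pullback (X ↘ (Spec (CommRingCat.of k))) g))
    (hz : pullback.fst (X ↘ (Spec (CommRingCat.of k))) g z = x) :
    _root_.IsReduced ↥((pullback (X ↘ (Spec (CommRingCat.of k))) g).presheaf.stalk z) := by
  letI algA : Algebra k ↑(X.presheaf.stalk x) := Curv2.stalkAlgebra k X x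
  haveI hA : Algebra.IsGeometricallyReduced k ↑(X.presheaf.stalk x) :=
    (Groth.Agent.Lib.Helper5.StalkBC.isGeomReducedAt_iff k X x).mp hx
  let j := X.fromSpecStalk x
  haveI hgr : GeometricallyReduced (Spec.map (CommRingCat.ofHom
      (algebraMap k ↑(X.presheaf.stalk x)))) :=
    Groth.Agent.Lib.Helper22.SchGeomRed.geometricallyReduced_specMap
  have hjf : j ≫ (X ↘ (Spec (CommRingCat.of k))) =
      Spec.map (CommRingCat.ofHom (algebraMap k ↑(X.presheaf.stalk x))) :=
    Groth.Agent.Lib.Helper5.StalkBC.fromSpecStalk_comp_over k X x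
  haveI : GeometricallyReduced (j ≫ (X ↘ (Spec (CommRingCat.of k)))) := by rw [hjf]; exact hgr
  haveI h1 : AlgebraicGeometry.IsReduced (pullback (j ≫ (X ↘ (Spec (CommRingCat.of k)))) g) :=
    Groth.Agent.S4628.result (j ≫ (X ↘ (Spec (CommRingCat.of k)))) g
  haveI h2 : AlgebraicGeometry.IsReduced
      (pullback j (pullback.fst (X ↘ (Spec (CommRingCat.of k))) g)) :=
    isReduced_of_isOpenImmersion
      (pullbackRightPullbackFstIso (X ↘ (Spec (CommRingCat.of k))) g j).hom
  have hzr : z ∈ Set.range (pullback.snd j (pullback.fst (X ↘ (Spec (CommRingCat.of k))) g)) := by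
    rw [Scheme.Pullback.range_snd, Scheme.range_fromSpecStalk]
    change pullback.fst (X ↘ (Spec (CommRingCat.of k))) g z ⤳ x
    rw [hz]
  obtain ⟨w, rfl⟩ := hzr
  have hbij := Groth.Agent.Lib.Helper5.StalkBC.stalkMap_bijective
    (pullback.snd j (pullback.fst (X ↘ (Spec (CommRingCat.of k))) g)) w
  exact isReduced_of_injective _ hbij.1

end Groth.Agent.Lib.Helper22.ProdRed
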