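import Mathlib
import Groth.Prelude.Def_EGA4b
import Groth.Agent.Lib.Helper22.QFFibB
import Groth.Agent.Lib.Helper12.HensRegC
import Groth.Agent.Lib.Helper12.HensQFMap

/-!
# Geometric regularity of a single formal fibre passes to quasi-finite local algebras
(helper22), part C
-/

set_option autoImplicit false
set_option linter.unusedSectionVars false
set_option linter.style.haveILetI false
universe u

namespace Groth.Agent.Lib.Helper22.QFFib

open IsLocalRing TensorProduct

attribute [local instance] Algebra.TensorProduct.rightAlgebra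

variable (A B : Type u) [CommRing A] [CommRing B] [IsNoetherianRing A] [IsNoetherianRing B]
  [IsLocalRing A] [IsLocalRing B] [Algebra A B] [IsLocalHom (algebraMap A B)]
  [Algebra.EssFiniteType A B] [Algebra.QuasiFinite A B]

set_option maxHeartbeats 800000 in
theorem isGeometricallyRegular_formalFibre_aux
    (Cn : Type u) [CommRing Cn] [Algebra (B ⊗[A] EGA4.Cpl A) Cn]
    [IsLocalization.AtPrime Cn (nIdeal A B)] [IsLocalRing Cn]
    [Algebra B Cn] [IsScalarTower B (B ⊗[A] EGA4.Cpl A) Cn]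
    [Algebra (EGA4.Cpl A) Cn] [IsScalarTower (EGA4.Cpl A) (B ⊗[A] EGA4.Cpl A) Cn]
    (Q' : Ideal B) [Q'.IsPrime]
    (h : CAlg.IsGeometricallyRegular (Q'.comap (algebraMap A B)).ResidueField
      (EGA4.formalFibre A (Q'.comap (algebraMap A B)))) :
    CAlg.IsGeometricallyRegular Q'.ResidueField (EGA4.formalFibre B Q') := by
  intro K' _ _ hfin
  let f : (Q'.comap (algebraMap A B)).ResidueField →ₐ[A] Q'.ResidueField :=
    Ideal.ResidueField.mapₐ (Q'.comap (algebraMap A B)) Q' (Algebra.ofId A B) rfl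
  letI algQQ' : Algebra (Q'.comap (algebraMap A B)).ResidueField Q'.ResidueField :=
    f.toRingHom.toAlgebra
  haveI : IsScalarTower A (Q'.comap (algebraMap A B)).ResidueField Q'.ResidueField :=
    .of_algebraMap_eq (fun a => (f.commutes a).symm)
  -- finiteness of the residue field extension
  haveI : Algebra.QuasiFinite A Q'.ResidueField := inferInstance
  haveI : Algebra.QuasiFinite (Q'.comap (algebraMap A B)).ResidueField Q'.ResidueField :=
    .of_restrictScalars A _ _
  haveI : Module.Finite (Q'.comap (algebraMap A B)).ResidueField Q'.ResidueField :=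
    Module.Finite.of_quasiFinite
  -- `K'` as an algebra over `κ(Q)`, `B`, `A`
  letI : Algebra (Q'.comap (algebraMap A B)).ResidueField K' :=
    ((algebraMap Q'.ResidueField K').comp
      (algebraMap (Q'.comap (algebraMap A B)).ResidueField Q'.ResidueField)).toAlgebra
  haveI : IsScalarTower (Q'.comap (algebraMap A B)).ResidueField Q'.ResidueField K' :=
    .of_algebraMap_eq (fun _ => rfl)
  haveI hfin' : Module.Finite (Q'.comap (algebraMap A B)).ResidueField K' :=
    Module.Finite.trans Q'.ResidueField K'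
  letI : Algebra B K' :=
    ((algebraMap Q'.ResidueField K').comp (algebraMap B Q'.ResidueField)).toAlgebra
  haveI : IsScalarTower B Q'.ResidueField K' := .of_algebraMap_eq (fun _ => rfl)
  letI : Algebra A K' := ((algebraMap B K').comp (algebraMap A B)).toAlgebra
  haveI : IsScalarTower A B K' := .of_algebraMap_eq (fun _ => rfl)
  haveI : IsScalarTower A (Q'.comap (algebraMap A B)).ResidueField K' :=
    .of_algebraMap_eq (fun a => by
      change algebraMap Q'.ResidueField K' (algebraMap B Q'.ResidueField (algebraMap A B a)) =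
        algebraMap Q'.ResidueField K' (f (algebraMap A _ a))
      rw [f.commutes, ← IsScalarTower.algebraMap_apply A B Q'.ResidueField])
  -- step 1
  have h1 : IsRegularRing (K' ⊗[(Q'.comap (algebraMap A B)).ResidueField]
      ((Q'.comap (algebraMap A B)).ResidueField ⊗[A] EGA4.Cpl A)) := h K' hfin'
  -- step 2
  let e2 : K' ⊗[(Q'.comap (algebraMap A B)).ResidueField]
      ((Q'.comap (algebraMap A B)).ResidueField ⊗[A] EGA4.Cpl A) ≃ₐ[K'] K' ⊗[A] EGA4.Cpl A :=
    Algebra.TensorProduct.cancelBaseChange A (Q'.comap (algebraMap A B)).ResidueField K' K'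
      (EGA4.Cpl A)
  have h2 : IsRegularRing (K' ⊗[A] EGA4.Cpl A) :=
    IsRegularRing.of_ringEquiv (R := K' ⊗[(Q'.comap (algebraMap A B)).ResidueField]
      ((Q'.comap (algebraMap A B)).ResidueField ⊗[A] EGA4.Cpl A)) e2.toRingEquiv
  -- step 3
  let e3 : K' ⊗[B] (B ⊗[A] EGA4.Cpl A) ≃ₐ[K'] K' ⊗[A] EGA4.Cpl A :=
    Algebra.TensorProduct.cancelBaseChange A B K' K' (EGA4.Cpl A)
  let e3' : (B ⊗[A] EGA4.Cpl A) ⊗[B] K' ≃ₐ[B] K' ⊗[B] (B ⊗[A] EGA4.Cpl A) :=
    Algebra.TensorProduct.comm B _ _
  haveI h3 : IsRegularRing ((B ⊗[A] EGA4.Cpl A) ⊗[B] K') :=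
    IsRegularRing.of_ringEquiv (R := K' ⊗[A] EGA4.Cpl A)
      (e3'.toRingEquiv.trans e3.toRingEquiv).symm
  -- step 4
  have h4 : IsRegularRing (Cn ⊗[B] K') :=
    Groth.Agent.Lib.Helper12.HensReg.isRegularRing_tensor_of_isLocalization B
      (B ⊗[A] EGA4.Cpl A) K' (Cn) (nIdeal A B).primeCompl
  -- step 5
  obtain ⟨e⟩ := nonempty_cpl_algEquiv A B (Cn)
  let e5 : K' ⊗[B] EGA4.Cpl B ≃ₐ[B] Cn ⊗[B] K' :=
    (Algebra.TensorProduct.congr AlgEquiv.refl e).trans (Algebra.TensorProduct.comm B K' _)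
  have h5 : IsRegularRing (K' ⊗[B] EGA4.Cpl B) :=
    IsRegularRing.of_ringEquiv (R := Cn ⊗[B] K')
      e5.symm.toRingEquiv
  -- step 6
  let e6 : K' ⊗[Q'.ResidueField] (Q'.ResidueField ⊗[B] EGA4.Cpl B) ≃ₐ[K'] K' ⊗[B] EGA4.Cpl B :=
    Algebra.TensorProduct.cancelBaseChange B Q'.ResidueField K' K' (EGA4.Cpl B)
  exact IsRegularRing.of_ringEquiv (R := K' ⊗[B] EGA4.Cpl B) e6.symm.toRingEquiv

theorem isGeometricallyRegular_formalFibre_of_quasiFinite
    (Q' : Ideal B) [Q'.IsPrime]
    (h : CAlg.IsGeometricallyRegular (Q'.comap (algebraMap A B)).ResidueField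
      (EGA4.formalFibre A (Q'.comap (algebraMap A B)))) :
    CAlg.IsGeometricallyRegular Q'.ResidueField (EGA4.formalFibre B Q') :=
  isGeometricallyRegular_formalFibre_aux A B (Localization.AtPrime (nIdeal A B)) Q' h

end Groth.Agent.Lib.Helper22.QFFib
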