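import Mathlib
import Groth.Prelude.Def_CAlg2
import Groth.Prelude.Def_EGA4Misc
import Groth.Agent.Lib.Helper9.BiratLib
import Groth.Agent.Lib.Helper22.RadPtAlg

/-!
# Affine translation for S5865: birational / radicial for `Spec.map φ` in terms of algebra
-/

set_option autoImplicit false
set_option linter.style.haveILetI false
set_option linter.unusedSectionVars false
universe u

namespace Groth.Agent.Lib.Helper22.RadPtAff

open IsLocalRing CategoryTheory AlgebraicGeometry Groth.Agent.Lib.Helper9.BiratLib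

section ev

variable (R : CommRingCat.{u}) (p : PrimeSpectrum R)

/-- evaluation of a ring element in the residue field of a point of `Spec R` -/
noncomputable def ev : R →+* (Spec R).residueField p :=
  ((Scheme.ΓSpecIso R).inv ≫ (Spec R).Γevaluation p).hom

theorem ev_eq (r : R) : ev R p r =
    (Scheme.Spec.residueFieldIso R p).inv (algebraMap R p.asIdeal.ResidueField r) := by
  have h := Scheme.Spec.algebraMap_residueFieldIso_inv R p
  have h2 := congr($(h).hom r)
  exact h2.symm

theorem ev_eq_zero_iff (r : R) : ev R p r = 0 ↔ r ∈ p.asIdeal := by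
  rw [ev_eq]
  have hinj : Function.Injective (Scheme.Spec.residueFieldIso R p).inv.hom :=
    (Scheme.Spec.residueFieldIso R p).symm.commRingCatIsoToRingEquiv.injective
  constructor
  · intro h
    have h1 : algebraMap R p.asIdeal.ResidueField r = 0 := hinj (by rw [map_zero]; exact h)
    exact Ideal.algebraMap_residueField_eq_zero.mp h1
  · intro h
    have h1 : algebraMap R p.asIdeal.ResidueField r = 0 :=
      Ideal.algebraMap_residueField_eq_zero.mpr h
    rw [h1, map_zero]

theorem ev_frac (z : (Spec R).residueField p) :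
    ∃ r s : R, s ∉ p.asIdeal ∧ z * ev R p s = ev R p r := by
  let w := (Scheme.Spec.residueFieldIso R p).hom z
  obtain ⟨x, y, hy, hxy⟩ := IsFractionRing.div_surjective (A := R ⧸ p.asIdeal) w
  obtain ⟨r, rfl⟩ := Ideal.Quotient.mk_surjective x
  obtain ⟨s, rfl⟩ := Ideal.Quotient.mk_surjective y
  have hs : s ∉ p.asIdeal := by
    intro hs
    have : Ideal.Quotient.mk p.asIdeal s = 0 := Ideal.Quotient.eq_zero_iff_mem.mpr hs
    exact nonZeroDivisors.ne_zero hy this
  refine ⟨r, s, hs, ?_⟩
  have hs0 : algebraMap (R ⧸ p.asIdeal) p.asIdeal.ResidueField (Ideal.Quotient.mk p.asIdeal s) ≠ 0 := by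
    intro h0
    exact nonZeroDivisors.ne_zero hy
      (IsFractionRing.injective (R ⧸ p.asIdeal) p.asIdeal.ResidueField (by rw [h0, map_zero]))
  have h1 : w * algebraMap R p.asIdeal.ResidueField s = algebraMap R p.asIdeal.ResidueField r := by
    rw [← hxy]
    have e1 : algebraMap (R ⧸ p.asIdeal) p.asIdeal.ResidueField (Ideal.Quotient.mk p.asIdeal s) =
        algebraMap R p.asIdeal.ResidueField s := rfl
    have e2 : algebraMap (R ⧸ p.asIdeal) p.asIdeal.ResidueField (Ideal.Quotient.mk p.asIdeal r) =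
        algebraMap R p.asIdeal.ResidueField r := rfl
    rw [← e1, ← e2, div_mul_cancel₀ _ hs0]
  rw [ev_eq, ev_eq]
  have h2 := congrArg (Scheme.Spec.residueFieldIso R p).inv.hom h1
  rw [map_mul] at h2
  have h3 : (Scheme.Spec.residueFieldIso R p).inv.hom w = z := by
    change ((Scheme.Spec.residueFieldIso R p).hom ≫ (Scheme.Spec.residueFieldIso R p).inv) z = z
    rw [Iso.hom_inv_id]
    rfl
  rw [h3] at h2
  exact h2

end ev

theorem ev_natural {A B : CommRingCat.{u}} (φ : A ⟶ B) (q : Spec B) (a : A) :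
    (Spec.map φ).residueFieldMap q (ev A ((Spec.map φ) q) a) = ev B q (φ a) := by
  unfold ev
  have h := Scheme.Γevaluation_naturality_apply (Spec.map φ) q ((Scheme.ΓSpecIso A).inv a)
  have h2 : (Spec.map φ).appTop ((Scheme.ΓSpecIso A).inv a) = (Scheme.ΓSpecIso B).inv (φ a) := by
    have := Scheme.ΓSpecIso_inv_naturality φ
    exact (congr($(this).hom a)).symm
  rw [h2] at h
  exact h

section generic

variable (R : CommRingCat.{u})

theorem mem_generic_iff (p : PrimeSpectrum R) :
    (show ↥(Spec R) from p) ∈ genericPoints ↥(Spec R) ↔ ∀ p' : PrimeSpectrum R, p' ≤ p → p' = p := by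
  rw [mem_genericPoints_iff]
  constructor
  · intro h p' hp'
    exact h p' ((PrimeSpectrum.le_iff_specializes p' p).mp hp')
  · intro h p' hp'
    exact h p' ((PrimeSpectrum.le_iff_specializes p' p).mpr hp')

theorem generic_of_nilradical_prime (h : (nilradical R).IsPrime) :
    genericPoints ↥(Spec R) = {(show ↥(Spec R) from (⟨nilradical R, h⟩ : PrimeSpectrum R))} := by
  ext p
  let p' : PrimeSpectrum R := p
  let p₀ : PrimeSpectrum R := ⟨nilradical R, h⟩
  have hle : ∀ x : PrimeSpectrum R, p₀ ≤ x := fun x => nilradical_le_prime x.asIdeal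
  constructor
  · intro hp
    have := (mem_generic_iff R p').mp hp p₀ (hle p')
    exact this.symm
  · intro hp
    have hp2 : p' = p₀ := hp
    refine (mem_generic_iff R p').mpr ?_
    intro x hx
    rw [hp2] at hx ⊢
    exact le_antisymm hx (hle x)

theorem nilradical_eq_of_generic (p : PrimeSpectrum R)
    (h : genericPoints ↥(Spec R) = {(show ↥(Spec R) from p)}) : nilradical R = p.asIdeal := by
  refine le_antisymm (nilradical_le_prime p.asIdeal) ?_
  intro x hx
  rw [nilradical_eq_sInf, Ideal.mem_sInf]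
  intro J hJ
  let j : PrimeSpectrum R := ⟨J, hJ⟩
  obtain ⟨z, hz, hzj⟩ := exists_genericPoint_specializes (show ↥(Spec R) from j)
  rw [h] at hz
  have hz' : z = p := hz
  rw [hz'] at hzj
  have hle : p ≤ j := (PrimeSpectrum.le_iff_specializes p j).mpr hzj
  exact hle hx

end generic

section bir

variable {A B : CommRingCat.{u}} (φ : A ⟶ B)

/-- under birationality, unique generic points correspond -/
theorem bir_generic (hbir : RadPt.IsBirational (Spec.map φ))
    (h : (nilradical A).IsPrime ∨ (nilradical B).IsPrime) :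
    ∃ (p₀ : PrimeSpectrum A) (q₀ : PrimeSpectrum B),
      genericPoints ↥(Spec A) = {(show ↥(Spec A) from p₀)} ∧
      genericPoints ↥(Spec B) = {(show ↥(Spec B) from q₀)} ∧
      (Spec.map φ) q₀ = p₀ := by
  obtain ⟨hbij, -⟩ := hbir
  rcases h with hA | hB
  · have hgA := generic_of_nilradical_prime A hA
    set p₀ : PrimeSpectrum A := ⟨nilradical A, hA⟩
    have hp₀ : (show ↥(Spec A) from p₀) ∈ genericPoints ↥(Spec A) := by rw [hgA]; rfl
    obtain ⟨q₀, hq₀, hq₀p⟩ := hbij.surjOn hp₀
    refine ⟨p₀, q₀, hgA, ?_, hq₀p⟩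
    ext q
    constructor
    · intro hq
      have h1 := hbij.mapsTo hq
      rw [hgA] at h1
      have h2 : (Spec.map φ) q = p₀ := h1
      exact hbij.injOn hq hq₀ (h2.trans hq₀p.symm)
    · intro hq
      have : q = q₀ := hq
      rw [this]
      exact hq₀
  · have hgB := generic_of_nilradical_prime B hB
    set q₀ : PrimeSpectrum B := ⟨nilradical B, hB⟩
    have hq₀ : (show ↥(Spec B) from q₀) ∈ genericPoints ↥(Spec B) := by rw [hgB]; rfl
    refine ⟨(Spec.map φ) q₀, q₀, ?_, hgB, rfl⟩
    ext p
    constructor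
    · intro hp
      obtain ⟨q, hq, hqp⟩ := hbij.surjOn hp
      rw [hgB] at hq
      have : q = q₀ := hq
      rw [← hqp, this]
      rfl
    · intro hp
      have : p = (Spec.map φ) q₀ := hp
      rw [this]
      exact hbij.mapsTo hq₀

theorem bir_alg (hbir : RadPt.IsBirational (Spec.map φ))
    (h : (nilradical A).IsPrime ∨ (nilradical B).IsPrime) :
    (nilradical B).IsPrime ∧ (∀ a : A, IsNilpotent (φ a) → IsNilpotent a) ∧
    (∀ b : B, ∃ s a : A, ¬ IsNilpotent s ∧ IsNilpotent (φ s * b - φ a)) := by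
  obtain ⟨p₀, q₀, hgA, hgB, hpq⟩ := bir_generic φ hbir h
  have hnA := nilradical_eq_of_generic A p₀ hgA
  have hnB := nilradical_eq_of_generic B q₀ hgB
  have hcomap : p₀.asIdeal = q₀.asIdeal.comap φ.hom := by
    rw [← hpq]
    rfl
  refine ⟨hnB ▸ q₀.isPrime, ?_, ?_⟩
  · intro a ha
    have h1 : φ a ∈ q₀.asIdeal := by
      rw [← hnB]
      exact mem_nilradical.mpr ha
    have h2 : a ∈ p₀.asIdeal := by
      rw [hcomap]
      exact h1
    rw [← hnA] at h2
    exact mem_nilradical.mp h2
  · intro b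
    have hp₀ : (show ↥(Spec A) from p₀) ∈ genericPoints ↥(Spec A) := by rw [hgA]; rfl
    have hbij := (hbir.2 p₀ hp₀).2 q₀ hpq
    obtain ⟨w, hw⟩ := hbij.2 (ev B q₀ b)
    obtain ⟨r, s, hs, hrs⟩ := ev_frac A ((Spec.map φ) q₀) w
    refine ⟨s, r, ?_, ?_⟩
    · intro hsn
      apply hs
      have : s ∈ nilradical A := mem_nilradical.mpr hsn
      rw [hnA, hcomap] at this
      exact this
    · have h1 := congrArg ((Spec.map φ).residueFieldMap q₀).hom hrs
      rw [map_mul] at h1
      have e1 := ev_natural φ q₀ s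
      have e2 := ev_natural φ q₀ r
      have h2 : ev B q₀ b * ev B q₀ (φ s) = ev B q₀ (φ r) := by
        rw [← hw, ← e1, ← e2]
        exact h1
      have h3 : ev B q₀ (φ s * b - φ r) = 0 := by
        rw [map_sub, map_mul, mul_comm, h2, sub_self]
      have h4 := (ev_eq_zero_iff B q₀ _).mp h3
      rw [← hnB] at h4
      exact mem_nilradical.mp h4

end bir

section rad

variable {A B : CommRingCat.{u}} [IsLocalRing A] (φ : A ⟶ B)

/-- the prime ideal of a point of `Spec R` -/
def idl (R : CommRingCat.{u}) (x : ↥(Spec R)) : Ideal R := PrimeSpectrum.asIdeal x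

theorem idl_map (x : ↥(Spec B)) : idl A ((Spec.map φ) x) = (idl B x).comap φ.hom := rfl

/-- the field hom from the residue field of `A` to the scheme-theoretic residue field at a point
over the closed point -/
theorem expChar_residueField (p : ↥(Spec A)) (hp : idl A p = maximalIdeal A) (q : ℕ)
    [ExpChar (ResidueField A) q] : ExpChar ((Spec A).residueField p) q := by
  let g : ResidueField A →+* (Spec A).residueField p :=
    Ideal.Quotient.lift (maximalIdeal A) (ev A p) (by
      intro a ha
      refine (ev_eq_zero_iff A p a).mpr ?_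
      change a ∈ idl A p
      rw [hp]
      exact ha)
  exact expChar_of_injective_ringHom g.injective q

theorem unit_of_notMem {R : Type u} [CommRing R] [IsLocalRing R] (s : R)
    (hs : s ∉ maximalIdeal R) : ∃ s' : R, s * s' = 1 := by
  have : IsUnit s := by
    by_contra h
    exact hs h
  obtain ⟨u, rfl⟩ := this
  exact ⟨↑u⁻¹, u.mul_inv⟩

theorem pi_of_rad [IsLocalRing B] (q : ℕ) [ExpChar (ResidueField A) q]
    (hrad : ∀ b : B, ∃ (n : ℕ) (a : A), b ^ (q ^ n) - φ a ∈ maximalIdeal B)
    (x : ↥(Spec B)) (hx : idl B x = maximalIdeal B)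
    (hxA : (idl B x).comap φ.hom = maximalIdeal A) :
    ((Spec.map φ).residueFieldMap x).hom.IsPurelyInseparable := by
  haveI : ExpChar ((Spec A).residueField ((Spec.map φ) x)) q :=
    expChar_residueField ((Spec.map φ) x) hxA q
  unfold RingHom.IsPurelyInseparable
  letI := ((Spec.map φ).residueFieldMap x).hom.toAlgebra
  rw [isPurelyInseparable_iff_pow_mem _ q]
  intro z
  obtain ⟨r, s, hs, hrs⟩ := ev_frac B x z
  have hs2 : s ∉ maximalIdeal B := by
    rw [← hx]
    exact hs
  obtain ⟨s', hs'⟩ := unit_of_notMem s hs2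
  have hz : z = ev B x (r * s') := by
    rw [map_mul, ← hrs, mul_assoc, ← map_mul, hs', map_one, mul_one]
  obtain ⟨n, a, hna⟩ := hrad (r * s')
  refine ⟨n, ev A ((Spec.map φ) x) a, ?_⟩
  rw [← hx] at hna
  have h0 := (ev_eq_zero_iff B x _).mpr hna
  rw [map_sub, map_pow, sub_eq_zero] at h0
  rw [hz, h0]
  exact ev_natural φ x a

theorem rad_of_pi [IsLocalRing B] (q : ℕ) [ExpChar (ResidueField A) q]
    (x : ↥(Spec B)) (hx : idl B x = maximalIdeal B)
    (hxA : (idl B x).comap φ.hom = maximalIdeal A)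
    (hpi : ((Spec.map φ).residueFieldMap x).hom.IsPurelyInseparable) :
    ∀ b : B, ∃ (n : ℕ) (a : A), b ^ (q ^ n) - φ a ∈ maximalIdeal B := by
  haveI : ExpChar ((Spec A).residueField ((Spec.map φ) x)) q :=
    expChar_residueField ((Spec.map φ) x) hxA q
  unfold RingHom.IsPurelyInseparable at hpi
  letI := ((Spec.map φ).residueFieldMap x).hom.toAlgebra
  rw [isPurelyInseparable_iff_pow_mem _ q] at hpi
  intro b
  obtain ⟨n, w, hw⟩ := hpi (ev B x b)
  obtain ⟨r, s, hs, hrs⟩ := ev_frac A ((Spec.map φ) x) w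
  have hs2 : s ∉ maximalIdeal A := by
    rw [← hxA]
    exact hs
  obtain ⟨s', hs'⟩ := unit_of_notMem s hs2
  have hwz : w = ev A ((Spec.map φ) x) (r * s') := by
    rw [map_mul, ← hrs, mul_assoc, ← map_mul, hs', map_one, mul_one]
  refine ⟨n, r * s', ?_⟩
  rw [← hx]
  refine (ev_eq_zero_iff B x _).mp ?_
  rw [map_sub, map_pow, sub_eq_zero, ← hw, hwz]
  exact ev_natural φ x (r * s')

/-- points over the closed point are maximal -/
theorem asIdeal_of_over (hint : φ.hom.IsIntegral) [IsLocalRing B] (x : ↥(Spec B))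
    (hx : (Spec.map φ) x = closedPoint A) : idl B x = maximalIdeal B := by
  have h1 : (idl B x).comap φ.hom = maximalIdeal A := by
    rw [← idl_map, hx]
    rfl
  haveI : (idl B x).IsPrime := PrimeSpectrum.isPrime x
  have hmax : ((idl B x).comap φ.hom).IsMaximal := by
    rw [h1]
    exact maximalIdeal.isMaximal A
  have := Ideal.isMaximal_of_isIntegral_of_isMaximal_comap' φ.hom hint (idl B x) hmax
  exact eq_maximalIdeal this

theorem comap_of_max (hint : φ.hom.IsIntegral) (n : Ideal B) [n.IsMaximal] :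
    n.comap φ.hom = maximalIdeal A :=
  eq_maximalIdeal (Ideal.isMaximal_comap_of_isIntegral_of_isMaximal' φ.hom hint n)

theorem radicial_of_alg (hint : φ.hom.IsIntegral) [IsLocalRing B] (q : ℕ)
    [ExpChar (ResidueField A) q]
    (hrad : ∀ b : B, ∃ (n : ℕ) (a : A), b ^ (q ^ n) - φ a ∈ maximalIdeal B) :
    RadPt.IsRadicialAt (Spec.map φ) (closedPoint A) := by
  refine ⟨?_, ?_⟩
  · intro x x' hx hx'
    have h1 := asIdeal_of_over φ hint x hx
    have h2 := asIdeal_of_over φ hint x' hx'
    exact PrimeSpectrum.ext (h1.trans h2.symm)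
  · intro x hx
    have h1 := asIdeal_of_over φ hint x hx
    refine pi_of_rad φ q hrad x h1 ?_
    rw [h1]
    exact comap_of_max φ hint _

theorem isLocalRing_of_radicial (hint : φ.hom.IsIntegral) [Nontrivial B]
    (h : RadPt.IsRadicialAt (Spec.map φ) (closedPoint A)) : IsLocalRing B := by
  obtain ⟨n₀, hn₀⟩ := Ideal.exists_maximal B
  refine IsLocalRing.of_unique_max_ideal ⟨n₀, hn₀, ?_⟩
  intro n hn
  let x : PrimeSpectrum B := ⟨n, hn.isPrime⟩
  let x₀ : PrimeSpectrum B := ⟨n₀, hn₀.isPrime⟩
  have hx : (Spec.map φ) x = closedPoint A :=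
    PrimeSpectrum.ext (comap_of_max φ hint n)
  have hx₀ : (Spec.map φ) x₀ = closedPoint A :=
    PrimeSpectrum.ext (comap_of_max φ hint n₀)
  have := h.1 x x₀ hx hx₀
  exact congrArg PrimeSpectrum.asIdeal this

end rad

end Groth.Agent.Lib.Helper22.RadPtAff
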