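import Mathlib
import Groth.Prelude.Def_CAlg2
import Groth.Prelude.Def_EGA4Misc
import Groth.Agent.Lib.Helper22.RadPtAff

/-!
# Affine case of S5865
-/

set_option autoImplicit false
set_option linter.style.haveILetI false
set_option linter.unusedSectionVars false
universe u

namespace Groth.Agent.Lib.Helper22.RadPtAffMain

open IsLocalRing CategoryTheory AlgebraicGeometry Groth.Agent.Lib.Helper9.BiratLib
  Groth.Agent.Lib.Helper22.RadPtAff Groth.Agent.Lib.Helper22.RadPtAlg

variable {A B : CommRingCat.{u}} [IsLocalRing A] (φ : A ⟶ B)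

theorem isDomain_red_iff (R : Type u) [CommRing R] :
    IsDomain (CAlg2.red R) ↔ (nilradical R).IsPrime :=
  Ideal.Quotient.isDomain_iff_prime _

theorem nontrivial_of_bir (hbir : RadPt.IsBirational (Spec.map φ)) : Nontrivial B := by
  obtain ⟨z, hz, -⟩ := exists_genericPoint_specializes (show ↥(Spec A) from closedPoint A)
  obtain ⟨x, -, -⟩ := hbir.1.surjOn hz
  let x' : PrimeSpectrum B := x
  by_contra hS
  rw [not_nontrivial_iff_subsingleton] at hS
  exact x'.isPrime.ne_top (Subsingleton.elim _ _)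

theorem gu_stalk_closedPoint_iff (R : CommRingCat.{u}) [IsLocalRing R] (x : ↥(Spec R))
    (hx : x = closedPoint R) :
    CAlg2.IsGeomUnibranch ((Spec R).presheaf.stalk x) ↔ CAlg2.IsGeomUnibranch R := by
  let e : (Spec R).presheaf.stalk x ≅ R :=
    (Spec R).presheaf.stalkCongr (.of_eq hx) ≪≫ stalkClosedPointIso R
  constructor
  · intro h
    exact Groth.Agent.Lib.lead.GUPack.of_ringEquiv e.symm.commRingCatIsoToRingEquiv h
  · intro h
    exact Groth.Agent.Lib.lead.GUPack.of_ringEquiv e.commRingCatIsoToRingEquiv h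

theorem affine_fwd (hint : φ.hom.IsIntegral) (hbir : RadPt.IsBirational (Spec.map φ))
    (hGU : CAlg2.IsGeomUnibranch A) :
    RadPt.IsRadicialAt (Spec.map φ) (closedPoint A) ∧
      ∀ x : ↥(Spec B), (Spec.map φ) x = closedPoint A →
        CAlg2.IsGeomUnibranch ((Spec B).presheaf.stalk x) := by
  have hdA : (nilradical A).IsPrime := (isDomain_red_iff A).mp hGU.1.1
  obtain ⟨hdB, hk, hf⟩ := bir_alg φ hbir (Or.inl hdA)
  haveI : IsDomain (CAlg2.red B) := (isDomain_red_iff B).mpr hdB
  letI : Algebra A B := φ.hom.toAlgebra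
  haveI : Algebra.IsIntegral A B := ⟨hint⟩
  haveI : ExpChar (ResidueField A) (ringExpChar (ResidueField A)) := ringExpChar.expChar _
  obtain ⟨hloc, hrad, hGUB⟩ := core_fwd A B hk hf (ringExpChar (ResidueField A)) hGU
  haveI := hloc
  refine ⟨radicial_of_alg φ hint (ringExpChar (ResidueField A)) hrad, ?_⟩
  intro x hx
  have h1 := asIdeal_of_over φ hint x hx
  have hx2 : x = closedPoint B := PrimeSpectrum.ext h1
  exact (gu_stalk_closedPoint_iff B x hx2).mpr hGUB

theorem affine_bwd (hint : φ.hom.IsIntegral) (hbir : RadPt.IsBirational (Spec.map φ))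
    (hrad : RadPt.IsRadicialAt (Spec.map φ) (closedPoint A))
    (hst : ∀ x : ↥(Spec B), (Spec.map φ) x = closedPoint A →
        CAlg2.IsGeomUnibranch ((Spec B).presheaf.stalk x)) :
    CAlg2.IsGeomUnibranch A := by
  haveI := nontrivial_of_bir φ hbir
  haveI hloc : IsLocalRing B := isLocalRing_of_radicial φ hint hrad
  have hx₀ : (Spec.map φ) (closedPoint B) = closedPoint A :=
    PrimeSpectrum.ext (comap_of_max φ hint (maximalIdeal B))
  have hGUB : CAlg2.IsGeomUnibranch B :=
    (gu_stalk_closedPoint_iff B _ rfl).mp (hst _ hx₀)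
  have hdB : (nilradical B).IsPrime := (isDomain_red_iff B).mp hGUB.1.1
  obtain ⟨-, hk, hf⟩ := bir_alg φ hbir (Or.inr hdB)
  haveI : IsDomain (CAlg2.red B) := hGUB.1.1
  letI : Algebra A B := φ.hom.toAlgebra
  haveI : Algebra.IsIntegral A B := ⟨hint⟩
  haveI : ExpChar (ResidueField A) (ringExpChar (ResidueField A)) := ringExpChar.expChar _
  have hr := rad_of_pi φ (ringExpChar (ResidueField A)) (closedPoint B) rfl
    (comap_of_max φ hint (maximalIdeal B)) (hrad.2 _ hx₀)
  exact core_bwd A B hk hf (ringExpChar (ResidueField A)) hr hGUB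

end Groth.Agent.Lib.Helper22.RadPtAffMain
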