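import Mathlib
import Groth.Prelude.Def_CAlg2
import Groth.Prelude.Def_EGA4Misc
import Groth.Agent.Lib.Helper22.RadPtAffMain
import Groth.Agent.Lib.Helper9.RadPtLib
import Groth.Agent.S5864
import Groth.Agent.S4366

/-!
# S5865: reduction to the local affine case by base change to `Spec O_{Y,y}`
-/

set_option autoImplicit false
set_option linter.style.haveILetI false
set_option linter.unusedSectionVars false
universe u

namespace Groth.Agent.Lib.Helper22.RadPtRed

open IsLocalRing CategoryTheory CategoryTheory.Limits AlgebraicGeometry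
  Groth.Agent.Lib.Helper22.RadPtAffMain Groth.Agent.Lib.Helper9.RadPtLib

theorem main {X Y : Scheme.{u}} (f : X ⟶ Y) [IsIntegralHom f] (hf : RadPt.IsBirational f) (y : Y) :
    CAlg2.IsGeomUnibranch (Y.presheaf.stalk y) ↔
      (RadPt.IsRadicialAt f y ∧
        ∀ x : X, f x = y → CAlg2.IsGeomUnibranch (X.presheaf.stalk x)) := by
  let A : CommRingCat.{u} := Y.presheaf.stalk y
  let g : Spec A ⟶ Y := Y.fromSpecStalk y
  haveI : Flat g := Groth.Agent.S4366.flat_fromSpecStalk Y y
  haveI : IsIntegralHom (pullback.snd f g) := inferInstance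
  haveI : IsAffine (pullback f g) := isAffine_of_isAffineHom (pullback.snd f g)
  let B : CommRingCat.{u} := Γ(pullback f g, ⊤)
  let e : pullback f g ≅ Spec B := (pullback f g).isoSpec
  let f'' : Spec B ⟶ Spec A := e.inv ≫ pullback.snd f g
  let g'' : Spec B ⟶ X := e.inv ≫ pullback.fst f g
  let φ : A ⟶ B := Spec.preimage f''
  have hφ : Spec.map φ = f'' := Spec.map_preimage f''
  have sq : IsPullback g'' (Spec.map φ) f g := by
    rw [hφ]
    refine IsPullback.of_iso_pullback ⟨?_⟩ e.symm ?_ ?_
    · simp only [g'', f'', Category.assoc, pullback.condition]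
    · rfl
    · rfl
  have hbir : RadPt.IsBirational (Spec.map φ) := Groth.Agent.S5864.result sq hf
  have hint : φ.hom.IsIntegral := by
    have : IsIntegralHom (Spec.map φ) := by
      rw [hφ]
      infer_instance
    exact IsIntegralHom.SpecMap_iff.mp this
  have hy : g (closedPoint A) = y := Scheme.fromSpecStalk_closedPoint
  have hradiff : RadPt.IsRadicialAt f y ↔ RadPt.IsRadicialAt (Spec.map φ) (closedPoint A) := by
    have := isRadicialAt_iff_of_isPullback sq (closedPoint A)
    rwa [hy] at this
  have hiso : ∀ x' : ↥(Spec B), IsIso (g''.stalkMap x') := by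
    intro x'
    have h1 : IsIso ((pullback.fst f g).stalkMap (e.inv x')) :=
      Groth.Agent.S4366.result f y (e.inv x')
    have h2 : IsIso (e.inv.stalkMap x') := inferInstance
    change IsIso ((e.inv ≫ pullback.fst f g).stalkMap x')
    rw [Scheme.Hom.stalkMap_comp]
    exact @IsIso.comp_isIso _ _ _ _ _ _ _ h1 h2
  have hcomm : ∀ x' : ↥(Spec B), f (g'' x') = g ((Spec.map φ) x') := by
    intro x'
    have := congrArg (fun h => h x') sq.w
    simpa only [Scheme.Hom.comp_apply] using this
  have hstalk : (∀ x : X, f x = y → CAlg2.IsGeomUnibranch (X.presheaf.stalk x)) ↔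
      (∀ x' : ↥(Spec B), (Spec.map φ) x' = closedPoint A →
        CAlg2.IsGeomUnibranch ((Spec B).presheaf.stalk x')) := by
    constructor
    · intro h x' hx'
      have hx : f (g'' x') = y := by rw [hcomm, hx', hy]
      haveI := hiso x'
      exact Groth.Agent.Lib.lead.GUPack.of_ringEquiv
        (asIso (g''.stalkMap x')).symm.commRingCatIsoToRingEquiv (h _ hx)
    · intro h x hx
      obtain ⟨t, ht1, ht2⟩ := Scheme.Pullback.exists_preimage_pullback (f := f) (g := g) x
        (closedPoint A) (hx.trans hy.symm)
      have h1 : g'' (e.hom t) = x := by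
        change (e.inv ≫ pullback.fst f g) (e.hom t) = x
        rw [Scheme.Hom.comp_apply, ← Scheme.Hom.comp_apply e.hom e.inv, e.hom_inv_id]
        exact ht1
      have h2 : (Spec.map φ) (e.hom t) = closedPoint A := by
        rw [hφ]
        change (e.inv ≫ pullback.snd f g) (e.hom t) = _
        rw [Scheme.Hom.comp_apply, ← Scheme.Hom.comp_apply e.hom e.inv, e.hom_inv_id]
        exact ht2
      subst h1
      haveI := hiso (e.hom t)
      exact Groth.Agent.Lib.lead.GUPack.of_ringEquiv
        (asIso (g''.stalkMap (e.hom t))).commRingCatIsoToRingEquiv (h _ h2)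
  rw [hradiff, hstalk]
  exact ⟨affine_fwd φ hint hbir, fun h => affine_bwd φ hint hbir h.1 h.2⟩

end Groth.Agent.Lib.Helper22.RadPtRed
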