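import Mathlib

set_option autoImplicit false
set_option linter.style.haveILetI false
set_option linter.unusedSimpArgs false
universe u
noncomputable section
namespace Groth.Agent.Lib.Helper22.RadicalDeriv

open Finset

section
variable {R K : Type u} [CommRing R] [Field K] [Algebra R K]

/-- `y ∈ w^{-t} R`. -/
def InF (w : R) (t : ℕ) (y : K) : Prop := ∃ r : R, algebraMap R K r = algebraMap R K w ^ t * y

variable {w : R}

theorem InF.zero (t : ℕ) : InF w t (0 : K) := ⟨0, by simp⟩

theorem InF.add {t : ℕ} {y z : K} (hy : InF w t y) (hz : InF w t z) : InF w t (y + z) := by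
  obtain ⟨r, hr⟩ := hy
  obtain ⟨s, hs⟩ := hz
  exact ⟨r + s, by rw [map_add, hr, hs, mul_add]⟩

theorem InF.neg {t : ℕ} {y : K} (hy : InF w t y) : InF w t (-y) := by
  obtain ⟨r, hr⟩ := hy
  exact ⟨-r, by rw [map_neg, hr, mul_neg]⟩

theorem InF.sub {t : ℕ} {y z : K} (hy : InF w t y) (hz : InF w t z) : InF w t (y - z) := by
  rw [sub_eq_add_neg]; exact hy.add hz.neg

theorem InF.natCast_mul {t : ℕ} {y : K} (m : ℕ) (hy : InF w t y) : InF w t ((m : K) * y) := by
  obtain ⟨r, hr⟩ := hy
  exact ⟨(m : R) * r, by rw [map_mul, map_natCast, hr]; ring⟩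

theorem InF.succ {t : ℕ} {y : K} (hy : InF w t y) : InF w (t + 1) y := by
  obtain ⟨r, hr⟩ := hy
  exact ⟨w * r, by rw [map_mul, hr, pow_succ]; ring⟩

theorem InF.mono {t t' : ℕ} {y : K} (h : t ≤ t') (hy : InF w t y) : InF w t' y := by
  induction h with
  | refl => exact hy
  | step _ ih => exact ih.succ

theorem InF.sum {ι : Type*} {s : Finset ι} {t : ℕ} {f : ι → K} (h : ∀ i ∈ s, InF w t (f i)) :
    InF w t (∑ i ∈ s, f i) := by
  classical
  induction s using Finset.induction_on with
  | empty => simpa using InF.zero t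
  | insert i s hi ih =>
    rw [Finset.sum_insert hi]
    exact (h i (Finset.mem_insert_self i s)).add (ih fun j hj => h j (Finset.mem_insert_of_mem hj))

theorem InF.mul_of {t : ℕ} {y a : K} (ha : InF w 1 a) (hy : InF w t y) : InF w (t + 1) (a * y) := by
  obtain ⟨r, hr⟩ := hy
  obtain ⟨s, hs⟩ := ha
  exact ⟨s * r, by rw [map_mul, hr, hs, pow_succ]; ring⟩

theorem InF.pow_mul {t : ℕ} {y a : K} (ha : InF w 1 a) (hy : InF w t y) (j : ℕ) :
    InF w (t + j) (a ^ j * y) := by
  induction j with
  | zero => simpa using hy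
  | succ j ih =>
    have := InF.mul_of ha ih
    rw [← mul_assoc, ← pow_succ'] at this
    exact this

theorem InF.deriv (D : Derivation ℤ K K)
    (hD : ∀ r : R, ∃ s : R, D (algebraMap R K r) = algebraMap R K s) {t : ℕ} {y : K}
    (hy : InF w t y) : InF w (t + 1) (D y) := by
  obtain ⟨r, hr⟩ := hy
  obtain ⟨r', hr'⟩ := hD r
  obtain ⟨w', hw'⟩ := hD w
  refine ⟨w * r' - (t : R) * w' * r, ?_⟩
  have h1 : D (algebraMap R K w ^ t * y) = algebraMap R K r' := by rw [← hr, hr']
  rw [Derivation.leibniz, Derivation.leibniz_pow, hw'] at h1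
  simp only [smul_eq_mul, nsmul_eq_mul] at h1
  rw [map_sub, map_mul, map_mul, map_mul, map_natCast, ← h1, hr, pow_succ]
  rcases t with _ | t
  · simp
  · simp only [Nat.add_sub_cancel, pow_succ]
    push_cast
    ring

end

section
variable {R K : Type u} [CommRing R] [Field K] [Algebra R K]
variable (p : ℕ) [hp : Fact p.Prime] [CharP K p]

theorem exists_nat_inv (m : ℕ) (hm0 : 0 < m) (hmp : m < p) :
    ∃ m' : ℕ, ((m' : K) * (m : K)) = 1 := by
  have hcop : Nat.Coprime m p := by
    rw [Nat.coprime_comm]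
    exact (Nat.Prime.coprime_iff_not_dvd hp.out).mpr (Nat.not_dvd_of_pos_of_lt hm0 hmp)
  obtain ⟨m', -, hm'⟩ := Nat.exists_mul_mod_eq_one_of_coprime hcop hp.out.one_lt
  refine ⟨m', ?_⟩
  rw [← Nat.cast_mul, mul_comm, CharP.natCast_eq_natCast_mod K p, hm', Nat.cast_one]

variable {w : R} (D : Derivation ℤ K K)
  (hD : ∀ r : R, ∃ s : R, D (algebraMap R K r) = algebraMap R K s) {a : K}

include hD in
theorem coeffs_inF (hc : D a ≠ 0) (hwa : InF w 1 a) (hwc : InF w 1 (D a)⁻¹) (n : ℕ) (hn : n ≤ p) :
    ∀ (β : ℕ → K) (t : ℕ), (∀ i, D (β i) = 0) → InF w t (∑ i ∈ range n, β i * a ^ i) →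
      ∀ i < n, InF w (t + n * (p + 2)) (β i) := by
  induction n with
  | zero => intro β t _ _ i hi; exact absurd hi (Nat.not_lt_zero i)
  | succ n ih =>
    intro β t hβ hS
    have hn' : n ≤ p := Nat.le_of_succ_le hn
    have hnp : n < p := hn
    -- derivative of the sum
    have key : (D a)⁻¹ * D (∑ i ∈ range (n + 1), β i * a ^ i) =
        ∑ j ∈ range n, (((j + 1 : ℕ) : K) * β (j + 1)) * a ^ j := by
      rw [map_sum, Finset.sum_range_succ']
      have h0 : D (β 0 * a ^ 0) = 0 := by simp [hβ 0]
      rw [h0, add_zero, Finset.mul_sum]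
      apply Finset.sum_congr rfl
      intro j _
      rw [Derivation.leibniz, Derivation.leibniz_pow, hβ (j + 1)]
      simp only [smul_eq_mul, nsmul_eq_mul, Nat.add_sub_cancel]
      field_simp
      ring
    have hS2 : InF w (t + 2) (∑ j ∈ range n, (((j + 1 : ℕ) : K) * β (j + 1)) * a ^ j) := by
      rw [← key]
      exact InF.mul_of hwc (InF.deriv D hD hS)
    have hβ' : ∀ j, D (((j + 1 : ℕ) : K) * β (j + 1)) = 0 := by
      intro j
      rw [Derivation.leibniz, hβ (j + 1), Derivation.map_natCast]
      simp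
    have ih' := ih hn' (fun j => ((j + 1 : ℕ) : K) * β (j + 1)) (t + 2) hβ' hS2
    -- the coefficients of index ≥ 1
    have hpos : ∀ j < n, InF w (t + 2 + n * (p + 2)) (β (j + 1)) := by
      intro j hj
      obtain ⟨m', hm'⟩ := exists_nat_inv (K := K) p (j + 1) (Nat.succ_pos j) (by omega)
      have := InF.natCast_mul m' (ih' j hj)
      rwa [← mul_assoc, hm', one_mul] at this
    intro i hi
    rcases i with _ | i
    · -- the constant coefficient
      have h1 : β 0 = (∑ i ∈ range (n + 1), β i * a ^ i) -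
          ∑ j ∈ range n, a ^ (j + 1) * β (j + 1) := by
        rw [Finset.sum_range_succ']
        simp only [pow_zero, mul_one]
        have : ∑ j ∈ range n, β (j + 1) * a ^ (j + 1) = ∑ j ∈ range n, a ^ (j + 1) * β (j + 1) :=
          Finset.sum_congr rfl (fun j _ => mul_comm _ _)
        rw [this]; ring
      rw [h1]
      apply InF.sub
      · exact InF.mono (by nlinarith) hS
      · apply InF.sum
        intro j hj
        have hj' : j < n := Finset.mem_range.mp hj
        refine InF.mono ?_ (InF.pow_mul hwa (hpos j hj') (j + 1))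
        nlinarith
    · exact InF.mono (by nlinarith) (hpos i (by omega))

end

section
open Polynomial

theorem exists_denominator {R K : Type u} [CommRing R] [IsDomain R] [Field K] [Algebra R K]
    [IsFractionRing R K] (y : K) :
    ∃ s : R, s ≠ 0 ∧ ∃ r : R, algebraMap R K r = algebraMap R K s * y := by
  obtain ⟨⟨b, hb⟩, r, hr⟩ := IsLocalization.exists_integer_multiple (nonZeroDivisors R) y
  refine ⟨b, nonZeroDivisors.ne_zero hb, r, ?_⟩
  rw [hr, Algebra.smul_def]

theorem span_pow_of_adjoin {K L : Type u} [Field K] [Field L] [Algebra K L] (p : ℕ) (hp : 0 < p)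
    (a : K) (x : L) (hx : x ^ p = algebraMap K L a) (hgen : IntermediateField.adjoin K {x} = ⊤)
    (z : L) : ∃ α : ℕ → K, z = ∑ i ∈ Finset.range p, algebraMap K L (α i) * x ^ i := by
  have hfm : (X ^ p - C a : K[X]).Monic := monic_X_pow_sub_C a hp.ne'
  have hfx : aeval x (X ^ p - C a : K[X]) = 0 := by simp [hx]
  have hxint : IsIntegral K x := ⟨X ^ p - C a, hfm, by simpa [aeval_def] using hfx⟩
  have hz : z ∈ IntermediateField.adjoin K {x} := hgen ▸ IntermediateField.mem_top
  have hz' : z ∈ Algebra.adjoin K {x} := by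
    rw [← IntermediateField.adjoin_simple_toSubalgebra_of_isAlgebraic hxint.isAlgebraic]
    exact hz
  rw [Algebra.adjoin_singleton_eq_range_aeval] at hz'
  obtain ⟨q, rfl⟩ := hz'
  have h1 : aeval x q = aeval x (q %ₘ (X ^ p - C a)) := by
    conv_lhs => rw [← Polynomial.modByMonic_add_div q (X ^ p - C a)]
    rw [map_add, map_mul, hfx, zero_mul, add_zero]
  have hdeg : (q %ₘ (X ^ p - C a)).natDegree < p := by
    have hnd : (X ^ p - C a : K[X]).natDegree = p := natDegree_X_pow_sub_C
    have hne1 : (X ^ p - C a : K[X]) ≠ 1 := by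
      intro h
      have := congrArg natDegree h
      rw [hnd, natDegree_one] at this
      omega
    have := natDegree_modByMonic_lt q hfm hne1
    rwa [hnd] at this
  refine ⟨fun i => (q %ₘ (X ^ p - C a)).coeff i, ?_⟩
  change (aeval x) q = _
  rw [h1, Polynomial.aeval_eq_sum_range' hdeg]
  apply Finset.sum_congr rfl
  intro i _
  rw [Algebra.smul_def]

end

section
open Polynomial

theorem finite_integralClosure_radical (R : Type u) [CommRing R]
    [IsDomain R] [IsNoetherianRing R] [IsIntegrallyClosed R] (K : Type u) [Field K] [Algebra R K]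
    [IsFractionRing R K] (p : ℕ) [hp : Fact p.Prime] [CharP K p] (D : Derivation ℤ K K)
    (hD : ∀ r : R, ∃ s : R, D (algebraMap R K r) = algebraMap R K s) (a : K) (ha : D a ≠ 0)
    (L : Type u) [Field L] [Algebra K L] [Algebra R L] [IsScalarTower R K L] (x : L)
    (hx : x ^ p = algebraMap K L a) (hgen : IntermediateField.adjoin K {x} = ⊤) :
    Module.Finite R (integralClosure R L) := by
  classical
  haveI : CharP L p := charP_of_injective_algebraMap (algebraMap K L).injective p
  obtain ⟨s, hs0, rs, hrs⟩ := exists_denominator (R := R) a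
  obtain ⟨u, hu0, ru, hru⟩ := exists_denominator (R := R) (D a)⁻¹
  set w : R := u * s with hw
  have hw0 : w ≠ 0 := mul_ne_zero hu0 hs0
  have hwa : InF w 1 a := ⟨u * rs, by rw [map_mul, hrs, hw, map_mul]; ring⟩
  have hwc : InF w 1 (D a)⁻¹ := ⟨s * ru, by rw [map_mul, hru, hw, map_mul]; ring⟩
  set N : ℕ := 0 + p * (p + 2) with hN
  set wK : K := algebraMap R K w with hwK
  have hwK0 : wK ≠ 0 := by
    rw [hwK]
    exact (map_ne_zero_iff _ (IsFractionRing.injective R K)).mpr hw0
  let M : Submodule R L := Submodule.span R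
    (Set.range fun i : Fin p => algebraMap K L (wK⁻¹ ^ N) * x ^ (i : ℕ))
  have hle : Subalgebra.toSubmodule (integralClosure R L) ≤ M := by
    intro z hz
    have hzint : IsIntegral R z := hz
    obtain ⟨α, hα⟩ := span_pow_of_adjoin p hp.out.pos a x hx hgen z
    -- the p-th power of z lies in K
    have hzp : z ^ p = algebraMap K L (∑ i ∈ Finset.range p, α i ^ p * a ^ i) := by
      rw [hα, sum_pow_char, map_sum]
      apply Finset.sum_congr rfl
      intro i _
      rw [mul_pow, ← pow_mul, mul_comm i p, pow_mul, hx, map_mul, map_pow, map_pow]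
    have hSint : IsIntegral R (∑ i ∈ Finset.range p, α i ^ p * a ^ i) := by
      have h1 : IsIntegral R (z ^ p) := hzint.pow p
      rw [hzp] at h1
      exact (isIntegral_algebraMap_iff (algebraMap K L).injective).mp h1
    obtain ⟨r, hr⟩ := IsIntegrallyClosed.isIntegral_iff.mp hSint
    have hS : InF w 0 (∑ i ∈ Finset.range p, α i ^ p * a ^ i) := ⟨r, by rw [hr, pow_zero, one_mul]⟩
    have hβ : ∀ i, D (α i ^ p) = 0 := by
      intro i
      rw [Derivation.leibniz_pow]
      simp [CharP.cast_eq_zero K p]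
    have hco := coeffs_inF p D hD ha hwa hwc p le_rfl (fun i => α i ^ p) 0 hβ hS
    -- each coefficient is in `w^{-N} R`
    have hcoef : ∀ i < p, ∃ ρ : R, algebraMap R K ρ = wK ^ N * α i := by
      intro i hi
      obtain ⟨ri, hri⟩ := hco i hi
      have hint : IsIntegral R (wK ^ N * α i) := by
        apply IsIntegral.of_pow hp.out.pos
        have : (wK ^ N * α i) ^ p = algebraMap R K (w ^ (N * (p - 1)) * ri) := by
          rw [map_mul, hri, map_pow, ← hwK, mul_pow, ← pow_mul, ← mul_assoc, ← pow_add]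
          congr 2
          have : 1 ≤ p := hp.out.pos
          calc N * p = N * (p - 1 + 1) := by rw [Nat.sub_add_cancel this]
            _ = N * (p - 1) + N := by ring
        rw [this]
        exact isIntegral_algebraMap
      exact IsIntegrallyClosed.isIntegral_iff.mp hint
    choose! ρ hρ using hcoef
    have hz_eq : z = ∑ i : Fin p, ρ i • (algebraMap K L (wK⁻¹ ^ N) * x ^ (i : ℕ)) := by
      rw [hα, ← Fin.sum_univ_eq_sum_range (fun i => algebraMap K L (α i) * x ^ i) p]
      apply Finset.sum_congr rfl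
      intro i _
      rw [Algebra.smul_def, IsScalarTower.algebraMap_apply R K L, hρ i i.2, ← mul_assoc, ← map_mul]
      congr 2
      rw [inv_pow]
      field_simp
    rw [hz_eq]
    exact Submodule.sum_mem _ fun i _ => Submodule.smul_mem _ _ (Submodule.subset_span ⟨i, rfl⟩)
  have hMfg : M.FG := Submodule.fg_span (Set.finite_range _)
  haveI : IsNoetherian R M := isNoetherian_of_fg_of_noetherian M hMfg
  haveI : IsNoetherian R (Subalgebra.toSubmodule (integralClosure R L)) := isNoetherian_of_le hle
  exact Module.IsNoetherian.finite R (Subalgebra.toSubmodule (integralClosure R L))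

end

end Groth.Agent.Lib.Helper22.RadicalDeriv
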