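import Mathlib
import Groth.Agent.Lib.Helper12.DvrFamA

/-!
# Reducedness of a flat local algebra over a complete local ring dominated by a DVR

Let `A` be a complete Noetherian local ring, `V` a discrete valuation ring dominating `A`
(injective local homomorphism `A → V`), `C` a Noetherian local flat `A`-algebra (local structure
map).  If `κ(V) ⊗_A C` is reduced, then `C` is reduced.
-/

set_option autoImplicit false
set_option linter.style.haveILetI false
set_option linter.unusedSectionVars false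
universe u

namespace Groth.Agent.Lib.Helper22.RedCpl

open IsLocalRing TensorProduct

variable (A : Type u) [CommRing A] [IsNoetherianRing A] [IsLocalRing A]
  (V : Type u) [CommRing V] [IsDomain V] [IsDiscreteValuationRing V] [Algebra A V]
  (C : Type u) [CommRing C] [IsNoetherianRing C] [IsLocalRing C] [Algebra A C]
  [IsLocalHom (algebraMap A C)] [Module.Flat A C]

/-- multiplication by `ϖ ^ n` lands in the kernel of the reduction mod `𝔪_V ^ n` -/
theorem rTensor_mk_smul (n : ℕ) (ϖ : V) (hϖ : ϖ ∈ maximalIdeal V) (d : V ⊗[A] C) :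
    LinearMap.rTensor C (Ideal.Quotient.mkₐ A (maximalIdeal V ^ n)).toLinearMap (ϖ ^ n • d) = 0 := by
  induction d using TensorProduct.induction_on with
  | zero => simp
  | tmul v c =>
    rw [TensorProduct.smul_tmul', LinearMap.rTensor_tmul, smul_eq_mul]
    have : (Ideal.Quotient.mkₐ A (maximalIdeal V ^ n)).toLinearMap (ϖ ^ n * v) = 0 := by
      change Ideal.Quotient.mk _ (ϖ ^ n * v) = 0
      rw [Ideal.Quotient.eq_zero_iff_mem]
      exact Ideal.mul_mem_right _ _ (Ideal.pow_mem_pow hϖ n)
    rw [this, TensorProduct.zero_tmul]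
  | add a b ha hb => rw [smul_add, map_add, ha, hb, add_zero]

/-- the contraction of `𝔪_V ^ n` -/
def contr (n : ℕ) : Ideal A := (maximalIdeal V ^ n).comap (algebraMap A V)

/-- if `1 ⊗ x` is divisible by `ϖ ^ n` then `x ∈ 𝔞_n C` -/
theorem mem_map_contr (n : ℕ) (ϖ : V) (hϖ : ϖ ∈ maximalIdeal V) (x : C) (d : V ⊗[A] C)
    (hd : (1 : V) ⊗ₜ[A] x = ϖ ^ n • d) : x ∈ (contr A V n).map (algebraMap A C) := by
  let ι : A ⧸ contr A V n →ₐ[A] V ⧸ maximalIdeal V ^ n :=
    Ideal.quotientMapₐ (maximalIdeal V ^ n) (Algebra.ofId A V) le_rfl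
  have hι : Function.Injective ι.toLinearMap := by
    change Function.Injective (Ideal.quotientMap (maximalIdeal V ^ n) (algebraMap A V) le_rfl)
    exact Ideal.quotientMap_injective
  have hinj := Module.Flat.rTensor_preserves_injective_linearMap (M := C) ι.toLinearMap hι
  have h0 : LinearMap.rTensor C ι.toLinearMap ((1 : A ⧸ contr A V n) ⊗ₜ[A] x) = 0 := by
    rw [LinearMap.rTensor_tmul]
    have h1 : ι.toLinearMap 1 = (Ideal.Quotient.mkₐ A (maximalIdeal V ^ n)).toLinearMap 1 := by
      simp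
    rw [h1, ← LinearMap.rTensor_tmul, hd]
    exact rTensor_mk_smul A V C n ϖ hϖ d
  have h2 : ((1 : A ⧸ contr A V n) ⊗ₜ[A] x) = 0 := hinj (by rw [h0, map_zero])
  have h3 := congrArg (TensorProduct.quotTensorEquivQuotSMul C (contr A V n)) h2
  rw [map_zero, ← map_one (Ideal.Quotient.mk (contr A V n)),
    TensorProduct.quotTensorEquivQuotSMul_mk_tmul, one_smul, Submodule.Quotient.mk_eq_zero] at h3
  rw [Ideal.smul_top_eq_map] at h3
  exact h3

variable [IsAdicComplete (maximalIdeal A) A]

/-- an element of `C` all of whose images `1 ⊗ x` are infinitely `ϖ`-divisible is zero -/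
theorem eq_zero_of_forall_divisible (hinj : Function.Injective (algebraMap A V))
    (ϖ : V) (hϖ : ϖ ∈ maximalIdeal V) (x : C)
    (h : ∀ n : ℕ, ∃ d : V ⊗[A] C, (1 : V) ⊗ₜ[A] x = ϖ ^ n • d) : x = 0 := by
  have hbot : ⨅ n, contr A V n = ⊥ := by
    rw [eq_bot_iff]
    intro a ha
    rw [Ideal.mem_iInf] at ha
    have h1 : algebraMap A V a ∈ ⨅ n, maximalIdeal V ^ n := by
      rw [Ideal.mem_iInf]
      intro n
      exact ha n
    rw [Ideal.iInf_pow_eq_bot_of_isLocalRing _ (IsLocalRing.maximalIdeal.isMaximal V).ne_top,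
      Ideal.mem_bot] at h1
    rw [Ideal.mem_bot]
    exact hinj (by rw [h1, map_zero])
  have hdir : ∀ i j, ∃ k, contr A V k ≤ contr A V i ⊓ contr A V j := by
    intro i j
    refine ⟨max i j, le_inf ?_ ?_⟩
    · exact Ideal.comap_mono (Ideal.pow_le_pow_right (le_max_left i j))
    · exact Ideal.comap_mono (Ideal.pow_le_pow_right (le_max_right i j))
  have hx : x ∈ ⨅ N, maximalIdeal C ^ N := by
    rw [Ideal.mem_iInf]
    intro N
    obtain ⟨n, hn⟩ := Groth.Agent.Lib.Helper12.DvrFam.chevalley_directed (contr A V) hdir hbot N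
    obtain ⟨d, hd⟩ := h n
    have h1 := mem_map_contr A V C n ϖ hϖ x d hd
    have h2 : (contr A V n).map (algebraMap A C) ≤ maximalIdeal C ^ N := by
      refine (Ideal.map_mono hn).trans ?_
      rw [Ideal.map_pow]
      exact Ideal.pow_right_mono (((local_hom_TFAE (algebraMap A C)).out 0 2).mp ‹_›) N
    exact h2 h1
  rw [Ideal.iInf_pow_eq_bot_of_isLocalRing _ (IsLocalRing.maximalIdeal.isMaximal C).ne_top,
    Ideal.mem_bot] at hx
  exact hx

end Groth.Agent.Lib.Helper22.RedCpl
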