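import Mathlib
import Groth.Agent.Lib.Helper22.RedCplA

/-!
# Reducedness of a flat local algebra over a complete local ring dominated by a DVR (part B)
-/

set_option autoImplicit false
set_option linter.style.haveILetI false
set_option linter.unusedSectionVars false
universe u

namespace Groth.Agent.Lib.Helper22.RedCpl

open IsLocalRing TensorProduct

variable (A : Type u) [CommRing A] [IsNoetherianRing A] [IsLocalRing A]
  (V : Type u) [CommRing V] [IsDomain V] [IsDiscreteValuationRing V] [Algebra A V]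
  (C : Type u) [CommRing C] [IsNoetherianRing C] [IsLocalRing C] [Algebra A C]
  [IsLocalHom (algebraMap A C)] [Module.Flat A C]

/-- the residue map as an `A`-algebra map -/
noncomputable def resₐ : V →ₐ[A] ResidueField V :=
  IsScalarTower.toAlgHom A V (ResidueField V)

/-- reduction of `V ⊗ C` modulo the uniformizer -/
noncomputable def redMap : V ⊗[A] C →ₐ[A] ResidueField V ⊗[A] C :=
  Algebra.TensorProduct.map (resₐ A V) (AlgHom.id A C)

theorem redMap_eq_rTensor (d : V ⊗[A] C) :
    redMap A V C d = LinearMap.rTensor C (resₐ A V).toLinearMap d := by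
  induction d using TensorProduct.induction_on with
  | zero => simp
  | tmul v c => simp [redMap]
  | add a b ha hb => rw [map_add, map_add, ha, hb]

theorem rTensor_mulLeft (ϖ : V) (d : V ⊗[A] C) :
    LinearMap.rTensor C (LinearMap.mulLeft A ϖ) d = ϖ • d := by
  induction d using TensorProduct.induction_on with
  | zero => simp
  | tmul v c => simp [TensorProduct.smul_tmul']
  | add a b ha hb => rw [map_add, smul_add, ha, hb]

/-- the kernel of the reduction map consists of the multiples of the uniformizer -/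
theorem exists_smul_of_redMap_eq_zero (ϖ : V) (hϖ : maximalIdeal V = Ideal.span {ϖ})
    (d : V ⊗[A] C) (hd : redMap A V C d = 0) : ∃ d' : V ⊗[A] C, d = ϖ • d' := by
  have hex : Function.Exact (LinearMap.mulLeft A ϖ) (resₐ A V).toLinearMap := by
    intro v
    change IsLocalRing.residue V v = 0 ↔ v ∈ Set.range (LinearMap.mulLeft A ϖ)
    rw [IsLocalRing.residue_eq_zero_iff, hϖ, Ideal.mem_span_singleton']
    constructor
    · rintro ⟨a, rfl⟩
      exact ⟨a, by simp [mul_comm]⟩
    · rintro ⟨a, rfl⟩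
      exact ⟨a, by simp [mul_comm]⟩
  have hsurj : Function.Surjective (resₐ A V).toLinearMap := IsLocalRing.residue_surjective
  have := rTensor_exact C hex hsurj
  rw [redMap_eq_rTensor] at hd
  obtain ⟨d', hd'⟩ := (this d).mp hd
  exact ⟨d', by rw [← hd', rTensor_mulLeft]⟩

variable [IsAdicComplete (maximalIdeal A) A]

/-- **Key lemma.** -/
theorem isReduced_of_dvr (hinj : Function.Injective (algebraMap A V))
    (hred : IsReduced (ResidueField V ⊗[A] C)) : IsReduced C := by
  obtain ⟨ϖ, hirr⟩ := IsDiscreteValuationRing.exists_irreducible V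
  have hϖ : maximalIdeal V = Ideal.span {ϖ} := hirr.maximalIdeal_eq
  have hϖm : ϖ ∈ maximalIdeal V := by rw [hϖ]; exact Ideal.mem_span_singleton_self ϖ
  have hϖ0 : ϖ ≠ 0 := hirr.ne_zero
  refine ⟨fun x hx => ?_⟩
  by_contra hx0
  -- the largest `n` with `1 ⊗ x` divisible by `ϖ ^ n`
  have hex : ∃ m : ℕ, ¬ ∃ d : V ⊗[A] C, (1 : V) ⊗ₜ[A] x = ϖ ^ m • d := by
    by_contra hall
    push_neg at hall
    exact hx0 (eq_zero_of_forall_divisible A V C hinj ϖ hϖm x hall)
  classical
  have hm0 : Nat.find hex ≠ 0 := by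
    intro h0
    have := Nat.find_spec hex
    rw [h0] at this
    exact this ⟨(1 : V) ⊗ₜ[A] x, by rw [pow_zero, one_smul]⟩
  obtain ⟨n, hn⟩ := Nat.exists_eq_succ_of_ne_zero hm0
  have hPn : ∃ d : V ⊗[A] C, (1 : V) ⊗ₜ[A] x = ϖ ^ n • d := by
    by_contra hnot
    have := Nat.find_min' hex hnot
    omega
  have hPn1 : ¬ ∃ d : V ⊗[A] C, (1 : V) ⊗ₜ[A] x = ϖ ^ (n + 1) • d := by
    have := Nat.find_spec hex
    rwa [hn] at this
  obtain ⟨d, hd⟩ := hPn
  obtain ⟨N, hN⟩ := hx
  -- `d` is nilpotent
  have hdN : d ^ N = 0 := by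
    have h1 : ((1 : V) ⊗ₜ[A] x) ^ N = 0 := by
      rw [Algebra.TensorProduct.tmul_pow, hN, TensorProduct.tmul_zero]
    rw [hd, smul_pow] at h1
    have hreg : IsSMulRegular (V ⊗[A] C) (algebraMap V (V ⊗[A] C) ((ϖ ^ n) ^ N)) :=
      IsSMulRegular.of_flat
        (isRegular_of_ne_zero (pow_ne_zero _ (pow_ne_zero _ hϖ0))).left.isSMulRegular
    have h2 : algebraMap V (V ⊗[A] C) ((ϖ ^ n) ^ N) • d ^ N =
        algebraMap V (V ⊗[A] C) ((ϖ ^ n) ^ N) • (0 : V ⊗[A] C) := by
      rw [smul_zero, algebraMap_smul]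
      exact h1
    exact hreg h2
  have hrd : redMap A V C d = 0 := by
    have : IsNilpotent (redMap A V C d) := ⟨N, by rw [← map_pow, hdN, map_zero]⟩
    exact this.eq_zero
  obtain ⟨d', hd'⟩ := exists_smul_of_redMap_eq_zero A V C ϖ hϖ d hrd
  exact hPn1 ⟨d', by rw [hd, hd', smul_smul, pow_succ]⟩

end Groth.Agent.Lib.Helper22.RedCpl
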