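import Mathlib
import Groth.Agent.S4433
import Groth.Agent.Lib.Helper22.RedCplB

/-!
# A flat local algebra over a complete local domain with reduced "closed fibres" is reduced
-/

set_option autoImplicit false
set_option linter.style.haveILetI false
set_option linter.unusedSectionVars false
universe u

namespace Groth.Agent.Lib.Helper22.RedCpl

open IsLocalRing TensorProduct

/-- **Theorem.** Let `A` be a complete Noetherian local domain and `C` a Noetherian local flat
`A`-algebra with local structure map.  If `Ω ⊗_A C` is reduced for every field `Ω` over the
residue field of `A`, then `C` is reduced. -/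
theorem isReduced_of_complete_domain (A : Type u) [CommRing A] [IsDomain A] [IsNoetherianRing A]
    [IsLocalRing A] [IsAdicComplete (maximalIdeal A) A]
    (C : Type u) [CommRing C] [IsNoetherianRing C] [IsLocalRing C] [Algebra A C]
    [IsLocalHom (algebraMap A C)] [Module.Flat A C]
    (h : ∀ (Ω : Type u) [Field Ω] [Algebra A Ω],
      maximalIdeal A ≤ RingHom.ker (algebraMap A Ω) → IsReduced (Ω ⊗[A] C)) : IsReduced C := by
  by_cases hA : IsField A
  · -- `A` is a field
    have hm : maximalIdeal A = ⊥ := IsLocalRing.isField_iff_maximalIdeal_eq.mp hA
    haveI hred : IsReduced (ResidueField A ⊗[A] C) := h (ResidueField A) (by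
      intro a ha
      rw [RingHom.mem_ker]
      exact (IsLocalRing.residue_eq_zero_iff a).mpr ha)
    have hinj : Function.Injective (algebraMap A (ResidueField A)) := by
      rw [injective_iff_map_eq_zero]
      intro a ha
      have : a ∈ maximalIdeal A := (IsLocalRing.residue_eq_zero_iff a).mp ha
      rwa [hm, Ideal.mem_bot] at this
    exact isReduced_of_injective
      (Algebra.TensorProduct.includeRight : C →ₐ[A] ResidueField A ⊗[A] C)
      (Algebra.TensorProduct.includeRight_injective hinj)
  · -- dominate `A` by a discrete valuation ring
    have hfg : (⊤ : IntermediateField (FractionRing A) (FractionRing A)).FG := by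
      exact IntermediateField.fg_top _ _
    obtain ⟨R, hDVR, hmem, hdom⟩ := Groth.Agent.S4433.result A hA (FractionRing A)
      (FractionRing A) hfg
    haveI := hDVR
    let f : A →+* R := (algebraMap A (FractionRing A)).codRestrict R hmem
    letI : Algebra A R := f.toAlgebra
    have hinj : Function.Injective (algebraMap A R) := by
      intro a b hab
      have : algebraMap A (FractionRing A) a = algebraMap A (FractionRing A) b :=
        congrArg Subtype.val hab
      exact IsFractionRing.injective A (FractionRing A) this
    have hred : IsReduced (ResidueField R ⊗[A] C) := h (ResidueField R) (by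
      intro a ha
      rw [RingHom.mem_ker]
      change IsLocalRing.residue R (algebraMap A R a) = 0
      rw [IsLocalRing.residue_eq_zero_iff, ValuationSubring.valuation_lt_one_iff]
      exact hdom a ha)
    exact isReduced_of_dvr A R C hinj hred

end Groth.Agent.Lib.Helper22.RedCpl
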