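import Mathlib
import Groth.Agent.Lib.Helper22.RedFib

set_option autoImplicit false
universe u
open TensorProduct

namespace Groth.Agent.Lib.Helper22.RedFibLoc

/-- flatness with geometrically reduced fibres is preserved by localizing base and target at a
multiplicative subset of the base -/
theorem localization (A B : Type u) [CommRing A] [CommRing B] [Algebra A B] [Module.Flat A B]
    (h : ∀ (p : Ideal A) [p.IsPrime], Algebra.IsGeometricallyReduced p.ResidueField (p.Fiber B)) (S : Submonoid A)
    (A' B' : Type u) [CommRing A'] [CommRing B'] [Algebra A A'] [Algebra B B'] [Algebra A' B'] [Algebra A B']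
    [IsScalarTower A A' B'] [IsScalarTower A B B'] [IsLocalization S A']
    [IsLocalization (Algebra.algebraMapSubmonoid B S) B'] :
    Module.Flat A' B' ∧ ∀ (p' : Ideal A') [p'.IsPrime], Algebra.IsGeometricallyReduced p'.ResidueField (p'.Fiber B') := by
  constructor
  · rw [Module.flat_iff_of_isLocalization A' S]
    haveI : Module.Flat B B' := IsLocalization.flat B' (Algebra.algebraMapSubmonoid B S)
    exact Module.Flat.trans A B B'
  · intro p' hp'
    rw [Algebra.isGeometricallyReduced_field_iff]
    let K' := p'.ResidueField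
    let L := AlgebraicClosure K'
    haveI : IsScalarTower A A' L := inferInstance
    haveI hpo : Algebra.IsPushout A A' B B' := (Algebra.isPushout_of_isLocalization S A' B B').symm
    let e0 : A' ⊗[A] B ≃ₐ[A'] B' := Algebra.IsPushout.equiv A A' B B'
    let e1 : L ⊗[K'] (K' ⊗[A'] B') ≃ₐ[L] L ⊗[A'] B' := Algebra.TensorProduct.cancelBaseChange A' K' L L B'
    let e2 : L ⊗[A'] B' ≃ₐ[L] L ⊗[A'] (A' ⊗[A] B) :=
      Algebra.TensorProduct.congr AlgEquiv.refl e0.symm
    let e3 : L ⊗[A'] (A' ⊗[A] B) ≃ₐ[L] L ⊗[A] B := Algebra.TensorProduct.cancelBaseChange A A' L L B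
    haveI : IsReduced (L ⊗[A] B) := Groth.Agent.Lib.Helper22.RedFib.isReduced_tensor_field h L
    exact isReduced_of_injective ((e1.trans e2).trans e3) ((e1.trans e2).trans e3).injective

end Groth.Agent.Lib.Helper22.RedFibLoc
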