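import Groth.Agent.Lib.Helper22.RedZ1
import Groth.Agent.Lib.Helper22.NagataCrit
import Groth.Agent.Lib.Helper22.J0Ascent

set_option autoImplicit false
set_option linter.style.haveILetI false
universe u v
open TensorProduct

namespace Groth.Agent.Lib.Helper22.RedZ

/-- the fibre of a smooth algebra over a maximal ideal is reduced -/
theorem isReduced_quotient_of_smooth (R : Type v) [CommRing R] (I : Ideal R) [I.IsMaximal]
    (B : Type u) [CommRing B] [Algebra R B] [Algebra.Smooth R B] :
    IsReduced (B ⧸ I.map (algebraMap R B)) := by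
  letI : Field (R ⧸ I) := Ideal.Quotient.field _
  haveI : Algebra.Smooth (R ⧸ I) ((R ⧸ I) ⊗[R] B) := inferInstance
  haveI hred : IsReduced ((R ⧸ I) ⊗[R] B) := isReduced_of_smooth_field (R ⧸ I) _
  have e := (Algebra.TensorProduct.quotIdealMapEquivQuotTensor B I).toRingEquiv
  exact isReduced_of_injective e.toRingHom e.injective

/-- a domain of finite type and characteristic zero over `ℤ` has reduced reductions mod almost all
primes -/
theorem exists_isReduced_quotient_of_domain_charZero (D : Type u) [CommRing D] [IsDomain D]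
    [Algebra ℤ D] [Algebra.FiniteType ℤ D] [CharZero D] :
    ∃ N : ℕ, N ≠ 0 ∧ ∀ p : ℕ, p.Prime → ¬ p ∣ N → IsReduced (D ⧸ Ideal.span {(p : D)}) := by
  haveI : IsNoetherianRing D := Algebra.FiniteType.isNoetherianRing ℤ D
  haveI : Algebra.FinitePresentation ℤ D := Algebra.FinitePresentation.of_finiteType.mp inferInstance
  haveI : CharZero (FractionRing D) :=
    charZero_of_injective_algebraMap (IsFractionRing.injective D (FractionRing D))
  haveI : Algebra.EssFiniteType D (FractionRing D) :=
    Algebra.EssFiniteType.of_isLocalization _ (nonZeroDivisors D)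
  haveI : Algebra.EssFiniteType ℤ (FractionRing D) := Algebra.EssFiniteType.comp ℤ D _
  haveI := IsScalarTower.of_algebraMap_eq (R := ℤ) (S := ℚ) (A := FractionRing D)
    (fun x => by rw [eq_intCast, eq_intCast, map_intCast])
  haveI : Algebra.EssFiniteType ℚ (FractionRing D) := Algebra.EssFiniteType.of_comp ℤ ℚ _
  haveI : Algebra.FormallySmooth ℚ (FractionRing D) := Algebra.FormallySmooth.of_perfectField
  haveI : Algebra.FormallySmooth ℤ ℚ := Algebra.FormallySmooth.of_isLocalization (nonZeroDivisors ℤ)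
  have hsm : Algebra.FormallySmooth ℤ (FractionRing D) := Algebra.FormallySmooth.comp ℤ ℚ _
  have hη : (⟨⊥, Ideal.isPrime_bot⟩ : PrimeSpectrum D) ∈ Algebra.smoothLocus ℤ D := by
    change Algebra.FormallySmooth ℤ (Localization.AtPrime (⊥ : Ideal D))
    haveI : IsLocalization (nonZeroDivisors D) (Localization.AtPrime (⊥ : Ideal D)) :=
      Groth.Agent.Lib.Helper22.J0.isLocalization_congr Ideal.primeCompl_bot
        (Localization.AtPrime (⊥ : Ideal D))
    let e : FractionRing D ≃ₐ[D] Localization.AtPrime (⊥ : Ideal D) :=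
      IsLocalization.algEquiv (nonZeroDivisors D) _ _
    exact (Algebra.FormallySmooth.iff_of_equiv (e.restrictScalars ℤ)).mp hsm
  obtain ⟨g, hg, hgsm⟩ := Groth.Agent.Lib.Helper22.NagataCrit.exists_basicOpen_subset D
    (Algebra.smoothLocus ℤ D) Algebra.isOpen_smoothLocus ⟨_, hη⟩
  haveI hBsm : Algebra.Smooth ℤ (Localization.Away g) := by
    rw [← Algebra.basicOpen_subset_smoothLocus_iff_smooth]
    exact fun q hq => hgsm q hq
  obtain ⟨N, hN0, hN⟩ := exists_no_torsion D (D ⧸ Ideal.span {g})
  refine ⟨N, hN0, fun p hp hpN => ?_⟩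
  -- `g` is a nonzerodivisor mod `p`
  have hreg : ∀ a : D, g * a ∈ Ideal.span {(p : D)} → a ∈ Ideal.span {(p : D)} := by
    intro a ha
    obtain ⟨b, hb⟩ := Ideal.mem_span_singleton'.mp ha
    have h1 : (p : D) • (Ideal.Quotient.mk (Ideal.span {g}) b) = 0 := by
      have h0 : (p : D) • (Ideal.Quotient.mk (Ideal.span {g}) b) =
          Ideal.Quotient.mk (Ideal.span {g}) ((p : D) * b) := rfl
      rw [h0, Ideal.Quotient.eq_zero_iff_mem, mul_comm, hb]
      exact Ideal.mem_span_singleton'.mpr ⟨a, mul_comm _ _⟩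
    have h2 := hN p hp hpN _ h1
    rw [Ideal.Quotient.eq_zero_iff_mem, Ideal.mem_span_singleton'] at h2
    obtain ⟨c, hc⟩ := h2
    have h3 : g * a = g * (c * p) := by rw [← hb, ← hc]; ring
    have h4 := mul_left_cancel₀ hg h3
    rw [h4]
    exact Ideal.mem_span_singleton'.mpr ⟨c, rfl⟩
  have hreg' : ∀ (m : ℕ) (a : D), g ^ m * a ∈ Ideal.span {(p : D)} → a ∈ Ideal.span {(p : D)} := by
    intro m
    induction m with
    | zero => intro a ha; simpa using ha
    | succ m ih =>
      intro a ha
      apply ih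
      apply hreg
      rw [← mul_assoc, ← pow_succ']
      exact ha
  have hpi : Prime (p : ℤ) := Nat.prime_iff_prime_int.mp hp
  haveI hmax : (Ideal.span {(p : ℤ)}).IsMaximal :=
    PrincipalIdealRing.isMaximal_of_irreducible hpi.irreducible
  have hred := isReduced_quotient_of_smooth ℤ (Ideal.span {(p : ℤ)}) (Localization.Away g)
  have hmap : (Ideal.span {(p : ℤ)}).map (algebraMap ℤ (Localization.Away g)) =
      Ideal.span {(p : Localization.Away g)} := by
    rw [Ideal.map_span, Set.image_singleton, map_natCast]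
  rw [hmap] at hred
  have hinj : Function.Injective (algebraMap D (Localization.Away g)) :=
    IsLocalization.injective _ (powers_le_nonZeroDivisors_of_noZeroDivisors hg)
  constructor
  intro x hx
  obtain ⟨x, rfl⟩ := Ideal.Quotient.mk_surjective x
  obtain ⟨n, hn⟩ := hx
  rw [← map_pow, Ideal.Quotient.eq_zero_iff_mem] at hn
  rw [Ideal.Quotient.eq_zero_iff_mem]
  have h1 : IsNilpotent (Ideal.Quotient.mk (Ideal.span {(p : Localization.Away g)})
      (algebraMap D (Localization.Away g) x)) := by
    refine ⟨n, ?_⟩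
    rw [← map_pow, ← map_pow, Ideal.Quotient.eq_zero_iff_mem]
    obtain ⟨c, hc⟩ := Ideal.mem_span_singleton'.mp hn
    rw [← hc, map_mul, map_natCast]
    exact Ideal.mem_span_singleton'.mpr ⟨_, rfl⟩
  have h2 := hred.eq_zero _ h1
  rw [Ideal.Quotient.eq_zero_iff_mem, Ideal.mem_span_singleton'] at h2
  obtain ⟨y, hy⟩ := h2
  obtain ⟨⟨y₀, ⟨_, m, rfl⟩⟩, hy₀⟩ := IsLocalization.surj (Submonoid.powers g) y
  have h3 : algebraMap D (Localization.Away g) (g ^ m * x) =
      algebraMap D (Localization.Away g) (y₀ * p) := by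
    rw [map_mul, map_mul, ← hy, ← hy₀, map_natCast]
    ring
  have h4 := hinj h3
  exact hreg' m x (h4 ▸ Ideal.mem_span_singleton'.mpr ⟨y₀, rfl⟩)

end Groth.Agent.Lib.Helper22.RedZ
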