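import Groth.Agent.Lib.Helper22.RedZ2

set_option autoImplicit false
set_option linter.style.haveILetI false
universe u v
open TensorProduct

namespace Groth.Agent.Lib.Helper22.RedZ

/-- a domain of finite type over `ℤ` has reduced reductions mod almost all primes -/
theorem exists_isReduced_quotient_of_domain (D : Type u) [CommRing D] [IsDomain D]
    [Algebra ℤ D] [Algebra.FiniteType ℤ D] :
    ∃ N : ℕ, N ≠ 0 ∧ ∀ p : ℕ, p.Prime → ¬ p ∣ N → IsReduced (D ⧸ Ideal.span {(p : D)}) := by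
  obtain ⟨ℓ, hℓ⟩ := CharP.exists D
  rcases CharP.char_is_prime_or_zero D ℓ with hprime | hzero
  · refine ⟨ℓ, hprime.ne_zero, fun p hp hpℓ => ?_⟩
    have hcop : IsCoprime (p : ℤ) (ℓ : ℤ) :=
      Nat.isCoprime_iff_coprime.mpr ((Nat.Prime.coprime_iff_not_dvd hp).mpr hpℓ)
    obtain ⟨a, b, hab⟩ := hcop
    have h1 : (a : D) * (p : D) = 1 := by
      have := congrArg (Int.cast : ℤ → D) hab
      push_cast at this
      rwa [CharP.cast_eq_zero D ℓ, mul_zero, add_zero] at this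
    have htop : Ideal.span {(p : D)} = ⊤ := by
      rw [Ideal.eq_top_iff_one, ← h1]
      exact Ideal.mem_span_singleton'.mpr ⟨_, rfl⟩
    haveI : Subsingleton (D ⧸ Ideal.span {(p : D)}) := Ideal.Quotient.subsingleton_iff.mpr htop
    infer_instance
  · subst hzero
    haveI : CharZero D := CharP.charP_to_charZero D
    exact exists_isReduced_quotient_of_domain_charZero D

/-- S14101 -/
theorem finite_setOf_prime_not_isReduced_quotient (A : Type u) [CommRing A]
    [Algebra.FiniteType ℤ A] [IsReduced A] :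
    {p : ℕ | p.Prime ∧ ¬ IsReduced (A ⧸ Ideal.span {(p : A)})}.Finite := by
  classical
  haveI : IsNoetherianRing A := Algebra.FiniteType.isNoetherianRing ℤ A
  haveI hfin : Finite {P : Ideal A // P ∈ minimalPrimes A} :=
    (minimalPrimes.finite_of_isNoetherianRing A).to_subtype
  haveI := Fintype.ofFinite {P : Ideal A // P ∈ minimalPrimes A}
  haveI hprime : ∀ i : {P : Ideal A // P ∈ minimalPrimes A}, i.1.IsPrime := fun i => i.2.1.1
  have hD : ∀ i : {P : Ideal A // P ∈ minimalPrimes A}, ∃ N : ℕ, N ≠ 0 ∧ ∀ p : ℕ, p.Prime →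
      ¬ p ∣ N → IsReduced ((A ⧸ i.1) ⧸ Ideal.span {(p : A ⧸ i.1)}) := fun i =>
    exists_isReduced_quotient_of_domain (A ⧸ i.1)
  choose Ni hNi0 hNi using hD
  -- the cokernel of `A → ∏ A ⧸ P`
  obtain ⟨N₀, hN₀0, hN₀⟩ := exists_no_torsion A
    ((∀ i : {P : Ideal A // P ∈ minimalPrimes A}, A ⧸ i.1) ⧸
      LinearMap.range (Algebra.linearMap A (∀ i : {P : Ideal A // P ∈ minimalPrimes A}, A ⧸ i.1)))
  have hN0 : N₀ * ∏ i, Ni i ≠ 0 := mul_ne_zero hN₀0 (Finset.prod_ne_zero_iff.mpr fun i _ => hNi0 i)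
  refine ((Nat.divisors (N₀ * ∏ i, Ni i)).finite_toSet).subset ?_
  rintro p ⟨hp, hnot⟩
  rw [Finset.mem_coe, Nat.mem_divisors]
  refine ⟨?_, hN0⟩
  by_contra hpN
  apply hnot
  have hpN₀ : ¬ p ∣ N₀ := fun h => hpN (Dvd.dvd.mul_right h _)
  have hpNi : ∀ i, ¬ p ∣ Ni i := fun i h =>
    hpN (Dvd.dvd.mul_left (h.trans (Finset.dvd_prod_of_mem Ni (Finset.mem_univ i))) _)
  constructor
  intro x hx
  obtain ⟨x, rfl⟩ := Ideal.Quotient.mk_surjective x
  obtain ⟨n, hn⟩ := hx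
  rw [← map_pow, Ideal.Quotient.eq_zero_iff_mem] at hn
  rw [Ideal.Quotient.eq_zero_iff_mem]
  obtain ⟨c, hc⟩ := Ideal.mem_span_singleton'.mp hn
  -- componentwise divisibility
  have hcomp : ∀ i : {P : Ideal A // P ∈ minimalPrimes A}, ∃ b : A, x - (p : A) * b ∈ i.1 := by
    intro i
    haveI := hNi i p hp (hpNi i)
    have h1 : IsNilpotent (Ideal.Quotient.mk (Ideal.span {(p : A ⧸ i.1)})
        (Ideal.Quotient.mk i.1 x)) := by
      refine ⟨n, ?_⟩
      rw [← map_pow, ← map_pow, Ideal.Quotient.eq_zero_iff_mem, ← hc, map_mul, map_natCast]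
      exact Ideal.mem_span_singleton'.mpr ⟨_, rfl⟩
    have h2 := h1.eq_zero
    rw [Ideal.Quotient.eq_zero_iff_mem, Ideal.mem_span_singleton'] at h2
    obtain ⟨b, hb⟩ := h2
    obtain ⟨b, rfl⟩ := Ideal.Quotient.mk_surjective b
    refine ⟨b, ?_⟩
    rw [← Ideal.Quotient.eq_zero_iff_mem, map_sub, map_mul, map_natCast, ← hb, mul_comm, sub_self]
  choose b hb using hcomp
  -- the element `β`
  set β : ∀ i : {P : Ideal A // P ∈ minimalPrimes A}, A ⧸ i.1 := fun i => Ideal.Quotient.mk i.1 (b i)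
    with hβ
  have hpβ : (p : A) • β = Algebra.linearMap A _ x := by
    funext i
    change (p : A) • Ideal.Quotient.mk i.1 (b i) = Ideal.Quotient.mk i.1 x
    have h0 : (p : A) • Ideal.Quotient.mk i.1 (b i) = Ideal.Quotient.mk i.1 ((p : A) * b i) := rfl
    rw [h0, eq_comm, ← sub_eq_zero, ← map_sub, Ideal.Quotient.eq_zero_iff_mem]
    exact hb i
  have h3 : (p : A) • (Submodule.Quotient.mk β :
      (∀ i : {P : Ideal A // P ∈ minimalPrimes A}, A ⧸ i.1) ⧸
      LinearMap.range (Algebra.linearMap A (∀ i : {P : Ideal A // P ∈ minimalPrimes A}, A ⧸ i.1)))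
      = 0 := by
    rw [← Submodule.Quotient.mk_smul, hpβ, Submodule.Quotient.mk_eq_zero]
    exact LinearMap.mem_range_self _ x
  have h4 := hN₀ p hp hpN₀ _ h3
  rw [Submodule.Quotient.mk_eq_zero] at h4
  obtain ⟨a', ha'⟩ := h4
  have h5 : x - (p : A) * a' ∈ sInf (minimalPrimes A) := by
    rw [Ideal.mem_sInf]
    intro P hP
    have h6 : Ideal.Quotient.mk P a' = Ideal.Quotient.mk P (b ⟨P, hP⟩) := congrFun ha' ⟨P, hP⟩
    have h7 : a' - b ⟨P, hP⟩ ∈ P := by
      rw [← Ideal.Quotient.eq_zero_iff_mem, map_sub, h6, sub_self]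
    have h8 := hb ⟨P, hP⟩
    have : x - (p : A) * a' = (x - (p : A) * b ⟨P, hP⟩) - (p : A) * (a' - b ⟨P, hP⟩) := by ring
    rw [this]
    exact P.sub_mem h8 (P.mul_mem_left _ h7)
  have h9 : sInf (minimalPrimes A) = ⊥ := by
    have h10 : sInf (minimalPrimes A) = (⊥ : Ideal A).radical := Ideal.sInf_minimalPrimes
    rw [h10]
    exact nilradical_eq_zero A
  rw [h9, Ideal.mem_bot, sub_eq_zero] at h5
  rw [h5]
  exact Ideal.mem_span_singleton'.mpr ⟨a', mul_comm _ _⟩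

end Groth.Agent.Lib.Helper22.RedZ
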