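import Mathlib
import Groth.Prelude.Def_EGA4b
import Groth.Agent.S2038
import Groth.Agent.Lib.Helper22.RegHomLocA
import Groth.Agent.Lib.Helper5.GorFibreA

/-!
# Regular homomorphisms are detected on the local homomorphisms `A_p → B_q` (helper22), part B
-/

set_option autoImplicit false
set_option linter.unusedSectionVars false
set_option linter.style.haveILetI false
universe u

namespace Groth.Agent.Lib.Helper22.RegHomLoc

open IsLocalRing TensorProduct

variable (A B : Type u) [CommRing A] [CommRing B] [Algebra A B] [IsNoetherianRing A]
  [IsNoetherianRing B]

set_option maxHeartbeats 800000 in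
theorem adicFormallySmooth_of_isRegularHom (h : CAlg.IsRegularHom A B) (q : Ideal B) [q.IsPrime] :
    letI := (Localization.localRingHom (Ideal.comap (algebraMap A B) q) q
      (algebraMap A B) rfl).toAlgebra
    CAlgX.IsAdicFormallySmooth (Localization.AtPrime (Ideal.comap (algebraMap A B) q))
      (Localization.AtPrime q) (IsLocalRing.maximalIdeal (Localization.AtPrime q)) := by
  letI alg : Algebra (Localization.AtPrime (Ideal.comap (algebraMap A B) q))
      (Localization.AtPrime q) :=
    (Localization.localRingHom (Ideal.comap (algebraMap A B) q) q (algebraMap A B) rfl).toAlgebra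
  haveI htower : IsScalarTower A (Localization.AtPrime (q.comap (algebraMap A B)))
      (Localization.AtPrime q) := by
    refine IsScalarTower.of_algebraMap_eq (fun a => ?_)
    change _ = Localization.localRingHom (q.comap (algebraMap A B)) q (algebraMap A B) rfl
      (algebraMap A _ a)
    rw [Localization.localRingHom_to_map, ← IsScalarTower.algebraMap_apply]
  haveI : IsLocalHom (algebraMap (Localization.AtPrime (q.comap (algebraMap A B)))
      (Localization.AtPrime q)) := by
    rw [RingHom.algebraMap_toAlgebra]
    exact Localization.isLocalHom_localRingHom _ _ _ rfl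
  haveI hflatAB : Module.Flat A B := h.1
  have hflat : Module.Flat (Localization.AtPrime (q.comap (algebraMap A B)))
      (Localization.AtPrime q) :=
    RingHom.Flat.localRingHom (RingHom.flat_algebraMap_iff.mpr hflatAB) q
      (q.comap (algebraMap A B)) rfl
  refine Groth.Agent.S2038.result.mp ⟨hflat, ?_⟩
  intro K' _ _ hfin
  -- structures on `K'`
  letI : Algebra (Localization.AtPrime (q.comap (algebraMap A B))) K' :=
    ((algebraMap (maximalIdeal (Localization.AtPrime (q.comap (algebraMap A B)))).ResidueField
      K').comp (algebraMap (Localization.AtPrime (q.comap (algebraMap A B))) _)).toAlgebra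
  haveI : IsScalarTower (Localization.AtPrime (q.comap (algebraMap A B)))
      (maximalIdeal (Localization.AtPrime (q.comap (algebraMap A B)))).ResidueField K' :=
    .of_algebraMap_eq (fun _ => rfl)
  letI : Algebra A K' := ((algebraMap (Localization.AtPrime (q.comap (algebraMap A B))) K').comp
    (algebraMap A _)).toAlgebra
  haveI : IsScalarTower A (Localization.AtPrime (q.comap (algebraMap A B))) K' :=
    .of_algebraMap_eq (fun _ => rfl)
  haveI hloc : IsLocalHom (algebraMap (Localization.AtPrime (q.comap (algebraMap A B))) K') := by
    constructor
    intro x hx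
    by_contra hxu
    have hxm : x ∈ maximalIdeal (Localization.AtPrime (q.comap (algebraMap A B))) :=
      (mem_maximalIdeal x).mpr hxu
    have h0 : algebraMap (Localization.AtPrime (q.comap (algebraMap A B))) K' x = 0 := by
      rw [IsScalarTower.algebraMap_apply (Localization.AtPrime (q.comap (algebraMap A B)))
        (maximalIdeal (Localization.AtPrime (q.comap (algebraMap A B)))).ResidueField K',
        Ideal.algebraMap_residueField_eq_zero.mpr hxm, map_zero]
    rw [h0] at hx
    exact not_isUnit_zero hx
  letI : Algebra (q.comap (algebraMap A B)).ResidueField K' :=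
    (IsLocalRing.ResidueField.lift
      (algebraMap (Localization.AtPrime (q.comap (algebraMap A B))) K')).toAlgebra
  haveI : IsScalarTower (Localization.AtPrime (q.comap (algebraMap A B)))
      (q.comap (algebraMap A B)).ResidueField K' :=
    .of_algebraMap_eq (fun x => (IsLocalRing.ResidueField.lift_residue_apply _ x).symm)
  haveI : IsScalarTower A (q.comap (algebraMap A B)).ResidueField K' :=
    .of_algebraMap_eq (fun a => by
      rw [IsScalarTower.algebraMap_apply A (Localization.AtPrime (q.comap (algebraMap A B))) K',
        IsScalarTower.algebraMap_apply (Localization.AtPrime (q.comap (algebraMap A B)))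
          (q.comap (algebraMap A B)).ResidueField K',
        ← IsScalarTower.algebraMap_apply A (Localization.AtPrime (q.comap (algebraMap A B)))
          (q.comap (algebraMap A B)).ResidueField])
  haveI : Module.Finite (Localization.AtPrime (q.comap (algebraMap A B))) K' :=
    Module.Finite.trans
      (maximalIdeal (Localization.AtPrime (q.comap (algebraMap A B)))).ResidueField K'
  haveI hfin' : Module.Finite (q.comap (algebraMap A B)).ResidueField K' :=
    Module.Finite.of_restrictScalars_finite (Localization.AtPrime (q.comap (algebraMap A B))) _ _
  have h1 : IsRegularRing (K' ⊗[(q.comap (algebraMap A B)).ResidueField]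
      ((q.comap (algebraMap A B)).Fiber B)) := (h.2 (q.comap (algebraMap A B))).2 K' hfin'
  haveI h2 : IsRegularRing (B ⊗[A] K') :=
    (isRegularRing_fiber_tensor_iff A B (q.comap (algebraMap A B)) K').mp h1
  have h3 : IsRegularRing (Localization.AtPrime q ⊗[A] K') :=
    isRegularRing_localization_tensor A B q K'
  exact (isRegularRing_closedFiber_tensor_iff A (q.comap (algebraMap A B))
    (Localization.AtPrime q) K').mpr h3

end Groth.Agent.Lib.Helper22.RegHomLoc
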