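import Mathlib
import Groth.Prelude.Def_EGA4b
import Groth.Agent.Lib.Helper22.RegHomLocB

/-!
# Regular homomorphisms are detected on the local homomorphisms `A_p → B_q` (helper22), part C
-/

set_option autoImplicit false
set_option linter.unusedSectionVars false
set_option linter.style.haveILetI false
universe u

namespace Groth.Agent.Lib.Helper22.RegHomLoc

open IsLocalRing TensorProduct

variable (A B : Type u) [CommRing A] [CommRing B] [Algebra A B] [IsNoetherianRing A]
  [IsNoetherianRing B]

set_option maxHeartbeats 800000 in
theorem isRegularLocalRing_of_data (p : Ideal A) [p.IsPrime] (K' : Type u) [Field K']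
    [Algebra p.ResidueField K'] [Module.Finite p.ResidueField K'] [Algebra A K']
    [IsScalarTower A p.ResidueField K'] [IsNoetherianRing (B ⊗[A] K')]
    (q : Ideal B) [q.IsPrime] (hqp : q.comap (algebraMap A B) = p)
    (hq : letI := (Localization.localRingHom (Ideal.comap (algebraMap A B) q) q
        (algebraMap A B) rfl).toAlgebra
      CAlg.IsGeometricallyRegular
        (maximalIdeal (Localization.AtPrime (Ideal.comap (algebraMap A B) q))).ResidueField
        ((maximalIdeal (Localization.AtPrime (Ideal.comap (algebraMap A B) q))).Fiber
          (Localization.AtPrime q)))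
    (P : Ideal (B ⊗[A] K')) [P.IsPrime]
    (hP : P.comap (Algebra.TensorProduct.includeLeft : B →ₐ[A] B ⊗[A] K').toRingHom = q) :
    IsRegularLocalRing (Localization.AtPrime P) := by
  subst hqp
  letI alg : Algebra (Localization.AtPrime (Ideal.comap (algebraMap A B) q))
      (Localization.AtPrime q) :=
    (Localization.localRingHom (Ideal.comap (algebraMap A B) q) q (algebraMap A B) rfl).toAlgebra
  haveI htower : IsScalarTower A (Localization.AtPrime (q.comap (algebraMap A B)))
      (Localization.AtPrime q) := by
    refine IsScalarTower.of_algebraMap_eq (fun a => ?_)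
    change _ = Localization.localRingHom (q.comap (algebraMap A B)) q (algebraMap A B) rfl
      (algebraMap A _ a)
    rw [Localization.localRingHom_to_map, ← IsScalarTower.algebraMap_apply]
  -- structures on `K'`
  letI : Algebra (Localization.AtPrime (q.comap (algebraMap A B))) K' :=
    ((algebraMap (q.comap (algebraMap A B)).ResidueField K').comp
      (algebraMap (Localization.AtPrime (q.comap (algebraMap A B))) _)).toAlgebra
  haveI : IsScalarTower (Localization.AtPrime (q.comap (algebraMap A B)))
      (q.comap (algebraMap A B)).ResidueField K' := .of_algebraMap_eq (fun _ => rfl)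
  haveI : IsScalarTower A (Localization.AtPrime (q.comap (algebraMap A B))) K' :=
    .of_algebraMap_eq (fun a => by
      rw [IsScalarTower.algebraMap_apply A (q.comap (algebraMap A B)).ResidueField K',
        IsScalarTower.algebraMap_apply A (Localization.AtPrime (q.comap (algebraMap A B)))
          (q.comap (algebraMap A B)).ResidueField]
      rfl)
  have hm1 : maximalIdeal (Localization.AtPrime (q.comap (algebraMap A B))) ≤
      RingHom.ker (algebraMap (Localization.AtPrime (q.comap (algebraMap A B))) K') := by
    intro x hx
    rw [RingHom.mem_ker, IsScalarTower.algebraMap_apply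
      (Localization.AtPrime (q.comap (algebraMap A B)))
      (q.comap (algebraMap A B)).ResidueField K']
    have : algebraMap (Localization.AtPrime (q.comap (algebraMap A B)))
        (q.comap (algebraMap A B)).ResidueField x = 0 :=
      (IsLocalRing.residue_eq_zero_iff x).mpr hx
    rw [this, map_zero]
  have hm2 : (maximalIdeal (Localization.AtPrime (q.comap (algebraMap A B)))).primeCompl ≤
      (IsUnit.submonoid K').comap
        (algebraMap (Localization.AtPrime (q.comap (algebraMap A B))) K') := by
    intro x hx
    have hxu : IsUnit x := by
      by_contra hxu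
      exact hx ((mem_maximalIdeal x).mpr hxu)
    exact hxu.map _
  letI : Algebra (maximalIdeal (Localization.AtPrime (q.comap (algebraMap A B)))).ResidueField
      K' :=
    (Ideal.ResidueField.lift _
      (algebraMap (Localization.AtPrime (q.comap (algebraMap A B))) K') hm1 hm2).toAlgebra
  haveI : IsScalarTower (Localization.AtPrime (q.comap (algebraMap A B)))
      (maximalIdeal (Localization.AtPrime (q.comap (algebraMap A B)))).ResidueField K' :=
    .of_algebraMap_eq (fun x => (Ideal.ResidueField.lift_algebraMap _ _ hm1 hm2 x).symm)
  haveI : Module.Finite (Localization.AtPrime (q.comap (algebraMap A B)))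
      (q.comap (algebraMap A B)).ResidueField :=
    Module.Finite.of_surjective (Algebra.linearMap _ _) IsLocalRing.residue_surjective
  haveI : Module.Finite (Localization.AtPrime (q.comap (algebraMap A B))) K' :=
    Module.Finite.trans (q.comap (algebraMap A B)).ResidueField K'
  haveI hfin' : Module.Finite
      (maximalIdeal (Localization.AtPrime (q.comap (algebraMap A B)))).ResidueField K' :=
    Module.Finite.of_restrictScalars_finite (Localization.AtPrime (q.comap (algebraMap A B))) _ _
  have h1 : IsRegularRing
      (K' ⊗[(maximalIdeal (Localization.AtPrime (q.comap (algebraMap A B)))).ResidueField]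
        ((maximalIdeal (Localization.AtPrime (q.comap (algebraMap A B)))).Fiber
          (Localization.AtPrime q))) := hq K' hfin'
  haveI h2 : IsRegularRing (Localization.AtPrime q ⊗[A] K') :=
    (isRegularRing_closedFiber_tensor_iff A (q.comap (algebraMap A B))
      (Localization.AtPrime q) K').mp h1
  exact isRegularLocalRing_of_localization_tensor A B q K' P hP

set_option maxHeartbeats 800000 in
theorem isRegularHom_of_forall_adicFormallySmooth
    (H : ∀ (q : Ideal B) [q.IsPrime],
      letI := (Localization.localRingHom (Ideal.comap (algebraMap A B) q) q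
        (algebraMap A B) rfl).toAlgebra
      CAlgX.IsAdicFormallySmooth (Localization.AtPrime (Ideal.comap (algebraMap A B) q))
        (Localization.AtPrime q) (IsLocalRing.maximalIdeal (Localization.AtPrime q))) :
    CAlg.IsRegularHom A B := by
  have key : ∀ (q : Ideal B) [q.IsPrime],
      letI := (Localization.localRingHom (Ideal.comap (algebraMap A B) q) q
        (algebraMap A B) rfl).toAlgebra
      Module.Flat (Localization.AtPrime (Ideal.comap (algebraMap A B) q))
        (Localization.AtPrime q) ∧
      CAlg.IsGeometricallyRegular
        (maximalIdeal (Localization.AtPrime (Ideal.comap (algebraMap A B) q))).ResidueField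
        ((maximalIdeal (Localization.AtPrime (Ideal.comap (algebraMap A B) q))).Fiber
          (Localization.AtPrime q)) := by
    intro q _
    letI alg : Algebra (Localization.AtPrime (Ideal.comap (algebraMap A B) q))
        (Localization.AtPrime q) :=
      (Localization.localRingHom (Ideal.comap (algebraMap A B) q) q (algebraMap A B)
        rfl).toAlgebra
    haveI : IsLocalHom (algebraMap (Localization.AtPrime (q.comap (algebraMap A B)))
        (Localization.AtPrime q)) := by
      rw [RingHom.algebraMap_toAlgebra]
      exact Localization.isLocalHom_localRingHom _ _ _ rfl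
    exact Groth.Agent.S2038.result.mpr (H q)
  have hflat : Module.Flat A B := by
    apply RingHom.flat_algebraMap_iff.mp
    apply RingHom.Flat.ofLocalizationPrime
    intro J hJ
    exact (key J).1
  refine ⟨hflat, fun p hp => ⟨Groth.Agent.Lib.Helper5.GorFibre.isNoetherianRing_fiber A B p, ?_⟩⟩
  intro K' _ _ hfin
  haveI := hfin
  letI : Algebra A K' := ((algebraMap p.ResidueField K').comp (algebraMap A _)).toAlgebra
  haveI : IsScalarTower A p.ResidueField K' := .of_algebraMap_eq (fun _ => rfl)
  haveI hNF := Groth.Agent.Lib.Helper5.GorFibre.isNoetherianRing_fiber A B p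
  haveI : IsNoetherianRing (K' ⊗[p.ResidueField] (p.Fiber B)) := by
    haveI : IsNoetherianRing ((p.Fiber B) ⊗[p.ResidueField] K') :=
      IsNoetherianRing.of_finite (p.Fiber B) _
    exact isNoetherianRing_of_ringEquiv _
      (Algebra.TensorProduct.comm p.ResidueField (p.Fiber B) K').toRingEquiv
  haveI : IsNoetherianRing (B ⊗[A] K') := by
    let e1 : K' ⊗[p.ResidueField] (p.ResidueField ⊗[A] B) ≃ₐ[K'] K' ⊗[A] B :=
      Algebra.TensorProduct.cancelBaseChange A p.ResidueField K' K' B
    let e2 : K' ⊗[A] B ≃ₐ[A] B ⊗[A] K' := Algebra.TensorProduct.comm A K' B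
    exact isNoetherianRing_of_ringEquiv _ (e1.toRingEquiv.trans e2.toRingEquiv)
  rw [isRegularRing_fiber_tensor_iff A B p K', isRegularRing_iff]
  intro P hP
  have hqp : (P.comap (Algebra.TensorProduct.includeLeft : B →ₐ[A] B ⊗[A] K').toRingHom).comap
      (algebraMap A B) = p := by
    ext a
    rw [Ideal.mem_comap, Ideal.mem_comap]
    have h1 : (Algebra.TensorProduct.includeLeft : B →ₐ[A] B ⊗[A] K').toRingHom
        (algebraMap A B a) = (Algebra.TensorProduct.includeRight : K' →ₐ[A] B ⊗[A] K')
          (algebraMap A K' a) := by
      change (Algebra.TensorProduct.includeLeft : B →ₐ[A] B ⊗[A] K') (algebraMap A B a) = _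
      rw [AlgHom.commutes, AlgHom.commutes]
    rw [h1]
    constructor
    · intro ha
      by_contra hap
      have hne : algebraMap A K' a ≠ 0 := by
        rw [IsScalarTower.algebraMap_apply A p.ResidueField K']
        intro h0
        have := (map_eq_zero (algebraMap p.ResidueField K')).mp h0
        exact hap (Ideal.algebraMap_residueField_eq_zero.mp this)
      have hu : IsUnit ((Algebra.TensorProduct.includeRight : K' →ₐ[A] B ⊗[A] K')
          (algebraMap A K' a)) := (IsUnit.mk0 _ hne).map _
      exact hP.ne_top (Ideal.eq_top_of_isUnit_mem _ ha hu)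
    · intro hap
      have h0 : algebraMap A K' a = 0 := by
        rw [IsScalarTower.algebraMap_apply A p.ResidueField K',
          Ideal.algebraMap_residueField_eq_zero.mpr hap, map_zero]
      rw [h0, map_zero]
      exact Ideal.zero_mem _
  haveI : (P.comap (Algebra.TensorProduct.includeLeft : B →ₐ[A] B ⊗[A] K').toRingHom).IsPrime :=
    Ideal.comap_isPrime _ _
  exact isRegularLocalRing_of_data A B p K' _ hqp (key _).2 P rfl

end Groth.Agent.Lib.Helper22.RegHomLoc
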