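import Mathlib
import Groth.Agent.Lib.Helper22.ClosedPtA

/-!
# A complete Noetherian domain whose nonzero primes all contain the ideal of definition is local
-/

set_option autoImplicit false
set_option linter.style.haveILetI false
set_option linter.unusedSectionVars false
universe u

namespace Groth.Agent.Lib.Helper22.RigClosed

open Polynomial Groth.Agent.Lib.Helper22.ClosedPt

/-- lifting idempotents along a henselian pair -/
theorem exists_idempotent_lift {D : Type*} [CommRing D] (𝔞 : Ideal D) [HenselianRing D 𝔞] (u : D)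
    (hu : u ^ 2 - u ∈ 𝔞) : ∃ e : D, e ^ 2 = e ∧ e - u ∈ 𝔞 := by
  have hmonic : (X ^ 2 - X : D[X]).Monic := by
    apply Polynomial.monic_X_pow_sub
    exact Polynomial.degree_X_le.trans_lt (by norm_num)
  have heval : (X ^ 2 - X : D[X]).eval u ∈ 𝔞 := by simpa using hu
  have hder : IsUnit (Ideal.Quotient.mk 𝔞 ((X ^ 2 - X : D[X]).derivative.eval u)) := by
    have h1 : (X ^ 2 - X : D[X]).derivative.eval u = 2 * u - 1 := by
      simp [Polynomial.derivative_X_pow]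
      ring
    rw [h1]
    have h2 : Ideal.Quotient.mk 𝔞 (2 * u - 1) * Ideal.Quotient.mk 𝔞 (2 * u - 1) = 1 := by
      rw [← map_mul, ← map_one (Ideal.Quotient.mk 𝔞), Ideal.Quotient.eq]
      have : (2 * u - 1) * (2 * u - 1) - 1 = 4 * (u ^ 2 - u) := by ring
      rw [this]
      exact 𝔞.mul_mem_left _ hu
    exact IsUnit.of_mul_eq_one _ h2
  obtain ⟨e, he, hea⟩ := HenselianRing.is_henselian (X ^ 2 - X : D[X]) hmonic u heval hder
  refine ⟨e, ?_, hea⟩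
  have : e ^ 2 - e = 0 := by simpa [Polynomial.IsRoot] using he
  exact sub_eq_zero.mp this

/-- A Noetherian domain, complete for an ideal `𝔞` containing a nonzero element and contained in
every nonzero prime, is a local ring all of whose nonzero primes are maximal. -/
theorem isLocalRing_of_complete_domain (D : Type*) [CommRing D] [IsDomain D] [IsNoetherianRing D]
    (𝔞 : Ideal D) [IsAdicComplete 𝔞 D] (f : D) (hf : f ≠ 0) (hfa : f ∈ 𝔞)
    (h : ∀ q : Ideal D, q.IsPrime → q ≠ ⊥ → 𝔞 ≤ q) : IsLocalRing D := by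
  classical
  have hall : ∀ q : Ideal D, q.IsPrime → q ≠ ⊥ → f ∈ q := fun q hq hq0 => h q hq hq0 hfa
  have hmaxa : ∀ 𝔪 : Ideal D, 𝔪.IsMaximal → 𝔞 ≤ 𝔪 := fun 𝔪 hm =>
    (IsAdicComplete.le_jacobson_bot 𝔞).trans (sInf_le ⟨bot_le, hm⟩)
  have hmax0 : ∀ 𝔪 : Ideal D, 𝔪.IsMaximal → 𝔪 ≠ ⊥ := by
    intro 𝔪 hm hb
    have := hmaxa 𝔪 hm hfa
    rw [hb, Ideal.mem_bot] at this
    exact hf this
  have hfin : (Ideal.span {f}).minimalPrimes.Finite :=
    Ideal.finite_minimalPrimes_of_isNoetherianRing D _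
  have hmem : ∀ q : Ideal D, q.IsPrime → q ≠ ⊥ → q ∈ (Ideal.span {f}).minimalPrimes :=
    fun q hq hq0 => mem_minimalPrimes_of_forall_mem f hf hall q hq0
  have hS0 : ∀ P ∈ (Ideal.span {f}).minimalPrimes, P ≠ ⊥ := by
    intro P hP hb
    have : f ∈ P := hP.1.2 (Ideal.mem_span_singleton_self f)
    rw [hb, Ideal.mem_bot] at this
    exact hf this
  have hSmax : ∀ P ∈ (Ideal.span {f}).minimalPrimes, P.IsMaximal := by
    intro P hP
    haveI := hP.1.1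
    exact isMaximal_of_forall_mem f hf hall P (hS0 P hP)
  apply IsLocalRing.of_unique_max_ideal
  obtain ⟨𝔪₁, hm₁⟩ := Ideal.exists_maximal D
  refine ⟨𝔪₁, hm₁, fun 𝔪₂ hm₂ => ?_⟩
  by_contra hne
  -- the other maximal ideals
  set T : Finset (Ideal D) := hfin.toFinset.erase 𝔪₁ with hT
  set 𝔟 : Ideal D := T.inf id with h𝔟
  have h2T : 𝔪₂ ∈ T := by
    rw [hT, Finset.mem_erase]
    exact ⟨hne, hfin.mem_toFinset.mpr (hmem 𝔪₂ hm₂.isPrime (hmax0 𝔪₂ hm₂))⟩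
  have hb2 : 𝔟 ≤ 𝔪₂ := Finset.inf_le (f := id) h2T
  have hb1 : ¬ 𝔟 ≤ 𝔪₁ := by
    intro hle
    obtain ⟨P, hPT, hP1⟩ := (Ideal.IsPrime.inf_le' hm₁.isPrime).mp hle
    rw [hT, Finset.mem_erase] at hPT
    have hPmax := hSmax P (hfin.mem_toFinset.mp hPT.2)
    exact hPT.1 (hPmax.eq_of_le hm₁.ne_top hP1)
  have hcop : 𝔪₁ ⊔ 𝔟 = ⊤ := by
    by_contra hnt
    have := hm₁.eq_of_le hnt le_sup_left
    exact hb1 (this ▸ le_sup_right)
  -- the intersection lies in the radical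
  have hrad : 𝔪₁ ⊓ 𝔟 ≤ 𝔞.radical := by
    rw [Ideal.radical_eq_sInf]
    refine le_sInf ?_
    rintro q ⟨haq, hq⟩
    have hq0 : q ≠ ⊥ := by
      intro hb
      have := haq hfa
      rw [hb, Ideal.mem_bot] at this
      exact hf this
    have hqS := hmem q hq hq0
    by_cases hq1 : q = 𝔪₁
    · rw [hq1]; exact inf_le_left
    · have : q ∈ T := by
        rw [hT, Finset.mem_erase]
        exact ⟨hq1, hfin.mem_toFinset.mpr hqS⟩
      exact inf_le_right.trans (Finset.inf_le (f := id) this)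
  obtain ⟨m, hm⟩ := Ideal.exists_radical_pow_le_of_fg 𝔞 (IsNoetherian.noetherian _)
  have hpow : (𝔪₁ ⊓ 𝔟) ^ (m + 1) ≤ 𝔞 :=
    (Ideal.pow_le_pow_right (Nat.le_succ m)).trans ((Ideal.pow_right_mono hrad m).trans hm)
  have hcop' : 𝔪₁ ^ (m + 1) ⊔ 𝔟 ^ (m + 1) = ⊤ := Ideal.pow_sup_pow_eq_top hcop
  obtain ⟨u, hu, v, hv, huv⟩ := Submodule.mem_sup.mp (hcop' ▸ (Submodule.mem_top : (1 : D) ∈ ⊤))
  have huv' : u * v ∈ 𝔞 := by
    apply hpow
    have h1 : u * v ∈ 𝔪₁ ^ (m + 1) * 𝔟 ^ (m + 1) := Ideal.mul_mem_mul hu hv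
    rw [← mul_pow] at h1
    exact Ideal.pow_right_mono Ideal.mul_le_inf (m + 1) h1
  have hu2 : u ^ 2 - u ∈ 𝔞 := by
    have : u ^ 2 - u = -(u * v) := by
      have hv' : v = 1 - u := by rw [← huv]; ring
      rw [hv']; ring
    rw [this]
    exact 𝔞.neg_mem huv'
  obtain ⟨e, he, hea⟩ := exists_idempotent_lift 𝔞 u hu2
  have he01 : e = 0 ∨ e = 1 := by
    have : e * (e - 1) = 0 := by rw [mul_sub, mul_one, ← pow_two, he, sub_self]
    rcases mul_eq_zero.mp this with h0 | h1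
    · exact Or.inl h0
    · exact Or.inr (sub_eq_zero.mp h1)
  have hu1 : u ∈ 𝔪₁ := Ideal.pow_le_self (Nat.succ_ne_zero m) hu
  have hvb : v ∈ 𝔟 := Ideal.pow_le_self (Nat.succ_ne_zero m) hv
  rcases he01 with h0 | h1
  · -- `u ∈ 𝔞 ≤ 𝔪₂` and `v ∈ 𝔟 ≤ 𝔪₂`
    rw [h0, zero_sub] at hea
    have hu𝔞 : u ∈ 𝔞 := by simpa using 𝔞.neg_mem hea
    have : (1 : D) ∈ 𝔪₂ := by
      rw [← huv]
      exact 𝔪₂.add_mem (hmaxa 𝔪₂ hm₂ hu𝔞) (hb2 hvb)
    exact hm₂.ne_top ((Ideal.eq_top_iff_one _).mpr this)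
  · rw [h1] at hea
    have : (1 : D) ∈ 𝔪₁ := by
      have h3 : (1 : D) = (1 - u) + u := by ring
      rw [h3]
      exact 𝔪₁.add_mem (hmaxa 𝔪₁ hm₁ hea) hu1
    exact hm₁.ne_top ((Ideal.eq_top_iff_one _).mpr this)

end Groth.Agent.Lib.Helper22.RigClosed
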