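import Mathlib
import Groth.Agent.S3866
import Groth.Agent.S19379
import Groth.Agent.Lib.Helper22.RigClosedA
import Groth.Agent.Lib.Helper22.GLocA
import Groth.Agent.Lib.Helper22.GPolyH
import Groth.Agent.Lib.Helper22.CplLocGlob4
import Groth.Agent.Lib.Helper12.QFRegB
import Groth.Agent.Lib.Helper12.CTensA
import Groth.Agent.Lib.Helper5.RegHomComp
import Groth.Agent.Lib.Helper21.FlatLocal11

/-!
# Quotients by rig-closed primes are complete local G-rings; restricted power series over them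
-/

set_option autoImplicit false
set_option linter.style.haveILetI false
set_option linter.unusedSectionVars false
universe u

namespace Groth.Agent.Lib.Helper22.RigClosed

open IsLocalRing Groth.Agent.Lib.Helper22.ClosedPt

variable (A : Type u) [CommRing A] [IsNoetherianRing A] (I : Ideal A) [IsAdicComplete I A]
  (p : Ideal A) [p.IsPrime]

theorem isAdicComplete_quotient_map :
    IsAdicComplete (I.map (algebraMap A (A ⧸ p))) (A ⧸ p) := by
  have h1 : IsAdicComplete I (A ⧸ p) := Groth.Agent.S3866.result A I (A ⧸ p)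
  have _ : IsHausdorff (I.map (algebraMap A (A ⧸ p))) (A ⧸ p) :=
    (IsHausdorff.map_algebraMap_iff (I := I) (S := A ⧸ p) (M := A ⧸ p)).2 h1.toIsHausdorff
  have _ : IsPrecomplete (I.map (algebraMap A (A ⧸ p))) (A ⧸ p) :=
    (IsPrecomplete.map_algebraMap_iff (I := I) (S := A ⧸ p) (M := A ⧸ p)).2 h1.toIsPrecomplete
  exact {}

include I in
theorem isGRing_quotient_rigClosed (hp : ¬ I ≤ p)
    (hmax : ∀ q : Ideal A, q.IsPrime → p ≤ q → ¬ I ≤ q → q = p) : CAlg.IsGRing (A ⧸ p) := by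
  haveI hc := isAdicComplete_quotient_map A I p
  obtain ⟨f, hfI, hfp⟩ := Set.not_subset.mp hp
  have hf0 : algebraMap A (A ⧸ p) f ≠ 0 := by
    rw [Ideal.Quotient.algebraMap_eq, Ne, Ideal.Quotient.eq_zero_iff_mem]
    exact hfp
  have hfa : algebraMap A (A ⧸ p) f ∈ I.map (algebraMap A (A ⧸ p)) := Ideal.mem_map_of_mem _ hfI
  have hsurj : Function.Surjective (algebraMap A (A ⧸ p)) := Ideal.Quotient.mk_surjective
  have hprime : ∀ q : Ideal (A ⧸ p), q.IsPrime → q ≠ ⊥ → I.map (algebraMap A (A ⧸ p)) ≤ q := by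
    intro q hq hq0
    rw [Ideal.map_le_iff_le_comap]
    by_contra hIq
    have hpq : p ≤ q.comap (algebraMap A (A ⧸ p)) := by
      intro x hx
      rw [Ideal.mem_comap, Ideal.Quotient.algebraMap_eq, Ideal.Quotient.eq_zero_iff_mem.mpr hx]
      exact zero_mem _
    have := hmax _ (Ideal.IsPrime.comap _) hpq hIq
    apply hq0
    rw [← Ideal.map_comap_of_surjective _ hsurj q, this, Ideal.Quotient.algebraMap_eq,
      Ideal.map_quotient_self]
  haveI hloc : IsLocalRing (A ⧸ p) :=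
    isLocalRing_of_complete_domain (A ⧸ p) (I.map (algebraMap A (A ⧸ p))) _ hf0 hfa hprime
  have hall : ∀ q : Ideal (A ⧸ p), q.IsPrime → q ≠ ⊥ → algebraMap A (A ⧸ p) f ∈ q :=
    fun q hq hq0 => hprime q hq hq0 hfa
  have hle : I.map (algebraMap A (A ⧸ p)) ≤ maximalIdeal (A ⧸ p) :=
    (IsAdicComplete.le_jacobson_bot _).trans (sInf_le ⟨bot_le, inferInstance⟩)
  have hrad : maximalIdeal (A ⧸ p) ≤ (I.map (algebraMap A (A ⧸ p))).radical := by
    rw [Ideal.radical_eq_sInf]
    refine le_sInf ?_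
    rintro q ⟨haq, hq⟩
    have hq0 : q ≠ ⊥ := by
      intro hb
      have := haq hfa
      rw [hb, Ideal.mem_bot] at this
      exact hf0 this
    haveI := hq
    have hqmax : q.IsMaximal := isMaximal_of_forall_mem _ hf0 hall q hq0
    rw [IsLocalRing.eq_maximalIdeal hqmax]
  obtain ⟨k, hk⟩ := Ideal.exists_radical_pow_le_of_fg (I.map (algebraMap A (A ⧸ p)))
    (IsNoetherian.noetherian _)
  haveI : IsAdicComplete (maximalIdeal (A ⧸ p)) (A ⧸ p) :=
    Groth.Agent.Lib.Helper12.CTens.isAdicComplete_of_pow_le (I.map (algebraMap A (A ⧸ p)))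
      (maximalIdeal (A ⧸ p)) k hle ((Ideal.pow_right_mono hrad k).trans hk)
  exact Groth.Agent.Lib.Helper22.GRing.isGRing_of_isRegularHom_cpl (A ⧸ p)
    (Groth.Agent.Lib.Helper12.QFReg.isRegularHom_cpl_of_isAdicComplete (A ⧸ p))

include I in
theorem isRegularHom_restrictedPowerSeries (hp : ¬ I ≤ p)
    (hmax : ∀ q : Ideal A, q.IsPrime → p ≤ q → ¬ I ≤ q → q = p) (n : ℕ) :
    CAlg.IsRegularHom (A ⧸ p)
      (AdicCompletion (I.map (algebraMap A (MvPolynomial (Fin n) (A ⧸ p))))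
        (MvPolynomial (Fin n) (A ⧸ p))) := by
  have hD := isGRing_quotient_rigClosed A I p hp hmax
  have hB : CAlg.IsGRing (MvPolynomial (Fin n) (A ⧸ p)) :=
    Groth.Agent.Lib.Helper22.GRing.isGRing_mvPolynomial (A ⧸ p) hD n
  haveI := hB.1
  haveI : IsNoetherianRing (AdicCompletion (I.map (algebraMap A (MvPolynomial (Fin n) (A ⧸ p))))
      (MvPolynomial (Fin n) (A ⧸ p))) :=
    Groth.Agent.Lib.helper19.isNoetherianRing_adicCompletion _ _
  have h1 := Groth.Agent.Lib.Helper22.CplLocGlob.isRegularHom_adicCompletion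
    (MvPolynomial (Fin n) (A ⧸ p)) (I.map (algebraMap A (MvPolynomial (Fin n) (A ⧸ p)))) hB.2
  have h2 : CAlg.IsRegularHom (A ⧸ p) (MvPolynomial (Fin n) (A ⧸ p)) :=
    Groth.Agent.S19379.result _ _
  exact Groth.Agent.Lib.Helper5.RegHom.isRegularHom_comp (A ⧸ p) (MvPolynomial (Fin n) (A ⧸ p)) _
    h2 h1 (fun q _ => Groth.Agent.Lib.Helper21.FlatLocal.isNoetherianRing_fiber q)

end Groth.Agent.Lib.Helper22.RigClosed
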