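import Mathlib
import Groth.Prelude.Def_CAlg2
import Groth.Agent.Lib.Helper12.StrictStruct5
import Groth.Agent.Lib.Helper22.BrCountEss
import Groth.Agent.Lib.Helper22.BrCountGeoLe
import Groth.Agent.S9236

/-!
# Localizations of a strict henselization at primes over a geometrically unibranch point have
prime nilradical
-/

set_option autoImplicit false
set_option linter.style.haveILetI false
set_option linter.unusedSectionVars false

namespace Groth.Agent.Lib.Helper22.SHConn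

open IsLocalRing Groth.Agent.Lib.Helper12

universe u

/-- the nilradical is prime when there is at most one minimal prime -/
theorem nil_mul_of_encard_le_one {E : Type*} [CommRing E] [Nontrivial E]
    (h : (minimalPrimes E).encard ≤ 1) (a b : E) (hab : IsNilpotent (a * b)) :
    IsNilpotent a ∨ IsNilpotent b := by
  obtain ⟨⟨𝔮₀, h𝔮₀⟩⟩ := Ideal.nonempty_minimalPrimes (I := (⊥ : Ideal E)) bot_ne_top
  have huniq : ∀ 𝔮 ∈ minimalPrimes E, 𝔮 = 𝔮₀ := fun 𝔮 h𝔮 =>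
    Set.encard_le_one_iff.mp h 𝔮 𝔮₀ h𝔮 h𝔮₀
  have hnil : nilradical E = 𝔮₀ := by
    rw [nilradical, ← Ideal.sInf_minimalPrimes]
    have : (⊥ : Ideal E).minimalPrimes = {𝔮₀} := by
      ext 𝔮
      exact ⟨fun h => huniq 𝔮 h, fun h => (Set.mem_singleton_iff.mp h) ▸ h𝔮₀⟩
    rw [Ideal.zero_eq_bot, this, sInf_singleton]
  have hprime : (nilradical E).IsPrime := hnil ▸ h𝔮₀.1.1
  exact (hprime.mem_or_mem (mem_nilradical.mpr hab)).imp mem_nilradical.mp mem_nilradical.mp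

variable (A : Type u) [CommRing A] [IsLocalRing A]
  (S : Type u) [CommRing S] [IsLocalRing S] [Algebra A S] [IsLocalHom (algebraMap A S)]
  [Hensel.IsStrictHenselization A S]

theorem lemmaX (𝔓 : Ideal S) [𝔓.IsPrime]
    (hGU : CAlg2.IsGeomUnibranch (Localization.AtPrime (𝔓.comap (algebraMap A S))))
    (s₁ s₂ w : S) (hw : w ∉ 𝔓) (n : ℕ) (h : (s₁ * s₂) ^ n * w = 0) :
    ∃ (w' : S) (m : ℕ), w' ∉ 𝔓 ∧ (s₁ ^ m * w' = 0 ∨ s₂ ^ m * w' = 0) := by
  classical
  obtain ⟨i, ψ, hψinj, -, hrange, -⟩ := StrictStruct.exists_nbhd_range' A S {s₁, s₂, w}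
  obtain ⟨g₁, hg₁⟩ := hrange s₁ (by simp)
  obtain ⟨g₂, hg₂⟩ := hrange s₂ (by simp)
  obtain ⟨gw, hgw⟩ := hrange w (by simp)
  obtain ⟨c₁, ⟨d₁, hd₁⟩, hcd₁⟩ := IsLocalization.exists_mk'_eq (RingHom.ker i.π).primeCompl g₁
  obtain ⟨c₂, ⟨d₂, hd₂⟩, hcd₂⟩ := IsLocalization.exists_mk'_eq (RingHom.ker i.π).primeCompl g₂
  obtain ⟨cw, ⟨dw, hdw⟩, hcdw⟩ := IsLocalization.exists_mk'_eq (RingHom.ker i.π).primeCompl gw
  let χ : i.Ring →+* S := (ψ : i.G →+* S).comp (algebraMap i.Ring i.G)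
  have hχA : ∀ a : A, χ (algebraMap A i.Ring a) = algebraMap A S a := by
    intro a
    change ψ (algebraMap i.Ring i.G (algebraMap A i.Ring a)) = _
    rw [← IsScalarTower.algebraMap_apply A i.Ring i.G, ψ.commutes]
  have hχunit : ∀ d : i.Ring, d ∈ (RingHom.ker i.π).primeCompl → IsUnit (χ d) := fun d hd =>
    (IsLocalization.map_units i.G (⟨d, hd⟩ : (RingHom.ker i.π).primeCompl)).map ψ
  have hnotmem : ∀ d : i.Ring, d ∈ (RingHom.ker i.π).primeCompl → χ d ∉ 𝔓 := fun d hd hmem =>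
    (‹𝔓.IsPrime›).ne_top (Ideal.eq_top_of_isUnit_mem _ hmem (hχunit d hd))
  have hspec : ∀ (g : i.G) (c d : i.Ring) (hd : d ∈ (RingHom.ker i.π).primeCompl),
      IsLocalization.mk' i.G c (⟨d, hd⟩ : (RingHom.ker i.π).primeCompl) = g →
      ψ g * χ d = χ c := by
    intro g c d hd hg
    change ψ g * ψ (algebraMap i.Ring i.G d) = ψ (algebraMap i.Ring i.G c)
    rw [← map_mul, ← hg, IsLocalization.mk'_spec]
  have e₁ : s₁ * χ d₁ = χ c₁ := hg₁ ▸ hspec g₁ c₁ d₁ hd₁ hcd₁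
  have e₂ : s₂ * χ d₂ = χ c₂ := hg₂ ▸ hspec g₂ c₂ d₂ hd₂ hcd₂
  have ew : w * χ dw = χ cw := hgw ▸ hspec gw cw dw hdw hcdw
  -- the relation in `i.Ring`
  have hzero : χ ((c₁ * c₂) ^ n * cw) = 0 := by
    rw [map_mul, map_pow, map_mul, ← e₁, ← e₂, ← ew]
    calc (s₁ * χ d₁ * (s₂ * χ d₂)) ^ n * (w * χ dw)
        = ((s₁ * s₂) ^ n * w) * ((χ d₁ * χ d₂) ^ n * χ dw) := by ring
      _ = 0 := by rw [h, zero_mul]
  have hzero' : algebraMap i.Ring i.G ((c₁ * c₂) ^ n * cw) = 0 := by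
    apply hψinj
    rw [map_zero]
    exact hzero
  obtain ⟨⟨d, hd⟩, hdz⟩ := (IsLocalization.map_eq_zero_iff (RingHom.ker i.π).primeCompl i.G _).mp
    hzero'
  simp only at hdz
  let 𝔯 : Ideal i.Ring := 𝔓.comap χ
  haveI h𝔯 : 𝔯.IsPrime := Ideal.comap_isPrime _ _
  have hcw : cw ∉ 𝔯 := by
    intro hmem
    have h1 : w * χ dw ∈ 𝔓 := ew ▸ hmem
    rcases (‹𝔓.IsPrime›).mem_or_mem h1 with h2 | h2
    · exact hw h2
    · exact hnotmem dw hdw h2
  have hd𝔯 : d ∉ 𝔯 := fun hmem => hnotmem d hd hmem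
  have h𝔯comap : 𝔯.comap (algebraMap A i.Ring) = 𝔓.comap (algebraMap A S) := by
    ext a
    change χ (algebraMap A i.Ring a) ∈ 𝔓 ↔ _
    rw [hχA]
    rfl
  -- the local ring of `i.Ring` at `𝔯` is essentially étale over the localization of `A`
  letI algBE : Algebra (Localization.AtPrime (𝔓.comap (algebraMap A S)))
      (Localization.AtPrime 𝔯) :=
    (Localization.localRingHom (𝔓.comap (algebraMap A S)) 𝔯 (algebraMap A i.Ring)
      h𝔯comap.symm).toAlgebra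
  haveI : IsScalarTower A (Localization.AtPrime (𝔓.comap (algebraMap A S)))
      (Localization.AtPrime 𝔯) := by
    refine IsScalarTower.of_algebraMap_eq (fun a => ?_)
    change _ = Localization.localRingHom _ _ _ _ (algebraMap A _ a)
    rw [Localization.localRingHom_to_map, ← IsScalarTower.algebraMap_apply]
  haveI : IsLocalHom (algebraMap (Localization.AtPrime (𝔓.comap (algebraMap A S)))
      (Localization.AtPrime 𝔯)) :=
    Localization.isLocalHom_localRingHom _ _ _ _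
  have hess := Groth.Agent.Lib.Helper22.BrCountEss.isEssentiallyEtale_of_chart
    (A₀ := A) (C := i.Ring) (𝔓.comap (algebraMap A S))
    (Localization.AtPrime (𝔓.comap (algebraMap A S))) 𝔯 h𝔯comap (Localization.AtPrime 𝔯)
  have hcard := Groth.Agent.Lib.Helper22.BrCountGeoLe.encard_minimalPrimes_le_numGeomBranches
    (Localization.AtPrime (𝔓.comap (algebraMap A S))) (Localization.AtPrime 𝔯) hess
  rw [(Groth.Agent.S9236.result _).mpr hGU] at hcard
  -- nilpotency in the localization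
  have hnil : IsNilpotent (algebraMap i.Ring (Localization.AtPrime 𝔯) c₁ *
      algebraMap i.Ring (Localization.AtPrime 𝔯) c₂) := by
    refine ⟨n, ?_⟩
    rw [← map_mul, ← map_pow, IsLocalization.map_eq_zero_iff 𝔯.primeCompl]
    refine ⟨⟨d * cw, 𝔯.primeCompl.mul_mem hd𝔯 hcw⟩, ?_⟩
    simp only
    rw [mul_assoc, mul_comm cw, hdz]
  have hfin : ∀ c : i.Ring, IsNilpotent (algebraMap i.Ring (Localization.AtPrime 𝔯) c) →
      ∃ (w' : S) (m : ℕ), w' ∉ 𝔓 ∧ (χ c) ^ m * w' = 0 := by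
    rintro c ⟨m, hm⟩
    rw [← map_pow, IsLocalization.map_eq_zero_iff 𝔯.primeCompl] at hm
    obtain ⟨⟨d', hd'⟩, hd'z⟩ := hm
    simp only at hd'z
    refine ⟨χ d', m, hd', ?_⟩
    rw [← map_pow, ← map_mul, mul_comm, hd'z, map_zero]
  rcases nil_mul_of_encard_le_one hcard _ _ hnil with h1 | h1
  · obtain ⟨w', m, hw', hz⟩ := hfin c₁ h1
    refine ⟨(χ d₁) ^ m * w', m, ?_, Or.inl ?_⟩
    · intro hmem
      rcases (‹𝔓.IsPrime›).mem_or_mem hmem with h2 | h2
      · exact hnotmem d₁ hd₁ ((‹𝔓.IsPrime›).mem_of_pow_mem m h2)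
      · exact hw' h2
    · rw [← mul_assoc, ← mul_pow, e₁, hz]
  · obtain ⟨w', m, hw', hz⟩ := hfin c₂ h1
    refine ⟨(χ d₂) ^ m * w', m, ?_, Or.inr ?_⟩
    · intro hmem
      rcases (‹𝔓.IsPrime›).mem_or_mem hmem with h2 | h2
      · exact hnotmem d₂ hd₂ ((‹𝔓.IsPrime›).mem_of_pow_mem m h2)
      · exact hw' h2
    · rw [← mul_assoc, ← mul_pow, e₂, hz]

end Groth.Agent.Lib.Helper22.SHConn
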