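import Mathlib
import Groth.Prelude.Def_CAlg2
import Groth.Agent.Lib.Helper12.BrnchH
import Groth.Agent.Lib.Helper22.SHConnA
import Groth.Agent.S0538

/-!
# A local ring whose strict henselization has connected punctured spectrum and whose proper
localizations are geometrically unibranch is geometrically unibranch
-/

set_option autoImplicit false
set_option linter.style.haveILetI false
set_option linter.unusedSectionVars false

namespace Groth.Agent.Lib.Helper22.SHConn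

open IsLocalRing Groth.Agent.Lib.Helper12

universe u

variable (A : Type u) [CommRing A] [IsLocalRing A]
  (S : Type u) [CommRing S] [IsLocalRing S] [Algebra A S] [IsLocalHom (algebraMap A S)]
  [Hensel.IsStrictHenselization A S]

/-- the nilradical of the localization of `S` at a prime over a geometrically unibranch point is
prime -/
theorem isPrime_nilradical_localization (𝔓 : Ideal S) [𝔓.IsPrime]
    (hGU : CAlg2.IsGeomUnibranch (Localization.AtPrime (𝔓.comap (algebraMap A S)))) :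
    (nilradical (Localization.AtPrime 𝔓)).IsPrime := by
  refine ⟨?_, ?_⟩
  · intro htop
    have h1 : (1 : Localization.AtPrime 𝔓) ∈ nilradical (Localization.AtPrime 𝔓) := by
      rw [htop]; exact Submodule.mem_top
    exact not_isNilpotent_one (mem_nilradical.mp h1)
  · intro x y hxy
    obtain ⟨s₁, ⟨t₁, ht₁⟩, hx⟩ := IsLocalization.exists_mk'_eq 𝔓.primeCompl x
    obtain ⟨s₂, ⟨t₂, ht₂⟩, hy⟩ := IsLocalization.exists_mk'_eq 𝔓.primeCompl y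
    have hx' : x * algebraMap S (Localization.AtPrime 𝔓) t₁ =
        algebraMap S (Localization.AtPrime 𝔓) s₁ := by
      rw [← hx]; exact IsLocalization.mk'_spec _ s₁ ⟨t₁, ht₁⟩
    have hy' : y * algebraMap S (Localization.AtPrime 𝔓) t₂ =
        algebraMap S (Localization.AtPrime 𝔓) s₂ := by
      rw [← hy]; exact IsLocalization.mk'_spec _ s₂ ⟨t₂, ht₂⟩
    have hu₁ : IsUnit (algebraMap S (Localization.AtPrime 𝔓) t₁) :=
      IsLocalization.map_units _ (⟨t₁, ht₁⟩ : 𝔓.primeCompl)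
    have hu₂ : IsUnit (algebraMap S (Localization.AtPrime 𝔓) t₂) :=
      IsLocalization.map_units _ (⟨t₂, ht₂⟩ : 𝔓.primeCompl)
    have hnil : IsNilpotent (algebraMap S (Localization.AtPrime 𝔓) (s₁ * s₂)) := by
      rw [map_mul, ← hx', ← hy']
      have : x * algebraMap S (Localization.AtPrime 𝔓) t₁ *
          (y * algebraMap S (Localization.AtPrime 𝔓) t₂) =
          (x * y) * (algebraMap S (Localization.AtPrime 𝔓) t₁ *
            algebraMap S (Localization.AtPrime 𝔓) t₂) := by ring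
      rw [this]
      exact (Commute.all _ _).isNilpotent_mul_right (mem_nilradical.mp hxy)
    obtain ⟨n, hn⟩ := hnil
    rw [← map_pow, IsLocalization.map_eq_zero_iff 𝔓.primeCompl] at hn
    obtain ⟨⟨w, hw⟩, hwz⟩ := hn
    simp only at hwz
    obtain ⟨w', m, hw', hz⟩ := lemmaX A S 𝔓 hGU s₁ s₂ w hw n (by rw [mul_comm]; exact hwz)
    have hback : ∀ (z : Localization.AtPrime 𝔓) (s t : S),
        IsUnit (algebraMap S (Localization.AtPrime 𝔓) t) →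
        z * algebraMap S (Localization.AtPrime 𝔓) t = algebraMap S (Localization.AtPrime 𝔓) s →
        s ^ m * w' = 0 → z ∈ nilradical (Localization.AtPrime 𝔓) := by
      intro z s t hu hz' hs
      have h1 : algebraMap S (Localization.AtPrime 𝔓) (s ^ m) = 0 := by
        rw [IsLocalization.map_eq_zero_iff 𝔓.primeCompl]
        exact ⟨⟨w', hw'⟩, by simp only; rw [mul_comm]; exact hs⟩
      rw [mem_nilradical]
      refine ⟨m, ?_⟩
      have h2 : (z * algebraMap S (Localization.AtPrime 𝔓) t) ^ m = 0 := by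
        rw [hz', ← map_pow, h1]
      rw [mul_pow] at h2
      exact (hu.pow m).mul_left_eq_zero.mp h2
    rcases hz with hz | hz
    · exact Or.inl (hback x s₁ t₁ hu₁ hx' hz)
    · exact Or.inr (hback y s₂ t₂ hu₂ hy' hz)

theorem gu_of_connected (hfin : (minimalPrimes S).Finite)
    (hconn : IsPreconnected ({closedPoint S}ᶜ : Set (PrimeSpectrum S)))
    (hIH : ∀ (𝔭' : Ideal A) [𝔭'.IsPrime], 𝔭' ≠ maximalIdeal A →
      CAlg2.IsGeomUnibranch (Localization.AtPrime 𝔭')) :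
    CAlg2.IsGeomUnibranch A := by
  classical
  rw [← Groth.Agent.S9236.result,
    ← BrnchHens.card_minimalPrimes_strictHenselization_eq_numGeomBranches A S]
  change (minimalPrimes S).encard = 1
  obtain ⟨⟨𝔮₁, h𝔮₁⟩⟩ := Ideal.nonempty_minimalPrimes (I := (⊥ : Ideal S)) bot_ne_top
  change 𝔮₁ ∈ minimalPrimes S at h𝔮₁
  by_contra hne
  have hex : ∃ 𝔮₂ ∈ minimalPrimes S, 𝔮₂ ≠ 𝔮₁ := by
    by_contra hcon
    push Not at hcon
    apply hne
    have : minimalPrimes S = {𝔮₁} := by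
      ext 𝔮
      exact ⟨fun h => hcon 𝔮 h, fun h => (Set.mem_singleton_iff.mp h) ▸ h𝔮₁⟩
    rw [this, Set.encard_singleton]
  obtain ⟨𝔮₂, h𝔮₂, hne₂⟩ := hex
  haveI hp₁ : 𝔮₁.IsPrime := h𝔮₁.1.1
  haveI hp₂ : 𝔮₂.IsPrime := h𝔮₂.1.1
  -- neither is the maximal ideal
  have hnm₁ : 𝔮₁ ≠ maximalIdeal S := by
    intro h
    have h1 : 𝔮₂ ≤ 𝔮₁ := h ▸ le_maximalIdeal hp₂.ne_top
    exact hne₂ (le_antisymm h1 (h𝔮₁.2 ⟨hp₂, bot_le⟩ h1))
  have hnm₂ : 𝔮₂ ≠ maximalIdeal S := by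
    intro h
    have h1 : 𝔮₁ ≤ 𝔮₂ := h ▸ le_maximalIdeal hp₁.ne_top
    exact hne₂ (le_antisymm (h𝔮₂.2 ⟨hp₁, bot_le⟩ h1) h1)
  -- the closed cover
  let C₁ : Set (PrimeSpectrum S) := PrimeSpectrum.zeroLocus (𝔮₁ : Set S)
  let C₂ : Set (PrimeSpectrum S) :=
    ⋃ 𝔮 ∈ (minimalPrimes S \ {𝔮₁}), PrimeSpectrum.zeroLocus (𝔮 : Set S)
  have hC₁ : IsClosed C₁ := PrimeSpectrum.isClosed_zeroLocus _
  have hC₂ : IsClosed C₂ :=
    (hfin.subset Set.sdiff_subset).isClosed_biUnion (fun _ _ => PrimeSpectrum.isClosed_zeroLocus _)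
  have hcover : ({closedPoint S}ᶜ : Set (PrimeSpectrum S)) ⊆ C₁ ∪ C₂ := by
    intro 𝔓 _
    obtain ⟨𝔮, h𝔮, hle⟩ := Ideal.exists_minimalPrimes_le (bot_le : (⊥ : Ideal S) ≤ 𝔓.asIdeal)
    by_cases h : 𝔮 = 𝔮₁
    · left
      rw [PrimeSpectrum.mem_zeroLocus]
      exact h ▸ hle
    · right
      exact Set.mem_biUnion (⟨h𝔮, h⟩ : 𝔮 ∈ minimalPrimes S \ {𝔮₁})
        ((PrimeSpectrum.mem_zeroLocus _ _).mpr hle)
  have hne₁' : (({closedPoint S}ᶜ : Set (PrimeSpectrum S)) ∩ C₁).Nonempty := by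
    refine ⟨⟨𝔮₁, hp₁⟩, ?_, ?_⟩
    · intro h
      exact hnm₁ (congrArg PrimeSpectrum.asIdeal h)
    · rw [PrimeSpectrum.mem_zeroLocus]
  have hne₂' : (({closedPoint S}ᶜ : Set (PrimeSpectrum S)) ∩ C₂).Nonempty := by
    refine ⟨⟨𝔮₂, hp₂⟩, ?_, ?_⟩
    · intro h
      exact hnm₂ (congrArg PrimeSpectrum.asIdeal h)
    · exact Set.mem_biUnion (⟨h𝔮₂, hne₂⟩ : 𝔮₂ ∈ minimalPrimes S \ {𝔮₁})
        ((PrimeSpectrum.mem_zeroLocus _ _).mpr le_rfl)
  obtain ⟨𝔓, h𝔓P, h𝔓₁, h𝔓₂⟩ :=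
    (isPreconnected_closed_iff.mp hconn) C₁ C₂ hC₁ hC₂ hcover hne₁' hne₂'
  obtain ⟨𝔮, ⟨h𝔮, h𝔮ne⟩, h𝔮𝔓⟩ := Set.mem_iUnion₂.mp h𝔓₂
  rw [PrimeSpectrum.mem_zeroLocus] at h𝔓₁ h𝔮𝔓
  have h𝔮ne' : 𝔮 ≠ 𝔮₁ := h𝔮ne
  have h𝔓max : 𝔓.asIdeal ≠ maximalIdeal S := by
    intro h
    apply h𝔓P
    exact PrimeSpectrum.ext h
  haveI := 𝔓.2
  have h𝔭' : 𝔓.asIdeal.comap (algebraMap A S) ≠ maximalIdeal A := by
    intro h
    have h1 : (maximalIdeal A).map (algebraMap A S) ≤ 𝔓.asIdeal := by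
      rw [Ideal.map_le_iff_le_comap, h]
    rw [Groth.Agent.S0538.result A S] at h1
    exact h𝔓max ((maximalIdeal.isMaximal S).eq_of_le 𝔓.2.ne_top h1).symm
  have hGU := hIH (𝔓.asIdeal.comap (algebraMap A S)) h𝔭'
  have hprime := isPrime_nilradical_localization A S 𝔓.asIdeal hGU
  let 𝒩 : Ideal S := (nilradical (Localization.AtPrime 𝔓.asIdeal)).comap
    (algebraMap S (Localization.AtPrime 𝔓.asIdeal))
  haveI : 𝒩.IsPrime := Ideal.comap_isPrime _ _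
  have h𝒩le : ∀ 𝔮' : Ideal S, 𝔮'.IsPrime → 𝔮' ≤ 𝔓.asIdeal → 𝒩 ≤ 𝔮' := by
    intro 𝔮' h𝔮' hle s hs
    obtain ⟨m, hm⟩ := mem_nilradical.mp (Ideal.mem_comap.mp hs)
    rw [← map_pow, IsLocalization.map_eq_zero_iff 𝔓.asIdeal.primeCompl] at hm
    obtain ⟨⟨w, hw⟩, hwz⟩ := hm
    simp only at hwz
    have h1 : w * s ^ m ∈ 𝔮' := hwz ▸ 𝔮'.zero_mem
    rcases h𝔮'.mem_or_mem h1 with h2 | h2
    · exact absurd (hle h2) hw
    · exact h𝔮'.mem_of_pow_mem m h2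
  have e₁ : 𝔮₁ = 𝒩 :=
    le_antisymm (h𝔮₁.2 ⟨inferInstance, bot_le⟩ (h𝒩le 𝔮₁ hp₁ h𝔓₁)) (h𝒩le 𝔮₁ hp₁ h𝔓₁)
  have e₂ : 𝔮 = 𝒩 :=
    le_antisymm (h𝔮.2 ⟨inferInstance, bot_le⟩ (h𝒩le 𝔮 h𝔮.1.1 h𝔮𝔓)) (h𝒩le 𝔮 h𝔮.1.1 h𝔮𝔓)
  exact h𝔮ne' (e₂.trans e₁.symm)

end Groth.Agent.Lib.Helper22.SHConn
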