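import Mathlib
import Groth.Prelude.Def_CAlg2
import Groth.Agent.Lib.Helper12.StrictNoeth
import Groth.Agent.Lib.Helper22.SHConnB
import Groth.Agent.Lib.Helper22.BrCountTop
import Groth.Agent.Lib.Helper22.BrCountKey
import Groth.Agent.Lib.lead.GUPack

/-!
# Geometric unibranchness of a Noetherian scheme via punctured spectra of strict henselizations
-/

set_option autoImplicit false
set_option linter.style.haveILetI false
set_option linter.unusedSectionVars false

namespace Groth.Agent.Lib.Helper22.SHConn

open IsLocalRing Groth.Agent.Lib.Helper12 AlgebraicGeometry CategoryTheory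

universe u

section alg

variable (A : Type u) [CommRing A] [IsLocalRing A]
  (S : Type u) [CommRing S] [IsLocalRing S] [Algebra A S] [IsLocalHom (algebraMap A S)]
  [Hensel.IsStrictHenselization A S]

/-- a zero-dimensional local ring is geometrically unibranch -/
theorem gu_of_zeroDim (hmin : maximalIdeal A ∈ minimalPrimes A) : CAlg2.IsGeomUnibranch A := by
  rw [← Groth.Agent.S9236.result,
    ← BrnchHens.card_minimalPrimes_strictHenselization_eq_numGeomBranches A
      (StrictHenselization A)]
  change (minimalPrimes (StrictHenselization A)).encard = 1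
  have hnil : maximalIdeal A ≤ nilradical A := by
    rw [nilradical, ← Ideal.sInf_minimalPrimes]
    refine le_sInf (fun 𝔮 h𝔮 => ?_)
    exact hmin.2 ⟨h𝔮.1.1, bot_le⟩ (le_maximalIdeal h𝔮.1.1.ne_top)
  have hnilS : maximalIdeal (StrictHenselization A) ≤ nilradical (StrictHenselization A) := by
    rw [← Groth.Agent.S0538.result A (StrictHenselization A), Ideal.map_le_iff_le_comap]
    intro a ha
    exact mem_nilradical.mpr ((mem_nilradical.mp (hnil ha)).map _)
  have hall : ∀ 𝔮 : Ideal (StrictHenselization A), 𝔮.IsPrime →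
      𝔮 = maximalIdeal (StrictHenselization A) := by
    intro 𝔮 h𝔮
    exact le_antisymm (le_maximalIdeal h𝔮.ne_top) (hnilS.trans (nilradical_le_prime 𝔮))
  have : minimalPrimes (StrictHenselization A) = {maximalIdeal (StrictHenselization A)} := by
    ext 𝔮
    constructor
    · intro h
      exact hall 𝔮 h.1.1
    · intro h
      rw [Set.mem_singleton_iff] at h
      rw [h]
      refine ⟨⟨inferInstance, bot_le⟩, ?_⟩
      intro 𝔮' h𝔮' _
      rw [hall 𝔮' h𝔮'.1]
  rw [this, Set.encard_singleton]

/-- `(⇒)`: the punctured spectrum of a strict henselization of a geometrically unibranch local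
ring of positive dimension is connected -/
theorem connected_of_gu (hGU : CAlg2.IsGeomUnibranch A)
    (hdim : maximalIdeal A ∉ minimalPrimes A) :
    ConnectedSpace ↥({closedPoint S}ᶜ : Set (PrimeSpectrum S)) := by
  have hcard : (minimalPrimes S).encard = 1 := by
    have := BrnchHens.card_minimalPrimes_strictHenselization_eq_numGeomBranches A S
    rw [(Groth.Agent.S9236.result A).mpr hGU] at this
    exact this
  obtain ⟨𝔮₀, h𝔮₀⟩ := Set.encard_eq_one.mp hcard
  have hmem : 𝔮₀ ∈ minimalPrimes S := by rw [h𝔮₀]; exact Set.mem_singleton _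
  haveI hp : 𝔮₀.IsPrime := hmem.1.1
  haveI : Module.Flat A S := StrictStruct.flat_of_isStrictHenselization A S
  have hne : 𝔮₀ ≠ maximalIdeal S := by
    intro h
    apply hdim
    have h1 := Groth.Agent.Lib.Helper22.BrCountKey.under_mem_minimalPrimes (R := A) hmem
    rw [h] at h1
    have h2 : (maximalIdeal S).under A = maximalIdeal A := by
      rw [Ideal.under_def]
      exact ((local_hom_TFAE (algebraMap A S)).out 0 4).mp ‹IsLocalHom (algebraMap A S)›
    rwa [h2] at h1
  have hle : ∀ 𝔓 : PrimeSpectrum S, 𝔮₀ ≤ 𝔓.asIdeal := by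
    intro 𝔓
    obtain ⟨𝔮, h𝔮, hle⟩ := Ideal.exists_minimalPrimes_le (bot_le : (⊥ : Ideal S) ≤ 𝔓.asIdeal)
    have : 𝔮 = 𝔮₀ := by
      have : 𝔮 ∈ minimalPrimes S := h𝔮
      rw [h𝔮₀] at this
      exact this
    exact this ▸ hle
  let x₀ : PrimeSpectrum S := ⟨𝔮₀, hp⟩
  have hx₀ : x₀ ∈ ({closedPoint S}ᶜ : Set (PrimeSpectrum S)) := by
    intro h
    exact hne (congrArg PrimeSpectrum.asIdeal h)
  have hsub : ({closedPoint S}ᶜ : Set (PrimeSpectrum S)) ⊆ closure {x₀} := by
    intro 𝔓 _
    rw [← specializes_iff_mem_closure, ← PrimeSpectrum.le_iff_specializes]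
    exact hle 𝔓
  have hpre : _root_.IsPreconnected ({closedPoint S}ᶜ : Set (PrimeSpectrum S)) :=
    isPreconnected_singleton.subset_closure (Set.singleton_subset_iff.mpr hx₀) hsub
  exact isConnected_iff_connectedSpace.mp ⟨⟨x₀, hx₀⟩, hpre⟩

end alg

section sch

variable (X : Scheme.{u})

/-- a point is the generic point of an irreducible component iff the maximal ideal of its local
ring is a minimal prime -/
theorem maximalIdeal_mem_minimalPrimes_of_component (x : X)
    (h : closure ({x} : Set X) ∈ irreducibleComponents X) :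
    maximalIdeal (X.presheaf.stalk x) ∈ minimalPrimes (X.presheaf.stalk x) := by
  obtain ⟨𝔭, h𝔭, heq⟩ := (Groth.Agent.Lib.Helper22.BrCountTop.mem_components_iff X x _).mp
    ⟨h, subset_closure (Set.mem_singleton x)⟩
  have g1 : IsGenericPoint x (closure {x}) := rfl
  have g2 : IsGenericPoint (Groth.Agent.Lib.Helper22.BrCountTop.pt X x 𝔭) (closure {x}) :=
    heq.symm
  have h1 : x = Groth.Agent.Lib.Helper22.BrCountTop.pt X x 𝔭 := g1.eq g2
  have h2 : Groth.Agent.Lib.Helper22.BrCountTop.pt X x (closedPoint (X.presheaf.stalk x)) = x :=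
    Scheme.fromSpecStalk_closedPoint
  have h3 : 𝔭 = closedPoint (X.presheaf.stalk x) :=
    Groth.Agent.Lib.Helper22.BrCountTop.pt_injective X x (h1.symm.trans h2.symm)
  rw [h3] at h𝔭
  exact h𝔭

theorem component_of_maximalIdeal_mem_minimalPrimes (x : X)
    (h : maximalIdeal (X.presheaf.stalk x) ∈ minimalPrimes (X.presheaf.stalk x)) :
    closure ({x} : Set X) ∈ irreducibleComponents X := by
  have h2 : Groth.Agent.Lib.Helper22.BrCountTop.pt X x (closedPoint (X.presheaf.stalk x)) = x :=
    Scheme.fromSpecStalk_closedPoint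
  exact ((Groth.Agent.Lib.Helper22.BrCountTop.mem_components_iff X x _).mpr
    ⟨closedPoint (X.presheaf.stalk x), h, by rw [h2]⟩).1

end sch

end Groth.Agent.Lib.Helper22.SHConn
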