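import Mathlib
import Groth.Agent.Lib.Helper22.SHConnSch

/-!
# Geometric unibranchness of a Noetherian scheme via punctured spectra of strict henselizations:
the induction
-/

set_option autoImplicit false
set_option linter.style.haveILetI false
set_option linter.unusedSectionVars false

namespace Groth.Agent.Lib.Helper22.SHConn

open IsLocalRing Groth.Agent.Lib.Helper12 AlgebraicGeometry CategoryTheory

universe u

set_option backward.defeqAttrib.useBackward true in
set_option backward.isDefEq.respectTransparency false in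
theorem gu_of_forall_connected (X : Scheme.{u}) [IsNoetherian X]
    (H : ∀ (x : X), closure ({x} : Set X) ∉ irreducibleComponents X →
        ∀ (Ash : Type u) [CommRing Ash] [IsLocalRing Ash] [Algebra (X.presheaf.stalk x) Ash]
          [IsLocalHom (algebraMap (X.presheaf.stalk x) Ash)]
          [Hensel.IsStrictHenselization (X.presheaf.stalk x) Ash],
          ConnectedSpace ↥({IsLocalRing.closedPoint Ash}ᶜ : Set (PrimeSpectrum Ash)))
    (x : X) : CAlg2.IsGeomUnibranch (X.presheaf.stalk x) := by
  obtain ⟨_, ⟨V, hV, rfl⟩, hxV, -⟩ :=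
    X.isBasis_affineOpens.exists_subset_of_mem_open (Set.mem_univ x) isOpen_univ
  haveI : IsNoetherianRing Γ(X, V) := IsLocallyNoetherian.component_noetherian ⟨V, hV⟩
  have key : ∀ n : ℕ, ∀ (y : X) (hyV : y ∈ V),
      (hV.primeIdealOf ⟨y, hyV⟩).asIdeal.height = (n : ℕ∞) →
      CAlg2.IsGeomUnibranch (X.presheaf.stalk y) := by
    intro n
    induction n using Nat.strong_induction_on with
    | _ n ih =>
      intro y hyV hy
      letI algA := X.presheaf.algebra_section_stalk ⟨y, hyV⟩
      haveI hloc := hV.isLocalization_stalk ⟨y, hyV⟩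
      by_cases hmin : maximalIdeal (X.presheaf.stalk y) ∈ minimalPrimes (X.presheaf.stalk y)
      · exact gu_of_zeroDim (X.presheaf.stalk y) hmin
      · have hcomp : closure ({y} : Set X) ∉ irreducibleComponents X := fun h =>
          hmin (maximalIdeal_mem_minimalPrimes_of_component X y h)
        haveI : IsNoetherianRing (X.presheaf.stalk y) :=
          IsLocalization.isNoetherianRing (hV.primeIdealOf ⟨y, hyV⟩).asIdeal.primeCompl
            (X.presheaf.stalk y) inferInstance
        have hconn := H y hcomp (StrictHenselization (X.presheaf.stalk y))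
        refine gu_of_connected (X.presheaf.stalk y) (StrictHenselization (X.presheaf.stalk y))
          (minimalPrimes.finite_of_isNoetherianRing _)
          (isConnected_iff_connectedSpace.mpr hconn).isPreconnected ?_
        intro 𝔭' h𝔭' hne
        let 𝔮 : Ideal Γ(X, V) := 𝔭'.comap (algebraMap Γ(X, V) (X.presheaf.stalk y))
        haveI h𝔮 : 𝔮.IsPrime := Ideal.comap_isPrime _ _
        have hlt : 𝔮 < (hV.primeIdealOf ⟨y, hyV⟩).asIdeal := by
          have hle : 𝔮 ≤ (hV.primeIdealOf ⟨y, hyV⟩).asIdeal := by
            rw [← IsLocalization.AtPrime.under_maximalIdeal (X.presheaf.stalk y)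
              (hV.primeIdealOf ⟨y, hyV⟩).asIdeal]
            exact Ideal.comap_mono (le_maximalIdeal h𝔭'.ne_top)
          refine lt_of_le_of_ne hle (fun heq => hne ?_)
          rw [← IsLocalization.map_under (hV.primeIdealOf ⟨y, hyV⟩).asIdeal.primeCompl
            (X.presheaf.stalk y) 𝔭',
            ← IsLocalization.map_under (hV.primeIdealOf ⟨y, hyV⟩).asIdeal.primeCompl
            (X.presheaf.stalk y) (maximalIdeal (X.presheaf.stalk y)),
            IsLocalization.AtPrime.under_maximalIdeal (X.presheaf.stalk y)
              (hV.primeIdealOf ⟨y, hyV⟩).asIdeal]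
          exact congrArg _ heq
        let y' : X := hV.fromSpec ⟨𝔮, h𝔮⟩
        have hy'V : y' ∈ V := by
          have : y' ∈ Set.range hV.fromSpec := ⟨_, rfl⟩
          rw [hV.range_fromSpec] at this
          exact this
        have hprime : hV.primeIdealOf ⟨y', hy'V⟩ = ⟨𝔮, h𝔮⟩ :=
          hV.fromSpec.isOpenEmbedding.injective (hV.fromSpec_primeIdealOf ⟨y', hy'V⟩)
        have hheight : 𝔮.height < (hV.primeIdealOf ⟨y, hyV⟩).asIdeal.height :=
          Ideal.height_strict_mono_of_isPrime hlt
        have hfinite : 𝔮.height ≠ ⊤ := Ideal.height_ne_top h𝔮.ne_top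
        obtain ⟨k, hk⟩ : ∃ k : ℕ, 𝔮.height = (k : ℕ∞) := ⟨𝔮.height.toNat, (ENat.natCast_toNat hfinite).symm⟩
        have hkn : k < n := by
          rw [hy, hk] at hheight
          exact_mod_cast hheight
        have hGU' := ih k hkn y' hy'V (by rw [hprime]; exact hk)
        letI algA' := X.presheaf.algebra_section_stalk ⟨y', hy'V⟩
        have hloc' := hV.isLocalization_stalk ⟨y', hy'V⟩
        rw [hprime] at hloc'
        haveI : IsLocalization.AtPrime (X.presheaf.stalk y') 𝔮 := hloc'
        haveI : IsLocalization.AtPrime (Localization.AtPrime 𝔭') 𝔮 :=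
          IsLocalization.isLocalization_isLocalization_atPrime_isLocalization
            (hV.primeIdealOf ⟨y, hyV⟩).asIdeal.primeCompl (Localization.AtPrime 𝔭') 𝔭'
        let e := IsLocalization.algEquiv 𝔮.primeCompl (Localization.AtPrime 𝔭')
          (X.presheaf.stalk y')
        exact Groth.Agent.Lib.lead.GUPack.of_ringEquiv e.toRingEquiv hGU'
  have hfinite : (hV.primeIdealOf ⟨x, hxV⟩).asIdeal.height ≠ ⊤ :=
    Ideal.height_ne_top (hV.primeIdealOf ⟨x, hxV⟩).2.ne_top
  exact key _ x hxV (ENat.natCast_toNat hfinite).symm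

end Groth.Agent.Lib.Helper22.SHConn
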