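import Mathlib

/-!
# Tensor products of local algebras with residue field the base field (helper22)

For local `k`-algebras `A`, `B` whose residue fields are `k`, the ideal
`mm = m_A ⊗ B + A ⊗ m_B` of `A ⊗[k] B` is maximal with residue field `k`.
-/

set_option autoImplicit false
set_option linter.style.haveILetI false
set_option linter.unusedSectionVars false
universe u

namespace Groth.Agent.Lib.Helper22.SHTensA

open TensorProduct IsLocalRing

variable {k A B : Type u} [Field k] [CommRing A] [CommRing B] [IsLocalRing A] [IsLocalRing B]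
  [Algebra k A] [Algebra k B]

theorem exists_sub_mem (hA : Function.Surjective ((residue A).comp (algebraMap k A))) (a : A) :
    ∃ c : k, a - algebraMap k A c ∈ maximalIdeal A := by
  obtain ⟨c, hc⟩ := hA (residue A a)
  refine ⟨c, ?_⟩
  rw [← Ideal.Quotient.eq_zero_iff_mem]
  change residue A (a - algebraMap k A c) = 0
  rw [map_sub, sub_eq_zero]
  exact hc.symm

variable (k A B) in
/-- the ideal `m_A ⊗ B + A ⊗ m_B` -/
def mm : Ideal (A ⊗[k] B) :=
  (maximalIdeal A).map (Algebra.TensorProduct.includeLeft : A →ₐ[k] A ⊗[k] B) ⊔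
    (maximalIdeal B).map (Algebra.TensorProduct.includeRight : B →ₐ[k] A ⊗[k] B)

theorem tmul_mem_left {a : A} (ha : a ∈ maximalIdeal A) (b : B) : a ⊗ₜ[k] b ∈ mm k A B := by
  have h1 : (a ⊗ₜ[k] b : A ⊗[k] B) = (a ⊗ₜ[k] (1 : B)) * ((1 : A) ⊗ₜ[k] b) := by
    rw [Algebra.TensorProduct.tmul_mul_tmul, mul_one, one_mul]
  rw [h1]
  refine Ideal.mul_mem_right _ _ (Ideal.mem_sup_left ?_)
  exact Ideal.mem_map_of_mem (Algebra.TensorProduct.includeLeft : A →ₐ[k] A ⊗[k] B) ha

theorem tmul_mem_right (a : A) {b : B} (hb : b ∈ maximalIdeal B) : a ⊗ₜ[k] b ∈ mm k A B := by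
  have h1 : (a ⊗ₜ[k] b : A ⊗[k] B) = (a ⊗ₜ[k] (1 : B)) * ((1 : A) ⊗ₜ[k] b) := by
    rw [Algebra.TensorProduct.tmul_mul_tmul, mul_one, one_mul]
  rw [h1]
  refine Ideal.mul_mem_left _ _ (Ideal.mem_sup_right ?_)
  exact Ideal.mem_map_of_mem (Algebra.TensorProduct.includeRight : B →ₐ[k] A ⊗[k] B) hb

theorem exists_sub_mem_tensor (hA : Function.Surjective ((residue A).comp (algebraMap k A)))
    (hB : Function.Surjective ((residue B).comp (algebraMap k B))) (t : A ⊗[k] B) :
    ∃ c : k, t - algebraMap k (A ⊗[k] B) c ∈ mm k A B := by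
  induction t using TensorProduct.induction_on with
  | zero => exact ⟨0, by simp⟩
  | tmul a b =>
    obtain ⟨ca, hca⟩ := exists_sub_mem hA a
    obtain ⟨cb, hcb⟩ := exists_sub_mem hB b
    refine ⟨ca * cb, ?_⟩
    have h1 : (a ⊗ₜ[k] b : A ⊗[k] B) - algebraMap k (A ⊗[k] B) (ca * cb) =
        (a - algebraMap k A ca) ⊗ₜ[k] b + (algebraMap k A ca) ⊗ₜ[k] (b - algebraMap k B cb) := by
      rw [Algebra.TensorProduct.algebraMap_apply, TensorProduct.sub_tmul, TensorProduct.tmul_sub,
        map_mul]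
      have h2 : ((algebraMap k A ca * algebraMap k A cb) ⊗ₜ[k] (1 : B) : A ⊗[k] B) =
          (algebraMap k A ca) ⊗ₜ[k] (algebraMap k B cb) := by
        rw [Algebra.algebraMap_eq_smul_one cb, Algebra.algebraMap_eq_smul_one (A := B) cb,
          mul_smul_comm, mul_one, TensorProduct.smul_tmul]
      rw [h2]
      ring
    rw [h1]
    exact Ideal.add_mem _ (tmul_mem_left hca b) (tmul_mem_right _ hcb)
  | add x y hx hy =>
    obtain ⟨c1, h1⟩ := hx
    obtain ⟨c2, h2⟩ := hy
    refine ⟨c1 + c2, ?_⟩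
    have : x + y - algebraMap k (A ⊗[k] B) (c1 + c2) =
        (x - algebraMap k (A ⊗[k] B) c1) + (y - algebraMap k (A ⊗[k] B) c2) := by
      rw [map_add]; ring
    rw [this]
    exact Ideal.add_mem _ h1 h2

theorem mm_ne_top : mm k A B ≠ ⊤ := by
  intro htop
  let φ : A ⊗[k] B →ₐ[k] ResidueField A ⊗[k] ResidueField B :=
    Algebra.TensorProduct.map (IsScalarTower.toAlgHom k A (ResidueField A))
      (IsScalarTower.toAlgHom k B (ResidueField B))
  haveI : Nontrivial (ResidueField A ⊗[k] ResidueField B) :=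
    Algebra.TensorProduct.nontrivial_of_algebraMap_injective_of_isDomain k _ _
      (algebraMap k (ResidueField A)).injective (algebraMap k (ResidueField B)).injective
  have hle : mm k A B ≤ RingHom.ker φ.toRingHom := by
    refine sup_le ?_ ?_
    · rw [Ideal.map_le_iff_le_comap]
      intro a ha
      rw [Ideal.mem_comap, RingHom.mem_ker]
      change φ (a ⊗ₜ[k] 1) = 0
      rw [Algebra.TensorProduct.map_tmul]
      have : (IsScalarTower.toAlgHom k A (ResidueField A)) a = 0 := by
        change algebraMap A (ResidueField A) a = 0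
        rw [IsLocalRing.ResidueField.algebraMap_eq]
        exact (IsLocalRing.residue_eq_zero_iff a).mpr ha
      rw [this, TensorProduct.zero_tmul]
    · rw [Ideal.map_le_iff_le_comap]
      intro b hb
      rw [Ideal.mem_comap, RingHom.mem_ker]
      change φ (1 ⊗ₜ[k] b) = 0
      rw [Algebra.TensorProduct.map_tmul]
      have : (IsScalarTower.toAlgHom k B (ResidueField B)) b = 0 := by
        change algebraMap B (ResidueField B) b = 0
        rw [IsLocalRing.ResidueField.algebraMap_eq]
        exact (IsLocalRing.residue_eq_zero_iff b).mpr hb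
      rw [this, TensorProduct.tmul_zero]
  have h1 : (1 : A ⊗[k] B) ∈ RingHom.ker φ.toRingHom := hle (htop ▸ Submodule.mem_top)
  rw [RingHom.mem_ker, map_one] at h1
  exact one_ne_zero h1

/-- elements outside `mm` are congruent to nonzero constants -/
theorem exists_ne_zero_of_notMem (hA : Function.Surjective ((residue A).comp (algebraMap k A)))
    (hB : Function.Surjective ((residue B).comp (algebraMap k B))) {t : A ⊗[k] B}
    (ht : t ∉ mm k A B) :
    ∃ c : k, c ≠ 0 ∧ t - algebraMap k (A ⊗[k] B) c ∈ mm k A B := by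
  obtain ⟨c, hc⟩ := exists_sub_mem_tensor hA hB t
  refine ⟨c, ?_, hc⟩
  rintro rfl
  rw [map_zero, sub_zero] at hc
  exact ht hc

/-- nonzero constants are not in `mm` -/
theorem algebraMap_notMem {c : k} (hc : c ≠ 0) : algebraMap k (A ⊗[k] B) c ∉ mm k A B := by
  intro h
  apply mm_ne_top (k := k) (A := A) (B := B)
  rw [Ideal.eq_top_iff_one]
  have : (1 : A ⊗[k] B) = algebraMap k (A ⊗[k] B) c⁻¹ * algebraMap k (A ⊗[k] B) c := by
    rw [← map_mul, inv_mul_cancel₀ hc, map_one]
  rw [this]
  exact Ideal.mul_mem_left _ _ h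

theorem mm_isMaximal (hA : Function.Surjective ((residue A).comp (algebraMap k A)))
    (hB : Function.Surjective ((residue B).comp (algebraMap k B))) : (mm k A B).IsMaximal := by
  rw [Ideal.isMaximal_iff]
  refine ⟨fun h => mm_ne_top ((Ideal.eq_top_iff_one _).mpr h), ?_⟩
  intro J x hle hx hxJ
  obtain ⟨c, hc0, hc⟩ := exists_ne_zero_of_notMem hA hB hx
  have h1 : algebraMap k (A ⊗[k] B) c ∈ J := by
    have : algebraMap k (A ⊗[k] B) c = x - (x - algebraMap k (A ⊗[k] B) c) := by ring
    rw [this]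
    exact Ideal.sub_mem _ hxJ (hle hc)
  have : (1 : A ⊗[k] B) = algebraMap k (A ⊗[k] B) c⁻¹ * algebraMap k (A ⊗[k] B) c := by
    rw [← map_mul, inv_mul_cancel₀ hc0, map_one]
  rw [this]
  exact Ideal.mul_mem_left _ _ h1

end Groth.Agent.Lib.Helper22.SHTensA
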