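import Mathlib
import Groth.Agent.Lib.Helper22.SHTensA

/-!
# Integral maps to local domains over an algebraically closed field (helper22)
-/

set_option autoImplicit false
set_option linter.style.haveILetI false
set_option linter.unusedSectionVars false
universe u

namespace Groth.Agent.Lib.Helper22.SHTensB

open TensorProduct IsLocalRing Groth.Agent.Lib.Helper22.SHTensA

section single

variable {k A A' : Type u} [Field k] [CommRing A] [IsLocalRing A] [Algebra k A]
  [CommRing A'] [IsLocalRing A'] [Algebra k A'] (f : A →ₐ[k] A')

include f in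
theorem comap_maximalIdeal (hf : f.toRingHom.IsIntegral) :
    (maximalIdeal A').comap f.toRingHom = maximalIdeal A := by
  haveI := Ideal.isMaximal_comap_of_isIntegral_of_isMaximal' f.toRingHom hf (maximalIdeal A')
  exact IsLocalRing.eq_maximalIdeal this

theorem map_mem_maximalIdeal (hf : f.toRingHom.IsIntegral) {a : A} (ha : a ∈ maximalIdeal A) :
    f a ∈ maximalIdeal A' := by
  rw [← comap_maximalIdeal f hf] at ha
  exact ha

/-- a prime of `A'` whose contraction contains the maximal ideal is the maximal ideal -/
theorem eq_maximalIdeal_of_le_comap (hf : f.toRingHom.IsIntegral) (P : Ideal A') [P.IsPrime]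
    (hP : maximalIdeal A ≤ P.comap f.toRingHom) : P = maximalIdeal A' := by
  have h1 : P.comap f.toRingHom = maximalIdeal A := by
    have hne : P.comap f.toRingHom ≠ ⊤ := (Ideal.comap_isPrime f.toRingHom P).ne_top
    exact ((maximalIdeal.isMaximal A).eq_of_le hne hP).symm
  have h2 : P.IsMaximal :=
    Ideal.isMaximal_of_isIntegral_of_isMaximal_comap' f.toRingHom hf P
      (h1 ▸ maximalIdeal.isMaximal A)
  exact IsLocalRing.eq_maximalIdeal h2

theorem residue_comp_surjective [IsAlgClosed k] [IsDomain A']
    (hA : Function.Surjective ((residue A).comp (algebraMap k A)))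
    (hf : f.toRingHom.IsIntegral) :
    Function.Surjective ((residue A').comp (algebraMap k A')) := by
  -- `k → κ(A')` is integral
  have h1 : ((residue A').comp f.toRingHom).IsIntegral :=
    RingHom.IsIntegral.trans _ _ hf (RingHom.isIntegral_of_surjective _ IsLocalRing.residue_surjective)
  have h2 : (algebraMap k (ResidueField A')).IsIntegral := by
    intro x
    obtain ⟨P, hP, hx⟩ := h1 x
    -- lift the coefficients to `k`
    have hcoef : ∀ a : A, ∃ c : k, (residue A').comp f.toRingHom a =
        algebraMap k (ResidueField A') c := by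
      intro a
      obtain ⟨c, hc⟩ := exists_sub_mem hA a
      refine ⟨c, ?_⟩
      have h3 : f (a - algebraMap k A c) ∈ maximalIdeal A' := map_mem_maximalIdeal f hf hc
      have h4 : residue A' (f (a - algebraMap k A c)) = 0 :=
        (IsLocalRing.residue_eq_zero_iff _).mpr h3
      rw [map_sub, map_sub, sub_eq_zero, AlgHom.commutes] at h4
      rw [RingHom.comp_apply]
      change residue A' (f a) = _
      rw [h4, IsScalarTower.algebraMap_apply k A' (ResidueField A'),
        IsLocalRing.ResidueField.algebraMap_eq]
    have hlift : P.map ((residue A').comp f.toRingHom) ∈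
        Polynomial.lifts (algebraMap k (ResidueField A')) := by
      rw [Polynomial.lifts_iff_coeff_lifts]
      intro n
      rw [Polynomial.coeff_map]
      obtain ⟨c, hc⟩ := hcoef (P.coeff n)
      exact ⟨c, hc.symm⟩
    obtain ⟨Q, hQ, -, hQm⟩ :=
      Polynomial.lifts_and_degree_eq_and_monic hlift (hP.map _)
    refine ⟨Q, hQm, ?_⟩
    rw [← Polynomial.eval_map, hQ, Polynomial.eval_map]
    exact hx
  haveI : Algebra.IsIntegral k (ResidueField A') := ⟨h2⟩
  have h3 : Function.Surjective (algebraMap k (ResidueField A')) :=
    (IsAlgClosed.algebraMap_bijective_of_isIntegral (k := k) (K := ResidueField A')).2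
  intro x
  obtain ⟨c, hc⟩ := h3 x
  refine ⟨c, ?_⟩
  rw [RingHom.comp_apply, ← hc, IsScalarTower.algebraMap_apply k A' (ResidueField A'),
    IsLocalRing.ResidueField.algebraMap_eq]

end single

end Groth.Agent.Lib.Helper22.SHTensB
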