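import Mathlib
import Groth.Agent.Lib.Helper22.SHTensB

/-!
# The map `A ⊗ B → A' ⊗ B'` induced by integral maps to local domains (helper22)
-/

set_option autoImplicit false
set_option linter.style.haveILetI false
set_option linter.unusedSectionVars false
universe u

namespace Groth.Agent.Lib.Helper22.SHTensC

open TensorProduct IsLocalRing Groth.Agent.Lib.Helper22.SHTensA Groth.Agent.Lib.Helper22.SHTensB

variable {k A B A' B' : Type u} [Field k] [CommRing A] [CommRing B] [IsLocalRing A]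
  [IsLocalRing B] [Algebra k A] [Algebra k B]
  [CommRing A'] [IsLocalRing A'] [Algebra k A'] [CommRing B'] [IsLocalRing B'] [Algebra k B']
  (f : A →ₐ[k] A') (g : B →ₐ[k] B')

/-- the map `A ⊗ B → A' ⊗ B'` -/
abbrev Φ : A ⊗[k] B →ₐ[k] A' ⊗[k] B' := Algebra.TensorProduct.map f g

theorem Φ_mem_mm (hf : f.toRingHom.IsIntegral) (hg : g.toRingHom.IsIntegral) {t : A ⊗[k] B}
    (ht : t ∈ mm k A B) : Φ f g t ∈ mm k A' B' := by
  have hle : mm k A B ≤ (mm k A' B').comap (Φ f g).toRingHom := by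
    refine sup_le ?_ ?_
    · rw [Ideal.map_le_iff_le_comap]
      intro a ha
      rw [Ideal.mem_comap, Ideal.mem_comap]
      change Φ f g (a ⊗ₜ[k] 1) ∈ _
      rw [Algebra.TensorProduct.map_tmul]
      exact tmul_mem_left (map_mem_maximalIdeal f hf ha) _
    · rw [Ideal.map_le_iff_le_comap]
      intro b hb
      rw [Ideal.mem_comap, Ideal.mem_comap]
      change Φ f g (1 ⊗ₜ[k] b) ∈ _
      rw [Algebra.TensorProduct.map_tmul]
      exact tmul_mem_right _ (map_mem_maximalIdeal g hg hb)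
  exact hle ht

theorem Φ_notMem (hA : Function.Surjective ((residue A).comp (algebraMap k A)))
    (hB : Function.Surjective ((residue B).comp (algebraMap k B)))
    (hf : f.toRingHom.IsIntegral) (hg : g.toRingHom.IsIntegral) {t : A ⊗[k] B}
    (ht : t ∉ mm k A B) : Φ f g t ∉ mm k A' B' := by
  obtain ⟨c, hc0, hc⟩ := exists_ne_zero_of_notMem hA hB ht
  intro hmem
  have h1 := Φ_mem_mm f g hf hg hc
  rw [map_sub, AlgHom.commutes] at h1
  apply algebraMap_notMem (k := k) (A := A') (B := B') hc0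
  have : algebraMap k (A' ⊗[k] B') c =
      Φ f g t - (Φ f g t - algebraMap k (A' ⊗[k] B') c) := by ring
  rw [this]
  exact Ideal.sub_mem _ hmem h1

theorem ker_Φ : RingHom.ker (Φ f g) =
    (RingHom.ker f).map (Algebra.TensorProduct.includeLeft : A →ₐ[k] A ⊗[k] B) ⊔
      (RingHom.ker g).map (Algebra.TensorProduct.includeRight : B →ₐ[k] A ⊗[k] B) := by
  let π₁ : A →ₐ[k] A ⧸ RingHom.ker f := Ideal.Quotient.mkₐ k (RingHom.ker f)
  let π₂ : B →ₐ[k] B ⧸ RingHom.ker g := Ideal.Quotient.mkₐ k (RingHom.ker g)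
  let ι₁ : A ⧸ RingHom.ker f →ₐ[k] A' := Ideal.kerLiftAlg f
  let ι₂ : B ⧸ RingHom.ker g →ₐ[k] B' := Ideal.kerLiftAlg g
  have h1 : f = ι₁.comp π₁ := by
    ext a
    exact (Ideal.kerLiftAlg_mk f a).symm
  have h2 : g = ι₂.comp π₂ := by
    ext b
    exact (Ideal.kerLiftAlg_mk g b).symm
  have h3 : Φ f g = (Algebra.TensorProduct.map ι₁ ι₂).comp (Algebra.TensorProduct.map π₁ π₂) := by
    change Algebra.TensorProduct.map f g = _
    rw [← Algebra.TensorProduct.map_comp, ← h1, ← h2]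
  have hinj : Function.Injective (Algebra.TensorProduct.map ι₁ ι₂) := by
    have := TensorProduct.map_injective_of_flat_flat (R := k) ι₁.toLinearMap ι₂.toLinearMap
      (Ideal.kerLiftAlg_injective f) (Ideal.kerLiftAlg_injective g)
    exact this
  have h4 : RingHom.ker (Φ f g) = RingHom.ker (Algebra.TensorProduct.map π₁ π₂) := by
    ext t
    rw [RingHom.mem_ker, RingHom.mem_ker, h3, AlgHom.comp_apply]
    constructor
    · intro h
      exact hinj (h.trans (map_zero _).symm)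
    · intro h
      rw [h, map_zero]
  rw [h4, Algebra.TensorProduct.map_ker π₁ π₂ (Ideal.Quotient.mkₐ_surjective k _)
    (Ideal.Quotient.mkₐ_surjective k _)]
  have h5 : RingHom.ker π₁ = RingHom.ker f := Ideal.Quotient.mkₐ_ker k _
  have h6 : RingHom.ker π₂ = RingHom.ker g := Ideal.Quotient.mkₐ_ker k _
  rw [h5, h6]

/-- the map `A ⊗ B → A' ⊗ B'` is integral -/
theorem Φ_isIntegral (hf : f.toRingHom.IsIntegral) (hg : g.toRingHom.IsIntegral) :
    (Φ f g).toRingHom.IsIntegral := by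
  have key : ∀ {R S R' S' : Type u} [CommRing R] [CommRing S] [CommRing R'] [CommRing S']
      (f₀ : R →+* S) (φ₀ : R →+* R') (ψ₀ : S →+* S') (Φ₀ : R' →+* S')
      (_ : Φ₀.comp φ₀ = ψ₀.comp f₀) (x : S), f₀.IsIntegralElem x → Φ₀.IsIntegralElem (ψ₀ x) := by
    intro R S R' S' _ _ _ _ f₀ φ₀ ψ₀ Φ₀ hcomm x hx
    obtain ⟨P, hP, hx⟩ := hx
    refine ⟨P.map φ₀, hP.map φ₀, ?_⟩
    rw [Polynomial.eval₂_map, hcomm, ← Polynomial.hom_eval₂, hx, map_zero]
  intro n
  induction n using TensorProduct.induction_on with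
  | zero => exact RingHom.isIntegralElem_zero _
  | tmul a' b' =>
    have h1 : (a' ⊗ₜ[k] b' : A' ⊗[k] B') = (a' ⊗ₜ[k] (1 : B')) * ((1 : A') ⊗ₜ[k] b') := by
      rw [Algebra.TensorProduct.tmul_mul_tmul, mul_one, one_mul]
    rw [h1]
    refine RingHom.IsIntegralElem.mul _ ?_ ?_
    · refine key f.toRingHom
        (Algebra.TensorProduct.includeLeft : A →ₐ[k] A ⊗[k] B).toRingHom
        (Algebra.TensorProduct.includeLeft : A' →ₐ[k] A' ⊗[k] B').toRingHom _ ?_ a' (hf a')
      ext a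
      simp
    · refine key g.toRingHom
        (Algebra.TensorProduct.includeRight : B →ₐ[k] A ⊗[k] B).toRingHom
        (Algebra.TensorProduct.includeRight : B' →ₐ[k] A' ⊗[k] B').toRingHom _ ?_ b' (hg b')
      ext b
      simp
  | add x y hx hy => exact RingHom.IsIntegralElem.add _ hx hy

/-- pure tensors of nonzero elements are nonzerodivisors -/
theorem tmul_mem_nonZeroDivisors [IsDomain A'] [IsDomain B'] {x : A'} {y : B'} (hx : x ≠ 0)
    (hy : y ≠ 0) : (x ⊗ₜ[k] y : A' ⊗[k] B') ∈ nonZeroDivisors (A' ⊗[k] B') := by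
  have hinj : Function.Injective (TensorProduct.map (LinearMap.mulLeft k x)
      (LinearMap.mulLeft k y)) :=
    TensorProduct.map_injective_of_flat_flat (R := k) _ _
      (fun a b h => mul_left_cancel₀ hx h) (fun a b h => mul_left_cancel₀ hy h)
  have hmul : ∀ n : A' ⊗[k] B', (x ⊗ₜ[k] y) * n =
      TensorProduct.map (LinearMap.mulLeft k x) (LinearMap.mulLeft k y) n := by
    intro n
    induction n using TensorProduct.induction_on with
    | zero => simp
    | tmul a b => simp [Algebra.TensorProduct.tmul_mul_tmul]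
    | add a b ha hb => rw [mul_add, map_add, ha, hb]
  rw [mem_nonZeroDivisors_iff_right]
  intro n hn
  rw [mul_comm, hmul] at hn
  exact hinj (hn.trans (map_zero _).symm)

/-- every element of `A' ⊗ B'` has a nonzerodivisor denominator from `A ⊗ B` -/
theorem exists_denominator [IsDomain A'] [IsDomain B']
    (hfracA : ∀ y : A', ∃ d : A, f d ≠ 0 ∧ ∃ d₂ : A, f d * y = f d₂)
    (hfracB : ∀ y : B', ∃ d : B, g d ≠ 0 ∧ ∃ d₂ : B, g d * y = g d₂) (n : A' ⊗[k] B') :
    ∃ t : A ⊗[k] B, Φ f g t ∈ nonZeroDivisors (A' ⊗[k] B') ∧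
      ∃ t₂ : A ⊗[k] B, Φ f g t * n = Φ f g t₂ := by
  induction n using TensorProduct.induction_on with
  | zero => exact ⟨1, by rw [map_one]; exact one_mem _, 0, by simp⟩
  | tmul a' b' =>
    obtain ⟨dA, hdA, eA, heA⟩ := hfracA a'
    obtain ⟨dB, hdB, eB, heB⟩ := hfracB b'
    refine ⟨dA ⊗ₜ[k] dB, ?_, eA ⊗ₜ[k] eB, ?_⟩
    · rw [Algebra.TensorProduct.map_tmul]
      exact tmul_mem_nonZeroDivisors hdA hdB
    · rw [Algebra.TensorProduct.map_tmul, Algebra.TensorProduct.map_tmul,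
        Algebra.TensorProduct.tmul_mul_tmul, heA, heB]
  | add x y hx hy =>
    obtain ⟨t1, h1, s1, e1⟩ := hx
    obtain ⟨t2, h2, s2, e2⟩ := hy
    refine ⟨t1 * t2, ?_, t2 * s1 + t1 * s2, ?_⟩
    · rw [map_mul]
      exact mul_mem h1 h2
    · rw [map_mul, map_add, map_mul, map_mul, ← e1, ← e2]
      ring

end Groth.Agent.Lib.Helper22.SHTensC
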