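import Mathlib
import Groth.Agent.Lib.Helper22.SHTensC

/-!
# The localization of `A' ⊗ B'` at the image of the complement of `mm` (helper22)
-/

set_option autoImplicit false
set_option linter.style.haveILetI false
set_option linter.unusedSectionVars false
universe u

namespace Groth.Agent.Lib.Helper22.SHTensD

open TensorProduct IsLocalRing Groth.Agent.Lib.Helper22.SHTensA Groth.Agent.Lib.Helper22.SHTensB
  Groth.Agent.Lib.Helper22.SHTensC

variable {k A B A' B' : Type u} [Field k] [CommRing A] [CommRing B] [IsLocalRing A]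
  [IsLocalRing B] [Algebra k A] [Algebra k B]
  [CommRing A'] [IsLocalRing A'] [Algebra k A'] [CommRing B'] [IsLocalRing B'] [Algebra k B']
  (f : A →ₐ[k] A') (g : B →ₐ[k] B') (𝔪 : Ideal (A ⊗[k] B)) [𝔪.IsPrime]

/-- the multiplicative set -/
abbrev SS : Submonoid (A' ⊗[k] B') :=
  𝔪.primeCompl.map ((Φ f g).toRingHom : A ⊗[k] B →* A' ⊗[k] B')

/-- the localization -/
abbrev D' : Type u := Localization (SS f g 𝔪)

/-- the induced map of localizations -/
noncomputable def ρ : Localization.AtPrime 𝔪 →+* D' f g 𝔪 :=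
  IsLocalization.map (D' f g 𝔪) (Φ f g).toRingHom
    (show 𝔪.primeCompl ≤ Submonoid.comap (Φ f g).toRingHom (SS f g 𝔪) from
      fun x hx => ⟨x, hx, rfl⟩)

theorem ρ_algebraMap (t : A ⊗[k] B) :
    ρ f g 𝔪 (algebraMap (A ⊗[k] B) (Localization.AtPrime 𝔪) t) =
      algebraMap (A' ⊗[k] B') (D' f g 𝔪) (Φ f g t) := by
  unfold ρ
  rw [IsLocalization.map_eq]
  rfl

theorem ρ_isIntegral (hf : f.toRingHom.IsIntegral) (hg : g.toRingHom.IsIntegral) :
    (ρ f g 𝔪).IsIntegral :=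
  isIntegral_localization' (Φ_isIntegral f g hf hg) 𝔪.primeCompl

section withm

variable (hA : Function.Surjective ((residue A).comp (algebraMap k A)))
  (hB : Function.Surjective ((residue B).comp (algebraMap k B)))
  (hf : f.toRingHom.IsIntegral) (hg : g.toRingHom.IsIntegral) (h𝔪 : 𝔪 = mm k A B)

include hA hB hf hg h𝔪

theorem notMem_of_mem_SS {s : A' ⊗[k] B'} (hs : s ∈ SS f g 𝔪) : s ∉ mm k A' B' := by
  obtain ⟨t, ht, rfl⟩ := hs
  have ht' : t ∉ mm k A B := by
    rw [← h𝔪]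
    exact ht
  exact Φ_notMem f g hA hB hf hg ht'

theorem nontrivial_D' : Nontrivial (D' f g 𝔪) := by
  rw [← not_subsingleton_iff_nontrivial, IsLocalization.subsingleton_iff (M := SS f g 𝔪)]
  intro h0
  exact notMem_of_mem_SS f g 𝔪 hA hB hf hg h𝔪 h0 (Ideal.zero_mem _)

/-- every maximal ideal of `D'` contains the image of `mm k A' B'` -/
theorem map_mm_le_of_isMaximal (𝔫 : Ideal (D' f g 𝔪)) [h𝔫 : 𝔫.IsMaximal] :
    (mm k A' B').map (algebraMap (A' ⊗[k] B') (D' f g 𝔪)) ≤ 𝔫 := by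
  haveI h1 : (𝔫.comap (ρ f g 𝔪)).IsMaximal :=
    Ideal.isMaximal_comap_of_isIntegral_of_isMaximal' _ (ρ_isIntegral f g 𝔪 hf hg) 𝔫
  have h2 : 𝔫.comap (ρ f g 𝔪) = maximalIdeal (Localization.AtPrime 𝔪) :=
    IsLocalRing.eq_maximalIdeal h1
  have h3 : ∀ t ∈ mm k A B, algebraMap (A' ⊗[k] B') (D' f g 𝔪) (Φ f g t) ∈ 𝔫 := by
    intro t ht
    rw [← ρ_algebraMap]
    have : algebraMap (A ⊗[k] B) (Localization.AtPrime 𝔪) t ∈
        maximalIdeal (Localization.AtPrime 𝔪) := by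
      rw [← Localization.AtPrime.map_eq_maximalIdeal]
      exact Ideal.mem_map_of_mem _ (h𝔪 ▸ ht)
    rw [← h2] at this
    exact this
  rw [Ideal.map_le_iff_le_comap]
  refine sup_le ?_ ?_
  · -- the `A'` part
    let jA : A' →+* D' f g 𝔪 := (algebraMap (A' ⊗[k] B') (D' f g 𝔪)).comp
      (Algebra.TensorProduct.includeLeft : A' →ₐ[k] A' ⊗[k] B').toRingHom
    haveI : (𝔫.comap jA).IsPrime := Ideal.comap_isPrime _ _
    have h4 : 𝔫.comap jA = maximalIdeal A' := by
      refine eq_maximalIdeal_of_le_comap f hf _ ?_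
      intro a ha
      rw [Ideal.mem_comap, Ideal.mem_comap]
      have := h3 (a ⊗ₜ[k] 1) (tmul_mem_left ha 1)
      rw [Algebra.TensorProduct.map_tmul, map_one] at this
      exact this
    rw [Ideal.map_le_iff_le_comap]
    intro a' ha'
    rw [← h4] at ha'
    exact ha'
  · let jB : B' →+* D' f g 𝔪 := (algebraMap (A' ⊗[k] B') (D' f g 𝔪)).comp
      (Algebra.TensorProduct.includeRight : B' →ₐ[k] A' ⊗[k] B').toRingHom
    haveI : (𝔫.comap jB).IsPrime := Ideal.comap_isPrime _ _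
    have h4 : 𝔫.comap jB = maximalIdeal B' := by
      refine eq_maximalIdeal_of_le_comap g hg _ ?_
      intro b hb
      rw [Ideal.mem_comap, Ideal.mem_comap]
      have := h3 (1 ⊗ₜ[k] b) (tmul_mem_right 1 hb)
      rw [Algebra.TensorProduct.map_tmul, map_one] at this
      exact this
    rw [Ideal.map_le_iff_le_comap]
    intro b' hb'
    rw [← h4] at hb'
    exact hb'

end withm

section decomposition

variable (hA : Function.Surjective ((residue A).comp (algebraMap k A)))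
  (hB : Function.Surjective ((residue B).comp (algebraMap k B)))
  (hA' : Function.Surjective ((residue A').comp (algebraMap k A')))
  (hB' : Function.Surjective ((residue B').comp (algebraMap k B')))
  (hf : f.toRingHom.IsIntegral) (hg : g.toRingHom.IsIntegral) (h𝔪 : 𝔪 = mm k A B)

include hA hB hA' hB' hf hg h𝔪

/-- `D' = k + mm D'` -/
theorem exists_sub_mem_D' (y : D' f g 𝔪) :
    ∃ c : k, y - algebraMap (A' ⊗[k] B') (D' f g 𝔪) (algebraMap k (A' ⊗[k] B') c) ∈
      (mm k A' B').map (algebraMap (A' ⊗[k] B') (D' f g 𝔪)) := by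
  obtain ⟨n, s, rfl⟩ := IsLocalization.exists_mk'_eq (SS f g 𝔪) y
  obtain ⟨cn, hcn⟩ := exists_sub_mem_tensor hA' hB' n
  have hs : (s : A' ⊗[k] B') ∉ mm k A' B' := notMem_of_mem_SS f g 𝔪 hA hB hf hg h𝔪 s.2
  obtain ⟨cs, hcs0, hcs⟩ := exists_ne_zero_of_notMem hA' hB' hs
  refine ⟨cn / cs, ?_⟩
  set ι := algebraMap (A' ⊗[k] B') (D' f g 𝔪) with hι
  set J := (mm k A' B').map ι with hJ
  have hunit : IsUnit (ι s) := IsLocalization.map_units (D' f g 𝔪) s
  -- it suffices to multiply by the unit `ι s`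
  have key : (IsLocalization.mk' (D' f g 𝔪) n s - ι (algebraMap k (A' ⊗[k] B') (cn / cs))) * ι s
      ∈ J := by
    rw [sub_mul, IsLocalization.mk'_spec, ← map_mul, ← map_sub]
    refine Ideal.mem_map_of_mem ι ?_
    have e1 : n - algebraMap k (A' ⊗[k] B') (cn / cs) * (s : A' ⊗[k] B') =
        (n - algebraMap k (A' ⊗[k] B') cn) -
          algebraMap k (A' ⊗[k] B') (cn / cs) *
            ((s : A' ⊗[k] B') - algebraMap k (A' ⊗[k] B') cs) := by
      have e2 : algebraMap k (A' ⊗[k] B') (cn / cs) * algebraMap k (A' ⊗[k] B') cs =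
          algebraMap k (A' ⊗[k] B') cn := by
        rw [← map_mul, div_mul_cancel₀ _ hcs0]
      rw [mul_sub, e2]
      ring
    rw [e1]
    exact Ideal.sub_mem _ hcn (Ideal.mul_mem_left _ _ hcs)
  obtain ⟨u, hu⟩ := hunit
  have : IsLocalization.mk' (D' f g 𝔪) n s - ι (algebraMap k (A' ⊗[k] B') (cn / cs)) =
      ((IsLocalization.mk' (D' f g 𝔪) n s - ι (algebraMap k (A' ⊗[k] B') (cn / cs))) * ι s) *
        (↑u⁻¹ : D' f g 𝔪) := by
    rw [← hu, mul_assoc, Units.mul_inv, mul_one]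
  rw [this]
  exact Ideal.mul_mem_right _ _ key

theorem isLocalRing_D' : IsLocalRing (D' f g 𝔪) ∧
    ∀ [IsLocalRing (D' f g 𝔪)], maximalIdeal (D' f g 𝔪) =
      (mm k A' B').map (algebraMap (A' ⊗[k] B') (D' f g 𝔪)) := by
  haveI := nontrivial_D' f g 𝔪 hA hB hf hg h𝔪
  set ι := algebraMap (A' ⊗[k] B') (D' f g 𝔪) with hι
  set J := (mm k A' B').map ι with hJ
  obtain ⟨𝔫₁, h𝔫₁⟩ := Ideal.exists_maximal (D' f g 𝔪)
  have hJne : (1 : D' f g 𝔪) ∉ J := by
    intro h1
    haveI := h𝔫₁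
    have := map_mm_le_of_isMaximal f g 𝔪 hA hB hf hg h𝔪 𝔫₁ h1
    exact h𝔫₁.ne_top ((Ideal.eq_top_iff_one _).mpr this)
  have hJmax : J.IsMaximal := by
    rw [Ideal.isMaximal_iff]
    refine ⟨hJne, ?_⟩
    intro L x hle hx hxL
    obtain ⟨c, hc⟩ := exists_sub_mem_D' f g 𝔪 hA hB hA' hB' hf hg h𝔪 x
    have hc0 : c ≠ 0 := by
      rintro rfl
      rw [map_zero, map_zero, sub_zero] at hc
      exact hx hc
    have h1 : ι (algebraMap k (A' ⊗[k] B') c) ∈ L := by
      have : ι (algebraMap k (A' ⊗[k] B') c) =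
          x - (x - ι (algebraMap k (A' ⊗[k] B') c)) := by ring
      rw [this]
      exact Ideal.sub_mem _ hxL (hle hc)
    have : (1 : D' f g 𝔪) = ι (algebraMap k (A' ⊗[k] B') c⁻¹) *
        ι (algebraMap k (A' ⊗[k] B') c) := by
      rw [← map_mul, ← map_mul, inv_mul_cancel₀ hc0, map_one, map_one]
    rw [this]
    exact Ideal.mul_mem_left _ _ h1
  have hloc : IsLocalRing (D' f g 𝔪) := by
    refine IsLocalRing.of_unique_max_ideal ⟨J, hJmax, ?_⟩
    intro 𝔫 h𝔫
    haveI := h𝔫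
    have hle := map_mm_le_of_isMaximal f g 𝔪 hA hB hf hg h𝔪 𝔫
    exact (hJmax.eq_of_le h𝔫.ne_top hle).symm
  refine ⟨hloc, ?_⟩
  intro _
  exact (IsLocalRing.eq_maximalIdeal hJmax).symm

end decomposition

end Groth.Agent.Lib.Helper22.SHTensD
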