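import Mathlib
import Groth.Prelude.Def_CAlg2
import Groth.Agent.Lib.Helper22.SHTensD
import Groth.Agent.Lib.Helper22.NormTensor4
import Groth.Agent.Lib.Helper22.NormalLocal
import Groth.Agent.Lib.Helper22.GeomRed
import Groth.Agent.Lib.lead.GUPack

/-!
# The quotient of `(A ⊗ B)_𝔪` by the kernel ideal is geometrically unibranch (helper22)
-/

set_option autoImplicit false
set_option linter.style.haveILetI false
set_option linter.unusedSectionVars false
universe u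

namespace Groth.Agent.Lib.Helper22.SHTensE

open TensorProduct IsLocalRing Groth.Agent.Lib.Helper22.SHTensA Groth.Agent.Lib.Helper22.SHTensB
  Groth.Agent.Lib.Helper22.SHTensC Groth.Agent.Lib.Helper22.SHTensD

variable {k A B A' B' : Type u} [Field k] [CommRing A] [CommRing B] [IsLocalRing A]
  [IsLocalRing B] [Algebra k A] [Algebra k B]
  [CommRing A'] [IsLocalRing A'] [Algebra k A'] [CommRing B'] [IsLocalRing B'] [Algebra k B']
  [IsDomain A'] [IsDomain B']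
  (f : A →ₐ[k] A') (g : B →ₐ[k] B') (𝔪 : Ideal (A ⊗[k] B)) [𝔪.IsPrime]

/-- the kernel ideal in `A ⊗ B` -/
abbrev KK : Ideal (A ⊗[k] B) :=
  (RingHom.ker f).map (Algebra.TensorProduct.includeLeft : A →ₐ[k] A ⊗[k] B) ⊔
    (RingHom.ker g).map (Algebra.TensorProduct.includeRight : B →ₐ[k] A ⊗[k] B)

/-- the kernel ideal in the localization -/
abbrev II : Ideal (Localization.AtPrime 𝔪) :=
  (KK f g).map (algebraMap (A ⊗[k] B) (Localization.AtPrime 𝔪))

theorem ρ_eq_zero_of_mem {x : Localization.AtPrime 𝔪} (hx : x ∈ II f g 𝔪) : ρ f g 𝔪 x = 0 := by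
  have hle : II f g 𝔪 ≤ RingHom.ker (ρ f g 𝔪) := by
    rw [Ideal.map_le_iff_le_comap]
    intro t ht
    rw [Ideal.mem_comap, RingHom.mem_ker, ρ_algebraMap]
    have : Φ f g t = 0 := by
      have h1 : t ∈ RingHom.ker (Φ f g) := by
        rw [ker_Φ]
        exact ht
      exact h1
    rw [this, map_zero]
  exact hle hx

section withm

variable (hA : Function.Surjective ((residue A).comp (algebraMap k A)))
  (hB : Function.Surjective ((residue B).comp (algebraMap k B)))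
  (hf : f.toRingHom.IsIntegral) (hg : g.toRingHom.IsIntegral) (h𝔪 : 𝔪 = mm k A B)

include hA hB hf hg h𝔪

theorem algebraMap_ne_zero_of_mem_nonZeroDivisors {n : A' ⊗[k] B'}
    (hn : n ∈ nonZeroDivisors (A' ⊗[k] B')) :
    algebraMap (A' ⊗[k] B') (D' f g 𝔪) n ≠ 0 := by
  intro h0
  rw [IsLocalization.map_eq_zero_iff (SS f g 𝔪)] at h0
  obtain ⟨m, hm⟩ := h0
  have hm0 : (m : A' ⊗[k] B') = 0 := by
    rw [mem_nonZeroDivisors_iff_right] at hn
    exact hn _ hm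
  have := notMem_of_mem_SS f g 𝔪 hA hB hf hg h𝔪 m.2
  rw [hm0] at this
  exact this (Ideal.zero_mem _)

theorem mem_of_ρ_eq_zero {x : Localization.AtPrime 𝔪} (hx : ρ f g 𝔪 x = 0) : x ∈ II f g 𝔪 := by
  obtain ⟨t, s, rfl⟩ := IsLocalization.exists_mk'_eq 𝔪.primeCompl x
  have h1 : ρ f g 𝔪 (algebraMap (A ⊗[k] B) (Localization.AtPrime 𝔪) t) = 0 := by
    rw [← IsLocalization.mk'_spec (Localization.AtPrime 𝔪) t s, map_mul, hx, zero_mul]
  rw [ρ_algebraMap, IsLocalization.map_eq_zero_iff (SS f g 𝔪)] at h1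
  obtain ⟨⟨m, v, hv, rfl⟩, hm⟩ := h1
  have h2 : v * t ∈ KK f g := by
    have : v * t ∈ RingHom.ker (Φ f g) := by
      rw [RingHom.mem_ker, map_mul]
      exact hm
    rw [ker_Φ] at this
    exact this
  have h3 : algebraMap (A ⊗[k] B) (Localization.AtPrime 𝔪) v *
      algebraMap (A ⊗[k] B) (Localization.AtPrime 𝔪) t ∈ II f g 𝔪 := by
    rw [← map_mul]
    exact Ideal.mem_map_of_mem _ h2
  have hvu : IsUnit (algebraMap (A ⊗[k] B) (Localization.AtPrime 𝔪) v) :=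
    IsLocalization.map_units (Localization.AtPrime 𝔪) (⟨v, hv⟩ : 𝔪.primeCompl)
  have h4 : algebraMap (A ⊗[k] B) (Localization.AtPrime 𝔪) t ∈ II f g 𝔪 :=
    (Ideal.unit_mul_mem_iff_mem _ hvu).mp h3
  have hsu : IsUnit (algebraMap (A ⊗[k] B) (Localization.AtPrime 𝔪) s) :=
    IsLocalization.map_units (Localization.AtPrime 𝔪) s
  rw [← IsLocalization.mk'_spec (Localization.AtPrime 𝔪) t s] at h4
  exact (Ideal.mul_unit_mem_iff_mem _ hsu).mp h4

theorem ker_ρ : RingHom.ker (ρ f g 𝔪) = II f g 𝔪 := by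
  ext x
  rw [RingHom.mem_ker]
  exact ⟨mem_of_ρ_eq_zero f g 𝔪 hA hB hf hg h𝔪, ρ_eq_zero_of_mem f g 𝔪⟩

theorem comap_II_left :
    (II f g 𝔪).comap ((algebraMap (A ⊗[k] B) (Localization.AtPrime 𝔪)).comp
      (Algebra.TensorProduct.includeLeft : A →ₐ[k] A ⊗[k] B).toRingHom) = RingHom.ker f := by
  ext a
  rw [Ideal.mem_comap, ← ker_ρ f g 𝔪 hA hB hf hg h𝔪, RingHom.mem_ker, RingHom.comp_apply,
    ρ_algebraMap]
  change algebraMap _ _ (Φ f g (a ⊗ₜ[k] 1)) = 0 ↔ _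
  rw [Algebra.TensorProduct.map_tmul, map_one, RingHom.mem_ker]
  constructor
  · intro h
    by_contra hne
    exact algebraMap_ne_zero_of_mem_nonZeroDivisors f g 𝔪 hA hB hf hg h𝔪
      (tmul_mem_nonZeroDivisors (k := k) hne (one_ne_zero (α := B'))) h
  · intro h
    rw [h, TensorProduct.zero_tmul, map_zero]

theorem comap_II_right :
    (II f g 𝔪).comap ((algebraMap (A ⊗[k] B) (Localization.AtPrime 𝔪)).comp
      (Algebra.TensorProduct.includeRight : B →ₐ[k] A ⊗[k] B).toRingHom) = RingHom.ker g := by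
  ext b
  rw [Ideal.mem_comap, ← ker_ρ f g 𝔪 hA hB hf hg h𝔪, RingHom.mem_ker, RingHom.comp_apply,
    ρ_algebraMap]
  change algebraMap _ _ (Φ f g (1 ⊗ₜ[k] b)) = 0 ↔ _
  rw [Algebra.TensorProduct.map_tmul, map_one, RingHom.mem_ker]
  constructor
  · intro h
    by_contra hne
    exact algebraMap_ne_zero_of_mem_nonZeroDivisors f g 𝔪 hA hB hf hg h𝔪
      (tmul_mem_nonZeroDivisors (k := k) (one_ne_zero (α := A')) hne) h
  · intro h
    rw [h, TensorProduct.tmul_zero, map_zero]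

theorem exists_frac (hfracA : ∀ y : A', ∃ d : A, f d ≠ 0 ∧ ∃ d₂ : A, f d * y = f d₂)
    (hfracB : ∀ y : B', ∃ d : B, g d ≠ 0 ∧ ∃ d₂ : B, g d * y = g d₂) (y : D' f g 𝔪) :
    ∃ d : Localization.AtPrime 𝔪, ρ f g 𝔪 d ≠ 0 ∧
      ∃ d₂ : Localization.AtPrime 𝔪, ρ f g 𝔪 d * y = ρ f g 𝔪 d₂ := by
  obtain ⟨n, s, rfl⟩ := IsLocalization.exists_mk'_eq (SS f g 𝔪) y
  obtain ⟨t₀, ht₀, hs⟩ := s.2
  have hs' : (s : A' ⊗[k] B') = Φ f g t₀ := hs.symm
  obtain ⟨t, ht, t₂, he⟩ := exists_denominator f g hfracA hfracB n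
  refine ⟨algebraMap _ _ t, ?_, IsLocalization.mk' _ t₂ (⟨t₀, ht₀⟩ : 𝔪.primeCompl), ?_⟩
  · rw [ρ_algebraMap]
    exact algebraMap_ne_zero_of_mem_nonZeroDivisors f g 𝔪 hA hB hf hg h𝔪 ht
  · rw [ρ_algebraMap]
    have hu : IsUnit (algebraMap (A' ⊗[k] B') (D' f g 𝔪) (s : A' ⊗[k] B')) :=
      IsLocalization.map_units (D' f g 𝔪) s
    refine hu.mul_left_injective ?_
    dsimp only
    rw [mul_assoc, IsLocalization.mk'_spec, ← map_mul, he, hs', ← ρ_algebraMap, ← ρ_algebraMap,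
      ← map_mul]
    congr 1
    exact (IsLocalization.mk'_spec (Localization.AtPrime 𝔪) t₂ (⟨t₀, ht₀⟩ : 𝔪.primeCompl)).symm

end withm

end Groth.Agent.Lib.Helper22.SHTensE
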