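import Mathlib
import Groth.Prelude.Def_CAlg2
import Groth.Agent.Lib.Helper22.SHTensE

/-!
# The quotient of `(A ⊗ B)_𝔪` by the kernel ideal is geometrically unibranch (helper22)
-/

set_option autoImplicit false
set_option linter.style.haveILetI false
set_option linter.unusedSectionVars false
universe u

namespace Groth.Agent.Lib.Helper22.SHTensF

open TensorProduct IsLocalRing Groth.Agent.Lib.Helper22.SHTensA Groth.Agent.Lib.Helper22.SHTensB
  Groth.Agent.Lib.Helper22.SHTensC Groth.Agent.Lib.Helper22.SHTensD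
  Groth.Agent.Lib.Helper22.SHTensE

variable {k A B A' B' : Type u} [Field k] [IsAlgClosed k] [CommRing A] [CommRing B]
  [IsLocalRing A] [IsLocalRing B] [Algebra k A] [Algebra k B]
  [CommRing A'] [IsLocalRing A'] [Algebra k A'] [CommRing B'] [IsLocalRing B'] [Algebra k B']
  [IsDomain A'] [IsDomain B'] [IsIntegrallyClosed A'] [IsIntegrallyClosed B']
  (f : A →ₐ[k] A') (g : B →ₐ[k] B') (𝔪 : Ideal (A ⊗[k] B)) [𝔪.IsPrime]

theorem qn_D' (hA : Function.Surjective ((residue A).comp (algebraMap k A)))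
    (hB : Function.Surjective ((residue B).comp (algebraMap k B)))
    (hf : f.toRingHom.IsIntegral) (hg : g.toRingHom.IsIntegral) (h𝔪 : 𝔪 = mm k A B) :
    IsLocalRing (D' f g 𝔪) ∧ IsDomain (D' f g 𝔪) ∧ IsIntegrallyClosed (D' f g 𝔪) := by
  have hA' := residue_comp_surjective f hA hf
  have hB' := residue_comp_surjective g hB hg
  obtain ⟨hloc, -⟩ := isLocalRing_D' f g 𝔪 hA hB hA' hB' hf hg h𝔪
  haveI := hloc
  haveI : Algebra.IsGeometricallyReduced k (FractionRing A') :=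
    Groth.Agent.Lib.Helper22.GeomRed.isGeometricallyReduced_of_perfectField
  haveI : Algebra.IsGeometricallyReduced k (FractionRing B') :=
    Groth.Agent.Lib.Helper22.GeomRed.isGeometricallyReduced_of_perfectField
  have hN : EGA4.IsNormalRing (A' ⊗[k] B') :=
    Groth.Agent.Lib.Helper22.NormTensor.isNormalRing_tensor_of_sep k A' B'
  have hD : EGA4.IsNormalRing (D' f g 𝔪) :=
    Groth.Agent.Lib.Helper22.NormalGood.good_normal.loc _ (SS f g 𝔪) _ hN
  obtain ⟨hdom, hic⟩ := Groth.Agent.Lib.Helper22.NormalLocal.QN_of_isNormalRing_of_isLocalRing hD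
  exact ⟨hloc, hdom, hic⟩

theorem isPrime_II (hA : Function.Surjective ((residue A).comp (algebraMap k A)))
    (hB : Function.Surjective ((residue B).comp (algebraMap k B)))
    (hf : f.toRingHom.IsIntegral) (hg : g.toRingHom.IsIntegral) (h𝔪 : 𝔪 = mm k A B) :
    (II f g 𝔪).IsPrime := by
  obtain ⟨-, hdom, -⟩ := qn_D' f g 𝔪 hA hB hf hg h𝔪
  haveI := hdom
  rw [← ker_ρ f g 𝔪 hA hB hf hg h𝔪]
  exact RingHom.ker_isPrime _

set_option backward.isDefEq.respectTransparency false in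
theorem gu (hA : Function.Surjective ((residue A).comp (algebraMap k A)))
    (hB : Function.Surjective ((residue B).comp (algebraMap k B)))
    (hf : f.toRingHom.IsIntegral) (hg : g.toRingHom.IsIntegral) (h𝔪 : 𝔪 = mm k A B)
    (hfracA : ∀ y : A', ∃ d : A, f d ≠ 0 ∧ ∃ d₂ : A, f d * y = f d₂)
    (hfracB : ∀ y : B', ∃ d : B, g d ≠ 0 ∧ ∃ d₂ : B, g d * y = g d₂)
    [IsLocalRing (Localization.AtPrime 𝔪 ⧸ II f g 𝔪)] :
    CAlg2.IsGeomUnibranch (Localization.AtPrime 𝔪 ⧸ II f g 𝔪) := by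
  have hA' := residue_comp_surjective f hA hf
  have hB' := residue_comp_surjective g hB hg
  obtain ⟨hloc, hmax⟩ := isLocalRing_D' f g 𝔪 hA hB hA' hB' hf hg h𝔪
  haveI := hloc
  have hmax' := hmax
  haveI : Algebra.IsGeometricallyReduced k (FractionRing A') :=
    Groth.Agent.Lib.Helper22.GeomRed.isGeometricallyReduced_of_perfectField
  haveI : Algebra.IsGeometricallyReduced k (FractionRing B') :=
    Groth.Agent.Lib.Helper22.GeomRed.isGeometricallyReduced_of_perfectField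
  have hN : EGA4.IsNormalRing (A' ⊗[k] B') :=
    Groth.Agent.Lib.Helper22.NormTensor.isNormalRing_tensor_of_sep k A' B'
  have hD : EGA4.IsNormalRing (D' f g 𝔪) :=
    Groth.Agent.Lib.Helper22.NormalGood.good_normal.loc _ (SS f g 𝔪) _ hN
  obtain ⟨hdom, hic⟩ := Groth.Agent.Lib.Helper22.NormalLocal.QN_of_isNormalRing_of_isLocalRing hD
  haveI := hdom
  haveI := hic
  have hH : ∀ x ∈ II f g 𝔪, ρ f g 𝔪 x = 0 := fun x hx => ρ_eq_zero_of_mem f g 𝔪 hx
  let σ : (Localization.AtPrime 𝔪 ⧸ II f g 𝔪) →+* D' f g 𝔪 :=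
    Ideal.Quotient.lift (II f g 𝔪) (ρ f g 𝔪) hH
  letI : Algebra (Localization.AtPrime 𝔪 ⧸ II f g 𝔪) (D' f g 𝔪) := σ.toAlgebra
  have hσ : ∀ x : Localization.AtPrime 𝔪,
      algebraMap (Localization.AtPrime 𝔪 ⧸ II f g 𝔪) (D' f g 𝔪) (Ideal.Quotient.mk _ x) =
        ρ f g 𝔪 x := fun x => by
    rw [RingHom.algebraMap_toAlgebra]
    exact Ideal.Quotient.lift_mk (II f g 𝔪) (ρ f g 𝔪) hH
  haveI : Algebra.IsIntegral (Localization.AtPrime 𝔪 ⧸ II f g 𝔪) (D' f g 𝔪) := by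
    letI : Algebra (Localization.AtPrime 𝔪) (D' f g 𝔪) := (ρ f g 𝔪).toAlgebra
    haveI : IsScalarTower (Localization.AtPrime 𝔪) (Localization.AtPrime 𝔪 ⧸ II f g 𝔪)
        (D' f g 𝔪) := by
      refine IsScalarTower.of_algebraMap_eq (R := Localization.AtPrime 𝔪)
        (S := Localization.AtPrime 𝔪 ⧸ II f g 𝔪) (A := D' f g 𝔪) ?_
      intro x
      rw [RingHom.algebraMap_toAlgebra (ρ f g 𝔪), Ideal.Quotient.algebraMap_eq]
      exact (hσ x).symm
    haveI : Algebra.IsIntegral (Localization.AtPrime 𝔪) (D' f g 𝔪) :=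
      ⟨ρ_isIntegral f g 𝔪 hf hg⟩
    exact Algebra.IsIntegral.tower_top (Localization.AtPrime 𝔪)
  refine Groth.Agent.Lib.lead.GUPack.pack (D' f g 𝔪) ?_ ?_ 1 (Or.inl rfl) ?_
  · intro a ha
    obtain ⟨x, rfl⟩ := Ideal.Quotient.mk_surjective a
    rw [hσ] at ha
    have := mem_of_ρ_eq_zero f g 𝔪 hA hB hf hg h𝔪 ha
    rw [Ideal.Quotient.eq_zero_iff_mem.mpr this]
    exact IsNilpotent.zero
  · intro y
    obtain ⟨d, hd, d₂, he⟩ := exists_frac f g 𝔪 hA hB hf hg h𝔪 hfracA hfracB y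
    exact ⟨Ideal.Quotient.mk _ d, hd, Ideal.Quotient.mk _ d₂, he⟩
  · intro y
    obtain ⟨c, hc⟩ := exists_sub_mem_D' f g 𝔪 hA hB hA' hB' hf hg h𝔪 y
    refine ⟨0, Ideal.Quotient.mk _ (algebraMap (A ⊗[k] B) _ (algebraMap k _ c)), ?_⟩
    rw [pow_zero, pow_one, hmax', hσ, ρ_algebraMap, AlgHom.commutes]
    exact hc

end Groth.Agent.Lib.Helper22.SHTensF
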