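import Mathlib
import Groth.Agent.Lib.Helper12.HenselIntegralDomain
import Groth.Agent.Lib.Helper22.RadicialNorm

/-!
# The normalization of a quotient of a henselian local algebra by a prime (helper22)
-/

set_option autoImplicit false
set_option linter.style.haveILetI false
set_option linter.unusedSectionVars false
universe u

namespace Groth.Agent.Lib.Helper22.SHTensG

open IsLocalRing

theorem exists_normalization (k A : Type u) [Field k] [CommRing A] [HenselianLocalRing A]
    [Algebra k A] (p : Ideal A) [p.IsPrime] :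
    ∃ (A' : Type u) (_ : CommRing A') (_ : IsDomain A') (_ : IsIntegrallyClosed A')
      (_ : IsLocalRing A') (_ : Algebra k A') (f : A →ₐ[k] A'),
      f.toRingHom.IsIntegral ∧ RingHom.ker f = p ∧
        ∀ y : A', ∃ d : A, f d ≠ 0 ∧ ∃ d₂ : A, f d * y = f d₂ := by
  let K := FractionRing (A ⧸ p)
  let A' := integralClosure (A ⧸ p) K
  haveI : IsIntegrallyClosed A' := integralClosure.isIntegrallyClosedOfFiniteExtension K
  let φ : A →+* A' := (algebraMap (A ⧸ p) A').comp (Ideal.Quotient.mk p)
  have hinj : Function.Injective (algebraMap (A ⧸ p) A') :=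
    FaithfulSMul.algebraMap_injective (A ⧸ p) A'
  have hφint : φ.IsIntegral :=
    RingHom.IsIntegral.trans _ _ (RingHom.isIntegral_of_surjective _ Ideal.Quotient.mk_surjective)
      (algebraMap_isIntegral_iff.mpr inferInstance)
  letI algk : Algebra k A' := (φ.comp (algebraMap k A)).toAlgebra
  let f : A →ₐ[k] A' := { φ with commutes' := fun c => rfl }
  have hfφ : ∀ a, f a = φ a := fun a => rfl
  haveI : IsLocalRing A' := by
    letI : Algebra A A' := φ.toAlgebra
    haveI : Algebra.IsIntegral A A' := ⟨hφint⟩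
    exact Groth.Agent.Lib.Helper12.isLocalRing_of_isIntegral_of_isDomain A A'
  refine ⟨A', inferInstance, inferInstance, inferInstance, inferInstance, algk, f, hφint, ?_, ?_⟩
  · ext a
    rw [RingHom.mem_ker, hfφ]
    change algebraMap (A ⧸ p) A' (Ideal.Quotient.mk p a) = 0 ↔ _
    rw [map_eq_zero_iff _ hinj, Ideal.Quotient.eq_zero_iff_mem]
  · intro y
    obtain ⟨d, hd, d₂, h⟩ :=
      Groth.Agent.Lib.Helper22.RadicialNorm.exists_mul_eq_algebraMap_integralClosure (A ⧸ p) K y
    obtain ⟨d', rfl⟩ := Ideal.Quotient.mk_surjective d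
    obtain ⟨d₂', rfl⟩ := Ideal.Quotient.mk_surjective d₂
    refine ⟨d', ?_, d₂', h⟩
    rw [hfφ]
    change algebraMap (A ⧸ p) A' (Ideal.Quotient.mk p d') ≠ 0
    rw [Ne, map_eq_zero_iff _ hinj]
    exact hd

end Groth.Agent.Lib.Helper22.SHTensG
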