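import Mathlib
import Groth.Prelude.Def_Hensel
import Groth.Agent.Lib.Helper22.SHTensF
import Groth.Agent.Lib.Helper22.SHTensG
import Groth.Agent.Lib.Helper22.GeomBranchOne
import Groth.Agent.Lib.Helper22.BrCountKey
import Groth.Agent.Lib.Helper12.StrictQuotient
import Groth.Agent.Lib.Helper12.StrictStruct5
import Groth.Agent.S9238

/-!
# Minimal primes of the strict henselization of `(A ⊗_k B)_𝔪` (helper22)
-/

set_option autoImplicit false
set_option linter.style.haveILetI false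
set_option linter.unusedSectionVars false
universe u

namespace Groth.Agent.Lib.Helper22.SHTensMain

open TensorProduct IsLocalRing Groth.Agent.Lib.Helper22.SHTensA Groth.Agent.Lib.Helper22.SHTensB
  Groth.Agent.Lib.Helper22.SHTensC Groth.Agent.Lib.Helper22.SHTensD
  Groth.Agent.Lib.Helper22.SHTensE Groth.Agent.Lib.Helper22.SHTensF

variable {k A B C : Type u} [Field k] [IsAlgClosed k] [CommRing A] [CommRing B]
  [HenselianLocalRing A] [HenselianLocalRing B] [Algebra k A] [Algebra k B]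
  (𝔪 : Ideal (A ⊗[k] B)) [𝔪.IsPrime]
  [CommRing C] [IsLocalRing C] [Algebra (Localization.AtPrime 𝔪) C]
  [IsLocalHom (algebraMap (Localization.AtPrime 𝔪) C)]
  [Hensel.IsStrictHenselization (Localization.AtPrime 𝔪) C]

/-- the map `A → C` -/
abbrev gA : A →+* C :=
  (algebraMap (Localization.AtPrime 𝔪) C).comp
    ((algebraMap (A ⊗[k] B) (Localization.AtPrime 𝔪)).comp
      (Algebra.TensorProduct.includeLeft : A →ₐ[k] A ⊗[k] B).toRingHom)

/-- the map `B → C` -/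
abbrev gB : B →+* C :=
  (algebraMap (Localization.AtPrime 𝔪) C).comp
    ((algebraMap (A ⊗[k] B) (Localization.AtPrime 𝔪)).comp
      (Algebra.TensorProduct.includeRight : B →ₐ[k] A ⊗[k] B).toRingHom)

theorem flat_tail :
    ((algebraMap (Localization.AtPrime 𝔪) C).comp
      (algebraMap (A ⊗[k] B) (Localization.AtPrime 𝔪))).Flat := by
  refine RingHom.Flat.comp ?_ ?_
  · rw [RingHom.flat_algebraMap_iff]
    exact IsLocalization.flat (Localization.AtPrime 𝔪) 𝔪.primeCompl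
  · rw [RingHom.flat_algebraMap_iff]
    exact Groth.Agent.Lib.Helper12.StrictStruct.flat_of_isStrictHenselization
      (Localization.AtPrime 𝔪) C

theorem flat_gA : (gA (C := C) 𝔪).Flat := by
  have h1 : ((Algebra.TensorProduct.includeLeft : A →ₐ[k] A ⊗[k] B).toRingHom).Flat := by
    have : (Algebra.TensorProduct.includeLeft : A →ₐ[k] A ⊗[k] B).toRingHom =
        algebraMap A (A ⊗[k] B) := by
      ext a
      simp
    rw [this, RingHom.flat_algebraMap_iff]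
    infer_instance
  have h2 := RingHom.Flat.comp h1 (flat_tail (C := C) 𝔪)
  exact h2

theorem flat_gB : (gB (C := C) 𝔪).Flat := by
  have h1 : ((Algebra.TensorProduct.includeRight : B →ₐ[k] A ⊗[k] B).toRingHom).Flat := by
    have : (Algebra.TensorProduct.includeRight : B →ₐ[k] A ⊗[k] B).toRingHom =
        ((Algebra.TensorProduct.comm k B A).toRingEquiv.toRingHom).comp
          (algebraMap B (B ⊗[k] A)) := by
      ext b
      simp
    rw [this]
    refine RingHom.Flat.comp ?_ (RingHom.Flat.of_bijective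
      (Algebra.TensorProduct.comm k B A).toRingEquiv.bijective)
    rw [RingHom.flat_algebraMap_iff]
    infer_instance
  have h2 := RingHom.Flat.comp h1 (flat_tail (C := C) 𝔪)
  exact h2

theorem comap_gA_mem {𝔯 : Ideal C} (h𝔯 : 𝔯 ∈ minimalPrimes C) :
    𝔯.comap (gA 𝔪) ∈ minimalPrimes A := by
  letI : Algebra A C := (gA (C := C) 𝔪).toAlgebra
  haveI : Module.Flat A C := flat_gA 𝔪
  exact Groth.Agent.Lib.Helper22.BrCountKey.under_mem_minimalPrimes (R := A) h𝔯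

theorem comap_gB_mem {𝔯 : Ideal C} (h𝔯 : 𝔯 ∈ minimalPrimes C) :
    𝔯.comap (gB 𝔪) ∈ minimalPrimes B := by
  letI : Algebra B C := (gB (C := C) 𝔪).toAlgebra
  haveI : Module.Flat B C := flat_gB 𝔪
  exact Groth.Agent.Lib.Helper22.BrCountKey.under_mem_minimalPrimes (R := B) h𝔯


omit [IsLocalRing C] [Algebra (Localization.AtPrime 𝔪) C]
  [IsLocalHom (algebraMap (Localization.AtPrime 𝔪) C)]
  [Hensel.IsStrictHenselization (Localization.AtPrime 𝔪) C] [CommRing C] in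
/-- for primes `p`, `q`: the ideal `I = (p ⊗ B + A ⊗ q)_𝔪` is prime, contracts to `p` and `q`,
and the quotient is geometrically unibranch. -/
theorem key (hA : Function.Surjective ((residue A).comp (algebraMap k A)))
    (hB : Function.Surjective ((residue B).comp (algebraMap k B))) (h𝔪 : 𝔪 = mm k A B)
    (p : Ideal A) [p.IsPrime] (q : Ideal B) [q.IsPrime] :
    ∃ I : Ideal (Localization.AtPrime 𝔪), I.IsPrime ∧
      I = (p.map (Algebra.TensorProduct.includeLeft : A →ₐ[k] A ⊗[k] B) ⊔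
        q.map (Algebra.TensorProduct.includeRight : B →ₐ[k] A ⊗[k] B)).map
          (algebraMap (A ⊗[k] B) (Localization.AtPrime 𝔪)) ∧
      I.comap ((algebraMap (A ⊗[k] B) (Localization.AtPrime 𝔪)).comp
        (Algebra.TensorProduct.includeLeft : A →ₐ[k] A ⊗[k] B).toRingHom) = p ∧
      I.comap ((algebraMap (A ⊗[k] B) (Localization.AtPrime 𝔪)).comp
        (Algebra.TensorProduct.includeRight : B →ₐ[k] A ⊗[k] B).toRingHom) = q ∧
      ∀ [IsLocalRing (Localization.AtPrime 𝔪 ⧸ I)],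
        CAlg2.IsGeomUnibranch (Localization.AtPrime 𝔪 ⧸ I) := by
  obtain ⟨A', _, _, _, _, _, f, hf, hkf, hfracA⟩ :=
    Groth.Agent.Lib.Helper22.SHTensG.exists_normalization k A p
  obtain ⟨B', _, _, _, _, _, g, hg, hkg, hfracB⟩ :=
    Groth.Agent.Lib.Helper22.SHTensG.exists_normalization k B q
  refine ⟨II f g 𝔪, isPrime_II f g 𝔪 hA hB hf hg h𝔪, ?_, ?_, ?_, ?_⟩
  · rw [← hkf, ← hkg]
  · rw [comap_II_left f g 𝔪 hA hB hf hg h𝔪, hkf]
  · rw [comap_II_right f g 𝔪 hA hB hf hg h𝔪, hkg]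
  · intro _
    exact gu f g 𝔪 hA hB hf hg h𝔪 hfracA hfracB

theorem main (hA : Function.Bijective ((residue A).comp (algebraMap k A)))
    (hB : Function.Bijective ((residue B).comp (algebraMap k B)))
    (h𝔪 : 𝔪 = (maximalIdeal A).map (Algebra.TensorProduct.includeLeft : A →ₐ[k] A ⊗[k] B) ⊔
      (maximalIdeal B).map (Algebra.TensorProduct.includeRight : B →ₐ[k] A ⊗[k] B)) :
    Set.BijOn
      (fun 𝔯 : Ideal C =>
        (𝔯.comap ((algebraMap (Localization.AtPrime 𝔪) C).comp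
            ((algebraMap (A ⊗[k] B) (Localization.AtPrime 𝔪)).comp
              (Algebra.TensorProduct.includeLeft : A →ₐ[k] A ⊗[k] B).toRingHom)),
          𝔯.comap ((algebraMap (Localization.AtPrime 𝔪) C).comp
            ((algebraMap (A ⊗[k] B) (Localization.AtPrime 𝔪)).comp
              (Algebra.TensorProduct.includeRight : B →ₐ[k] A ⊗[k] B).toRingHom))))
      (minimalPrimes C) (minimalPrimes A ×ˢ minimalPrimes B) := by
  have h𝔪' : 𝔪 = mm k A B := h𝔪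
  haveI : Module.Flat (Localization.AtPrime 𝔪) C :=
    Groth.Agent.Lib.Helper12.StrictStruct.flat_of_isStrictHenselization _ C
  haveI : Module.FaithfullyFlat (Localization.AtPrime 𝔪) C :=
    Module.FaithfullyFlat.of_flat_of_isLocalHom
  refine ⟨?_, ?_, ?_⟩
  · -- maps to
    intro 𝔯 h𝔯
    exact Set.mk_mem_prod (comap_gA_mem 𝔪 h𝔯) (comap_gB_mem 𝔪 h𝔯)
  · -- injective
    intro 𝔯₁ h₁ 𝔯₂ h₂ heq
    have heqA : 𝔯₁.comap (gA 𝔪) = 𝔯₂.comap (gA 𝔪) := congrArg Prod.fst heq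
    have heqB : 𝔯₁.comap (gB 𝔪) = 𝔯₂.comap (gB 𝔪) := congrArg Prod.snd heq
    haveI := h₁.1.1
    haveI := h₂.1.1
    haveI : (𝔯₁.comap (gA 𝔪)).IsPrime := Ideal.comap_isPrime _ _
    haveI : (𝔯₁.comap (gB 𝔪)).IsPrime := Ideal.comap_isPrime _ _
    obtain ⟨I, hIp, hI, -, -, hgu⟩ :=
      key 𝔪 hA.2 hB.2 h𝔪' (𝔯₁.comap (gA 𝔪)) (𝔯₁.comap (gB 𝔪))
    -- `J = I C` lies in both
    have hJle : ∀ 𝔯 : Ideal C, 𝔯₁.comap (gA 𝔪) ≤ 𝔯.comap (gA 𝔪) →
        𝔯₁.comap (gB 𝔪) ≤ 𝔯.comap (gB 𝔪) →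
        I.map (algebraMap (Localization.AtPrime 𝔪) C) ≤ 𝔯 := by
      intro 𝔯 hle1 hle2
      rw [Ideal.map_le_iff_le_comap, hI, Ideal.map_le_iff_le_comap]
      refine sup_le ?_ ?_
      · rw [Ideal.map_le_iff_le_comap]
        intro a ha
        exact hle1 ha
      · rw [Ideal.map_le_iff_le_comap]
        intro b hb
        exact hle2 hb
    have hJ1 := hJle 𝔯₁ le_rfl le_rfl
    have hJ2 := hJle 𝔯₂ heqA.le heqB.le
    obtain ⟨hR, hT, hloc, hSH⟩ :=
      Groth.Agent.Lib.Helper12.StrictQuotient.isStrictHenselization_quotient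
        (Localization.AtPrime 𝔪) C I hIp.ne_top
    haveI := hR
    haveI := hT
    haveI := hloc
    haveI := hSH
    have hone : Brnch.numGeomBranches (Localization.AtPrime 𝔪 ⧸ I) = 1 :=
      (Groth.Agent.Lib.Helper22.GeomBranchOne.main _).mpr hgu
    have hcard := Groth.Agent.S9238.result (Localization.AtPrime 𝔪 ⧸ I)
      (C ⧸ I.map (algebraMap (Localization.AtPrime 𝔪) C))
    rw [hone] at hcard
    obtain ⟨hu⟩ := ENat.card_eq_one_iff_unique.1 hcard
    set J := I.map (algebraMap (Localization.AtPrime 𝔪) C) with hJ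
    have hmin : ∀ 𝔯 : Ideal C, 𝔯 ∈ minimalPrimes C → J ≤ 𝔯 → 𝔯 ∈ J.minimalPrimes := by
      intro 𝔯 h𝔯 hle
      exact ⟨⟨h𝔯.1.1, hle⟩, fun P hP hPle => h𝔯.2 ⟨hP.1, bot_le⟩ hPle⟩
    have hm1 := hmin 𝔯₁ h₁ hJ1
    have hm2 := hmin 𝔯₂ h₂ hJ2
    rw [Ideal.minimalPrimes_eq_comap] at hm1 hm2
    obtain ⟨𝔰₁, hs1, rfl⟩ := hm1
    obtain ⟨𝔰₂, hs2, rfl⟩ := hm2
    have : (⟨𝔰₁, hs1⟩ : minimalPrimes (C ⧸ J)) = ⟨𝔰₂, hs2⟩ :=
      (hu.uniq _).trans (hu.uniq _).symm
    rw [Subtype.mk.injEq] at this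
    rw [this]
  · -- surjective
    rintro ⟨p, q⟩ ⟨hp, hq⟩
    change p ∈ minimalPrimes A at hp
    change q ∈ minimalPrimes B at hq
    haveI := hp.1.1
    haveI := hq.1.1
    obtain ⟨I, hIp, -, hIA, hIB, -⟩ := key 𝔪 hA.2 hB.2 h𝔪' p q
    haveI := hIp
    obtain ⟨𝔯'', h𝔯''p, ⟨h𝔯''o⟩⟩ := Ideal.exists_isPrime_liesOver_of_faithfullyFlat (B := C) I
    obtain ⟨𝔯, h𝔯, h𝔯le⟩ := Ideal.exists_minimalPrimes_le (bot_le : (⊥ : Ideal C) ≤ 𝔯'')
    have h𝔯' : 𝔯 ∈ minimalPrimes C := h𝔯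
    refine ⟨𝔯, h𝔯', ?_⟩
    have hA1 := comap_gA_mem 𝔪 h𝔯'
    have hB1 := comap_gB_mem 𝔪 h𝔯'
    have hle1 : 𝔯.comap (gA 𝔪) ≤ p := by
      intro a ha
      have h1 : gA 𝔪 a ∈ 𝔯'' := h𝔯le ha
      rw [← hIA, Ideal.mem_comap, h𝔯''o]
      exact h1
    have hle2 : 𝔯.comap (gB 𝔪) ≤ q := by
      intro b hb
      have h1 : gB 𝔪 b ∈ 𝔯'' := h𝔯le hb
      rw [← hIB, Ideal.mem_comap, h𝔯''o]
      exact h1
    have e1 : 𝔯.comap (gA 𝔪) = p := le_antisymm hle1 (hp.2 hA1.1 hle1)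
    have e2 : 𝔯.comap (gB 𝔪) = q := le_antisymm hle2 (hq.2 hB1.1 hle2)
    exact Prod.ext e1 e2

end Groth.Agent.Lib.Helper22.SHTensMain
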