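import Mathlib
import Groth.Prelude.Def_FDesc
import Groth.Agent.Lib.Helper22.SchGeomConn2
import Groth.Agent.Lib.Helper22.SchGeomConn3
import Groth.Agent.Lib.Helper18.GeomIrrGen

/-!
# Connected components over a separably closed field (helper22)
-/

set_option autoImplicit false
set_option linter.style.haveILetI false
universe u
noncomputable section
namespace Groth.Agent.Lib.Helper22.SchGeomConn

open TensorProduct CategoryTheory CategoryTheory.Limits AlgebraicGeometry
open Groth.Agent.Lib.Helper18

variable {k : Type u} [Field k] {X : Scheme.{u}} (f : X ⟶ Spec (CommRingCat.of k))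

/-- Over a separably closed field, the preimage in `X_K` of a connected component of `X` is
connected. -/
theorem isConnected_preimage_connectedComponent_of_isSepClosed [IsSepClosed k] (x : X)
    (K : Type u) [Field K] [Algebra k K] :
    _root_.IsConnected (FBase.bcπ f K ⁻¹' connectedComponent x) := by
  letI : Algebra k (X.residueField x) := (GeomIrrGen.resMap f x).toAlgebra
  have hsep : ∀ α : X.residueField x, IsSeparable k α →
      α ∈ Set.range (algebraMap k (X.residueField x)) := by
    intro α hα
    exact minpoly.mem_range_of_degree_eq_one k α
      (IsSepClosed.degree_eq_one_of_irreducible k (minpoly.irreducible hα.isIntegral) hα)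
  have hgc : GeometricallyConnected (Spec.map (CommRingCat.ofHom
      (algebraMap k (X.residueField x)))) :=
    geometricallyConnected_specMap_of_sepClosedIn (k := k) (F := X.residueField x) hsep
  haveI : GeometricallyConnected (X.fromSpecResidueField x ≫ f) := by
    rw [GeomIrrGen.fromSpecResidueField_comp f x]
    exact hgc
  let pt : ↥(Spec (X.residueField x)) := (⊥ : PrimeSpectrum (X.residueField x))
  have hpt : X.fromSpecResidueField x pt = x := by
    have : X.fromSpecResidueField x pt ∈ Set.range (X.fromSpecResidueField x) := ⟨pt, rfl⟩
    rw [Scheme.range_fromSpecResidueField] at this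
    exact this
  have := isConnected_preimage_connectedComponent_of_source f (X.fromSpecResidueField x) pt K
  rwa [hpt] at this

/-- Over a separably closed field, `π₀(X_K) → π₀(X)` is bijective. -/
theorem bijective_connectedComponentsMap_bcπ [IsSepClosed k] (K : Type u) [Field K]
    [Algebra k K] :
    Function.Bijective (Continuous.connectedComponentsMap (FBase.bcπ f K).continuous) := by
  constructor
  · intro a b hab
    obtain ⟨a, rfl⟩ := _root_.ConnectedComponents.surjective_coe a
    obtain ⟨b, rfl⟩ := _root_.ConnectedComponents.surjective_coe b
    rw [Continuous.connectedComponentsMap_mk, Continuous.connectedComponentsMap_mk,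
      _root_.ConnectedComponents.coe_eq_coe] at hab
    rw [_root_.ConnectedComponents.coe_eq_coe]
    have hconn := isConnected_preimage_connectedComponent_of_isSepClosed f (FBase.bcπ f K a) K
    have ha : a ∈ FBase.bcπ f K ⁻¹' connectedComponent (FBase.bcπ f K a) := mem_connectedComponent
    have hb : b ∈ FBase.bcπ f K ⁻¹' connectedComponent (FBase.bcπ f K a) := by
      change FBase.bcπ f K b ∈ connectedComponent (FBase.bcπ f K a)
      rw [hab]
      exact mem_connectedComponent
    have hsub := hconn.isPreconnected.subset_connectedComponent ha
    exact connectedComponent_eq (hsub hb)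
  · intro c
    obtain ⟨x, rfl⟩ := _root_.ConnectedComponents.surjective_coe c
    obtain ⟨x', rfl⟩ := surjective_bcπ f K x
    exact ⟨_root_.ConnectedComponents.mk x', Continuous.connectedComponentsMap_mk _ _⟩

end Groth.Agent.Lib.Helper22.SchGeomConn
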