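import Mathlib
import Groth.Agent.Lib.Helper22.SchNormal2
import Groth.Agent.Lib.Helper22.NormTensor3

/-!
# Products of a geometrically normal scheme and a normal scheme (helper22)
-/

set_option autoImplicit false
set_option linter.style.haveILetI false
universe u
noncomputable section
namespace Groth.Agent.Lib.Helper22.SchNormal

open CategoryTheory CategoryTheory.Limits AlgebraicGeometry TopologicalSpace TensorProduct
open Groth.Agent.Lib.Helper22.NormalLocal Groth.Agent.Lib.Helper22.NormalGood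
open Groth.Agent.Lib.Helper22.RedBC

/-- an open subscheme `Spec R` of a normal scheme has `R` normal -/
theorem isNormalRing_of_openImmersion_spec {X : Scheme.{u}} (R : CommRingCat.{u}) (j : Spec R ⟶ X)
    [IsOpenImmersion j] (hX : Pi1.IsNormalScheme X) : EGA4.IsNormalRing R := by
  intro p hp
  let z : Spec R := ⟨p, hp⟩
  have h1 : QN ((Spec R).presheaf.stalk z) :=
    QN_iso _ _ (asIso (j.stalkMap z)).commRingCatIsoToRingEquiv (hX (j z))
  letI : Algebra ↑R ↑((Spec R).presheaf.stalk z) := StructureSheaf.stalkAlgebra (↑R) z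
  haveI : IsLocalization.AtPrime (↑((Spec R).presheaf.stalk z)) z.asIdeal :=
    StructureSheaf.IsLocalization.to_stalk R z
  exact QN_iso _ _ (IsLocalization.algEquiv z.asIdeal.primeCompl
    ((Spec R).presheaf.stalk z) (Localization.AtPrime p)).toRingEquiv h1

variable (k : Type u) [Field k] (X : Scheme.{u}) [X.Over (Spec (CommRingCat.of k))]

/-- sections of a geometrically normal scheme over an affine open are geometrically normal -/
theorem isNormalRing_tensor_sections
    (hX : ∀ (K : Type u) [Field K] [Algebra k K], Pi1.IsNormalScheme (Curv2.bc k X K))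
    (U : X.Opens) (hU : IsAffineOpen U) (K : Type u) [Field K] [Algebra k K] :
    letI := secAlgebra k X U hU
    EGA4.IsNormalRing (K ⊗[k] Γ(X, U)) := by
  letI := secAlgebra k X U hU
  obtain ⟨d, -⟩ := exists_iso_spec_tensor k X U hU K
  exact isNormalRing_of_openImmersion_spec (CommRingCat.of (K ⊗[k] Γ(X, U)))
    (d.inv ≫ ((Curv2.bcFst k X K) ⁻¹ᵁ U).ι) (hX K)

theorem isGeomNormal_sections
    (hX : ∀ (K : Type u) [Field K] [Algebra k K], Pi1.IsNormalScheme (Curv2.bc k X K))
    (U : X.Opens) (hU : IsAffineOpen U) :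
    letI := secAlgebra k X U hU
    EGA4.IsGeomNormal k Γ(X, U) := by
  letI := secAlgebra k X U hU
  intro k' _ _ _
  exact isNormalRing_tensor_sections k X hX U hU k'

/-- **Product of a geometrically normal and a normal scheme is normal.** -/
theorem isNormalScheme_pullback (Y : Scheme.{u}) [Y.Over (Spec (CommRingCat.of k))]
    (hX : ∀ (K : Type u) [Field K] [Algebra k K], Pi1.IsNormalScheme (Curv2.bc k X K))
    (hY : Pi1.IsNormalScheme Y) :
    Pi1.IsNormalScheme (pullback (X ↘ (Spec (CommRingCat.of k))) (Y ↘ (Spec (CommRingCat.of k)))) := by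
  intro t
  obtain ⟨U, hU, hxU, -⟩ := exists_isAffineOpen_mem_and_subset
    (x := pullback.fst (X ↘ (Spec (CommRingCat.of k))) (Y ↘ (Spec (CommRingCat.of k))) t)
    (U := ⊤) trivial
  obtain ⟨V, hV, hyV, -⟩ := exists_isAffineOpen_mem_and_subset
    (x := pullback.snd (X ↘ (Spec (CommRingCat.of k))) (Y ↘ (Spec (CommRingCat.of k))) t)
    (U := ⊤) trivial
  letI := secAlgebra k X U hU
  letI := secAlgebra k Y V hV
  have hA := isGeomNormal_sections k X hX U hU
  have hB := isNormalRing_sections hY V hV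
  have hAB : EGA4.IsNormalRing (Γ(X, U) ⊗[k] Γ(Y, V)) :=
    Groth.Agent.Lib.Helper22.NormTensor.isNormalRing_tensor k Γ(X, U) Γ(Y, V) hA hB
  have e1 : Spec.map (CommRingCat.ofHom (algebraMap k Γ(X, U))) ≫ 𝟙 (Spec (CommRingCat.of k)) =
      hU.fromSpec ≫ (X ↘ (Spec (CommRingCat.of k))) := by
    rw [Category.comp_id]
    exact specMap_secHom k X U hU
  have e2 : Spec.map (CommRingCat.ofHom (algebraMap k Γ(Y, V))) ≫ 𝟙 (Spec (CommRingCat.of k)) =
      hV.fromSpec ≫ (Y ↘ (Spec (CommRingCat.of k))) := by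
    rw [Category.comp_id]
    exact specMap_secHom k Y V hV
  let m := pullback.map (Spec.map (CommRingCat.ofHom (algebraMap k Γ(X, U))))
    (Spec.map (CommRingCat.ofHom (algebraMap k Γ(Y, V))))
    (X ↘ (Spec (CommRingCat.of k))) (Y ↘ (Spec (CommRingCat.of k)))
    hU.fromSpec hV.fromSpec (𝟙 _) e1 e2
  have ht : t ∈ Set.range m := by
    rw [Scheme.Pullback.range_map]
    refine ⟨?_, ?_⟩
    · rw [Set.mem_preimage, hU.range_fromSpec]
      exact hxU
    · rw [Set.mem_preimage, hV.range_fromSpec]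
      exact hyV
  obtain ⟨w, hw⟩ := ht
  let j : Spec (CommRingCat.of (Γ(X, U) ⊗[k] Γ(Y, V))) ⟶
      pullback (X ↘ (Spec (CommRingCat.of k))) (Y ↘ (Spec (CommRingCat.of k))) :=
    (pullbackSpecIso k Γ(X, U) Γ(Y, V)).inv ≫ m
  let z : Spec (CommRingCat.of (Γ(X, U) ⊗[k] Γ(Y, V))) := (pullbackSpecIso k Γ(X, U) Γ(Y, V)).hom w
  have hz : j z = t := by
    change ((pullbackSpecIso k Γ(X, U) Γ(Y, V)).inv ≫ m)
      ((pullbackSpecIso k Γ(X, U) Γ(Y, V)).hom w) = t
    rw [← Scheme.Hom.comp_apply, Iso.hom_inv_id_assoc]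
    exact hw
  have := qn_stalk_of_openImmersion_spec (CommRingCat.of (Γ(X, U) ⊗[k] Γ(Y, V))) j hAB z
  rw [hz] at this
  exact this

end Groth.Agent.Lib.Helper22.SchNormal
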