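import Mathlib

/-!
# Fitting decomposition for semilinear endomorphisms of modules of finite length (helper22)
-/

set_option autoImplicit false
set_option linter.unusedSectionVars false

universe u v

noncomputable section

namespace Groth.Agent.Lib.Helper22.SemiFitting

section General

variable {R : Type u} [CommRing R] {σ : R →+* R} {M : Type v} [AddCommGroup M] [Module R M]

theorem iterate_add (φ : M →ₛₗ[σ] M) (n : ℕ) (x y : M) :
    (⇑φ)^[n] (x + y) = (⇑φ)^[n] x + (⇑φ)^[n] y := by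
  induction n generalizing x y with
  | zero => rfl
  | succ n ih => rw [Function.iterate_succ_apply, map_add, ih, Function.iterate_succ_apply,
      Function.iterate_succ_apply]

theorem iterate_zero (φ : M →ₛₗ[σ] M) (n : ℕ) : (⇑φ)^[n] 0 = 0 := by
  induction n with
  | zero => rfl
  | succ n ih => rw [Function.iterate_succ_apply, map_zero, ih]

theorem iterate_sub (φ : M →ₛₗ[σ] M) (n : ℕ) (x y : M) :
    (⇑φ)^[n] (x - y) = (⇑φ)^[n] x - (⇑φ)^[n] y := by
  have h := iterate_add φ n (x - y) y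
  rw [sub_add_cancel] at h
  rw [h, add_sub_cancel_right]

theorem iterate_smul (φ : M →ₛₗ[σ] M) (n : ℕ) (c : R) (x : M) :
    (⇑φ)^[n] (c • x) = ((⇑σ)^[n] c) • (⇑φ)^[n] x := by
  induction n generalizing c x with
  | zero => rfl
  | succ n ih => rw [Function.iterate_succ_apply, map_smulₛₗ, ih, Function.iterate_succ_apply,
      Function.iterate_succ_apply]

/-- The kernel of the `n`-th iterate. -/
def iterKer (φ : M →ₛₗ[σ] M) (n : ℕ) : Submodule R M where
  carrier := {m | (⇑φ)^[n] m = 0}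
  zero_mem' := iterate_zero φ n
  add_mem' {x y} hx hy := by
    show (⇑φ)^[n] (x + y) = 0
    rw [iterate_add, hx, hy, add_zero]
  smul_mem' c x hx := by
    show (⇑φ)^[n] (c • x) = 0
    rw [iterate_smul, hx, smul_zero]

/-- The image of the `n`-th iterate (a submodule when `σ` is onto). -/
def iterRange (hσ : Function.Surjective σ) (φ : M →ₛₗ[σ] M) (n : ℕ) : Submodule R M where
  carrier := Set.range ((⇑φ)^[n])
  zero_mem' := ⟨0, iterate_zero φ n⟩
  add_mem' {x y} hx hy := by
    obtain ⟨a, rfl⟩ := hx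
    obtain ⟨b, rfl⟩ := hy
    exact ⟨a + b, iterate_add φ n a b⟩
  smul_mem' c x hx := by
    obtain ⟨a, rfl⟩ := hx
    obtain ⟨c', rfl⟩ := hσ.iterate n c
    exact ⟨c' • a, iterate_smul φ n c' a⟩

theorem mem_iterKer (φ : M →ₛₗ[σ] M) (n : ℕ) (m : M) : m ∈ iterKer φ n ↔ (⇑φ)^[n] m = 0 :=
  Iff.rfl

theorem mem_iterRange (hσ : Function.Surjective σ) (φ : M →ₛₗ[σ] M) (n : ℕ) (m : M) :
    m ∈ iterRange hσ φ n ↔ ∃ y, (⇑φ)^[n] y = m := Iff.rfl

theorem iterKer_mono (φ : M →ₛₗ[σ] M) : Monotone (iterKer φ) := by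
  refine monotone_nat_of_le_succ fun n x hx => ?_
  show (⇑φ)^[n + 1] x = 0
  rw [Function.iterate_succ_apply', (mem_iterKer φ n x).mp hx, map_zero]

theorem iterRange_anti (hσ : Function.Surjective σ) (φ : M →ₛₗ[σ] M) :
    Antitone (iterRange hσ φ) := by
  refine antitone_nat_of_succ_le fun n x hx => ?_
  obtain ⟨y, rfl⟩ := hx
  exact ⟨φ y, (Function.iterate_succ_apply (⇑φ) n y).symm⟩

/-- **Fitting decomposition** for a semilinear endomorphism (twisted by a surjective ring
endomorphism) of a module which is both noetherian and artinian. -/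
theorem fitting [IsNoetherian R M] [IsArtinian R M] (hσ : Function.Surjective σ)
    (φ : M →ₛₗ[σ] M) :
    ∃ Ms Mn : Submodule R M, IsCompl Ms Mn ∧
      Set.MapsTo φ Ms Ms ∧ Set.MapsTo φ Mn Mn ∧ Set.BijOn φ Ms Ms ∧
      ∃ r : ℕ, ∀ x ∈ Mn, (⇑φ)^[r] x = 0 := by
  obtain ⟨n₁, hn₁⟩ := monotone_stabilizes_iff_noetherian.mpr (inferInstance : IsNoetherian R M)
    ⟨iterKer φ, iterKer_mono φ⟩
  obtain ⟨n₂, hn₂⟩ := IsArtinian.monotone_stabilizes
    (⟨fun n => OrderDual.toDual (iterRange hσ φ n), fun a b hab => iterRange_anti hσ φ hab⟩ :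
      ℕ →o (Submodule R M)ᵒᵈ)
  set N := max n₁ n₂ with hN
  have hK : ∀ m, N ≤ m → iterKer φ N = iterKer φ m := fun m hm => by
    have h1 : iterKer φ n₁ = iterKer φ N := hn₁ N (le_max_left _ _)
    have h2 : iterKer φ n₁ = iterKer φ m := hn₁ m ((le_max_left _ _).trans hm)
    rw [← h1, h2]
  have hI : ∀ m, N ≤ m → iterRange hσ φ N = iterRange hσ φ m := fun m hm => by
    have h1 : iterRange hσ φ n₂ = iterRange hσ φ N := hn₂ N (le_max_right _ _)
    have h2 : iterRange hσ φ n₂ = iterRange hσ φ m := hn₂ m ((le_max_right _ _).trans hm)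
    rw [← h1, h2]
  have hdisj : ∀ x, x ∈ iterRange hσ φ N → x ∈ iterKer φ N → x = 0 := by
    intro x hx hx'
    obtain ⟨y, rfl⟩ := hx
    have h1 : (⇑φ)^[N + N] y = 0 := by
      rw [Function.iterate_add_apply]
      exact hx'
    have h2 : y ∈ iterKer φ (N + N) := h1
    rw [← hK (N + N) (Nat.le_add_right N N)] at h2
    exact h2
  refine ⟨iterRange hσ φ N, iterKer φ N, ⟨?_, ?_⟩, ?_, ?_, ⟨?_, ?_, ?_⟩, N, fun x hx => hx⟩
  · rw [Submodule.disjoint_def]
    exact hdisj
  · rw [codisjoint_iff, eq_top_iff]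
    intro x _
    have h1 : (⇑φ)^[N] x ∈ iterRange hσ φ N := ⟨x, rfl⟩
    rw [hI (N + N) (Nat.le_add_right N N)] at h1
    obtain ⟨y, hy⟩ := h1
    rw [Function.iterate_add_apply] at hy
    have h2 : x - (⇑φ)^[N] y ∈ iterKer φ N := by
      show (⇑φ)^[N] (x - (⇑φ)^[N] y) = 0
      rw [iterate_sub, hy, sub_self]
    have h3 : x = (⇑φ)^[N] y + (x - (⇑φ)^[N] y) := by abel
    rw [h3]
    exact Submodule.add_mem_sup ⟨y, rfl⟩ h2
  · rintro _ ⟨y, rfl⟩
    exact ⟨φ y, (Function.iterate_succ_apply (⇑φ) N y).trans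
      (Function.iterate_succ_apply' (⇑φ) N y)⟩
  · intro x hx
    show (⇑φ)^[N] (φ x) = 0
    rw [← Function.iterate_succ_apply, Function.iterate_succ_apply', (mem_iterKer φ N x).mp hx,
      map_zero]
  · rintro _ ⟨y, rfl⟩
    exact ⟨φ y, (Function.iterate_succ_apply (⇑φ) N y).trans
      (Function.iterate_succ_apply' (⇑φ) N y)⟩
  · intro x hx x' hx' hxx'
    have hd : x - x' ∈ iterRange hσ φ N := Submodule.sub_mem _ hx hx'
    have hd1 : x - x' ∈ iterKer φ 1 := by
      show (⇑φ)^[1] (x - x') = 0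
      rw [Function.iterate_one, map_sub, hxx', sub_self]
    have hd2 : x - x' ∈ iterKer φ N := by
      have : iterKer φ 1 ≤ iterKer φ (max 1 N) := iterKer_mono φ (le_max_left _ _)
      rw [hK (max 1 N) (le_max_right _ _)]
      exact this hd1
    exact sub_eq_zero.mp (hdisj _ hd hd2)
  · intro x hx
    have hx' : x ∈ iterRange hσ φ N := hx
    rw [hI (N + 1) (Nat.le_succ N)] at hx'
    obtain ⟨y, rfl⟩ := hx'
    exact ⟨(⇑φ)^[N] y, ⟨y, rfl⟩, (Function.iterate_succ_apply' (⇑φ) N y).symm⟩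

end General

section Artinian

variable {R : Type u} [CommRing R] [IsDomain R] [IsNoetherianRing R] [Ring.KrullDimLE 1 R]
  {M : Type v} [AddCommGroup M] [Module R M]

/-- A finitely generated torsion module over a noetherian domain of dimension at most one is
artinian. -/
theorem isArtinian_of_isTorsion [Module.Finite R M] (hM : Module.IsTorsion R M) :
    IsArtinian R M := by
  classical
  obtain ⟨d, s, hs⟩ := Module.Finite.exists_fin (R := R) (M := M)
  choose a ha using fun i => @hM (s i)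
  set A : R := ∏ i, (a i : R) with hA
  have hAnz : A ∈ nonZeroDivisors R := by
    rw [hA]
    exact Submonoid.prod_mem _ fun i _ => (a i).2
  have hAs : ∀ i, A • s i = 0 := by
    intro i
    rw [hA, ← Finset.mul_prod_erase Finset.univ (fun i => (a i : R)) (Finset.mem_univ i),
      mul_comm, mul_smul]
    have : (a i : R) • s i = 0 := ha i
    rw [this, smul_zero]
  haveI : IsArtinian R (R ⧸ Ideal.span {A}) :=
    ((isFiniteLength_iff_isNoetherian_isArtinian).mp
      (isFiniteLength_quotient_span_singleton (R := R) (x := A) hAnz)).2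
  let g : Fin d → (R ⧸ Ideal.span {A}) →ₗ[R] M := fun i =>
    Submodule.liftQ (Ideal.span {A}) (LinearMap.toSpanSingleton R M (s i)) (by
      rw [Ideal.span_le]
      rintro _ rfl
      show LinearMap.toSpanSingleton R M (s i) A = 0
      rw [LinearMap.toSpanSingleton_apply, hAs])
  let f : (Fin d → R ⧸ Ideal.span {A}) →ₗ[R] M := ∑ i, (g i).comp (LinearMap.proj i)
  refine isArtinian_of_surjective _ f ?_
  intro m
  have hm : m ∈ Submodule.span R (Set.range s) := by rw [hs]; trivial
  obtain ⟨c, rfl⟩ := (Submodule.mem_span_range_iff_exists_fun R).mp hm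
  refine ⟨fun i => Ideal.Quotient.mk _ (c i), ?_⟩
  show (∑ i, (g i).comp (LinearMap.proj i)) (fun i => Ideal.Quotient.mk _ (c i)) = _
  rw [LinearMap.sum_apply]
  refine Finset.sum_congr rfl fun i _ => ?_
  show g i (Ideal.Quotient.mk _ (c i)) = c i • s i
  exact (LinearMap.toSpanSingleton_apply R M (s i) (c i))

end Artinian

end Groth.Agent.Lib.Helper22.SemiFitting
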