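import Mathlib

set_option autoImplicit false
set_option linter.unusedSectionVars false
universe u
noncomputable section
namespace Groth.Agent.Lib.Helper22.SepGen

open IntermediateField TensorProduct

/-- a field homomorphism preserves linear independence of coordinate vectors -/
theorem linearIndependent_mapRange {k k' : Type*} [Field k] [Field k'] (σ : k →+* k')
    {β ι : Type*} (v : ι → β →₀ k) (hv : LinearIndependent k v) :
    LinearIndependent k' (fun i => (v i).mapRange σ (map_zero σ)) := by
  letI := σ.toAlgebra
  have h1 : LinearIndependent k' (fun i => (1 : k') ⊗ₜ[k] v i) :=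
    Module.Flat.linearIndependent_one_tmul (S := k') hv
  let B := (Finsupp.basisSingleOne (R := k) (ι := β)).baseChange k'
  let f : (k' ⊗[k] (β →₀ k)) →ₗ[k'] (β →₀ k') := B.repr.toLinearMap
  have hf : LinearMap.ker f = ⊥ := LinearEquiv.ker B.repr
  have h2 := h1.map' f hf
  have h3 : (fun i => (v i).mapRange σ (map_zero σ)) =
      (f ∘ fun i => (1 : k') ⊗ₜ[k] v i) := by
    ext i b
    simp only [Function.comp_apply, Finsupp.mapRange_apply, LinearEquiv.coe_coe, B, f,
      Module.Basis.baseChange_repr_tmul, Finsupp.basisSingleOne_repr, LinearEquiv.refl_apply]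
    rw [Algebra.smul_def, mul_one]
    rfl
  rw [h3]
  exact h2

/-- `p`-th powers of elements in the span of a family whose `p`-th powers are independent -/
theorem linearIndependent_pow_of_mem_span {k K : Type*} [Field k] [CommRing K] [Algebra k K]
    (p : ℕ) [hp : Fact p.Prime] [CharP k p] [CharP K p]
    {B ι : Type*} (u : B → K) (hu : LinearIndependent k (fun β => u β ^ p))
    (a : ι → K) (ha : LinearIndependent k a)
    (hmem : ∀ i, a i ∈ Submodule.span k (Set.range u)) :
    LinearIndependent k (fun i => a i ^ p) := by
  classical
  have hex : ∀ i, ∃ c : B →₀ k, Finsupp.linearCombination k u c = a i := by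
    intro i
    obtain ⟨c, hc⟩ := Finsupp.mem_span_range_iff_exists_finsupp.mp (hmem i)
    exact ⟨c, by rw [Finsupp.linearCombination_apply]; exact hc⟩
  choose c hc using hex
  have hcli : LinearIndependent k c := by
    apply LinearIndependent.of_comp (Finsupp.linearCombination k u)
    have : (Finsupp.linearCombination k u) ∘ c = a := funext hc
    rw [this]
    exact ha
  have h1 := linearIndependent_mapRange (frobenius k p) c hcli
  have h2 := h1.map' (Finsupp.linearCombination k (fun β => u β ^ p))
    (LinearMap.ker_eq_bot.mpr hu)
  have h3 : (fun i => a i ^ p) = ((Finsupp.linearCombination k (fun β => u β ^ p)) ∘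
      fun i => (c i).mapRange (frobenius k p) (map_zero _)) := by
    ext i
    simp only [Function.comp_apply]
    rw [← hc i, Finsupp.linearCombination_apply, Finsupp.linearCombination_apply,
      Finsupp.sum_mapRange_index (by intro b; rw [zero_smul]), Finsupp.sum, Finsupp.sum,
      sum_pow_char]
    refine Finset.sum_congr rfl ?_
    intro β _
    rw [smul_pow, frobenius_def]
  rw [h3]
  exact h2

/-- MacLane's criterion (necessity): in a separably generated extension `K/k` of
characteristic `p`, `p`-th powers of `k`-linearly independent elements are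
`k`-linearly independent. -/
theorem linearIndependent_pow_of_sepGen {k K : Type*} [Field k] [Field K] [Algebra k K]
    (p : ℕ) [hp : Fact p.Prime] [CharP k p]
    {ι : Type*} (x : ι → K) (hx : AlgebraicIndependent k x)
    [hsep : Algebra.IsSeparable (IntermediateField.adjoin k (Set.range x)) K]
    {ι' : Type*} (a : ι' → K) (ha : LinearIndependent k a) :
    LinearIndependent k (fun i => a i ^ p) := by
  classical
  haveI : CharP K p := charP_of_injective_algebraMap (algebraMap k K).injective p
  let φ : MvPolynomial ι k →ₐ[k] K := MvPolynomial.aeval x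
  have hφ : Function.Injective φ := hx
  let xL : ι → IntermediateField.adjoin k (Set.range x) :=
    fun i => ⟨x i, IntermediateField.subset_adjoin k _ ⟨i, rfl⟩⟩
  let φL : MvPolynomial ι k →ₐ[k] IntermediateField.adjoin k (Set.range x) :=
    MvPolynomial.aeval xL
  have hφL : ∀ P, ((φL P : IntermediateField.adjoin k (Set.range x)) : K) = φ P := by
    intro P
    have : ((IntermediateField.adjoin k (Set.range x)).val).comp φL = φ := by
      apply MvPolynomial.algHom_ext
      intro i
      simp [φL, φ, xL]
    exact DFunLike.congr_fun this P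
  have hφLinj : Function.Injective φL := by
    intro P Q h
    apply hφ
    rw [← hφL, ← hφL, h]
  let e := Module.Basis.ofVectorSpace (IntermediateField.adjoin k (Set.range x)) K
  let u : (ι →₀ ℕ) × (Module.Basis.ofVectorSpaceIndex (IntermediateField.adjoin k (Set.range x)) K)
      → K := fun q => φ (MvPolynomial.monomial q.1 1) * e q.2
  -- (u^p) lin indep
  have hup : LinearIndependent k (fun q => u q ^ p) := by
    have hb : LinearIndependent k
        (fun α : ι →₀ ℕ => φL (MvPolynomial.monomial (p • α) 1)) := by
      have h0 : LinearIndependent k (fun β : ι →₀ ℕ => (MvPolynomial.monomial β (1:k))) := by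
        have := (MvPolynomial.basisMonomials ι k).linearIndependent
        rwa [MvPolynomial.coe_basisMonomials] at this
      have h1 := h0.comp (fun α : ι →₀ ℕ => p • α) (by
        intro α β h
        ext i
        have := DFunLike.congr_fun h i
        simpa [hp.out.ne_zero] using this)
      exact h1.map' φL.toLinearMap (LinearMap.ker_eq_bot.mpr hφLinj)
    have hc : LinearIndependent (IntermediateField.adjoin k (Set.range x))
        (fun j => e j ^ p) := by
      have := e.linearIndependent.map_pow_expChar_pow_of_isSeparable p 1
      simpa using this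
    have h2 := linearIndependent_smul hb hc
    have h3 : (fun q => u q ^ p) = fun q : (ι →₀ ℕ) × _ =>
        φL (MvPolynomial.monomial (p • q.1) 1) • (e q.2 ^ p) := by
      ext q
      simp only [u]
      rw [mul_pow, ← map_pow, MvPolynomial.monomial_pow, one_pow, IntermediateField.smul_def,
        hφL, smul_eq_mul]
    rw [h3]
    exact h2
  -- the span W
  have W1 : ∀ (P : MvPolynomial ι k) j, φ P * e j ∈ Submodule.span k (Set.range u) := by
    intro P j
    induction P using MvPolynomial.induction_on' with
    | monomial α c =>
      have : φ (MvPolynomial.monomial α c) * e j = c • u (α, j) := by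
        have hm : MvPolynomial.monomial α c = c • MvPolynomial.monomial α (1 : k) := by
          rw [MvPolynomial.smul_monomial, smul_eq_mul, mul_one]
        simp only [u]
        rw [hm, map_smul, smul_mul_assoc]
      rw [this]
      exact Submodule.smul_mem _ _ (Submodule.subset_span ⟨_, rfl⟩)
    | add P Q hP hQ =>
      rw [map_add, add_mul]
      exact Submodule.add_mem _ hP hQ
  have W2 : ∀ (P : MvPolynomial ι k) w, w ∈ Submodule.span k (Set.range u) →
      φ P * w ∈ Submodule.span k (Set.range u) := by
    intro P w hw
    induction hw using Submodule.span_induction with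
    | mem w hw =>
      obtain ⟨q, rfl⟩ := hw
      simp only [u]
      rw [← mul_assoc, ← map_mul]
      exact W1 _ _
    | zero => rw [mul_zero]; exact Submodule.zero_mem _
    | add w₁ w₂ _ _ h₁ h₂ => rw [mul_add]; exact Submodule.add_mem _ h₁ h₂
    | smul c w _ h => rw [mul_smul_comm]; exact Submodule.smul_mem _ _ h
  have hD : ∀ y : K, ∃ P : MvPolynomial ι k, P ≠ 0 ∧ φ P * y ∈ Submodule.span k (Set.range u) := by
    intro y
    have hy : y ∈ Submodule.span (IntermediateField.adjoin k (Set.range x)) (Set.range e) := by
      rw [e.span_eq]; exact Submodule.mem_top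
    induction hy using Submodule.span_induction with
    | mem w hw =>
      obtain ⟨j, rfl⟩ := hw
      exact ⟨1, one_ne_zero, W1 1 j⟩
    | zero => exact ⟨1, one_ne_zero, by rw [mul_zero]; exact Submodule.zero_mem _⟩
    | add w₁ w₂ _ _ h₁ h₂ =>
      obtain ⟨P₁, hP₁, h₁⟩ := h₁
      obtain ⟨P₂, hP₂, h₂⟩ := h₂
      refine ⟨P₁ * P₂, mul_ne_zero hP₁ hP₂, ?_⟩
      have : φ (P₁ * P₂) * (w₁ + w₂) = φ P₂ * (φ P₁ * w₁) + φ P₁ * (φ P₂ * w₂) := by
        rw [map_mul]; ring
      rw [this]
      exact Submodule.add_mem _ (W2 _ _ h₁) (W2 _ _ h₂)
    | smul l w _ h =>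
      obtain ⟨P, hP, h⟩ := h
      obtain ⟨r, s, hrs⟩ : ∃ r s : MvPolynomial ι k, (l : K) = φ r / φ s :=
        (IntermediateField.mem_adjoin_range_iff k x (l : K)).mp l.2
      by_cases hs : s = 0
      · refine ⟨1, one_ne_zero, ?_⟩
        have hl : (l : K) = 0 := by rw [hrs, hs, map_zero, div_zero]
        rw [IntermediateField.smul_def, hl, zero_smul, mul_zero]
        exact Submodule.zero_mem _
      · refine ⟨s * P, mul_ne_zero hs hP, ?_⟩
        have hs' : φ s ≠ 0 := fun h0 => hs (hφ (by rw [h0, map_zero]))
        have : φ (s * P) * (l • w) = φ r * (φ P * w) := by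
          rw [IntermediateField.smul_def, smul_eq_mul, hrs, map_mul]
          field_simp
        rw [this]
        exact W2 _ _ h
  -- reduce to finite families
  rw [linearIndependent_iff_finset_linearIndependent] at ha ⊢
  intro t
  have hat := ha t
  choose P hP0 hPW using hD
  set g : K := φ (∏ i ∈ t, P (a i)) with hg
  have hg0 : g ≠ 0 := by
    intro h0
    have : (∏ i ∈ t, P (a i)) = 0 := hφ (by rw [← hg, h0, map_zero])
    rw [Finset.prod_eq_zero_iff] at this
    obtain ⟨i, _, hi⟩ := this
    exact hP0 _ hi
  have hga : ∀ i : t, g * a i ∈ Submodule.span k (Set.range u) := by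
    intro i
    have : g * a i = φ (∏ i' ∈ t.erase i.1, P (a i')) * (φ (P (a i)) * a i) := by
      rw [hg, ← Finset.prod_erase_mul t _ i.2, map_mul, mul_assoc]
    rw [this]
    exact W2 _ _ (hPW _)
  have h1 : LinearIndependent k (fun i : t => g * a i) :=
    hat.map' (LinearMap.mulLeft k g) (LinearMap.ker_eq_bot.mpr (mul_right_injective₀ hg0))
  have h2 := linearIndependent_pow_of_mem_span p u hup (fun i : t => g * a i) h1 hga
  apply LinearIndependent.of_comp (LinearMap.mulLeft k (g ^ p))
  have h3 : (LinearMap.mulLeft k (g ^ p)) ∘ ((fun i => a i ^ p) ∘ (Subtype.val : t → ι')) =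
      fun i : t => (g * a i) ^ p := by
    ext i
    simp [mul_pow]
  rw [h3]
  exact h2

end Groth.Agent.Lib.Helper22.SepGen
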