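import Groth.Agent.Lib.Helper22.NagataCrit
import Groth.Agent.Lib.Helper22.J0Ascent

set_option autoImplicit false
set_option linter.style.haveILetI false
universe u
open TensorProduct

namespace Groth.Agent.Lib.Helper22.SmK

/-- the prime subfield in characteristic `p` is perfect -/
theorem perfectField_bot (K : Type u) [Field K] (p : ℕ) [Fact p.Prime] [CharP K p] :
    PerfectField (⊥ : Subfield K) := by
  haveI : CharP (⊥ : Subfield K) p := Subfield.charP _ p
  have hfix' : ∀ x ∈ Subfield.closure (∅ : Set K), x ^ p = x := by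
    intro x hx'
    induction hx' using Subfield.closure_induction with
    | mem y hy => exact absurd hy (Set.notMem_empty y)
    | one => exact one_pow p
    | add y z _ _ hy hz => rw [add_pow_char, hy, hz]
    | neg y _ hy =>
      rw [neg_pow, hy]
      rcases Nat.Prime.eq_two_or_odd (Fact.out : p.Prime) with h2 | hodd
      · subst h2
        haveI : CharP K 2 := ‹_›
        rw [neg_one_sq, one_mul, CharTwo.neg_eq]
      · rw [Odd.neg_one_pow (Nat.odd_iff.mpr hodd), neg_one_mul]
    | inv y _ hy => rw [inv_pow, hy]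
    | mul y z _ _ hy hz => rw [mul_pow, hy, hz]
  have hfix : ∀ x : (⊥ : Subfield K), x ^ p = x := by
    rintro ⟨x, hx⟩
    apply Subtype.ext
    change x ^ p = x
    exact hfix' x (by rwa [Subfield.closure_empty])
  haveI : PerfectRing (⊥ : Subfield K) p := by
    apply PerfectRing.ofSurjective
    intro x
    exact ⟨x, by rw [frobenius_def, hfix]⟩
  exact PerfectRing.toPerfectField _ p

/-- S14732 -/
theorem exists_smooth_subalgebra (K : Type u) [Field K] (p : ℕ) [Fact p.Prime] [CharP K p]
    (s : Finset K) (hs : Subfield.closure (↑s : Set K) = ⊤) :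
    ∃ A : Subalgebra (⊥ : Subfield K) K, Algebra.FiniteType (⊥ : Subfield K) A ∧
      Algebra.Smooth (⊥ : Subfield K) A ∧ IsFractionRing A K := by
  haveI := perfectField_bot K p
  -- the finite type subalgebra generated by `s`
  obtain ⟨A₀, hA₀, hsA₀⟩ : ∃ A₀ : Subalgebra (⊥ : Subfield K) K,
      A₀ = Algebra.adjoin (⊥ : Subfield K) (↑s : Set K) ∧ (↑s : Set K) ⊆ A₀ :=
    ⟨_, rfl, Algebra.subset_adjoin⟩
  haveI hft : Algebra.FiniteType (⊥ : Subfield K) A₀ := by
    rw [hA₀]
    exact (Subalgebra.fg_iff_finiteType _).mp (Subalgebra.fg_adjoin_finset s)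
  have hfrac₀ : ∀ z : K, ∃ x y : A₀, z = algebraMap A₀ K x / algebraMap A₀ K y := by
    intro z
    have hz : z ∈ Subfield.closure (↑s : Set K) := by rw [hs]; trivial
    obtain ⟨y, hy, w, hw, hyw⟩ := Subfield.mem_closure_iff.mp hz
    have hle : Subring.closure (↑s : Set K) ≤ A₀.toSubring := Subring.closure_le.mpr hsA₀
    exact ⟨⟨y, hle hy⟩, ⟨w, hle hw⟩, hyw.symm⟩
  haveI : IsFractionRing A₀ K := IsFractionRing.of_field A₀ K hfrac₀
  haveI : Algebra.EssFiniteType A₀ K := Algebra.EssFiniteType.of_isLocalization _ (nonZeroDivisors A₀)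
  haveI : Algebra.EssFiniteType (⊥ : Subfield K) K := Algebra.EssFiniteType.comp _ A₀ K
  have hsm : Algebra.FormallySmooth (⊥ : Subfield K) K := Algebra.FormallySmooth.of_perfectField
  haveI : IsNoetherianRing A₀ := Algebra.FiniteType.isNoetherianRing (⊥ : Subfield K) A₀
  haveI : Algebra.FinitePresentation (⊥ : Subfield K) A₀ :=
    Algebra.FinitePresentation.of_finiteType.mp inferInstance
  have hη : (⟨⊥, Ideal.isPrime_bot⟩ : PrimeSpectrum A₀) ∈
      Algebra.smoothLocus (⊥ : Subfield K) A₀ := by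
    change Algebra.FormallySmooth (⊥ : Subfield K) (Localization.AtPrime (⊥ : Ideal A₀))
    haveI : IsLocalization (nonZeroDivisors A₀) (Localization.AtPrime (⊥ : Ideal A₀)) :=
      Groth.Agent.Lib.Helper22.J0.isLocalization_congr Ideal.primeCompl_bot
        (Localization.AtPrime (⊥ : Ideal A₀))
    let e : K ≃ₐ[A₀] Localization.AtPrime (⊥ : Ideal A₀) :=
      IsLocalization.algEquiv (nonZeroDivisors A₀) _ _
    exact (Algebra.FormallySmooth.iff_of_equiv (e.restrictScalars (⊥ : Subfield K))).mp hsm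
  obtain ⟨g, hg, hgsm⟩ := Groth.Agent.Lib.Helper22.NagataCrit.exists_basicOpen_subset A₀
    (Algebra.smoothLocus (⊥ : Subfield K) A₀) Algebra.isOpen_smoothLocus ⟨_, hη⟩
  haveI hBsm : Algebra.Smooth (⊥ : Subfield K) (Localization.Away g) := by
    rw [← Algebra.basicOpen_subset_smoothLocus_iff_smooth]
    exact fun q hq => hgsm q hq
  -- embed `A₀[1/g]` into `K`
  have hunit : ∀ y : Submonoid.powers g, IsUnit (A₀.val (y : A₀)) := by
    rintro ⟨_, n, rfl⟩
    rw [map_pow]
    apply IsUnit.pow
    apply IsUnit.mk0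
    exact fun h => hg (Subtype.ext h)
  obtain ⟨φ, hφ⟩ : ∃ φ : Localization.Away g →ₐ[(⊥ : Subfield K)] K,
      ∀ a : A₀, φ (algebraMap A₀ (Localization.Away g) a) = (a : K) :=
    ⟨IsLocalization.liftAlgHom (M := Submonoid.powers g) (f := A₀.val) hunit, fun a => by
      rw [IsLocalization.liftAlgHom_apply, IsLocalization.lift_eq]
      rfl⟩
  haveI : IsDomain (Localization.Away g) := IsLocalization.isDomain_of_le_nonZeroDivisors _
    (powers_le_nonZeroDivisors_of_noZeroDivisors hg)
  have hφinj : Function.Injective φ := by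
    rw [injective_iff_map_eq_zero]
    intro x hx
    obtain ⟨⟨a, ⟨_, n, rfl⟩⟩, hax⟩ := IsLocalization.surj (Submonoid.powers g) x
    have h1 : φ (x * algebraMap A₀ (Localization.Away g) (g ^ n)) = 0 := by
      rw [map_mul, hx, zero_mul]
    rw [hax, hφ] at h1
    have ha0 : a = 0 := Subtype.ext h1
    rw [ha0, map_zero] at hax
    have hgn : algebraMap A₀ (Localization.Away g) (g ^ n) ≠ 0 := by
      rw [Ne, map_eq_zero_iff _ (IsLocalization.injective _
        (powers_le_nonZeroDivisors_of_noZeroDivisors hg))]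
      exact pow_ne_zero n hg
    exact (mul_eq_zero.mp hax).resolve_right hgn
  let e : Localization.Away g ≃ₐ[(⊥ : Subfield K)] φ.range := AlgEquiv.ofInjective φ hφinj
  refine ⟨φ.range, ?_, ?_, ?_⟩
  · haveI := hBsm.2
    haveI : Algebra.FiniteType (⊥ : Subfield K) (Localization.Away g) := inferInstance
    exact Algebra.FiniteType.of_surjective e.toAlgHom e.surjective
  · exact Algebra.Smooth.of_equiv e
  · apply IsFractionRing.of_field φ.range K
    intro z
    obtain ⟨x, y, hxy⟩ := hfrac₀ z
    exact ⟨⟨(x : K), ⟨algebraMap A₀ _ x, hφ x⟩⟩, ⟨(y : K), ⟨algebraMap A₀ _ y, hφ y⟩⟩, hxy⟩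

end Groth.Agent.Lib.Helper22.SmK
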