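import Mathlib
import Groth.Agent.Lib.Helper17.SmoothNormal
import Groth.Agent.Lib.Helper12.EtaleReduced

/-!
# Local rings of smooth algebras: reducedness and normality ascend and descend
-/

set_option autoImplicit false
set_option linter.style.haveILetI false
set_option linter.unusedSectionVars false

namespace Groth.Agent.Lib.Helper22.SmoothStalk

open TensorProduct IsLocalRing

universe u

/-- Transfer of an iso-invariant property of local rings from a localization. -/
theorem transferP (P : ∀ (X : Type u) [CommRing X], Prop)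
    (hP : ∀ (X Y : Type u) [CommRing X] [CommRing Y], (X ≃+* Y) → P X → P Y)
    {B : Type u} [CommRing B] (M : Submonoid B) (S : Type u) [CommRing S] [Algebra B S]
    [IsLocalization M S] (q : Ideal B) [q.IsPrime] (hq : Disjoint (M : Set B) (q : Set B))
    (h : ∀ (q' : Ideal S) [q'.IsPrime], P (Localization.AtPrime q')) :
    P (Localization.AtPrime q) := by
  haveI hq' : (q.map (algebraMap B S)).IsPrime :=
    IsLocalization.isPrime_of_isPrime_disjoint M _ _ ‹_› hq
  have hcomap : (q.map (algebraMap B S)).comap (algebraMap B S) = q :=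
    IsLocalization.comap_map_of_isPrime_disjoint M _ ‹_› hq
  have h1 := h (q.map (algebraMap B S))
  haveI : IsLocalization.AtPrime (Localization.AtPrime (q.map (algebraMap B S)))
      ((q.map (algebraMap B S)).comap (algebraMap B S)) :=
    IsLocalization.isLocalization_isLocalization_atPrime_isLocalization M _ _
  haveI : IsLocalization.AtPrime (Localization.AtPrime (q.map (algebraMap B S))) q := by
    convert this
    exact hcomap.symm
  let e : Localization.AtPrime q ≃ₐ[B] Localization.AtPrime (q.map (algebraMap B S)) :=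
    IsLocalization.algEquiv q.primeCompl _ _
  exact hP _ _ e.symm.toRingEquiv h1

/-- The local rings of a smooth algebra over a reduced ring are reduced. -/
theorem isReduced_atPrime_of_smooth (R : Type u) [CommRing R] [IsReduced R]
    {T : Type u} [CommRing T] [Algebra R T] [Algebra.Smooth R T] (Q : Ideal T) [Q.IsPrime] :
    IsReduced (Localization.AtPrime Q) := by
  obtain ⟨f, hfq, n, _, _, _⟩ :=
    Algebra.IsSmoothAt.exists_isStandardEtale_mvPolynomial (R := R) (p := Q)
  refine transferP (fun X _ => IsReduced X) ?_ (Submonoid.powers f) (Localization.Away f) Q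
    ((Ideal.disjoint_powers_iff_notMem_of_isPrime _).mpr hfq) ?_
  · intro X Y _ _ e h
    exact isReduced_of_injective e.symm e.symm.injective
  · intro q' _
    haveI : IsReduced (Localization.Away f) :=
      Groth.Agent.Lib.Helper12.isReduced_of_etale (MvPolynomial (Fin n) R) _
    infer_instance

/-- Core: for `T` smooth over a local ring `R` and `Q` a prime over the maximal ideal. -/
theorem core (R T : Type u) [CommRing R] [IsLocalRing R] [CommRing T] [Algebra R T]
    [Algebra.Smooth R T] (Q : Ideal T) [Q.IsPrime]
    (hQ : Q.comap (algebraMap R T) = maximalIdeal R) :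
    (IsReduced (Localization.AtPrime Q) ↔ IsReduced R) ∧
    ((IsDomain (Localization.AtPrime Q) ∧ IsIntegrallyClosed (Localization.AtPrime Q)) ↔
      (IsDomain R ∧ IsIntegrallyClosed R)) := by
  haveI : Module.Flat R T := inferInstance
  haveI : Module.Flat T (Localization.AtPrime Q) :=
    IsLocalization.flat (Localization.AtPrime Q) Q.primeCompl
  haveI : Module.Flat R (Localization.AtPrime Q) := Module.Flat.trans R T (Localization.AtPrime Q)
  haveI : IsLocalHom (algebraMap R (Localization.AtPrime Q)) := by
    constructor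
    intro a ha
    rw [IsScalarTower.algebraMap_apply R T (Localization.AtPrime Q)] at ha
    have h1 := (IsLocalization.AtPrime.isUnit_to_map_iff (Localization.AtPrime Q) Q _).mp ha
    by_contra hna
    have h2 : a ∈ maximalIdeal R := hna
    rw [← hQ] at h2
    exact h1 h2
  haveI : Module.FaithfullyFlat R (Localization.AtPrime Q) :=
    Module.FaithfullyFlat.of_flat_of_isLocalHom
  have hinj : Function.Injective (algebraMap R (Localization.AtPrime Q)) :=
    FaithfulSMul.algebraMap_injective R _
  refine ⟨⟨fun h => isReduced_of_injective _ hinj, fun h => isReduced_atPrime_of_smooth R Q⟩,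
    ⟨fun h => ?_, fun h => ?_⟩⟩
  · obtain ⟨h1, h2⟩ := h
    exact Groth.Agent.Lib.Helper17.SmoothNormal.isDomain_and_isIntegrallyClosed_of_faithfullyFlat
      R (Localization.AtPrime Q)
  · obtain ⟨h1, h2⟩ := h
    exact Groth.Agent.Lib.Helper17.SmoothNormal.isDomain_and_isIntegrallyClosed_atPrime_of_smooth
      R Q

/-- Localization form. -/
theorem main_alg {A C : Type u} [CommRing A] [CommRing C] [Algebra A C] [Algebra.Smooth A C]
    (p : Ideal A) [p.IsPrime]
    (R : Type u) [CommRing R] [Algebra A R] [IsLocalization.AtPrime R p]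
    (Q : Ideal C) [Q.IsPrime] (hQ : Q.comap (algebraMap A C) = p)
    (S : Type u) [CommRing S] [Algebra C S] [IsLocalization.AtPrime S Q] :
    (IsReduced S ↔ IsReduced R) ∧
    ((IsDomain S ∧ IsIntegrallyClosed S) ↔ (IsDomain R ∧ IsIntegrallyClosed R)) := by
  haveI : IsLocalRing R := IsLocalization.AtPrime.isLocalRing R p
  letI algC : Algebra C (R ⊗[A] C) := Algebra.TensorProduct.rightAlgebra
  haveI : IsLocalization (Algebra.algebraMapSubmonoid C p.primeCompl) (R ⊗[A] C) :=
    IsLocalization.tensorRight (S := C) (A := R) p.primeCompl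
  have hdisj : Disjoint (Algebra.algebraMapSubmonoid C p.primeCompl : Set C) (Q : Set C) := by
    rw [Set.disjoint_left]
    rintro _ ⟨a, ha, rfl⟩ haQ
    apply ha
    rw [← hQ]
    exact haQ
  haveI hQp : (Q.map (algebraMap C (R ⊗[A] C))).IsPrime :=
    IsLocalization.isPrime_of_isPrime_disjoint _ _ Q ‹_› hdisj
  have hcomap : (Q.map (algebraMap C (R ⊗[A] C))).comap (algebraMap C _) = Q :=
    IsLocalization.comap_map_of_isPrime_disjoint _ _ ‹_› hdisj
  have hover : (Q.map (algebraMap C (R ⊗[A] C))).comap
      (algebraMap R _) = maximalIdeal R := by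
    have h1 : ((Q.map (algebraMap C (R ⊗[A] C))).comap (algebraMap R _)).under A = p := by
      rw [Ideal.under_def, Ideal.comap_comap, ← IsScalarTower.algebraMap_eq,
        IsScalarTower.algebraMap_eq A C (R ⊗[A] C), ← Ideal.comap_comap, hcomap, hQ]
    rw [← IsLocalization.map_comap p.primeCompl R
      ((Q.map (algebraMap C (R ⊗[A] C))).comap (algebraMap R _)), h1,
      IsLocalization.AtPrime.map_eq_maximalIdeal p R]
  have hcore := core R (R ⊗[A] C) (Q.map (algebraMap C (R ⊗[A] C))) hover
  haveI hloc : IsLocalization.AtPrime (Localization.AtPrime (Q.map (algebraMap C (R ⊗[A] C))))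
      ((Q.map (algebraMap C (R ⊗[A] C))).comap (algebraMap C _)) :=
    IsLocalization.isLocalization_isLocalization_atPrime_isLocalization
      (Algebra.algebraMapSubmonoid C p.primeCompl) _ _
  have heq : ((Q.map (algebraMap C (R ⊗[A] C))).comap
      (algebraMap C _)).primeCompl = Q.primeCompl := by
    ext x
    show x ∉ _ ↔ x ∉ _
    rw [hcomap]
  rw [IsLocalization.AtPrime, heq] at hloc
  let e : S ≃+* Localization.AtPrime (Q.map (algebraMap C (R ⊗[A] C))) :=
    (IsLocalization.algEquiv Q.primeCompl S
      (Localization.AtPrime (Q.map (algebraMap C (R ⊗[A] C))))).toRingEquiv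
  have hred : IsReduced S ↔ IsReduced (Localization.AtPrime (Q.map (algebraMap C (R ⊗[A] C)))) :=
    ⟨fun h => isReduced_of_injective e.symm e.symm.injective,
      fun h => isReduced_of_injective e e.injective⟩
  have hnor : (IsDomain S ∧ IsIntegrallyClosed S) ↔
      (IsDomain (Localization.AtPrime (Q.map (algebraMap C (R ⊗[A] C)))) ∧
        IsIntegrallyClosed (Localization.AtPrime (Q.map (algebraMap C (R ⊗[A] C))))) := by
    constructor
    · rintro ⟨h1, h2⟩
      exact ⟨e.symm.toMulEquiv.isDomain _, IsIntegrallyClosed.of_equiv e⟩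
    · rintro ⟨h1, h2⟩
      exact ⟨e.toMulEquiv.isDomain _, IsIntegrallyClosed.of_equiv e.symm⟩
  exact ⟨hred.trans hcore.1, hnor.trans hcore.2⟩

end Groth.Agent.Lib.Helper22.SmoothStalk
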