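import Mathlib
import Groth.Agent.Lib.Helper22.HenselNilExt

/-!
# The pullback ring `B ×_{B/I} S` for a square-zero ideal `I`

Given an `R`-algebra map `g : S →ₐ[R] B ⧸ I` the pullback `Pb I g = {(b, s) | mk b = g s}` is an
`R`-subalgebra of `B × S` which surjects onto `S` with kernel `I × 0`.  If `I ^ 2 = ⊥` the kernel is
nil, so `Pb I g` is henselian local whenever `S` is.
Sections of `Pb I g → S` correspond to lifts of `g` to `B`.
-/

set_option autoImplicit false
universe u
open IsLocalRing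

namespace Groth.Agent.Lib.Helper22.SqZeroPullback

variable {R S B : Type u} [CommRing R] [CommRing S] [CommRing B] [Algebra R S] [Algebra R B]
variable (I : Ideal B) (g : S →ₐ[R] B ⧸ I)

/-- The pullback ring `B ×_{B/I} S`. -/
def Pb : Subalgebra R (B × S) :=
  AlgHom.equalizer ((Ideal.Quotient.mkₐ R I).comp (AlgHom.fst R B S)) (g.comp (AlgHom.snd R B S))

/-- First projection. -/
def pbFst : Pb I g →ₐ[R] B := (AlgHom.fst R B S).comp (Pb I g).val

/-- Second projection. -/
def pbSnd : Pb I g →ₐ[R] S := (AlgHom.snd R B S).comp (Pb I g).val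

theorem mk_pbFst (x : Pb I g) : Ideal.Quotient.mk I (pbFst I g x) = g (pbSnd I g x) :=
  x.2

theorem pbSnd_surjective : Function.Surjective (pbSnd I g) := by
  intro s
  obtain ⟨b, hb⟩ := Ideal.Quotient.mk_surjective (g s)
  exact ⟨⟨(b, s), hb⟩, rfl⟩

theorem ker_nil (hI : I ^ 2 = ⊥) (x : Pb I g) (hx : pbSnd I g x = 0) : IsNilpotent x := by
  refine ⟨2, ?_⟩
  have h1 : pbFst I g x ∈ I := by
    rw [← Ideal.Quotient.eq_zero_iff_mem, mk_pbFst, hx, map_zero]
  have h2 : pbFst I g x ^ 2 = 0 := by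
    have : pbFst I g x ^ 2 ∈ I ^ 2 := Ideal.pow_mem_pow h1 2
    rwa [hI] at this
  apply Subtype.ext
  apply Prod.ext
  · show ((x ^ 2 : Pb I g) : B × S).1 = 0
    have : ((x ^ 2 : Pb I g) : B × S).1 = pbFst I g x ^ 2 := rfl
    rw [this, h2]
  · show ((x ^ 2 : Pb I g) : B × S).2 = 0
    have : ((x ^ 2 : Pb I g) : B × S).2 = pbSnd I g x ^ 2 := rfl
    rw [this, hx]; simp

/-- A lift of `g` gives a section of the pullback. -/
def pbLift (g' : S →ₐ[R] B) (h : (Ideal.Quotient.mkₐ R I).comp g' = g) : S →ₐ[R] Pb I g :=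
  AlgHom.codRestrict (AlgHom.prod g' (AlgHom.id R S)) (Pb I g) (fun s => by
    show Ideal.Quotient.mk I (g' s) = g s
    rw [← h]; rfl)

@[simp] theorem pbFst_pbLift (g' : S →ₐ[R] B) (h : (Ideal.Quotient.mkₐ R I).comp g' = g) (s : S) :
    pbFst I g (pbLift I g g' h s) = g' s := rfl

@[simp] theorem pbSnd_pbLift (g' : S →ₐ[R] B) (h : (Ideal.Quotient.mkₐ R I).comp g' = g) (s : S) :
    pbSnd I g (pbLift I g g' h s) = s := rfl

theorem henselian [HenselianLocalRing S] (hI : I ^ 2 = ⊥) : HenselianLocalRing (Pb I g) :=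
  HenselNilExt.henselianLocalRing_of_surjective_of_ker_nil (pbSnd I g).toRingHom
    (pbSnd_surjective I g) (ker_nil I g hI)

theorem isLocalHom_pbSnd (hI : I ^ 2 = ⊥) : IsLocalHom (pbSnd I g).toRingHom :=
  HenselNilExt.isLocalHom_of_surjective_of_ker_nil (pbSnd I g).toRingHom
    (pbSnd_surjective I g) (ker_nil I g hI)

theorem isLocalHom_algebraMap [IsLocalHom (algebraMap R S)] (hI : I ^ 2 = ⊥) :
    IsLocalHom (algebraMap R (Pb I g)) where
  map_nonunit r hr := by
    have h1 : IsUnit (pbSnd I g (algebraMap R (Pb I g) r)) := hr.map (pbSnd I g)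
    rw [AlgHom.commutes] at h1
    exact IsLocalHom.map_nonunit r h1

end Groth.Agent.Lib.Helper22.SqZeroPullback
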