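import Mathlib.Algebra.Category.ModuleCat.Monoidal.Basic
import Mathlib.Algebra.Category.ModuleCat.Abelian
import Mathlib.Algebra.Category.ModuleCat.Colimits
import Mathlib.CategoryTheory.Linear.LinearFunctor
import Mathlib.CategoryTheory.Limits.Preserves.Finite
import Mathlib.Algebra.Category.ModuleCat.Basic
import Mathlib.LinearAlgebra.TensorProduct.Basic
import Mathlib.LinearAlgebra.FreeModule.Basic
import Mathlib.LinearAlgebra.TensorProduct.RightExactness

set_option autoImplicit false
universe u

open CategoryTheory CategoryTheory.Limits TensorProduct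

namespace Groth.Agent.Lib.Helper22

variable {A : Type u} [CommRing A] (T : ModuleCat.{u} A ⥤ ModuleCat.{u} A) [T.Additive] [T.Linear A]

/-- The map `a ↦ a • x` as a morphism `A ⟶ M`. -/
noncomputable def theta (M : ModuleCat.{u} A) (x : M) : ModuleCat.of A A ⟶ M :=
  ModuleCat.ofHom ((LinearMap.ringLmapEquivSelf A A M).symm x)

@[simp]
lemma theta_apply (M : ModuleCat.{u} A) (x : M) (a : A) : (theta M x).hom a = a • x := by
  simp [theta]

lemma theta_comp {M N : ModuleCat.{u} A} (f : M ⟶ N) (x : M) :
    theta M x ≫ f = theta N (f.hom x) := by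
  ext
  simp [theta]

lemma theta_add (M : ModuleCat.{u} A) (x y : M) : theta M (x + y) = theta M x + theta M y := by
  ext
  simp [theta]

lemma theta_smul (M : ModuleCat.{u} A) (a : A) (x : M) : theta M (a • x) = a • theta M x := by
  ext
  simp [theta]

/-- The comparison map `T(A) ⊗ M → T(M)`. -/
noncomputable def tMap (M : ModuleCat.{u} A) :
    TensorProduct A (T.obj (ModuleCat.of A A)) M →ₗ[A] T.obj M :=
  TensorProduct.lift (LinearMap.flip
    ((ModuleCat.homLinearEquiv (S := A)).toLinearMap ∘ₗ Functor.mapLinearMap A T ∘ₗ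
      (ModuleCat.homLinearEquiv (S := A)).symm.toLinearMap ∘ₗ
        (LinearMap.ringLmapEquivSelf A A M).symm.toLinearMap))

lemma tMap_tmul (M : ModuleCat.{u} A) (y : T.obj (ModuleCat.of A A)) (x : M) :
    tMap T M (y ⊗ₜ x) = (T.map (theta M x)).hom y := rfl

lemma tMap_naturality {M N : ModuleCat.{u} A} (f : M ⟶ N) :
    (T.map f).hom ∘ₗ tMap T M = tMap T N ∘ₗ (LinearMap.lTensor _ f.hom) := by
  apply TensorProduct.ext'
  intro y x
  simp only [LinearMap.comp_apply, tMap_tmul, LinearMap.lTensor_tmul]
  rw [← theta_comp, T.map_comp]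
  rfl

lemma tMap_naturality_apply {M N : ModuleCat.{u} A} (f : M ⟶ N)
    (z : TensorProduct A (T.obj (ModuleCat.of A A)) M) :
    (T.map f).hom (tMap T M z) = tMap T N (LinearMap.lTensor _ f.hom z) :=
  LinearMap.congr_fun (tMap_naturality T f) z

section Free

variable {ι : Type u} {L : ModuleCat.{u} A} (b : Module.Basis ι A L)

/-- The cofan exhibiting a free module as a coproduct of copies of `A`. -/
noncomputable def basisCofan : Cofan (fun _ : ι => ModuleCat.of A A) :=
  Cofan.mk L (fun i => theta L (b i))

/-- The cofan attached to a basis is a colimit. -/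
noncomputable def basisCofanIsColimit : IsColimit (basisCofan b) :=
  mkCofanColimit _
    (fun s => ModuleCat.ofHom (b.constr A (fun i => (s.inj i).hom (1 : A))))
    (fun s i => by
      ext
      change (b.constr A fun i => (s.inj i).hom (1 : A)) ((theta L (b i)).hom 1) = _
      rw [theta_apply, one_smul, Module.Basis.constr_basis])
    (fun s m hm => by
      ext x
      refine b.ext (fun i => ?_) |> fun h => LinearMap.congr_fun h x
      have := congrArg (fun f => f.hom (1 : A)) (hm i)
      change m.hom ((theta L (b i)).hom 1) = _ at this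
      rw [theta_apply, one_smul] at this
      refine this.trans ?_
      exact (Module.Basis.constr_basis b A (fun i => (s.inj i).hom (1 : A)) i).symm)

variable [∀ J : Type u, PreservesColimitsOfShape (Discrete J) T]

/-- the cocone used to define the inverse of `tMap` on a free module -/
noncomputable def invCocone :
    Cocone (Discrete.functor (fun _ : ι => ModuleCat.of A A) ⋙ T) where
  pt := ModuleCat.of A (TensorProduct A (T.obj (ModuleCat.of A A)) L)
  ι := Discrete.natTrans fun i =>
    ModuleCat.ofHom ((TensorProduct.mk A (T.obj (ModuleCat.of A A)) L).flip (b i.as))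

/-- the inverse of `tMap` on a free module -/
noncomputable def tInv : T.obj L ⟶ ModuleCat.of A (TensorProduct A (T.obj (ModuleCat.of A A)) L) :=
  (isColimitOfPreserves T (basisCofanIsColimit b)).desc (invCocone T b)

lemma map_theta_tInv (i : ι) :
    T.map (theta L (b i)) ≫ tInv T b =
      ModuleCat.ofHom ((TensorProduct.mk A (T.obj (ModuleCat.of A A)) L).flip (b i)) :=
  (isColimitOfPreserves T (basisCofanIsColimit b)).fac (invCocone T b) ⟨i⟩

lemma tInv_tMap_basis (i : ι) (y : T.obj (ModuleCat.of A A)) :
    (tInv T b).hom (tMap T L (y ⊗ₜ b i)) = y ⊗ₜ b i := by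
  rw [tMap_tmul]
  have := congrArg (fun f => f.hom y) (map_theta_tInv T b i)
  simpa using this

lemma tInv_tMap (z : TensorProduct A (T.obj (ModuleCat.of A A)) L) :
    (tInv T b).hom (tMap T L z) = z := by
  suffices h : (tInv T b).hom ∘ₗ tMap T L = LinearMap.id from LinearMap.congr_fun h z
  apply TensorProduct.ext
  apply LinearMap.ext
  intro y
  apply b.ext
  intro i
  simpa using tInv_tMap_basis T b i y

lemma tMap_tInv : tInv T b ≫ ModuleCat.ofHom (tMap T L) = 𝟙 _ := by
  apply (isColimitOfPreserves T (basisCofanIsColimit b)).hom_ext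
  rintro ⟨i⟩
  change T.map (theta L (b i)) ≫ (tInv T b ≫ ModuleCat.ofHom (tMap T L)) =
    T.map (theta L (b i)) ≫ 𝟙 _
  rw [← Category.assoc, map_theta_tInv, Category.comp_id]
  ext y
  simp [tMap_tmul]

theorem tMap_bijective_of_basis {ι : Type u} {L : ModuleCat.{u} A} (b : Module.Basis ι A L) :
    Function.Bijective (tMap T L) := by
  refine Function.bijective_iff_has_inverse.mpr ⟨(tInv T b).hom, ?_, ?_⟩
  · intro z
    exact tInv_tMap T b z
  · intro w
    have := congrArg (fun f => f.hom w) (tMap_tInv T b)
    simpa using this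

end Free

theorem tMap_bijective_of_free [∀ J : Type u, PreservesColimitsOfShape (Discrete J) T]
    (L : ModuleCat.{u} A) [Module.Free A L] : Function.Bijective (tMap T L) :=
  tMap_bijective_of_basis T (Module.Free.chooseBasis A L)

end Groth.Agent.Lib.Helper22
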