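import Mathlib
import Groth.Prelude.Def_W4c6katofiltaWFil
import Groth.Agent.Lib.Helper22.WittTeich

/-!
# Filtered pieces of truncated Witt vectors (helper22)

Teichmüller scaling of `WittFil.fil`, and closure of the pieces under subtraction and
multiplication over a normal domain via the trick: embed `B = A[1/π]` in an algebraic closure
`L` of `Frac A`, pick a `p^(m-1)`-th root `γ` of `c`, and observe that `a ∈ fil c` iff all the
coefficients of `[γ] * a` are integral over `A`.
-/

set_option autoImplicit false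
set_option linter.unusedSectionVars false
universe u
noncomputable section
namespace Groth.Agent.Lib.Helper22.WittFilLib

open WittVector Groth.Agent.Lib.Helper22.WittTeich

variable (p : ℕ) [hp : Fact p.Prime]

theorem pow_mul_pow_sub (m : ℕ) (j : Fin m) : p ^ (j : ℕ) * p ^ (m - 1 - (j : ℕ)) = p ^ (m - 1) := by
  rw [← pow_add]
  congr 1
  have := j.2
  omega

/-- Scaling by a Teichmüller representative moves filtered pieces. -/
theorem teich_mul_mem_fil {A B : Type u} [CommRing A] [CommRing B] [Algebra A B] (m : ℕ)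
    (v c c' : B) (h : v ^ (p ^ (m - 1)) * c' = c) (a : TruncatedWittVector p m B)
    (ha : a ∈ WittFil.fil p m (A := A) c) :
    WittVector.truncate m (teichmuller p v) * a ∈ WittFil.fil p m (A := A) c' := by
  intro j
  have h1 := ha j
  rw [coeff_truncate_teichmuller_mul]
  have : (v ^ p ^ (j : ℕ) * TruncatedWittVector.coeff j a) ^ p ^ (m - 1 - (j : ℕ)) * c'
      = TruncatedWittVector.coeff j a ^ p ^ (m - 1 - (j : ℕ)) * c := by
    rw [mul_pow, ← pow_mul, pow_mul_pow_sub, ← h]
    ring
  rw [this]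
  exact h1

theorem S19267 {A B : Type u}
    [CommRing A] [CommRing B] [Algebra A B] (m : ℕ) (u : Bˣ) (n l : ℤ) :
    WittFil.fil p m (A := A) ((u ^ (n - (p : ℤ) ^ (m - 1) * l) : Bˣ) : B) =
      (fun a => WittVector.truncate m (WittVector.teichmuller p ((u ^ l : Bˣ) : B)) * a) ''
        WittFil.fil p m (A := A) ((u ^ n : Bˣ) : B) := by
  have key : ((u ^ l : Bˣ) : B) ^ (p ^ (m - 1)) * ((u ^ (n - (p : ℤ) ^ (m - 1) * l) : Bˣ) : B)
      = ((u ^ n : Bˣ) : B) := by
    rw [← Units.val_pow_eq_pow_val, ← Units.val_mul]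
    congr 1
    rw [← zpow_natCast, ← zpow_mul, ← zpow_add]
    congr 1
    push_cast
    ring
  have key' : ((u ^ (-l) : Bˣ) : B) ^ (p ^ (m - 1)) * ((u ^ n : Bˣ) : B)
      = ((u ^ (n - (p : ℤ) ^ (m - 1) * l) : Bˣ) : B) := by
    rw [← Units.val_pow_eq_pow_val, ← Units.val_mul]
    congr 1
    rw [← zpow_natCast, ← zpow_mul, ← zpow_add]
    congr 1
    push_cast
    ring
  apply Set.eq_of_subset_of_subset
  · intro y hy
    refine ⟨WittVector.truncate m (teichmuller p ((u ^ (-l) : Bˣ) : B)) * y,
      teich_mul_mem_fil p m _ _ _ key' y hy, ?_⟩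
    show WittVector.truncate m (teichmuller p ((u ^ l : Bˣ) : B)) *
      (WittVector.truncate m (teichmuller p ((u ^ (-l) : Bˣ) : B)) * y) = y
    rw [← mul_assoc, ← map_mul, ← map_mul, ← Units.val_mul, ← zpow_add]
    simp
  · rintro _ ⟨a, ha, rfl⟩
    exact teich_mul_mem_fil p m _ _ _ key a ha


section subring

variable {L : Type u} [CommRing L] (S : Subring L)

/-- lift a Witt vector with coefficients in a subring -/
def liftS (X : WittVector p L) (hX : ∀ n, X.coeff n ∈ S) : WittVector p S :=
  WittVector.mk p fun n => ⟨X.coeff n, hX n⟩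

theorem map_liftS (X : WittVector p L) (hX : ∀ n, X.coeff n ∈ S) :
    WittVector.map S.subtype (liftS p S X hX) = X := by
  ext n
  simp [liftS, WittVector.map_coeff]

theorem coeff_map_mem (Z : WittVector p S) (n : ℕ) :
    (WittVector.map S.subtype Z).coeff n ∈ S := by
  rw [WittVector.map_coeff]
  exact (Z.coeff n).2

theorem sub_coeff_mem (X Y : WittVector p L) (hX : ∀ n, X.coeff n ∈ S) (hY : ∀ n, Y.coeff n ∈ S)
    (n : ℕ) : (X - Y).coeff n ∈ S := by
  rw [← map_liftS p S X hX, ← map_liftS p S Y hY, ← map_sub]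
  exact coeff_map_mem p S _ n

theorem mul_coeff_mem (X Y : WittVector p L) (hX : ∀ n, X.coeff n ∈ S) (hY : ∀ n, Y.coeff n ∈ S)
    (n : ℕ) : (X * Y).coeff n ∈ S := by
  rw [← map_liftS p S X hX, ← map_liftS p S Y hY, ← map_mul]
  exact coeff_map_mem p S _ n

theorem add_coeff_mem (X Y : WittVector p L) (hX : ∀ n, X.coeff n ∈ S) (hY : ∀ n, Y.coeff n ∈ S)
    (n : ℕ) : (X + Y).coeff n ∈ S := by
  rw [← map_liftS p S X hX, ← map_liftS p S Y hY, ← map_add]
  exact coeff_map_mem p S _ n

end subring

section abstract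

variable {A B L : Type u} [CommRing A] [CommRing B] [Algebra A B] [Field L] [Algebra A L]
  (ι : B →+* L) (hι : ∀ a, ι (algebraMap A B a) = algebraMap A L a)
  (hN : ∀ z : B, IsIntegral A (ι z) → z ∈ (algebraMap A B).range)

include hι in
theorem G1 (m : ℕ) (c : B) (a : TruncatedWittVector p m B)
    (ha : a ∈ WittFil.fil p m (A := A) c) (γ : L) (hγ : γ ^ (p ^ (m - 1)) = ι c) (n : ℕ) :
    IsIntegral A ((teichmuller p γ * WittVector.map ι (TruncatedWittVector.out a)).coeff n) := by
  rw [coeff_teichmuller_mul, WittVector.map_coeff]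
  by_cases h : n < m
  · have h1 := ha ⟨n, h⟩
    obtain ⟨t, ht⟩ := h1
    have h2 : (TruncatedWittVector.out a).coeff n = TruncatedWittVector.coeff ⟨n, h⟩ a :=
      TruncatedWittVector.coeff_out a ⟨n, h⟩
    rw [h2]
    apply IsIntegral.of_pow (n := p ^ (m - 1 - n)) (pow_pos hp.out.pos _)
    have : (γ ^ p ^ n * ι (TruncatedWittVector.coeff ⟨n, h⟩ a)) ^ p ^ (m - 1 - n)
        = algebraMap A L t := by
      rw [← hι, ht, map_mul, map_pow, ← hγ, mul_pow, ← pow_mul]
      have := pow_mul_pow_sub p m ⟨n, h⟩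
      simp only at this
      rw [this]
      ring
    rw [this]
    exact isIntegral_algebraMap
  · have h2 : (TruncatedWittVector.out a).coeff n = 0 := by
      simp [TruncatedWittVector.out, h]
    rw [h2, map_zero, mul_zero]
    exact isIntegral_zero

include hι hN in
theorem G2 (m : ℕ) (e : B) (d : WittVector p B) (δ : L) (hδ : δ ^ (p ^ (m - 1)) = ι e)
    (hd : ∀ n, IsIntegral A ((teichmuller p δ * WittVector.map ι d).coeff n)) :
    WittVector.truncate m d ∈ WittFil.fil p m (A := A) e := by
  intro j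
  rw [WittVector.coeff_truncate]
  apply hN
  have h1 := hd j
  rw [coeff_teichmuller_mul, WittVector.map_coeff] at h1
  have h2 := h1.pow (p ^ (m - 1 - (j : ℕ)))
  have : (δ ^ p ^ (j : ℕ) * ι (d.coeff j)) ^ p ^ (m - 1 - (j : ℕ))
      = ι (d.coeff j ^ p ^ (m - 1 - (j : ℕ)) * e) := by
    rw [map_mul, map_pow, ← hδ, mul_pow, ← pow_mul, pow_mul_pow_sub]
    ring
  rwa [this] at h2

include hι hN in
theorem sub_mem [IsAlgClosed L] (m : ℕ) (c : B) (a b : TruncatedWittVector p m B)
    (ha : a ∈ WittFil.fil p m (A := A) c) (hb : b ∈ WittFil.fil p m (A := A) c) :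
    a - b ∈ WittFil.fil p m (A := A) c := by
  obtain ⟨γ, hγ⟩ := IsAlgClosed.exists_pow_nat_eq (ι c) (n := p ^ (m - 1)) (pow_pos hp.out.pos _)
  have key := G2 p ι hι hN m c (TruncatedWittVector.out a - TruncatedWittVector.out b) γ hγ ?_
  · rwa [map_sub, WittVector.truncate, RingHom.coe_mk, MonoidHom.coe_mk, OneHom.coe_mk,
      TruncatedWittVector.truncateFun_out, TruncatedWittVector.truncateFun_out] at key
  · intro n
    rw [map_sub, mul_sub]
    exact sub_coeff_mem p (integralClosure A L).toSubring _ _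
      (G1 p ι hι m c a ha γ hγ) (G1 p ι hι m c b hb γ hγ) n

include hι hN in
theorem mul_mem [IsAlgClosed L] (m : ℕ) (c c' : B) (a b : TruncatedWittVector p m B)
    (ha : a ∈ WittFil.fil p m (A := A) c) (hb : b ∈ WittFil.fil p m (A := A) c') :
    a * b ∈ WittFil.fil p m (A := A) (c * c') := by
  obtain ⟨γ, hγ⟩ := IsAlgClosed.exists_pow_nat_eq (ι c) (n := p ^ (m - 1)) (pow_pos hp.out.pos _)
  obtain ⟨γ', hγ'⟩ := IsAlgClosed.exists_pow_nat_eq (ι c') (n := p ^ (m - 1)) (pow_pos hp.out.pos _)
  have key := G2 p ι hι hN m (c * c') (TruncatedWittVector.out a * TruncatedWittVector.out b)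
    (γ * γ') (by rw [mul_pow, hγ, hγ', map_mul]) ?_
  · rwa [map_mul, WittVector.truncate, RingHom.coe_mk, MonoidHom.coe_mk, OneHom.coe_mk,
      TruncatedWittVector.truncateFun_out, TruncatedWittVector.truncateFun_out] at key
  · intro n
    rw [map_mul, map_mul, mul_mul_mul_comm]
    exact mul_coeff_mem p (integralClosure A L).toSubring _ _
      (G1 p ι hι m c a ha γ hγ) (G1 p ι hι m c' b hb γ' hγ') n

end abstract

section concrete

variable {A B : Type u} [CommRing A] [IsDomain A] [CommRing B] [Algebra A B]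
  (π : A) (hπ : π ≠ 0) [IsLocalization.Away π B]

abbrev Lbar (A : Type u) [CommRing A] [IsDomain A] := AlgebraicClosure (FractionRing A)

include hπ in
theorem isUnit_powers (y : Submonoid.powers π) :
    IsUnit (algebraMap A (FractionRing A) y) := by
  obtain ⟨y, k, rfl⟩ := y
  simp only
  rw [map_pow]
  apply IsUnit.pow
  rw [isUnit_iff_ne_zero]
  simpa using hπ

/-- embedding of the localisation into the fraction field -/
def iotaK : B →+* FractionRing A :=
  IsLocalization.lift (M := Submonoid.powers π) (S := B) (g := algebraMap A (FractionRing A))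
    (isUnit_powers π hπ)

theorem iotaK_algebraMap (a : A) :
    iotaK (B := B) π hπ (algebraMap A B a) = algebraMap A (FractionRing A) a := by
  simp [iotaK]

include hπ in
theorem algebraMap_injective : Function.Injective (algebraMap A B) :=
  IsLocalization.injective B (M := Submonoid.powers π)
    (powers_le_nonZeroDivisors_of_noZeroDivisors hπ)

theorem iotaK_injective : Function.Injective (iotaK (B := B) π hπ) := by
  rw [iotaK, IsLocalization.lift_injective_iff]
  intro x y
  rw [(algebraMap_injective (B := B) π hπ).eq_iff, (IsFractionRing.injective A (FractionRing A)).eq_iff]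

def iota : B →+* Lbar A :=
  (algebraMap (FractionRing A) (Lbar A)).comp (iotaK (B := B) π hπ)

theorem iota_algebraMap (a : A) :
    iota (B := B) π hπ (algebraMap A B a) = algebraMap A (Lbar A) a := by
  rw [iota, RingHom.comp_apply, iotaK_algebraMap, ← IsScalarTower.algebraMap_apply]

theorem iota_injective : Function.Injective (iota (B := B) π hπ) := by
  rw [iota]
  exact (algebraMap (FractionRing A) (Lbar A)).injective.comp (iotaK_injective π hπ)

theorem iota_normal [IsIntegrallyClosed A] (z : B) (hz : IsIntegral A (iota (B := B) π hπ z)) :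
    z ∈ (algebraMap A B).range := by
  rw [iota, RingHom.comp_apply, isIntegral_algebraMap_iff
    (algebraMap (FractionRing A) (Lbar A)).injective] at hz
  obtain ⟨y, hy⟩ := IsIntegrallyClosed.isIntegral_iff.mp hz
  refine ⟨y, iotaK_injective π hπ ?_⟩
  rw [iotaK_algebraMap, hy]

end concrete

section main

variable {A B : Type u} [CommRing A] [IsDomain A]
    [UniqueFactorizationMonoid A] [CommRing B] [Algebra A B] {r : ℕ} (x : Fin r → A)
    (hx : ∀ i, Prime (x i))
    [IsLocalization.Away (∏ i, x i) B] (u : Fin r → Bˣ)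

include hx in
theorem prod_ne_zero : (∏ i, x i) ≠ 0 :=
  Finset.prod_ne_zero_iff.mpr fun i _ => (hx i).ne_zero

theorem zmon_add (n n' : Fin r → ℤ) :
    WittFil.zmon u (n + n') = WittFil.zmon u n * WittFil.zmon u n' := by
  unfold WittFil.zmon
  rw [← Units.val_mul, ← Finset.prod_mul_distrib]
  congr 1
  refine Finset.prod_congr rfl fun i _ => ?_
  rw [Pi.add_apply, zpow_add]

include hx in
theorem S19263 (n : Fin r → ℤ) (m : ℕ)
    (a b : TruncatedWittVector p m B) (ha : a ∈ WittFil.fil p m (A := A) (WittFil.zmon u n))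
    (hb : b ∈ WittFil.fil p m (A := A) (WittFil.zmon u n)) :
    a - b ∈ WittFil.fil p m (A := A) (WittFil.zmon u n) :=
  sub_mem p (iota (B := B) _ (prod_ne_zero x hx)) (iota_algebraMap _ _) (iota_normal _ _) m _ a b ha hb

include hx in
theorem S19265 (n n' : Fin r → ℤ) (m : ℕ)
    (a b : TruncatedWittVector p m B) (ha : a ∈ WittFil.fil p m (A := A) (WittFil.zmon u n))
    (hb : b ∈ WittFil.fil p m (A := A) (WittFil.zmon u n')) :
    a * b ∈ WittFil.fil p m (A := A) (WittFil.zmon u (n + n')) := by
  rw [zmon_add]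
  exact mul_mem p (iota (B := B) _ (prod_ne_zero x hx)) (iota_algebraMap _ _) (iota_normal _ _) m _ _
    a b ha hb

include hx in
/-- power version of normality -/
theorem mem_range_of_pow_mem (w : B) (k : ℕ) (hk : 0 < k) (h : w ^ k ∈ (algebraMap A B).range) :
    w ∈ (algebraMap A B).range := by
  apply iota_normal (B := B) _ (prod_ne_zero x hx)
  apply IsIntegral.of_pow hk
  obtain ⟨t, ht⟩ := h
  rw [← map_pow, ← ht, iota_algebraMap]
  exact isIntegral_algebraMap

include hx in
theorem S19266 (n : Fin r → ℤ) (m : ℕ)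
    (a : TruncatedWittVector p m B) :
    a ∈ WittFil.fil p m (A := A) ((WittFil.zmon u n) ^ (p ^ (m - 1))) ↔
      ∀ j : Fin m, TruncatedWittVector.coeff j
          (a * WittVector.truncate m (WittVector.teichmuller p (WittFil.zmon u n))) ∈
        (algebraMap A B).range := by
  have key : ∀ j : Fin m, (TruncatedWittVector.coeff j a) ^ (p ^ (m - 1 - (j : ℕ))) *
      (WittFil.zmon u n) ^ (p ^ (m - 1)) =
      (TruncatedWittVector.coeff j
          (a * WittVector.truncate m (WittVector.teichmuller p (WittFil.zmon u n)))) ^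
        (p ^ (m - 1 - (j : ℕ))) := by
    intro j
    rw [coeff_mul_truncate_teichmuller, mul_pow, ← pow_mul, pow_mul_pow_sub]
  constructor
  · intro h j
    have h1 := h j
    rw [key] at h1
    exact mem_range_of_pow_mem x hx _ _ (pow_pos hp.out.pos _) h1
  · intro h j
    rw [key]
    exact Subring.pow_mem _ (h j) _


include hx in
theorem prod_dvd_of_forall_dvd (hxa : ∀ i j, Associated (x i) (x j) → i = j) (s : A)
    (hs : ∀ i, x i ∣ s) : (∏ i, x i) ∣ s := by
  apply Fintype.prod_dvd_of_isRelPrime _ hs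
  intro i j hij
  show IsRelPrime (x i) (x j)
  rw [(hx i).irreducible.isRelPrime_iff_not_dvd, (hx i).dvd_prime_iff_associated (hx j)]
  exact fun h => hij (hxa i j h)

theorem zmon_mul_neg (hu : ∀ i, (u i : B) = algebraMap A B (x i)) (n : Fin r → ℤ)
    (hn : ∀ i, n i < 0) :
    WittFil.zmon u n * algebraMap A B (∏ i, x i ^ (-n i).toNat) = 1 := by
  have h1 : algebraMap A B (∏ i, x i ^ (-n i).toNat)
      = ((∏ i, u i ^ (-n i) : Bˣ) : B) := by
    rw [map_prod, Units.coe_prod]
    refine Finset.prod_congr rfl fun i _ => ?_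
    rw [map_pow, ← hu, ← Units.val_pow_eq_pow_val, ← zpow_natCast]
    congr 2
    have := hn i
    omega
  rw [h1]
  unfold WittFil.zmon
  rw [← Units.val_mul, ← Finset.prod_mul_distrib]
  simp

include hx in
theorem S19272 (hxa : ∀ i j, Associated (x i) (x j) → i = j)
    (hu : ∀ i, (u i : B) = algebraMap A B (x i)) (m : ℕ) (n : Fin r → ℤ) (hn : ∀ i, n i < 0)
    (a : TruncatedWittVector p m B) (ha : a ∈ WittFil.fil p m (A := A) (WittFil.zmon u n))
    (j : Fin m) :
    ∃ b : A, TruncatedWittVector.coeff j a = algebraMap A B ((∏ i, x i) * b) := by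
  obtain ⟨t, ht⟩ := ha j
  set q := p ^ (m - 1 - (j : ℕ)) with hq
  have hq0 : 0 < q := pow_pos hp.out.pos _
  set P := ∏ i, x i ^ (-n i).toNat with hP
  have h1 : TruncatedWittVector.coeff j a ^ q = algebraMap A B (t * P) := by
    rw [map_mul, ht, mul_assoc, zmon_mul_neg x u hu n hn, mul_one]
  obtain ⟨s, hs⟩ := mem_range_of_pow_mem x hx _ q hq0 ⟨t * P, h1.symm⟩
  have h2 : s ^ q = t * P := by
    apply algebraMap_injective (B := B) _ (prod_ne_zero x hx)
    rw [map_pow, hs, h1]
  have h3 : ∀ i, x i ∣ s := by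
    intro i
    apply (hx i).dvd_of_dvd_pow (n := q)
    rw [h2]
    apply Dvd.dvd.mul_left
    rw [hP]
    refine dvd_trans ?_ (Finset.dvd_prod_of_mem _ (Finset.mem_univ i))
    apply dvd_pow_self
    have := hn i
    omega
  obtain ⟨b, hb⟩ := prod_dvd_of_forall_dvd x hx hxa s h3
  exact ⟨b, by rw [← hb, hs]⟩

end main

end Groth.Agent.Lib.Helper22.WittFilLib
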