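import Mathlib
import Groth.Prelude.Def_W4c6katofiltaWFil
import Groth.Agent.Lib.Helper22.WittFilLib

set_option autoImplicit false
set_option linter.unusedSectionVars false
universe u
noncomputable section
namespace Groth.Agent.Lib.Helper22.WittFilLib2

open WittVector Groth.Agent.Lib.Helper22.WittTeich Groth.Agent.Lib.Helper22.WittFilLib

variable (p : ℕ) [hp : Fact p.Prime]

section zmon

variable {B : Type u} [CommRing B] {r : ℕ} (u : Fin r → Bˣ)

theorem zmon_zero : WittFil.zmon u 0 = 1 := by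
  simp [WittFil.zmon]

theorem zmon_mul_neg_self (N : Fin r → ℤ) : WittFil.zmon u N * WittFil.zmon u (-N) = 1 := by
  rw [← zmon_add, add_neg_cancel, zmon_zero]

theorem zmon_pow (N : Fin r → ℤ) (k : ℕ) :
    WittFil.zmon u N ^ k = WittFil.zmon u (fun i => (k : ℤ) * N i) := by
  unfold WittFil.zmon
  rw [← Units.val_pow_eq_pow_val, ← Finset.prod_pow]
  congr 1
  refine Finset.prod_congr rfl fun i _ => ?_
  rw [← zpow_natCast, ← zpow_mul, mul_comm]

variable {A : Type u} [CommRing A] [Algebra A B] (x : Fin r → A)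
  (hu : ∀ i, (u i : B) = algebraMap A B (x i))

include hu in
theorem zmon_natCast (k : Fin r → ℕ) :
    WittFil.zmon u (fun i => (k i : ℤ)) = algebraMap A B (∏ i, x i ^ k i) := by
  unfold WittFil.zmon
  rw [map_prod, Units.coe_prod]
  refine Finset.prod_congr rfl fun i _ => ?_
  rw [map_pow, ← hu, zpow_natCast, Units.val_pow_eq_pow_val]

include hu in
theorem zmon_mem_range_of_nonneg (N : Fin r → ℤ) (hN : ∀ i, 0 ≤ N i) :
    WittFil.zmon u N ∈ (algebraMap A B).range := by
  have : N = fun i => ((N i).toNat : ℤ) := by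
    funext i
    rw [Int.toNat_of_nonneg (hN i)]
  rw [this, zmon_natCast u x hu]
  exact ⟨_, rfl⟩

end zmon

section NF

variable {A B : Type u} [CommRing A] [IsDomain A]
    [UniqueFactorizationMonoid A] [CommRing B] [Algebra A B] {r : ℕ} (x : Fin r → A)
    (hx : ∀ i, Prime (x i)) (hxa : ∀ i j, Associated (x i) (x j) → i = j)
    [IsLocalization.Away (∏ i, x i) B] (u : Fin r → Bˣ)
    (hu : ∀ i, (u i : B) = algebraMap A B (x i))

include hx in
theorem strip_aux (a : A) (ha : a ≠ 0) (T : Finset (Fin r)) :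
    ∃ (v : Fin r → ℕ) (s : A), a = (∏ i ∈ T, x i ^ v i) * s ∧ ∀ i ∈ T, ¬ x i ∣ s := by
  classical
  induction T using Finset.induction_on with
  | empty => exact ⟨0, a, by simp, by simp⟩
  | insert i T hi ih =>
    obtain ⟨v, s, hs, hdiv⟩ := ih
    have hs0 : s ≠ 0 := by
      rintro rfl
      exact ha (by rw [hs, mul_zero])
    obtain ⟨k, s', hs', hk⟩ := WfDvdMonoid.max_power_factor hs0 (hx i).irreducible
    refine ⟨Function.update v i k, s', ?_, ?_⟩
    · rw [Finset.prod_insert hi, Function.update_self, hs, hk]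
      have : ∏ j ∈ T, x j ^ Function.update v i k j = ∏ j ∈ T, x j ^ v j := by
        refine Finset.prod_congr rfl fun j hj => ?_
        rw [Function.update_of_ne]
        rintro rfl
        exact hi hj
      rw [this]
      ring
    · intro j hj
      rcases Finset.mem_insert.mp hj with rfl | hj
      · exact hs'
      · intro h
        exact hdiv j hj (hk ▸ Dvd.dvd.mul_left h _)

include hx in
theorem strip (a : A) (ha : a ≠ 0) :
    ∃ (v : Fin r → ℕ) (s : A), a = (∏ i, x i ^ v i) * s ∧ ∀ i, ¬ x i ∣ s := by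
  obtain ⟨v, s, h1, h2⟩ := strip_aux x hx a ha Finset.univ
  exact ⟨v, s, h1, fun i => h2 i (Finset.mem_univ i)⟩

include hx hu in
/-- normal form of nonzero elements of `B` -/
theorem normal_form (w : B) (hw : w ≠ 0) :
    ∃ (s : A) (e : Fin r → ℤ), (∀ i, ¬ x i ∣ s) ∧ w = algebraMap A B s * WittFil.zmon u e := by
  obtain ⟨⟨a, ⟨_, k, rfl⟩⟩, hak⟩ := IsLocalization.surj (Submonoid.powers (∏ i, x i)) w
  simp only at hak
  have ha : a ≠ 0 := by
    rintro rfl
    rw [map_zero] at hak
    have hunit : IsUnit (algebraMap A B ((∏ i, x i) ^ k)) :=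
      IsLocalization.map_units B (⟨_, k, rfl⟩ : Submonoid.powers (∏ i, x i))
    exact hw (hunit.mul_left_eq_zero.mp hak)
  obtain ⟨v, s, hs, hdiv⟩ := strip x hx a ha
  refine ⟨s, fun i => (v i : ℤ) - k, hdiv, ?_⟩
  have h1 : algebraMap A B ((∏ i, x i) ^ k) = WittFil.zmon u (fun _ => (k : ℤ)) := by
    rw [zmon_natCast u x hu, Finset.prod_pow]
  have h2 : (fun i => (v i : ℤ) - k) = (fun i => (v i : ℤ)) + (-(fun _ => (k : ℤ))) := by
    funext i
    simp [sub_eq_add_neg]
  rw [h2, zmon_add, zmon_natCast u x hu, ← mul_assoc, ← map_mul, mul_comm s, ← hs, ← hak, h1,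
    mul_assoc, zmon_mul_neg_self, mul_one]

include hx hxa hu in
/-- the exponents of a normal form lying in `A` are nonnegative -/
theorem nonneg_of_mem_range (s : A) (hs : ∀ i, ¬ x i ∣ s) (N : Fin r → ℤ)
    (h : algebraMap A B s * WittFil.zmon u N ∈ (algebraMap A B).range) (i : Fin r) : 0 ≤ N i := by
  by_contra hneg
  rw [not_le] at hneg
  obtain ⟨t, ht⟩ := h
  have hinj := algebraMap_injective (B := B) _ (prod_ne_zero x hx)
  have hsplit : N + (fun j => (((-N j).toNat : ℕ) : ℤ)) = fun j => (((N j).toNat : ℕ) : ℤ) := by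
    funext j
    simp only [Pi.add_apply]
    omega
  have h1 : s * ∏ j, x j ^ (N j).toNat = t * ∏ j, x j ^ (-N j).toNat := by
    apply hinj
    rw [map_mul, map_mul, ht, ← zmon_natCast u x hu, ← zmon_natCast u x hu, mul_assoc,
      ← zmon_add, hsplit]
  have h2 : x i ∣ s * ∏ j, x j ^ (N j).toNat := by
    rw [h1]
    apply Dvd.dvd.mul_left
    refine dvd_trans ?_ (Finset.dvd_prod_of_mem _ (Finset.mem_univ i))
    apply dvd_pow_self
    omega
  rcases (hx i).dvd_or_dvd h2 with h3 | h3
  · exact hs i h3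
  · obtain ⟨j, _, hj⟩ := (hx i).dvd_finsetProd_iff _ |>.mp h3
    have hij : i = j := hxa i j (((hx i).dvd_prime_iff_associated (hx j)).mp
      ((hx i).dvd_of_dvd_pow hj))
    subst hij
    have : (N i).toNat = 0 := by omega
    rw [this, pow_zero] at hj
    exact (hx i).not_isUnit (isUnit_of_dvd_one hj)


include hx hxa hu in
/-- the key valuation step for the restriction map -/
theorem root_step (n : Fin r → ℤ) (w : B)
    (h : w ^ p * WittFil.zmon u n ∈ (algebraMap A B).range) :
    w * WittFil.zmon u (fun i => n i / (p : ℤ)) ∈ (algebraMap A B).range := by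
  by_cases hw : w = 0
  · rw [hw, zero_mul]
    exact Subring.zero_mem _
  obtain ⟨s, e, hs, rfl⟩ := normal_form x hx u hu w hw
  have hp0 : (0 : ℤ) < p := by exact_mod_cast hp.out.pos
  have h1 : (algebraMap A B s * WittFil.zmon u e) ^ p * WittFil.zmon u n
      = algebraMap A B (s ^ p) * WittFil.zmon u ((fun i => (p : ℤ) * e i) + n) := by
    rw [mul_pow, zmon_pow, zmon_add, map_pow, mul_assoc]
  rw [h1] at h
  have h2 := nonneg_of_mem_range x hx hxa u hu (s ^ p)
    (fun i hi => hs i ((hx i).dvd_of_dvd_pow hi)) _ h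
  rw [mul_assoc, ← zmon_add]
  refine Subring.mul_mem _ ⟨s, rfl⟩ (zmon_mem_range_of_nonneg u x hu _ fun i => ?_)
  have h3 := h2 i
  simp only [Pi.add_apply] at h3 ⊢
  have : -e i ≤ n i / (p : ℤ) := by
    rw [Int.le_ediv_iff_mul_le hp0]
    linarith
  linarith

include hx hxa hu in
theorem S19264 (n : Fin r → ℤ) (m : ℕ) :
    (TruncatedWittVector.truncate (Nat.le_succ m)) '' WittFil.fil p (m + 1) (A := A) (WittFil.zmon u n) =
      WittFil.fil p m (A := A) (WittFil.zmon u (fun i => n i / (p : ℤ))) := by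
  have hp0 : (0 : ℤ) < p := by exact_mod_cast hp.out.pos
  apply Set.eq_of_subset_of_subset
  · rintro _ ⟨a, ha, rfl⟩ j
    rw [TruncatedWittVector.coeff_truncate]
    have h1 := ha (Fin.castLE (Nat.le_succ m) j)
    have hj : m + 1 - 1 - ((Fin.castLE (Nat.le_succ m) j : Fin (m+1)) : ℕ)
        = (m - 1 - (j : ℕ)) + 1 := by
      have := j.2
      simp only [Fin.val_castLE]
      omega
    rw [hj, pow_succ, pow_mul] at h1
    exact root_step p x hx hxa u hu n _ h1
  · intro b hb
    refine ⟨TruncatedWittVector.mk p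
      (fun j : Fin (m + 1) => if h : (j : ℕ) < m then b.coeff ⟨j, h⟩ else 0), ?_, ?_⟩
    · intro j
      rw [TruncatedWittVector.coeff_mk]
      by_cases h : (j : ℕ) < m
      · rw [dif_pos h]
        have h1 := hb ⟨j, h⟩
        have hj : m + 1 - 1 - (j : ℕ) = (m - 1 - (j : ℕ)) + 1 := by omega
        rw [hj, pow_succ, pow_mul]
        set z := TruncatedWittVector.coeff ⟨(j : ℕ), h⟩ b ^ p ^ (m - 1 - (j : ℕ)) with hz
        have hsplit : n = (fun i => (p : ℤ) * (n i / (p : ℤ))) + (fun i => n i % (p : ℤ)) := by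
          funext i
          simp only [Pi.add_apply]
          rw [Int.mul_ediv_add_emod]
        have : z ^ p * WittFil.zmon u n
            = (z * WittFil.zmon u (fun i => n i / (p : ℤ))) ^ p *
              WittFil.zmon u (fun i => n i % (p : ℤ)) := by
          conv_lhs => rw [hsplit, zmon_add]
          rw [mul_pow, zmon_pow, mul_assoc]
        rw [this]
        exact Subring.mul_mem _ (Subring.pow_mem _ h1 _)
          (zmon_mem_range_of_nonneg u x hu _ fun i => Int.emod_nonneg _ hp0.ne')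
      · rw [dif_neg h, zero_pow (pow_pos hp.out.pos _).ne', zero_mul]
        exact Subring.zero_mem _
    · ext j
      rw [TruncatedWittVector.coeff_truncate, TruncatedWittVector.coeff_mk]
      simp only [Fin.val_castLE]
      rw [dif_pos j.2]

end NF


section single

variable {A B : Type u} [CommRing A] [IsDomain A] [UniqueFactorizationMonoid A]
    [CommRing B] [Algebra A B] (x : A) (hx : Prime x) [IsLocalization.Away x B] (u : Bˣ)
    (hu : (u : B) = algebraMap A B x)

theorem zmon_one (N : Fin 1 → ℤ) :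
    WittFil.zmon (fun _ : Fin 1 => u) N = ((u ^ N 0 : Bˣ) : B) := by
  simp [WittFil.zmon]

theorem away_fin_one : IsLocalization.Away (∏ i : Fin 1, (fun _ => x) i) B := by
  simpa using ‹IsLocalization.Away x B›

include hx hu in
/-- strictness: if `p^m ∤ n` the pole order bound improves by one. -/
theorem strict_step (m : ℕ) (n : ℤ) (hn : ¬ ((p : ℤ) ^ m ∣ n)) (w : B)
    (h : w ^ (p ^ m) * ((u ^ n : Bˣ) : B) ∈ (algebraMap A B).range) :
    w ^ (p ^ m) * ((u ^ (n - 1) : Bˣ) : B) ∈ (algebraMap A B).range := by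
  by_cases hw : w = 0
  · rw [hw, zero_pow (pow_pos hp.out.pos _).ne', zero_mul]
    exact Subring.zero_mem _
  have := away_fin_one (B := B) x
  have hx' : ∀ i : Fin 1, Prime ((fun _ => x) i) := fun _ => hx
  have hxa' : ∀ i j : Fin 1, Associated ((fun _ : Fin 1 => x) i) ((fun _ : Fin 1 => x) j) → i = j :=
    fun i j _ => Subsingleton.elim i j
  have hu' : ∀ i : Fin 1, (((fun _ : Fin 1 => u) i : Bˣ) : B)
      = algebraMap A B ((fun _ : Fin 1 => x) i) := fun _ => hu
  obtain ⟨s, e, hs, rfl⟩ := normal_form (fun _ : Fin 1 => x) hx' (fun _ => u) hu' w hw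
  have key : ∀ k : ℤ, (algebraMap A B s * WittFil.zmon (fun _ : Fin 1 => u) e) ^ (p ^ m) *
      ((u ^ k : Bˣ) : B) = algebraMap A B (s ^ (p ^ m)) *
        WittFil.zmon (fun _ : Fin 1 => u) (fun _ => ((p ^ m : ℕ) : ℤ) * e 0 + k) := by
    intro k
    rw [mul_pow, zmon_pow, map_pow, mul_assoc, zmon_one, zmon_one, ← Units.val_mul,
      ← zpow_add]
  rw [key] at h ⊢
  have h2 := nonneg_of_mem_range (fun _ : Fin 1 => x) hx' hxa' (fun _ => u) hu' (s ^ (p ^ m))
    (fun i hi => hs i (hx.dvd_of_dvd_pow hi)) _ h 0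
  have h3 : ((p ^ m : ℕ) : ℤ) * e 0 + n ≠ 0 := by
    intro h0
    apply hn
    refine ⟨-e 0, ?_⟩
    push_cast at h0
    linarith
  refine Subring.mul_mem _ ⟨_, rfl⟩ (zmon_mem_range_of_nonneg _ (fun _ : Fin 1 => x) hu' _ fun i => ?_)
  omega

include hu in
theorem mono_step (n : ℤ) (z : B) (h : z * ((u ^ (n - 1) : Bˣ) : B) ∈ (algebraMap A B).range) :
    z * ((u ^ n : Bˣ) : B) ∈ (algebraMap A B).range := by
  have : z * ((u ^ n : Bˣ) : B) = z * ((u ^ (n - 1) : Bˣ) : B) * algebraMap A B x := by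
    rw [← hu, mul_assoc, ← Units.val_mul, ← zpow_add_one, sub_add_cancel]
  rw [this]
  exact Subring.mul_mem _ h ⟨x, rfl⟩

include hx hu in
theorem S19274 (m : ℕ) (n : ℤ) (hn : ¬ ((p : ℤ) ^ m ∣ n)) :
    ∀ a ∈ WittFil.fil p (m + 1) (A := A) ((u ^ n : Bˣ) : B),
      ∃ b ∈ WittFil.fil p (m + 1) (A := A) ((u ^ (n - 1) : Bˣ) : B),
        ∃ y : WittVector p B,
          WittVector.truncate m y ∈ WittFil.fil p m (A := A) ((u ^ n : Bˣ) : B) ∧
            a = b + WittVector.truncate (m + 1) (WittVector.verschiebung y) := by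
  intro a ha
  set a0 := TruncatedWittVector.coeff 0 a with ha0
  set b := WittVector.truncate (m + 1) (teichmuller p a0) with hb
  have hbcoeff : ∀ j : Fin (m + 1), TruncatedWittVector.coeff j b = if (j : ℕ) = 0 then a0 else 0 := by
    intro j
    rw [hb, WittVector.coeff_truncate]
    split_ifs with h
    · rw [h, teichmuller_coeff_zero]
    · rw [teichmuller_coeff_pos p a0 _ (Nat.pos_of_ne_zero h)]
  have hb1 : b ∈ WittFil.fil p (m + 1) (A := A) ((u ^ (n - 1) : Bˣ) : B) := by
    intro j
    rw [hbcoeff]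
    split_ifs with h
    · have h1 := ha 0
      have : m + 1 - 1 - (j : ℕ) = m := by omega
      rw [this]
      have : m + 1 - 1 - ((0 : Fin (m + 1)) : ℕ) = m := by simp
      rw [this] at h1
      exact strict_step p x hx u hu m n hn a0 h1
    · rw [zero_pow (pow_pos hp.out.pos _).ne', zero_mul]
      exact Subring.zero_mem _
  have hb2 : b ∈ WittFil.fil p (m + 1) (A := A) ((u ^ n : Bˣ) : B) :=
    fun j => mono_step x u hu n _ (hb1 j)
  have hx0 : x ≠ 0 := hx.ne_zero
  have hd : a - b ∈ WittFil.fil p (m + 1) (A := A) ((u ^ n : Bˣ) : B) :=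
    sub_mem p (iota (B := B) x hx0) (iota_algebraMap _ _) (iota_normal _ _) (m + 1) _ a b ha hb2
  set D := TruncatedWittVector.out a - teichmuller p a0 with hD
  have hD0 : D.coeff 0 = 0 := by
    have h1 : D + teichmuller p a0 = TruncatedWittVector.out a := by rw [hD]; ring
    have h2 := congrArg (fun z => z.coeff 0) h1
    simp only [WittVector.add_coeff_zero, teichmuller_coeff_zero] at h2
    have h3 : (TruncatedWittVector.out a).coeff 0 = a0 := TruncatedWittVector.coeff_out a 0
    rw [h3] at h2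
    exact add_eq_right.mp h2
  set y := WittVector.mk p (fun k => D.coeff (k + 1)) with hy
  have hVy : WittVector.verschiebung y = D := by
    ext k
    rcases k with _ | k
    · rw [WittVector.verschiebung_coeff_zero, hD0]
    · rw [WittVector.verschiebung_coeff_succ, hy, WittVector.coeff_mk]
  have htD : WittVector.truncate (m + 1) D = a - b := by
    rw [hD, map_sub, hb]
    congr 1
    exact TruncatedWittVector.truncateFun_out a
  refine ⟨b, hb1, y, ?_, ?_⟩
  · intro j
    rw [WittVector.coeff_truncate, hy, WittVector.coeff_mk]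
    have h1 := hd ⟨(j : ℕ) + 1, by have := j.2; omega⟩
    rw [← htD, WittVector.coeff_truncate] at h1
    simp only at h1
    have : m + 1 - 1 - ((j : ℕ) + 1) = m - 1 - (j : ℕ) := by omega
    rw [this] at h1
    exact h1
  · rw [hVy, htD]
    ring

end single

end Groth.Agent.Lib.Helper22.WittFilLib2
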