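import Mathlib
import Groth.Agent.S14856
import Groth.Agent.Lib.Helper22.WittTop2

/-!
# Closedness of `p^u W(R)` for `p`-torsion-free, `p`-adically complete `R` (helper22)
-/

set_option autoImplicit false
set_option linter.unusedSectionVars false
universe u
noncomputable section
namespace Groth.Agent.Lib.Helper22.WittPowClosed

open WittVector

variable (p : ℕ) [hp : Fact p.Prime] {R : Type u} [CommRing R]

local notation "𝕎" => WittVector p

/-- the key estimate: divide by `p^u`, losing `u` in the exponent -/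
theorem coeff_dvd_of_pow_mul (hR : ∀ y : R, (p : R) * y = 0 → y = 0) (y : 𝕎 R) (m u s : ℕ)
    (hs : u + 1 ≤ s) (h : ∀ i < m, (p : R) ^ s ∣ ((p : 𝕎 R) ^ u * y).coeff i) :
    ∀ i < m, (p : R) ^ (s - u) ∣ y.coeff i := by
  rcases m with _ | m
  · intro i hi; omega
  have h1 := (Groth.Agent.S14856.result p R hR ((p : 𝕎 R) ^ u * y) m s (by omega)).mp
    (fun i hi => h i (by omega))
  have h2 : ∀ n ≤ m, (p : R) ^ (n + (s - u)) ∣ ghostComponent n y := by
    intro n hn
    obtain ⟨c, hc⟩ := h1 n hn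
    rw [map_mul, map_pow, map_natCast] at hc
    refine ⟨c, ?_⟩
    have : (p : R) ^ u * (ghostComponent n y - (p : R) ^ (n + (s - u)) * c) = 0 := by
      rw [mul_sub, hc, ← mul_assoc, ← pow_add]
      have : u + (n + (s - u)) = n + s := by omega
      rw [this, sub_self]
    exact sub_eq_zero.mp (Groth.Agent.S14856.cancel_pow p R hR u _ this)
  intro i hi
  exact (Groth.Agent.S14856.result p R hR y m (s - u) (by omega)).mpr h2 i (by omega)

/-- `N m s = I_m + W(p^s R)`: Witt vectors whose first `m` components lie in `p^s R` -/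
def N (m s : ℕ) : Ideal (𝕎 R) := RingHom.ker (WittTop.fnm p m s)

theorem mem_N_iff (m s : ℕ) (x : 𝕎 R) :
    x ∈ N p m s ↔ ∀ c < m, x.coeff c ∈ Ideal.span {(p : R) ^ s} := by
  rw [N, RingHom.mem_ker, ← map_zero (WittTop.fnm p m s), WittTop.fnm_eq_iff]
  simp only [WittVector.zero_coeff, sub_zero]

theorem N_anti (m : ℕ) {s s' : ℕ} (h : s ≤ s') : N (R := R) p m s' ≤ N p m s := by
  intro x hx
  rw [mem_N_iff] at hx ⊢
  intro c hc
  exact Ideal.span_singleton_le_span_singleton.mpr (pow_dvd_pow _ h) (hx c hc)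

theorem mem_N_of_pow_mul_mem (hR : ∀ y : R, (p : R) * y = 0 → y = 0) (y : 𝕎 R) (m u s : ℕ)
    (hs : u + 1 ≤ s) (h : (p : 𝕎 R) ^ u * y ∈ N p m s) : y ∈ N p m (s - u) := by
  rw [mem_N_iff] at h ⊢
  intro c hc
  rw [Ideal.mem_span_singleton]
  exact coeff_dvd_of_pow_mul p hR y m u s hs
    (fun i hi => Ideal.mem_span_singleton.mp (h i hi)) c hc

variable [IsAdicComplete (Ideal.span {(p : R)}) R]

/-- limits in `W(R)/N m s` -/
theorem exists_limit_N (m : ℕ) (y : ℕ → 𝕎 R)
    (hy : ∀ j j', j ≤ j' → y j' - y j ∈ N p m j) : ∃ x : 𝕎 R, ∀ j, x - y j ∈ N p m j := by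
  have hex : ∀ i : ℕ, i < m → ∃ c : R, ∀ j,
      (y j).coeff i ≡ c [SMOD (Ideal.span {(p : R)} ^ j • ⊤ : Submodule R R)] := by
    intro i hi
    refine IsPrecomplete.prec (IsAdicComplete.toIsPrecomplete (I := Ideal.span {(p : R)}) (M := R))
      (f := fun j => (y j).coeff i) (fun {j j'} hjj' => ?_)
    have h1 := hy j j' hjj'
    rw [N, RingHom.mem_ker, map_sub, sub_eq_zero, WittTop.fnm_eq_iff] at h1
    have h2 := h1 i hi
    rw [SModEq.sub_mem, smul_eq_mul, Ideal.mul_top, Ideal.span_singleton_pow]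
    rw [← neg_sub]
    exact neg_mem h2
  choose c hc using hex
  refine ⟨WittVector.mk p (fun i => if h : i < m then c i h else 0), fun j => ?_⟩
  rw [N, RingHom.mem_ker, map_sub, sub_eq_zero, WittTop.fnm_eq_iff]
  intro i hi
  rw [WittVector.coeff_mk, dif_pos hi]
  have := hc i hi j
  rw [SModEq.sub_mem, smul_eq_mul, Ideal.mul_top, Ideal.span_singleton_pow] at this
  rw [← neg_sub]
  exact neg_mem this

/-- S14861 in library form -/
theorem exists_solution (hR : ∀ y : R, (p : R) * y = 0 → y = 0) (a : 𝕎 R) (m u : ℕ)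
    (h : ∀ s : ℕ, ∃ z : 𝕎 R, (p : 𝕎 R) ^ u * z - a ∈ N p m s) :
    ∃ x : 𝕎 R, ∀ i < m, ((p : 𝕎 R) ^ u * x - a).coeff i = 0 := by
  choose z hz using h
  set y : ℕ → 𝕎 R := fun j => z (j + u + 1) with hy
  have hcauchy : ∀ j j', j ≤ j' → y j' - y j ∈ N p m j := by
    intro j j' hjj'
    have h1 : (p : 𝕎 R) ^ u * (y j' - y j) ∈ N p m (j + u + 1) := by
      have : (p : 𝕎 R) ^ u * (y j' - y j) =
          ((p : 𝕎 R) ^ u * z (j' + u + 1) - a) - ((p : 𝕎 R) ^ u * z (j + u + 1) - a) := by
        rw [hy]; ring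
      rw [this]
      exact Ideal.sub_mem _ (N_anti p m (by omega) (hz (j' + u + 1))) (hz (j + u + 1))
    have h2 := mem_N_of_pow_mul_mem p hR _ m u (j + u + 1) (by omega) h1
    exact N_anti p m (by omega) h2
  obtain ⟨x, hx⟩ := exists_limit_N p m y hcauchy
  refine ⟨x, fun i hi => ?_⟩
  apply IsHausdorff.haus (I := Ideal.span {(p : R)}) (M := R) IsAdicComplete.toIsHausdorff
  intro j
  rw [SModEq.zero, smul_eq_mul, Ideal.mul_top, Ideal.span_singleton_pow]
  have h1 : (p : 𝕎 R) ^ u * x - a ∈ N p m j := by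
    have : (p : 𝕎 R) ^ u * x - a = (p : 𝕎 R) ^ u * (x - y j) + ((p : 𝕎 R) ^ u * y j - a) := by ring
    rw [this]
    exact Ideal.add_mem _ (Ideal.mul_mem_left _ _ (hx j)) (N_anti p m (by omega) (hz (j + u + 1)))
  exact (mem_N_iff p m j _).mp h1 i hi

theorem ker_truncate_le_N (m s : ℕ) :
    RingHom.ker (WittVector.truncate (p := p) (R := R) m) ≤ N p m s := by
  intro x hx
  rw [WittVector.mem_ker_truncate] at hx
  rw [mem_N_iff]
  intro c hc
  rw [hx c hc]
  exact Ideal.zero_mem _

theorem ker_map_le_N (m s : ℕ) :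
    RingHom.ker (WittVector.map (p := p) (Ideal.Quotient.mk (Ideal.span {(p : R) ^ s}))) ≤ N p m s := by
  intro x hx
  rw [mem_N_iff]
  intro c _
  have := congrArg (fun z => z.coeff c) (RingHom.mem_ker.mp hx)
  simp only [WittVector.map_coeff, WittVector.zero_coeff] at this
  exact Ideal.Quotient.eq_zero_iff_mem.mp this

theorem ker_truncate_anti {j j' : ℕ} (h : j ≤ j') :
    RingHom.ker (WittVector.truncate (p := p) (R := R) j') ≤
      RingHom.ker (WittVector.truncate (p := p) (R := R) j) := by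
  intro x hx
  rw [WittVector.mem_ker_truncate] at hx ⊢
  exact fun i hi => hx i (by omega)

theorem mem_ker_truncate_of_pow_mul (hR : ∀ y : R, (p : R) * y = 0 → y = 0) (y : 𝕎 R) (m u : ℕ)
    (h : (p : 𝕎 R) ^ u * y ∈ RingHom.ker (WittVector.truncate (p := p) (R := R) m)) :
    y ∈ RingHom.ker (WittVector.truncate (p := p) (R := R) m) := by
  rw [WittVector.mem_ker_truncate]
  intro i hi
  apply IsHausdorff.haus (I := Ideal.span {(p : R)}) (M := R) IsAdicComplete.toIsHausdorff
  intro j
  rw [SModEq.zero, smul_eq_mul, Ideal.mul_top, Ideal.span_singleton_pow]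
  have h1 := mem_N_of_pow_mul_mem p hR y m u (j + u + 1) (by omega)
    (ker_truncate_le_N p m _ h)
  have h2 := N_anti p m (by omega : j ≤ j + u + 1 - u) h1
  exact (mem_N_iff p m j y).mp h2 i hi

/-- S14862 in library form -/
theorem iInf_eq (hR : ∀ y : R, (p : R) * y = 0 → y = 0) (u : ℕ) :
    (⨅ r : ℕ, ⨅ s : ℕ,
        Ideal.span {(p : 𝕎 R) ^ u} ⊔ RingHom.ker (WittVector.truncate (p := p) (R := R) r) ⊔
          RingHom.ker (WittVector.map (p := p) (Ideal.Quotient.mk (Ideal.span {(p : R) ^ s})))) =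
      Ideal.span {(p : 𝕎 R) ^ u} := by
  apply le_antisymm
  · intro a ha
    rw [Ideal.mem_iInf] at ha
    have hsol : ∀ m : ℕ, ∃ x : 𝕎 R, (p : 𝕎 R) ^ u * x - a ∈
        RingHom.ker (WittVector.truncate (p := p) (R := R) m) := by
      intro m
      have h1 : ∀ s : ℕ, ∃ z : 𝕎 R, (p : 𝕎 R) ^ u * z - a ∈ N p m s := by
        intro s
        have h2 := Ideal.mem_iInf.mp (ha m) s
        obtain ⟨b, hb, t', ht', rfl⟩ := Submodule.mem_sup.mp h2
        obtain ⟨c, hc, t, ht, rfl⟩ := Submodule.mem_sup.mp hb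
        obtain ⟨z, rfl⟩ := Ideal.mem_span_singleton'.mp hc
        refine ⟨z, ?_⟩
        have : (p : 𝕎 R) ^ u * z - (z * (p : 𝕎 R) ^ u + t + t') = -(t + t') := by ring
        rw [this]
        exact neg_mem (Ideal.add_mem _ (ker_truncate_le_N p m s ht) (ker_map_le_N p m s ht'))
      obtain ⟨x, hx⟩ := exists_solution p hR a m u h1
      exact ⟨x, (WittVector.mem_ker_truncate m _).mpr hx⟩
    choose x hx using hsol
    have hstep : ∀ j, x (j + 1) - x j ∈ RingHom.ker (WittVector.truncate (p := p) (R := R) j) := by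
      intro j
      apply mem_ker_truncate_of_pow_mul p hR _ j u
      have : (p : 𝕎 R) ^ u * (x (j + 1) - x j) =
          ((p : 𝕎 R) ^ u * x (j + 1) - a) - ((p : 𝕎 R) ^ u * x j - a) := by ring
      rw [this]
      exact Ideal.sub_mem _ (ker_truncate_anti p (Nat.le_succ j) (hx (j + 1))) (hx j)
    have hchain : ∀ j j', j ≤ j' → WittVector.truncate j (x j') = WittVector.truncate j (x j) := by
      intro j j' hjj'
      induction j', hjj' using Nat.le_induction with
      | base => rfl
      | succ j' hjj' ih =>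
        rw [← ih, ← sub_eq_zero, ← map_sub, ← RingHom.mem_ker]
        exact ker_truncate_anti p hjj' (hstep j')
    let X : 𝕎 R := WittVector.mk p (fun c => (x (c + 1)).coeff c)
    have hX : ∀ m, WittVector.truncate m X = WittVector.truncate m (x m) := by
      intro m
      ext i
      rw [WittVector.coeff_truncate, WittVector.coeff_truncate]
      show (x (i.val + 1)).coeff i.val = _
      have h1 := hchain (i.val + 1) m (by have := i.2; omega)
      have h2 := congrArg (fun z => TruncatedWittVector.coeff ⟨i.val, Nat.lt_succ_self _⟩ z) h1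
      simp only [WittVector.coeff_truncate] at h2
      exact h2.symm
    have hzero : (p : 𝕎 R) ^ u * X - a = 0 := by
      have h1 : (p : 𝕎 R) ^ u * X - a ∈
          ⨅ i : ℕ, RingHom.ker (WittVector.truncate (p := p) (R := R) i) := by
        rw [Ideal.mem_iInf]
        intro m
        rw [RingHom.mem_ker, map_sub, map_mul, hX m, ← map_mul, ← map_sub, ← RingHom.mem_ker]
        exact hx m
      rw [TruncatedWittVector.iInf_ker_truncate] at h1
      exact h1
    rw [Ideal.mem_span_singleton']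
    exact ⟨X, by rw [mul_comm]; exact sub_eq_zero.mp hzero⟩
  · exact le_iInf fun r => le_iInf fun s => le_sup_of_le_left le_sup_left

end Groth.Agent.Lib.Helper22.WittPowClosed
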