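import Mathlib
import Groth.Agent.Lib.Helper22.WittShift
import Groth.Agent.Lib.Helper22.WittTop

/-! `p ∣ [p^p]` in `W(R)` (helper22). -/

set_option autoImplicit false
noncomputable section
namespace Groth.Agent.Lib.Helper22.WittTeichP
open WittVector

theorem p_dvd_teichmuller_pow (p : ℕ) [hp : Fact p.Prime] {R : Type*} [CommRing R] :
    (p : WittVector p R) ∣ WittVector.teichmuller p ((p : R) ^ p) := by
  rw [map_pow]
  have hp0 : ((p : WittVector p R)).coeff 0 = (p : R) := by
    have := Groth.Agent.Lib.Helper22.WittTop.natCast_pow_coeff_zero (p := p) (R := R) 1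
    simpa using this
  have h1 := Groth.Agent.Lib.Helper22.WittShift.eq_teich_add (p : WittVector p R)
  rw [hp0] at h1
  have h2 : teichmuller p (p : R) = (p : WittVector p R) - verschiebung ((p : WittVector p R).shift 1) := by
    rw [eq_sub_iff_add_eq]; exact h1.symm
  rw [h2, ← Ideal.mem_span_singleton, ← Ideal.Quotient.eq_zero_iff_mem, map_pow, map_sub]
  have h3 : Ideal.Quotient.mk (Ideal.span {(p : WittVector p R)}) (p : WittVector p R) = 0 :=
    Ideal.Quotient.eq_zero_iff_mem.mpr (Ideal.mem_span_singleton_self _)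
  rw [h3, zero_sub, neg_pow, ← map_pow]
  have h4 : verschiebung ((p : WittVector p R).shift 1) ^ p ∈ Ideal.span {(p : WittVector p R)} := by
    have h5 : ∀ (w : WittVector p R) (n : ℕ), 2 ≤ n →
        verschiebung w ^ n ∈ Ideal.span {(p : WittVector p R)} := by
      intro w n hn
      obtain ⟨k, rfl⟩ : ∃ k, n = 2 + k := ⟨n - 2, by omega⟩
      rw [pow_add, pow_two, Groth.Agent.Lib.Helper22.WittTop.verschiebung_mul_verschiebung]
      exact Ideal.mul_mem_right _ _ (Ideal.mul_mem_right _ _ (Ideal.mem_span_singleton_self _))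
    exact h5 _ p hp.out.two_le
  rw [Ideal.Quotient.eq_zero_iff_mem.mpr h4, mul_zero]

end Groth.Agent.Lib.Helper22.WittTeichP
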